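import Mathlib
import Groth.Agent.Lib.Helper14.AlgSpQC
import Groth.Agent.Lib.Helper14.AlgSpSect
import Groth.Agent.Lib.Helper14.AlgSpRepTo

set_option autoImplicit false
universe u
open CategoryTheory CategoryTheory.Limits AlgebraicGeometry Opposite Topology

namespace Groth.Agent.Lib.Helper8.AlgSpOpen

open AlgSp Groth.Agent.Lib.Helper14.AS

variable {S : Scheme.{u}}

/-- A morphism of sheaves representable by isomorphisms is an isomorphism. -/
theorem isIso_of_repWith_iso {F G : Sp S} (f : F ⟶ G)
    (hf : RepWith (MorphismProperty.isomorphisms Scheme.{u}) f) : IsIso f := by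
  obtain ⟨hrep, hP⟩ := (repWith_iff _ f).mp hf
  have key : ∀ T : Over S, Function.Bijective (f.hom.app (op T)) := by
    intro T
    constructor
    · intro y y' hyy'
      set g : (yon S).obj T ⟶ G := yEquiv.symm y ≫ f with hg
      have hg' : yEquiv.symm y' ≫ f = g := by
        rw [hg, yEquiv_symm_comp, yEquiv_symm_comp, hyy']
      obtain ⟨V, snd, fst, sq⟩ := hrep g
      have h1 : IsIso snd.left := hP g fst snd sq
      have h2 : IsIso snd := by
        have : IsIso ((Over.forget S).map snd) := h1
        exact isIso_of_reflects_iso snd (Over.forget S)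
      have h3 : IsIso ((yon S).map snd) := inferInstance
      have hl : sq.lift (yEquiv.symm y) (𝟙 _) (by rw [Category.id_comp]) =
          sq.lift (yEquiv.symm y') (𝟙 _) (by rw [Category.id_comp, hg']) := by
        rw [← cancel_mono ((yon S).map snd), sq.lift_snd, sq.lift_snd]
      have := congrArg (· ≫ fst) hl
      simp only [sq.lift_fst] at this
      exact yEquiv.symm.injective this
    · intro x
      set g : (yon S).obj T ⟶ G := yEquiv.symm x with hg
      obtain ⟨V, snd, fst, sq⟩ := hrep g
      have h1 : IsIso snd.left := hP g fst snd sq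
      have h2 : IsIso snd := by
        have : IsIso ((Over.forget S).map snd) := h1
        exact isIso_of_reflects_iso snd (Over.forget S)
      have h3 : IsIso ((yon S).map snd) := inferInstance
      refine ⟨yEquiv (inv ((yon S).map snd) ≫ fst), ?_⟩
      rw [← yEquiv_comp, Category.assoc, sq.w, IsIso.inv_hom_id_assoc, hg, Equiv.apply_symm_apply]
  have h1 : IsIso f.hom := by
    have : ∀ X, IsIso (f.hom.app X) := fun X => by
      rw [isIso_iff_bijective]
      exact key X.unop
    exact NatIso.isIso_of_isIso_app f.hom
  have : IsIso ((sheafToPresheaf (AlgSp.J S) (Type (u + 1))).map f) := h1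
  exact isIso_of_reflects_iso f (sheafToPresheaf (AlgSp.J S) (Type (u + 1)))

theorem repWith_iso_of_openImmersion_of_surjective {F G : Sp S} (f : F ⟶ G)
    (h1 : RepWith @IsOpenImmersion f) (h2 : RepWith @Surjective f) :
    RepWith (MorphismProperty.isomorphisms Scheme.{u}) f := by
  obtain ⟨hrep, hP1⟩ := (repWith_iff _ f).mp h1
  obtain ⟨_, hP2⟩ := (repWith_iff _ f).mp h2
  refine (repWith_iff _ f).mpr ⟨hrep, fun U V g fst snd sq => ?_⟩
  exact (isIso_iff_isOpenImmersion_and_surjective snd.left).mpr ⟨hP1 g fst snd sq, hP2 g fst snd sq⟩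

/-- A representable open immersion which is surjective on points is an isomorphism. -/
theorem isIso_of_openImmersion_of_isSurjectiveMor {F G : Sp S} (f : F ⟶ G)
    (h1 : RepWith @IsOpenImmersion f) (h2 : Function.Surjective (Points.map f)) : IsIso f :=
  isIso_of_repWith_iso f (repWith_iso_of_openImmersion_of_surjective f h1
    (repWith_surjective_of_isSurjectiveMor ((repWith_iff _ f).mp h1).1 h2))

/-- factorization through an open subspace. -/
theorem exists_factor_of_range_subset {X X' Y : Sp S} (j : X' ⟶ X)
    (hj : RepWith @IsOpenImmersion j) (f : Y ⟶ X)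
    (h : Set.range (Points.map f) ⊆ Set.range (Points.map j)) : ∃ g : Y ⟶ X', g ≫ j = f := by
  have sq : IsPullback (pullback.fst f j) (pullback.snd f j) f j := IsPullback.of_hasPullback f j
  have h1 : RepWith @IsOpenImmersion (pullback.fst f j) :=
    repWith_of_isPullback _ sq.flip hj
  have h2 : Function.Surjective (Points.map (pullback.fst f j)) := by
    intro y
    obtain ⟨x', hx'⟩ := h ⟨y, rfl⟩
    obtain ⟨z, hz1, -⟩ := points_exists_of_isPullback sq y x' hx'.symm
    exact ⟨z, hz1⟩
  have : IsIso (pullback.fst f j) := isIso_of_openImmersion_of_isSurjectiveMor _ h1 h2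
  refine ⟨inv (pullback.fst f j) ≫ pullback.snd f j, ?_⟩
  rw [Category.assoc, ← pullback.condition, IsIso.inv_hom_id_assoc]

end Groth.Agent.Lib.Helper8.AlgSpOpen
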