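import Mathlib
import Groth.Agent.Lib.Helper8.AlgSpOpen

set_option autoImplicit false
universe u
open CategoryTheory CategoryTheory.Limits AlgebraicGeometry Opposite Topology

namespace Groth.Agent.Lib.Helper8.AlgSpOpenSub

open AlgSp Groth.Agent.Lib.Helper14.AS

variable {S : Scheme.{u}}

theorem yEquiv_symm_map {F : Sp S} {T T' : Over S} (φ : T' ⟶ T) (x : F.obj.obj (op T)) :
    yEquiv.symm (F.obj.map φ.op x) = (yon S).map φ ≫ yEquiv.symm x :=
  ((AlgSp.J S).uliftYonedaEquiv_symm_naturality_left φ F x).symm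

/-- the subfunctor of sections of `X` all of whose points lie in `W`. -/
def subfunctor (X : Sp S) (W : Set (Points X)) : Subfunctor X.obj where
  obj T := {x | ∀ t : T.unop.left, Points.ofPt (yEquiv.symm x) t ∈ W}
  map {T T'} φ x hx t' := by
    have h1 : yEquiv.symm (X.obj.map φ x) = (yon S).map φ.unop ≫ yEquiv.symm x :=
      yEquiv_symm_map φ.unop x
    change Points.ofPt (yEquiv.symm (X.obj.map φ x)) t' ∈ W
    rw [h1, ofPt_yon_map_comp]
    exact hx _

theorem mem_subfunctor (X : Sp S) (W : Set (Points X)) {T : Over S} (x : X.obj.obj (op T)) :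
    x ∈ (subfunctor X W).obj (op T) ↔ ∀ t : T.left, Points.ofPt (yEquiv.symm x) t ∈ W := Iff.rfl

/-- a covering sieve for the fppf topology on `Over S` is jointly surjective. -/
theorem exists_mem_range_of_mem_J {U : Over S} (R : Sieve U) (hR : R ∈ AlgSp.J S U) (x : U.left) :
    ∃ (V : Over S) (g : V ⟶ U), R g ∧ x ∈ Set.range g.left := by
  obtain ⟨R', hR', hle⟩ := (mem_J_iff R).mp hR
  rw [Precoverage.mem_comap_iff] at hR'
  have hJS : Scheme.JointlySurjective Scheme.fppfPrecoverage.{u} := by
    unfold Scheme.fppfPrecoverage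
    infer_instance
  obtain ⟨Y, g, hg, hx⟩ := Scheme.JointlySurjective.exists_eq (K := Scheme.fppfPrecoverage) _ hR' x
  obtain ⟨hg'⟩ := hg
  exact ⟨_, _, hle _ _ hg', hx⟩

theorem isSheaf_subfunctor (X : Sp S) (W : Set (Points X)) :
    Presheaf.IsSheaf (AlgSp.J S) (subfunctor X W).toFunctor := by
  rw [isSheaf_iff_isSheaf_of_type]
  rw [Subfunctor.isSheaf_iff _ ((isSheaf_iff_isSheaf_of_type _ _).mp X.property)]
  intro T x hx t
  obtain ⟨V, g, hg, v, rfl⟩ := exists_mem_range_of_mem_J _ hx t
  have h1 : X.obj.map g.op x ∈ (subfunctor X W).obj (op V) := hg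
  have h2 := h1 v
  rw [yEquiv_symm_map, ofPt_yon_map_comp] at h2
  exact h2

/-- the open subsheaf of `X` attached to a set of points. -/
def subSp (X : Sp S) (W : Set (Points X)) : Sp S :=
  ⟨(subfunctor X W).toFunctor, isSheaf_subfunctor X W⟩

def subSpι (X : Sp S) (W : Set (Points X)) : subSp X W ⟶ X := ⟨(subfunctor X W).ι⟩

instance mono_subSpι (X : Sp S) (W : Set (Points X)) : Mono (subSpι X W) := by
  have : Mono (subSpι X W).hom := inferInstanceAs (Mono (subfunctor X W).ι)
  exact Sheaf.Hom.mono_of_presheaf_mono _ _ _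

theorem subSpι_app (X : Sp S) (W : Set (Points X)) (T : Over S)
    (a : (subSp X W).obj.obj (op T)) : (subSpι X W).hom.app (op T) a = a.1 := rfl

variable (X : Sp S) (W : Set (Points X)) (hW : IsOpen W)

/-- the open of `T` where `g : h_T ⟶ X` lands in `W`. -/
def preimageOpen {T : Over S} (g : (yon S).obj T ⟶ X) : T.left.Opens :=
  ⟨Points.ofPt g ⁻¹' W, Points.isOpen_iff.mp hW T g⟩

theorem mem_preimageOpen {T : Over S} (g : (yon S).obj T ⟶ X) (t : T.left) :
    t ∈ preimageOpen X W hW g ↔ Points.ofPt g t ∈ W := Iff.rfl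

theorem yEquiv_yon_map_comp {F : Sp S} {T T' : Over S} (φ : T' ⟶ T) (g : (yon S).obj T ⟶ F) :
    yEquiv ((yon S).map φ ≫ g) = F.obj.map φ.op (yEquiv g) :=
  ((AlgSp.J S).uliftYonedaEquiv_naturality g φ).symm

/-- the restriction of `g` to the open where it lands in `W`, as a section of `subSp`. -/
noncomputable def restrictSection {T : Over S} (g : (yon S).obj T ⟶ X) :
    (subSp X W).obj.obj (op (openSub T (preimageOpen X W hW g))) :=
  ⟨X.obj.map (openSubι T (preimageOpen X W hW g)).op (yEquiv g), by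
    intro t'
    rw [yEquiv_symm_map, Equiv.symm_apply_apply, ofPt_yon_map_comp]
    exact t'.2⟩

noncomputable def fstMap {T : Over S} (g : (yon S).obj T ⟶ X) :
    (yon S).obj (openSub T (preimageOpen X W hW g)) ⟶ subSp X W :=
  yEquiv.symm (restrictSection X W hW g)

theorem fstMap_comp {T : Over S} (g : (yon S).obj T ⟶ X) :
    fstMap X W hW g ≫ subSpι X W = (yon S).map (openSubι T (preimageOpen X W hW g)) ≫ g := by
  apply yEquiv.injective
  rw [yEquiv_comp, fstMap, Equiv.apply_symm_apply, yEquiv_yon_map_comp]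
  rfl

theorem isPullback_fstMap {T : Over S} (g : (yon S).obj T ⟶ X) :
    IsPullback (fstMap X W hW g) ((yon S).map (openSubι T (preimageOpen X W hW g)))
      (subSpι X W) g := by
  rw [isPullback_iff_yon]
  refine ⟨fstMap_comp X W hW g, ?_⟩
  intro T'' a b hab
  obtain ⟨ψ, rfl⟩ := (yon S).map_surjective b
  -- ψ lands in the open
  have hψ : Set.range ψ.left ⊆ Set.range (preimageOpen X W hW g).ι := by
    rintro _ ⟨t'', rfl⟩
    rw [Scheme.Opens.range_ι]
    change Points.ofPt g (ψ.left t'') ∈ W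
    rw [← ofPt_yon_map_comp, ← hab]
    have h1 := (yEquiv a).2 t''
    have h2 : yEquiv.symm ((yEquiv a).1) = a ≫ subSpι X W := by
      apply yEquiv.injective
      rw [Equiv.apply_symm_apply, yEquiv_comp]
      rfl
    rw [h2] at h1
    exact h1
  let l : T''.left ⟶ (preimageOpen X W hW g).toScheme :=
    IsOpenImmersion.lift (preimageOpen X W hW g).ι ψ.left hψ
  have hl : l ≫ (preimageOpen X W hW g).ι = ψ.left := IsOpenImmersion.lift_fac _ _ _
  let ζ : T'' ⟶ openSub T (preimageOpen X W hW g) := Over.homMk l (by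
    change l ≫ (preimageOpen X W hW g).ι ≫ T.hom = T''.hom
    rw [reassoc_of% hl]
    exact Over.w ψ)
  have hζ : ζ ≫ openSubι T (preimageOpen X W hW g) = ψ := Over.OverMorphism.ext hl
  refine ⟨(yon S).map ζ, ⟨?_, ?_⟩, ?_⟩
  · rw [← cancel_mono (subSpι X W), Category.assoc, fstMap_comp, ← Category.assoc,
      ← Functor.map_comp, hζ, hab]
  · rw [← Functor.map_comp, hζ]
  · rintro z ⟨-, hz⟩
    obtain ⟨ζ', rfl⟩ := (yon S).map_surjective z
    rw [← Functor.map_comp] at hz
    have := (yon S).map_injective hz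
    congr 1
    apply Over.OverMorphism.ext
    have h3 := congrArg (fun f => f.left) this
    have h4 := congrArg (fun f => f.left) hζ
    have h5 : ζ'.left ≫ (preimageOpen X W hW g).ι = ζ.left ≫ (preimageOpen X W hW g).ι :=
      h3.trans h4.symm
    exact (cancel_mono (preimageOpen X W hW g).ι).mp h5

include hW in
theorem repWith_openImmersion_subSpι : RepWith @IsOpenImmersion (subSpι X W) := by
  apply MorphismProperty.relative.of_exists
  intro T g
  exact ⟨_, fstMap X W hW g, openSubι T (preimageOpen X W hW g), isPullback_fstMap X W hW g,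
    inferInstanceAs (IsOpenImmersion (openSubι T (preimageOpen X W hW g)).left)⟩

theorem mk_eq_ofPt_yEquiv_symm {F : Sp S} (p : FieldPt F) :
    Points.mk p = Points.ofPt (yEquiv.symm p.val) (IsLocalRing.closedPoint p.K) := by
  have h := mk_app_eq_ofPt (yEquiv.symm p.val) (𝟙 (Over.mk p.str))
  have h2 : (yEquiv.symm p.val).hom.app (op (Over.mk p.str)) ⟨𝟙 _⟩ = p.val := by
    rw [← (AlgSp.J S).uliftYonedaEquiv_apply, Equiv.apply_symm_apply]
  rw [h2] at h
  exact h

include hW in
theorem range_map_subSpι : Set.range (Points.map (subSpι X W)) = W := by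
  apply Set.Subset.antisymm
  · rintro _ ⟨x', rfl⟩
    induction x' using Points.ind with
    | h p =>
      rw [Points.map_mk, mk_eq_ofPt_yEquiv_symm]
      exact p.val.2 _
  · intro w hw
    obtain ⟨T, g, t, rfl⟩ := exists_ofPt_eq w
    let t' : (preimageOpen X W hW g).toScheme := ⟨t, hw⟩
    refine ⟨Points.ofPt (fstMap X W hW g) t', ?_⟩
    rw [Points.map_ofPt, fstMap_comp, ofPt_yon_map_comp]
    rfl

include hW in
theorem isAlgSpace_subSp (hX : IsAlgSpace X) : IsAlgSpace (subSp X W) :=
  isAlgSpace_of_representable_to hX (subSpι X W)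
    ((repWith_iff _ _).mp (repWith_openImmersion_subSpι X W hW)).1

/-- existence of the open subspace attached to an open set of points. -/
theorem exists_openSubspace (X : Space S) (W : Set (Points X.obj)) (hW : IsOpen W) :
    ∃ (X' : Space S) (j : X' ⟶ X),
      RepWith @IsOpenImmersion j.hom ∧ Set.range (Points.map j.hom) = W :=
  ⟨⟨subSp X.obj W, isAlgSpace_subSp X.obj W hW X.property⟩, ObjectProperty.homMk (subSpι X.obj W),
    repWith_openImmersion_subSpι X.obj W hW, range_map_subSpι X.obj W hW⟩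

end Groth.Agent.Lib.Helper8.AlgSpOpenSub
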