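import Mathlib
import Groth.Agent.Lib.Helper8.AlgSpOpenSub

set_option autoImplicit false
universe u
open CategoryTheory CategoryTheory.Limits AlgebraicGeometry Topology TopologicalSpace
open AlgSp

namespace Groth.Agent.Lib.Helper8.AlgSpPres
open Groth.Agent.Lib.Helper14.AS Groth.Agent.Lib.Helper8.AlgSpOpen

variable {S : Scheme.{u}}

theorem openImmersion_le_immersion :
    (@IsOpenImmersion : MorphismProperty Scheme.{u}) ≤ @IsImmersion :=
  fun _ _ _ h => by have := h; infer_instance

/-- a monomorphism of sheaves is injective on points. -/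
theorem points_map_injective_of_mono {F G : Sp S} (j : F ⟶ G) [Mono j] :
    Function.Injective (Points.map j) := by
  intro x x' h
  have sq : IsPullback (𝟙 F) (𝟙 F) j j := IsKernelPair.id_of_mono j
  obtain ⟨z, h1, h2⟩ := points_exists_of_isPullback sq x x' h
  rw [Points.map_id] at h1 h2
  rw [← h1, ← h2]

theorem range_points_map_yon {F : Sp S} {U : Over S} (a : (yon S).obj U ⟶ F) :
    Set.range (Points.map a) = Set.range (Points.ofPt a) := by
  rw [ofPt_eq_comp, Set.range_comp, (Points.schemeHomeo U).surjective.range_eq, Set.image_univ]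

/-- a pullback square `h_R = h_U ×_F h_U` gives an equivalence relation on `U`. -/
theorem isEqvRel_of_isPullback {F : Sp S} {R U : Over S} (s t : R ⟶ U) (a : (yon S).obj U ⟶ F)
    (sq : IsPullback ((yon S).map t) ((yon S).map s) a a) : IsEqvRel s t := by
  have key : ∀ (T : Over S) (x y : T ⟶ U),
      (∃ r : T ⟶ R, r ≫ t = x ∧ r ≫ s = y) ↔ (yon S).map x ≫ a = (yon S).map y ≫ a := by
    intro T x y
    constructor
    · rintro ⟨r, rfl, rfl⟩
      rw [Functor.map_comp, Functor.map_comp, Category.assoc, Category.assoc, sq.w]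
    · intro h
      obtain ⟨r, hr⟩ := (yon S).map_surjective (sq.lift _ _ h)
      refine ⟨r, ?_, ?_⟩
      · apply (yon S).map_injective
        rw [Functor.map_comp, hr, sq.lift_fst]
      · apply (yon S).map_injective
        rw [Functor.map_comp, hr, sq.lift_snd]
  constructor
  · intro T r r' h1 h2
    apply (yon S).map_injective
    apply sq.hom_ext
    · rw [← Functor.map_comp, ← Functor.map_comp, h1]
    · rw [← Functor.map_comp, ← Functor.map_comp, h2]
  · intro T
    refine ⟨fun x => (key T x x).mpr rfl, fun {x y} h => (key T y x).mpr ((key T x y).mp h).symm,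
      fun {x y z} h1 h2 => (key T x z).mpr (((key T x y).mp h1).trans ((key T y z).mp h2))⟩

theorem isEtaleEqvRel_of_isPullback {F : Sp S} {R U : Over S} (s t : R ⟶ U)
    (a : (yon S).obj U ⟶ F) (ha : RepWith @Etale a)
    (sq : IsPullback ((yon S).map t) ((yon S).map s) a a) : IsEtaleEqvRel s t where
  toIsEqvRel := isEqvRel_of_isPullback s t a sq
  etale_left := ((repWith_iff _ a).mp ha).2 a ((yon S).map t) s sq
  etale_right := ((repWith_iff _ a).mp ha).2 a ((yon S).map s) t sq.flip

/-- S10196 at the level of sheaves. -/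
theorem exists_factor_presentation {X X' : Sp S} {U : Over S}
    (a : (yon S).obj U ⟶ X) (ha : RepWith @Etale a)
    (j : X' ⟶ X) (hj : RepWith @IsOpenImmersion j)
    (himage : Set.range (Points.map j) = Set.range (Points.ofPt a)) :
    ∃ a' : (yon S).obj U ⟶ X', a' ≫ j = a ∧ RepWith @Etale a' ∧ RepWith @Surjective a' ∧
      ∀ (R : Over S) (s t : R ⟶ U), IsPullback ((yon S).map t) ((yon S).map s) a a →
        IsPresentation s t a' := by
  have hjim : RepWith @IsImmersion j := repWith_mono openImmersion_le_immersion hj
  have hjmono : Mono j := mono_of_repWith_mono (repWith_mono immersion_le_mono hjim)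
  obtain ⟨a', ha'⟩ := exists_factor_of_range_subset j hj a (by
    rw [range_points_map_yon, himage])
  have hae : RepWith @Etale a' := repWith_of_comp_repWith_immersion _ ha hjim ha'
  have has : RepWith @Surjective a' := by
    apply repWith_surjective_of_isSurjectiveMor ((repWith_iff _ a').mp hae).1
    intro x'
    have h1 : Points.map j x' ∈ Set.range (Points.ofPt a) := by
      rw [← himage]; exact ⟨x', rfl⟩
    obtain ⟨u, hu⟩ := h1
    refine ⟨Points.ofScheme U u, ?_⟩
    apply points_map_injective_of_mono j
    rw [← Points.map_comp, ha', ← hu, Points.ofPt_eq_map_ofScheme]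
  refine ⟨a', ha', hae, has, fun R s t sq => ?_⟩
  have sq' : IsPullback ((yon S).map t) ((yon S).map s) a' a' := by
    apply isPullback_of_comp_mono j
    rw [ha']
    exact sq
  exact ⟨isEtaleEqvRel_of_isPullback s t a ha sq, hae, has, sq'⟩

end Groth.Agent.Lib.Helper8.AlgSpPres
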