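import Mathlib
set_option backward.isDefEq.respectTransparency.types false
set_option autoImplicit false
universe u v
open TensorProduct

namespace Groth.Agent.Lib.Helper8.FlatLoc

/-- Relative localization preserves flatness over the base: `M` flat over `R`, `M'` a
localization of `M` at a submonoid of the `R`-algebra `A`; then `M'` is flat over `R`. -/
theorem flat_of_isLocalizedModule {R A M M' : Type*} [CommRing R] [CommRing A] [Algebra R A]
    [AddCommGroup M] [Module R M] [Module A M] [IsScalarTower R A M]
    [AddCommGroup M'] [Module R M'] [Module A M'] [IsScalarTower R A M']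
    (T : Submonoid A) (g : M →ₗ[A] M') [IsLocalizedModule T g] [Module.Flat R M] :
    Module.Flat R M' := by
  rw [Module.Flat.iff_lTensor_injectiveₛ]
  intro P _ _ N
  have hM := (Module.Flat.iff_lTensor_injectiveₛ (R := R) (M := M)).mp inferInstance (P := P) N
  have key := IsLocalizedModule.map_lTensor (R := R) (A := A) (S := T) (f := N.subtype) (g := g)
  have h1 : Function.Injective (AlgebraTensorModule.lTensor A M' (N.subtype : N →ₗ[R] P)) := by
    rw [← key]
    apply IsLocalizedModule.map_injective
    exact hM
  exact h1

/-- Flatness over the base can be checked on localizations at the maximal ideals of an algebra. -/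
theorem flat_of_forall_maximal {R S M : Type u} [CommRing R] [CommRing S] [Algebra R S]
    [AddCommGroup M] [Module R M] [Module S M] [IsScalarTower R S M]
    (H : ∀ (P : Ideal S) [P.IsMaximal], ∃ (M' : Type u) (_ : AddCommGroup M') (_ : Module R M')
      (_ : Module S M') (_ : IsScalarTower R S M') (g : M →ₗ[S] M'),
      IsLocalizedModule P.primeCompl g ∧ Module.Flat R M') : Module.Flat R M := by
  refine Module.flat_of_isLocalized_maximal S M (fun P _ => LocalizedModule P.primeCompl M)
    (fun P _ => LocalizedModule.mkLinearMap P.primeCompl M) ?_
  intro P hP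
  obtain ⟨M', _, _, _, _, g, hg, hflat⟩ := H P
  let e : LocalizedModule P.primeCompl M ≃ₗ[S] M' :=
    IsLocalizedModule.linearEquiv P.primeCompl (LocalizedModule.mkLinearMap P.primeCompl M) g
  exact Module.Flat.of_linearEquiv (e.restrictScalars R)

end Groth.Agent.Lib.Helper8.FlatLoc
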