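import Groth.Prelude.Def_FlatMod2
import Groth.Agent.Lib.Helper8.FlatLoc
import Groth.Agent.Lib.Helper29.QCohBasic
import Mathlib
set_option backward.isDefEq.respectTransparency.types false
set_option autoImplicit false
set_option linter.style.haveILetI false
universe u
open CategoryTheory CategoryTheory.Limits AlgebraicGeometry Opposite TopologicalSpace

namespace Groth.Agent.Lib.Helper8.FlatAffine
open Groth.Agent.Lib.Helper29.QCoh Groth.Agent.Lib.Helper8.FlatLoc

variable {X S : Scheme.{u}} (f : X ⟶ S) (F : X.Modules)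

lemma germ_appLE {U : X.Opens} {V : S.Opens} (hUV : U ≤ f ⁻¹ᵁ V) (x : X) (hx : x ∈ U)
    (r : Γ(S, V)) :
    X.presheaf.germ U x hx ((f.appLE V U hUV).hom r) =
      (f.stalkMap x).hom (S.presheaf.germ V (f x) (hUV hx) r) := by
  have h1 : (f.stalkMap x).hom (S.presheaf.germ V (f x) (hUV hx) r) =
      X.presheaf.germ (f ⁻¹ᵁ V) x (hUV hx) (f.app V r) := f.germ_stalkMap_apply V x (hUV hx) r
  rw [h1]
  have h2 : (f.appLE V U hUV).hom r = (X.presheaf.map (homOfLE hUV).op).hom ((f.app V).hom r) := rfl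
  rw [h2]
  exact X.presheaf.germ_res_apply (homOfLE hUV) x hx _

/-- **Lemma A**: flatness of the sections over an affine pair gives flatness of the stalk. -/
theorem isFlatOverAt_of_flat_sections [F.IsQuasicoherent] {U : X.Opens} {V : S.Opens}
    (hU : IsAffineOpen U) (hV : IsAffineOpen V) (hUV : U ≤ f ⁻¹ᵁ V) (x : X) (hx : x ∈ U)
    (h : @Module.Flat Γ(S, V) Γ(F, U) _ _ (Module.compHom _ (f.appLE V U hUV).hom)) :
    FlatMod.IsFlatOverAt f F x := by
  letI algAB : Algebra Γ(S, V) Γ(X, U) := (f.appLE V U hUV).hom.toAlgebra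
  letI mAM : Module Γ(S, V) Γ(F, U) := Module.compHom _ (f.appLE V U hUV).hom
  haveI : IsScalarTower Γ(S, V) Γ(X, U) Γ(F, U) :=
    IsScalarTower.of_algebraMap_smul (fun r m => rfl)
  letI mBx : Module Γ(X, U) (F.presheaf.stalk x) := stalkModule F U x hx
  letI mAx : Module Γ(S, V) (F.presheaf.stalk x) :=
    Module.compHom _ ((X.presheaf.germ U x hx).hom.comp (f.appLE V U hUV).hom)
  haveI : IsScalarTower Γ(S, V) Γ(X, U) (F.presheaf.stalk x) :=
    IsScalarTower.of_algebraMap_smul (fun r m => rfl)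
  haveI := isLocalizedModule_germ F hU x hx
  haveI : Module.Flat Γ(S, V) Γ(F, U) := h
  have h1 : Module.Flat Γ(S, V) (F.presheaf.stalk x) :=
    flat_of_isLocalizedModule (hU.primeIdealOf ⟨x, hx⟩).asIdeal.primeCompl (germₗ F U x hx)
  have hfx : f x ∈ V := hUV hx
  letI algAy : Algebra Γ(S, V) (S.presheaf.stalk (f x)) :=
    TopCat.Presheaf.algebra_section_stalk S.presheaf ⟨f x, hfx⟩
  haveI := hV.isLocalization_stalk ⟨f x, hfx⟩
  letI mAyx := FlatMod.moduleStalkOver f F x
  haveI : IsScalarTower Γ(S, V) (S.presheaf.stalk (f x)) (F.presheaf.stalk x) :=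
    IsScalarTower.of_algebraMap_smul (fun r m => by
      change (f.stalkMap x).hom (S.presheaf.germ V (f x) hfx r) • m =
        X.presheaf.germ U x hx ((f.appLE V U hUV).hom r) • m
      rw [germ_appLE])
  exact (Module.flat_iff_of_isLocalization (S.presheaf.stalk (f x))
    (hV.primeIdealOf ⟨f x, hfx⟩).asIdeal.primeCompl _).mpr h1

/-- **Lemma B**: stalkwise flatness over the base gives flatness of sections over affine pairs. -/
theorem flat_sections_of_isFlatOverAt [F.IsQuasicoherent] {U : X.Opens} {V : S.Opens}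
    (hU : IsAffineOpen U) (hV : IsAffineOpen V) (hUV : U ≤ f ⁻¹ᵁ V)
    (h : ∀ x ∈ U, FlatMod.IsFlatOverAt f F x) :
    @Module.Flat Γ(S, V) Γ(F, U) _ _ (Module.compHom _ (f.appLE V U hUV).hom) := by
  letI algAB : Algebra Γ(S, V) Γ(X, U) := (f.appLE V U hUV).hom.toAlgebra
  letI mAM : Module Γ(S, V) Γ(F, U) := Module.compHom _ (f.appLE V U hUV).hom
  haveI : IsScalarTower Γ(S, V) Γ(X, U) Γ(F, U) :=
    IsScalarTower.of_algebraMap_smul (fun r m => rfl)
  apply flat_of_forall_maximal (S := Γ(X, U))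
  intro P hP
  let y : Spec Γ(X, U) := ⟨P, hP.isPrime⟩
  let x : X := hU.fromSpec y
  have hx : x ∈ U := by
    have : x ∈ Set.range hU.fromSpec := ⟨y, rfl⟩
    rw [hU.range_fromSpec] at this
    exact this
  have hP' : hU.primeIdealOf ⟨x, hx⟩ = y :=
    hU.fromSpec.isOpenEmbedding.injective (hU.fromSpec_primeIdealOf ⟨x, hx⟩)
  letI mBx : Module Γ(X, U) (F.presheaf.stalk x) := stalkModule F U x hx
  letI mAx : Module Γ(S, V) (F.presheaf.stalk x) :=
    Module.compHom _ ((X.presheaf.germ U x hx).hom.comp (f.appLE V U hUV).hom)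
  haveI tower : IsScalarTower Γ(S, V) Γ(X, U) (F.presheaf.stalk x) :=
    IsScalarTower.of_algebraMap_smul (fun r m => rfl)
  refine ⟨F.presheaf.stalk x, inferInstance, mAx, mBx, tower, germₗ F U x hx, ?_, ?_⟩
  · have h1 := isLocalizedModule_germ F hU x hx
    rw [hP'] at h1
    exact h1
  · have hfx : f x ∈ V := hUV hx
    letI algAy : Algebra Γ(S, V) (S.presheaf.stalk (f x)) :=
      TopCat.Presheaf.algebra_section_stalk S.presheaf ⟨f x, hfx⟩
    haveI := hV.isLocalization_stalk ⟨f x, hfx⟩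
    letI mAyx := FlatMod.moduleStalkOver f F x
    haveI : IsScalarTower Γ(S, V) (S.presheaf.stalk (f x)) (F.presheaf.stalk x) :=
      IsScalarTower.of_algebraMap_smul (fun r m => by
        change (f.stalkMap x).hom (S.presheaf.germ V (f x) hfx r) • m =
          X.presheaf.germ U x hx ((f.appLE V U hUV).hom r) • m
        rw [germ_appLE])
    have h2 : Module.Flat (S.presheaf.stalk (f x)) (F.presheaf.stalk x) := h x hx
    exact (Module.flat_iff_of_isLocalization (S.presheaf.stalk (f x))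
      (hV.primeIdealOf ⟨f x, hfx⟩).asIdeal.primeCompl _).mp h2

end Groth.Agent.Lib.Helper8.FlatAffine
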