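import Mathlib.Algebra.Homology.Embedding.CochainComplex
import Mathlib.Algebra.Homology.HomotopyCategory.HomComplex

/-!
# Canonical truncations: degreewise isomorphisms and lifting of homotopies
-/

set_option autoImplicit false

open CategoryTheory Limits

namespace Groth.Agent.Lib.Helper8.TruncIso

section general

variable {ι ι' : Type*} {c : ComplexShape ι} {c' : ComplexShape ι'}
  {C : Type*} [Category C] [HasZeroMorphisms C] [HasZeroObject C]

set_option backward.isDefEq.respectTransparency false in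
lemma isIso_πTruncGE_f (K : HomologicalComplex C c') (e : c.Embedding c') [e.IsTruncGE]
    [∀ i', K.HasHomology i'] {i : ι} {i' : ι'} (hi' : e.f i = i') (hi : ¬ e.BoundaryGE i) :
    IsIso ((K.πTruncGE e).f i') := by
  dsimp [HomologicalComplex.πTruncGE]
  rw [e.isIso_liftExtend_f_iff _ _ hi']
  exact K.isIso_restrictionToTruncGE' e i hi

lemma isIso_ιTruncLE_f (K : HomologicalComplex C c') (e : c.Embedding c') [e.IsTruncLE]
    [∀ i', K.HasHomology i'] {i : ι} {i' : ι'} (hi' : e.f i = i') (hi : ¬ e.BoundaryLE i) :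
    IsIso ((K.ιTruncLE e).f i') := by
  have := isIso_πTruncGE_f K.op e.op hi' (by simpa using hi)
  exact inferInstanceAs (IsIso ((K.op.πTruncGE e.op).f i').unop)

end general

section cochain

variable {C : Type*} [Category C] [Abelian C]

lemma isIso_ιTruncLE_f_of_lt (Z : CochainComplex C ℤ) (n q : ℤ) (hq : q < n) :
    IsIso ((Z.ιTruncLE n).f q) := by
  refine isIso_ιTruncLE_f Z (ComplexShape.embeddingUpIntLE n) (i := (n - q).natAbs) ?_ ?_
  · show n - ((n - q).natAbs : ℤ) = q
    rw [Int.natAbs_of_nonneg (by omega), sub_sub_cancel]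
  · intro h
    rw [ComplexShape.boundaryLE_embeddingUpIntLE_iff, Int.natAbs_eq_zero] at h
    omega

lemma isIso_πTruncGE_f_of_lt (Z : CochainComplex C ℤ) (n q : ℤ) (hq : n < q) :
    IsIso ((Z.πTruncGE n).f q) := by
  refine isIso_πTruncGE_f Z (ComplexShape.embeddingUpIntGE n) (i := (q - n).natAbs) ?_ ?_
  · show n + ((q - n).natAbs : ℤ) = q
    rw [Int.natAbs_of_nonneg (by omega), add_sub_cancel]
  · intro h
    rw [ComplexShape.boundaryGE_embeddingUpIntGE_iff, Int.natAbs_eq_zero] at h
    omega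

open CochainComplex HomComplex in
/-- Homotopies between maps from a complex strictly `≤ n` into `Z.truncLE n` can be detected
after composing with `ιTruncLE`. -/
lemma nonempty_homotopy_of_comp_ιTruncLE (K Z : CochainComplex C ℤ) (n : ℤ) [K.IsStrictlyLE n]
    (g₁ g₂ : K ⟶ Z.truncLE n) (h : Homotopy (g₁ ≫ Z.ιTruncLE n) (g₂ ≫ Z.ιTruncLE n)) :
    Nonempty (Homotopy g₁ g₂) := by
  obtain ⟨z, hz⟩ := Cochain.equivHomotopy _ _ h
  let z' : Cochain K (Z.truncLE n) (-1) := Cochain.mk (fun p q hpq =>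
    if hq : q < n then
      haveI := isIso_ιTruncLE_f_of_lt Z n q hq
      z.v p q hpq ≫ inv ((Z.ιTruncLE n).f q)
    else 0)
  have hz' : z'.comp (Cochain.ofHom (Z.ιTruncLE n)) (add_zero _) = z := by
    ext p q hpq
    rw [Cochain.comp_zero_cochain_v, Cochain.ofHom_v]
    dsimp [z']
    split_ifs with hq
    · simp
    · exact (K.isZero_of_isStrictlyLE n p (by omega)).eq_of_src _ _
  refine ⟨(Cochain.equivHomotopy _ _).symm ⟨z', ?_⟩⟩
  have inj : ∀ (c₁ c₂ : Cochain K (Z.truncLE n) 0),
      c₁.comp (Cochain.ofHom (Z.ιTruncLE n)) (add_zero 0) =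
        c₂.comp (Cochain.ofHom (Z.ιTruncLE n)) (add_zero 0) → c₁ = c₂ := by
    intro c₁ c₂ hc
    ext p
    have hcv := Cochain.congr_v hc p p (add_zero p)
    rw [Cochain.comp_zero_cochain_v, Cochain.comp_zero_cochain_v, Cochain.ofHom_v] at hcv
    have : Mono ((Z.ιTruncLE n).f p) := by
      dsimp [CochainComplex.ιTruncLE]; infer_instance
    exact (cancel_mono ((Z.ιTruncLE n).f p)).1 hcv
  apply inj
  rw [Cochain.add_comp, ← δ_comp_ofHom, hz', ← Cochain.ofHom_comp, ← Cochain.ofHom_comp]
  exact hz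

end cochain

end Groth.Agent.Lib.Helper8.TruncIso
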