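import Groth.Prelude.Def_CohTop
import Mathlib
set_option backward.isDefEq.respectTransparency.types false
set_option autoImplicit false
universe u
open CategoryTheory CategoryTheory.Limits TopologicalSpace Opposite

namespace Groth.Agent.Lib.Helper8.MVVanish

variable {X : TopCat.{u}}

/-- Mayer–Vietoris vanishing: if `H^n(U ∩ V)`, `H^{n+1}(U)`, `H^{n+1}(V)` vanish, so does
`H^{n+1}(U ∪ V)`. -/
theorem subsingleton_HU_sup (F : CohTop.Ab X) (U V : Opens X) (n : ℕ)
    (h1 : Subsingleton (CohTop.HU F n (U ⊓ V)))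
    (h2 : Subsingleton (CohTop.HU F (n + 1) U))
    (h3 : Subsingleton (CohTop.HU F (n + 1) V)) :
    Subsingleton (CohTop.HU F (n + 1) (U ⊔ V)) := by
  let S := Opens.mayerVietorisSquare U V
  have hex := S.sequence_exact F n (n + 1) rfl
  have h := hex.exact 2
  rw [ShortComplex.ab_exact_iff] at h
  refine ⟨fun x y => ?_⟩
  have key : ∀ z : CohTop.HU F (n + 1) (U ⊔ V), z = 0 := by
    intro z
    have hz : S.toBiprod F (n + 1) z = 0 := by
      rw [S.toBiprod_apply]
      have e1 : (F.cohomologyPresheaf (n + 1)).map S.f₂₄.op z = 0 := Subsingleton.elim (h := h2) _ _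
      have e2 : (F.cohomologyPresheaf (n + 1)).map S.f₃₄.op z = 0 := Subsingleton.elim (h := h3) _ _
      rw [e1, e2]
      exact map_zero _
    obtain ⟨y, hy⟩ := h z hz
    have : y = 0 := Subsingleton.elim (h := h1) _ _
    rw [← hy, this]
    exact map_zero _
  rw [key x, key y]

end Groth.Agent.Lib.Helper8.MVVanish
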