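import Groth.Prelude.Def_AlgGrp
import Mathlib

set_option backward.isDefEq.respectTransparency.types false
set_option autoImplicit false
universe u
open CategoryTheory CategoryTheory.Limits MonoidalCategory CartesianMonoidalCategory MonObj GrpObj AlgebraicGeometry

namespace Groth.Agent.Lib.Helper8.Shear

variable {S : Scheme.{u}}

/-- shear square: `N ⊗ X → X ×_Y X`, `(n,x) ↦ (x, n·x)` is an iso. -/
lemma isPullback_shear {N X Y : Over S} [GrpObj X] [GrpObj Y] (f : X ⟶ Y) [IsMonHom f]
    (i : N ⟶ X) (hN : AlgGrp.IsKernel i f) :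
    IsPullback (snd N X) ((fst N X ≫ i) * snd N X) f f := by
  have hif : i ≫ f = 1 := by rw [hN.w]; rfl
  refine ⟨⟨?_⟩, ⟨PullbackCone.IsLimit.mk _ ?_ ?_ ?_ ?_⟩⟩
  · rw [MonObj.mul_comp, Category.assoc, hif, MonObj.comp_one, _root_.one_mul]
  · intro s
    have h1 : (s.snd * s.fst⁻¹) ≫ f = toUnit s.pt ≫ η[Y] := by
      rw [MonObj.mul_comp, GrpObj.inv_comp, s.condition, mul_inv_cancel]; rfl
    exact lift (hN.lift (s.snd * s.fst⁻¹) (toUnit _) h1) s.fst
  · intro s
    simp
  · intro s
    rw [MonObj.comp_mul, ← Category.assoc, lift_fst, lift_snd, hN.lift_fst]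
    simp
  · intro s m hm1 hm2
    apply CartesianMonoidalCategory.hom_ext
    · rw [lift_fst]
      apply hN.hom_ext
      · rw [hN.lift_fst, ← hm1, ← hm2, MonObj.comp_mul, Category.assoc]
        simp
      · exact toUnit_unique _ _
    · rw [lift_snd, hm1]

lemma isPullback_left {A B C D : Over S} {a : A ⟶ B} {b : A ⟶ C} {c : B ⟶ D} {d : C ⟶ D}
    (h : IsPullback a b c d) : IsPullback a.left b.left c.left d.left :=
  h.map (Over.forget S)

/-- `snd N X` is a base change of `N.hom`. -/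
lemma isPullback_snd (N X : Over S) : IsPullback (snd N X).left (fst N X).left X.hom N.hom :=
  (IsPullback.of_hasPullback N.hom X.hom).flip

lemma isPullback_unit {N X Y : Over S} [GrpObj Y] {f : X ⟶ Y} {i : N ⟶ X}
    (hN : AlgGrp.IsKernel i f) : IsPullback i.left N.hom f.left (η[Y]).left :=
  isPullback_left hN

/-- the unit section of the kernel -/
lemma exists_section {N X Y : Over S} [GrpObj X] [GrpObj Y] (f : X ⟶ Y) [IsMonHom f]
    (i : N ⟶ X) (hN : AlgGrp.IsKernel i f) : ∃ e : S ⟶ N.left, e ≫ N.hom = 𝟙 S := by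
  have h1 : η[X] ≫ f = toUnit (𝟙_ (Over S)) ≫ η[Y] := by
    rw [IsMonHom.one_hom, toUnit_unique (toUnit (𝟙_ (Over S))) (𝟙 _), Category.id_comp]
  refine ⟨(hN.lift η[X] (toUnit _) h1).left, ?_⟩
  exact Over.w (hN.lift η[X] (toUnit _) h1)

/-- a morphism with a surjective section is universally injective -/
lemma universallyInjective_of_section {N T : Scheme.{u}} (h : N ⟶ T) (e : T ⟶ N)
    (he : e ≫ h = 𝟙 T) [Surjective e] : UniversallyInjective h := by
  refine ⟨?_⟩
  intro X' Y' i₁ i₂ f' hpb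
  let e' : Y' ⟶ X' := hpb.lift (𝟙 Y') (i₂ ≫ e)
    (by rw [Category.id_comp, Category.assoc, he, Category.comp_id])
  have he' : e' ≫ f' = 𝟙 Y' := hpb.lift_fst _ _ _
  have he'' : e' ≫ i₁ = i₂ ≫ e := hpb.lift_snd _ _ _
  have hbig : IsPullback (e' ≫ f') i₂ i₂ (e ≫ h) := by
    rw [he, he']; exact IsPullback.id_horiz i₂
  have hleft : IsPullback e' i₂ i₁ e := IsPullback.of_right hbig he'' hpb
  have hs : Surjective e' :=
    MorphismProperty.of_isPullback (P := @Surjective) hleft.flip inferInstance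
  intro x₁ x₂ hx
  obtain ⟨y₁, rfl⟩ := hs.surj x₁
  obtain ⟨y₂, rfl⟩ := hs.surj x₂
  have h1 : ∀ y, f' (e' y) = y := fun y => by
    rw [← Scheme.Hom.comp_apply, he']; rfl
  rw [h1, h1] at hx
  rw [hx]

/-- descent of a property along an isogeny-like hom: enough to check on the kernel. -/
lemma of_kernel {P : MorphismProperty Scheme.{u}} [P.IsStableUnderBaseChange]
    [P.DescendsAlong (@Surjective ⊓ @Flat ⊓ @QuasiCompact)]
    {N X Y : Over S} [GrpObj X] [GrpObj Y] (f : X ⟶ Y) [IsMonHom f]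
    [Flat f.left] [Surjective f.left] [QuasiCompact f.left]
    (i : N ⟶ X) (hN : AlgGrp.IsKernel i f) (h : P N.hom) : P f.left := by
  have h1 : P (snd N X).left := MorphismProperty.of_isPullback (isPullback_snd N X).flip h
  have h2 := isPullback_left (isPullback_shear f i hN)
  exact MorphismProperty.of_isPullback_of_descendsAlong
    (Q := @Surjective ⊓ @Flat ⊓ @QuasiCompact) h2 ⟨⟨inferInstance, inferInstance⟩, inferInstance⟩ h1

lemma kernel_of {P : MorphismProperty Scheme.{u}} [P.IsStableUnderBaseChange]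
    {N X Y : Over S} [GrpObj Y] (f : X ⟶ Y)
    (i : N ⟶ X) (hN : AlgGrp.IsKernel i f) (h : P f.left) : P N.hom :=
  MorphismProperty.of_isPullback (isPullback_unit hN) h

end Groth.Agent.Lib.Helper8.Shear
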