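import Mathlib

set_option backward.isDefEq.respectTransparency.types false
set_option autoImplicit false
set_option linter.unusedSectionVars false
set_option linter.style.haveILetI false

universe u
open MvPolynomial

namespace Groth.Agent.Lib.Helper8.LO1

/-- units lift along surjections with nilpotent kernel -/
theorem isUnit_of_map_of_nilpotent_ker {B C : Type*} [CommRing B] [CommRing C] (q : B →+* C)
    (hq : Function.Surjective q) (hnil : ∀ x ∈ RingHom.ker q, IsNilpotent x) (x : B)
    (hx : IsUnit (q x)) : IsUnit x := by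
  obtain ⟨c, hc⟩ := hx.exists_right_inv
  obtain ⟨y, rfl⟩ := hq c
  have h1 : x * y - 1 ∈ RingHom.ker q := by
    rw [RingHom.mem_ker, map_sub, map_mul, hc, map_one, sub_self]
  have h2 : IsUnit (x * y) := by
    have := (hnil _ h1).isUnit_add_one
    rwa [sub_add_cancel] at this
  exact isUnit_of_mul_isUnit_left h2

theorem exists_lift_standardSmooth {R : Type u} [CommRing R] (I : Ideal R) (hI : I ^ 2 = ⊥)
    (Bbar : Type u) [CommRing Bbar] [Algebra (R ⧸ I) Bbar]
    [Algebra.IsStandardSmooth (R ⧸ I) Bbar] :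
    ∃ (B₁ : Type u) (_ : CommRing B₁) (_ : Algebra R B₁) (q : B₁ →+* Bbar),
      Algebra.IsStandardSmooth R B₁ ∧ Function.Surjective q ∧
      (∀ r, q (algebraMap R B₁ r) = algebraMap (R ⧸ I) Bbar (Ideal.Quotient.mk I r)) ∧
      RingHom.ker q ≤ I.map (algebraMap R B₁) := by
  classical
  obtain ⟨ι, σ, hσfin, hιfin, ⟨P⟩⟩ := (inferInstance : Algebra.IsStandardSmooth (R ⧸ I) Bbar).out
  haveI : Fintype σ := Fintype.ofFinite σ
  let ρ : MvPolynomial ι R →+* MvPolynomial ι (R ⧸ I) := MvPolynomial.map (Ideal.Quotient.mk I)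
  have hρs : Function.Surjective ρ := MvPolynomial.map_surjective _ Ideal.Quotient.mk_surjective
  have hF : ∀ j, ∃ F : MvPolynomial ι R, ρ F = P.relation j := fun j => hρs _
  choose F hF using hF
  set JF : Ideal (MvPolynomial ι R) := Ideal.span (Set.range F) with hJF
  let ev : MvPolynomial ι (R ⧸ I) →ₐ[R ⧸ I] Bbar := aeval P.val
  let q₀ : MvPolynomial ι R →+* Bbar := ev.toRingHom.comp ρ
  have hkerev : RingHom.ker ev = Ideal.span (Set.range P.relation) := by
    rw [P.span_range_relation_eq_ker, Algebra.Generators.ker_eq_ker_aeval_val]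
  have hq₀F : ∀ p ∈ JF, q₀ p = 0 := by
    intro p hp
    refine Submodule.span_induction ?_ ?_ ?_ ?_ hp
    · rintro _ ⟨j, rfl⟩
      change ev (ρ (F j)) = 0
      rw [hF]
      have : P.relation j ∈ RingHom.ker ev := by
        rw [hkerev]; exact Ideal.subset_span ⟨j, rfl⟩
      exact this
    · exact map_zero _
    · intro x y _ _ hx hy
      rw [map_add, hx, hy, add_zero]
    · intro r x _ hx
      rw [smul_eq_mul, map_mul, hx, mul_zero]
  let q : (MvPolynomial ι R ⧸ JF) →+* Bbar := Ideal.Quotient.lift JF q₀ hq₀F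
  have hqmk : ∀ p, q (Ideal.Quotient.mk JF p) = ev (ρ p) := fun p => rfl
  have hqs : Function.Surjective q := by
    intro y
    obtain ⟨p, rfl⟩ := P.aeval_val_surjective y
    obtain ⟨p', rfl⟩ := hρs p
    exact ⟨Ideal.Quotient.mk JF p', rfl⟩
  have hqalg : ∀ r, q (algebraMap R (MvPolynomial ι R ⧸ JF) r) =
      algebraMap (R ⧸ I) Bbar (Ideal.Quotient.mk I r) := by
    intro r
    change q (Ideal.Quotient.mk JF (C r)) = _
    rw [hqmk]
    simp only [ρ, MvPolynomial.map_C, ev, aeval_C]
  have hker : RingHom.ker q ≤ I.map (algebraMap R (MvPolynomial ι R ⧸ JF)) := by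
    intro x hx
    obtain ⟨p, rfl⟩ := Ideal.Quotient.mk_surjective x
    rw [RingHom.mem_ker, hqmk] at hx
    have h1 : ρ p ∈ Ideal.span (Set.range P.relation) := by
      rw [← hkerev]; exact hx
    have h2 : Ideal.span (Set.range P.relation) = JF.map ρ := by
      rw [hJF, Ideal.map_span]
      congr 1
      ext y
      constructor
      · rintro ⟨j, rfl⟩
        exact ⟨F j, ⟨j, rfl⟩, hF j⟩
      · rintro ⟨_, ⟨j, rfl⟩, rfl⟩
        exact ⟨j, (hF j).symm⟩
    rw [h2] at h1
    obtain ⟨p', hp', hpp'⟩ := (Ideal.mem_map_iff_of_surjective ρ hρs).mp h1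
    have h3 : p - p' ∈ RingHom.ker ρ := by
      rw [RingHom.mem_ker, map_sub, hpp', sub_self]
    rw [MvPolynomial.ker_map, Ideal.mk_ker] at h3
    have h4 : Ideal.Quotient.mk JF p = Ideal.Quotient.mk JF (p - p') := by
      rw [map_sub, Ideal.Quotient.eq_zero_iff_mem.mpr hp', sub_zero]
    rw [h4]
    have h5 : Ideal.Quotient.mk JF (p - p') ∈ (I.map (C (σ := ι))).map (Ideal.Quotient.mk JF) :=
      Ideal.mem_map_of_mem _ h3
    rw [Ideal.map_map] at h5
    exact h5
  -- nilpotence of the kernel
  have hnil : ∀ x ∈ RingHom.ker q, IsNilpotent x := by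
    intro x hx
    refine ⟨2, ?_⟩
    have h1 : x ^ 2 ∈ (I.map (algebraMap R (MvPolynomial ι R ⧸ JF))) ^ 2 :=
      Ideal.pow_mem_pow (hker hx) 2
    rw [← Ideal.map_pow, hI, Ideal.map_bot] at h1
    exact h1
  -- the presentation
  let PP : Algebra.PreSubmersivePresentation R (MvPolynomial ι R ⧸ JF) ι σ :=
    Algebra.PreSubmersivePresentation.naive (v := F) P.map P.map_inj
  have hPPalg : ∀ p : MvPolynomial ι R,
      algebraMap PP.Ring (MvPolynomial ι R ⧸ JF) p = Ideal.Quotient.mk JF p := by
    intro p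
    rfl
  have hjac : IsUnit PP.jacobian := by
    apply isUnit_of_map_of_nilpotent_ker q hqs hnil
    rw [Algebra.PreSubmersivePresentation.jacobian_eq_jacobiMatrix_det, hPPalg, hqmk,
      RingHom.map_det]
    have h1 : ρ.mapMatrix PP.jacobiMatrix = P.jacobiMatrix := by
      apply Matrix.ext
      intro i j
      rw [RingHom.mapMatrix_apply, Matrix.map_apply,
        Algebra.PreSubmersivePresentation.jacobiMatrix_apply,
        Algebra.PreSubmersivePresentation.jacobiMatrix_apply]
      change ρ (pderiv (P.map i) (F j)) = _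
      rw [← hF j]
      exact (pderiv_map).symm
    rw [h1]
    have h2 := P.jacobian_isUnit
    rw [Algebra.PreSubmersivePresentation.jacobian_eq_jacobiMatrix_det,
      Algebra.Generators.algebraMap_apply] at h2
    exact h2
  refine ⟨MvPolynomial ι R ⧸ JF, inferInstance, inferInstance, q, ?_, hqs, hqalg, hker⟩
  exact (⟨PP, hjac⟩ : Algebra.SubmersivePresentation R _ ι σ).isStandardSmooth

end Groth.Agent.Lib.Helper8.LO1
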