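import Mathlib

set_option backward.isDefEq.respectTransparency.types false
set_option autoImplicit false
set_option linter.unusedSectionVars false
set_option linter.style.haveILetI false

/-!
# Kähler differentials and formal smoothness of symmetric algebras
-/

namespace Groth.Agent.Lib.Helper8.SymK1

universe u

open TensorProduct KaehlerDifferential

section Deriv

variable {B : Type u} [CommRing B] {P : Type u} [AddCommGroup P] [Module B P]
  {S : Type u} [CommRing S] [Algebra B S] {f : P →ₗ[B] S} (hf : IsSymmetricAlgebra f)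
  {T : Type u} [AddCommGroup T] [Module S T] [Module B T] [IsScalarTower B S T]
  (g : P →ₗ[B] T)

include hf in
/-- the derivation of a symmetric algebra extending a linear map on the module. -/
theorem exists_derivation :
    ∃ d : Derivation B S T, ∀ p : P, d (f p) = g p := by
  letI : Module Sᵐᵒᵖ T := Module.compHom T ((RingHom.id S).fromOpposite mul_comm)
  haveI : IsCentralScalar S T := ⟨fun _ _ => rfl⟩
  let φ : S →ₐ[B] TrivSqZeroExt S T :=
    hf.lift ((TrivSqZeroExt.inlAlgHom B S T).toLinearMap ∘ₗ f +
      (TrivSqZeroExt.inrHom S T).restrictScalars B ∘ₗ g)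
  have hφ : ∀ p, φ (f p) = TrivSqZeroExt.inl (f p) + TrivSqZeroExt.inr (g p) := by
    intro p
    simp [φ]
  have hfst : ∀ s, (φ s).fst = s := by
    intro s
    have : (TrivSqZeroExt.fstHom B S T).comp φ = AlgHom.id B S := by
      apply hf.algHom_ext
      ext p
      simp [hφ]
    exact congrArg (fun F : S →ₐ[B] S => F s) this
  refine ⟨{ toLinearMap := (TrivSqZeroExt.sndHom S T).restrictScalars B ∘ₗ φ.toLinearMap
            map_one_eq_zero' := by simp
            leibniz' := ?_ }, ?_⟩
  · intro a b
    simp only [LinearMap.coe_comp, LinearMap.coe_restrictScalars, Function.comp_apply,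
      AlgHom.toLinearMap_apply, map_mul, TrivSqZeroExt.sndHom_apply, TrivSqZeroExt.snd_mul, hfst]
    rw [op_smul_eq_smul]
  · intro p
    simp [hφ]

include hf in
theorem derivation_ext {d₁ d₂ : Derivation B S T} (h : ∀ p, d₁ (f p) = d₂ (f p)) : d₁ = d₂ := by
  ext s
  induction s using hf.induction with
  | algebraMap r => simp
  | ι p => exact h p
  | mul a b ha hb => simp [ha, hb]
  | add a b ha hb => simp [ha, hb]

include hf in
/-- `Ω[Sym_B(P)/B] ≅ Sym_B(P) ⊗_B P`. -/
theorem nonempty_kaehler_equiv : Nonempty (Ω[S⁄B] ≃ₗ[S] S ⊗[B] P) := by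
  obtain ⟨d, hd⟩ := exists_derivation hf (T := S ⊗[B] P) (TensorProduct.mk B S P 1)
  let h : Ω[S⁄B] →ₗ[S] S ⊗[B] P := d.liftKaehlerDifferential
  let g : S ⊗[B] P →ₗ[S] Ω[S⁄B] := LinearMap.liftBaseChange S ((D B S).toLinearMap ∘ₗ f)
  have hg : ∀ (s : S) (p : P), g (s ⊗ₜ p) = s • D B S (f p) := by
    intro s p
    simp [g]
  have h1 : g.compDer d = D B S := by
    apply derivation_ext hf
    intro p
    show g (d (f p)) = D B S (f p)
    rw [hd]
    simp [hg]
  have h2 : ∀ x, g (h x) = x := by
    intro x
    have : g ∘ₗ h = LinearMap.id := by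
      apply Derivation.liftKaehlerDifferential_unique
      ext s
      show g (h (D B S s)) = D B S s
      have e1 : h (D B S s) = d s := Derivation.liftKaehlerDifferential_comp_D d s
      rw [e1]
      exact congrArg (fun e : Derivation B S Ω[S⁄B] => e s) h1
    exact congrArg (fun e : Ω[S⁄B] →ₗ[S] Ω[S⁄B] => e x) this
  have h3 : ∀ y, h (g y) = y := by
    intro y
    induction y using TensorProduct.induction_on with
    | zero => simp
    | tmul s p =>
      rw [hg, map_smul]
      simp only [h, Derivation.liftKaehlerDifferential_comp_D, hd]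
      simp [TensorProduct.smul_tmul']
    | add a b ha hb => simp [ha, hb]
  exact ⟨LinearEquiv.ofLinearMap h g (LinearMap.ext h3) (LinearMap.ext h2)⟩

end Deriv

section Smooth

variable {B : Type u} [CommRing B] {P : Type u} [AddCommGroup P] [Module B P]
  {S : Type u} [CommRing S] [Algebra B S] {f : P →ₗ[B] S} (hf : IsSymmetricAlgebra f)

include hf in
/-- the symmetric algebra of a projective module is formally smooth. -/
theorem formallySmooth_of_projective [Module.Projective B P] : Algebra.FormallySmooth B S := by
  apply Algebra.FormallySmooth.of_comp_surjective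
  intro E _ _ I hI φ
  obtain ⟨h, hh⟩ := Module.projective_lifting_property (Ideal.Quotient.mkₐ B I).toLinearMap
    (φ.toLinearMap ∘ₗ f) (Ideal.Quotient.mkₐ_surjective B I)
  refine ⟨hf.lift h, ?_⟩
  apply hf.algHom_ext
  ext p
  have := congrArg (fun e : P →ₗ[B] E ⧸ I => e p) hh
  simpa using this

end Smooth

end Groth.Agent.Lib.Helper8.SymK1
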