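import Mathlib
import Groth.Agent.Lib.Helper8.SymK1

set_option backward.isDefEq.respectTransparency.types false
set_option autoImplicit false
set_option linter.unusedSectionVars false
set_option linter.style.haveILetI false

/-!
# Freeness of the Kähler differentials of a symmetric algebra over a smooth base
-/

namespace Groth.Agent.Lib.Helper8.SymK2

universe u

open TensorProduct KaehlerDifferential Groth.Agent.Lib.Helper8.SymK1

/-- splitting of a short exact sequence with projective cokernel. -/
theorem nonempty_equiv_prod_of_exact {R : Type*} [Ring R] {M N P : Type*}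
    [AddCommGroup M] [AddCommGroup N] [AddCommGroup P] [Module R M] [Module R N] [Module R P]
    (f : M →ₗ[R] N) (g : N →ₗ[R] P) (hf : Function.Injective f) (hg : Function.Surjective g)
    (h : Function.Exact f g) [Module.Projective R P] : Nonempty (N ≃ₗ[R] M × P) := by
  obtain ⟨l, hl⟩ := Module.projective_lifting_property g LinearMap.id hg
  exact ⟨(h.splitSurjectiveEquiv hf ⟨l, hl⟩).1⟩

section Main

variable {R B S : Type u} [CommRing R] [CommRing B] [CommRing S] [Algebra R B] [Algebra B S]
  [Algebra R S] [IsScalarTower R B S]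
  {P G Q : Type u} [AddCommGroup P] [Module B P] [AddCommGroup G] [Module B G]
  [AddCommGroup Q] [Module B Q]

theorem free_kaehler_of_isSymmetricAlgebra [Module.Projective B Ω[B⁄R]] [Module.Free B G]
    (i : P →ₗ[B] G) (π : G →ₗ[B] Q) (hi : Function.Injective i) (hπ : Function.Surjective π)
    (hex : Function.Exact i π) (e : Q ≃ₗ[B] Ω[B⁄R])
    {f : P →ₗ[B] S} (hf : IsSymmetricAlgebra f) : Module.Free S Ω[S⁄R] := by
  haveI : Module.Projective B Q := Module.Projective.of_equiv e.symm
  obtain ⟨eG⟩ := nonempty_equiv_prod_of_exact i π hi hπ hex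
  haveI : Module.Projective B G := inferInstance
  haveI : Module.Projective B (P × Q) := Module.Projective.of_equiv eG
  haveI : Module.Projective B P :=
    Module.Projective.of_split (LinearMap.inl B P Q) (LinearMap.fst B P Q) (by ext; simp)
  haveI : Algebra.FormallySmooth B S := formallySmooth_of_projective hf
  obtain ⟨eΩ⟩ := nonempty_kaehler_equiv hf
  -- the Jacobi-Zariski sequence
  have hinj : Function.Injective (mapBaseChange R B S) := by
    rw [← LinearMap.ker_eq_bot, (Algebra.H1Cotangent.exact_δ_mapBaseChange R B S).linearMap_ker_eq]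
    rw [LinearMap.range_eq_bot]
    ext x
    exact congrArg _ (Subsingleton.elim x 0) |>.trans (map_zero _)
  have hsurj : Function.Surjective (map R B S S) := KaehlerDifferential.map_surjective R B S
  have hex2 : Function.Exact (mapBaseChange R B S) (map R B S S) :=
    KaehlerDifferential.exact_mapBaseChange_map R B S
  haveI : Module.Projective S Ω[S⁄B] := inferInstance
  obtain ⟨e2⟩ := nonempty_equiv_prod_of_exact (mapBaseChange R B S) (map R B S S) hinj hsurj hex2
  -- assemble
  let e3 : ((S ⊗[B] Ω[B⁄R]) × Ω[S⁄B]) ≃ₗ[S] ((S ⊗[B] Q) × (S ⊗[B] P)) :=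
    LinearEquiv.prodCongr (TensorProduct.AlgebraTensorModule.congr (LinearEquiv.refl S S) e.symm) eΩ
  let e4 : ((S ⊗[B] Q) × (S ⊗[B] P)) ≃ₗ[S] S ⊗[B] (Q × P) :=
    (TensorProduct.prodRight B S S Q P).symm
  let e5 : S ⊗[B] (Q × P) ≃ₗ[S] S ⊗[B] G :=
    TensorProduct.AlgebraTensorModule.congr (LinearEquiv.refl S S)
      ((LinearEquiv.prodComm B Q P).trans eG.symm)
  exact Module.Free.of_equiv (e2.trans (e3.trans (e4.trans e5))).symm

end Main

end Groth.Agent.Lib.Helper8.SymK2
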