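import Mathlib
import Groth.Agent.Lib.Helper8.SymK2

set_option backward.isDefEq.respectTransparency.types false
set_option autoImplicit false
set_option linter.unusedSectionVars false
set_option linter.style.haveILetI false

/-!
# Towards standard smoothness of a localized symmetric algebra
-/

namespace Groth.Agent.Lib.Helper8.SS1

universe u

open TensorProduct KaehlerDifferential Groth.Agent.Lib.Helper8.SymK1 Groth.Agent.Lib.Helper8.SymK2

section Equiv

variable {R B S : Type u} [CommRing R] [CommRing B] [CommRing S] [Algebra R B] [Algebra B S]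
  [Algebra R S] [IsScalarTower R B S]
  {P G Q : Type u} [AddCommGroup P] [Module B P] [AddCommGroup G] [Module B G]
  [AddCommGroup Q] [Module B Q]

theorem nonempty_kaehler_equiv_tensor [Module.Projective B Ω[B⁄R]] [Module.Free B G]
    (i : P →ₗ[B] G) (π : G →ₗ[B] Q) (hi : Function.Injective i) (hπ : Function.Surjective π)
    (hex : Function.Exact i π) (e : Q ≃ₗ[B] Ω[B⁄R])
    {f : P →ₗ[B] S} (hf : IsSymmetricAlgebra f) : Nonempty (Ω[S⁄R] ≃ₗ[S] S ⊗[B] G) := by
  haveI : Module.Projective B Q := Module.Projective.of_equiv e.symm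
  obtain ⟨eG⟩ := nonempty_equiv_prod_of_exact i π hi hπ hex
  haveI : Module.Projective B G := inferInstance
  haveI : Module.Projective B (P × Q) := Module.Projective.of_equiv eG
  haveI : Module.Projective B P :=
    Module.Projective.of_split (LinearMap.inl B P Q) (LinearMap.fst B P Q) (by ext; simp)
  haveI : Algebra.FormallySmooth B S := formallySmooth_of_projective hf
  obtain ⟨eΩ⟩ := nonempty_kaehler_equiv hf
  have hinj : Function.Injective (mapBaseChange R B S) := by
    rw [← LinearMap.ker_eq_bot, (Algebra.H1Cotangent.exact_δ_mapBaseChange R B S).linearMap_ker_eq]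
    rw [LinearMap.range_eq_bot]
    ext x
    exact congrArg _ (Subsingleton.elim x 0) |>.trans (map_zero _)
  have hsurj : Function.Surjective (map R B S S) := KaehlerDifferential.map_surjective R B S
  have hex2 : Function.Exact (mapBaseChange R B S) (map R B S S) :=
    KaehlerDifferential.exact_mapBaseChange_map R B S
  haveI : Module.Projective S Ω[S⁄B] := inferInstance
  obtain ⟨e2⟩ := nonempty_equiv_prod_of_exact (mapBaseChange R B S) (map R B S S) hinj hsurj hex2
  let e3 : ((S ⊗[B] Ω[B⁄R]) × Ω[S⁄B]) ≃ₗ[S] ((S ⊗[B] Q) × (S ⊗[B] P)) :=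
    LinearEquiv.prodCongr (TensorProduct.AlgebraTensorModule.congr (LinearEquiv.refl S S) e.symm) eΩ
  let e4 : ((S ⊗[B] Q) × (S ⊗[B] P)) ≃ₗ[S] S ⊗[B] (Q × P) :=
    (TensorProduct.prodRight B S S Q P).symm
  let e5 : S ⊗[B] (Q × P) ≃ₗ[S] S ⊗[B] G :=
    TensorProduct.AlgebraTensorModule.congr (LinearEquiv.refl S S)
      ((LinearEquiv.prodComm B Q P).trans eG.symm)
  exact ⟨e2.trans (e3.trans (e4.trans e5))⟩

end Equiv

section Setup

variable {R A S : Type u} [CommRing R] [CommRing A] [CommRing S] [Algebra R A] [Algebra A S]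
  [Algebra R S] [IsScalarTower R A S] {n : ℕ} (π : (Fin n → A) →ₗ[A] Ω[A⁄R])
  (sec : Ω[A⁄R] →ₗ[A] (Fin n → A)) (hsec : π ∘ₗ sec = LinearMap.id)
  (a : Fin n → A) (hπ : ∀ i, π (Pi.single i 1) = D R A (a i))
  (f : ↥(LinearMap.ker π) →ₗ[A] S) (hf : IsSymmetricAlgebra f)

/-- the projection onto the kernel -/
noncomputable def nu : (Fin n → A) →ₗ[A] ↥(LinearMap.ker π) :=
  LinearMap.codRestrict (LinearMap.ker π) (LinearMap.id - sec ∘ₗ π) (by
    intro e
    rw [LinearMap.mem_ker]
    have := congrArg (fun l : Ω[A⁄R] →ₗ[A] Ω[A⁄R] => l (π e)) hsec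
    simp only [LinearMap.comp_apply, LinearMap.id_apply] at this
    simp [this])

theorem nu_coe (e : Fin n → A) : ((nu π sec hsec e : ↥(LinearMap.ker π)) : Fin n → A) =
    e - sec (π e) := rfl

theorem nu_sec (ω : Ω[A⁄R]) : nu π sec hsec (sec ω) = 0 := by
  apply Subtype.ext
  rw [nu_coe]
  have := congrArg (fun l : Ω[A⁄R] →ₗ[A] Ω[A⁄R] => l ω) hsec
  simp only [LinearMap.comp_apply, LinearMap.id_apply] at this
  simp [this]

theorem nu_subtype (p : ↥(LinearMap.ker π)) : nu π sec hsec (p : Fin n → A) = p := by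
  apply Subtype.ext
  rw [nu_coe]
  have : π (p : Fin n → A) = 0 := p.2
  simp [this]

/-- the new coordinates -/
noncomputable def xx (i : Fin n) : S := algebraMap A S (a i) + f (nu π sec hsec (Pi.single i 1))

/-- the candidate basis map -/
noncomputable def Phi : (Fin n → S) →ₗ[S] Ω[S⁄R] :=
  Fintype.linearCombination S (fun i => D R S (xx π sec hsec a f i))

theorem Phi_single (i : Fin n) :
    Phi π sec hsec a f (Pi.single i 1) = D R S (xx π sec hsec a f i) := by
  simp [Phi, Fintype.linearCombination_apply_single]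

/-- the augmentation -/
noncomputable def eps : S →ₐ[A] A := hf.lift 0

theorem eps_f (p : ↥(LinearMap.ker π)) : eps π f hf (f p) = 0 := by
  simp [eps]

theorem f_nu_eq_sum (e : Fin n → A) :
    f (nu π sec hsec e) = ∑ i, algebraMap A S (e i) * f (nu π sec hsec (Pi.single i 1)) := by
  conv_lhs => rw [pi_eq_sum_univ' e]
  simp only [map_sum]
  refine Finset.sum_congr rfl fun i _ => ?_
  rw [map_smul, map_smul, Algebra.smul_def]

theorem D_f_nu (e : Fin n → A) :
    D R S (f (nu π sec hsec e)) = ∑ i, (algebraMap A S (e i) • D R S (f (nu π sec hsec (Pi.single i 1)))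
      + f (nu π sec hsec (Pi.single i 1)) • D R S (algebraMap A S (e i))) := by
  rw [f_nu_eq_sum, map_sum]
  refine Finset.sum_congr rfl fun i _ => ?_
  rw [Derivation.leibniz]

include hπ in
theorem D_algebraMap_mem (a' : A) : D R S (algebraMap A S a') ∈
    LinearMap.range (Phi π sec hsec a f) ⊔ (RingHom.ker (eps π f hf)) • (⊤ : Submodule S Ω[S⁄R]) := by
  set V := LinearMap.range (Phi π sec hsec a f) ⊔
    (RingHom.ker (eps π f hf)) • (⊤ : Submodule S Ω[S⁄R]) with hV
  have hker : ∀ (p : ↥(LinearMap.ker π)) (w : Ω[S⁄R]), f p • w ∈ V := fun p w =>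
    Submodule.mem_sup_right (Submodule.smul_mem_smul ((RingHom.mem_ker).mpr (eps_f π f hf p))
      Submodule.mem_top)
  set ω := D R A a' with hω
  set e := sec ω with he
  have hπe : π e = ω := by
    have := congrArg (fun l : Ω[A⁄R] →ₗ[A] Ω[A⁄R] => l ω) hsec
    simpa using this
  have h1 : D R S (algebraMap A S a') = KaehlerDifferential.map R R A S ω := by
    rw [hω, KaehlerDifferential.map_D]
  have h2 : ω = ∑ i, e i • D R A (a i) := by
    rw [← hπe]
    conv_lhs => rw [pi_eq_sum_univ' e]
    rw [map_sum]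
    refine Finset.sum_congr rfl fun i _ => ?_
    rw [map_smul, hπ]
  have h3 : KaehlerDifferential.map R R A S ω = ∑ i, algebraMap A S (e i) • D R S (algebraMap A S (a i)) := by
    rw [h2, map_sum]
    refine Finset.sum_congr rfl fun i _ => ?_
    rw [map_smul, KaehlerDifferential.map_D, algebraMap_smul]
  have h4 : ∀ i, D R S (algebraMap A S (a i)) = Phi π sec hsec a f (Pi.single i 1) -
      D R S (f (nu π sec hsec (Pi.single i 1))) := by
    intro i
    rw [Phi_single, xx, map_add]
    abel
  have h5 : ∑ i, algebraMap A S (e i) • D R S (f (nu π sec hsec (Pi.single i 1))) =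
      - ∑ i, f (nu π sec hsec (Pi.single i 1)) • D R S (algebraMap A S (e i)) := by
    have h := D_f_nu π sec hsec f (R := R) e
    rw [he, nu_sec, map_zero, map_zero, Finset.sum_add_distrib] at h
    rw [← he] at h
    exact eq_neg_of_add_eq_zero_left h.symm
  rw [h1, h3]
  simp_rw [h4, smul_sub]
  rw [Finset.sum_sub_distrib, h5, sub_neg_eq_add]
  refine V.add_mem (V.sum_mem fun i _ => V.smul_mem _ (Submodule.mem_sup_left ⟨_, rfl⟩))
    (V.sum_mem fun i _ => hker _ _)

include hπ in
theorem top_le : (⊤ : Submodule S Ω[S⁄R]) ≤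
    LinearMap.range (Phi π sec hsec a f) ⊔ (RingHom.ker (eps π f hf)) • (⊤ : Submodule S Ω[S⁄R]) := by
  set V := LinearMap.range (Phi π sec hsec a f) ⊔
    (RingHom.ker (eps π f hf)) • (⊤ : Submodule S Ω[S⁄R]) with hV
  have hker : ∀ (p : ↥(LinearMap.ker π)) (w : Ω[S⁄R]), f p • w ∈ V := fun p w =>
    Submodule.mem_sup_right (Submodule.smul_mem_smul ((RingHom.mem_ker).mpr (eps_f π f hf p))
      Submodule.mem_top)
  rw [← KaehlerDifferential.span_range_derivation R S, Submodule.span_le]
  rintro _ ⟨s, rfl⟩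
  induction s using hf.induction with
  | algebraMap r => exact D_algebraMap_mem π sec hsec a hπ f hf r
  | ι p =>
    have h := D_f_nu π sec hsec f (R := R) (p : Fin n → A)
    rw [nu_subtype] at h
    rw [h]
    refine V.sum_mem fun i _ => V.add_mem ?_ (hker _ _)
    have h4 : D R S (f (nu π sec hsec (Pi.single i 1))) = Phi π sec hsec a f (Pi.single i 1) -
        D R S (algebraMap A S (a i)) := by
      rw [Phi_single, xx, map_add]
      abel
    rw [h4]
    exact V.smul_mem _ (V.sub_mem (Submodule.mem_sup_left ⟨_, rfl⟩)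
      (D_algebraMap_mem π sec hsec a hπ f hf (a i)))
  | mul x y hx hy =>
    rw [Derivation.leibniz]
    exact V.add_mem (V.smul_mem _ hy) (V.smul_mem _ hx)
  | add x y hx hy =>
    rw [map_add]
    exact V.add_mem hx hy

end Setup

end Groth.Agent.Lib.Helper8.SS1
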