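import Mathlib
import Groth.Agent.Lib.Helper8.SS1

set_option backward.isDefEq.respectTransparency.types false
set_option autoImplicit false
set_option linter.unusedSectionVars false
set_option linter.style.haveILetI false

namespace Groth.Agent.Lib.Helper8.SS2

universe u

open TensorProduct KaehlerDifferential Groth.Agent.Lib.Helper8.SymK1 Groth.Agent.Lib.Helper8.SymK2
  Groth.Agent.Lib.Helper8.SS1

/-- the symmetric algebra of a direct summand of a finite free module is finitely presented. -/
theorem finitePresentation_of_retract {A S : Type u} [CommRing A] [CommRing S] [Algebra A S]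
    {N : Type u} [AddCommGroup N] [Module A N] {f : N →ₗ[A] S} (hf : IsSymmetricAlgebra f)
    {n : ℕ} (j : N →ₗ[A] (Fin n → A)) (ν : (Fin n → A) →ₗ[A] N) (hν : ∀ p, ν (j p) = p) :
    Algebra.FinitePresentation A S := by
  classical
  let P := MvPolynomial (Fin n) A
  let ρ : P →ₐ[A] S := MvPolynomial.aeval (fun i => f (ν (Pi.single i 1)))
  let lin : N →ₗ[A] P := (Fintype.linearCombination A (fun i => (MvPolynomial.X i : P))) ∘ₗ j
  let σ : S →ₐ[A] P := hf.lift lin
  have hlin : ∀ p, lin p = ∑ i, j p i • (MvPolynomial.X i : P) := by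
    intro p
    simp [lin, Fintype.linearCombination_apply]
  have hσf : ∀ p, σ (f p) = lin p := by
    intro p
    simp [σ]
  have hρσ : ∀ s, ρ (σ s) = s := by
    intro s
    have : ρ.comp σ = AlgHom.id A S := by
      apply hf.algHom_ext
      ext p
      show ρ (σ (f p)) = f p
      rw [hσf, hlin, map_sum]
      have h1 : ∀ i, ρ (j p i • (MvPolynomial.X i : P)) = j p i • f (ν (Pi.single i 1)) := by
        intro i
        rw [map_smul]
        show j p i • (MvPolynomial.aeval fun i => f (ν (Pi.single i 1))) (MvPolynomial.X i) = _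
        rw [MvPolynomial.aeval_X]
      simp_rw [h1]
      conv_rhs => rw [← hν p, pi_eq_sum_univ' (j p)]
      simp [map_sum, map_smul]
    exact congrArg (fun e : S →ₐ[A] S => e s) this
  have hsurj : Function.Surjective ρ := fun s => ⟨σ s, hρσ s⟩
  let K : Ideal P := Ideal.span (Set.range fun i : Fin n => (MvPolynomial.X i : P) - σ (ρ (MvPolynomial.X i)))
  have hK : ∀ q : P, q - σ (ρ q) ∈ K := by
    intro q
    induction q using MvPolynomial.induction_on with
    | C a =>
      have : σ (ρ (MvPolynomial.C a : P)) = MvPolynomial.C a := by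
        rw [← MvPolynomial.algebraMap_eq, AlgHom.commutes, AlgHom.commutes]
      rw [this, sub_self]
      exact K.zero_mem
    | add p q hp hq =>
      have : p + q - σ (ρ (p + q)) = (p - σ (ρ p)) + (q - σ (ρ q)) := by
        rw [map_add, map_add]; ring
      rw [this]
      exact K.add_mem hp hq
    | mul_X p i hp =>
      have : p * MvPolynomial.X i - σ (ρ (p * MvPolynomial.X i)) =
          (p - σ (ρ p)) * MvPolynomial.X i +
            σ (ρ p) * (MvPolynomial.X i - σ (ρ (MvPolynomial.X i))) := by
        rw [map_mul, map_mul]; ring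
      rw [this]
      exact K.add_mem (K.mul_mem_right _ hp) (K.mul_mem_left _ (Ideal.subset_span ⟨i, rfl⟩))
  have hker : RingHom.ker ρ.toRingHom = K := by
    apply le_antisymm
    · intro q hq
      have hq' : ρ q = 0 := hq
      have := hK q
      rwa [hq', map_zero, sub_zero] at this
    · rw [Ideal.span_le]
      rintro _ ⟨i, rfl⟩
      show ρ (MvPolynomial.X i - σ (ρ (MvPolynomial.X i))) = 0
      rw [map_sub, hρσ, sub_self]
  refine Algebra.FinitePresentation.of_surjective hsurj ?_
  rw [hker]
  exact Submodule.fg_span (Set.finite_range _)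

section Loc

variable {R S T : Type u} [CommRing R] [CommRing S] [CommRing T] [Algebra R S] [Algebra S T]
  [Algebra R T] [IsScalarTower R S T] {n : ℕ} (x : Fin n → S) (g : S) [IsLocalization.Away g T]

theorem PhiT_surjective
    (hg : ∀ w : Ω[S⁄R], g • w ∈ LinearMap.range (Fintype.linearCombination S (fun i => D R S (x i)))) :
    Function.Surjective (Fintype.linearCombination T (fun i => D R T (algebraMap S T (x i)))) := by
  intro y
  obtain ⟨⟨w, ⟨m, hm⟩⟩, hw⟩ := IsLocalizedModule.surj (Submonoid.powers g)
    (KaehlerDifferential.map R R S T) y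
  obtain ⟨c, hc⟩ := hg w
  have hu : IsUnit (algebraMap S T (g * m)) := by
    rw [map_mul]
    exact (IsLocalization.Away.algebraMap_isUnit g).mul
      (IsLocalization.map_units T (⟨m, hm⟩ : Submonoid.powers g))
  obtain ⟨u, hu⟩ := hu
  refine ⟨fun i => ((u⁻¹ : Tˣ) : T) * algebraMap S T (c i), ?_⟩
  have h1 : KaehlerDifferential.map R R S T (g • w) = algebraMap S T (g * m) • y := by
    rw [map_smul, ← hw, map_mul, mul_smul, algebraMap_smul, algebraMap_smul]
    rfl
  have h2 : KaehlerDifferential.map R R S T (g • w) =
      ∑ i, algebraMap S T (c i) • D R T (algebraMap S T (x i)) := by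
    rw [← hc, Fintype.linearCombination_apply, map_sum]
    refine Finset.sum_congr rfl fun i _ => ?_
    rw [map_smul, KaehlerDifferential.map_D, algebraMap_smul]
  rw [Fintype.linearCombination_apply]
  have h3 : ∑ i, (((u⁻¹ : Tˣ) : T) * algebraMap S T (c i)) • D R T (algebraMap S T (x i)) =
      ((u⁻¹ : Tˣ) : T) • ∑ i, algebraMap S T (c i) • D R T (algebraMap S T (x i)) := by
    rw [Finset.smul_sum]
    refine Finset.sum_congr rfl fun i _ => ?_
    rw [mul_smul]
  rw [h3, ← h2, h1, ← hu, smul_smul]
  simp

theorem PhiT_bijective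
    (hg : ∀ w : Ω[S⁄R], g • w ∈ LinearMap.range (Fintype.linearCombination S (fun i => D R S (x i))))
    (e : Ω[S⁄R] ≃ₗ[S] (Fin n → S)) :
    Function.Bijective (Fintype.linearCombination T (fun i => D R T (algebraMap S T (x i)))) := by
  classical
  have hsurj := PhiT_surjective (R := R) (T := T) x g hg
  refine ⟨?_, hsurj⟩
  haveI : Algebra.FormallyEtale S T := Algebra.FormallyEtale.of_isLocalization (Rₘ := T)
    (Submonoid.powers g)
  have hbc : IsBaseChange T (KaehlerDifferential.map R R S T) :=
    KaehlerDifferential.isBaseChange_of_formallyEtale R S T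
  let Ψ : Ω[T⁄R] ≃ₗ[T] (Fin n → T) :=
    hbc.equiv.symm.trans ((TensorProduct.AlgebraTensorModule.congr (LinearEquiv.refl T T) e).trans
      (TensorProduct.piScalarRight S T T (Fin n)))
  have h1 : Function.Surjective (Ψ.toLinearMap ∘ₗ
      (Fintype.linearCombination T (fun i => D R T (algebraMap S T (x i))))) :=
    Ψ.surjective.comp hsurj
  have h2 := OrzechProperty.injective_of_surjective_endomorphism _ h1
  rw [LinearMap.coe_comp] at h2
  exact Function.Injective.of_comp h2

end Loc

end Groth.Agent.Lib.Helper8.SS2
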