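import Mathlib
import Groth.Agent.Lib.Helper8.SS2

set_option backward.isDefEq.respectTransparency.types false
set_option autoImplicit false
set_option linter.unusedSectionVars false
set_option linter.style.haveILetI false

namespace Groth.Agent.Lib.Helper8.SS3

universe u

open TensorProduct KaehlerDifferential Groth.Agent.Lib.Helper8.SymK1 Groth.Agent.Lib.Helper8.SymK2
  Groth.Agent.Lib.Helper8.SS1 Groth.Agent.Lib.Helper8.SS2

theorem exists_away_standardSmooth {R A S : Type u} [CommRing R] [CommRing A] [CommRing S]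
    [Algebra R A] [Algebra A S] [Algebra R S] [IsScalarTower R A S] [Algebra.Smooth R A] {n : ℕ}
    (π : (Fin n → A) →ₗ[A] Ω[A⁄R]) (hπs : Function.Surjective π)
    (a : Fin n → A) (hπ : ∀ i, π (Pi.single i 1) = D R A (a i))
    (f : ↥(LinearMap.ker π) →ₗ[A] S) (hf : IsSymmetricAlgebra f) :
    ∃ (g : S) (ε : S →ₐ[A] A), ε g = 1 ∧ ∀ (T : Type u) [CommRing T] [Algebra S T] [Algebra A T]
      [Algebra R T] [IsScalarTower R S T] [IsScalarTower A S T] [IsScalarTower R A T]
      [IsLocalization.Away g T], Algebra.Smooth A T ∧ Algebra.IsStandardSmooth R T := by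
  classical
  obtain ⟨sec, hsec⟩ := Module.projective_lifting_property π LinearMap.id hπs
  haveI : Module.Projective A ↥(LinearMap.ker π) :=
    Module.Projective.of_split (LinearMap.ker π).subtype (nu π sec hsec) (by
      ext p : 1
      exact nu_subtype π sec hsec p)
  haveI hfs : Algebra.FormallySmooth A S := formallySmooth_of_projective hf
  haveI hfp : Algebra.FinitePresentation A S :=
    finitePresentation_of_retract hf (LinearMap.ker π).subtype (nu π sec hsec)
      (nu_subtype π sec hsec)
  haveI hAS : Algebra.Smooth A S := ⟨hfs, hfp⟩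
  haveI hRS : Algebra.Smooth R S := Algebra.Smooth.comp R A S
  haveI : Module.Finite S Ω[S⁄R] := inferInstance
  have hfg : (⊤ : Submodule S Ω[S⁄R]).FG := Module.Finite.fg_top
  obtain ⟨g, hg1, hg2⟩ := Submodule.exists_sub_one_mem_and_smul_le_of_fg_of_le_sup hfg le_rfl
    (top_le π sec hsec a hπ f hf (R := R))
  have hεg : eps π f hf g = 1 := by
    have h := (RingHom.mem_ker).mp hg1
    rw [map_sub, map_one, sub_eq_zero] at h
    exact h
  obtain ⟨e0⟩ := nonempty_kaehler_equiv_tensor (R := R) (LinearMap.ker π).subtype π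
    (LinearMap.ker π).injective_subtype hπs (LinearMap.exact_subtype_ker_map π)
    (LinearEquiv.refl A _) hf
  let e : Ω[S⁄R] ≃ₗ[S] (Fin n → S) := e0.trans (TensorProduct.piScalarRight A S S (Fin n))
  have hgw : ∀ w : Ω[S⁄R], g • w ∈ LinearMap.range
      (Fintype.linearCombination S (fun i => D R S (xx π sec hsec a f i))) := by
    intro w
    apply hg2
    exact Submodule.smul_mem_pointwise_smul w g ⊤ Submodule.mem_top
  refine ⟨g, eps π f hf, hεg, ?_⟩
  intro T _ _ _ _ _ _ _ _
  haveI hST : Algebra.Smooth S T := Algebra.Smooth.of_isLocalization_Away g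
  haveI hAT : Algebra.Smooth A T := Algebra.Smooth.comp A S T
  haveI hRT : Algebra.Smooth R T := Algebra.Smooth.comp R A T
  refine ⟨hAT, ?_⟩
  have hbij := PhiT_bijective (R := R) (T := T) (xx π sec hsec a f) g hgw e
  let E : (Fin n → T) ≃ₗ[T] Ω[T⁄R] := LinearEquiv.ofBijective _ hbij
  let b : Module.Basis (Fin n) T Ω[T⁄R] := Module.Basis.ofEquivFun E.symm
  refine Algebra.IsStandardSmooth.of_basis_kaehlerDifferential b ?_
  rintro _ ⟨i, rfl⟩
  refine ⟨algebraMap S T (xx π sec hsec a f i), ?_⟩
  simp only [b, Module.Basis.coe_ofEquivFun, LinearEquiv.symm_symm, E, LinearEquiv.ofBijective_apply]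
  rw [Fintype.linearCombination_apply]
  rw [Finset.sum_eq_single i]
  · rw [Pi.single_eq_same, one_smul]
  · intro j _ hj
    rw [Pi.single_eq_of_ne hj, zero_smul]
  · intro h
    exact absurd (Finset.mem_univ i) h

/-- S2025. -/
theorem main2025 {R A : Type u} [CommRing R] [CommRing A] [Algebra R A] [Algebra.Smooth R A] :
    ∃ (B : Type u) (_ : CommRing B) (_ : Algebra R B) (_ : Algebra A B) (_ : IsScalarTower R A B),
      Algebra.Smooth A B ∧ Nonempty (B →ₐ[A] A) ∧ Algebra.IsStandardSmooth R B := by
  classical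
  obtain ⟨n, φ, hφ⟩ := Algebra.FiniteType.iff_quotient_mvPolynomial''.mp
    (inferInstance : Algebra.FiniteType R A)
  let a : Fin n → A := fun i => φ (MvPolynomial.X i)
  let π : (Fin n → A) →ₗ[A] Ω[A⁄R] := Fintype.linearCombination A (fun i => D R A (a i))
  have hπ : ∀ i, π (Pi.single i 1) = D R A (a i) := by
    intro i
    simp [π, Fintype.linearCombination_apply_single]
  have hπs : Function.Surjective π := by
    rw [← LinearMap.range_eq_top, eq_top_iff, ← KaehlerDifferential.span_range_derivation R A,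
      Submodule.span_le]
    rintro _ ⟨x, rfl⟩
    obtain ⟨q, rfl⟩ := hφ x
    induction q using MvPolynomial.induction_on with
    | C r =>
      rw [← MvPolynomial.algebraMap_eq, AlgHom.commutes, Derivation.map_algebraMap]
      exact Submodule.zero_mem _
    | add p q hp hq =>
      rw [map_add, map_add]
      exact Submodule.add_mem _ hp hq
    | mul_X p i hp =>
      rw [map_mul, Derivation.leibniz]
      refine Submodule.add_mem _ (Submodule.smul_mem _ _ ⟨Pi.single i 1, hπ i⟩)
        (Submodule.smul_mem _ _ hp)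
  obtain ⟨g, ε, hεg, H⟩ := exists_away_standardSmooth (R := R) π hπs a hπ
    (SymmetricAlgebra.ι A ↥(LinearMap.ker π)) SymmetricAlgebra.isSymmetricAlgebra_ι
  have hunit : ∀ y : Submonoid.powers g, IsUnit (ε y) := by
    rintro ⟨_, k, rfl⟩
    simp [hεg]
  obtain ⟨h1, h2⟩ := H (Localization.Away g)
  exact ⟨Localization.Away g, inferInstance, inferInstance, inferInstance, inferInstance, h1,
    ⟨IsLocalization.liftAlgHom (M := Submonoid.powers g) (f := ε) hunit⟩, h2⟩

end Groth.Agent.Lib.Helper8.SS3
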