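import Mathlib
import Groth.Prelude.Def_Smoothing
import Groth.Agent.Lib.Helper8.LO1
import Groth.Agent.Lib.Helper8.SS3

set_option backward.isDefEq.respectTransparency.types false
set_option autoImplicit false
set_option linter.unusedSectionVars false
set_option linter.style.haveILetI false

universe u
open MvPolynomial TensorProduct Smoothing

namespace Groth.Agent.Lib.Helper8.LO2

open Groth.Agent.Lib.Helper8

/-- two tuples congruent modulo an ideal give congruent polynomial values -/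
theorem aeval_sub_mem {R B : Type*} [CommRing R] [CommRing B] [Algebra R B] {n : Type*}
    (𝔞 : Ideal B) (a a' : n → B) (h : ∀ i, a i - a' i ∈ 𝔞) (p : MvPolynomial n R) :
    aeval a p - aeval a' p ∈ 𝔞 := by
  rw [← Ideal.Quotient.eq_zero_iff_mem, map_sub, sub_eq_zero]
  have h1 : ((Ideal.Quotient.mkₐ R 𝔞).comp (aeval a)) = (Ideal.Quotient.mkₐ R 𝔞).comp (aeval a') := by
    apply MvPolynomial.algHom_ext
    intro i
    simp only [AlgHom.comp_apply, aeval_X, Ideal.Quotient.mkₐ_eq_mk]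
    rw [← sub_eq_zero, ← map_sub, Ideal.Quotient.eq_zero_iff_mem]
    exact h i
  exact DFunLike.congr_fun h1 p

theorem main2023 {R Λ A : Type u} [CommRing R] [CommRing Λ] [Algebra R Λ] (I : Ideal R)
    (hI : I ^ 2 = ⊥) (h : Smoothing.IndSmooth (R ⧸ I) (Λ ⧸ I.map (algebraMap R Λ)))
    [CommRing A] [Algebra R A] [Algebra.FinitePresentation R A] (φ : A →ₐ[R] Λ) :
    ∃ (B : Type u) (_ : CommRing B) (_ : Algebra R B), Algebra.Smooth R B ∧
      ∃ J : Ideal B, J ≤ I.map (algebraMap R B) ∧ J.FG ∧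
        ∃ (g : A →ₐ[R] B ⧸ J) (k : (B ⧸ J) →ₐ[R] Λ), k.comp g = φ := by
  classical
  set IΛ : Ideal Λ := I.map (algebraMap R Λ) with hIΛ
  -- step 1: the reduction
  let fbar : (R ⧸ I) ⊗[R] A →ₐ[R ⧸ I] Λ ⧸ IΛ :=
    Algebra.TensorProduct.lift (Algebra.ofId (R ⧸ I) (Λ ⧸ IΛ)) ((Ideal.Quotient.mkₐ R IΛ).comp φ)
      (fun _ _ => Commute.all _ _)
  have hfbar : ∀ a : A, fbar (1 ⊗ₜ[R] a) = Ideal.Quotient.mk IΛ (φ a) := by
    intro a
    simp [fbar]
  obtain ⟨B0, _, _, hsm, g0, h0, hcomp⟩ := h ((R ⧸ I) ⊗[R] A) inferInstance fbar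
  haveI := hsm
  obtain ⟨Cb, _, _, _, _, -, ⟨r⟩, hstd⟩ := SS3.main2025 (R := R ⧸ I) (A := B0)
  let gb : (R ⧸ I) ⊗[R] A →ₐ[R ⧸ I] Cb := (IsScalarTower.toAlgHom (R ⧸ I) B0 Cb).comp g0
  let hb : Cb →ₐ[R ⧸ I] Λ ⧸ IΛ := h0.comp (r.restrictScalars (R ⧸ I))
  have hgb : ∀ z, hb (gb z) = fbar z := by
    intro z
    change h0 (r (algebraMap B0 Cb (g0 z))) = _
    rw [AlgHom.commutes, ← hcomp]
    rfl
  -- step 2: lift the standard smooth algebra
  obtain ⟨B₁, _, _, q, hstd1, hqs, hqalg, hqker⟩ := LO1.exists_lift_standardSmooth I hI Cb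
  haveI := hstd1
  -- step 3: lift the map to Λ
  let toΛb : B₁ →ₐ[R] Λ ⧸ IΛ :=
    { toRingHom := hb.toRingHom.comp q
      commutes' := by
        intro r
        change hb (q (algebraMap R B₁ r)) = _
        rw [hqalg, AlgHom.commutes]
        exact (IsScalarTower.algebraMap_apply R (R ⧸ I) (Λ ⧸ IΛ) r).symm }
  have hnil : IsNilpotent IΛ := by
    refine ⟨2, ?_⟩
    rw [hIΛ, ← Ideal.map_pow, hI, Ideal.map_bot]
    rfl
  let ψ : B₁ →ₐ[R] Λ := Algebra.FormallySmooth.lift IΛ hnil toΛb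
  have hψ : ∀ x, Ideal.Quotient.mk IΛ (ψ x) = hb (q x) := fun x =>
    Algebra.FormallySmooth.mk_lift IΛ hnil toΛb x
  -- step 4: the presentation of `A`
  obtain ⟨n, πA, hπA, hfg⟩ := (inferInstance : Algebra.FinitePresentation R A).out
  obtain ⟨G0, hG0⟩ := hfg
  have hβ : ∀ i : Fin n, ∃ β : B₁, q β = gb (1 ⊗ₜ[R] πA (X i)) := fun i => hqs _
  choose β hβ using hβ
  have hqβ : ∀ p : MvPolynomial (Fin n) R, q (aeval β p) = gb (1 ⊗ₜ[R] πA p) := by
    intro p
    have : (q.comp (aeval (R := R) β).toRingHom) =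
        (gb.toRingHom.comp (Algebra.TensorProduct.includeRight (R := R) (A := R ⧸ I)
          (B := A)).toRingHom).comp πA.toRingHom := by
      apply MvPolynomial.ringHom_ext
      · intro r
        simp only [RingHom.comp_apply, AlgHom.toRingHom_eq_coe, RingHom.coe_coe,
          Algebra.TensorProduct.includeRight_apply]
        rw [← MvPolynomial.algebraMap_eq, AlgHom.commutes, AlgHom.commutes, hqalg,
          Algebra.algebraMap_eq_smul_one (A := A), TensorProduct.tmul_smul,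
          ← algebraMap_smul (R ⧸ I) r ((1 : R ⧸ I) ⊗ₜ[R] (1 : A)), map_smul,
          Algebra.algebraMap_eq_smul_one (A := Cb)]
        congr 1
        exact (map_one gb).symm
      · intro i
        simp only [RingHom.comp_apply, AlgHom.toRingHom_eq_coe, RingHom.coe_coe, aeval_X,
          Algebra.TensorProduct.includeRight_apply]
        exact hβ i
    exact DFunLike.congr_fun this p
  have hδ : ∀ i : Fin n, φ (πA (X i)) - ψ (β i) ∈ IΛ := by
    intro i
    rw [← Ideal.Quotient.eq_zero_iff_mem, map_sub, hψ, hβ, hgb, hfbar, sub_self]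
  have hl : ∀ i : Fin n, ∃ l ∈ Finsupp.supported Λ Λ (I : Set R),
      Finsupp.linearCombination Λ (algebraMap R Λ) l = φ (πA (X i)) - ψ (β i) := by
    intro i
    have := hδ i
    rw [hIΛ, Ideal.map, Ideal.span] at this
    exact (Finsupp.mem_span_image_iff_linearCombination Λ).mp this
  choose l hlI hl using hl
  -- step 5: the polynomial extension
  let Z : Type u := Σ i : Fin n, ↥(l i).support
  haveI : Finite Z := inferInstance
  haveI : Algebra.Smooth B₁ (MvPolynomial Z B₁) := ⟨inferInstance, inferInstance⟩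
  haveI : Algebra.Smooth R (MvPolynomial Z B₁) := Algebra.Smooth.comp R B₁ (MvPolynomial Z B₁)
  let ψ' : MvPolynomial Z B₁ →ₐ[R] Λ :=
    { toRingHom := eval₂Hom ψ.toRingHom (fun z : Z => l z.1 z.2.1)
      commutes' := by
        intro r
        change eval₂Hom ψ.toRingHom _ (C (algebraMap R B₁ r)) = _
        rw [eval₂Hom_C]
        exact ψ.commutes r }
  have hψ'C : ∀ x : B₁, ψ' (C x) = ψ x := fun x => eval₂Hom_C _ _ x
  have hψ'X : ∀ z : Z, ψ' (X z) = l z.1 z.2.1 := fun z => eval₂Hom_X' _ _ z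
  let β' : Fin n → MvPolynomial Z B₁ := fun i =>
    C (β i) + ∑ ε ∈ (l i).support.attach, C (algebraMap R B₁ ε.1) * X (⟨i, ε⟩ : Z)
  have hψ'β' : ∀ i, ψ' (β' i) = φ (πA (X i)) := by
    intro i
    simp only [β', map_add, map_sum, map_mul, hψ'C, hψ'X, AlgHom.commutes]
    have h1 := hl i
    rw [Finsupp.linearCombination_apply, Finsupp.sum] at h1
    rw [Finset.sum_attach (l i).support (fun ε => algebraMap R Λ ε * (l i) ε)]
    have h2 : ∑ ε ∈ (l i).support, algebraMap R Λ ε * (l i) ε = φ (πA (X i)) - ψ (β i) := by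
      rw [← h1]
      refine Finset.sum_congr rfl fun ε _ => ?_
      rw [smul_eq_mul, mul_comm]
    rw [h2]
    ring
  set 𝔞 : Ideal (MvPolynomial Z B₁) := I.map (algebraMap R (MvPolynomial Z B₁)) with h𝔞
  have hβ'𝔞 : ∀ i, β' i - C (β i) ∈ 𝔞 := by
    intro i
    simp only [β', add_sub_cancel_left]
    refine Ideal.sum_mem _ fun ε _ => ?_
    refine Ideal.mul_mem_right _ _ ?_
    have hεI : (ε.1 : R) ∈ I := hlI i ε.2
    have : C (algebraMap R B₁ ε.1) = algebraMap R (MvPolynomial Z B₁) ε.1 := rfl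
    rw [this]
    exact Ideal.mem_map_of_mem _ hεI
  let E : MvPolynomial (Fin n) R →ₐ[R] MvPolynomial Z B₁ := aeval β'
  have hE𝔞 : ∀ γ ∈ RingHom.ker πA.toRingHom, E γ ∈ 𝔞 := by
    intro γ hγ
    have h1 : E γ - aeval (fun i => (C (β i) : MvPolynomial Z B₁)) γ ∈ 𝔞 :=
      aeval_sub_mem 𝔞 β' _ hβ'𝔞 γ
    have h2 : aeval (fun i => (C (β i) : MvPolynomial Z B₁)) γ = C (aeval β γ) := by
      have : (aeval (R := R) fun i => (C (β i) : MvPolynomial Z B₁)) =
          (IsScalarTower.toAlgHom R B₁ (MvPolynomial Z B₁)).comp (aeval β) := by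
        apply MvPolynomial.algHom_ext
        intro i
        simp
      rw [this]
      rfl
    have h3 : aeval β γ ∈ I.map (algebraMap R B₁) := by
      apply hqker
      rw [RingHom.mem_ker, hqβ]
      have h0 : πA γ = 0 := hγ
      rw [h0, TensorProduct.tmul_zero, map_zero]
    have h4 : (C (aeval β γ) : MvPolynomial Z B₁) ∈ 𝔞 := by
      have : (C (aeval β γ) : MvPolynomial Z B₁) ∈
          (I.map (algebraMap R B₁)).map (algebraMap B₁ (MvPolynomial Z B₁)) :=
        Ideal.mem_map_of_mem _ h3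
      rw [Ideal.map_map, ← IsScalarTower.algebraMap_eq] at this
      exact this
    have : E γ = (E γ - aeval (fun i => (C (β i) : MvPolynomial Z B₁)) γ) + C (aeval β γ) := by
      rw [h2]; ring
    rw [this]
    exact add_mem h1 h4
  set J : Ideal (MvPolynomial Z B₁) := (RingHom.ker πA.toRingHom).map E with hJ
  have hJle : J ≤ 𝔞 := by
    rw [hJ, Ideal.map_le_iff_le_comap]
    intro γ hγ
    exact hE𝔞 γ hγ
  have hJfg : J.FG := by
    rw [hJ]
    exact Ideal.FG.map ⟨G0, hG0⟩ _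
  have hψ'E : ∀ p, ψ' (E p) = φ (πA p) := by
    intro p
    have : ψ'.comp E = φ.comp πA := by
      apply MvPolynomial.algHom_ext
      intro i
      simp only [AlgHom.comp_apply, E, aeval_X]
      exact hψ'β' i
    exact DFunLike.congr_fun this p
  have hψ'J : ∀ x ∈ J, ψ' x = 0 := by
    intro x hx
    rw [hJ, Ideal.map] at hx
    refine Submodule.span_induction ?_ ?_ ?_ ?_ hx
    · rintro _ ⟨γ, hγ, rfl⟩
      rw [hψ'E]
      have h0 : πA γ = 0 := hγ
      rw [h0, map_zero]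
    · exact map_zero _
    · intro x y _ _ hx hy
      rw [map_add, hx, hy, add_zero]
    · intro r x _ hx
      rw [smul_eq_mul, map_mul, hx, mul_zero]
  let k : (MvPolynomial Z B₁ ⧸ J) →ₐ[R] Λ := Ideal.Quotient.liftₐ J ψ' hψ'J
  have hkerg : ∀ p ∈ RingHom.ker πA.toRingHom, ((Ideal.Quotient.mkₐ R J).comp E) p = 0 := by
    intro p hp
    change Ideal.Quotient.mk J (E p) = 0
    rw [Ideal.Quotient.eq_zero_iff_mem]
    exact Ideal.mem_map_of_mem _ hp
  let g₀ : (MvPolynomial (Fin n) R ⧸ RingHom.ker πA.toRingHom) →ₐ[R] (MvPolynomial Z B₁ ⧸ J) :=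
    Ideal.Quotient.liftₐ _ ((Ideal.Quotient.mkₐ R J).comp E) hkerg
  let eA : (MvPolynomial (Fin n) R ⧸ RingHom.ker πA.toRingHom) ≃ₐ[R] A :=
    Ideal.quotientKerAlgEquivOfSurjective hπA
  let g : A →ₐ[R] (MvPolynomial Z B₁ ⧸ J) := g₀.comp eA.symm.toAlgHom
  have hg : ∀ p, g (πA p) = Ideal.Quotient.mk J (E p) := by
    intro p
    have : eA.symm (πA p) = Ideal.Quotient.mk _ p := by
      rw [AlgEquiv.symm_apply_eq]
      rfl
    change g₀ (eA.symm (πA p)) = _
    rw [this]
    rfl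
  refine ⟨MvPolynomial Z B₁, inferInstance, inferInstance, inferInstance, J, hJle, hJfg, g, k, ?_⟩
  apply AlgHom.ext
  intro a
  obtain ⟨p, rfl⟩ := hπA a
  rw [AlgHom.comp_apply, hg]
  change ψ' (E p) = _
  exact hψ'E p

end Groth.Agent.Lib.Helper8.LO2
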