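import Mathlib
import Groth.Prelude.Def_Smoothing
import Groth.Agent.Lib.Helper8.LO1
import Groth.Agent.Lib.Helper8.SS3

set_option backward.isDefEq.respectTransparency.types false
set_option autoImplicit false
set_option linter.unusedSectionVars false
set_option linter.style.haveILetI false

universe u
open MvPolynomial TensorProduct Smoothing

namespace Groth.Agent.Lib.Helper8.LO3

open Groth.Agent.Lib.Helper8

/-- The common first step: factor the reduction through a standard smooth `R/I`-algebra, lift it to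
a standard smooth `R`-algebra `D`, and lift the map to `Λ`. -/
theorem reduce {R Λ A : Type u} [CommRing R] [CommRing Λ] [Algebra R Λ] (I : Ideal R)
    (hI : I ^ 2 = ⊥) (h : Smoothing.IndSmooth (R ⧸ I) (Λ ⧸ I.map (algebraMap R Λ)))
    [CommRing A] [Algebra R A] [Algebra.FinitePresentation R A] (φ : A →ₐ[R] Λ) :
    ∃ (Cb : Type u) (_ : CommRing Cb) (_ : Algebra (R ⧸ I) Cb) (D : Type u) (_ : CommRing D)
      (_ : Algebra R D) (q : D →+* Cb) (gb : (R ⧸ I) ⊗[R] A →ₐ[R ⧸ I] Cb) (ψ : D →ₐ[R] Λ),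
      Algebra.IsStandardSmooth R D ∧ Function.Surjective q ∧
      (∀ r, q (algebraMap R D r) = algebraMap (R ⧸ I) Cb (Ideal.Quotient.mk I r)) ∧
      RingHom.ker q ≤ I.map (algebraMap R D) ∧
      ∀ (d : D) (a : A), q d = gb (1 ⊗ₜ[R] a) → ψ d - φ a ∈ I.map (algebraMap R Λ) := by
  classical
  set IΛ : Ideal Λ := I.map (algebraMap R Λ) with hIΛ
  let fbar : (R ⧸ I) ⊗[R] A →ₐ[R ⧸ I] Λ ⧸ IΛ :=
    Algebra.TensorProduct.lift (Algebra.ofId (R ⧸ I) (Λ ⧸ IΛ)) ((Ideal.Quotient.mkₐ R IΛ).comp φ)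
      (fun _ _ => Commute.all _ _)
  have hfbar : ∀ a : A, fbar (1 ⊗ₜ[R] a) = Ideal.Quotient.mk IΛ (φ a) := by
    intro a
    simp [fbar]
  obtain ⟨B0, _, _, hsm, g0, h0, hcomp⟩ := h ((R ⧸ I) ⊗[R] A) inferInstance fbar
  haveI := hsm
  obtain ⟨Cb, _, _, _, _, -, ⟨r⟩, hstd⟩ := SS3.main2025 (R := R ⧸ I) (A := B0)
  let gb : (R ⧸ I) ⊗[R] A →ₐ[R ⧸ I] Cb := (IsScalarTower.toAlgHom (R ⧸ I) B0 Cb).comp g0
  let hb : Cb →ₐ[R ⧸ I] Λ ⧸ IΛ := h0.comp (r.restrictScalars (R ⧸ I))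
  have hgb : ∀ z, hb (gb z) = fbar z := by
    intro z
    change h0 (r (algebraMap B0 Cb (g0 z))) = _
    rw [AlgHom.commutes, ← hcomp]
    rfl
  obtain ⟨B₁, _, _, q, hstd1, hqs, hqalg, hqker⟩ := LO1.exists_lift_standardSmooth I hI Cb
  haveI := hstd1
  let toΛb : B₁ →ₐ[R] Λ ⧸ IΛ :=
    { toRingHom := hb.toRingHom.comp q
      commutes' := by
        intro r
        change hb (q (algebraMap R B₁ r)) = _
        rw [hqalg, AlgHom.commutes]
        exact (IsScalarTower.algebraMap_apply R (R ⧸ I) (Λ ⧸ IΛ) r).symm }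
  have hnil : IsNilpotent IΛ := by
    refine ⟨2, ?_⟩
    rw [hIΛ, ← Ideal.map_pow, hI, Ideal.map_bot]
    rfl
  let ψ : B₁ →ₐ[R] Λ := Algebra.FormallySmooth.lift IΛ hnil toΛb
  have hψ : ∀ x, Ideal.Quotient.mk IΛ (ψ x) = hb (q x) := fun x =>
    Algebra.FormallySmooth.mk_lift IΛ hnil toΛb x
  refine ⟨Cb, inferInstance, inferInstance, B₁, inferInstance, inferInstance, q, gb, ψ, hstd1, hqs,
    hqalg, hqker, ?_⟩
  intro d a hda
  rw [← Ideal.Quotient.eq_zero_iff_mem, map_sub, hψ, hda, hgb, hfbar, sub_self]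

/-- multiplying by an element of `I` kills `I·D` when `I² = 0` -/
theorem mul_eq_zero_of_sq_zero {R D : Type*} [CommRing R] [CommRing D] [Algebra R D] (I : Ideal R)
    (hI : I ^ 2 = ⊥) (ε : R) (hε : ε ∈ I) (x : D) (hx : x ∈ I.map (algebraMap R D)) :
    algebraMap R D ε * x = 0 := by
  have h1 : algebraMap R D ε * x ∈ (I.map (algebraMap R D)) ^ 2 := by
    rw [pow_two]
    exact Ideal.mul_mem_mul (Ideal.mem_map_of_mem _ hε) hx
  rw [← Ideal.map_pow, hI, Ideal.map_bot] at h1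
  exact h1

end Groth.Agent.Lib.Helper8.LO3
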