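import Mathlib
import Groth.Prelude.Def_Smoothing
import Groth.Agent.Lib.Helper8.LO3

set_option backward.isDefEq.respectTransparency.types false
set_option autoImplicit false
set_option linter.unusedSectionVars false
set_option linter.style.haveILetI false

universe u
open MvPolynomial TensorProduct Smoothing

namespace Groth.Agent.Lib.Helper8.LO4

open Groth.Agent.Lib.Helper8

theorem main6821 {R Λ B : Type u} [CommRing R] [CommRing Λ] [Algebra R Λ] [Module.Flat R Λ]
    (I : Ideal R) (hI : I ^ 2 = ⊥) (h : Smoothing.IndSmooth (R ⧸ I) (Λ ⧸ I.map (algebraMap R Λ)))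
    [CommRing B] [Algebra R B] [Algebra.Smooth R B] (φ : B →ₐ[R] Λ) (J : Ideal B)
    (hJ : J ≤ I.map (algebraMap R B)) (hJfg : J.FG) (hφJ : ∀ x ∈ J, φ x = 0) :
    ∃ (B' : Type u) (_ : CommRing B') (_ : Algebra R B'), Algebra.Smooth R B' ∧
      ∃ (α : B →ₐ[R] B') (β : B' →ₐ[R] Λ), (∀ x ∈ J, α x = 0) ∧
        ∀ b : B, β (α b) - φ b ∈ I.map (algebraMap R Λ) := by
  classical
  obtain ⟨t, bgen, hbgen⟩ := Submodule.fg_iff_exists_fin_generating_family.mp hJfg
  have hbJ : ∀ i, bgen i ∈ J := fun i => by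
    rw [← hbgen]; exact Submodule.subset_span ⟨i, rfl⟩
  -- write the generators as combinations of elements of `I`
  have hl : ∀ i : Fin t, ∃ l ∈ Finsupp.supported B B (I : Set R),
      Finsupp.linearCombination B (algebraMap R B) l = bgen i := by
    intro i
    have := hJ (hbJ i)
    rw [Ideal.map, Ideal.span] at this
    exact (Finsupp.mem_span_image_iff_linearCombination B).mp this
  choose l hlI hl using hl
  have hlsum : ∀ i, ∑ j : ↥(l i).support, algebraMap R B j.1 * l i j.1 = bgen i := by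
    intro i
    rw [← hl i, Finsupp.linearCombination_apply, Finsupp.sum,
      Finset.sum_coe_sort (l i).support (fun ε => algebraMap R B ε * l i ε)]
    refine Finset.sum_congr rfl fun ε _ => ?_
    rw [smul_eq_mul, mul_comm]
  -- the relations in Λ are trivial
  have hrel : ∀ i : Fin t, ∑ j : ↥(l i).support, (j.1 : R) • φ (l i j.1) = 0 := by
    intro i
    have h1 : φ (bgen i) = 0 := hφJ _ (hbJ i)
    rw [← hlsum i, map_sum] at h1
    rw [← h1]
    refine Finset.sum_congr rfl fun j _ => ?_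
    rw [map_mul, AlgHom.commutes, Algebra.smul_def]
  have htriv : ∀ i : Fin t, Module.IsTrivialRelation (R := R) (M := Λ)
      (fun j : ↥(l i).support => (j.1 : R)) (fun j : ↥(l i).support => φ (l i j.1)) := fun i =>
    Module.Flat.isTrivialRelation_of_sum_smul_eq_zero (R := R) (M := Λ) (hrel i)
  choose k a y hxy0 hfa0 using htriv
  have hxy : ∀ i (j : ↥(l i).support), φ (l i j.1) = ∑ κ, a i j κ • y i κ := hxy0
  have hfa : ∀ i (κ : Fin (k i)), ∑ j : ↥(l i).support, (j.1 : R) * a i j κ = 0 := hfa0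
  -- the auxiliary finitely presented algebra
  let Z : Type := Σ i : Fin t, Fin (k i)
  let W : Type u := Σ i : Fin t, ↥(l i).support
  let rel : W → MvPolynomial Z B := fun w =>
    C (l w.1 w.2.1) - ∑ κ : Fin (k w.1), C (algebraMap R B (a w.1 w.2 κ)) * X (⟨w.1, κ⟩ : Z)
  set IR : Ideal (MvPolynomial Z B) := Ideal.span (Set.range rel) with hIR
  haveI : Algebra.FinitePresentation R B := inferInstance
  haveI : Algebra.FinitePresentation R (MvPolynomial Z B) :=
    Algebra.FinitePresentation.trans R B (MvPolynomial Z B)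
  have hIRfg : IR.FG := by
    refine ⟨Finset.univ.image rel, ?_⟩
    rw [Finset.coe_image, Finset.coe_univ, Set.image_univ]
  haveI : Algebra.FinitePresentation R (MvPolynomial Z B ⧸ IR) :=
    Algebra.FinitePresentation.quotient hIRfg
  -- the map to Λ
  let ev : MvPolynomial Z B →ₐ[R] Λ :=
    { toRingHom := eval₂Hom φ.toRingHom (fun z : Z => y z.1 z.2)
      commutes' := by
        intro r
        change eval₂Hom φ.toRingHom _ (C (algebraMap R B r)) = _
        rw [eval₂Hom_C]
        exact φ.commutes r }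
  have hevC : ∀ x : B, ev (C x) = φ x := fun x => eval₂Hom_C _ _ x
  have hevX : ∀ z : Z, ev (X z) = y z.1 z.2 := fun z => eval₂Hom_X' _ _ z
  have hevIR : ∀ p ∈ IR, ev p = 0 := by
    intro p hp
    refine Submodule.span_induction ?_ ?_ ?_ ?_ hp
    · rintro _ ⟨w, rfl⟩
      simp only [rel, map_sub, map_sum, map_mul, hevC, hevX, AlgHom.commutes]
      rw [hxy w.1 w.2, sub_eq_zero]
      refine Finset.sum_congr rfl fun κ _ => ?_
      rw [Algebra.smul_def]
    · exact map_zero _
    · intro x y _ _ hx hy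
      rw [map_add, hx, hy, add_zero]
    · intro r x _ hx
      rw [smul_eq_mul, map_mul, hx, mul_zero]
  let ψ'' : (MvPolynomial Z B ⧸ IR) →ₐ[R] Λ := Ideal.Quotient.liftₐ IR ev hevIR
  let ιB : B →ₐ[R] (MvPolynomial Z B ⧸ IR) :=
    (Ideal.Quotient.mkₐ R IR).comp (IsScalarTower.toAlgHom R B (MvPolynomial Z B))
  have hψ''ι : ∀ b, ψ'' (ιB b) = φ b := fun b => hevC b
  -- reduce
  obtain ⟨Cb, _, _, D, _, _, q, gb, ψ, hstd, hqs, hqalg, hqker, hψ⟩ :=
    LO3.reduce I hI h ψ''
  haveI := hstd
  -- the ring map B'' → Cb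
  let ρ' : (MvPolynomial Z B ⧸ IR) →+* Cb :=
    gb.toRingHom.comp (Algebra.TensorProduct.includeRight (R := R) (A := R ⧸ I)
      (B := MvPolynomial Z B ⧸ IR)).toRingHom
  have hρ' : ∀ x, ρ' x = gb (1 ⊗ₜ[R] x) := fun x => rfl
  have hρ'alg : ∀ r : R, ρ' (algebraMap R _ r) = q (algebraMap R D r) := by
    intro r
    rw [hρ', hqalg, Algebra.algebraMap_eq_smul_one, TensorProduct.tmul_smul,
      ← algebraMap_smul (R ⧸ I) r ((1 : R ⧸ I) ⊗ₜ[R] (1 : MvPolynomial Z B ⧸ IR)), map_smul,
      Algebra.algebraMap_eq_smul_one (A := Cb)]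
    congr 1
    exact (map_one gb)
  -- the lift α
  have hkernil : IsNilpotent (RingHom.ker q) := by
    refine ⟨2, ?_⟩
    have h1 : (RingHom.ker q) ^ 2 ≤ (I.map (algebraMap R D)) ^ 2 := Ideal.pow_right_mono hqker 2
    rw [← Ideal.map_pow, hI, Ideal.map_bot] at h1
    exact le_bot_iff.mp h1
  let e : (D ⧸ RingHom.ker q) ≃+* Cb := RingHom.quotientKerEquivOfSurjective hqs
  have he : ∀ d, e (Ideal.Quotient.mk _ d) = q d := fun d => rfl
  let toQ : B →ₐ[R] D ⧸ RingHom.ker q :=
    { toRingHom := e.symm.toRingHom.comp (ρ'.comp ιB.toRingHom)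
      commutes' := by
        intro r
        change e.symm (ρ' (ιB (algebraMap R B r))) = _
        rw [RingEquiv.symm_apply_eq, AlgHom.commutes, hρ'alg]
        rfl }
  let α : B →ₐ[R] D := Algebra.FormallySmooth.lift (RingHom.ker q) hkernil toQ
  have hα : ∀ b, q (α b) = ρ' (ιB b) := by
    intro b
    have h1 : Ideal.Quotient.mk (RingHom.ker q) (α b) = toQ b :=
      Algebra.FormallySmooth.mk_lift (RingHom.ker q) hkernil toQ b
    rw [← he, h1]
    change e (e.symm (ρ' (ιB b))) = _
    rw [RingEquiv.apply_symm_apply]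
  refine ⟨D, inferInstance, inferInstance, inferInstance, α, ψ, ?_, ?_⟩
  · -- α kills J
    have hζ : ∀ z : Z, ∃ ζ : D, q ζ = ρ' (Ideal.Quotient.mk IR (X z)) := fun z => hqs _
    choose ζ hζ using hζ
    have hgen : ∀ i, α (bgen i) = 0 := by
      intro i
      rw [← hlsum i, map_sum]
      have hterm : ∀ j : ↥(l i).support, α (algebraMap R B j.1 * l i j.1) =
          ∑ κ : Fin (k i), algebraMap R D (j.1 * a i j κ) * ζ ⟨i, κ⟩ := by
        intro j
        have hjI : (j.1 : R) ∈ I := hlI i j.2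
        have h1 : α (l i j.1) - ∑ κ : Fin (k i), algebraMap R D (a i j κ) * ζ ⟨i, κ⟩ ∈
            RingHom.ker q := by
          rw [RingHom.mem_ker, map_sub, hα, map_sum, sub_eq_zero]
          have h2 : ιB (l i j.1) = ∑ κ : Fin (k i), algebraMap R _ (a i j κ) *
              Ideal.Quotient.mk IR (X (⟨i, κ⟩ : Z)) := by
            have h3 : rel ⟨i, j⟩ ∈ IR := Ideal.subset_span ⟨⟨i, j⟩, rfl⟩
            have h4 : Ideal.Quotient.mk IR (rel ⟨i, j⟩) = 0 :=
              Ideal.Quotient.eq_zero_iff_mem.mpr h3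
            simp only [rel, map_sub, map_sum, map_mul, sub_eq_zero] at h4
            exact h4
          rw [h2, map_sum]
          refine Finset.sum_congr rfl fun κ _ => ?_
          rw [map_mul, map_mul, hρ'alg, hζ]
        have h5 := LO3.mul_eq_zero_of_sq_zero I hI j.1 hjI _ (hqker h1)
        rw [mul_sub, sub_eq_zero] at h5
        rw [map_mul, AlgHom.commutes, h5, Finset.mul_sum]
        refine Finset.sum_congr rfl fun κ _ => ?_
        rw [map_mul, mul_assoc]
      rw [Finset.sum_congr rfl fun j _ => hterm j, Finset.sum_comm]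
      refine Finset.sum_eq_zero fun κ _ => ?_
      rw [← Finset.sum_mul, ← map_sum, hfa i κ, map_zero, zero_mul]
    intro x hx
    rw [← hbgen] at hx
    refine Submodule.span_induction ?_ ?_ ?_ ?_ hx
    · rintro _ ⟨i, rfl⟩
      exact hgen i
    · exact map_zero _
    · intro x y _ _ hx hy
      rw [map_add, hx, hy, add_zero]
    · intro r x _ hx
      rw [smul_eq_mul, map_mul, hx, mul_zero]
  · intro b
    have := hψ (α b) (ιB b) (hα b)
    rw [hψ''ι] at this
    exact this

end Groth.Agent.Lib.Helper8.LO4
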