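import Mathlib
import Groth.Prelude.Def_Smoothing
import Groth.Agent.Lib.Helper8.LO2
import Groth.Agent.Lib.Helper8.LO4

set_option backward.isDefEq.respectTransparency.types false
set_option autoImplicit false
set_option linter.unusedSectionVars false
set_option linter.style.haveILetI false

universe u
open MvPolynomial TensorProduct Smoothing KaehlerDifferential

namespace Groth.Agent.Lib.Helper8.IS1

open Groth.Agent.Lib.Helper8

/-- `R`-linear maps preserve `I`-multiples -/
theorem linearMap_mem_map {R B B' : Type*} [CommRing R] [CommRing B] [CommRing B'] [Algebra R B]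
    [Algebra R B'] (I : Ideal R) (f : B →ₗ[R] B') (x : B) (hx : x ∈ I.map (algebraMap R B)) :
    f x ∈ I.map (algebraMap R B') := by
  have h1 : x ∈ (I • ⊤ : Submodule R B) := by
    rw [Ideal.smul_top_eq_map]; exact hx
  have h2 : f x ∈ (I • ⊤ : Submodule R B').map LinearMap.id := by
    have h3 : f x ∈ (I • (⊤ : Submodule R B)).map f := Submodule.mem_map_of_mem h1
    rw [Submodule.map_smul''] at h3
    rw [Submodule.map_id]
    exact (smul_mono_right I (le_top : (⊤ : Submodule R B).map f ≤ ⊤)) h3
  rw [Submodule.map_id, Ideal.smul_top_eq_map] at h2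
  exact h2

theorem sq_zero_case {R Λ : Type u} [CommRing R] [CommRing Λ] [Algebra R Λ] (I : Ideal R)
    (hI : I ^ 2 = ⊥) [Module.Flat R Λ]
    (h : Smoothing.IndSmooth (R ⧸ I) (Λ ⧸ I.map (algebraMap R Λ))) :
    Smoothing.IndSmooth R Λ := by
  classical
  intro A _ _ hfp φ
  haveI := hfp
  obtain ⟨B, _, _, hBsm, J, hJle, hJfg, g, k, hkg⟩ := LO2.main2023 I hI h φ
  haveI := hBsm
  let φB : B →ₐ[R] Λ := k.comp (Ideal.Quotient.mkₐ R J)
  have hφBJ : ∀ x ∈ J, φB x = 0 := by
    intro x hx
    change k (Ideal.Quotient.mk J x) = 0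
    rw [Ideal.Quotient.eq_zero_iff_mem.mpr hx, map_zero]
  obtain ⟨B', _, _, hB'sm, α, β, hαJ, hβα⟩ := LO4.main6821 I hI h φB J hJle hJfg hφBJ
  haveI := hB'sm
  set IΛ : Ideal Λ := I.map (algebraMap R Λ) with hIΛ
  have hIΛsq : ∀ x ∈ IΛ, ∀ y ∈ IΛ, x * y = 0 := by
    intro x hx y hy
    have h1 : x * y ∈ IΛ ^ 2 := by rw [pow_two]; exact Ideal.mul_mem_mul hx hy
    rw [hIΛ, ← Ideal.map_pow, hI, Ideal.map_bot] at h1
    exact h1
  -- the derivation
  letI : Algebra B Λ := φB.toRingHom.toAlgebra
  have halgB : ∀ b : B, algebraMap B Λ b = φB b := fun b => rfl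
  haveI : IsScalarTower R B Λ := IsScalarTower.of_algebraMap_eq (fun r => (φB.commutes r).symm)
  have hDmem : ∀ b, φB b - β (α b) ∈ IΛ := by
    intro b
    have := hβα b
    rw [← neg_sub]
    exact neg_mem this
  let Dv : Derivation R B Λ :=
    { toLinearMap := φB.toLinearMap - (β.comp α).toLinearMap
      map_one_eq_zero' := by simp
      leibniz' := by
        intro a b
        simp only [LinearMap.sub_apply, AlgHom.toLinearMap_apply, AlgHom.comp_apply, map_mul,
          Algebra.smul_def, halgB]
        have := hIΛsq _ (hDmem a) _ (hDmem b)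
        linear_combination (-1 : Λ) * this }
  have hDv : ∀ b, Dv b = φB b - β (α b) := fun b => rfl
  -- generators and dual basis of the differentials
  obtain ⟨n, f, hf⟩ := Algebra.FiniteType.iff_quotient_mvPolynomial''.mp
    (inferInstance : Algebra.FiniteType R B)
  let bg : Fin n → B := fun i => f (MvPolynomial.X i)
  let π : (Fin n → B) →ₗ[B] Ω[B⁄R] := Fintype.linearCombination B (fun i => D R B (bg i))
  have hπ : ∀ i, π (Pi.single i 1) = D R B (bg i) := by
    intro i
    simp [π, Fintype.linearCombination_apply_single]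
  have hπs : Function.Surjective π := by
    rw [← LinearMap.range_eq_top, eq_top_iff, ← KaehlerDifferential.span_range_derivation R B,
      Submodule.span_le]
    rintro _ ⟨x, rfl⟩
    obtain ⟨q, rfl⟩ := hf x
    induction q using MvPolynomial.induction_on with
    | C r =>
      rw [← MvPolynomial.algebraMap_eq, AlgHom.commutes, Derivation.map_algebraMap]
      exact Submodule.zero_mem _
    | add p q hp hq =>
      rw [map_add, map_add]
      exact Submodule.add_mem _ hp hq
    | mul_X p i hp =>
      rw [map_mul, Derivation.leibniz]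
      refine Submodule.add_mem _ (Submodule.smul_mem _ _ ⟨Pi.single i 1, hπ i⟩)
        (Submodule.smul_mem _ _ hp)
  obtain ⟨ξ, hξ⟩ := Module.projective_lifting_property π LinearMap.id hπs
  -- the coefficient functions
  let c : Fin n → B →ₗ[R] B := fun i =>
    ((LinearMap.proj i : (Fin n → B) →ₗ[B] B).restrictScalars R).comp
      ((ξ.restrictScalars R).comp (D R B).toLinearMap)
  have hc : ∀ i b, c i b = ξ (D R B b) i := fun i b => rfl
  have hcmul : ∀ i a b, c i (a * b) = a * c i b + b * c i a := by
    intro i a b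
    rw [hc, hc, hc, Derivation.leibniz, map_add, map_smul, map_smul]
    simp
  have hDsum : ∀ b, Dv b = ∑ i, φB (c i b) * Dv (bg i) := by
    intro b
    have h1 : D R B b = ∑ i, c i b • D R B (bg i) := by
      have h2 : π (ξ (D R B b)) = D R B b := by
        have := LinearMap.congr_fun hξ (D R B b)
        exact this
      conv_lhs => rw [← h2]
      simp only [π, Fintype.linearCombination_apply]
      exact Finset.sum_congr rfl fun i _ => rfl
    have h3 : Dv.liftKaehlerDifferential (D R B b) = Dv b :=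
      Derivation.liftKaehlerDifferential_comp_D Dv b
    rw [← h3, h1, map_sum]
    refine Finset.sum_congr rfl fun i _ => ?_
    rw [map_smul, Derivation.liftKaehlerDifferential_comp_D, Algebra.smul_def, halgB]
  -- write the values of the derivation on generators
  have hl : ∀ i : Fin n, ∃ l ∈ Finsupp.supported Λ Λ (I : Set R),
      Finsupp.linearCombination Λ (algebraMap R Λ) l = Dv (bg i) := by
    intro i
    have := hDmem (bg i)
    rw [hIΛ, Ideal.map, Ideal.span] at this
    exact (Finsupp.mem_span_image_iff_linearCombination Λ).mp this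
  choose l hlI hl using hl
  have hlsum : ∀ i, ∑ j : ↥(l i).support, algebraMap R Λ j.1 * l i j.1 = Dv (bg i) := by
    intro i
    rw [← hl i, Finsupp.linearCombination_apply, Finsupp.sum,
      Finset.sum_coe_sort (l i).support (fun ε => algebraMap R Λ ε * l i ε)]
    refine Finset.sum_congr rfl fun ε _ => ?_
    rw [smul_eq_mul, mul_comm]
  let Z : Type u := Σ i : Fin n, ↥(l i).support
  haveI : Algebra.Smooth B' (MvPolynomial Z B') := ⟨inferInstance, inferInstance⟩
  haveI : Algebra.Smooth R (MvPolynomial Z B') := Algebra.Smooth.comp R B' (MvPolynomial Z B')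
  have hZI : ∀ z : Z, (z.2.1 : R) ∈ I := fun z => hlI z.1 z.2.2
  -- the correction term
  let Nl : B →ₗ[R] MvPolynomial Z B' :=
    { toFun := fun b => ∑ z : Z, C (algebraMap R B' z.2.1 * α (c z.1 b)) * X z
      map_add' := by
        intro a b
        rw [← Finset.sum_add_distrib]
        refine Finset.sum_congr rfl fun z _ => ?_
        rw [map_add, map_add, mul_add, C_add, add_mul]
      map_smul' := by
        intro r b
        rw [Finset.smul_sum]
        refine Finset.sum_congr rfl fun z _ => ?_
        rw [map_smul, map_smul, RingHom.id_apply, Algebra.smul_def,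
          Algebra.smul_def (A := MvPolynomial Z B'), MvPolynomial.algebraMap_apply,
          show algebraMap R B' z.2.1 * (algebraMap R B' r * α (c z.1 b)) =
            algebraMap R B' r * (algebraMap R B' z.2.1 * α (c z.1 b)) by ring, C_mul, mul_assoc] }
  have hNl : ∀ b, Nl b = ∑ z : Z, C (algebraMap R B' z.2.1 * α (c z.1 b)) * X z := fun b => rfl
  set 𝔞 : Ideal (MvPolynomial Z B') := I.map (algebraMap R (MvPolynomial Z B')) with h𝔞
  have hNmem : ∀ b, Nl b ∈ 𝔞 := by
    intro b
    rw [hNl]
    refine Ideal.sum_mem _ fun z _ => ?_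
    rw [C_mul, mul_assoc]
    refine Ideal.mul_mem_right _ _ ?_
    exact Ideal.mem_map_of_mem _ (hZI z)
  have h𝔞sq : ∀ x ∈ 𝔞, ∀ y ∈ 𝔞, x * y = 0 := by
    intro x hx y hy
    have h1 : x * y ∈ 𝔞 ^ 2 := by rw [pow_two]; exact Ideal.mul_mem_mul hx hy
    rw [h𝔞, ← Ideal.map_pow, hI, Ideal.map_bot] at h1
    exact h1
  have hNmul : ∀ a b, Nl (a * b) = C (α a) * Nl b + C (α b) * Nl a := by
    intro a b
    rw [hNl, hNl, hNl, Finset.mul_sum, Finset.mul_sum, ← Finset.sum_add_distrib]
    refine Finset.sum_congr rfl fun z _ => ?_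
    rw [hcmul]
    simp only [map_add, map_mul]
    ring
  have hN1 : Nl 1 = 0 := by
    have h1 := hNmul 1 1
    rw [mul_one, map_one α, C_1, one_mul] at h1
    have h2 : Nl 1 + Nl 1 = Nl 1 + 0 := by rw [add_zero]; exact h1.symm
    exact add_left_cancel h2
  let CA : B' →ₐ[R] MvPolynomial Z B' := IsScalarTower.toAlgHom R B' (MvPolynomial Z B')
  have hCA : ∀ x, CA x = C x := fun x => rfl
  let α'' : B →ₐ[R] MvPolynomial Z B' :=
    AlgHom.ofLinearMap ((CA.comp α).toLinearMap + Nl)
      (by
        simp only [LinearMap.add_apply, AlgHom.toLinearMap_apply]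
        rw [hN1, add_zero, map_one])
      (by
        intro a b
        simp only [LinearMap.add_apply, AlgHom.toLinearMap_apply, AlgHom.comp_apply, hCA, map_mul,
          hNmul]
        have := h𝔞sq _ (hNmem a) _ (hNmem b)
        linear_combination (-1 : MvPolynomial Z B') * this)
  have hα'' : ∀ b, α'' b = C (α b) + Nl b := fun b => rfl
  -- the map to Λ
  let β'' : MvPolynomial Z B' →ₐ[R] Λ :=
    { toRingHom := eval₂Hom β.toRingHom (fun z : Z => l z.1 z.2.1)
      commutes' := by
        intro r
        change eval₂Hom β.toRingHom _ (C (algebraMap R B' r)) = _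
        rw [eval₂Hom_C]
        exact β.commutes r }
  have hβ''C : ∀ x : B', β'' (C x) = β x := fun x => eval₂Hom_C _ _ x
  have hβ''X : ∀ z : Z, β'' (X z) = l z.1 z.2.1 := fun z => eval₂Hom_X' _ _ z
  have hεβα : ∀ (ε : R), ε ∈ I → ∀ x : B, algebraMap R Λ ε * β (α x) = algebraMap R Λ ε * φB x := by
    intro ε hε x
    have := LO3.mul_eq_zero_of_sq_zero I hI ε hε _ (hβα x)
    rw [mul_sub, sub_eq_zero] at this
    exact this
  have hβ''α'' : ∀ b, β'' (α'' b) = φB b := by
    intro b
    rw [hα'', map_add, hβ''C, hNl, map_sum]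
    have h1 : ∀ z : Z, β'' (C (algebraMap R B' z.2.1 * α (c z.1 b)) * X z) =
        φB (c z.1 b) * (algebraMap R Λ z.2.1 * l z.1 z.2.1) := by
      intro z
      rw [map_mul, hβ''C, hβ''X, map_mul, AlgHom.commutes, hεβα _ (hZI z)]
      ring
    rw [Finset.sum_congr rfl fun z _ => h1 z]
    have h2 : ∑ z : Z, φB (c z.1 b) * (algebraMap R Λ z.2.1 * l z.1 z.2.1) =
        ∑ i, φB (c i b) * Dv (bg i) := by
      refine (Fintype.sum_sigma (fun z : (Σ i : Fin n, ↥(l i).support) =>
        φB (c z.1 b) * (algebraMap R Λ z.2.1 * l z.1 z.2.1))).trans ?_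
      refine Finset.sum_congr rfl fun i _ => ?_
      rw [← hlsum i, Finset.mul_sum]
    rw [h2, ← hDsum, hDv]
    ring
  have hα''J : ∀ x ∈ J, α'' x = 0 := by
    intro x hx
    rw [hα'', hαJ x hx, map_zero, zero_add, hNl]
    refine Finset.sum_eq_zero fun z _ => ?_
    have h1 : c z.1 x ∈ I.map (algebraMap R B) := linearMap_mem_map I (c z.1) x (hJle hx)
    have h2 : α (c z.1 x) ∈ I.map (algebraMap R B') := linearMap_mem_map I α.toLinearMap _ h1
    rw [LO3.mul_eq_zero_of_sq_zero I hI _ (hZI z) _ h2, map_zero, zero_mul]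
  -- conclusion
  let αbar : (B ⧸ J) →ₐ[R] MvPolynomial Z B' := Ideal.Quotient.liftₐ J α'' hα''J
  refine ⟨MvPolynomial Z B', inferInstance, inferInstance, inferInstance, αbar.comp g, β'', ?_⟩
  rw [← hkg, ← AlgHom.comp_assoc]
  congr 1
  apply AlgHom.ext
  intro y
  obtain ⟨b, rfl⟩ := Ideal.Quotient.mk_surjective y
  exact hβ''α'' b

end Groth.Agent.Lib.Helper8.IS1
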