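import Mathlib
import Groth.Prelude.Def_Smoothing
import Groth.Agent.Lib.Helper8.IS1

set_option backward.isDefEq.respectTransparency.types false
set_option autoImplicit false
set_option linter.unusedSectionVars false
set_option linter.style.haveILetI false

universe u
open TensorProduct Smoothing

namespace Groth.Agent.Lib.Helper8.IS2

open Groth.Agent.Lib.Helper8

theorem finitePresentation_of_ringEquiv {R R' A : Type*} [CommRing R] [CommRing R'] [CommRing A]
    [Algebra R A] [Algebra R' A] (e : R ≃+* R')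
    (hc : ∀ r, algebraMap R A r = algebraMap R' A (e r)) [Algebra.FinitePresentation R' A] :
    Algebra.FinitePresentation R A := by
  letI : Algebra R R' := e.toRingHom.toAlgebra
  haveI : IsScalarTower R R' A := IsScalarTower.of_algebraMap_eq (fun r => hc r)
  haveI : Algebra.FinitePresentation R R' :=
    Algebra.FinitePresentation.equiv (AlgEquiv.ofRingEquiv (f := e) (fun r => rfl))
  exact Algebra.FinitePresentation.trans R R' A

theorem smooth_of_ringEquiv {R R' A : Type*} [CommRing R] [CommRing R'] [CommRing A]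
    [Algebra R A] [Algebra R' A] (e : R ≃+* R')
    (hc : ∀ r, algebraMap R A r = algebraMap R' A (e r)) [Algebra.Smooth R' A] :
    Algebra.Smooth R A := by
  letI : Algebra R R' := e.toRingHom.toAlgebra
  haveI : IsScalarTower R R' A := IsScalarTower.of_algebraMap_eq (fun r => hc r)
  haveI : Algebra.Smooth R R := ⟨inferInstance, inferInstance⟩
  haveI : Algebra.Smooth R R' :=
    Algebra.Smooth.of_equiv (AlgEquiv.ofRingEquiv (f := e) (fun r => rfl))
  exact Algebra.Smooth.comp R R' A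

/-- transport of ind-smoothness along isomorphisms -/
theorem indSmooth_of_ringEquiv {R R' Λ Λ' : Type u} [CommRing R] [CommRing R'] [CommRing Λ]
    [CommRing Λ'] [Algebra R Λ] [Algebra R' Λ'] (e : R ≃+* R') (eΛ : Λ ≃+* Λ')
    (hcomm : ∀ r, eΛ (algebraMap R Λ r) = algebraMap R' Λ' (e r))
    (h : IndSmooth R Λ) : IndSmooth R' Λ' := by
  intro A' _ _ hfp f'
  haveI := hfp
  letI : Algebra R A' := ((algebraMap R' A').comp e.toRingHom).toAlgebra
  have hcA : ∀ r, algebraMap R A' r = algebraMap R' A' (e r) := fun r => rfl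
  haveI : Algebra.FinitePresentation R A' := finitePresentation_of_ringEquiv e hcA
  let f : A' →ₐ[R] Λ :=
    { toRingHom := eΛ.symm.toRingHom.comp f'.toRingHom
      commutes' := by
        intro r
        change eΛ.symm (f' (algebraMap R' A' (e r))) = _
        rw [AlgHom.commutes, ← hcomm, RingEquiv.symm_apply_apply] }
  obtain ⟨B, _, _, hsm, g, h1, hcomp⟩ := h A' inferInstance f
  haveI := hsm
  letI : Algebra R' B := ((algebraMap R B).comp e.symm.toRingHom).toAlgebra
  have hcB : ∀ r', algebraMap R' B r' = algebraMap R B (e.symm r') := fun r => rfl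
  haveI : Algebra.Smooth R' B := smooth_of_ringEquiv e.symm hcB
  let g' : A' →ₐ[R'] B :=
    { toRingHom := g.toRingHom
      commutes' := by
        intro r'
        change g (algebraMap R' A' r') = algebraMap R B (e.symm r')
        rw [← g.commutes, hcA, RingEquiv.apply_symm_apply] }
  let h' : B →ₐ[R'] Λ' :=
    { toRingHom := eΛ.toRingHom.comp h1.toRingHom
      commutes' := by
        intro r'
        change eΛ (h1 (algebraMap R B (e.symm r'))) = _
        rw [h1.commutes, hcomm, RingEquiv.apply_symm_apply] }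
  refine ⟨B, inferInstance, inferInstance, inferInstance, g', h', ?_⟩
  apply AlgHom.ext
  intro a
  change eΛ (h1 (g a)) = f' a
  have : h1 (g a) = f a := by rw [← hcomp]; rfl
  rw [this]
  change eΛ (eΛ.symm (f' a)) = f' a
  rw [RingEquiv.apply_symm_apply]

/-- the double-quotient transport -/
theorem indSmooth_doubleQuot {R Λ : Type u} [CommRing R] [CommRing Λ] [Algebra R Λ] (K I : Ideal R)
    (hKI : K ≤ I) (h : IndSmooth (R ⧸ I) (Λ ⧸ I.map (algebraMap R Λ))) :
    IndSmooth ((R ⧸ K) ⧸ I.map (Ideal.Quotient.mk K))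
      ((Λ ⧸ K.map (algebraMap R Λ)) ⧸ (I.map (Ideal.Quotient.mk K)).map
        (algebraMap (R ⧸ K) (Λ ⧸ K.map (algebraMap R Λ)))) := by
  set KΛ : Ideal Λ := K.map (algebraMap R Λ) with hKΛ
  set IΛ : Ideal Λ := I.map (algebraMap R Λ) with hIΛ
  have hKIΛ : KΛ ≤ IΛ := Ideal.map_mono hKI
  have hcompmap : (algebraMap (R ⧸ K) (Λ ⧸ KΛ)).comp (Ideal.Quotient.mk K) =
      (Ideal.Quotient.mk KΛ).comp (algebraMap R Λ) := by
    ext r
    rfl
  have heq : (I.map (Ideal.Quotient.mk K)).map (algebraMap (R ⧸ K) (Λ ⧸ KΛ)) =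
      IΛ.map (Ideal.Quotient.mk KΛ) := by
    rw [Ideal.map_map, hIΛ, Ideal.map_map, hcompmap]
  let e' : (R ⧸ K) ⧸ I.map (Ideal.Quotient.mk K) ≃+* R ⧸ I :=
    DoubleQuot.quotQuotEquivQuotOfLE hKI
  let eΛ' : ((Λ ⧸ KΛ) ⧸ (I.map (Ideal.Quotient.mk K)).map (algebraMap (R ⧸ K) (Λ ⧸ KΛ))) ≃+*
      Λ ⧸ IΛ :=
    (Ideal.quotEquivOfEq heq).trans (DoubleQuot.quotQuotEquivQuotOfLE hKIΛ)
  have hfwd : ∀ x, eΛ' (algebraMap _ _ x) = algebraMap (R ⧸ I) (Λ ⧸ IΛ) (e' x) := by
    intro x
    obtain ⟨x1, rfl⟩ := Ideal.Quotient.mk_surjective x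
    obtain ⟨r, rfl⟩ := Ideal.Quotient.mk_surjective x1
    rfl
  refine indSmooth_of_ringEquiv e'.symm eΛ'.symm ?_ h
  intro r
  rw [RingEquiv.symm_apply_eq, hfwd, RingEquiv.apply_symm_apply]

theorem flat_quotient {R Λ : Type u} [CommRing R] [CommRing Λ] [Algebra R Λ] [Module.Flat R Λ]
    (K : Ideal R) : Module.Flat (R ⧸ K) (Λ ⧸ K.map (algebraMap R Λ)) :=
  Module.Flat.of_linearEquiv
    (Algebra.TensorProduct.quotIdealMapEquivQuotTensor Λ K).toLinearEquiv

theorem main2022_aux : ∀ n : ℕ, ∀ (R Λ : Type u) [CommRing R] [CommRing Λ] [Algebra R Λ]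
    (I : Ideal R), I ^ n = ⊥ → [Module.Flat R Λ] →
    IndSmooth (R ⧸ I) (Λ ⧸ I.map (algebraMap R Λ)) → IndSmooth R Λ := by
  intro n
  induction n using Nat.strong_induction_on with
  | _ n ih =>
    intro R Λ _ _ _ I hIn _ h
    by_cases hn : n ≤ 2
    · have hI2 : I ^ 2 = ⊥ := by
        rw [← le_bot_iff, ← hIn]
        exact Ideal.pow_le_pow_right hn
      exact IS1.sq_zero_case I hI2 h
    · have hn' : 2 < n := not_le.mp hn
      have hKI : I ^ 2 ≤ I := Ideal.pow_le_self (by norm_num)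
      have h2 : IndSmooth (R ⧸ I ^ 2) (Λ ⧸ (I ^ 2).map (algebraMap R Λ)) := by
        haveI := flat_quotient (R := R) (Λ := Λ) (I ^ 2)
        refine IS1.sq_zero_case (I.map (Ideal.Quotient.mk (I ^ 2))) ?_
          (indSmooth_doubleQuot (I ^ 2) I hKI h)
        rw [← Ideal.map_pow, Ideal.map_quotient_self]
      refine ih ((n + 1) / 2) (by omega) R Λ (I ^ 2) ?_ h2
      rw [← le_bot_iff, ← hIn, ← pow_mul]
      exact Ideal.pow_le_pow_right (by omega)

theorem main2022 {R Λ : Type u} [CommRing R] [CommRing Λ]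
    [Algebra R Λ] (I : Ideal R) (hI : IsNilpotent I) [Module.Flat R Λ]
    (h : Smoothing.IndSmooth (R ⧸ I) (Λ ⧸ I.map (algebraMap R Λ))) :
    Smoothing.IndSmooth R Λ := by
  obtain ⟨n, hn⟩ := hI
  exact main2022_aux n R Λ I hn h

end Groth.Agent.Lib.Helper8.IS2
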