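import Mathlib

set_option backward.isDefEq.respectTransparency.types false
set_option autoImplicit false
set_option linter.unusedSectionVars false
set_option linter.style.haveILetI false

universe u v
open MvPolynomial

namespace Groth.Agent.Lib.Helper8.DB2

section Theta

variable {K : Type u} [CommRing K] {ι : Type} {N : Type} (tinv : K)

/-- the substitution `y_v ↦ tinv * x_{inr v}` -/
noncomputable def theta : MvPolynomial ι K →ₐ[K] MvPolynomial (N ⊕ ι) K :=
  aeval (fun v => C tinv * X (Sum.inr v))

theorem theta_X (v : ι) : theta (N := N) tinv (X v) = C tinv * X (Sum.inr v) := by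
  simp [theta]

theorem theta_C (a : K) : theta (ι := ι) (N := N) tinv (C a) = C a := by
  simp [theta]

theorem pderiv_inl_theta [DecidableEq N] [DecidableEq ι] (k : N) (q : MvPolynomial ι K) :
    pderiv (Sum.inl k) (theta (N := N) tinv q) = 0 := by
  induction q using MvPolynomial.induction_on with
  | C a => rw [theta_C, pderiv_C]
  | add p q hp hq => rw [map_add, map_add, hp, hq, add_zero]
  | mul_X p v hp =>
    rw [map_mul, theta_X, Derivation.leibniz, hp, smul_zero, add_zero, Derivation.leibniz,
      pderiv_C, smul_zero, add_zero, pderiv_X]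
    simp

theorem pderiv_inr_theta [DecidableEq N] [DecidableEq ι] (w : ι) (q : MvPolynomial ι K) :
    pderiv (Sum.inr w) (theta (N := N) tinv q) = C tinv * theta (N := N) tinv (pderiv w q) := by
  induction q using MvPolynomial.induction_on with
  | C a => rw [theta_C, pderiv_C, pderiv_C, map_zero, mul_zero]
  | add p q hp hq => rw [map_add, map_add, hp, hq, map_add, map_add, mul_add]
  | mul_X p v hp =>
    rw [map_mul, theta_X, Derivation.leibniz, hp, Derivation.leibniz, pderiv_C, smul_zero,
      add_zero, pderiv_X, Derivation.leibniz, pderiv_X, map_add]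
    simp only [smul_eq_mul, map_mul, theta_X]
    by_cases h : v = w
    · subst h
      simp only [Pi.single_eq_same, map_one]
      ring
    · have h1 : (Pi.single (M := fun _ => MvPolynomial (N ⊕ ι) K) (Sum.inr w : N ⊕ ι)
          (1 : MvPolynomial (N ⊕ ι) K)) (Sum.inr v) = 0 := by
        rw [Pi.single_apply, if_neg]
        intro h2
        exact h (Sum.inr.inj h2)
      have h2 : (Pi.single (M := fun _ => MvPolynomial ι K) w (1 : MvPolynomial ι K)) v = 0 := by
        rw [Pi.single_apply, if_neg h]
      rw [h1, h2]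
      simp only [mul_zero, map_zero]
      ring

end Theta

section Change

variable {K : Type u} {B' : Type v} [CommRing K] [CommRing B'] [Algebra K B']
  {ι σ : Type} [Fintype σ] [DecidableEq σ] [DecidableEq ι]
  (val : ι → B') (rel : σ → MvPolynomial ι K) (mp : σ ↪ ι)
  (hsurj : Function.Surjective (aeval (R := K) val))
  (hker : RingHom.ker (aeval (R := K) val) = Ideal.span (Set.range rel))
  (hjac : IsUnit (aeval (R := K) val
    (Matrix.det (Matrix.of fun j k : σ => pderiv (mp k) (rel j)))))
  {n : ℕ} (b : Fin n → B') (t tinv : K) (ht : t * tinv = 1)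

/-- the new evaluation map -/
noncomputable def W : MvPolynomial (Fin n ⊕ ι) K →ₐ[K] B' :=
  aeval (Sum.elim b (fun v => t • val v))

/-- the new columns -/
def cols : (Fin n ⊕ σ) ↪ (Fin n ⊕ ι) :=
  ⟨Sum.map id mp, Function.Injective.sumMap Function.injective_id mp.injective⟩

include hsurj hker hjac ht in
theorem exists_pres :
    ∃ (F : (Fin n ⊕ σ) → MvPolynomial (Fin n ⊕ ι) K),
      Function.Surjective (W val b t) ∧
      RingHom.ker (W val b t) = Ideal.span (Set.range F) ∧
      IsUnit (W val b t (Matrix.det (Matrix.of fun j k : Fin n ⊕ σ =>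
        pderiv (cols mp k) (F j)))) := by
  classical
  have hq : ∀ i : Fin n, ∃ q : MvPolynomial ι K, aeval val q = b i := fun i => hsurj (b i)
  choose q hq using hq
  let θ : MvPolynomial ι K →ₐ[K] MvPolynomial (Fin n ⊕ ι) K := theta (N := Fin n) tinv
  let ψ : MvPolynomial (Fin n ⊕ ι) K →ₐ[K] MvPolynomial ι K :=
    aeval (Sum.elim q (fun v => C t * X v))
  let F : (Fin n ⊕ σ) → MvPolynomial (Fin n ⊕ ι) K :=
    Sum.elim (fun i => X (Sum.inl i) - θ (q i)) (fun j => θ (rel j))
  set I : Ideal (MvPolynomial (Fin n ⊕ ι) K) := Ideal.span (Set.range F) with hI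
  have hWθ : ∀ p, W val b t (θ p) = aeval val p := by
    intro p
    have : (W val b t).comp θ = aeval val := by
      apply MvPolynomial.algHom_ext
      intro v
      simp only [AlgHom.comp_apply, θ, theta_X, W, map_mul, aeval_C, aeval_X, Sum.elim_inr,
        Algebra.smul_def]
      rw [← mul_assoc, ← map_mul, mul_comm tinv t, ht, map_one, one_mul]
    rw [← this]
    rfl
  have hWs : Function.Surjective (W val b t) := by
    intro y
    obtain ⟨p, rfl⟩ := hsurj y
    exact ⟨θ p, hWθ p⟩
  have hWF : ∀ j, W val b t (F j) = 0 := by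
    rintro (i | j)
    · simp only [F, Sum.elim_inl, map_sub, hWθ, hq]
      simp [W]
    · simp only [F, Sum.elim_inr, hWθ]
      have : rel j ∈ RingHom.ker (aeval (R := K) val) := by
        rw [hker]; exact Ideal.subset_span ⟨j, rfl⟩
      exact this
  have hIker : I ≤ RingHom.ker (W val b t) := by
    rw [hI, Ideal.span_le]
    rintro _ ⟨j, rfl⟩
    exact hWF j
  have hθψ : ∀ p, p - θ (ψ p) ∈ I := by
    intro p
    induction p using MvPolynomial.induction_on with
    | C a =>
      have : θ (ψ (C a)) = C a := by simp [θ, ψ]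
      rw [this, sub_self]; exact zero_mem _
    | add p q hp hq =>
      have : p + q - θ (ψ (p + q)) = (p - θ (ψ p)) + (q - θ (ψ q)) := by
        rw [map_add, map_add]; ring
      rw [this]; exact add_mem hp hq
    | mul_X p v hp =>
      have hX : X v - θ (ψ (X v)) ∈ I := by
        rcases v with i | w
        · have : θ (ψ (X (Sum.inl i))) = θ (q i) := by simp [ψ]
          rw [this]
          exact Ideal.subset_span ⟨Sum.inl i, rfl⟩
        · have : θ (ψ (X (Sum.inr w))) = X (Sum.inr w) := by
            simp only [ψ, aeval_X, Sum.elim_inr, map_mul, θ, theta_X]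
            have h1 : (theta (ι := ι) (N := Fin n) tinv) (C t) = C t := theta_C tinv t
            rw [h1, ← mul_assoc, ← C_mul, ht, C_1, one_mul]
          rw [this, sub_self]; exact zero_mem _
      have : p * X v - θ (ψ (p * X v)) =
          (p - θ (ψ p)) * X v + θ (ψ p) * (X v - θ (ψ (X v))) := by
        rw [map_mul, map_mul]; ring
      rw [this]
      exact add_mem (Ideal.mul_mem_right _ _ hp) (Ideal.mul_mem_left _ _ hX)
  have hkerI : RingHom.ker (W val b t) ≤ I := by
    intro p hp
    rw [RingHom.mem_ker] at hp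
    have h1 : W val b t (θ (ψ p)) = 0 := by
      have h2 := hIker (hθψ p)
      rw [RingHom.mem_ker, map_sub, hp, zero_sub, neg_eq_zero] at h2
      exact h2
    rw [hWθ] at h1
    have h3 : ψ p ∈ Ideal.span (Set.range rel) := by
      rw [← hker]; exact h1
    have h4 : θ (ψ p) ∈ I := by
      have h5 : θ (ψ p) ∈ (Ideal.span (Set.range rel)).map (θ : MvPolynomial ι K →+* _) :=
        Ideal.mem_map_of_mem _ h3
      rw [Ideal.map_span] at h5
      refine (Ideal.span_mono ?_) h5
      rintro _ ⟨_, ⟨j, rfl⟩, rfl⟩
      exact ⟨Sum.inr j, rfl⟩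
    have : p = (p - θ (ψ p)) + θ (ψ p) := by ring
    rw [this]
    exact add_mem (hθψ p) h4
  refine ⟨F, hWs, le_antisymm hkerI hIker, ?_⟩
  -- the Jacobian
  set M : Matrix (Fin n ⊕ σ) (Fin n ⊕ σ) (MvPolynomial (Fin n ⊕ ι) K) :=
    Matrix.of fun j k : Fin n ⊕ σ => pderiv (cols (n := n) mp k) (F j) with hM
  let J : Matrix σ σ (MvPolynomial ι K) := Matrix.of fun j k : σ => pderiv (mp k) (rel j)
  have hMblock : M = Matrix.fromBlocks 1 M.toBlocks₁₂ 0
      ((C tinv : MvPolynomial (Fin n ⊕ ι) K) • θ.mapMatrix J) := by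
    have h11 : M.toBlocks₁₁ = 1 := by
      apply Matrix.ext
      intro i k
      simp only [Matrix.toBlocks₁₁, Matrix.of_apply, hM, F, Sum.elim_inl, cols,
        Function.Embedding.coeFn_mk, Sum.map_inl, id, map_sub, θ, pderiv_inl_theta, sub_zero,
        pderiv_X, Matrix.one_apply]
      by_cases h : i = k
      · subst h; simp
      · rw [if_neg h, Pi.single_apply, if_neg]
        intro h2; exact h (Sum.inl.inj h2)
    have h21 : M.toBlocks₂₁ = 0 := by
      apply Matrix.ext
      intro j k
      simp only [Matrix.toBlocks₂₁, Matrix.of_apply, hM, F, Sum.elim_inr, cols,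
        Function.Embedding.coeFn_mk, Sum.map_inl, id, θ, pderiv_inl_theta, Matrix.zero_apply]
    have h22 : M.toBlocks₂₂ = (C tinv : MvPolynomial (Fin n ⊕ ι) K) • θ.mapMatrix J := by
      apply Matrix.ext
      intro j k
      simp only [Matrix.toBlocks₂₂, Matrix.of_apply, hM, F, Sum.elim_inr, cols,
        Function.Embedding.coeFn_mk, Sum.map_inr, θ, pderiv_inr_theta, Matrix.smul_apply,
        AlgHom.mapMatrix_apply, Matrix.map_apply, J, smul_eq_mul]
    conv_lhs => rw [← Matrix.fromBlocks_toBlocks M, h11, h21, h22]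
  have hdet : M.det = C tinv ^ Fintype.card σ * θ J.det := by
    rw [hMblock, Matrix.det_fromBlocks_zero₂₁, Matrix.det_one, one_mul, Matrix.det_smul,
      ← AlgHom.map_det]
  rw [hdet, map_mul, hWθ]
  refine IsUnit.mul ?_ hjac
  rw [map_pow]
  refine IsUnit.pow _ ?_
  have : W val b t (C tinv) * W val b t (C t) = 1 := by
    rw [← map_mul, ← C_mul, mul_comm, ht, C_1, map_one]
  exact IsUnit.of_mul_eq_one _ this

end Change

end Groth.Agent.Lib.Helper8.DB2
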