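import Mathlib

set_option backward.isDefEq.respectTransparency.types false
set_option autoImplicit false
set_option linter.unusedSectionVars false
set_option linter.style.haveILetI false

universe u v
open MvPolynomial TensorProduct

namespace Groth.Agent.Lib.Helper8.DB3

section Poly

variable {R : Type u} [CommRing R] (S : Submonoid R) (Rₛ : Type u) [CommRing Rₛ] [Algebra R Rₛ]
  [IsLocalization S Rₛ] {V : Type}

attribute [local instance] MvPolynomial.algebraMvPolynomial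

/-- clearing denominators of a polynomial -/
theorem clear_denoms (F : MvPolynomial V Rₛ) :
    ∃ (f : MvPolynomial V R) (s : R), s ∈ S ∧
      MvPolynomial.map (algebraMap R Rₛ) f = C (algebraMap R Rₛ s) * F := by
  obtain ⟨⟨f, m⟩, hfm⟩ := IsLocalization.surj (S.map (C (σ := V))) F
  obtain ⟨s, hs, hsm⟩ := m.2
  refine ⟨f, s, hs, ?_⟩
  simp only [MvPolynomial.algebraMap_def] at hfm
  rw [← hfm, ← hsm, MvPolynomial.map_C, mul_comm]

/-- membership in an extended ideal, after clearing denominators -/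
theorem clear_mem (J : Ideal (MvPolynomial V R)) (p : MvPolynomial V R)
    (h : MvPolynomial.map (algebraMap R Rₛ) p ∈ J.map (MvPolynomial.map (algebraMap R Rₛ))) :
    ∃ s : R, s ∈ S ∧ C s * p ∈ J := by
  have h' : algebraMap (MvPolynomial V R) (MvPolynomial V Rₛ) p ∈
      J.map (algebraMap (MvPolynomial V R) (MvPolynomial V Rₛ)) := h
  rw [IsLocalization.mem_map_algebraMap_iff (S.map (C (σ := V)))] at h'
  obtain ⟨⟨a, m⟩, ham⟩ := h'
  rw [← map_mul, IsLocalization.eq_iff_exists (S.map (C (σ := V)))] at ham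
  obtain ⟨c, hc⟩ := ham
  obtain ⟨s, hs, hsm⟩ := m.2
  obtain ⟨s', hs', hsc⟩ := c.2
  refine ⟨s' * s, S.mul_mem hs' hs, ?_⟩
  have : C (s' * s) * p = (c : MvPolynomial V R) * (a : MvPolynomial V R) := by
    rw [← hc, ← hsc, ← hsm, C_mul]
    ring
  rw [this]
  exact Ideal.mul_mem_left _ _ a.2

end Poly

section Tensor

variable {R : Type u} [CommRing R] (S : Submonoid R) (Rₛ : Type u) [CommRing Rₛ] [Algebra R Rₛ]
  [IsLocalization S Rₛ] (Λ : Type u) [CommRing Λ] [Algebra R Λ]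

theorem isLocalizedModule_mk : IsLocalizedModule S (TensorProduct.mk R Rₛ Λ 1) :=
  (isLocalizedModule_iff_isBaseChange S Rₛ _).mpr (TensorProduct.isBaseChange R Λ Rₛ)

theorem exists_smul_eq_tmul (z : Rₛ ⊗[R] Λ) : ∃ s : R, s ∈ S ∧ ∃ l : Λ, s • z = 1 ⊗ₜ[R] l := by
  haveI := isLocalizedModule_mk S Rₛ Λ
  obtain ⟨⟨l, s⟩, hls⟩ := IsLocalizedModule.surj S (TensorProduct.mk R Rₛ Λ 1) z
  exact ⟨s.1, s.2, l, hls⟩

theorem exists_smul_eq_zero (l : Λ) (h : (1 : Rₛ) ⊗ₜ[R] l = 0) : ∃ s : R, s ∈ S ∧ s • l = 0 := by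
  haveI := isLocalizedModule_mk S Rₛ Λ
  have h' : TensorProduct.mk R Rₛ Λ 1 l = 0 := h
  rw [IsLocalizedModule.eq_zero_iff S] at h'
  obtain ⟨s, hs⟩ := h'
  exact ⟨s.1, s.2, hs⟩

/-- common denominators for finite families -/
theorem exists_smul_eq_tmul_family {ι : Type} [Fintype ι] (z : ι → Rₛ ⊗[R] Λ) :
    ∃ s : R, s ∈ S ∧ ∃ l : ι → Λ, ∀ v, s • z v = 1 ⊗ₜ[R] l v := by
  classical
  have h := fun v => exists_smul_eq_tmul S Rₛ Λ (z v)
  choose s hs l hl using h
  refine ⟨∏ v, s v, S.prod_mem (fun v _ => hs v), fun v => (∏ w ∈ Finset.univ.erase v, s w) • l v,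
    fun v => ?_⟩
  rw [← Finset.prod_erase_mul _ _ (Finset.mem_univ v), mul_smul, hl, TensorProduct.tmul_smul]

end Tensor

end Groth.Agent.Lib.Helper8.DB3
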