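import Mathlib
import Groth.Prelude.Def_Smoothing
import Groth.Agent.Lib.Helper25.StdElem

set_option backward.isDefEq.respectTransparency.types false
set_option autoImplicit false
set_option linter.unusedSectionVars false
set_option linter.style.haveILetI false

universe u
open MvPolynomial Smoothing

namespace Groth.Agent.Lib.Helper8.DB1

variable {R A : Type u} [CommRing R] [CommRing A] [Algebra R A]

/-- Fintype-indexed version of `isElementaryStandard_of_minor`. -/
theorem isElementaryStandard_of_minor_fintype {V K L : Type} [Fintype V] [Fintype K] [Fintype L]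
    [DecidableEq L]
    (f : K → MvPolynomial V R)
    (φ : MvPolynomial V R →ₐ[R] A) (hφ : Function.Surjective φ)
    (hker : RingHom.ker φ.toRingHom = Ideal.span (Set.range f))
    (rows : L ↪ K) (cols : L ↪ V) (a a' : A)
    (ha : a = a' * φ (Matrix.det (Matrix.of fun j k : L => pderiv (cols k) (f (rows j)))))
    (hkill : ∀ a₁ : MvPolynomial V R, φ a₁ = a → ∀ ℓ : K,
      a₁ * f ℓ ∈ Ideal.span (Set.range (f ∘ rows)) ⊔ Ideal.span (Set.range f) ^ 2) :
    IsElementaryStandard R A a := by
  classical
  let eV : V ≃ Fin (Fintype.card V) := Fintype.equivFin V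
  let eK : K ≃ Fin (Fintype.card K) := Fintype.equivFin K
  let eL : L ≃ Fin (Fintype.card L) := Fintype.equivFin L
  let ρ : MvPolynomial V R ≃ₐ[R] MvPolynomial (Fin (Fintype.card V)) R := renameEquiv R eV
  have hρ : ∀ p, ρ p = rename eV p := fun p => rfl
  let f' : Fin (Fintype.card K) → MvPolynomial (Fin (Fintype.card V)) R :=
    fun j => ρ (f (eK.symm j))
  let φ' : MvPolynomial (Fin (Fintype.card V)) R →ₐ[R] A := φ.comp ρ.symm.toAlgHom
  have hφ'ρ : ∀ p, φ' (ρ p) = φ p := fun p => by
    change φ (ρ.symm (ρ p)) = φ p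
    rw [ρ.symm_apply_apply]
  let rows' : Fin (Fintype.card L) ↪ Fin (Fintype.card K) :=
    (eL.symm.toEmbedding.trans rows).trans eK.toEmbedding
  let cols' : Fin (Fintype.card L) ↪ Fin (Fintype.card V) :=
    (eL.symm.toEmbedding.trans cols).trans eV.toEmbedding
  have hrange : Set.range f' = ρ '' Set.range f := by
    ext x
    constructor
    · rintro ⟨j, rfl⟩
      exact ⟨f (eK.symm j), ⟨_, rfl⟩, rfl⟩
    · rintro ⟨_, ⟨j, rfl⟩, rfl⟩
      exact ⟨eK j, by simp [f']⟩
  have hspan : Ideal.span (Set.range f') =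
      (Ideal.span (Set.range f)).map (ρ : MvPolynomial V R →+* _) := by
    rw [Ideal.map_span, hrange]
    rfl
  have hker' : RingHom.ker φ'.toRingHom = Ideal.span (Set.range f') := by
    rw [hspan, ← hker]
    ext x
    rw [RingHom.mem_ker]
    constructor
    · intro hx
      refine (Ideal.mem_map_iff_of_surjective _ ρ.surjective).mpr ⟨ρ.symm x, ?_, ρ.apply_symm_apply x⟩
      rw [RingHom.mem_ker]
      exact hx
    · intro hx
      obtain ⟨y, hy, rfl⟩ := (Ideal.mem_map_iff_of_surjective _ ρ.surjective).mp hx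
      rw [RingHom.mem_ker] at hy
      change φ' (ρ y) = 0
      rw [hφ'ρ]
      exact hy
  have hminor : jacobianMinor f' rows' cols' =
      ρ (Matrix.det (Matrix.of fun j k : L => pderiv (cols k) (f (rows j)))) := by
    unfold jacobianMinor
    rw [AlgEquiv.map_det]
    have : (Matrix.of fun j k : Fin (Fintype.card L) => pderiv (cols' k) (f' (rows' j))) =
        (ρ.mapMatrix (Matrix.of fun j k : L => pderiv (cols k) (f (rows j)))).submatrix
          eL.symm eL.symm := by
      ext j k
      simp only [Matrix.of_apply, AlgEquiv.mapMatrix_apply, Matrix.map_apply,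
        Matrix.submatrix_apply, f', rows', cols', Function.Embedding.trans_apply,
        Equiv.coe_toEmbedding, Equiv.symm_apply_apply]
      rw [hρ, hρ, pderiv_rename eV.injective]
    rw [this, Matrix.det_submatrix_equiv_self]
  have hsurj' : Function.Surjective φ' := hφ.comp ρ.symm.surjective
  refine Groth.Agent.Lib.Helper25.StdElem.isElementaryStandard_of_minor f' φ' hsurj' hker'
    rows' cols' a a' ?_ ?_
  · rw [hminor, hφ'ρ]
    exact ha
  · intro a₁ ha₁ ℓ
    have h1 := hkill (ρ.symm a₁) ha₁ (eK.symm ℓ)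
    have h2 : ρ (ρ.symm a₁ * f (eK.symm ℓ)) ∈ (Ideal.span (Set.range (f ∘ rows)) ⊔
        Ideal.span (Set.range f) ^ 2).map (ρ : MvPolynomial V R →+* _) :=
      Ideal.mem_map_of_mem _ h1
    rw [map_mul, ρ.apply_symm_apply, Ideal.map_sup, Ideal.map_pow, ← hspan] at h2
    have h3 : (Ideal.span (Set.range (f ∘ rows))).map (ρ : MvPolynomial V R →+* _) =
        Ideal.span (Set.range (f' ∘ rows')) := by
      rw [Ideal.map_span]
      congr 1
      ext x
      constructor
      · rintro ⟨_, ⟨i, rfl⟩, rfl⟩
        refine ⟨eL i, ?_⟩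
        simp [f', rows']
      · rintro ⟨i, rfl⟩
        refine ⟨f (rows (eL.symm i)), ⟨_, rfl⟩, ?_⟩
        simp [f', rows']
    rw [h3] at h2
    exact h2

end Groth.Agent.Lib.Helper8.DB1
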