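import Mathlib
import Groth.Prelude.Def_Smoothing
import Groth.Agent.Lib.Helper8.DB1
import Groth.Agent.Lib.Helper8.DB2
import Groth.Agent.Lib.Helper8.DB3

set_option backward.isDefEq.respectTransparency.types false
set_option autoImplicit false
set_option linter.unusedSectionVars false
set_option linter.style.haveILetI false

universe u
open MvPolynomial TensorProduct Smoothing

namespace Groth.Agent.Lib.Helper8.DB4

open Groth.Agent.Lib.Helper8

variable {R A Λ Rₛ B' : Type u} [CommRing R] [CommRing A] [Algebra R A]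
  [Algebra.FinitePresentation R A] [CommRing Λ] [Algebra R Λ] (φ : A →ₐ[R] Λ) (S : Submonoid R)
  [CommRing Rₛ] [Algebra R Rₛ] [IsLocalization S Rₛ] [CommRing B'] [Algebra Rₛ B']

/-- The data needed to build `B`, in polynomial form. -/
theorem build {V L : Type} [Fintype V] [Fintype L] [DecidableEq L] [DecidableEq V] {n : ℕ}
    (πA : MvPolynomial (Fin n) R →ₐ[R] A) (hπA : Function.Surjective πA)
    {m : ℕ} (G : Fin m → MvPolynomial (Fin n) R) (hG : Ideal.span (Set.range G) =
      RingHom.ker πA.toRingHom)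
    (u : Fin n → V) (lam : V → Λ) (hlam : ∀ i, lam (u i) = φ (πA (X i)))
    (f : L → MvPolynomial V R) (cols : L ↪ V)
    (s0 : R) (hs0 : s0 ∈ S) (a0 : MvPolynomial V R)
    (h2 : C s0 - a0 * Matrix.det (Matrix.of fun j k : L => pderiv (cols k) (f j)) ∈
      Ideal.span (Set.range f))
    (sG : Fin m → R) (hsG : ∀ γ, sG γ ∈ S)
    (h3 : ∀ γ, C (sG γ) * rename u (G γ) ∈ Ideal.span (Set.range f))
    (s' : L → R) (hs' : ∀ j, s' j ∈ S) (h4 : ∀ j, s' j • aeval lam (f j) = 0) :
    ∃ (B : Type u) (_ : CommRing B) (_ : Algebra R B) (α : A →ₐ[R] B) (β : B →ₐ[R] Λ),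
      β.comp α = φ ∧ ∃ s ∈ S, Smoothing.IsElementaryStandard R B (algebraMap R B s) := by
  classical
  let K : Type := L ⊕ Fin m
  let rel : K → MvPolynomial V R := Sum.elim (fun j => C (s' j) * f j) (fun γ => rename u (G γ))
  set IB : Ideal (MvPolynomial V R) := Ideal.span (Set.range rel) with hIB
  set J : Ideal (MvPolynomial V R) := Ideal.span (Set.range f) with hJ
  let mkB : MvPolynomial V R →ₐ[R] (MvPolynomial V R ⧸ IB) := Ideal.Quotient.mkₐ R IB
  have hmkB : Function.Surjective mkB := Ideal.Quotient.mkₐ_surjective R IB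
  have hmkBker : RingHom.ker mkB.toRingHom = Ideal.span (Set.range rel) := by
    ext x
    rw [RingHom.mem_ker]
    exact Ideal.Quotient.eq_zero_iff_mem
  let rows : L ↪ K := ⟨Sum.inl, Sum.inl_injective⟩
  set σ' : R := ∏ j, s' j with hσ'
  -- `C σ' * J ≤ span (rel ∘ rows)`
  have hσJ : ∀ x ∈ J, C σ' * x ∈ Ideal.span (Set.range (rel ∘ rows)) := by
    intro x hx
    refine Submodule.span_induction ?_ ?_ ?_ ?_ hx
    · rintro _ ⟨j, rfl⟩
      have : C σ' * f j = C (∏ w ∈ Finset.univ.erase j, s' w) * (C (s' j) * f j) := by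
        rw [hσ', ← Finset.prod_erase_mul _ _ (Finset.mem_univ j), C_mul]
        ring
      rw [this]
      exact Ideal.mul_mem_left _ _ (Ideal.subset_span ⟨j, rfl⟩)
    · rw [mul_zero]; exact zero_mem _
    · intro x y _ _ hx hy
      rw [mul_add]; exact add_mem hx hy
    · intro r x _ hx
      rw [smul_eq_mul, mul_left_comm]
      exact Ideal.mul_mem_left _ _ hx
  have hrowsIB : Ideal.span (Set.range (rel ∘ rows)) ≤ IB := by
    apply Ideal.span_mono
    rintro _ ⟨j, rfl⟩
    exact ⟨Sum.inl j, rfl⟩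
  -- the maps
  have hkerα : ∀ p ∈ RingHom.ker πA.toRingHom, (mkB.comp (rename u)) p = 0 := by
    intro p hp
    rw [← hG] at hp
    refine Submodule.span_induction ?_ ?_ ?_ ?_ hp
    · rintro _ ⟨γ, rfl⟩
      change mkB (rename u (G γ)) = 0
      have : rename u (G γ) ∈ IB := Ideal.subset_span ⟨Sum.inr γ, rfl⟩
      exact Ideal.Quotient.eq_zero_iff_mem.mpr this
    · exact map_zero _
    · intro x y _ _ hx hy
      rw [map_add, hx, hy, add_zero]
    · intro r x _ hx
      rw [smul_eq_mul, map_mul, hx, mul_zero]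
  let α₀ : (MvPolynomial (Fin n) R ⧸ RingHom.ker πA.toRingHom) →ₐ[R] (MvPolynomial V R ⧸ IB) :=
    Ideal.Quotient.liftₐ _ (mkB.comp (rename u)) hkerα
  let eA : (MvPolynomial (Fin n) R ⧸ RingHom.ker πA.toRingHom) ≃ₐ[R] A :=
    Ideal.quotientKerAlgEquivOfSurjective hπA
  let α : A →ₐ[R] (MvPolynomial V R ⧸ IB) := α₀.comp eA.symm.toAlgHom
  have hα : ∀ p, α (πA p) = mkB (rename u p) := by
    intro p
    have : eA.symm (πA p) = Ideal.Quotient.mk _ p := by
      rw [AlgEquiv.symm_apply_eq]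
      rfl
    change α₀ (eA.symm (πA p)) = _
    rw [this]
    rfl
  let EΛ : MvPolynomial V R →ₐ[R] Λ := aeval lam
  have hEu : ∀ p : MvPolynomial (Fin n) R, EΛ (rename u p) = φ (πA p) := by
    intro p
    have : (EΛ.comp (rename u)) = φ.comp πA := by
      apply MvPolynomial.algHom_ext
      intro i
      simp [EΛ, hlam]
    exact DFunLike.congr_fun this p
  have hkerβ : ∀ p ∈ IB, EΛ p = 0 := by
    intro p hp
    refine Submodule.span_induction ?_ ?_ ?_ ?_ hp
    · rintro _ ⟨j | γ, rfl⟩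
      · change EΛ (C (s' j) * f j) = 0
        rw [map_mul, ← algebraMap_eq, AlgHom.commutes, ← Algebra.smul_def]
        exact h4 j
      · change EΛ (rename u (G γ)) = 0
        rw [hEu]
        have : G γ ∈ RingHom.ker πA.toRingHom := by
          rw [← hG]; exact Ideal.subset_span ⟨γ, rfl⟩
        have h0 : πA (G γ) = 0 := this
        rw [h0, map_zero]
    · exact map_zero _
    · intro x y _ _ hx hy
      rw [map_add, hx, hy, add_zero]
    · intro r x _ hx
      rw [smul_eq_mul, map_mul, hx, mul_zero]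
  let β : (MvPolynomial V R ⧸ IB) →ₐ[R] Λ := Ideal.Quotient.liftₐ IB EΛ hkerβ
  have hβ : ∀ p, β (mkB p) = EΛ p := fun p => rfl
  have hβα : β.comp α = φ := by
    apply AlgHom.ext
    intro a
    obtain ⟨p, rfl⟩ := hπA a
    rw [AlgHom.comp_apply, hα, hβ, hEu]
  refine ⟨MvPolynomial V R ⧸ IB, inferInstance, inferInstance, α, β, hβα, ?_⟩
  set sΓ : R := ∏ γ, sG γ with hsΓ
  set s : R := s0 * sΓ * σ' with hs
  have hsS : s ∈ S := S.mul_mem (S.mul_mem hs0 (S.prod_mem fun γ _ => hsG γ))
    (S.prod_mem fun j _ => hs' j)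
  refine ⟨s, hsS, ?_⟩
  set D : MvPolynomial V R := Matrix.det (Matrix.of fun j k : L => pderiv (cols k) (f j)) with hD
  have hD' : Matrix.det (Matrix.of fun j k : L => pderiv (cols k) (rel (rows j))) = C σ' * D := by
    have : (Matrix.of fun j k : L => pderiv (cols k) (rel (rows j))) =
        Matrix.of fun j k : L => C (s' j) * (Matrix.of fun j k : L => pderiv (cols k) (f j)) j k := by
      apply Matrix.ext
      intro j k
      simp only [Matrix.of_apply, rel, rows, Function.Embedding.coeFn_mk, Sum.elim_inl]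
      rw [Derivation.leibniz, pderiv_C, smul_zero, add_zero, smul_eq_mul]
    rw [this, Matrix.det_mul_column, hσ', map_prod]
  have halg : algebraMap R (MvPolynomial V R ⧸ IB) s = mkB (C s) := rfl
  refine DB1.isElementaryStandard_of_minor_fintype rel mkB hmkB hmkBker rows cols
    (algebraMap R (MvPolynomial V R ⧸ IB) s) (mkB (C sΓ * a0)) ?_ ?_
  · rw [hD', halg, ← map_mul, eq_comm, ← sub_eq_zero, ← map_sub]
    change Ideal.Quotient.mk IB _ = 0
    rw [Ideal.Quotient.eq_zero_iff_mem]
    have : C sΓ * a0 * (C σ' * D) - C s = - (C sΓ * (C σ' * (C s0 - a0 * D))) := by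
      rw [hs, C_mul, C_mul]; ring
    rw [this]
    exact neg_mem (Ideal.mul_mem_left _ _ (hrowsIB (hσJ _ h2)))
  · intro a₁ ha₁ ℓ
    have h1 : a₁ - C s ∈ IB := by
      rw [halg] at ha₁
      have : mkB (a₁ - C s) = 0 := by rw [map_sub, ha₁, sub_self]
      exact Ideal.Quotient.eq_zero_iff_mem.mp this
    have hsplit : a₁ * rel ℓ = C s * rel ℓ + (a₁ - C s) * rel ℓ := by ring
    rw [hsplit]
    refine add_mem (Ideal.mem_sup_left ?_) (Ideal.mem_sup_right ?_)
    · rcases ℓ with j | γ
      · exact Ideal.mul_mem_left _ _ (Ideal.subset_span ⟨j, rfl⟩)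
      · change C s * rename u (G γ) ∈ _
        have : C s * rename u (G γ) =
            C (s0 * ∏ w ∈ Finset.univ.erase γ, sG w) * (C σ' * (C (sG γ) * rename u (G γ))) := by
          rw [hs, hsΓ, ← Finset.prod_erase_mul _ _ (Finset.mem_univ γ), C_mul, C_mul, C_mul, C_mul]
          ring
        rw [this]
        exact Ideal.mul_mem_left _ _ (hσJ _ (h3 γ))
    · rw [pow_two]
      exact Ideal.mul_mem_mul h1 (Ideal.subset_span ⟨ℓ, rfl⟩)

end Groth.Agent.Lib.Helper8.DB4
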