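import Mathlib
import Groth.Prelude.Def_Smoothing
import Groth.Agent.Lib.Helper8.DB2
import Groth.Agent.Lib.Helper8.DB3
import Groth.Agent.Lib.Helper8.DB4
import Groth.Agent.Lib.Helper8.SS3

set_option backward.isDefEq.respectTransparency.types false
set_option autoImplicit false
set_option linter.unusedSectionVars false
set_option linter.style.haveILetI false

universe u
open MvPolynomial TensorProduct Smoothing

namespace Groth.Agent.Lib.Helper8.DB5

open Groth.Agent.Lib.Helper8

variable {R A Λ Rₛ B' : Type u} [CommRing R] [CommRing A] [Algebra R A]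
  [Algebra.FinitePresentation R A] [CommRing Λ] [Algebra R Λ] (φ : A →ₐ[R] Λ) (S : Submonoid R)
  [CommRing Rₛ] [Algebra R Rₛ] [IsLocalization S Rₛ] [CommRing B'] [Algebra Rₛ B']

theorem main_std [Algebra.IsStandardSmooth Rₛ B'] (g : Rₛ ⊗[R] A →ₐ[Rₛ] B')
    (h : B' →ₐ[Rₛ] Rₛ ⊗[R] Λ)
    (hgh : h.comp g = Algebra.TensorProduct.map (AlgHom.id Rₛ Rₛ) φ) :
    ∃ (B : Type u) (_ : CommRing B) (_ : Algebra R B) (α : A →ₐ[R] B) (β : B →ₐ[R] Λ),
      β.comp α = φ ∧ ∃ s ∈ S, Smoothing.IsElementaryStandard R B (algebraMap R B s) := by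
  classical
  obtain ⟨n, πA, hπA, hfg⟩ := (inferInstance : Algebra.FinitePresentation R A).out
  obtain ⟨G0, hG0⟩ := hfg
  obtain ⟨ι, σ, hσfin, hιfin, ⟨P⟩⟩ := (inferInstance : Algebra.IsStandardSmooth Rₛ B').out
  haveI : Fintype ι := Fintype.ofFinite ι
  haveI : Fintype σ := Fintype.ofFinite σ
  -- the generators of `A` in `B'`
  let b : Fin n → B' := fun i => g (1 ⊗ₜ[R] πA (X i))
  -- scaling
  obtain ⟨t, htS, lι, hlι⟩ := DB3.exists_smul_eq_tmul_family S Rₛ Λ (fun v : ι => h (P.val v))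
  set tK : Rₛ := algebraMap R Rₛ t with htK
  have htKu : IsUnit tK := IsLocalization.map_units Rₛ ⟨t, htS⟩
  obtain ⟨tinv, htinv⟩ := htKu.exists_right_inv
  let mp : σ ↪ ι := ⟨P.map, P.map_inj⟩
  have hker0 : RingHom.ker (aeval (R := Rₛ) P.val) = Ideal.span (Set.range P.relation) := by
    rw [P.span_range_relation_eq_ker, Algebra.Generators.ker_eq_ker_aeval_val]
  have hjac0 : IsUnit (aeval (R := Rₛ) P.val
      (Matrix.det (Matrix.of fun j k : σ => pderiv (mp k) (P.relation j)))) := by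
    have h1 := P.jacobian_isUnit
    rw [Algebra.PreSubmersivePresentation.jacobian_eq_jacobiMatrix_det,
      Algebra.Generators.algebraMap_apply] at h1
    have h2 : P.jacobiMatrix = (Matrix.of fun j k : σ => pderiv (mp k) (P.relation j)).transpose := by
      apply Matrix.ext
      intro i j
      rw [Matrix.transpose_apply, Algebra.PreSubmersivePresentation.jacobiMatrix_apply]
      rfl
    rw [h2, Matrix.det_transpose] at h1
    exact h1
  obtain ⟨F, hWs, hWker, hWjac⟩ := DB2.exists_pres P.val P.relation mp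
    P.aeval_val_surjective hker0 hjac0 b tK tinv htinv
  set W : MvPolynomial (Fin n ⊕ ι) Rₛ →ₐ[Rₛ] B' := DB2.W P.val b tK with hW
  let cols : (Fin n ⊕ σ) ↪ (Fin n ⊕ ι) := DB2.cols mp
  -- the images in Λ
  let lam : Fin n ⊕ ι → Λ := Sum.elim (fun i => φ (πA (X i))) lι
  have hgh' : ∀ z, h (g z) = Algebra.TensorProduct.map (AlgHom.id Rₛ Rₛ) φ z := fun z => by
    rw [← hgh]; rfl
  have hlamW : ∀ v, h (W (X v)) = 1 ⊗ₜ[R] lam v := by
    rintro (i | v)
    · have : W (X (Sum.inl i)) = b i := by simp [hW, DB2.W]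
      rw [this, hgh']
      simp [lam]
    · have : W (X (Sum.inr v)) = tK • P.val v := by simp [hW, DB2.W]
      rw [this, map_smul, htK, algebraMap_smul, hlι]
      rfl
  -- clear denominators of the relations
  have hcl := fun j => DB3.clear_denoms S Rₛ (F j)
  choose f tj htj hf using hcl
  set ιm : MvPolynomial (Fin n ⊕ ι) R →+* MvPolynomial (Fin n ⊕ ι) Rₛ :=
    MvPolynomial.map (algebraMap R Rₛ) with hιm
  set J : Ideal (MvPolynomial (Fin n ⊕ ι) R) := Ideal.span (Set.range f) with hJ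
  have hCu : ∀ j, IsUnit (C (algebraMap R Rₛ (tj j)) : MvPolynomial (Fin n ⊕ ι) Rₛ) := fun j =>
    (IsLocalization.map_units Rₛ ⟨tj j, htj j⟩).map C
  have hJmap : J.map ιm = RingHom.ker W := by
    rw [hWker, hJ, Ideal.map_span]
    apply le_antisymm
    · rw [Ideal.span_le]
      rintro _ ⟨_, ⟨j, rfl⟩, rfl⟩
      rw [hιm, hf]
      exact Ideal.mul_mem_left _ _ (Ideal.subset_span ⟨j, rfl⟩)
    · rw [Ideal.span_le]
      rintro _ ⟨j, rfl⟩
      obtain ⟨c, hc⟩ := (hCu j).exists_left_inv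
      have : F j = c * ιm (f j) := by
        rw [hιm, hf, ← mul_assoc, hc, one_mul]
      rw [this]
      exact Ideal.mul_mem_left _ _ (Ideal.subset_span ⟨f j, ⟨j, rfl⟩, rfl⟩)
  -- evaluation at `lam`
  let EΛ : MvPolynomial (Fin n ⊕ ι) R →ₐ[R] Λ := aeval lam
  have hEΛ : ∀ p, h (W (ιm p)) = 1 ⊗ₜ[R] EΛ p := by
    intro p
    have : (h.toRingHom.comp W.toRingHom).comp ιm =
        (Algebra.TensorProduct.includeRight (R := R) (A := Rₛ) (B := Λ)).toRingHom.comp
          EΛ.toRingHom := by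
      apply MvPolynomial.ringHom_ext
      · intro r
        simp only [RingHom.comp_apply, hιm, MvPolynomial.map_C, AlgHom.toRingHom_eq_coe,
          RingHom.coe_coe, EΛ, aeval_C, Algebra.TensorProduct.includeRight_apply]
        rw [← MvPolynomial.algebraMap_eq, AlgHom.commutes, AlgHom.commutes,
          Algebra.TensorProduct.algebraMap_apply, Algebra.algebraMap_self, RingHom.id_apply,
          Algebra.algebraMap_eq_smul_one, Algebra.algebraMap_eq_smul_one (A := Λ),
          TensorProduct.smul_tmul]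
      · intro v
        simp only [RingHom.comp_apply, hιm, MvPolynomial.map_X, AlgHom.toRingHom_eq_coe,
          RingHom.coe_coe, EΛ, aeval_X, Algebra.TensorProduct.includeRight_apply]
        exact hlamW v
    exact DFunLike.congr_fun this p
  -- (4)
  have h4 : ∀ j, ∃ s : R, s ∈ S ∧ s • EΛ (f j) = 0 := by
    intro j
    apply DB3.exists_smul_eq_zero S Rₛ Λ
    rw [← hEΛ]
    have : ιm (f j) ∈ RingHom.ker W := by
      rw [← hJmap]; exact Ideal.mem_map_of_mem _ (Ideal.subset_span ⟨j, rfl⟩)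
    have h0 : W (ιm (f j)) = 0 := this
    rw [h0, map_zero]
  choose s' hs' h4' using h4
  -- (3)
  let G : Fin G0.card → MvPolynomial (Fin n) R := fun i => (G0.equivFin.symm i).1
  have hG : Ideal.span (Set.range G) = RingHom.ker πA.toRingHom := by
    rw [← hG0]
    congr 1
    ext x
    constructor
    · rintro ⟨i, rfl⟩
      exact (G0.equivFin.symm i).2
    · intro hx
      exact ⟨G0.equivFin ⟨x, hx⟩, by simp [G]⟩
  have hWu : ∀ p : MvPolynomial (Fin n) R, W (ιm (rename Sum.inl p)) = g (1 ⊗ₜ[R] πA p) := by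
    intro p
    have : (W.toRingHom.comp ιm).comp (rename (R := R) (Sum.inl : Fin n → Fin n ⊕ ι)).toRingHom =
        (g.toRingHom.comp (Algebra.TensorProduct.includeRight (R := R) (A := Rₛ)
          (B := A)).toRingHom).comp πA.toRingHom := by
      apply MvPolynomial.ringHom_ext
      · intro r
        simp only [RingHom.comp_apply, AlgHom.toRingHom_eq_coe, RingHom.coe_coe, hιm,
          Algebra.TensorProduct.includeRight_apply]
        rw [← MvPolynomial.algebraMap_eq, AlgHom.commutes, AlgHom.commutes,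
          MvPolynomial.algebraMap_eq, MvPolynomial.map_C, ← MvPolynomial.algebraMap_eq,
          AlgHom.commutes, Algebra.algebraMap_eq_smul_one (A := A), TensorProduct.tmul_smul,
          ← algebraMap_smul Rₛ r ((1 : Rₛ) ⊗ₜ[R] (1 : A)), map_smul,
          Algebra.algebraMap_eq_smul_one (A := B')]
        congr 1
        exact (map_one g).symm
      · intro i
        simp only [RingHom.comp_apply, AlgHom.toRingHom_eq_coe, RingHom.coe_coe, hιm, rename_X,
          MvPolynomial.map_X, Algebra.TensorProduct.includeRight_apply]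
        simp [hW, DB2.W, b]
    exact DFunLike.congr_fun this p
  have h3 : ∀ γ, ∃ s : R, s ∈ S ∧ C s * rename Sum.inl (G γ) ∈ J := by
    intro γ
    apply DB3.clear_mem S Rₛ
    change ιm _ ∈ J.map ιm
    rw [hJmap, RingHom.mem_ker, hWu]
    have : G γ ∈ RingHom.ker πA.toRingHom := by
      rw [← hG]; exact Ideal.subset_span ⟨γ, rfl⟩
    have h0 : πA (G γ) = 0 := this
    rw [h0, TensorProduct.tmul_zero, map_zero]
  choose sG hsG h3' using h3
  -- (2)
  set D : MvPolynomial (Fin n ⊕ ι) R :=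
    Matrix.det (Matrix.of fun j k : Fin n ⊕ σ => pderiv (cols k) (f j)) with hD
  have hιD : ιm D = (∏ j, C (algebraMap R Rₛ (tj j))) *
      Matrix.det (Matrix.of fun j k : Fin n ⊕ σ => pderiv (cols k) (F j)) := by
    rw [hD, RingHom.map_det, ← Matrix.det_mul_column]
    congr 1
    apply Matrix.ext
    intro j k
    simp only [RingHom.mapMatrix_apply, Matrix.map_apply, Matrix.of_apply]
    rw [hιm, ← pderiv_map, hf, Derivation.leibniz, pderiv_C, smul_zero, add_zero, smul_eq_mul]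
  have hWD : IsUnit (W (ιm D)) := by
    rw [hιD, map_mul]
    refine IsUnit.mul ?_ hWjac
    rw [map_prod]
    exact Finset.prod_induction _ IsUnit (fun _ _ => IsUnit.mul) isUnit_one
      (fun j _ => (hCu j).map W)
  obtain ⟨y, hy⟩ := hWD.exists_left_inv
  obtain ⟨z, rfl⟩ := hWs y
  obtain ⟨a0, sz, hsz, ha0⟩ := DB3.clear_denoms S Rₛ z
  have h2a : ιm (C sz - a0 * D) ∈ J.map ιm := by
    rw [hJmap, RingHom.mem_ker, map_sub, map_mul, hιm, ha0, MvPolynomial.map_C, ← hιm, map_sub,
      map_mul, map_mul, mul_assoc, hy, mul_one, sub_self]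
  obtain ⟨s1, hs1, h2b⟩ := DB3.clear_mem S Rₛ J _ h2a
  have h2 : C (s1 * sz) - (C s1 * a0) * D ∈ J := by
    have : C (s1 * sz) - (C s1 * a0) * D = C s1 * (C sz - a0 * D) := by
      rw [C_mul]; ring
    rw [this]; exact h2b
  exact DB4.build φ S πA hπA G hG Sum.inl lam (fun i => rfl) f cols (s1 * sz) (S.mul_mem hs1 hsz)
    (C s1 * a0) h2 sG hsG h3' s' hs' h4'


theorem main2029 [Algebra.Smooth Rₛ B'] (g : Rₛ ⊗[R] A →ₐ[Rₛ] B')
    (h : B' →ₐ[Rₛ] Rₛ ⊗[R] Λ)
    (hgh : h.comp g = Algebra.TensorProduct.map (AlgHom.id Rₛ Rₛ) φ) :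
    ∃ (B : Type u) (_ : CommRing B) (_ : Algebra R B) (α : A →ₐ[R] B) (β : B →ₐ[R] Λ),
      β.comp α = φ ∧ ∃ s ∈ S, Smoothing.IsElementaryStandard R B (algebraMap R B s) := by
  obtain ⟨C', _, _, _, _, -, ⟨r⟩, hstd⟩ := SS3.main2025 (R := Rₛ) (A := B')
  let g' : Rₛ ⊗[R] A →ₐ[Rₛ] C' := (IsScalarTower.toAlgHom Rₛ B' C').comp g
  let h' : C' →ₐ[Rₛ] Rₛ ⊗[R] Λ := h.comp (r.restrictScalars Rₛ)
  have : h'.comp g' = Algebra.TensorProduct.map (AlgHom.id Rₛ Rₛ) φ := by
    rw [← hgh]
    apply AlgHom.ext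
    intro z
    change h (r (algebraMap B' C' (g z))) = h (g z)
    rw [AlgHom.commutes]
    rfl
  exact main_std φ S g' h' this

end Groth.Agent.Lib.Helper8.DB5

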