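import Mathlib

set_option backward.isDefEq.respectTransparency.types false
set_option autoImplicit false
set_option linter.unusedSectionVars false
set_option linter.style.haveILetI false

universe u v
open MvPolynomial

namespace Groth.Agent.Lib.Helper8.HG1

variable {A : Type u} [CommRing A] {N : ℕ} {D : Type v} [CommRing D] [Algebra A D]

/-- the `k`-homogenization with new variable `none` -/
noncomputable def hom (k : ℕ) (P : MvPolynomial (Fin N) A) : MvPolynomial (Option (Fin N)) A :=
  ∑ m ∈ P.support, C (coeff m P) * (∏ i, X (some i) ^ m i) * X none ^ (k - ∑ i, m i)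

theorem aeval_hom (g : Option (Fin N) → D) (k : ℕ) (P : MvPolynomial (Fin N) A) :
    aeval g (hom k P) = ∑ m ∈ P.support,
      algebraMap A D (coeff m P) * (∏ i, g (some i) ^ m i) * g none ^ (k - ∑ i, m i) := by
  simp only [hom, map_sum, map_mul, map_prod, map_pow, aeval_C, aeval_X]

theorem aeval_eq_sum (z : Fin N → D) (P : MvPolynomial (Fin N) A) :
    aeval z P = ∑ m ∈ P.support, algebraMap A D (coeff m P) * ∏ i, z i ^ m i := by
  rw [aeval_def, eval₂_eq']

theorem sum_le (P : MvPolynomial (Fin N) A) (m : Fin N →₀ ℕ) (hm : m ∈ P.support) :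
    ∑ i, m i ≤ P.totalDegree := by
  have h := le_totalDegree hm
  rwa [Finsupp.sum_fintype _ _ (fun _ => rfl)] at h

theorem aeval_hom_scale (s : D) (z : Fin N → D) (k : ℕ) (P : MvPolynomial (Fin N) A)
    (hk : P.totalDegree ≤ k) :
    aeval (fun o : Option (Fin N) => Option.elim o s (fun i => s * z i)) (hom k P) =
      s ^ k * aeval z P := by
  rw [aeval_hom, aeval_eq_sum, Finset.mul_sum]
  refine Finset.sum_congr rfl fun m hm => ?_
  have hle : ∑ i, m i ≤ k := (sum_le P m hm).trans hk
  simp only [Option.elim_some, Option.elim_none, mul_pow, Finset.prod_mul_distrib,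
    Finset.prod_pow_eq_pow_sum]
  have : s ^ k = s ^ (∑ i, m i) * s ^ (k - ∑ i, m i) := by
    rw [← pow_add, Nat.add_sub_cancel' hle]
  rw [this]
  ring

theorem aeval_hom_smul (r : D) (g : Option (Fin N) → D) (k : ℕ) (P : MvPolynomial (Fin N) A)
    (hk : P.totalDegree ≤ k) :
    aeval (fun o => r * g o) (hom k P) = r ^ k * aeval g (hom k P) := by
  rw [aeval_hom, aeval_hom, Finset.mul_sum]
  refine Finset.sum_congr rfl fun m hm => ?_
  have hle : ∑ i, m i ≤ k := (sum_le P m hm).trans hk
  simp only [mul_pow, Finset.prod_mul_distrib, Finset.prod_pow_eq_pow_sum]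
  have : r ^ k = r ^ (∑ i, m i) * r ^ (k - ∑ i, m i) := by
    rw [← pow_add, Nat.add_sub_cancel' hle]
  rw [this]
  ring

end Groth.Agent.Lib.Helper8.HG1
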