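import Mathlib
import Groth.Agent.Lib.Helper8.HG1

set_option backward.isDefEq.respectTransparency.types false
set_option autoImplicit false
set_option linter.unusedSectionVars false
set_option linter.style.haveILetI false

universe u
open MvPolynomial

namespace Groth.Agent.Lib.Helper8.DL1

open Groth.Agent.Lib.Helper8

variable {A Bh : Type u} [CommRing A] [CommRing Bh] [Algebra A Bh] {N M : ℕ}
  (f : MvPolynomial (Fin N) A →ₐ[A] Bh) (hf : Function.Surjective f)
  (H : Fin M → MvPolynomial (Fin N) A)
  (hker : RingHom.ker f.toRingHom = Ideal.span (Set.range H))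
  (k : Fin M → ℕ) (hk : ∀ ℓ, (H ℓ).totalDegree ≤ k ℓ)

/-- the relations of the delocalized algebra -/
noncomputable def rel (ℓ : Fin M) : MvPolynomial (Option (Fin N)) A :=
  X none * HG1.hom (k ℓ) (H ℓ)

/-- the ideal of relations -/
noncomputable def I : Ideal (MvPolynomial (Option (Fin N)) A) := Ideal.span (Set.range (rel H k))

/-- the delocalized algebra -/
abbrev CC : Type u := MvPolynomial (Option (Fin N)) A ⧸ I H k

/-- the distinguished element -/
noncomputable def tC : CC H k := Ideal.Quotient.mk (I H k) (X none)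

/-- the Laurent-type algebra -/
abbrev LL (Bh : Type u) [CommRing Bh] : Type u :=
  Localization.Away (X () : MvPolynomial Unit Bh)

include hf hker hk in
theorem nonempty_equiv :
    Nonempty (Localization.Away (tC H k) ≃ₐ[A] LL Bh) := by
  classical
  -- notation
  set TL : LL Bh := algebraMap (MvPolynomial Unit Bh) (LL Bh) (X ()) with hTL
  have hTLu : IsUnit TL := IsLocalization.Away.algebraMap_isUnit (X () : MvPolynomial Unit Bh)
  let ιL : Bh →ₐ[A] LL Bh :=
    (IsScalarTower.toAlgHom A (MvPolynomial Unit Bh) (LL Bh)).comp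
      (IsScalarTower.toAlgHom A Bh (MvPolynomial Unit Bh))
  have hιL : ∀ b, ιL b = algebraMap (MvPolynomial Unit Bh) (LL Bh) (C b) := fun b => rfl
  let yb : Fin N → Bh := fun i => f (X i)
  have hfae : ∀ P, f P = aeval yb P := by
    intro P
    have := aeval_unique f
    rw [this]
    rfl
  have hfH : ∀ ℓ, f (H ℓ) = 0 := by
    intro ℓ
    have : H ℓ ∈ RingHom.ker f.toRingHom := by
      rw [hker]; exact Ideal.subset_span ⟨ℓ, rfl⟩
    exact this
  -- the map u
  let gu : Option (Fin N) → LL Bh := fun o => Option.elim o TL (fun i => TL * ιL (yb i))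
  let u₀ : MvPolynomial (Option (Fin N)) A →ₐ[A] LL Bh := aeval gu
  have hu₀I : ∀ p ∈ I H k, u₀ p = 0 := by
    intro p hp
    refine Submodule.span_induction ?_ ?_ ?_ ?_ hp
    · rintro _ ⟨ℓ, rfl⟩
      change u₀ (X none * HG1.hom (k ℓ) (H ℓ)) = 0
      rw [map_mul]
      have h1 : u₀ (HG1.hom (k ℓ) (H ℓ)) = TL ^ (k ℓ) * aeval (fun i => ιL (yb i)) (H ℓ) :=
        HG1.aeval_hom_scale TL (fun i => ιL (yb i)) (k ℓ) (H ℓ) (hk ℓ)
      rw [h1, ← comp_aeval_apply, ← hfae, hfH, map_zero, mul_zero, mul_zero]
    · exact map_zero _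
    · intro x y _ _ hx hy
      rw [map_add, hx, hy, add_zero]
    · intro r x _ hx
      rw [smul_eq_mul, map_mul, hx, mul_zero]
  let u : CC H k →ₐ[A] LL Bh := Ideal.Quotient.liftₐ (I H k) u₀ hu₀I
  have hu_mk : ∀ p, u (Ideal.Quotient.mk (I H k) p) = u₀ p := fun p => rfl
  have hutC : u (tC H k) = TL := by
    change u₀ (X none) = TL
    simp [u₀, gu]
  have huunits : ∀ y : Submonoid.powers (tC H k), IsUnit (u y) := by
    rintro ⟨_, n, rfl⟩
    rw [map_pow, hutC]
    exact hTLu.pow n
  let ut : Localization.Away (tC H k) →ₐ[A] LL Bh :=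
    IsLocalization.liftAlgHom (M := Submonoid.powers (tC H k)) (f := u) huunits
  have hut_alg : ∀ c, ut (algebraMap (CC H k) _ c) = u c := by
    intro c
    rw [IsLocalization.liftAlgHom_apply, IsLocalization.lift_eq]
    rfl
  -- the map v
  set s : Localization.Away (tC H k) := algebraMap (CC H k) _ (tC H k) with hs
  have hsu : IsUnit s := IsLocalization.Away.algebraMap_isUnit (tC H k)
  set sinv : Localization.Away (tC H k) := IsLocalization.Away.invSelf (tC H k) with hsinv
  have hssinv : s * sinv = 1 := IsLocalization.Away.mul_invSelf (tC H k)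
  let yC : Fin N → CC H k := fun i => Ideal.Quotient.mk (I H k) (X (some i))
  let z : Fin N → Localization.Away (tC H k) := fun i => algebraMap (CC H k) _ (yC i) * sinv
  have hsz : ∀ i, s * z i = algebraMap (CC H k) _ (yC i) := by
    intro i
    simp only [z]
    rw [mul_comm, mul_assoc, mul_comm sinv s, hssinv, mul_one]
  let v₀' : MvPolynomial (Fin N) A →ₐ[A] Localization.Away (tC H k) := aeval z
  have hmkae : ∀ P : MvPolynomial (Option (Fin N)) A,
      aeval (fun o => algebraMap (CC H k) (Localization.Away (tC H k))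
        (Ideal.Quotient.mk (I H k) (X o))) P =
      algebraMap (CC H k) _ (Ideal.Quotient.mk (I H k) P) := by
    intro P
    have h1 : (aeval (R := A) fun o => algebraMap (CC H k) (Localization.Away (tC H k))
        (Ideal.Quotient.mk (I H k) (X o))) =
        ((IsScalarTower.toAlgHom A (CC H k) (Localization.Away (tC H k))).comp
          (Ideal.Quotient.mkₐ A (I H k))) := by
      apply MvPolynomial.algHom_ext
      intro o
      simp
    rw [h1]
    rfl
  have hv₀'H : ∀ ℓ, v₀' (H ℓ) = 0 := by
    intro ℓ
    have h1 : aeval (fun o : Option (Fin N) => Option.elim o s (fun i => s * z i))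
        (HG1.hom (k ℓ) (H ℓ)) = s ^ (k ℓ) * aeval z (H ℓ) :=
      HG1.aeval_hom_scale s z (k ℓ) (H ℓ) (hk ℓ)
    have h2 : (fun o : Option (Fin N) => Option.elim o s (fun i => s * z i)) =
        fun o => algebraMap (CC H k) (Localization.Away (tC H k))
          (Ideal.Quotient.mk (I H k) (X o)) := by
      funext o
      cases o with
      | none => rfl
      | some i => exact hsz i
    rw [h2, hmkae] at h1
    have h3 : s * algebraMap (CC H k) (Localization.Away (tC H k))
        (Ideal.Quotient.mk (I H k) (HG1.hom (k ℓ) (H ℓ))) = 0 := by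
      rw [hs, ← map_mul]
      have : tC H k * Ideal.Quotient.mk (I H k) (HG1.hom (k ℓ) (H ℓ)) = 0 := by
        change Ideal.Quotient.mk (I H k) (X none) * _ = 0
        rw [← map_mul, Ideal.Quotient.eq_zero_iff_mem]
        exact Ideal.subset_span ⟨ℓ, rfl⟩
      rw [this, map_zero]
    rw [h1, ← mul_assoc, ← pow_succ'] at h3
    exact ((hsu.pow _).mul_right_eq_zero).mp h3
  have hv₀'ker : ∀ p ∈ RingHom.ker f.toRingHom, v₀' p = 0 := by
    intro p hp
    rw [hker] at hp
    refine Submodule.span_induction ?_ ?_ ?_ ?_ hp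
    · rintro _ ⟨ℓ, rfl⟩
      exact hv₀'H ℓ
    · exact map_zero _
    · intro x y _ _ hx hy
      rw [map_add, hx, hy, add_zero]
    · intro r x _ hx
      rw [smul_eq_mul, map_mul, hx, mul_zero]
  let eB : (MvPolynomial (Fin N) A ⧸ RingHom.ker f.toRingHom) ≃ₐ[A] Bh :=
    Ideal.quotientKerAlgEquivOfSurjective hf
  let v₀ : Bh →ₐ[A] Localization.Away (tC H k) :=
    (Ideal.Quotient.liftₐ _ v₀' hv₀'ker).comp eB.symm.toAlgHom
  have hv₀ : ∀ P, v₀ (f P) = aeval z P := by
    intro P
    have : eB.symm (f P) = Ideal.Quotient.mk _ P := by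
      rw [AlgEquiv.symm_apply_eq]
      rfl
    change (Ideal.Quotient.liftₐ _ v₀' hv₀'ker) (eB.symm (f P)) = _
    rw [this]
    rfl
  let v₁ : MvPolynomial Unit Bh →+* Localization.Away (tC H k) :=
    eval₂Hom v₀.toRingHom (fun _ => s)
  have hv₁X : v₁ (X ()) = s := eval₂Hom_X' _ _ _
  have hv₁C : ∀ b, v₁ (C b) = v₀ b := fun b => eval₂Hom_C _ _ b
  have hv₁u : IsUnit (v₁ (X ())) := by rw [hv₁X]; exact hsu
  let v : LL Bh →+* Localization.Away (tC H k) :=
    IsLocalization.Away.lift (X () : MvPolynomial Unit Bh) hv₁u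
  have hv_alg : ∀ p, v (algebraMap _ (LL Bh) p) = v₁ p := fun p =>
    IsLocalization.Away.lift_eq _ hv₁u p
  -- `ut (z i) = ιL (yb i)`
  have hutsinv : ut sinv * TL = 1 := by
    have h1 : ut (s * sinv) = 1 := by rw [hssinv, map_one]
    rw [map_mul, hs, hut_alg, hutC, mul_comm] at h1
    exact h1
  have hutz : ∀ i, ut (z i) = ιL (yb i) := by
    intro i
    simp only [z]
    rw [map_mul, hut_alg]
    change u₀ (X (some i)) * ut sinv = _
    have : u₀ (X (some i)) = TL * ιL (yb i) := by simp [u₀, gu]
    rw [this, mul_comm TL, mul_assoc, mul_comm TL, hutsinv, mul_one]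
  -- first composition
  have hcomp1 : ∀ x : LL Bh, ut (v x) = x := by
    have h : (ut.toRingHom.comp v) = RingHom.id (LL Bh) := by
      apply IsLocalization.ringHom_ext (Submonoid.powers (X () : MvPolynomial Unit Bh))
      apply MvPolynomial.ringHom_ext
      · intro b
        simp only [RingHom.comp_apply, RingHom.id_apply, AlgHom.toRingHom_eq_coe, RingHom.coe_coe]
        rw [hv_alg, hv₁C]
        obtain ⟨P, rfl⟩ := hf b
        rw [hv₀]
        have : (fun i => ut (z i)) = fun i => ιL (yb i) := funext hutz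
        rw [comp_aeval_apply z ut P, this, ← comp_aeval_apply yb ιL P, ← hfae, hιL]
      · intro i
        simp only [RingHom.comp_apply, RingHom.id_apply, AlgHom.toRingHom_eq_coe, RingHom.coe_coe]
        rw [hv_alg, hv₁X, hs, hut_alg, hutC]
    intro x
    exact DFunLike.congr_fun h x
  -- second composition
  have hvA : ∀ a : A, v (algebraMap A (LL Bh) a) = algebraMap A _ a := by
    intro a
    have h1 : algebraMap A (LL Bh) a =
        algebraMap (MvPolynomial Unit Bh) (LL Bh) (C (algebraMap A Bh a)) := by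
      rw [IsScalarTower.algebraMap_apply A (MvPolynomial Unit Bh) (LL Bh),
        IsScalarTower.algebraMap_apply A Bh (MvPolynomial Unit Bh)]
      rfl
    rw [h1, hv_alg, hv₁C, AlgHom.commutes]
  have hcomp2 : ∀ x : Localization.Away (tC H k), v (ut x) = x := by
    have h : (v.comp ut.toRingHom) = RingHom.id _ := by
      apply IsLocalization.ringHom_ext (Submonoid.powers (tC H k))
      apply Ideal.Quotient.ringHom_ext
      apply MvPolynomial.ringHom_ext
      · intro a
        simp only [RingHom.comp_apply, RingHom.id_apply, AlgHom.toRingHom_eq_coe, RingHom.coe_coe]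
        rw [hut_alg, hu_mk]
        have : u₀ (C a) = algebraMap A (LL Bh) a := by
          rw [← MvPolynomial.algebraMap_eq, AlgHom.commutes]
        rw [this, hvA, ← MvPolynomial.algebraMap_eq]
        rw [IsScalarTower.algebraMap_apply A (CC H k) (Localization.Away (tC H k))]
        rfl
      · intro o
        simp only [RingHom.comp_apply, RingHom.id_apply, AlgHom.toRingHom_eq_coe, RingHom.coe_coe]
        rw [hut_alg, hu_mk]
        cases o with
        | none =>
          have : u₀ (X none) = TL := by simp [u₀, gu]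
          rw [this, hTL, hv_alg, hv₁X]
          rfl
        | some i =>
          have : u₀ (X (some i)) = TL * ιL (yb i) := by simp [u₀, gu]
          rw [this, map_mul, hTL, hv_alg, hv₁X, hιL, hv_alg, hv₁C]
          have h5 : v₀ (yb i) = z i := by
            change v₀ (f (X i)) = z i
            rw [hv₀, aeval_X]
          rw [h5, hsz]
    intro x
    exact DFunLike.congr_fun h x
  exact ⟨AlgEquiv.ofBijective ut
    (Function.bijective_iff_has_inverse.mpr ⟨v, hcomp2, hcomp1⟩)⟩

end Groth.Agent.Lib.Helper8.DL1
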