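import Mathlib
import Groth.Agent.Lib.Helper8.HG1
import Groth.Agent.Lib.Helper8.DL1

set_option backward.isDefEq.respectTransparency.types false
set_option autoImplicit false
set_option linter.unusedSectionVars false
set_option linter.style.haveILetI false

universe u
open MvPolynomial

namespace Groth.Agent.Lib.Helper8.DL2

open Groth.Agent.Lib.Helper8

theorem smooth_LL {R Bh : Type u} [CommRing R] [CommRing Bh] [Algebra R Bh] [Algebra.Smooth R Bh] :
    Algebra.Smooth R (DL1.LL Bh) := by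
  haveI : Algebra.Smooth Bh (MvPolynomial Unit Bh) := ⟨inferInstance, inferInstance⟩
  haveI : Algebra.Smooth R (MvPolynomial Unit Bh) := Algebra.Smooth.comp R Bh _
  haveI : Algebra.Smooth (MvPolynomial Unit Bh) (DL1.LL Bh) :=
    ⟨Algebra.FormallySmooth.of_isLocalization
      (Submonoid.powers (X () : MvPolynomial Unit Bh)),
      IsLocalization.Away.finitePresentation (X () : MvPolynomial Unit Bh)⟩
  exact Algebra.Smooth.comp R (MvPolynomial Unit Bh) (DL1.LL Bh)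

theorem delocalize {R A Bh Λ Λ' : Type u} [CommRing R] [CommRing A] [Algebra R A] [CommRing Bh]
    [Algebra R Bh] [Algebra A Bh] [IsScalarTower R A Bh] [CommRing Λ] [Algebra A Λ] [CommRing Λ']
    [Algebra Λ Λ'] [Algebra A Λ'] [IsScalarTower A Λ Λ'] (T : Submonoid Λ) [IsLocalization T Λ']
    [Algebra.FinitePresentation A Bh] [Algebra.Smooth R Bh] (β : Bh →ₐ[A] Λ') :
    ∃ (N : ℕ) (J : Ideal (MvPolynomial (Option (Fin N)) A)), J.FG ∧
      ∃ (β' : (MvPolynomial (Option (Fin N)) A ⧸ J) →ₐ[A] Λ),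
        β' (Ideal.Quotient.mk J (X none)) ∈ T ∧
        Algebra.Smooth R (Localization.Away (Ideal.Quotient.mk J (X none))) := by
  classical
  obtain ⟨N, f, hf, hfg⟩ := (inferInstance : Algebra.FinitePresentation A Bh).out
  obtain ⟨G0, hG0⟩ := hfg
  let H : Fin G0.card → MvPolynomial (Fin N) A := fun i => (G0.equivFin.symm i).1
  have hker : RingHom.ker f.toRingHom = Ideal.span (Set.range H) := by
    rw [← hG0]
    congr 1
    ext x
    constructor
    · intro hx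
      exact ⟨G0.equivFin ⟨x, hx⟩, by simp [H]⟩
    · rintro ⟨i, rfl⟩
      exact (G0.equivFin.symm i).2
  let k : Fin G0.card → ℕ := fun ℓ => (H ℓ).totalDegree
  have hk : ∀ ℓ, (H ℓ).totalDegree ≤ k ℓ := fun ℓ => le_rfl
  let ι : Λ →ₐ[A] Λ' := IsScalarTower.toAlgHom A Λ Λ'
  have hι : ∀ x, ι x = algebraMap Λ Λ' x := fun x => rfl
  let yb : Fin N → Bh := fun i => f (X i)
  have hfae : ∀ P, f P = aeval yb P := by
    intro P
    have := aeval_unique f
    rw [this]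
    rfl
  have hfH : ∀ ℓ, f (H ℓ) = 0 := by
    intro ℓ
    have : H ℓ ∈ RingHom.ker f.toRingHom := by
      rw [hker]; exact Ideal.subset_span ⟨ℓ, rfl⟩
    exact this
  -- common denominators
  have hden : ∀ i, ∃ (μ : Λ) (τ : Λ), τ ∈ T ∧ β (yb i) * ι τ = ι μ := by
    intro i
    obtain ⟨⟨μ, τ⟩, h⟩ := IsLocalization.surj T (β (yb i))
    exact ⟨μ, τ.1, τ.2, h⟩
  choose μ₀ τi hτi hμτ using hden
  set τ₀ : Λ := ∏ i, τi i with hτ₀
  have hτ₀T : τ₀ ∈ T := T.prod_mem fun i _ => hτi i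
  let μ₁ : Fin N → Λ := fun i => μ₀ i * ∏ j ∈ Finset.univ.erase i, τi j
  have hμ₁ : ∀ i, β (yb i) * ι τ₀ = ι (μ₁ i) := by
    intro i
    simp only [μ₁]
    rw [hτ₀, ← Finset.mul_prod_erase _ _ (Finset.mem_univ i), map_mul, ← mul_assoc, hμτ, map_mul]
  let g₀ : Option (Fin N) → Λ := fun o => Option.elim o τ₀ μ₁
  have hιg₀ : ∀ P : MvPolynomial (Option (Fin N)) A, ι (aeval g₀ P) =
      aeval (fun o : Option (Fin N) => Option.elim o (ι τ₀) (fun i => ι τ₀ * β (yb i))) P := by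
    intro P
    rw [comp_aeval_apply]
    congr 2
    funext o
    cases o with
    | none => rfl
    | some i =>
      change ι (μ₁ i) = ι τ₀ * β (yb i)
      rw [← hμ₁, mul_comm]
  -- the obstruction elements vanish in the localization
  have hE : ∀ ℓ, ι (aeval g₀ (HG1.hom (k ℓ) (H ℓ))) = 0 := by
    intro ℓ
    rw [hιg₀, HG1.aeval_hom_scale (ι τ₀) (fun i => β (yb i)) (k ℓ) (H ℓ) (hk ℓ),
      ← comp_aeval_apply, ← hfae, hfH, map_zero, mul_zero]
  have hτ' : ∀ ℓ, ∃ τ' : Λ, τ' ∈ T ∧ τ' * aeval g₀ (HG1.hom (k ℓ) (H ℓ)) = 0 := by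
    intro ℓ
    have h1 := hE ℓ
    rw [hι, IsLocalization.map_eq_zero_iff T Λ'] at h1
    obtain ⟨m, hm⟩ := h1
    exact ⟨m.1, m.2, hm⟩
  choose τ' hτ'T hτ'0 using hτ'
  set τ₁ : Λ := ∏ ℓ, τ' ℓ with hτ₁
  have hτ₁T : τ₁ ∈ T := T.prod_mem fun ℓ _ => hτ'T ℓ
  let g : Option (Fin N) → Λ := fun o => τ₁ * g₀ o
  have hgrel : ∀ ℓ, g none * aeval g (HG1.hom (k ℓ) (H ℓ)) = 0 := by
    intro ℓ
    rw [HG1.aeval_hom_smul τ₁ g₀ (k ℓ) (H ℓ) (hk ℓ)]
    have h1 : τ₁ * aeval g₀ (HG1.hom (k ℓ) (H ℓ)) = 0 := by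
      rw [hτ₁, ← Finset.mul_prod_erase _ _ (Finset.mem_univ ℓ), mul_comm (τ' ℓ), mul_assoc,
        hτ'0, mul_zero]
    calc g none * (τ₁ ^ k ℓ * aeval g₀ (HG1.hom (k ℓ) (H ℓ)))
        = g₀ none * τ₁ ^ k ℓ * (τ₁ * aeval g₀ (HG1.hom (k ℓ) (H ℓ))) := by
          simp only [g]; ring
      _ = 0 := by rw [h1, mul_zero]
  -- the algebra
  let J : Ideal (MvPolynomial (Option (Fin N)) A) := DL1.I H k
  have hJfg : J.FG := by
    refine ⟨Finset.univ.image (DL1.rel H k), ?_⟩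
    rw [Finset.coe_image, Finset.coe_univ, Set.image_univ]
    rfl
  let β'₀ : MvPolynomial (Option (Fin N)) A →ₐ[A] Λ := aeval g
  have hβ'₀J : ∀ p ∈ J, β'₀ p = 0 := by
    intro p hp
    refine Submodule.span_induction ?_ ?_ ?_ ?_ hp
    · rintro _ ⟨ℓ, rfl⟩
      change β'₀ (X none * HG1.hom (k ℓ) (H ℓ)) = 0
      rw [map_mul]
      have : β'₀ (X none) = g none := aeval_X _ _
      rw [this]
      exact hgrel ℓ
    · exact map_zero _
    · intro x y _ _ hx hy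
      rw [map_add, hx, hy, add_zero]
    · intro r x _ hx
      rw [smul_eq_mul, map_mul, hx, mul_zero]
  let β' : (MvPolynomial (Option (Fin N)) A ⧸ J) →ₐ[A] Λ := Ideal.Quotient.liftₐ J β'₀ hβ'₀J
  refine ⟨N, J, hJfg, β', ?_, ?_⟩
  · change β'₀ (X none) ∈ T
    have : β'₀ (X none) = τ₁ * τ₀ := aeval_X _ _
    rw [this]
    exact T.mul_mem hτ₁T hτ₀T
  · obtain ⟨e⟩ := DL1.nonempty_equiv f hf H hker k hk
    haveI : Algebra.Smooth R (DL1.LL Bh) := smooth_LL
    exact Algebra.Smooth.of_equiv (e.restrictScalars R).symm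

end Groth.Agent.Lib.Helper8.DL2
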