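import Mathlib
import Groth.Prelude.Def_Smoothing

set_option backward.isDefEq.respectTransparency.types false
set_option autoImplicit false
set_option linter.unusedSectionVars false
set_option linter.style.haveILetI false

universe u
open Smoothing

namespace Groth.Agent.Lib.Helper8.SI1

variable {R A : Type u} [CommRing R] [CommRing A] [Algebra R A]

theorem mem_singularIdeal_iff_subset (f : A) :
    f ∈ singularIdeal R A ↔ (↑(PrimeSpectrum.basicOpen f) : Set (PrimeSpectrum A)) ⊆
      Algebra.smoothLocus R A := by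
  unfold singularIdeal
  rw [PrimeSpectrum.mem_vanishingIdeal]
  constructor
  · intro h p hp
    by_contra hps
    exact hp (h p hps)
  · intro h p hp
    by_contra hfp
    exact hp (h hfp)

theorem mem_singularIdeal_iff [Algebra.FinitePresentation R A] (f : A) :
    f ∈ singularIdeal R A ↔ Algebra.Smooth R (Localization.Away f) := by
  rw [mem_singularIdeal_iff_subset, Algebra.basicOpen_subset_smoothLocus_iff_smooth]

/-- the singular ideal is not contained in a prime iff the algebra is smooth there -/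
theorem exists_mem_singularIdeal_notMem [Algebra.FinitePresentation R A] (p : Ideal A) [p.IsPrime]
    (h : Algebra.IsSmoothAt R p) : ∃ f ∈ singularIdeal R A, f ∉ p := by
  haveI := h
  obtain ⟨f, hf, hsm⟩ := Algebra.IsSmoothAt.exists_notMem_smooth R p
  exact ⟨f, (mem_singularIdeal_iff f).mpr hsm, hf⟩

theorem isSmoothAt_of_mem_singularIdeal (p : Ideal A) [p.IsPrime] (f : A)
    (hf : f ∈ singularIdeal R A) (hfp : f ∉ p) : Algebra.IsSmoothAt R p := by
  have h := (mem_singularIdeal_iff_subset f).mp hf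
  have : (⟨p, inferInstance⟩ : PrimeSpectrum A) ∈ Algebra.smoothLocus R A := h hfp
  exact this

variable {Λ : Type u} [CommRing Λ] [Algebra R Λ]

theorem not_singRad_le_iff (φ : A →ₐ[R] Λ) (𝔮 : Ideal Λ) [𝔮.IsPrime] :
    ¬ singRad R φ ≤ 𝔮 ↔ ∃ f ∈ singularIdeal R A, φ f ∉ 𝔮 := by
  unfold singRad
  rw [Ideal.IsPrime.radical_le_iff inferInstance, Ideal.map_le_iff_le_comap]
  constructor
  · intro h
    by_contra hcon
    apply h
    intro f hf
    by_contra hfq
    exact hcon ⟨f, hf, hfq⟩
  · rintro ⟨f, hf, hfq⟩ h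
    exact hfq (h hf)

theorem not_map_le_iff (φ : A →ₐ[R] Λ) (𝔮 : Ideal Λ) :
    ¬ (singularIdeal R A).map φ ≤ 𝔮 ↔ ∃ f ∈ singularIdeal R A, φ f ∉ 𝔮 := by
  rw [Ideal.map_le_iff_le_comap]
  constructor
  · intro h
    by_contra hcon
    apply h
    intro f hf
    by_contra hfq
    exact hcon ⟨f, hf, hfq⟩
  · rintro ⟨f, hf, hfq⟩ h
    exact hfq (h hf)

end Groth.Agent.Lib.Helper8.SI1
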