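import Mathlib
import Groth.Prelude.Def_Smoothing
import Groth.Agent.Lib.Helper8.SI1
import Groth.Agent.Lib.Helper8.DL2
import Groth.Agent.Lib.Helper8.DB5
import Groth.Agent.Lib.Helper12.ElemStd

set_option backward.isDefEq.respectTransparency.types false
set_option autoImplicit false
set_option linter.unusedSectionVars false
set_option linter.style.haveILetI false

universe u
open MvPolynomial TensorProduct Smoothing

namespace Groth.Agent.Lib.Helper8.DW1

open Groth.Agent.Lib.Helper8

/-- in `Rₛ ⊗[R] M` for an `Rₛ`-module `M`, scalars can be moved across -/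
theorem tmul_eq_one_tmul_smul {R Rₛ M : Type u} [CommRing R] (S : Submonoid R) [CommRing Rₛ]
    [Algebra R Rₛ] [IsLocalization S Rₛ] [CommRing M] [Algebra R M] [Algebra Rₛ M]
    [IsScalarTower R Rₛ M] (a : Rₛ) (l : M) :
    a ⊗ₜ[R] l = (1 : Rₛ) ⊗ₜ[R] (a • l) := by
  obtain ⟨⟨r, s⟩, hrs⟩ := IsLocalization.surj S a
  have hσ : IsUnit (algebraMap R Rₛ s) := IsLocalization.map_units Rₛ s
  have h1 : algebraMap R Rₛ s • (a ⊗ₜ[R] l) = algebraMap R Rₛ s • ((1 : Rₛ) ⊗ₜ[R] (a • l)) := by
    rw [TensorProduct.smul_tmul', TensorProduct.smul_tmul', smul_eq_mul, smul_eq_mul, mul_comm,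
      hrs, mul_one, Algebra.algebraMap_eq_smul_one, Algebra.algebraMap_eq_smul_one (A := Rₛ),
      TensorProduct.smul_tmul, TensorProduct.smul_tmul]
    congr 1
    rw [← algebraMap_smul Rₛ (s : R) (a • l), smul_smul, mul_comm, hrs, algebraMap_smul]
  obtain ⟨c, hc⟩ := hσ.exists_left_inv
  have h2 := congrArg (fun x => c • x) h1
  simp only [smul_smul, hc, one_smul] at h2
  exact h2

/-- a finitely presented algebra from a marked presentation -/
theorem finitePresentation_of_marked {R B : Type u} [CommRing R] [CommRing B] [Algebra R B]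
    (P : MarkedPresentation R B) : Algebra.FinitePresentation R B := by
  classical
  refine Algebra.FinitePresentation.of_surjective (f := P.hom) P.surj ?_
  rw [P.ker_eq]
  refine ⟨Finset.univ.image P.rel, ?_⟩
  rw [Finset.coe_image, Finset.coe_univ, Set.image_univ]

theorem main2033 {R A Λ Rₚ Λq : Type u} [CommRing R] [CommRing A]
    [Algebra R A] [Algebra.FinitePresentation R A] [CommRing Λ] [Algebra R Λ] (φ : A →ₐ[R] Λ)
    (𝔮 : Ideal Λ) [𝔮.IsPrime]
    [CommRing Rₚ] [Algebra R Rₚ] [IsLocalization.AtPrime Rₚ (𝔮.comap (algebraMap R Λ))]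
    [CommRing Λq] [Algebra Λ Λq] [IsLocalization.AtPrime Λq 𝔮] [Algebra R Λq] [IsScalarTower R Λ Λq]
    [Algebra Rₚ Λq] [IsScalarTower R Rₚ Λq]
    (hres : Smoothing.Resolvable Rₚ
      (Algebra.TensorProduct.lift (Algebra.ofId Rₚ Λq) ((IsScalarTower.toAlgHom R Λ Λq).comp φ)
        (fun _ _ => Commute.all _ _) : Rₚ ⊗[R] A →ₐ[Rₚ] Λq) (𝔮.map (algebraMap Λ Λq))) :
    ∃ (C : Type u) (_ : CommRing C) (_ : Algebra R C), Algebra.FinitePresentation R C ∧
      ∃ (g : A →ₐ[R] C) (h : C →ₐ[R] Λ), h.comp g = φ ∧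
        ¬ (Smoothing.singularIdeal R C).map h ≤ 𝔮 := by
  classical
  set 𝔭 : Ideal R := 𝔮.comap (algebraMap R Λ) with h𝔭
  let S : Submonoid R := 𝔭.primeCompl
  let φq : A →ₐ[R] Λq := (IsScalarTower.toAlgHom R Λ Λq).comp φ
  haveI : IsLocalRing Λq := IsLocalization.AtPrime.isLocalRing Λq 𝔮
  have hmax : 𝔮.map (algebraMap Λ Λq) = IsLocalRing.maximalIdeal Λq :=
    IsLocalization.AtPrime.map_eq_maximalIdeal 𝔮 Λq
  haveI : (𝔮.map (algebraMap Λ Λq)).IsPrime := by rw [hmax]; infer_instance
  obtain ⟨B', _, _, hfp, g', h', hcomp, -, hnot⟩ := hres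
  haveI := hfp
  rw [SI1.not_singRad_le_iff] at hnot
  obtain ⟨b', hb'H, hb'q⟩ := hnot
  haveI hsmB'' : Algebra.Smooth Rₚ (Localization.Away b') := (SI1.mem_singularIdeal_iff b').mp hb'H
  have hb'u : IsUnit (h' b') := by
    rw [hmax] at hb'q
    exact IsLocalRing.notMem_maximalIdeal.mp hb'q
  -- step 2
  let g'' : Rₚ ⊗[R] A →ₐ[Rₚ] Localization.Away b' :=
    (IsScalarTower.toAlgHom Rₚ B' (Localization.Away b')).comp g'
  have hunits : ∀ y : Submonoid.powers b', IsUnit (h' y) := by
    rintro ⟨_, n, rfl⟩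
    rw [map_pow]
    exact hb'u.pow n
  let h'' : Localization.Away b' →ₐ[Rₚ] Λq :=
    IsLocalization.liftAlgHom (M := Submonoid.powers b') (f := h') hunits
  have hh''g'' : ∀ z, h'' (g'' z) = Algebra.TensorProduct.lift (Algebra.ofId Rₚ Λq) φq
      (fun _ _ => Commute.all _ _) z := by
    intro z
    change h'' (algebraMap B' (Localization.Away b') (g' z)) = _
    rw [IsLocalization.liftAlgHom_apply, IsLocalization.lift_eq, ← hcomp]
    rfl
  -- step 3
  let jR : Λq →ₐ[Rₚ] Rₚ ⊗[R] Λq :=
    { toRingHom := (Algebra.TensorProduct.includeRight (R := R) (A := Rₚ) (B := Λq)).toRingHom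
      commutes' := by
        intro a
        change (1 : Rₚ) ⊗ₜ[R] (algebraMap Rₚ Λq a) = _
        rw [Algebra.algebraMap_eq_smul_one, ← tmul_eq_one_tmul_smul S a (1 : Λq),
          Algebra.TensorProduct.algebraMap_apply]
        rfl }
  have hjR : ∀ l, jR l = (1 : Rₚ) ⊗ₜ[R] l := fun l => rfl
  let h : Localization.Away b' →ₐ[Rₚ] Rₚ ⊗[R] Λq := jR.comp h''
  have hgh : h.comp g'' = Algebra.TensorProduct.map (AlgHom.id Rₚ Rₚ) φq := by
    apply AlgHom.ext
    intro z
    change jR (h'' (g'' z)) = _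
    rw [hh''g'']
    induction z using TensorProduct.induction_on with
    | zero => simp
    | tmul a x =>
      rw [Algebra.TensorProduct.lift_tmul, Algebra.TensorProduct.map_tmul, hjR]
      change (1 : Rₚ) ⊗ₜ[R] (algebraMap Rₚ Λq a * φq x) = a ⊗ₜ[R] φq x
      rw [← Algebra.smul_def, ← tmul_eq_one_tmul_smul S a (φq x)]
    | add x y hx hy => rw [map_add, map_add, map_add, hx, hy]
  -- step 5
  obtain ⟨B, _, _, α, β, hβα, s, hsS, hstd⟩ := DB5.main2029 φq S g'' h hgh
  -- step 6
  obtain ⟨P, ⟨a', ha'⟩, hkt⟩ := hstd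
  haveI hBfp : Algebra.FinitePresentation R B := finitePresentation_of_marked P
  haveI hBhstd : Algebra.IsStandardSmooth R (Localization.Away (algebraMap R B s)) :=
    Groth.Agent.Lib.Helper12.ElemStd.isStandardSmooth_away P.hcn P.hcm P.rel P.hom P.surj P.ker_eq
      (algebraMap R B s) a' ha' hkt
  -- step 7
  letI algAB : Algebra A B := α.toRingHom.toAlgebra
  haveI : IsScalarTower R A B := IsScalarTower.of_algebraMap_eq (fun r => (α.commutes r).symm)
  letI algAΛ : Algebra A Λ := φ.toRingHom.toAlgebra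
  haveI : IsScalarTower R A Λ := IsScalarTower.of_algebraMap_eq (fun r => (φ.commutes r).symm)
  letI algAΛq : Algebra A Λq := φq.toRingHom.toAlgebra
  haveI : IsScalarTower A Λ Λq := IsScalarTower.of_algebraMap_eq (fun a => rfl)
  let βA : B →ₐ[A] Λq :=
    { toRingHom := β.toRingHom
      commutes' := by
        intro a
        change β (α a) = φq a
        rw [← hβα]
        rfl }
  have hsunit : IsUnit (β (algebraMap R B s)) := by
    rw [AlgHom.commutes, IsScalarTower.algebraMap_apply R Rₚ Λq]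
    exact (IsLocalization.map_units Rₚ (⟨s, hsS⟩ : S)).map _
  have hunits2 : ∀ y : Submonoid.powers (algebraMap R B s), IsUnit (βA y) := by
    rintro ⟨_, n, rfl⟩
    rw [map_pow]
    exact hsunit.pow n
  let βh : Localization.Away (algebraMap R B s) →ₐ[A] Λq :=
    IsLocalization.liftAlgHom (M := Submonoid.powers (algebraMap R B s)) (f := βA) hunits2
  haveI : Algebra.FinitePresentation B (Localization.Away (algebraMap R B s)) :=
    IsLocalization.Away.finitePresentation (algebraMap R B s)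
  haveI : Algebra.FinitePresentation R (Localization.Away (algebraMap R B s)) :=
    Algebra.FinitePresentation.trans R B _
  haveI : Algebra.FinitePresentation A (Localization.Away (algebraMap R B s)) :=
    Algebra.FinitePresentation.of_restrict_scalars_finitePresentation R A _
  -- step 8
  obtain ⟨N, J, hJfg, β', hβ't, hsm⟩ := DL2.delocalize (R := R) (A := A)
    (Bh := Localization.Away (algebraMap R B s)) (Λ := Λ) (Λ' := Λq) 𝔮.primeCompl βh
  haveI : Algebra.FinitePresentation A (MvPolynomial (Option (Fin N)) A ⧸ J) :=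
    Algebra.FinitePresentation.quotient hJfg
  haveI hCfp : Algebra.FinitePresentation R (MvPolynomial (Option (Fin N)) A ⧸ J) :=
    Algebra.FinitePresentation.trans R A _
  refine ⟨MvPolynomial (Option (Fin N)) A ⧸ J, inferInstance, inferInstance, hCfp,
    IsScalarTower.toAlgHom R A _, β'.restrictScalars R, ?_, ?_⟩
  · apply AlgHom.ext
    intro a
    change β' (algebraMap A _ a) = φ a
    rw [AlgHom.commutes]
    rfl
  · rw [SI1.not_map_le_iff]
    refine ⟨Ideal.Quotient.mk J (X none), (SI1.mem_singularIdeal_iff _).mpr hsm, ?_⟩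
    exact hβ't

end Groth.Agent.Lib.Helper8.DW1
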