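import Mathlib
import Groth.Agent.Lib.Helper8.LO1

set_option backward.isDefEq.respectTransparency.types false
set_option autoImplicit false
set_option linter.unusedSectionVars false
set_option linter.style.haveILetI false

universe u
open MvPolynomial

namespace Groth.Agent.Lib.Helper8.GA1

open Groth.Agent.Lib.Helper8

variable {R A Cr : Type u} [CommRing R] [CommRing A] [Algebra R A] [CommRing Cr] [Algebra R Cr]
  [Algebra A Cr] [IsScalarTower R A Cr] {n m r : ℕ}
  (f : MvPolynomial (Fin n) A →ₐ[A] Cr) (hf : Function.Surjective f)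
  (F : Fin m → MvPolynomial (Fin n) A)
  (hker : RingHom.ker f.toRingHom = Ideal.span (Set.range F))
  (hk : Fin r → A)

/-- the polynomial ring of the glued algebra -/
abbrev PB (A : Type u) [CommRing A] (n r : ℕ) : Type u :=
  MvPolynomial (Fin n ⊕ Option (Fin r)) A

/-- the variable `z` -/
noncomputable abbrev zz {A : Type u} [CommRing A] {n r : ℕ} : PB A n r := X (Sum.inr none)

/-- the relations -/
noncomputable def relB : Fin m ⊕ Fin r → PB A n r :=
  Sum.elim (fun ℓ => zz * rename Sum.inl (F ℓ)) (fun k => zz * X (Sum.inr (some k)))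

/-- the ideal of relations -/
noncomputable def IB : Ideal (PB A n r) := Ideal.span (Set.range (relB (r := r) F))

/-- the glued algebra -/
abbrev BB : Type u := PB A n r ⧸ IB (r := r) F

theorem IB_fg : (IB (r := r) F).FG := by
  classical
  refine ⟨Finset.univ.image (relB (r := r) F), ?_⟩
  rw [Finset.coe_image, Finset.coe_univ, Set.image_univ]
  rfl

/-- constructing maps out of a localization of the glued algebra -/
theorem exists_lift_aux {D : Type u} [CommRing D] [Algebra R D] (I : Ideal D) (hI : I ^ 2 = ⊥)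
    (b : BB (r := r) F)
    (ψbar : Localization.Away b →ₐ[R] D ⧸ I)
    (ψA : A →ₐ[R] D) (val : Fin n ⊕ Option (Fin r) → D)
    (hrel : ∀ j, aevalTower ψA val (relB (r := r) F j) = 0)
    (hA : ∀ a : A, Ideal.Quotient.mk I (ψA a) =
      ψbar (algebraMap (BB (r := r) F) _ (Ideal.Quotient.mk _ (C a))))
    (hval : ∀ v, Ideal.Quotient.mk I (val v) =
      ψbar (algebraMap (BB (r := r) F) _ (Ideal.Quotient.mk _ (X v)))) :
    ∃ ψ : Localization.Away b →ₐ[R] D, (Ideal.Quotient.mkₐ R I).comp ψ = ψbar := by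
  classical
  let ψ₀ : PB A n r →ₐ[R] D := aevalTower ψA val
  have hψ₀I : ∀ p ∈ IB (r := r) F, ψ₀ p = 0 := by
    intro p hp
    refine Submodule.span_induction ?_ ?_ ?_ ?_ hp
    · rintro _ ⟨j, rfl⟩
      exact hrel j
    · exact map_zero _
    · intro x y _ _ hx hy
      rw [map_add, hx, hy, add_zero]
    · intro c x _ hx
      rw [smul_eq_mul, map_mul, hx, mul_zero]
  let ψ₁ : BB (r := r) F →ₐ[R] D := Ideal.Quotient.liftₐ _ ψ₀ hψ₀I
  have hψ₁mk : ∀ p, ψ₁ (Ideal.Quotient.mk _ p) = ψ₀ p := fun p => rfl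
  -- compatibility before localization
  have hcompat : (Ideal.Quotient.mkₐ R I).comp ψ₁ =
      ψbar.comp (IsScalarTower.toAlgHom R (BB (r := r) F) (Localization.Away b)) := by
    apply Ideal.Quotient.algHom_ext
    apply MvPolynomial.algHom_ext'
    · apply AlgHom.ext
      intro a
      change Ideal.Quotient.mk I (ψ₀ (C a)) = _
      rw [aevalTower_C]
      exact hA a
    · intro v
      change Ideal.Quotient.mk I (ψ₀ (X v)) = _
      rw [aevalTower_X]
      exact hval v
  have hcompat' : ∀ x, Ideal.Quotient.mk I (ψ₁ x) = ψbar (algebraMap _ _ x) := fun x =>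
    DFunLike.congr_fun hcompat x
  have hnil : ∀ x ∈ RingHom.ker (Ideal.Quotient.mk I), IsNilpotent x := by
    intro x hx
    rw [Ideal.mk_ker] at hx
    refine ⟨2, ?_⟩
    have : x ^ 2 ∈ I ^ 2 := Ideal.pow_mem_pow hx 2
    rw [hI] at this
    exact this
  have hbu : IsUnit (ψ₁ b) := by
    apply LO1.isUnit_of_map_of_nilpotent_ker (Ideal.Quotient.mk I) Ideal.Quotient.mk_surjective hnil
    rw [hcompat']
    exact (IsLocalization.Away.algebraMap_isUnit b).map ψbar
  have hunits : ∀ y : Submonoid.powers b, IsUnit (ψ₁ y) := by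
    rintro ⟨_, k, rfl⟩
    rw [map_pow]
    exact hbu.pow k
  refine ⟨IsLocalization.liftAlgHom (M := Submonoid.powers b) (f := ψ₁) hunits, ?_⟩
  apply IsLocalization.algHom_ext (Submonoid.powers b)
  apply AlgHom.ext
  intro x
  change Ideal.Quotient.mk I (IsLocalization.liftAlgHom (M := Submonoid.powers b) (f := ψ₁) hunits
    (algebraMap _ _ x)) = ψbar (algebraMap _ _ x)
  rw [IsLocalization.liftAlgHom_apply, IsLocalization.lift_eq]
  exact hcompat' x


theorem rel_inr_mem (k : Fin r) :
    (zz * X (Sum.inr (some k)) : PB A n r) ∈ IB (r := r) F :=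
  Ideal.subset_span ⟨Sum.inr k, rfl⟩

theorem rel_inl_mem (ℓ : Fin m) :
    (zz * rename Sum.inl (F ℓ) : PB A n r) ∈ IB (r := r) F :=
  Ideal.subset_span ⟨Sum.inl ℓ, rfl⟩

/-- smoothness near the `A`-part -/
theorem formallySmooth_b (k : Fin r) [Algebra.Smooth R (Localization.Away (hk k))]
    (b : BB (r := r) F)
    (hb : b = Ideal.Quotient.mk (IB (r := r) F) (X (Sum.inr (some k)) * MvPolynomial.C (hk k))) :
    Algebra.FormallySmooth R (Localization.Away b) := by
  classical
  apply Algebra.FormallySmooth.of_comp_surjective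
  intro D _ _ I hI ψbar
  let jB : BB (r := r) F →ₐ[R] Localization.Away b := IsScalarTower.toAlgHom R _ _
  have hbu : IsUnit (jB b) := IsLocalization.Away.algebraMap_isUnit b
  have hb2 : jB b = jB (Ideal.Quotient.mk _ (X (Sum.inr (some k)))) *
      jB (Ideal.Quotient.mk _ (MvPolynomial.C (hk k))) := by
    have : b = Ideal.Quotient.mk _ (X (Sum.inr (some k))) *
        Ideal.Quotient.mk _ (MvPolynomial.C (hk k)) := by rw [hb, map_mul]
    rw [← map_mul]
    exact congrArg jB this
  have hu1 : IsUnit (jB (Ideal.Quotient.mk (IB (r := r) F) (X (Sum.inr (some k))))) := by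
    rw [hb2] at hbu
    exact isUnit_of_mul_isUnit_left hbu
  have hu2 : IsUnit (jB (Ideal.Quotient.mk (IB (r := r) F) (MvPolynomial.C (hk k)))) := by
    rw [hb2] at hbu
    exact isUnit_of_mul_isUnit_right hbu
  -- the map on A
  let ψbarA : A →ₐ[R] D ⧸ I :=
    ((ψbar.comp jB).comp (Ideal.Quotient.mkₐ R (IB (r := r) F))).comp
      (IsScalarTower.toAlgHom R A (PB A n r))
  have hψbarA : ∀ a, ψbarA a = ψbar (jB (Ideal.Quotient.mk _ (MvPolynomial.C a))) := fun a => rfl
  have hunitsA : ∀ y : Submonoid.powers (hk k), IsUnit (ψbarA y) := by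
    rintro ⟨_, e, rfl⟩
    rw [map_pow]
    refine IsUnit.pow e ?_
    rw [hψbarA]
    exact hu2.map ψbar
  let ψbarAh : Localization.Away (hk k) →ₐ[R] D ⧸ I :=
    IsLocalization.liftAlgHom (M := Submonoid.powers (hk k)) (f := ψbarA) hunitsA
  obtain ⟨ψAh, hψAh⟩ := Algebra.FormallySmooth.comp_surjective R (Localization.Away (hk k)) I hI ψbarAh
  let ψA : A →ₐ[R] D := ψAh.comp (IsScalarTower.toAlgHom R A (Localization.Away (hk k)))
  have hψA : ∀ a, Ideal.Quotient.mk I (ψA a) = ψbarA a := by
    intro a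
    have h1 := DFunLike.congr_fun hψAh (algebraMap A (Localization.Away (hk k)) a)
    change Ideal.Quotient.mk I (ψAh (algebraMap A _ a)) = ψbarAh (algebraMap A _ a) at h1
    rw [IsLocalization.liftAlgHom_apply, IsLocalization.lift_eq] at h1
    exact h1
  -- values
  have hlifts : ∀ v : Fin n ⊕ Option (Fin r), ∃ d : D, Ideal.Quotient.mk I d =
      ψbar (jB (Ideal.Quotient.mk _ (X v))) := fun v => Ideal.Quotient.mk_surjective _
  choose val₀ hval₀ using hlifts
  let val : Fin n ⊕ Option (Fin r) → D := Function.update val₀ (Sum.inr none) 0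
  have hvalz : val (Sum.inr none) = 0 := Function.update_self _ _ _
  have hzbar : ψbar (jB (Ideal.Quotient.mk (IB (r := r) F) (X (Sum.inr none)))) = 0 := by
    have h1 : Ideal.Quotient.mk (IB (r := r) F) (X (Sum.inr none)) *
        Ideal.Quotient.mk (IB (r := r) F) (X (Sum.inr (some k))) = 0 := by
      rw [← map_mul, Ideal.Quotient.eq_zero_iff_mem]
      exact rel_inr_mem F k
    have h2 := congrArg (fun x => ψbar (jB x)) h1
    simp only [map_mul, map_zero] at h2
    exact ((hu1.map ψbar).mul_left_eq_zero).mp h2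
  refine exists_lift_aux F I hI b ψbar ψA val ?_ ?_ ?_
  · rintro (ℓ | k')
    · change aevalTower ψA val (zz * rename Sum.inl (F ℓ)) = 0
      rw [map_mul, aevalTower_X, hvalz, zero_mul]
    · change aevalTower ψA val (zz * X (Sum.inr (some k'))) = 0
      rw [map_mul, aevalTower_X, hvalz, zero_mul]
  · intro a
    rw [hψA, hψbarA]
    rfl
  · intro v
    by_cases hv : v = Sum.inr none
    · subst hv
      rw [hvalz, map_zero]
      exact hzbar.symm
    · have : val v = val₀ v := Function.update_of_ne hv _ _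
      rw [this, hval₀]
      rfl

include hf hker in
/-- smoothness near the `C`-part -/
theorem formallySmooth_a (Q : MvPolynomial (Fin n) A) [Algebra.Smooth R (Localization.Away (f Q))]
    (b : BB (r := r) F)
    (hb : b = Ideal.Quotient.mk (IB (r := r) F) (zz * rename Sum.inl Q)) :
    Algebra.FormallySmooth R (Localization.Away b) := by
  classical
  apply Algebra.FormallySmooth.of_comp_surjective
  intro D _ _ I hI ψbar
  let jB : BB (r := r) F →ₐ[R] Localization.Away b := IsScalarTower.toAlgHom R _ _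
  have hbu : IsUnit (jB b) := IsLocalization.Away.algebraMap_isUnit b
  have hb2 : jB b = jB (Ideal.Quotient.mk _ zz) *
      jB (Ideal.Quotient.mk _ (rename Sum.inl Q)) := by
    have : b = Ideal.Quotient.mk (IB (r := r) F) zz *
        Ideal.Quotient.mk _ (rename Sum.inl Q) := by rw [hb, map_mul]
    rw [← map_mul]
    exact congrArg jB this
  have hu1 : IsUnit (jB (Ideal.Quotient.mk (IB (r := r) F) zz)) := by
    rw [hb2] at hbu
    exact isUnit_of_mul_isUnit_left hbu
  have hu2 : IsUnit (jB (Ideal.Quotient.mk (IB (r := r) F) (rename Sum.inl Q))) := by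
    rw [hb2] at hbu
    exact isUnit_of_mul_isUnit_right hbu
  -- the map on C
  let renR : MvPolynomial (Fin n) A →ₐ[R] PB A n r :=
    (rename (R := A) (Sum.inl : Fin n → Fin n ⊕ Option (Fin r))).restrictScalars R
  let ρ₀ : MvPolynomial (Fin n) A →ₐ[R] D ⧸ I :=
    ((ψbar.comp jB).comp (Ideal.Quotient.mkₐ R (IB (r := r) F))).comp renR
  have hρ₀ : ∀ P, ρ₀ P = ψbar (jB (Ideal.Quotient.mk _ (rename Sum.inl P))) := fun P => rfl
  have hρ₀F : ∀ ℓ, ρ₀ (F ℓ) = 0 := by
    intro ℓ
    have h1 : Ideal.Quotient.mk (IB (r := r) F) zz *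
        Ideal.Quotient.mk (IB (r := r) F) (rename Sum.inl (F ℓ)) = 0 := by
      rw [← map_mul, Ideal.Quotient.eq_zero_iff_mem]
      exact rel_inl_mem F ℓ
    have h2 := congrArg (fun x => ψbar (jB x)) h1
    simp only [map_mul, map_zero] at h2
    rw [hρ₀]
    exact ((hu1.map ψbar).mul_right_eq_zero).mp h2
  have hρ₀ker : ∀ p ∈ RingHom.ker f.toRingHom, ρ₀ p = 0 := by
    intro p hp
    rw [hker] at hp
    refine Submodule.span_induction ?_ ?_ ?_ ?_ hp
    · rintro _ ⟨ℓ, rfl⟩
      exact hρ₀F ℓ
    · exact map_zero _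
    · intro x y _ _ hx hy
      rw [map_add, hx, hy, add_zero]
    · intro c x _ hx
      rw [smul_eq_mul, map_mul, hx, mul_zero]
  let eC : (MvPolynomial (Fin n) A ⧸ RingHom.ker f.toRingHom) ≃ₐ[R] Cr :=
    (Ideal.quotientKerAlgEquivOfSurjective hf).restrictScalars R
  let χbar : Cr →ₐ[R] D ⧸ I :=
    (Ideal.Quotient.liftₐ (RingHom.ker f.toRingHom) ρ₀ hρ₀ker).comp eC.symm.toAlgHom
  have hχbar : ∀ P, χbar (f P) = ρ₀ P := by
    intro P
    have : eC.symm (f P) = Ideal.Quotient.mk _ P := by
      rw [AlgEquiv.symm_apply_eq]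
      rfl
    change (Ideal.Quotient.liftₐ (RingHom.ker f.toRingHom) ρ₀ hρ₀ker) (eC.symm (f P)) = _
    rw [this]
    rfl
  have hunitsC : ∀ y : Submonoid.powers (f Q), IsUnit (χbar y) := by
    rintro ⟨_, e, rfl⟩
    rw [map_pow]
    refine IsUnit.pow e ?_
    rw [hχbar, hρ₀]
    exact hu2.map ψbar
  let χbarh : Localization.Away (f Q) →ₐ[R] D ⧸ I :=
    IsLocalization.liftAlgHom (M := Submonoid.powers (f Q)) (f := χbar) hunitsC
  obtain ⟨χh, hχh⟩ := Algebra.FormallySmooth.comp_surjective R (Localization.Away (f Q)) I hI χbarh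
  let χC : Cr →ₐ[R] D := χh.comp (IsScalarTower.toAlgHom R Cr (Localization.Away (f Q)))
  have hχC : ∀ c, Ideal.Quotient.mk I (χC c) = χbar c := by
    intro c
    have h1 := DFunLike.congr_fun hχh (algebraMap Cr (Localization.Away (f Q)) c)
    change Ideal.Quotient.mk I (χh (algebraMap Cr _ c)) = χbarh (algebraMap Cr _ c) at h1
    rw [IsLocalization.liftAlgHom_apply, IsLocalization.lift_eq] at h1
    exact h1
  let ψA : A →ₐ[R] D := χC.comp (IsScalarTower.toAlgHom R A Cr)
  have hψAf : ∀ a, ψA a = χC (f (MvPolynomial.C a)) := by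
    intro a
    change χC (algebraMap A Cr a) = _
    rw [← MvPolynomial.algebraMap_eq, AlgHom.commutes]
  obtain ⟨z₀, hz₀⟩ := Ideal.Quotient.mk_surjective (I := I)
    (ψbar (jB (Ideal.Quotient.mk (IB (r := r) F) zz)))
  let val : Fin n ⊕ Option (Fin r) → D :=
    Sum.elim (fun i => χC (f (X i))) (fun o => Option.elim o z₀ (fun _ => 0))
  have hcomp : ∀ P : MvPolynomial (Fin n) A, aevalTower ψA val (rename Sum.inl P) = χC (f P) := by
    intro P
    have : ((aevalTower ψA val).comp renR) = χC.comp (f.restrictScalars R) := by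
      apply MvPolynomial.algHom_ext'
      · apply AlgHom.ext
        intro a
        change aevalTower ψA val (rename Sum.inl (MvPolynomial.C a)) = χC (f (MvPolynomial.C a))
        rw [rename_C, aevalTower_C, hψAf]
      · intro i
        change aevalTower ψA val (rename Sum.inl (X i)) = χC (f (X i))
        rw [rename_X, aevalTower_X]
        rfl
    exact DFunLike.congr_fun this P
  have hukbar : ∀ k : Fin r, ψbar (jB (Ideal.Quotient.mk (IB (r := r) F) (X (Sum.inr (some k))))) = 0 := by
    intro k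
    have h1 : Ideal.Quotient.mk (IB (r := r) F) zz *
        Ideal.Quotient.mk (IB (r := r) F) (X (Sum.inr (some k))) = 0 := by
      rw [← map_mul, Ideal.Quotient.eq_zero_iff_mem]
      exact rel_inr_mem F k
    have h2 := congrArg (fun x => ψbar (jB x)) h1
    simp only [map_mul, map_zero] at h2
    exact ((hu1.map ψbar).mul_right_eq_zero).mp h2
  refine exists_lift_aux F I hI b ψbar ψA val ?_ ?_ ?_
  · rintro (ℓ | k')
    · change aevalTower ψA val (zz * rename Sum.inl (F ℓ)) = 0
      rw [map_mul, hcomp]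
      have : f (F ℓ) = 0 := by
        have h : F ℓ ∈ RingHom.ker f.toRingHom := by
          rw [hker]; exact Ideal.subset_span ⟨ℓ, rfl⟩
        exact h
      rw [this, map_zero, mul_zero]
    · change aevalTower ψA val (zz * X (Sum.inr (some k'))) = 0
      rw [map_mul, aevalTower_X, aevalTower_X]
      change z₀ * 0 = 0
      rw [mul_zero]
  · intro a
    rw [hψAf, hχC, hχbar, hρ₀, rename_C]
    rfl
  · rintro (i | o)
    · change Ideal.Quotient.mk I (χC (f (X i))) = _
      rw [hχC, hχbar, hρ₀, rename_X]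
      rfl
    · cases o with
      | none =>
        change Ideal.Quotient.mk I z₀ = _
        rw [hz₀]
        rfl
      | some k =>
        change Ideal.Quotient.mk I 0 = _
        rw [map_zero]
        exact (hukbar k).symm

end Groth.Agent.Lib.Helper8.GA1
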