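import Mathlib
import Groth.Prelude.Def_Smoothing
import Groth.Agent.Lib.Helper8.SI1
import Groth.Agent.Lib.Helper8.GA1
import Groth.Agent.Lib.Helper8.DW1

set_option backward.isDefEq.respectTransparency.types false
set_option autoImplicit false
set_option linter.unusedSectionVars false
set_option linter.style.haveILetI false

universe u
open MvPolynomial TensorProduct Smoothing

namespace Groth.Agent.Lib.Helper8.DZ1

open Groth.Agent.Lib.Helper8

theorem main2034 {R A Λ Rₚ Λq : Type u} [CommRing R] [IsNoetherianRing R] [CommRing A]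
    [Algebra R A] [Algebra.FinitePresentation R A] [CommRing Λ] [Algebra R Λ] (φ : A →ₐ[R] Λ)
    (𝔮 : Ideal Λ) [𝔮.IsPrime] (hmin : 𝔮 ∈ (Smoothing.singRad R φ).minimalPrimes)
    [CommRing Rₚ] [Algebra R Rₚ] [IsLocalization.AtPrime Rₚ (𝔮.comap (algebraMap R Λ))]
    [CommRing Λq] [Algebra Λ Λq] [IsLocalization.AtPrime Λq 𝔮] [Algebra R Λq] [IsScalarTower R Λ Λq]
    [Algebra Rₚ Λq] [IsScalarTower R Rₚ Λq] (hdim : ringKrullDim Λq = 0)
    (hres : Smoothing.Resolvable Rₚ
      (Algebra.TensorProduct.lift (Algebra.ofId Rₚ Λq) ((IsScalarTower.toAlgHom R Λ Λq).comp φ)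
        (fun _ _ => Commute.all _ _) : Rₚ ⊗[R] A →ₐ[Rₚ] Λq) (𝔮.map (algebraMap Λ Λq))) :
    Smoothing.Resolvable R φ 𝔮 := by
  classical
  obtain ⟨Cr, _, _, hCfp, gC, hC, hcomp, hnotC⟩ := DW1.main2033 φ 𝔮 hres
  haveI := hCfp
  rw [SI1.not_map_le_iff] at hnotC
  obtain ⟨c₀, hc₀H, hc₀q⟩ := hnotC
  letI algACr : Algebra A Cr := gC.toRingHom.toAlgebra
  haveI : IsScalarTower R A Cr := IsScalarTower.of_algebraMap_eq (fun r => (gC.commutes r).symm)
  haveI : Algebra.FinitePresentation A Cr :=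
    Algebra.FinitePresentation.of_restrict_scalars_finitePresentation R A Cr
  obtain ⟨n, f, hf, hfg⟩ := (inferInstance : Algebra.FinitePresentation A Cr).out
  obtain ⟨G0, hG0⟩ := hfg
  let F : Fin G0.card → MvPolynomial (Fin n) A := fun i => (G0.equivFin.symm i).1
  have hker : RingHom.ker f.toRingHom = Ideal.span (Set.range F) := by
    rw [← hG0]
    congr 1
    ext x
    constructor
    · intro hx
      exact ⟨G0.equivFin ⟨x, hx⟩, by simp [F]⟩
    · rintro ⟨i, rfl⟩
      exact (G0.equivFin.symm i).2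
  obtain ⟨Q, rfl⟩ := hf c₀
  haveI hsmQ : Algebra.Smooth R (Localization.Away (f Q)) := (SI1.mem_singularIdeal_iff _).mp hc₀H
  -- generators of the singular ideal of A
  haveI : IsNoetherianRing A := Algebra.FiniteType.isNoetherianRing R A
  obtain ⟨r, hk, hspan⟩ := Submodule.fg_iff_exists_fin_generating_family.mp
    (IsNoetherian.noetherian (singularIdeal R A))
  have hkH : ∀ k, hk k ∈ singularIdeal R A := fun k => by
    rw [← hspan]; exact Submodule.subset_span ⟨k, rfl⟩
  haveI hsmk : ∀ k, Algebra.Smooth R (Localization.Away (hk k)) := fun k =>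
    (SI1.mem_singularIdeal_iff _).mp (hkH k)
  have hφkq : ∀ k, φ (hk k) ∈ 𝔮 := by
    intro k
    apply hmin.1.2
    unfold singRad
    exact Ideal.le_radical (Ideal.mem_map_of_mem _ (hkH k))
  -- nilpotency in the local ring
  haveI : IsLocalRing Λq := IsLocalization.AtPrime.isLocalRing Λq 𝔮
  haveI : Ring.KrullDimLE 0 Λq := Ring.krullDimLE_iff.mpr (by rw [hdim]; rfl)
  have hmax : 𝔮.map (algebraMap Λ Λq) = IsLocalRing.maximalIdeal Λq :=
    IsLocalization.AtPrime.map_eq_maximalIdeal 𝔮 Λq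
  have hnil : ∀ k, ∃ (N : ℕ) (l : Λ), l ∉ 𝔮 ∧ l * φ (hk k) ^ N = 0 := by
    intro k
    have h1 : algebraMap Λ Λq (φ (hk k)) ∈ IsLocalRing.maximalIdeal Λq := by
      rw [← hmax]; exact Ideal.mem_map_of_mem _ (hφkq k)
    rw [← Ring.KrullDimLE.nilradical_eq_maximalIdeal, mem_nilradical] at h1
    obtain ⟨N, hN⟩ := h1
    rw [← map_pow, IsLocalization.map_eq_zero_iff 𝔮.primeCompl Λq] at hN
    obtain ⟨l, hl⟩ := hN
    exact ⟨N, l.1, l.2, hl⟩
  choose Nk lk hlkq hlk0 using hnil
  set l₁ : Λ := ∏ k, lk k with hl₁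
  have hl₁q : l₁ ∉ 𝔮 := by
    have : l₁ ∈ 𝔮.primeCompl := Submonoid.prod_mem _ fun k _ => hlkq k
    exact this
  have hl₁0 : ∀ k, l₁ * φ (hk k) ^ Nk k = 0 := by
    intro k
    rw [hl₁, ← Finset.mul_prod_erase _ _ (Finset.mem_univ k), mul_comm (lk k), mul_assoc, hlk0,
      mul_zero]
  -- the algebra B
  haveI : Algebra.FinitePresentation A (GA1.BB (r := r) F) :=
    Algebra.FinitePresentation.quotient (GA1.IB_fg F)
  haveI hBfp : Algebra.FinitePresentation R (GA1.BB (r := r) F) :=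
    Algebra.FinitePresentation.trans R A _
  letI algAΛ : Algebra A Λ := φ.toRingHom.toAlgebra
  haveI : IsScalarTower R A Λ := IsScalarTower.of_algebraMap_eq (fun r => (φ.commutes r).symm)
  let hCA : Cr →ₐ[A] Λ :=
    { toRingHom := hC.toRingHom
      commutes' := by
        intro a
        change hC (gC a) = φ a
        rw [← hcomp]
        rfl }
  let valΛ : Fin n ⊕ Option (Fin r) → Λ :=
    Sum.elim (fun i => hC (f (X i))) (fun o => Option.elim o l₁ (fun k => φ (hk k) ^ Nk k))
  let h₀ : GA1.PB A n r →ₐ[A] Λ := aeval valΛ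
  have hh₀ren : ∀ P : MvPolynomial (Fin n) A, h₀ (rename Sum.inl P) = hC (f P) := by
    intro P
    have : (h₀.comp (rename Sum.inl)) = hCA.comp f := by
      apply MvPolynomial.algHom_ext
      intro i
      simp [h₀, valΛ, hCA]
    exact DFunLike.congr_fun this P
  have hh₀z : h₀ GA1.zz = l₁ := by simp [h₀, valΛ]
  have hh₀u : ∀ k, h₀ (X (Sum.inr (some k))) = φ (hk k) ^ Nk k := fun k => by simp [h₀, valΛ]
  have hh₀I : ∀ p ∈ GA1.IB (r := r) F, h₀ p = 0 := by
    intro p hp
    refine Submodule.span_induction ?_ ?_ ?_ ?_ hp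
    · rintro _ ⟨ℓ | k, rfl⟩
      · change h₀ (GA1.zz * rename Sum.inl (F ℓ)) = 0
        rw [map_mul, hh₀ren]
        have : f (F ℓ) = 0 := by
          have h : F ℓ ∈ RingHom.ker f.toRingHom := by
            rw [hker]; exact Ideal.subset_span ⟨ℓ, rfl⟩
          exact h
        rw [this, map_zero, mul_zero]
      · change h₀ (GA1.zz * X (Sum.inr (some k))) = 0
        rw [map_mul, hh₀z, hh₀u, hl₁0]
    · exact map_zero _
    · intro x y _ _ hx hy
      rw [map_add, hx, hy, add_zero]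
    · intro c x _ hx
      rw [smul_eq_mul, map_mul, hx, mul_zero]
  let hB : GA1.BB (r := r) F →ₐ[A] Λ := Ideal.Quotient.liftₐ _ h₀ hh₀I
  have hhB : ∀ p, hB (Ideal.Quotient.mk _ p) = h₀ p := fun p => rfl
  refine ⟨GA1.BB (r := r) F, inferInstance, inferInstance, hBfp,
    IsScalarTower.toAlgHom R A _, hB.restrictScalars R, ?_, ?_, ?_⟩
  · apply AlgHom.ext
    intro a
    change hB (algebraMap A _ a) = φ a
    rw [AlgHom.commutes]
    rfl
  · -- the singular radical grows
    unfold singRad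
    rw [Ideal.radical_le_radical_iff, ← hspan]
    change Ideal.map φ (Ideal.span (Set.range hk)) ≤ _
    rw [Ideal.map_span, Ideal.span_le]
    rintro _ ⟨_, ⟨k, rfl⟩, rfl⟩
    let bk : GA1.BB (r := r) F :=
      Ideal.Quotient.mk _ (X (Sum.inr (some k)) * MvPolynomial.C (hk k))
    have hbkH : bk ∈ singularIdeal R (GA1.BB (r := r) F) := by
      rw [SI1.mem_singularIdeal_iff]
      haveI : Algebra.FinitePresentation (GA1.BB (r := r) F) (Localization.Away bk) :=
        IsLocalization.Away.finitePresentation bk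
      exact ⟨GA1.formallySmooth_b F hk k bk rfl,
        Algebra.FinitePresentation.trans R (GA1.BB (r := r) F) (Localization.Away bk)⟩
    have hbkval : (hB.restrictScalars R) bk = φ (hk k) ^ (Nk k + 1) := by
      change hB (Ideal.Quotient.mk _ _) = _
      rw [hhB, map_mul, hh₀u, ← MvPolynomial.algebraMap_eq, AlgHom.commutes, pow_succ]
      rfl
    refine ⟨Nk k + 1, ?_⟩
    rw [← hbkval]
    exact Ideal.mem_map_of_mem _ hbkH
  · rw [SI1.not_singRad_le_iff]
    let b₀ : GA1.BB (r := r) F := Ideal.Quotient.mk _ (GA1.zz * rename Sum.inl Q)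
    have hb₀H : b₀ ∈ singularIdeal R (GA1.BB (r := r) F) := by
      rw [SI1.mem_singularIdeal_iff]
      haveI : Algebra.FinitePresentation (GA1.BB (r := r) F) (Localization.Away b₀) :=
        IsLocalization.Away.finitePresentation b₀
      exact ⟨GA1.formallySmooth_a f hf F hker Q b₀ rfl,
        Algebra.FinitePresentation.trans R (GA1.BB (r := r) F) (Localization.Away b₀)⟩
    refine ⟨b₀, hb₀H, ?_⟩
    change hB (Ideal.Quotient.mk _ _) ∉ 𝔮
    rw [hhB, map_mul, hh₀z, hh₀ren]
    intro hmem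
    rcases Ideal.IsPrime.mem_or_mem inferInstance hmem with h | h
    · exact hl₁q h
    · exact hc₀q h

end Groth.Agent.Lib.Helper8.DZ1
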