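import Mathlib
import Groth.Prelude.Def_Smoothing
import Groth.Agent.Lib.Helper8.DZ1

set_option backward.isDefEq.respectTransparency.types false
set_option autoImplicit false
set_option linter.unusedSectionVars false
set_option linter.style.haveILetI false

/-!
# Resolving a problem whose localization is ind-smooth and zero-dimensional
-/

namespace Groth.Agent.Lib.Helper8.AZ1

open Smoothing TensorProduct

universe u

theorem singularIdeal_eq_top_of_smooth {R B : Type u} [CommRing R] [CommRing B] [Algebra R B]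
    [Algebra.Smooth R B] : singularIdeal R B = ⊤ := by
  unfold singularIdeal
  rw [Algebra.smoothLocus_eq_univ, Set.compl_univ, PrimeSpectrum.vanishingIdeal_empty]

theorem singRad_eq_top_of_smooth {R B Λ : Type u} [CommRing R] [CommRing B] [Algebra R B]
    [CommRing Λ] [Algebra R Λ] [Algebra.Smooth R B] (h : B →ₐ[R] Λ) : singRad R h = ⊤ := by
  unfold singRad
  rw [singularIdeal_eq_top_of_smooth, Ideal.map_top, Ideal.radical_top]

/-- a map into an ind-smooth algebra can be resolved at any proper ideal. -/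
theorem resolvable_of_indSmooth {R A Λ : Type u} [CommRing R] [CommRing A] [Algebra R A]
    [Algebra.FinitePresentation R A] [CommRing Λ] [Algebra R Λ] (hind : IndSmooth R Λ)
    (φ : A →ₐ[R] Λ) (𝔮 : Ideal Λ) (h𝔮 : 𝔮 ≠ ⊤) : Resolvable R φ 𝔮 := by
  obtain ⟨B, _, _, hsm, g, h, hcomp⟩ := hind A inferInstance φ
  haveI := hsm
  refine ⟨B, inferInstance, inferInstance, inferInstance, g, h, hcomp, ?_, ?_⟩
  · rw [singRad_eq_top_of_smooth h]
    exact le_top
  · rw [singRad_eq_top_of_smooth h]
    intro hle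
    exact h𝔮 (top_le_iff.mp hle)

theorem resolvable_of_indSmooth_localization {R A Λ Λq : Type u} [CommRing R] [IsNoetherianRing R]
    [CommRing A] [Algebra R A] [Algebra.FinitePresentation R A] [CommRing Λ] [Algebra R Λ]
    (φ : A →ₐ[R] Λ) (𝔮 : Ideal Λ) [𝔮.IsPrime] (hmin : 𝔮 ∈ (singRad R φ).minimalPrimes)
    (hunits : ∀ r : R, algebraMap R Λ r ∉ 𝔮 → IsUnit r)
    [CommRing Λq] [Algebra Λ Λq] [IsLocalization.AtPrime Λq 𝔮] [Algebra R Λq]
    [IsScalarTower R Λ Λq] (hdim : ringKrullDim Λq = 0) (hind : IndSmooth R Λq) :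
    Resolvable R φ 𝔮 := by
  haveI : IsLocalization.AtPrime R (𝔮.comap (algebraMap R Λ)) := by
    apply IsLocalization.self
    intro r hr
    exact hunits r hr
  refine DZ1.main2034 (Rₚ := R) (Λq := Λq) φ 𝔮 hmin hdim ?_
  apply resolvable_of_indSmooth hind
  haveI : IsLocalRing Λq := IsLocalization.AtPrime.isLocalRing Λq 𝔮
  rw [IsLocalization.AtPrime.map_eq_maximalIdeal 𝔮 Λq]
  exact (IsLocalRing.maximalIdeal.isMaximal Λq).ne_top

end Groth.Agent.Lib.Helper8.AZ1
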