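import Mathlib
import Groth.Agent.Lib.Helper16.CICot

set_option backward.isDefEq.respectTransparency.types false
set_option autoImplicit false
set_option linter.unusedSectionVars false
set_option linter.style.haveILetI false

namespace Groth.Agent.Lib.Helper8.PAR1

universe u

open RingTheory.Sequence

section Stab

variable {Λ : Type u} [CommRing Λ] [IsNoetherianRing Λ]

/-- stabilization of annihilators of powers modulo an ideal -/
theorem exists_pow_stab (K : Ideal Λ) (s : Λ) :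
    ∃ m : ℕ, 1 ≤ m ∧ ∀ (x : Λ) (k : ℕ), 1 ≤ k → (s ^ m) ^ k * x ∈ K → s ^ m * x ∈ K := by
  let c : ℕ →o Submodule Λ Λ :=
    ⟨fun k => Submodule.comap (LinearMap.mulLeft Λ (s ^ k)) K, by
      intro k l hkl x hx
      simp only [Submodule.mem_comap, LinearMap.mulLeft_apply] at hx ⊢
      obtain ⟨r, rfl⟩ := Nat.exists_eq_add_of_le hkl
      rw [pow_add, mul_comm (s ^ k), mul_assoc]
      exact Ideal.mul_mem_left K _ hx⟩
  obtain ⟨m₀, hm₀⟩ := monotone_stabilizes_iff_noetherian.mpr (inferInstance : IsNoetherian Λ Λ) c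
  have hc : ∀ k x, x ∈ c k ↔ s ^ k * x ∈ K := by
    intro k x
    simp [c, Submodule.mem_comap, LinearMap.mulLeft_apply]
  refine ⟨max m₀ 1, le_max_right _ _, ?_⟩
  intro x k hk hx
  rw [← pow_mul] at hx
  have h1 : m₀ ≤ max m₀ 1 * k := le_trans (le_max_left _ _) (Nat.le_mul_of_pos_right _ hk)
  have h2 : x ∈ c (max m₀ 1 * k) := (hc _ _).mpr hx
  rw [← hm₀ _ h1, hm₀ _ (le_max_left m₀ 1)] at h2
  exact (hc _ _).mp h2

end Stab

section Loc

variable {Λ : Type u} [CommRing Λ] (q : Ideal Λ) [hq : q.IsPrime]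
  (R : Type u) [CommRing R] [Algebra Λ R] [IsLocalization.AtPrime R q]

theorem exists_mul_mem_of_map_mem (K : Ideal Λ) (x : Λ)
    (h : algebraMap Λ R x ∈ K.map (algebraMap Λ R)) : ∃ s : Λ, s ∉ q ∧ s * x ∈ K := by
  rw [IsLocalization.mem_map_algebraMap_iff q.primeCompl] at h
  obtain ⟨⟨⟨a, ha⟩, ⟨s, hs⟩⟩, h⟩ := h
  simp only at h
  rw [← map_mul, IsLocalization.eq_iff_exists q.primeCompl] at h
  obtain ⟨⟨c, hc⟩, h⟩ := h
  simp only at h
  refine ⟨c * s, ?_, ?_⟩
  · exact fun hcs => (hq.mem_or_mem hcs).elim hc hs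
  · have : c * s * x = c * a := by rw [← h]; ring
    rw [this]
    exact K.mul_mem_left _ ha

variable [IsNoetherianRing Λ]

/-- a common multiplier killing the `p`-power torsion modulo `K` -/
theorem exists_kill_torsion (K : Ideal Λ) (p : Λ)
    (hp : ∀ r : R, algebraMap Λ R p * r ∈ K.map (algebraMap Λ R) → r ∈ K.map (algebraMap Λ R)) :
    ∃ s : Λ, s ∉ q ∧ ∀ (x : Λ) (k : ℕ), p ^ k * x ∈ K → s * x ∈ K := by
  classical
  let J : Ideal Λ :=
    { carrier := {x | ∃ k : ℕ, p ^ k * x ∈ K}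
      add_mem' := by
        rintro x y ⟨k, hk⟩ ⟨l, hl⟩
        refine ⟨k + l, ?_⟩
        have : p ^ (k + l) * (x + y) = p ^ l * (p ^ k * x) + p ^ k * (p ^ l * y) := by
          rw [pow_add]; ring
        rw [this]
        exact K.add_mem (K.mul_mem_left _ hk) (K.mul_mem_left _ hl)
      zero_mem' := ⟨0, by simp⟩
      smul_mem' := by
        rintro c x ⟨k, hk⟩
        refine ⟨k, ?_⟩
        have : p ^ k * (c • x) = c * (p ^ k * x) := by
          rw [smul_eq_mul]; ring
        rw [this]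
        exact K.mul_mem_left _ hk }
  have hJ : ∀ x, x ∈ J ↔ ∃ k : ℕ, p ^ k * x ∈ K := fun x => Iff.rfl
  have hpk : ∀ (k : ℕ) (r : R), algebraMap Λ R p ^ k * r ∈ K.map (algebraMap Λ R) →
      r ∈ K.map (algebraMap Λ R) := by
    intro k
    induction k with
    | zero => intro r hr; simpa using hr
    | succ k ih =>
      intro r hr
      apply ih
      apply hp
      rw [← mul_assoc, ← pow_succ']
      exact hr
  have hx : ∀ x ∈ J, ∃ s : Λ, s ∉ q ∧ s * x ∈ K := by
    rintro x ⟨k, hk⟩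
    apply exists_mul_mem_of_map_mem q R K x
    apply hpk k
    rw [← map_pow, ← map_mul]
    exact Ideal.mem_map_of_mem _ hk
  obtain ⟨T, hT⟩ := (IsNoetherian.noetherian J : J.FG)
  have hTJ : ∀ t ∈ T, t ∈ J := fun t ht => hT ▸ Ideal.subset_span ht
  choose! σ hσq hσK using hx
  refine ⟨∏ t ∈ T, σ t, ?_, ?_⟩
  · intro hmem
    obtain ⟨t, ht, htq⟩ := (hq.prod_mem_iff).mp hmem
    exact hσq t (hTJ t ht) htq
  · intro x k hk
    have hxJ : x ∈ J := ⟨k, hk⟩
    rw [← hT] at hxJ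
    clear hk
    induction hxJ using Submodule.span_induction with
    | mem y hy =>
      have hy' : y ∈ T := hy
      rw [← Finset.mul_prod_erase T σ hy', mul_comm (σ y), mul_assoc]
      exact K.mul_mem_left _ (hσK y (hTJ y hy'))
    | zero => simp
    | add y z _ _ hy hz => rw [mul_add]; exact K.add_mem hy hz
    | smul c y _ hy =>
      have : (∏ t ∈ T, σ t) * (c • y) = c * ((∏ t ∈ T, σ t) * y) := by
        rw [smul_eq_mul]; ring
      rw [this]
      exact K.mul_mem_left _ hy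

/-- one step: multiply `p` by an element outside `q` to get the annihilator condition. -/
theorem exists_multiplier (K : Ideal Λ) (p : Λ)
    (hp : ∀ r : R, algebraMap Λ R p * r ∈ K.map (algebraMap Λ R) → r ∈ K.map (algebraMap Λ R)) :
    ∃ s : Λ, s ∉ q ∧ ∀ x : Λ, (s * p) ^ 2 * x ∈ K → (s * p) * x ∈ K := by
  obtain ⟨s, hsq, hs⟩ := exists_kill_torsion q R K p hp
  obtain ⟨m, hm1, hm⟩ := exists_pow_stab K s
  refine ⟨s ^ m, fun h => hsq (hq.mem_of_pow_mem m h), ?_⟩
  intro x hx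
  have h1 : p ^ 2 * ((s ^ m) ^ 2 * x) ∈ K := by
    have : p ^ 2 * ((s ^ m) ^ 2 * x) = (s ^ m * p) ^ 2 * x := by ring
    rw [this]; exact hx
  have h2 : s * ((s ^ m) ^ 2 * x) ∈ K := hs _ 2 h1
  have h3 : (s ^ m) ^ 3 * x ∈ K := by
    obtain ⟨r, rfl⟩ := Nat.exists_eq_add_of_le hm1
    have : (s ^ (1 + r)) ^ 3 * x = s ^ r * (s * ((s ^ (1 + r)) ^ 2 * x)) := by ring
    rw [this]
    exact K.mul_mem_left _ h2
  have h4 : s ^ m * x ∈ K := hm x 3 (by norm_num) h3
  have : s ^ m * p * x = p * (s ^ m * x) := by ring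
  rw [this]
  exact K.mul_mem_left _ h4

end Loc

end Groth.Agent.Lib.Helper8.PAR1
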