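import Mathlib
import Groth.Agent.Lib.Helper8.PAR1

set_option backward.isDefEq.respectTransparency.types false
set_option autoImplicit false
set_option linter.unusedSectionVars false
set_option linter.style.haveILetI false

namespace Groth.Agent.Lib.Helper8.PAR2

universe u

open RingTheory.Sequence Groth.Agent.Lib.Helper8.PAR1

/-- in a regular local ring, with `y` a regular system of parameters, `y i` is a nonzerodivisor
modulo the `e`-th powers of the earlier `y j`. -/
theorem regular_pow (R : Type u) [CommRing R] [IsRegularLocalRing R] (d : ℕ)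
    (hd : ringKrullDim R = d) (y : Fin d → R)
    (hy : Ideal.span (Set.range y) = IsLocalRing.maximalIdeal R) (e : ℕ) (he : 0 < e) (i : Fin d)
    (r : R) (hr : y i * r ∈ Ideal.span ((fun j => y j ^ e) '' {j | j < i})) :
    r ∈ Ideal.span ((fun j => y j ^ e) '' {j | j < i}) := by
  classical
  have hym : ∀ j, y j ∈ IsLocalRing.maximalIdeal R := fun j => hy ▸ Ideal.subset_span ⟨j, rfl⟩
  set F : List R := List.ofFn (fun j : Fin d => if j < i then y j ^ e else y j) with hF
  have hlen : F.length = d := by simp [F]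
  have hFmem : ∀ x ∈ F, x ∈ IsLocalRing.maximalIdeal R := by
    intro x hx
    rw [hF, List.mem_ofFn] at hx
    obtain ⟨j, rfl⟩ := hx
    split_ifs
    · exact Ideal.pow_mem_of_mem _ (hym j) e he
    · exact hym j
  have hFle : Ideal.ofList F ≤ IsLocalRing.maximalIdeal R := by
    rw [Ideal.ofList, Ideal.span_le]
    exact fun x hx => hFmem x hx
  have hFy : ∀ (p : Ideal R), p.IsPrime → Ideal.ofList F ≤ p → ∀ j, y j ∈ p := by
    intro p hp hle j
    have h1 : (if j < i then y j ^ e else y j) ∈ p := by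
      apply hle
      apply Ideal.subset_span
      show _ ∈ F
      rw [hF, List.mem_ofFn]
      exact ⟨j, rfl⟩
    split_ifs at h1
    · exact hp.mem_of_pow_mem e h1
    · exact h1
  have hdim0 : ringKrullDim (R ⧸ Ideal.ofList F) = 0 := by
    haveI : Nontrivial (R ⧸ Ideal.ofList F) := Ideal.Quotient.nontrivial_iff.mpr
      (fun h => (IsLocalRing.maximalIdeal.isMaximal R).ne_top (top_le_iff.mp (h ▸ hFle)))
    apply le_antisymm _ ringKrullDim_nonneg_of_nontrivial
    haveI : Ring.KrullDimLE 0 (R ⧸ Ideal.ofList F) := by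
      refine Ring.KrullDimLE.mk₀ fun Q hQ => ?_
      have hp : (Q.comap (Ideal.Quotient.mk (Ideal.ofList F))).IsPrime := Ideal.IsPrime.comap _
      have hle : Ideal.ofList F ≤ Q.comap (Ideal.Quotient.mk (Ideal.ofList F)) := by
        intro a ha
        rw [Ideal.mem_comap, Ideal.Quotient.eq_zero_iff_mem.mpr ha]
        exact Q.zero_mem
      have hm : IsLocalRing.maximalIdeal R ≤ Q.comap (Ideal.Quotient.mk (Ideal.ofList F)) := by
        rw [← hy, Ideal.span_le]
        rintro _ ⟨j, rfl⟩
        exact hFy _ hp hle j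
      have heq := (IsLocalRing.maximalIdeal.isMaximal R).eq_of_le hp.ne_top hm
      have hqm : (Q.comap (Ideal.Quotient.mk (Ideal.ofList F))).IsMaximal :=
        heq ▸ IsLocalRing.maximalIdeal.isMaximal R
      have := Ideal.map_eq_top_or_isMaximal_of_surjective (Ideal.Quotient.mk (Ideal.ofList F))
        Ideal.Quotient.mk_surjective hqm
      rw [Ideal.map_comap_of_surjective _ Ideal.Quotient.mk_surjective] at this
      rcases this with h1 | h1
      · exact absurd h1 hQ.ne_top
      · exact h1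
    exact (Ring.krullDimLE_iff).mp this
  have hCM := Groth.Agent.Lib.Helper16.PDR.isCohenMacaulayModule_self_of_isRegularLocalRing R
  have hreg : IsWeaklyRegular R F := by
    rw [Groth.Agent.Lib.Helper16.CICot.isWeaklyRegular_iff_dim hCM F hFmem, hdim0, hlen, hd,
      zero_add]
  have hi : (i : ℕ) < F.length := by rw [hlen]; exact i.isLt
  have h1 := hreg.regular_mod_prev i hi
  have hFi : F[(i : ℕ)] = y i := by
    simp [F]
  have hK : Ideal.ofList (F.take i) = Ideal.span ((fun j => y j ^ e) '' {j | j < i}) := by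
    rw [Ideal.ofList]
    congr 1
    ext x
    simp only [Set.mem_ofPred_eq, Set.mem_image]
    rw [List.mem_take_iff_getElem]
    constructor
    · rintro ⟨k, hk, rfl⟩
      have hki : k < (i : ℕ) := lt_of_lt_of_le hk (min_le_left _ _)
      have hkd : k < d := lt_trans hki i.isLt
      refine ⟨⟨k, hkd⟩, hki, ?_⟩
      simp only [F, List.getElem_ofFn]
      rw [if_pos]
      exact hki
    · rintro ⟨j, hj, rfl⟩
      have hji : (j : ℕ) < (i : ℕ) := hj
      refine ⟨j, lt_min hji (by rw [hlen]; exact j.isLt), ?_⟩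
      simp only [F, List.getElem_ofFn]
      rw [if_pos]
      exact hj
  rw [hFi, hK] at h1
  have htop : (Ideal.span ((fun j => y j ^ e) '' {j | j < i}) • (⊤ : Submodule R R)) =
      Ideal.span ((fun j => y j ^ e) '' {j | j < i}) := by
    rw [smul_eq_mul, Ideal.mul_top]
  have h2 : y i • (Submodule.Quotient.mk r : R ⧸ (Ideal.span ((fun j => y j ^ e) '' {j | j < i}) •
      (⊤ : Submodule R R))) = y i • 0 := by
    rw [smul_zero, ← Submodule.Quotient.mk_smul, Submodule.Quotient.mk_eq_zero, htop, smul_eq_mul]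
    exact hr
  have h3 := h1 h2
  rw [Submodule.Quotient.mk_eq_zero, htop] at h3
  exact h3

theorem span_range_eq_of_units {R : Type u} [CommRing R] {d : ℕ} (y y' : Fin d → R)
    (h : ∀ j, ∃ v : R, IsUnit v ∧ y' j = v * y j) :
    Ideal.span (Set.range y') = Ideal.span (Set.range y) := by
  apply le_antisymm
  · rw [Ideal.span_le]
    rintro _ ⟨j, rfl⟩
    obtain ⟨v, -, hv⟩ := h j
    rw [hv]
    exact Ideal.mul_mem_left _ _ (Ideal.subset_span ⟨j, rfl⟩)
  · rw [Ideal.span_le]
    rintro _ ⟨j, rfl⟩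
    obtain ⟨v, hvu, hv⟩ := h j
    obtain ⟨w, rfl⟩ := hvu
    have : y j = ((w⁻¹ : Rˣ) : R) * y' j := by
      rw [hv, ← mul_assoc]; simp
    rw [this]
    exact Ideal.mul_mem_left _ _ (Ideal.subset_span ⟨j, rfl⟩)

section main

variable {Λ : Type u} [CommRing Λ] [IsNoetherianRing Λ] (I q : Ideal Λ) [hq : q.IsPrime]
  (R : Type u) [CommRing R] [Algebra Λ R] [IsLocalization.AtPrime R q] [IsRegularLocalRing R]

theorem Iio_succ (k : ℕ) : Set.Iio (k + 1) = insert k (Set.Iio k) := by
  ext j
  simp only [Set.mem_Iio, Set.mem_insert_iff]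
  omega

/-- the inductive construction of the multipliers. -/
theorem exists_multipliers (e d : ℕ) (he : 0 < e) (hd : ringKrullDim R = d) (p1 : ℕ → Λ)
    (y : Fin d → R) (hy : Ideal.span (Set.range y) = IsLocalRing.maximalIdeal R)
    (hp1 : ∀ j : Fin d, ∃ v : R, IsUnit v ∧ algebraMap Λ R (p1 j) = v * y j) :
    ∀ t : ℕ, t ≤ d → ∃ u : ℕ → Λ, (∀ j, u j ∉ q) ∧ ∀ i < t, ∀ x : Λ,
      (u i * p1 i) ^ 2 * x ∈ Ideal.span ((fun j => (u j * p1 j) ^ e) '' Set.Iio i) →
      (u i * p1 i) * x ∈ Ideal.span ((fun j => (u j * p1 j) ^ e) '' Set.Iio i) := by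
  intro t
  induction t with
  | zero =>
    intro _
    exact ⟨fun _ => 1, fun _ h => hq.ne_top ((Ideal.eq_top_iff_one q).mpr h),
      fun i hi => absurd hi (Nat.not_lt_zero i)⟩
  | succ t ih =>
    intro ht
    have htd : t < d := by omega
    obtain ⟨u, huq, hu⟩ := ih (by omega)
    set K : Ideal Λ := Ideal.span ((fun j => (u j * p1 j) ^ e) '' Set.Iio t) with hK
    let y' : Fin d → R := fun j => algebraMap Λ R (u j * p1 j)
    have hy' : Ideal.span (Set.range y') = IsLocalRing.maximalIdeal R := by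
      rw [← hy]
      apply span_range_eq_of_units
      intro j
      obtain ⟨v, hv, hvj⟩ := hp1 j
      refine ⟨algebraMap Λ R (u j) * v, ?_, ?_⟩
      · exact (IsLocalization.map_units R (⟨u j, huq j⟩ : q.primeCompl)).mul hv
      · simp only [y']
        rw [map_mul, hvj, mul_assoc]
    have hKmap : K.map (algebraMap Λ R) =
        Ideal.span ((fun j => y' j ^ e) '' {j | j < (⟨t, htd⟩ : Fin d)}) := by
      rw [hK, Ideal.map_span]
      congr 1
      ext z
      constructor
      · rintro ⟨_, ⟨k, hk, rfl⟩, rfl⟩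
        have hk' : k < t := hk
        exact ⟨⟨k, lt_trans hk' htd⟩, hk', by simp [y']⟩
      · rintro ⟨j, hj, rfl⟩
        have hj' : (j : ℕ) < t := hj
        exact ⟨_, ⟨(j : ℕ), hj', rfl⟩, by simp [y']⟩
    have hp : ∀ r : R, algebraMap Λ R (u t * p1 t) * r ∈ K.map (algebraMap Λ R) →
        r ∈ K.map (algebraMap Λ R) := by
      intro r hr
      rw [hKmap] at hr ⊢
      exact regular_pow R d hd y' hy' e he ⟨t, htd⟩ r hr
    obtain ⟨s, hsq, hs⟩ := exists_multiplier q R K (u t * p1 t) hp
    refine ⟨Function.update u t (s * u t), ?_, ?_⟩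
    · intro j
      by_cases hj : j = t
      · subst hj
        rw [Function.update_self]
        exact fun h => (hq.mem_or_mem h).elim hsq (huq j)
      · rw [Function.update_of_ne hj]
        exact huq j
    · have himg : ∀ i ≤ t, (fun j => (Function.update u t (s * u t) j * p1 j) ^ e) '' Set.Iio i =
          (fun j => (u j * p1 j) ^ e) '' Set.Iio i := by
        intro i hi
        apply Set.image_congr
        intro j hj
        have : j ≠ t := ne_of_lt (lt_of_lt_of_le hj hi)
        simp only [Function.update_of_ne this]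
      intro i hi x hx
      rw [himg i (by omega)] at hx ⊢
      by_cases hit : i = t
      · subst hit
        rw [Function.update_self] at hx ⊢
        have e1 : s * u i * p1 i = s * (u i * p1 i) := by ring
        rw [e1] at hx ⊢
        exact hs x hx
      · rw [Function.update_of_ne hit] at hx ⊢
        exact hu i (by omega) x hx

/-- S2109, abstract localization. -/
theorem main2109_aux (n e d : ℕ) (hn : 0 < n) (he : 0 < e) (_hIq : I ≤ q)
    (hpow : (q ^ n).map (algebraMap Λ R) ≤ I.map (algebraMap Λ R))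
    (hd : ringKrullDim R = d) :
    ∃ (N : ℕ) (π : Fin d → Λ), 0 < N ∧
      Ideal.span (Set.range fun i => algebraMap Λ R (π i)) = q.map (algebraMap Λ R) ∧
      (∀ i, π i ^ N ∈ I) ∧
      ∀ i : Fin d, ∀ x : Λ ⧸ Ideal.span (Set.range fun j : {j : Fin d // (j : ℕ) < (i : ℕ)} => π j ^ e),
        Ideal.Quotient.mk _ (π i) ^ 2 * x = 0 → Ideal.Quotient.mk _ (π i) * x = 0 := by
  classical
  -- generators of the maximal ideal
  have hfg : (IsLocalRing.maximalIdeal R).FG := IsNoetherian.noetherian _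
  obtain ⟨T, hTcard, hTspan⟩ := Submodule.FG.exists_span_finset_card_eq_spanFinrank hfg
  have hrank : (IsLocalRing.maximalIdeal R).spanFinrank = d := by
    have h := IsRegularLocalRing.spanFinrank_maximalIdeal (R := R)
    rw [hd] at h
    exact_mod_cast h
  have hcard : T.card = d := hTcard.trans hrank
  let eT := T.equivFinOfCardEq hcard
  let y : Fin d → R := fun j => (eT.symm j : R)
  have hy : Ideal.span (Set.range y) = IsLocalRing.maximalIdeal R := by
    rw [← hTspan]
    congr 1
    ext z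
    constructor
    · rintro ⟨j, rfl⟩
      exact (eT.symm j).2
    · intro hz
      exact ⟨eT ⟨z, hz⟩, by simp [y]⟩
  have hym : ∀ j, y j ∈ IsLocalRing.maximalIdeal R := fun j => hy ▸ Ideal.subset_span ⟨j, rfl⟩
  -- lift to Λ
  have h0 : ∀ j : Fin d, ∃ (a c : Λ), c ∉ q ∧ algebraMap Λ R a = y j * algebraMap Λ R c := by
    intro j
    obtain ⟨a, ⟨c, hc⟩, hac⟩ := IsLocalization.exists_mk'_eq q.primeCompl (y j)
    refine ⟨a, c, hc, ?_⟩
    rw [← hac]
    exact (IsLocalization.mk'_spec R a ⟨c, hc⟩).symm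
  choose a0 c0 hc0 ha0 using h0
  have ha0q : ∀ j, a0 j ∈ q := by
    intro j
    rw [← IsLocalization.AtPrime.to_map_mem_maximal_iff R q (a0 j), ha0]
    exact Ideal.mul_mem_right _ _ (hym j)
  have h1 : ∀ j : Fin d, ∃ s : Λ, s ∉ q ∧ s * a0 j ^ n ∈ I := by
    intro j
    apply exists_mul_mem_of_map_mem q R I
    apply hpow
    exact Ideal.mem_map_of_mem _ (Ideal.pow_mem_pow (ha0q j) n)
  choose s1 hs1q hs1 using h1
  let p1 : ℕ → Λ := fun j => if h : j < d then s1 ⟨j, h⟩ * a0 ⟨j, h⟩ else 0
  have hp1val : ∀ j : Fin d, p1 j = s1 j * a0 j := by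
    intro j
    simp [p1, j.isLt]
  have hp1pow : ∀ j : Fin d, p1 j ^ n ∈ I := by
    intro j
    rw [hp1val, mul_pow]
    obtain ⟨m, rfl⟩ := Nat.exists_eq_add_of_le hn
    have : s1 j ^ (1 + m) * a0 j ^ (1 + m) = s1 j ^ m * (s1 j * a0 j ^ (1 + m)) := by ring
    rw [this]
    exact I.mul_mem_left _ (hs1 j)
  have hp1 : ∀ j : Fin d, ∃ v : R, IsUnit v ∧ algebraMap Λ R (p1 j) = v * y j := by
    intro j
    refine ⟨algebraMap Λ R (s1 j) * algebraMap Λ R (c0 j), ?_, ?_⟩
    · exact (IsLocalization.map_units R (⟨s1 j, hs1q j⟩ : q.primeCompl)).mul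
        (IsLocalization.map_units R (⟨c0 j, hc0 j⟩ : q.primeCompl))
    · rw [hp1val, map_mul, ha0]; ring
  obtain ⟨u, huq, hu⟩ := exists_multipliers q R e d he hd p1 y hy hp1 d le_rfl
  refine ⟨n, fun i => u i * p1 i, hn, ?_, ?_, ?_⟩
  · rw [IsLocalization.AtPrime.map_eq_maximalIdeal q R, ← hy]
    apply span_range_eq_of_units
    intro j
    obtain ⟨v, hv, hvj⟩ := hp1 j
    refine ⟨algebraMap Λ R (u j) * v, ?_, ?_⟩
    · exact (IsLocalization.map_units R (⟨u j, huq j⟩ : q.primeCompl)).mul hv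
    · rw [map_mul, hvj, mul_assoc]
  · intro i
    rw [mul_pow]
    exact I.mul_mem_left _ (hp1pow i)
  · intro i x hx
    obtain ⟨x, rfl⟩ := Ideal.Quotient.mk_surjective x
    have hrange : (Set.range fun j : {j : Fin d // (j : ℕ) < (i : ℕ)} => (u j * p1 j) ^ e) =
        (fun j : ℕ => (u j * p1 j) ^ e) '' Set.Iio (i : ℕ) := by
      ext z
      constructor
      · rintro ⟨⟨j, hj⟩, rfl⟩
        exact ⟨(j : ℕ), hj, rfl⟩
      · rintro ⟨k, hk, rfl⟩
        have hk' : k < (i : ℕ) := hk
        exact ⟨⟨⟨k, lt_trans hk' i.isLt⟩, hk'⟩, rfl⟩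
    rw [← map_pow, ← map_mul, Ideal.Quotient.eq_zero_iff_mem] at hx
    rw [← map_mul, Ideal.Quotient.eq_zero_iff_mem]
    have hx' : (u i * p1 i) ^ 2 * x ∈
        Ideal.span (Set.range fun j : {j : Fin d // (j : ℕ) < (i : ℕ)} => (u j * p1 j) ^ e) := hx
    show u i * p1 i * x ∈
        Ideal.span (Set.range fun j : {j : Fin d // (j : ℕ) < (i : ℕ)} => (u j * p1 j) ^ e)
    rw [hrange] at hx' ⊢
    exact hu i i.isLt x hx'

end main

end Groth.Agent.Lib.Helper8.PAR2
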