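import Mathlib
import Groth.Agent.Lib.Helper8.PAR2
import Groth.Agent.Lib.Helper9.RegFlat1

set_option backward.isDefEq.respectTransparency.types false
set_option autoImplicit false
set_option linter.unusedSectionVars false
set_option linter.style.haveILetI false

/-!
# A regular local ring is flat over the polynomial ring on a regular system of parameters
-/

namespace Groth.Agent.Lib.Helper8.FL1

open MvPolynomial RingTheory.Sequence IsLocalRing

universe u

theorem ofList_ofFn {T : Type*} [CommRing T] {d : ℕ} (y : Fin d → T) :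
    Ideal.ofList (List.ofFn y) = Ideal.span (Set.range y) := by
  unfold Ideal.ofList
  congr 1
  ext x
  simp [List.mem_ofFn]

theorem isWeaklyRegular_of_span_eq (T : Type u) [CommRing T] [IsRegularLocalRing T] (d : ℕ)
    (hd : ringKrullDim T = d) (y : Fin d → T)
    (hy : Ideal.span (Set.range y) = maximalIdeal T) : IsWeaklyRegular T (List.ofFn y) := by
  have hCM := Groth.Agent.Lib.Helper16.PDR.isCohenMacaulayModule_self_of_isRegularLocalRing T
  have hmem : ∀ x ∈ List.ofFn y, x ∈ maximalIdeal T := by
    intro x hx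
    rw [List.mem_ofFn] at hx
    obtain ⟨j, rfl⟩ := hx
    rw [← hy]
    exact Ideal.subset_span ⟨j, rfl⟩
  rw [Groth.Agent.Lib.Helper16.CICot.isWeaklyRegular_iff_dim hCM _ hmem, ofList_ofFn, hy,
    List.length_ofFn, hd]
  have : ringKrullDim (T ⧸ maximalIdeal T) = 0 :=
    ringKrullDim_eq_zero_of_isField
      ((Ideal.Quotient.maximal_ideal_iff_isField_quotient _).mp (maximalIdeal.isMaximal T))
  rw [this, zero_add]

theorem idealOfVars_eq_ker (k : Type*) [CommRing k] (σ : Type*) :
    Ideal.span (Set.range (X : σ → MvPolynomial σ k)) =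
      RingHom.ker (constantCoeff : MvPolynomial σ k →+* k) := by
  ext p
  have h := MvPolynomial.mem_pow_idealOfVars_iff' (σ := σ) (R := k) 1 p
  rw [pow_one] at h
  rw [h, RingHom.mem_ker, constantCoeff_eq]
  constructor
  · intro hp
    apply hp
    simp
  · intro hp x hx
    have : x = 0 := by
      have h1 : Finsupp.degree x = 0 := by omega
      exact (Finsupp.degree_eq_zero_iff x).mp h1
    rw [this]
    exact hp

theorem flat_of_regular {k : Type u} [Field k] {d : ℕ} (T : Type u) [CommRing T]
    [IsRegularLocalRing T] [Algebra (MvPolynomial (Fin d) k) T] (hd : ringKrullDim T = d)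
    (hspan : Ideal.span (Set.range fun i => algebraMap (MvPolynomial (Fin d) k) T (X i)) =
      maximalIdeal T) : Module.Flat (MvPolynomial (Fin d) k) T := by
  have hreg := isWeaklyRegular_of_span_eq T d hd _ hspan
  have hmap : (List.ofFn fun i => algebraMap (MvPolynomial (Fin d) k) T (X i)) =
      (List.ofFn fun i : Fin d => (X i : MvPolynomial (Fin d) k)).map
        (algebraMap (MvPolynomial (Fin d) k) T) := by
    rw [List.map_ofFn]
    rfl
  rw [hmap, isWeaklyRegular_map_algebraMap_iff] at hreg
  set J : Ideal (MvPolynomial (Fin d) k) :=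
    Ideal.ofList (List.ofFn fun i : Fin d => (X i : MvPolynomial (Fin d) k)) with hJ
  have hJ' : J = Ideal.span (Set.range (X : Fin d → MvPolynomial (Fin d) k)) := ofList_ofFn _
  have hI : Function.Injective (J.subtype.rTensor T) :=
    (Groth.Agent.Lib.Helper9.RegFlat.rTensor_injective_iff_mu J T).mpr
      (Groth.Agent.Lib.Helper9.RegFlat.mu_injective_of_isWeaklyRegular _ T hreg)
  haveI : J.IsMaximal := by
    rw [hJ', idealOfVars_eq_ker]
    exact RingHom.ker_isMaximal_of_surjective _ (fun c => ⟨C c, constantCoeff_C _ c⟩)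
  letI := Ideal.Quotient.field J
  have hIS : J.map (algebraMap (MvPolynomial (Fin d) k) T) ≤ Ideal.jacobson ⊥ := by
    rw [IsLocalRing.jacobson_eq_maximalIdeal ⊥ bot_ne_top, hJ', Ideal.map_span, ← hspan]
    apply Ideal.span_mono
    rintro _ ⟨_, ⟨i, rfl⟩, rfl⟩
    exact ⟨i, rfl⟩
  exact Groth.Agent.Lib.Helper9.flat_of_rTensor_injective_of_le_jacobson (S := T) J hIS hI

end Groth.Agent.Lib.Helper8.FL1
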