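import Mathlib
import Groth.Prelude.Def_Smoothing
import Groth.Agent.Lib.Helper23.FieldSep

set_option backward.isDefEq.respectTransparency.types false
set_option autoImplicit false
set_option linter.unusedSectionVars false
set_option linter.style.haveILetI false

/-!
# A separable (geometrically reduced) field extension is ind-smooth
-/

namespace Groth.Agent.Lib.Helper8.GS1

open Smoothing

universe u

theorem indSmooth_of_isGeometricallyReduced (k K : Type u) [Field k] [Field K] [Algebra k K]
    [Algebra.IsGeometricallyReduced k K] : IndSmooth k K := by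
  intro A _ _ hfp f
  haveI := hfp
  haveI : (RingHom.ker f).IsPrime := RingHom.ker_isPrime f
  haveI : IsDomain (A ⧸ RingHom.ker f) := Ideal.Quotient.isDomain _
  have hf₁ : Function.Injective (Ideal.kerLiftAlg f) := Ideal.kerLiftAlg_injective f
  haveI : Algebra.FiniteType k (A ⧸ RingHom.ker f) := inferInstance
  haveI : Algebra.FinitePresentation k (A ⧸ RingHom.ker f) :=
    Algebra.FinitePresentation.of_finiteType.mp inferInstance
  let ι : FractionRing (A ⧸ RingHom.ker f) →ₐ[k] K := IsFractionRing.liftAlgHom hf₁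
  haveI : Algebra.IsGeometricallyReduced k (FractionRing (A ⧸ RingHom.ker f)) :=
    Algebra.IsGeometricallyReduced.of_injective ι ι.toRingHom.injective
  haveI : Algebra.FormallySmooth k (FractionRing (A ⧸ RingHom.ker f)) :=
    (Groth.Agent.Lib.Helper23.FieldSep.formallySmooth_iff_isGeometricallyReduced k _).mpr
      inferInstance
  haveI : IsLocalization (⊥ : Ideal (A ⧸ RingHom.ker f)).primeCompl
      (FractionRing (A ⧸ RingHom.ker f)) := by
    rw [Ideal.primeCompl_bot]
    infer_instance
  haveI : Algebra.IsSmoothAt k (⊥ : Ideal (A ⧸ RingHom.ker f)) :=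
    Algebra.FormallySmooth.of_equiv
      ((IsLocalization.algEquiv (⊥ : Ideal (A ⧸ RingHom.ker f)).primeCompl
        (FractionRing (A ⧸ RingHom.ker f))
        (Localization.AtPrime (⊥ : Ideal (A ⧸ RingHom.ker f)))).restrictScalars k)
  obtain ⟨g, hg, hsm⟩ := Algebra.IsSmoothAt.exists_notMem_smooth k (⊥ : Ideal (A ⧸ RingHom.ker f))
  have hg0 : g ≠ 0 := fun h => hg (h ▸ Ideal.zero_mem _)
  have hunit : ∀ y : Submonoid.powers g, IsUnit (Ideal.kerLiftAlg f (y : A ⧸ RingHom.ker f)) := by
    rintro ⟨_, n, rfl⟩
    rw [map_pow]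
    refine IsUnit.pow n (IsUnit.mk0 _ ?_)
    intro h0
    exact hg0 (hf₁ (h0.trans (map_zero _).symm))
  refine ⟨Localization.Away g, inferInstance, inferInstance, hsm,
    (IsScalarTower.toAlgHom k (A ⧸ RingHom.ker f) (Localization.Away g)).comp
      (Ideal.Quotient.mkₐ k (RingHom.ker f)),
    IsLocalization.liftAlgHom (M := Submonoid.powers g) (f := Ideal.kerLiftAlg f) hunit, ?_⟩
  apply AlgHom.ext
  intro a
  rw [AlgHom.comp_apply, AlgHom.comp_apply, IsScalarTower.toAlgHom_apply,
    IsLocalization.liftAlgHom_apply, IsLocalization.lift_eq]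
  rfl

end Groth.Agent.Lib.Helper8.GS1
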