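import Mathlib

set_option backward.isDefEq.respectTransparency.types false
set_option autoImplicit false
set_option linter.unusedSectionVars false
set_option linter.style.haveILetI false

/-!
# A quotient of a localization is a localization of the quotient
-/

namespace Groth.Agent.Lib.Helper8.LQ1

theorem isLocalization_quotient {Λ : Type*} [CommRing Λ] (M : Submonoid Λ) (T : Type*) [CommRing T]
    [Algebra Λ T] [IsLocalization M T] (J : Ideal Λ) (J' : Ideal T)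
    (hJ' : J' = J.map (algebraMap Λ T)) [Algebra (Λ ⧸ J) (T ⧸ J')]
    (halg : ∀ x, algebraMap (Λ ⧸ J) (T ⧸ J') (Ideal.Quotient.mk J x) =
      Ideal.Quotient.mk J' (algebraMap Λ T x)) :
    IsLocalization (M.map (Ideal.Quotient.mk J)) (T ⧸ J') := by
  rw [isLocalization_iff]
  refine ⟨?_, ?_, ?_⟩
  · rintro ⟨_, m, hm, rfl⟩
    show IsUnit (algebraMap (Λ ⧸ J) (T ⧸ J') (Ideal.Quotient.mk J m))
    rw [halg]
    exact (IsLocalization.map_units T (⟨m, hm⟩ : M)).map (Ideal.Quotient.mk J')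
  · intro z
    obtain ⟨t, rfl⟩ := Ideal.Quotient.mk_surjective z
    obtain ⟨⟨a, m⟩, h⟩ := IsLocalization.surj M t
    refine ⟨(Ideal.Quotient.mk J a, ⟨Ideal.Quotient.mk J m, m, m.2, rfl⟩), ?_⟩
    show Ideal.Quotient.mk J' t * algebraMap (Λ ⧸ J) (T ⧸ J') (Ideal.Quotient.mk J m) =
      algebraMap (Λ ⧸ J) (T ⧸ J') (Ideal.Quotient.mk J a)
    rw [halg, halg, ← map_mul, h]
  · intro x y hxy
    obtain ⟨a, rfl⟩ := Ideal.Quotient.mk_surjective x
    obtain ⟨b, rfl⟩ := Ideal.Quotient.mk_surjective y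
    rw [halg, halg, Ideal.Quotient.eq, ← map_sub, hJ',
      IsLocalization.algebraMap_mem_map_algebraMap_iff M] at hxy
    obtain ⟨m, hm, hmab⟩ := hxy
    refine ⟨⟨Ideal.Quotient.mk J m, m, hm, rfl⟩, ?_⟩
    show Ideal.Quotient.mk J m * Ideal.Quotient.mk J a = Ideal.Quotient.mk J m * Ideal.Quotient.mk J b
    rw [← map_mul, ← map_mul, Ideal.Quotient.eq, ← mul_sub]
    exact hmab

theorem primeCompl_map_eq {Λ : Type*} [CommRing Λ] (𝔮 J : Ideal Λ) [𝔮.IsPrime] (hJ : J ≤ 𝔮)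
    [(𝔮.map (Ideal.Quotient.mk J)).IsPrime] :
    (𝔮.map (Ideal.Quotient.mk J)).primeCompl = 𝔮.primeCompl.map (Ideal.Quotient.mk J) := by
  ext x
  obtain ⟨a, rfl⟩ := Ideal.Quotient.mk_surjective x
  have hmem : ∀ b : Λ, Ideal.Quotient.mk J b ∈ 𝔮.map (Ideal.Quotient.mk J) ↔ b ∈ 𝔮 := by
    intro b
    rw [Ideal.mem_map_iff_of_surjective _ Ideal.Quotient.mk_surjective]
    constructor
    · rintro ⟨c, hc, hcb⟩
      have : c - b ∈ J := Ideal.Quotient.eq.mp hcb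
      have h2 : b = c - (c - b) := by ring
      rw [h2]
      exact Ideal.sub_mem _ hc (hJ this)
    · intro hb
      exact ⟨b, hb, rfl⟩
  constructor
  · intro ha
    have ha' : Ideal.Quotient.mk J a ∉ 𝔮.map (Ideal.Quotient.mk J) := ha
    rw [hmem] at ha'
    exact ⟨a, ha', rfl⟩
  · rintro ⟨b, hb, hba⟩
    show Ideal.Quotient.mk J a ∉ 𝔮.map (Ideal.Quotient.mk J)
    rw [← hba]
    show (Ideal.Quotient.mk J) b ∉ _
    rw [hmem]
    exact hb

theorem isLocalization_atPrime_quotient {Λ : Type*} [CommRing Λ] (𝔮 : Ideal Λ) [𝔮.IsPrime]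
    (T : Type*) [CommRing T] [Algebra Λ T] [IsLocalization.AtPrime T 𝔮] (J : Ideal Λ) (hJ : J ≤ 𝔮)
    (J' : Ideal T) (hJ' : J' = J.map (algebraMap Λ T)) [Algebra (Λ ⧸ J) (T ⧸ J')]
    (halg : ∀ x, algebraMap (Λ ⧸ J) (T ⧸ J') (Ideal.Quotient.mk J x) =
      Ideal.Quotient.mk J' (algebraMap Λ T x))
    [(𝔮.map (Ideal.Quotient.mk J)).IsPrime] :
    IsLocalization.AtPrime (T ⧸ J') (𝔮.map (Ideal.Quotient.mk J)) := by
  show IsLocalization (𝔮.map (Ideal.Quotient.mk J)).primeCompl (T ⧸ J')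
  rw [primeCompl_map_eq 𝔮 J hJ]
  exact isLocalization_quotient 𝔮.primeCompl T J J' hJ' halg

end Groth.Agent.Lib.Helper8.LQ1
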