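import Mathlib
import Groth.Prelude.Def_Smoothing
import Groth.Agent.Lib.Helper2.FunFld.Jac1

set_option backward.isDefEq.respectTransparency.types false
set_option autoImplicit false
set_option linter.unusedSectionVars false
set_option linter.style.haveILetI false

universe u
open MvPolynomial Smoothing

namespace Groth.Agent.Lib.Helper8.DS1

variable {R : Type u} [CommRing R]

/-- chain rule for `pderiv` of a substituted polynomial -/
theorem chain_rule {σ τ : Type*} [Fintype σ] (g : σ → MvPolynomial τ R)
    (f : MvPolynomial σ R) (i : τ) :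
    pderiv i (aeval g f) = ∑ i', aeval g (pderiv i' f) * pderiv i (g i') := by
  classical
  induction f using MvPolynomial.induction_on with
  | C a =>
    simp only [pderiv_C, map_zero, zero_mul, Finset.sum_const_zero]
    rw [← algebraMap_eq, AlgHom.commutes, algebraMap_eq, pderiv_C]
  | add p q hp hq =>
    simp only [map_add, add_mul, Finset.sum_add_distrib, hp, hq]
  | mul_X p j hp =>
    rw [map_mul, aeval_X, Derivation.leibniz, hp, smul_eq_mul, smul_eq_mul]
    have h1 : ∀ i', aeval g (pderiv i' (p * X j)) * pderiv i (g i') =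
        g j * (aeval g (pderiv i' p) * pderiv i (g i')) +
          (if i' = j then aeval g p * pderiv i (g j) else 0) := by
      intro i'
      rw [Derivation.leibniz, pderiv_X, smul_eq_mul, smul_eq_mul, map_add, map_mul, map_mul,
        aeval_X]
      by_cases h : i' = j
      · subst h
        rw [Pi.single_eq_same, map_one, mul_one, if_pos rfl]
        ring
      · rw [Pi.single_eq_of_ne' h, map_zero, mul_zero, if_neg h]
        ring
    rw [Finset.sum_congr rfl fun i' _ => h1 i', Finset.sum_add_distrib, ← Finset.mul_sum,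
      Finset.sum_ite_eq' Finset.univ j]
    simp only [Finset.mem_univ, if_true]
    ring

/-- Cramer: a right "inverse" of a `c × n` matrix up to a combination of its maximal minors -/
theorem cramer_right_inverse {n c : ℕ} (Rm : Matrix (Fin c) (Fin n) R)
    (α : (Fin c → Fin n) → R) :
    ∃ S : Matrix (Fin n) (Fin c) R,
      Rm * S = (∑ I, α I * (Rm.submatrix id I).det) • (1 : Matrix (Fin c) (Fin c) R) := by
  classical
  let E : (Fin c → Fin n) → Matrix (Fin n) (Fin c) R := fun I =>
    Matrix.of fun i k => if I k = i then 1 else 0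
  have hE : ∀ I, Rm * E I = Rm.submatrix id I := by
    intro I
    apply Matrix.ext
    intro j k
    rw [Matrix.mul_apply, Matrix.submatrix_apply, id]
    rw [Finset.sum_eq_single (I k)]
    · simp [E]
    · intro i _ hi
      simp only [E, Matrix.of_apply, if_neg (Ne.symm hi), mul_zero]
    · intro h
      exact absurd (Finset.mem_univ _) h
  refine ⟨∑ I, α I • (E I * (Rm.submatrix id I).adjugate), ?_⟩
  rw [Matrix.mul_sum, Finset.sum_smul]
  refine Finset.sum_congr rfl fun I _ => ?_
  rw [Matrix.mul_smul, ← Matrix.mul_assoc, hE, Matrix.mul_adjugate, smul_smul]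

/-- coefficientwise annihilator transfer -/
theorem C_mul_eq_zero_of {τ : Type*} (π r₀ : R) (hr : ∀ x : R, π ^ 2 * x = 0 → π * (r₀ * x) = 0)
    (Y : MvPolynomial τ R) (h : C (π ^ 2) * Y = 0) : C r₀ * (C π * Y) = 0 := by
  ext d
  rw [coeff_C_mul, coeff_C_mul, coeff_zero]
  have h1 := congrArg (coeff d) h
  rw [coeff_C_mul, coeff_zero] at h1
  have := hr _ h1
  rw [← this]
  ring

/-- determinant of a matrix congruent to a scalar matrix -/
theorem det_sub_pow_mem {P : Type*} [CommRing P] {ι : Type*} [Fintype ι] [DecidableEq ι]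
    (I : Ideal P) (M : Matrix ι ι P) (u : P)
    (h : ∀ j k, M j k - (if j = k then u else 0) ∈ I) :
    M.det - u ^ Fintype.card ι ∈ I := by
  rw [← Ideal.Quotient.eq_zero_iff_mem (I := I), map_sub, map_pow, RingHom.map_det]
  have : (Ideal.Quotient.mk I).mapMatrix M =
      (Ideal.Quotient.mk I u) • (1 : Matrix ι ι (P ⧸ I)) := by
    apply Matrix.ext
    intro j k
    rw [RingHom.mapMatrix_apply, Matrix.map_apply, Matrix.smul_apply, Matrix.one_apply, smul_eq_mul]
    have h1 := h j k
    rw [← Ideal.Quotient.eq_zero_iff_mem, map_sub, sub_eq_zero] at h1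
    rw [h1]
    split_ifs <;> simp
  rw [this, Matrix.det_smul, Matrix.det_one, mul_one, sub_self]

/-- `Ann(π^k) = Ann(π)` for all `k ≥ 1` -/
theorem smul_eq_zero_of_pow_smul {Λ : Type*} [AddCommGroup Λ] [Module R Λ] (π : R)
    (hΛ : ∀ x : Λ, π ^ 2 • x = 0 → π • x = 0) (k : ℕ) (x : Λ) (h : π ^ (k + 1) • x = 0) :
    π • x = 0 := by
  induction k with
  | zero => simpa using h
  | succ k ih =>
    apply ih
    have h1 : π ^ 2 • (π ^ k • x) = 0 := by
      rw [← mul_smul, ← pow_add, add_comm]
      exact h
    have h2 := hΛ _ h1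
    rw [← mul_smul, ← pow_succ'] at h2
    exact h2

/-- evaluating at constants -/
theorem aeval_C_eq {σ τ : Type*} (r : σ → R) (G : MvPolynomial σ R) :
    aeval (fun i => (C (r i) : MvPolynomial τ R)) G = C (eval r G) := by
  induction G using MvPolynomial.induction_on with
  | C a => rw [aeval_C, eval_C, algebraMap_eq]
  | add p q hp hq => rw [map_add, hp, hq, map_add, map_add]
  | mul_X p i hp => rw [map_mul, hp, aeval_X, map_mul, eval_X, map_mul]

end Groth.Agent.Lib.Helper8.DS1
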