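import Mathlib
import Groth.Prelude.Def_Smoothing
import Groth.Agent.Lib.Helper8.DB1
import Groth.Agent.Lib.Helper8.SI1
import Groth.Agent.Lib.Helper12.ElemStd

set_option backward.isDefEq.respectTransparency.types false
set_option autoImplicit false
set_option linter.unusedSectionVars false
set_option linter.style.haveILetI false

universe u
open MvPolynomial Smoothing

namespace Groth.Agent.Lib.Helper8.LL1

variable {R : Type u} [CommRing R]

/-- flat: `Ann(π²) = Ann(π)` transfers from `R` to a flat module -/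
theorem smul_eq_zero_of_flat {S : Type*} [AddCommGroup S] [Module R S] [Module.Flat R S] (π : R)
    (hR : ∀ r : R, π ^ 2 * r = 0 → π * r = 0) (s : S) (h : π ^ 2 • s = 0) : π • s = 0 := by
  have hrel : ∑ i : Fin 1, (fun _ : Fin 1 => π ^ 2) i • (fun _ : Fin 1 => s) i = 0 := by
    simpa using h
  obtain ⟨k, a, y, hxy, hfa⟩ :=
    Module.Flat.isTrivialRelation_of_sum_smul_eq_zero (R := R) (M := S) hrel
  have hs : s = ∑ j, a 0 j • y j := hxy 0
  have ha : ∀ j, π * a 0 j = 0 := by
    intro j
    apply hR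
    have := hfa j
    simpa using this
  rw [hs, Finset.smul_sum]
  refine Finset.sum_eq_zero fun j _ => ?_
  rw [smul_smul, ha j, zero_smul]

theorem fp_quotient {V K : Type} [Finite V] [Finite K] (rel : K → MvPolynomial V R) :
    Algebra.FinitePresentation R (MvPolynomial V R ⧸ Ideal.span (Set.range rel)) := by
  have hfg : (Ideal.span (Set.range rel)).FG := by
    refine ⟨(Set.finite_range rel).toFinset, ?_⟩
    rw [Set.Finite.coe_toFinset]
  exact Algebra.FinitePresentation.quotient hfg

/-- the elementary standard criterion for a quotient of a polynomial ring -/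
theorem isElementaryStandard_of_minor {V K L : Type} [Fintype V] [Fintype K] [Fintype L]
    [DecidableEq L] (rel : K → MvPolynomial V R) (rows : L ↪ K) (cols : L ↪ V)
    (e e' : MvPolynomial V R)
    (he : e - e' * Matrix.det (Matrix.of fun j k : L => pderiv (cols k) (rel (rows j))) ∈
      Ideal.span (Set.range rel))
    (hkill : ∀ ℓ : K, e * rel ℓ ∈ Ideal.span (Set.range (rel ∘ rows)) ⊔
      Ideal.span (Set.range rel) ^ 2) :
    IsElementaryStandard R (MvPolynomial V R ⧸ Ideal.span (Set.range rel))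
      (Ideal.Quotient.mk (Ideal.span (Set.range rel)) e) := by
  set IB : Ideal (MvPolynomial V R) := Ideal.span (Set.range rel) with hIB
  let mkB : MvPolynomial V R →ₐ[R] (MvPolynomial V R ⧸ IB) := Ideal.Quotient.mkₐ R IB
  have hmkB : Function.Surjective mkB := Ideal.Quotient.mkₐ_surjective R IB
  have hmkBker : RingHom.ker mkB.toRingHom = Ideal.span (Set.range rel) := by
    ext x
    rw [RingHom.mem_ker]
    exact Ideal.Quotient.eq_zero_iff_mem
  refine DB1.isElementaryStandard_of_minor_fintype rel mkB hmkB hmkBker rows cols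
    (mkB e) (mkB e') ?_ ?_
  · rw [← map_mul, ← sub_eq_zero, ← map_sub]
    exact Ideal.Quotient.eq_zero_iff_mem.mpr he
  · intro a₁ ha₁ ℓ
    have h1 : a₁ - e ∈ IB := by
      have : mkB (a₁ - e) = 0 := by rw [map_sub, ha₁, sub_self]
      exact Ideal.Quotient.eq_zero_iff_mem.mp this
    have hsplit : a₁ * rel ℓ = e * rel ℓ + (a₁ - e) * rel ℓ := by ring
    rw [hsplit]
    refine add_mem (hkill ℓ) (Ideal.mem_sup_right ?_)
    rw [pow_two]
    exact Ideal.mul_mem_mul h1 (Ideal.subset_span ⟨ℓ, rfl⟩)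

theorem isStandardSmooth_away_of_minor {V K L : Type} [Fintype V] [Fintype K] [Fintype L]
    [DecidableEq L] (rel : K → MvPolynomial V R) (rows : L ↪ K) (cols : L ↪ V)
    (e e' : MvPolynomial V R)
    (he : e - e' * Matrix.det (Matrix.of fun j k : L => pderiv (cols k) (rel (rows j))) ∈
      Ideal.span (Set.range rel))
    (hkill : ∀ ℓ : K, e * rel ℓ ∈ Ideal.span (Set.range (rel ∘ rows)) ⊔
      Ideal.span (Set.range rel) ^ 2) :
    Algebra.IsStandardSmooth R (Localization.Away
      (Ideal.Quotient.mk (Ideal.span (Set.range rel)) e)) := by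
  obtain ⟨P, ⟨a'', ha''⟩, hkt⟩ := isElementaryStandard_of_minor rel rows cols e e' he hkill
  exact Groth.Agent.Lib.Helper12.ElemStd.isStandardSmooth_away P.hcn P.hcm P.rel P.hom P.surj
    P.ker_eq _ a'' ha'' hkt

theorem mem_singularIdeal_of_minor {V K L : Type} [Fintype V] [Fintype K] [Fintype L]
    [DecidableEq L] (rel : K → MvPolynomial V R) (rows : L ↪ K) (cols : L ↪ V)
    (e e' : MvPolynomial V R)
    (he : e - e' * Matrix.det (Matrix.of fun j k : L => pderiv (cols k) (rel (rows j))) ∈
      Ideal.span (Set.range rel))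
    (hkill : ∀ ℓ : K, e * rel ℓ ∈ Ideal.span (Set.range (rel ∘ rows)) ⊔
      Ideal.span (Set.range rel) ^ 2) :
    Ideal.Quotient.mk (Ideal.span (Set.range rel)) e ∈
      singularIdeal R (MvPolynomial V R ⧸ Ideal.span (Set.range rel)) := by
  haveI := fp_quotient rel
  rw [SI1.mem_singularIdeal_iff]
  haveI := isStandardSmooth_away_of_minor rel rows cols e e' he hkill
  infer_instance

/-- Cramer: if `∑ c i * f i` has all partial derivatives in `𝔟 ∋ f i`, then `det(Jac) * c i ∈ 𝔟`. -/
theorem det_mul_mem {σ ι : Type*} [Fintype ι] [DecidableEq ι] (f : ι → MvPolynomial σ R)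
    (cols : ι → σ) (c : ι → MvPolynomial σ R) (𝔟 : Ideal (MvPolynomial σ R))
    (hf : ∀ i, f i ∈ 𝔟) (hE : ∀ v, pderiv v (∑ i, c i * f i) ∈ 𝔟) (i : ι) :
    Matrix.det (Matrix.of fun j k : ι => pderiv (cols k) (f j)) * c i ∈ 𝔟 := by
  set Jm : Matrix ι ι (MvPolynomial σ R) := Matrix.of fun j k : ι => pderiv (cols k) (f j) with hJm
  have h1 : ∀ k, Matrix.vecMul c Jm k ∈ 𝔟 := by
    intro k
    have hder : pderiv (cols k) (∑ j, c j * f j) =
        Matrix.vecMul c Jm k + ∑ j, f j * pderiv (cols k) (c j) := by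
      rw [map_sum, Matrix.vecMul, dotProduct, ← Finset.sum_add_distrib]
      refine Finset.sum_congr rfl fun j _ => ?_
      rw [Derivation.leibniz, smul_eq_mul, smul_eq_mul, hJm, Matrix.of_apply]
    have h2 : Matrix.vecMul c Jm k = pderiv (cols k) (∑ j, c j * f j) -
        ∑ j, f j * pderiv (cols k) (c j) := by
      rw [hder]; ring
    rw [h2]
    exact sub_mem (hE _) (Ideal.sum_mem _ fun j _ => Ideal.mul_mem_right _ _ (hf j))
  have h3 : Matrix.vecMul (Matrix.vecMul c Jm) Jm.adjugate = Jm.det • c := by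
    rw [Matrix.vecMul_vecMul, Matrix.mul_adjugate, Matrix.vecMul_smul, Matrix.vecMul_one]
  have h4 : (Jm.det • c) i ∈ 𝔟 := by
    rw [← h3, Matrix.vecMul, dotProduct]
    exact Ideal.sum_mem _ fun k _ => Ideal.mul_mem_right _ _ (h1 k)
  simpa using h4

section pderiv

variable {σ τ : Type*}

theorem pderiv_inl_rename (v : σ) (p : MvPolynomial σ R) :
    pderiv (Sum.inl v : σ ⊕ τ) (rename Sum.inl p) = rename Sum.inl (pderiv v p) :=
  pderiv_rename Sum.inl_injective v p

theorem pderiv_inr_rename (w : τ) (p : MvPolynomial σ R) :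
    pderiv (Sum.inr w : σ ⊕ τ) (rename Sum.inl p) = 0 := by
  classical
  apply pderiv_eq_zero_of_notMem_vars
  intro h
  have := vars_rename (Sum.inl : σ → σ ⊕ τ) p h
  simp at this

end pderiv

end Groth.Agent.Lib.Helper8.LL1
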