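import Mathlib
import Groth.Prelude.Def_Smoothing
import Groth.Agent.Lib.Helper8.DS1
import Groth.Agent.Lib.Helper8.LL1
import Groth.Agent.Lib.Helper8.SI1

set_option backward.isDefEq.respectTransparency.types false
set_option autoImplicit false
set_option linter.unusedSectionVars false
set_option linter.style.haveILetI false

universe u
open MvPolynomial Smoothing

namespace Groth.Agent.Lib.Helper8.DS2

open Groth.Agent.Lib.Helper8

/-- polynomial-level data for the desingularization lemma -/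
structure Setup (R : Type u) [CommRing R] where
  n : ℕ
  m : ℕ
  c : ℕ
  hcn : c ≤ n
  hcm : c ≤ m
  f : Fin m → MvPolynomial (Fin n) R
  π : R
  r : Fin n → R
  τ : Fin m → R
  hτ : ∀ j, eval r (f j) = π ^ 4 * τ j
  s : Matrix (Fin n) (Fin c) R
  u : R
  β' : R
  hu : u = 1 + π * β'
  hs : ∀ j k : Fin c, ∑ i, eval r (pderiv i (f (Fin.castLE hcm j))) * s i k =
    if j = k then u * π else 0
  a : (Fin c → Fin n) → MvPolynomial (Fin n) R
  hSS1 : C π - ∑ I, a I * jacobianMinor f (Fin.castLE hcm) I ∈ Ideal.span (Set.range f)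
  htail : ∀ j : Fin m, c ≤ (j : ℕ) → C π * f j ∈
    Ideal.span (f '' {j' : Fin m | (j' : ℕ) < c}) ⊔ Ideal.span (Set.range f) ^ 2

namespace Setup

variable {R : Type u} [CommRing R] (S : Setup R)

/-- the variables `v_i`, `w_k` -/
abbrev V : Type := Fin S.n ⊕ Fin S.c

noncomputable def v (i : Fin S.n) : MvPolynomial S.V R := X (Sum.inl i)

noncomputable def w (k : Fin S.c) : MvPolynomial S.V R := X (Sum.inr k)

noncomputable def t' (i : Fin S.n) : MvPolynomial S.V R :=
  ∑ k, C (S.s i k) * S.w k + C S.π * S.v i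

noncomputable def t (i : Fin S.n) : MvPolynomial S.V R := C (S.π ^ 2) * S.t' i

noncomputable def sub (i : Fin S.n) : MvPolynomial S.V R := C (S.r i) + S.t i

noncomputable def α' : MvPolynomial (Fin S.n) R →ₐ[R] MvPolynomial S.V R := aeval S.sub

noncomputable def F (j : Fin S.m) : MvPolynomial S.V R := S.α' (S.f j)

noncomputable def rr (j : Fin S.m) (i : Fin S.n) : R := eval S.r (pderiv i (S.f j))

theorem exists_Q (j : Fin S.m) : ∃ Q : MvPolynomial S.V R,
    S.F j = C (S.π ^ 4 * S.τ j) + ∑ i, C (S.rr j i) * S.t i + C (S.π ^ 4) * Q := by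
  have h := Groth.Agent.Lib.Helper2.Jac.taylor1 (k := R) S.sub (fun i => C (S.r i)) (S.f j)
  rw [DS1.aeval_C_eq, S.hτ] at h
  simp only [DS1.aeval_C_eq] at h
  have hsub : ∀ l, S.sub l - C (S.r l) = S.t l := fun l => by
    unfold sub; ring
  simp only [hsub] at h
  have hle : Ideal.span (Set.range fun l => S.t l) ≤ Ideal.span {C (S.π ^ 2)} := by
    rw [Ideal.span_le]
    rintro _ ⟨l, rfl⟩
    exact Ideal.mul_mem_right _ _ (Ideal.subset_span rfl)
  have h2 := Ideal.pow_right_mono hle 2 h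
  rw [Ideal.span_singleton_pow] at h2
  obtain ⟨Q, hQ⟩ := Ideal.mem_span_singleton'.mp h2
  refine ⟨Q, ?_⟩
  have e1 : (C (S.π ^ 2) : MvPolynomial S.V R) ^ 2 = C (S.π ^ 4) := by
    rw [← C_pow]; congr 1; ring
  rw [e1] at hQ
  change aeval S.sub (S.f j) = _
  unfold rr
  linear_combination (-1 : MvPolynomial S.V R) * hQ

noncomputable def Q (j : Fin S.m) : MvPolynomial S.V R := Classical.choose (S.exists_Q j)

theorem Q_spec (j : Fin S.m) :
    S.F j = C (S.π ^ 4 * S.τ j) + ∑ i, C (S.rr j i) * S.t i + C (S.π ^ 4) * S.Q j :=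
  Classical.choose_spec (S.exists_Q j)

noncomputable def g (jc : Fin S.c) : MvPolynomial S.V R :=
  C S.u * S.w jc + ∑ i, C (S.rr (Fin.castLE S.hcm jc) i) * S.v i +
    C S.π * (C (S.τ (Fin.castLE S.hcm jc)) + S.Q (Fin.castLE S.hcm jc))

noncomputable def G' (j : Fin S.m) : MvPolynomial S.V R :=
  C (S.π ^ 2) * C (S.τ j) + ∑ i, C (S.rr j i) * S.t' i + C (S.π ^ 2) * S.Q j

theorem F_eq_G' (j : Fin S.m) : S.F j = C (S.π ^ 2) * S.G' j := by
  rw [S.Q_spec, G']
  have h1 : ∑ i, C (S.rr j i) * S.t i = C (S.π ^ 2) * ∑ i, C (S.rr j i) * S.t' i := by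
    rw [Finset.mul_sum]
    refine Finset.sum_congr rfl fun i _ => ?_
    unfold t; ring
  rw [h1]
  have e1 : (C (S.π ^ 4 * S.τ j) : MvPolynomial S.V R) = C (S.π ^ 2) * (C (S.π ^ 2) * C (S.τ j)) := by
    rw [← C_mul, ← C_mul]; congr 1; ring
  have e2 : (C (S.π ^ 4) : MvPolynomial S.V R) = C (S.π ^ 2) * C (S.π ^ 2) := by
    rw [← C_mul]; congr 1; ring
  rw [e1, e2]
  ring

theorem F_eq_g (jc : Fin S.c) : S.F (Fin.castLE S.hcm jc) = C (S.π ^ 3) * S.g jc := by
  classical
  rw [S.Q_spec, g]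
  set j := Fin.castLE S.hcm jc with hj
  have h1 : ∑ i, C (S.rr j i) * S.t i = C (S.π ^ 2) * (C (S.u * S.π) * S.w jc) +
      C (S.π ^ 3) * ∑ i, C (S.rr j i) * S.v i := by
    have h2 : ∀ i, C (S.rr j i) * S.t i = C (S.π ^ 2) * (∑ k, C (S.rr j i * S.s i k) * S.w k) +
        C (S.π ^ 3) * (C (S.rr j i) * S.v i) := by
      intro i
      unfold t t'
      rw [mul_add, mul_add, Finset.mul_sum, Finset.mul_sum, Finset.mul_sum]
      congr 1
      · refine Finset.sum_congr rfl fun k _ => ?_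
        rw [C_mul]; ring
      · have : (C (S.π ^ 3) : MvPolynomial S.V R) = C (S.π ^ 2) * C S.π := by
          rw [← C_mul]; congr 1; ring
        rw [this]; ring
    rw [Finset.sum_congr rfl fun i _ => h2 i, Finset.sum_add_distrib, ← Finset.mul_sum,
      ← Finset.mul_sum, Finset.sum_comm]
    congr 2
    have h3 : ∀ k, ∑ i, C (S.rr j i * S.s i k) * S.w k =
        C (if jc = k then S.u * S.π else 0) * S.w k := by
      intro k
      rw [← Finset.sum_mul, ← map_sum]
      congr 2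
      exact S.hs jc k
    rw [Finset.sum_congr rfl fun k _ => h3 k, Finset.sum_eq_single jc]
    · rw [if_pos rfl]
    · intro k _ hk
      rw [if_neg (Ne.symm hk), C_0, zero_mul]
    · intro h
      exact absurd (Finset.mem_univ _) h
  rw [h1]
  have e1 : (C (S.π ^ 4 * S.τ j) : MvPolynomial S.V R) = C (S.π ^ 3) * (C S.π * C (S.τ j)) := by
    rw [← C_mul, ← C_mul]; congr 1; ring
  have e2 : (C (S.π ^ 4) : MvPolynomial S.V R) = C (S.π ^ 3) * C S.π := by
    rw [← C_mul]; congr 1; ring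
  have e3 : (C (S.π ^ 2) : MvPolynomial S.V R) * (C (S.u * S.π) * S.w jc) =
      C (S.π ^ 3) * (C S.u * S.w jc) := by
    have : (C (S.π ^ 3) : MvPolynomial S.V R) = C (S.π ^ 2) * C S.π := by
      rw [← C_mul]; congr 1; ring
    rw [this, C_mul]; ring
  rw [e1, e2, e3]
  ring

/-- relations: all `F_j`, then `g_j` -/
abbrev K : Type := Fin S.m ⊕ Fin S.c

noncomputable def rel : S.K → MvPolynomial S.V R := Sum.elim S.F S.g

/-- the algebra `B` -/
abbrev B : Type u := MvPolynomial S.V R ⧸ Ideal.span (Set.range S.rel)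

instance : Algebra.FinitePresentation R S.B := LL1.fp_quotient S.rel

end Setup


section claimI

variable {R : Type u} [CommRing R] (S : Setup R)

namespace Setup

theorem α'_C (a : R) : S.α' (C a) = C a := by
  rw [α', aeval_C, algebraMap_eq]

theorem pderiv_inl_sub (i i' : Fin S.n) :
    pderiv (Sum.inl i : S.V) (S.sub i') = if i' = i then C (S.π ^ 3) else 0 := by
  classical
  unfold sub t t' v w
  rw [map_add, pderiv_C, zero_add, Derivation.leibniz, pderiv_C, smul_zero, add_zero, map_add,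
    map_sum, smul_eq_mul]
  have h1 : ∀ k, pderiv (Sum.inl i : S.V) (C (S.s i' k) * X (Sum.inr k)) = 0 := by
    intro k
    rw [Derivation.leibniz, pderiv_C, smul_zero, add_zero, pderiv_X_of_ne (by simp), smul_zero]
  rw [Finset.sum_eq_zero fun k _ => h1 k, zero_add, Derivation.leibniz, pderiv_C, smul_zero,
    add_zero, smul_eq_mul]
  by_cases h : i' = i
  · subst h
    rw [pderiv_X_self, mul_one, if_pos rfl, ← C_mul]
    congr 1
    ring
  · rw [if_neg h, pderiv_X_of_ne, mul_zero, mul_zero]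
    intro h'
    exact h (Sum.inl_injective h')

theorem pderiv_inl_F (i : Fin S.n) (j : Fin S.m) :
    pderiv (Sum.inl i : S.V) (S.F j) = C (S.π ^ 3) * S.α' (pderiv i (S.f j)) := by
  classical
  unfold F α'
  rw [DS1.chain_rule]
  simp only [pderiv_inl_sub]
  rw [Finset.sum_eq_single i]
  · rw [if_pos rfl, mul_comm]
  · intro i' _ hi'
    rw [if_neg hi', mul_zero]
  · intro h
    exact absurd (Finset.mem_univ _) h

/-- leading rows for claim (I) -/
def rowsI : Fin S.c ↪ S.K :=
  ⟨fun j => Sum.inl (Fin.castLE S.hcm j), fun a b h => by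
    simpa using Fin.castLE_injective S.hcm (Sum.inl_injective h)⟩

theorem det_I (I : Fin S.c → Fin S.n) :
    Matrix.det (Matrix.of fun j k : Fin S.c =>
      pderiv (Sum.inl (I k) : S.V) (S.rel (S.rowsI j))) =
      C (S.π ^ 3) ^ S.c * S.α' (jacobianMinor S.f (Fin.castLE S.hcm) I) := by
  have h : (Matrix.of fun j k : Fin S.c =>
      pderiv (Sum.inl (I k) : S.V) (S.rel (S.rowsI j))) =
      (C (S.π ^ 3) : MvPolynomial S.V R) • (S.α'.mapMatrix (Matrix.of fun j k : Fin S.c =>
        pderiv (I k) (S.f (Fin.castLE S.hcm j)))) := by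
    apply Matrix.ext
    intro j k
    rw [Matrix.of_apply, Matrix.smul_apply, AlgHom.mapMatrix_apply, Matrix.map_apply,
      Matrix.of_apply, smul_eq_mul]
    exact S.pderiv_inl_F _ _
  rw [h, Matrix.det_smul, Fintype.card_fin, ← AlgHom.map_det]
  rfl

theorem F_mem (j : Fin S.m) : S.F j ∈ Ideal.span (Set.range S.rel) :=
  Ideal.subset_span ⟨Sum.inl j, rfl⟩

theorem g_mem (j : Fin S.c) : S.g j ∈ Ideal.span (Set.range S.rel) :=
  Ideal.subset_span ⟨Sum.inr j, rfl⟩

theorem α'_mem_of_mem (p : MvPolynomial (Fin S.n) R) (hp : p ∈ Ideal.span (Set.range S.f)) :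
    S.α' p ∈ Ideal.span (Set.range S.F) := by
  have hle : Ideal.span (Set.range S.f) ≤
      Ideal.comap (S.α' : MvPolynomial (Fin S.n) R →+* MvPolynomial S.V R)
        (Ideal.span (Set.range S.F)) := by
    rw [Ideal.span_le]
    rintro _ ⟨j, rfl⟩
    exact Ideal.subset_span ⟨j, rfl⟩
  exact hle hp

theorem spanF_le : Ideal.span (Set.range S.F) ≤ Ideal.span (Set.range S.rel) := by
  rw [Ideal.span_le]
  rintro _ ⟨j, rfl⟩
  exact S.F_mem j

/-- the image of the tail condition -/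
theorem tail_F (j : Fin S.m) (hj : S.c ≤ (j : ℕ)) :
    C S.π * S.F j ∈ Ideal.span (Set.range (S.rel ∘ S.rowsI)) ⊔
      Ideal.span (Set.range S.F) ^ 2 := by
  have h := S.htail j hj
  have h1 : S.α' (C S.π * S.f j) ∈ Ideal.map
      (S.α' : MvPolynomial (Fin S.n) R →+* MvPolynomial S.V R)
      (Ideal.span (S.f '' {j' : Fin S.m | (j' : ℕ) < S.c}) ⊔ Ideal.span (Set.range S.f) ^ 2) :=
    Ideal.mem_map_of_mem _ h
  rw [map_mul, α'_C, Ideal.map_sup, Ideal.map_pow, Ideal.map_span, Ideal.map_span] at h1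
  have hle1 : Ideal.span ((S.α' : MvPolynomial (Fin S.n) R →+* MvPolynomial S.V R) ''
      (S.f '' {j' : Fin S.m | (j' : ℕ) < S.c})) ≤ Ideal.span (Set.range (S.rel ∘ S.rowsI)) := by
    rw [Ideal.span_le]
    rintro _ ⟨_, ⟨j', hj', rfl⟩, rfl⟩
    exact Ideal.subset_span ⟨⟨j', hj'⟩, rfl⟩
  have hle2 : Ideal.span ((S.α' : MvPolynomial (Fin S.n) R →+* MvPolynomial S.V R) ''
      (Set.range S.f)) ≤ Ideal.span (Set.range S.F) := by
    rw [Ideal.span_le]
    rintro _ ⟨_, ⟨j', rfl⟩, rfl⟩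
    exact Ideal.subset_span ⟨j', rfl⟩
  obtain ⟨x, hx, y, hy, hxy⟩ := Submodule.mem_sup.mp h1
  change C S.π * S.α' (S.f j) ∈ _
  rw [← hxy]
  exact add_mem (Ideal.mem_sup_left (hle1 hx))
    (Ideal.mem_sup_right (Ideal.pow_right_mono hle2 2 hy))

theorem eI_mem (I : Fin S.c → Fin S.n) :
    Ideal.Quotient.mk (Ideal.span (Set.range S.rel))
      (C (S.π ^ 3) * (C (S.π ^ 3) ^ S.c * S.α' (jacobianMinor S.f (Fin.castLE S.hcm) I))) ∈
      singularIdeal R S.B := by
  classical
  by_cases hI : Function.Injective I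
  · let cols : Fin S.c ↪ S.V := ⟨fun k => Sum.inl (I k), fun a b h => hI (Sum.inl_injective h)⟩
    refine LL1.mem_singularIdeal_of_minor S.rel S.rowsI cols _ (C (S.π ^ 3)) ?_ ?_
    · have := S.det_I I
      change Matrix.det (Matrix.of fun j k : Fin S.c =>
        pderiv (cols k) (S.rel (S.rowsI j))) = _ at this
      rw [this, sub_self]
      exact zero_mem _
    · intro ℓ
      have hπ3 : (C (S.π ^ 3) : MvPolynomial S.V R) = C (S.π ^ 2) * C S.π := by
        rw [← C_mul]; congr 1; ring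
      rcases ℓ with j | j
      · change _ * S.F j ∈ _
        by_cases hj : S.c ≤ (j : ℕ)
        · have h1 := S.tail_F j hj
          have h2 : C (S.π ^ 3) * (C (S.π ^ 3) ^ S.c *
              S.α' (jacobianMinor S.f (Fin.castLE S.hcm) I)) * S.F j =
              (C (S.π ^ 2) * (C (S.π ^ 3) ^ S.c *
              S.α' (jacobianMinor S.f (Fin.castLE S.hcm) I))) * (C S.π * S.F j) := by
            rw [hπ3]; ring
          rw [h2]
          refine Ideal.mul_mem_left _ _ ?_
          obtain ⟨x, hx, y, hy, hxy⟩ := Submodule.mem_sup.mp h1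
          rw [← hxy]
          exact add_mem (Ideal.mem_sup_left hx)
            (Ideal.mem_sup_right (Ideal.pow_right_mono S.spanF_le 2 hy))
        · push Not at hj
          refine Ideal.mem_sup_left (Ideal.mul_mem_left _ _ ?_)
          exact Ideal.subset_span ⟨⟨j, hj⟩, rfl⟩
      · change _ * S.g j ∈ _
        refine Ideal.mem_sup_left ?_
        have h2 : C (S.π ^ 3) * (C (S.π ^ 3) ^ S.c *
            S.α' (jacobianMinor S.f (Fin.castLE S.hcm) I)) * S.g j =
            (C (S.π ^ 3) ^ S.c * S.α' (jacobianMinor S.f (Fin.castLE S.hcm) I)) *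
              S.F (Fin.castLE S.hcm j) := by
          rw [S.F_eq_g]; ring
        rw [h2]
        exact Ideal.mul_mem_left _ _ (Ideal.subset_span ⟨j, rfl⟩)
  · have h0 : jacobianMinor S.f (Fin.castLE S.hcm) I = 0 := by
      unfold jacobianMinor
      rw [Function.Injective] at hI
      push Not at hI
      obtain ⟨k₁, k₂, hk, hne⟩ := hI
      refine Matrix.det_zero_of_column_eq hne ?_
      intro j
      rw [Matrix.of_apply, Matrix.of_apply, hk]
    rw [h0, map_zero, mul_zero, mul_zero, map_zero]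
    exact zero_mem _

/-- Claim (I): `B` is smooth at the primes not containing `π` -/
theorem isSmoothAt_of_pi_notMem (Q : Ideal S.B) [Q.IsPrime]
    (hQ : Ideal.Quotient.mk (Ideal.span (Set.range S.rel)) (C S.π) ∉ Q) :
    Algebra.IsSmoothAt R Q := by
  classical
  set mkB := Ideal.Quotient.mk (Ideal.span (Set.range S.rel)) with hmkB
  have h1 : mkB (C S.π) = ∑ I, mkB (S.α' (S.a I)) *
      mkB (S.α' (jacobianMinor S.f (Fin.castLE S.hcm) I)) := by
    have h2 := S.spanF_le (S.α'_mem_of_mem _ S.hSS1)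
    rw [map_sub, map_sum, α'_C] at h2
    have h3 := Ideal.Quotient.eq_zero_iff_mem.mpr h2
    rw [map_sub, sub_eq_zero, map_sum] at h3
    rw [h3]
    refine Finset.sum_congr rfl fun I _ => ?_
    rw [map_mul, map_mul]
  have hmem : mkB (C (S.π ^ 3)) * mkB (C (S.π ^ 3)) ^ S.c * mkB (C S.π) ∈ singularIdeal R S.B := by
    rw [h1, Finset.mul_sum]
    refine Ideal.sum_mem _ fun I _ => ?_
    have := S.eI_mem I
    have e0 : mkB (C (S.π ^ 3) ^ S.c) = mkB (C (S.π ^ 3)) ^ S.c := map_pow _ _ _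
    rw [← hmkB, map_mul, map_mul, e0] at this
    have e : mkB (C (S.π ^ 3)) * mkB (C (S.π ^ 3)) ^ S.c * (mkB (S.α' (S.a I)) *
        mkB (S.α' (jacobianMinor S.f (Fin.castLE S.hcm) I))) =
        mkB (S.α' (S.a I)) * (mkB (C (S.π ^ 3)) * (mkB (C (S.π ^ 3)) ^ S.c *
        mkB (S.α' (jacobianMinor S.f (Fin.castLE S.hcm) I)))) := by ring
    rw [e]
    exact Ideal.mul_mem_left _ _ this
  refine SI1.isSmoothAt_of_mem_singularIdeal Q _ hmem ?_
  have hQp : Q.IsPrime := inferInstance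
  have h3 : mkB (C (S.π ^ 3)) ∉ Q := by
    rw [C_pow, map_pow]
    intro h
    exact hQ (hQp.mem_of_pow_mem _ h)
  intro hcon
  rcases hQp.mem_or_mem hcon with h | h
  · rcases hQp.mem_or_mem h with h | h
    · exact h3 h
    · exact h3 (hQp.mem_of_pow_mem _ h)
  · exact hQ h

end Setup

end claimI

end Groth.Agent.Lib.Helper8.DS2
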