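import Mathlib
import Groth.Prelude.Def_Smoothing
import Groth.Agent.Lib.Helper8.DS2

set_option backward.isDefEq.respectTransparency.types false
set_option autoImplicit false
set_option linter.unusedSectionVars false
set_option linter.style.haveILetI false

universe u
open MvPolynomial Smoothing

namespace Groth.Agent.Lib.Helper8.DS2

open Groth.Agent.Lib.Helper8

namespace Setup

variable {R : Type u} [CommRing R] (S : Setup R)

/-- leading rows/cols for claim (II) -/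
def rowsII : Fin S.c ↪ S.K := ⟨Sum.inr, Sum.inr_injective⟩

def colsII : Fin S.c ↪ S.V := ⟨Sum.inr, Sum.inr_injective⟩

noncomputable def Δ : MvPolynomial S.V R :=
  Matrix.det (Matrix.of fun j k : Fin S.c => pderiv (S.colsII k) (S.rel (S.rowsII j)))

theorem Δ_sub_one_mem : S.Δ - 1 ∈ Ideal.span {(C S.π : MvPolynomial S.V R)} := by
  classical
  have h := DS1.det_sub_pow_mem (Ideal.span {(C S.π : MvPolynomial S.V R)})
    (Matrix.of fun j k : Fin S.c => pderiv (S.colsII k) (S.rel (S.rowsII j))) 1 ?_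
  · rw [one_pow] at h
    exact h
  · intro j k
    rw [Matrix.of_apply]
    change pderiv (Sum.inr k : S.V) (S.g j) - _ ∈ _
    unfold g w v
    rw [map_add, map_add, map_sum, Derivation.leibniz, pderiv_C, smul_zero, add_zero,
      Derivation.leibniz (pderiv (Sum.inr k : S.V)) (C S.π), pderiv_C, smul_zero, add_zero,
      smul_eq_mul, smul_eq_mul]
    have h1 : ∀ i, pderiv (Sum.inr k : S.V)
        (C (S.rr (Fin.castLE S.hcm j) i) * (X (Sum.inl i) : MvPolynomial S.V R)) = 0 := by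
      intro i
      rw [Derivation.leibniz, pderiv_C, smul_zero, add_zero, pderiv_X_of_ne (by simp), smul_zero]
    rw [Finset.sum_eq_zero fun i _ => h1 i, add_zero]
    have hu : (C S.u : MvPolynomial S.V R) = 1 + C S.π * C S.β' := by
      rw [S.hu, C_add, C_mul, C_1]
    by_cases hjk : j = k
    · subst hjk
      rw [pderiv_X_self, mul_one, if_pos rfl, hu]
      have : (1 + C S.π * C S.β' + C S.π * pderiv (Sum.inr j : S.V)
          (C (S.τ (Fin.castLE S.hcm j)) + S.Q (Fin.castLE S.hcm j)) - 1 : MvPolynomial S.V R) =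
          (C S.β' + pderiv (Sum.inr j : S.V)
          (C (S.τ (Fin.castLE S.hcm j)) + S.Q (Fin.castLE S.hcm j))) * C S.π := by ring
      rw [this]
      exact Ideal.mul_mem_left _ _ (Ideal.subset_span rfl)
    · rw [if_neg hjk, sub_zero, pderiv_X_of_ne (fun h => hjk (Sum.inr_injective h)), mul_zero,
        zero_add, mul_comm]
      exact Ideal.mul_mem_left _ _ (Ideal.subset_span rfl)

theorem spanF_le_pi : Ideal.span (Set.range S.F) ≤ Ideal.span {(C (S.π ^ 2) : MvPolynomial S.V R)} := by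
  rw [Ideal.span_le]
  rintro _ ⟨j, rfl⟩
  rw [S.F_eq_G']
  exact Ideal.mul_mem_right _ _ (Ideal.subset_span rfl)

/-- the tail relation, divided by `π` -/
theorem exists_tail (r₀ : R) (hr : ∀ x : R, S.π ^ 2 * x = 0 → S.π * (r₀ * x) = 0)
    (j : Fin S.m) (hj : S.c ≤ (j : ℕ)) :
    ∃ (bb : Fin S.c → MvPolynomial S.V R) (Dd : Fin S.m → MvPolynomial S.V R),
      C r₀ * S.F j = C r₀ * C (S.π ^ 2) * ∑ jc, bb jc * S.g jc +
        ∑ j₁, C r₀ * C S.π * Dd j₁ * S.F j₁ := by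
  classical
  obtain ⟨x, hx, y, hy, hxy⟩ := Submodule.mem_sup.mp (S.htail j hj)
  have himg : S.f '' {j' : Fin S.m | (j' : ℕ) < S.c} = Set.range (S.f ∘ Fin.castLE S.hcm) := by
    ext z
    constructor
    · rintro ⟨j', hj', rfl⟩
      exact ⟨⟨j', hj'⟩, rfl⟩
    · rintro ⟨jc, rfl⟩
      exact ⟨Fin.castLE S.hcm jc, jc.2, rfl⟩
  rw [himg] at hx
  obtain ⟨b, hb⟩ := Ideal.mem_span_range_iff_exists_fun.mp hx
  rw [pow_two, ← smul_eq_mul] at hy
  obtain ⟨d, hd, hsum⟩ := (Submodule.mem_ideal_smul_span_iff_exists_sum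
    (Ideal.span (Set.range S.f)) S.f y).mp hy
  have hy' : ∑ j₁, d j₁ * S.f j₁ = y := by
    rw [← hsum, Finsupp.sum_fintype _ _ (fun i => by simp)]
    rfl
  have hD : ∀ j₁, ∃ Dd : MvPolynomial S.V R, S.α' (d j₁) = C (S.π ^ 2) * Dd := by
    intro j₁
    have h1 := S.spanF_le_pi (S.α'_mem_of_mem _ (hd j₁))
    obtain ⟨Dd, hDd⟩ := Ideal.mem_span_singleton'.mp h1
    exact ⟨Dd, by rw [← hDd, mul_comm]⟩
  choose Dd hDd using hD
  refine ⟨fun jc => S.α' (b jc), Dd, ?_⟩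
  -- the image of the relation
  have himage : C S.π * S.F j = ∑ jc, S.α' (b jc) * S.F (Fin.castLE S.hcm jc) +
      ∑ j₁, S.α' (d j₁) * S.F j₁ := by
    have h1 := congrArg S.α' hxy
    rw [← hb, ← hy', map_add, map_sum, map_sum, map_mul, α'_C] at h1
    simp only [map_mul, Function.comp_apply] at h1
    exact h1.symm
  set Y' : MvPolynomial S.V R := C S.π * S.G' j - C S.π * ∑ jc, S.α' (b jc) * S.g jc -
    ∑ j₁, Dd j₁ * S.F j₁ with hY'
  have hπ3 : (C (S.π ^ 3) : MvPolynomial S.V R) = C (S.π ^ 2) * C S.π := by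
    rw [← C_mul]; congr 1; ring
  have hY'0 : C (S.π ^ 2) * Y' = 0 := by
    have e1 : ∑ jc, S.α' (b jc) * S.F (Fin.castLE S.hcm jc) =
        C (S.π ^ 2) * (C S.π * ∑ jc, S.α' (b jc) * S.g jc) := by
      rw [Finset.mul_sum, Finset.mul_sum]
      refine Finset.sum_congr rfl fun jc _ => ?_
      rw [S.F_eq_g, hπ3]; ring
    have e2 : ∑ j₁, S.α' (d j₁) * S.F j₁ = C (S.π ^ 2) * ∑ j₁, Dd j₁ * S.F j₁ := by
      rw [Finset.mul_sum]
      refine Finset.sum_congr rfl fun j₁ _ => ?_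
      rw [hDd]; ring
    rw [e1, e2, S.F_eq_G'] at himage
    rw [hY']
    linear_combination himage
  have hkey := DS1.C_mul_eq_zero_of S.π r₀ hr Y' hY'0
  have hCπ2 : (C (S.π ^ 2) : MvPolynomial S.V R) = C S.π * C S.π := by
    rw [← C_mul]; congr 1; ring
  have e3 : C S.π * Y' = S.F j - C (S.π ^ 2) * ∑ jc, S.α' (b jc) * S.g jc -
      C S.π * ∑ j₁, Dd j₁ * S.F j₁ := by
    rw [hY', S.F_eq_G' j, hCπ2]; ring
  rw [e3] at hkey
  have e4 : ∑ j₁, C r₀ * C S.π * Dd j₁ * S.F j₁ = C r₀ * (C S.π * ∑ j₁, Dd j₁ * S.F j₁) := by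
    rw [Finset.mul_sum, Finset.mul_sum]
    refine Finset.sum_congr rfl fun j₁ _ => ?_
    ring
  rw [e4]
  linear_combination hkey


/-- Claim (II): smoothness at primes containing `π` but not `r₀` -/
theorem isSmoothAt_of_pi_mem (r₀ : R) (hr : ∀ x : R, S.π ^ 2 * x = 0 → S.π * (r₀ * x) = 0)
    (Q : Ideal S.B) [Q.IsPrime]
    (hπQ : Ideal.Quotient.mk (Ideal.span (Set.range S.rel)) (C S.π) ∈ Q)
    (hrQ : Ideal.Quotient.mk (Ideal.span (Set.range S.rel)) (C r₀) ∉ Q) :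
    Algebra.IsSmoothAt R Q := by
  classical
  set Lead : Ideal (MvPolynomial S.V R) := Ideal.span (Set.range (S.rel ∘ S.rowsII)) with hLead
  have hgLead : ∀ jc, S.g jc ∈ Lead := fun jc => Ideal.subset_span ⟨jc, rfl⟩
  have hFLead : ∀ jc, S.F (Fin.castLE S.hcm jc) ∈ Lead := by
    intro jc
    rw [S.F_eq_g]
    exact Ideal.mul_mem_left _ _ (hgLead jc)
  have hFlow : ∀ j : Fin S.m, ¬ S.c ≤ (j : ℕ) → S.F j ∈ Lead := by
    intro j hj
    push Not at hj
    exact hFLead ⟨j, hj⟩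
  -- the tail index type
  let T : Type := {j : Fin S.m // S.c ≤ (j : ℕ)}
  have hex : ∀ j : T, ∃ (bb : Fin S.c → MvPolynomial S.V R) (Dd : Fin S.m → MvPolynomial S.V R),
      C r₀ * S.F j.1 = C r₀ * C (S.π ^ 2) * ∑ jc, bb jc * S.g jc +
        ∑ j₁, C r₀ * C S.π * Dd j₁ * S.F j₁ := fun j => S.exists_tail r₀ hr j.1 j.2
  choose bb Dd hrel using hex
  set Mx : Matrix T T (MvPolynomial S.V R) :=
    (C r₀ : MvPolynomial S.V R) • (1 : Matrix T T (MvPolynomial S.V R)) -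
      Matrix.of (fun j j₁ : T => C r₀ * C S.π * Dd j j₁.1) with hMx
  have hv : ∀ j : T, Matrix.mulVec Mx (fun j₁ : T => S.F j₁.1) j ∈ Lead := by
    intro j
    have h1 : Matrix.mulVec Mx (fun j₁ : T => S.F j₁.1) j =
        C r₀ * S.F j.1 - ∑ j₁ : T, C r₀ * C S.π * Dd j j₁.1 * S.F j₁.1 := by
      rw [Matrix.mulVec, dotProduct, hMx]
      simp only [Matrix.sub_apply, Matrix.smul_apply, Matrix.one_apply, Matrix.of_apply, sub_mul,
        Finset.sum_sub_distrib, smul_eq_mul]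
      congr 1
      rw [Finset.sum_eq_single j]
      · rw [if_pos rfl, mul_one]
      · intro j₁ _ hj₁
        rw [if_neg (Ne.symm hj₁), mul_zero, zero_mul]
      · intro hh
        exact absurd (Finset.mem_univ _) hh
    rw [h1, hrel j]
    have hsplit : ∑ j₁, C r₀ * C S.π * Dd j j₁ * S.F j₁ =
        ∑ j₁ : T, C r₀ * C S.π * Dd j j₁.1 * S.F j₁.1 +
        ∑ j₁ : {j₁ : Fin S.m // ¬ S.c ≤ (j₁ : ℕ)}, C r₀ * C S.π * Dd j j₁.1 * S.F j₁.1 :=
      (Fintype.sum_subtype_add_sum_subtype (fun j₁ : Fin S.m => S.c ≤ (j₁ : ℕ))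
        (fun j₁ => C r₀ * C S.π * Dd j j₁ * S.F j₁)).symm
    rw [hsplit]
    have e : C r₀ * C (S.π ^ 2) * ∑ jc, bb j jc * S.g jc +
        (∑ j₁ : T, C r₀ * C S.π * Dd j j₁.1 * S.F j₁.1 +
        ∑ j₁ : {j₁ : Fin S.m // ¬ S.c ≤ (j₁ : ℕ)}, C r₀ * C S.π * Dd j j₁.1 * S.F j₁.1) -
        ∑ j₁ : T, C r₀ * C S.π * Dd j j₁.1 * S.F j₁.1 =
        C r₀ * C (S.π ^ 2) * ∑ jc, bb j jc * S.g jc +
        ∑ j₁ : {j₁ : Fin S.m // ¬ S.c ≤ (j₁ : ℕ)}, C r₀ * C S.π * Dd j j₁.1 * S.F j₁.1 := by ring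
    rw [e]
    refine add_mem (Ideal.mul_mem_left _ _ (Ideal.sum_mem _ fun jc _ =>
      Ideal.mul_mem_left _ _ (hgLead jc))) (Ideal.sum_mem _ fun j₁ _ => ?_)
    exact Ideal.mul_mem_left _ _ (hFlow j₁.1 j₁.2)
  have hdetF : ∀ j : T, Mx.det * S.F j.1 ∈ Lead := by
    intro j
    have h3 : Matrix.mulVec Mx.adjugate (Matrix.mulVec Mx (fun j₁ : T => S.F j₁.1)) =
        Mx.det • (fun j₁ : T => S.F j₁.1) := by
      rw [Matrix.mulVec_mulVec, Matrix.adjugate_mul, Matrix.smul_mulVec, Matrix.one_mulVec]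
    have h4 : (Mx.det • (fun j₁ : T => S.F j₁.1)) j ∈ Lead := by
      rw [← h3, Matrix.mulVec, dotProduct]
      exact Ideal.sum_mem _ fun s _ => Ideal.mul_mem_left _ _ (hv s)
    simpa using h4
  have hdetMx : Mx.det - C r₀ ^ Fintype.card T ∈ Ideal.span {(C S.π : MvPolynomial S.V R)} := by
    refine DS1.det_sub_pow_mem _ Mx (C r₀) ?_
    intro j k
    rw [hMx, Matrix.sub_apply, Matrix.smul_apply, Matrix.one_apply, Matrix.of_apply, smul_eq_mul]
    have : (C r₀ * (if j = k then 1 else 0) - C r₀ * C S.π * Dd j k.1 -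
        (if j = k then C r₀ else 0) : MvPolynomial S.V R) = (- (C r₀ * Dd j k.1)) * C S.π := by
      split_ifs <;> ring
    rw [this]
    exact Ideal.mul_mem_left _ _ (Ideal.subset_span rfl)
  set e : MvPolynomial S.V R := Mx.det * S.Δ with he
  have hmem : Ideal.Quotient.mk (Ideal.span (Set.range S.rel)) e ∈ singularIdeal R S.B := by
    refine LL1.mem_singularIdeal_of_minor S.rel S.rowsII S.colsII e Mx.det ?_ ?_
    · have : e - Mx.det * Matrix.det (Matrix.of fun j k : Fin S.c =>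
          pderiv (S.colsII k) (S.rel (S.rowsII j))) = 0 := by
        rw [he, Δ, sub_self]
      rw [this]
      exact zero_mem _
    · intro ℓ
      refine Ideal.mem_sup_left ?_
      rcases ℓ with j | jc
      · change e * S.F j ∈ Lead
        by_cases hj : S.c ≤ (j : ℕ)
        · have : e * S.F j = S.Δ * (Mx.det * S.F j) := by rw [he]; ring
          rw [this]
          exact Ideal.mul_mem_left _ _ (hdetF ⟨j, hj⟩)
        · exact Ideal.mul_mem_left _ _ (hFlow j hj)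
      · exact Ideal.mul_mem_left _ _ (hgLead jc)
  refine SI1.isSmoothAt_of_mem_singularIdeal Q _ hmem ?_
  have hQp : Q.IsPrime := inferInstance
  set mkB := Ideal.Quotient.mk (Ideal.span (Set.range S.rel)) with hmkB
  have hspanQ : ∀ x : MvPolynomial S.V R, x ∈ Ideal.span {(C S.π : MvPolynomial S.V R)} →
      mkB x ∈ Q := by
    intro x hx
    obtain ⟨y, rfl⟩ := Ideal.mem_span_singleton'.mp hx
    rw [map_mul]
    exact Ideal.mul_mem_left _ _ hπQ
  rw [he, map_mul]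
  intro hcon
  rcases hQp.mem_or_mem hcon with h | h
  · have h1 := hspanQ _ hdetMx
    rw [map_sub, map_pow] at h1
    have h2 : mkB (C r₀) ^ Fintype.card T ∈ Q := by
      have := Q.sub_mem h h1
      rwa [sub_sub_cancel] at this
    exact hrQ (hQp.mem_of_pow_mem _ h2)
  · have h1 := hspanQ _ S.Δ_sub_one_mem
    rw [map_sub, map_one] at h1
    have h2 : (1 : S.B) ∈ Q := by
      have := Q.sub_mem h h1
      rwa [sub_sub_cancel] at this
    exact hQp.ne_top ((Ideal.eq_top_iff_one Q).mpr h2)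

/-- the final smoothness statement -/
theorem algebraMap_mem_singularIdeal (r₀ : R)
    (hr : ∀ x : R, S.π ^ 2 * x = 0 → S.π * (r₀ * x) = 0) :
    algebraMap R S.B r₀ ∈ singularIdeal R S.B := by
  unfold singularIdeal
  rw [PrimeSpectrum.mem_vanishingIdeal]
  intro Q hQ
  by_contra hr₀Q
  apply hQ
  haveI : Q.asIdeal.IsPrime := Q.isPrime
  change Algebra.IsSmoothAt R Q.asIdeal
  by_cases hπ : Ideal.Quotient.mk (Ideal.span (Set.range S.rel)) (C S.π) ∈ Q.asIdeal
  · exact S.isSmoothAt_of_pi_mem r₀ hr Q.asIdeal hπ hr₀Q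
  · exact S.isSmoothAt_of_pi_notMem Q.asIdeal hπ

end Setup

end Groth.Agent.Lib.Helper8.DS2
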