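import Mathlib
import Groth.Prelude.Def_Smoothing
import Groth.Agent.Lib.Helper8.DS3

set_option backward.isDefEq.respectTransparency.types false
set_option autoImplicit false
set_option linter.unusedSectionVars false
set_option linter.style.haveILetI false

universe u
open MvPolynomial Smoothing

namespace Groth.Agent.Lib.Helper8.DS4

open Groth.Agent.Lib.Helper8 Groth.Agent.Lib.Helper8.DS2

/-- building the data of the setup from a strictly standard `π` and a section modulo `π⁴` -/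
theorem exists_data {R A : Type u} [CommRing R] [CommRing A] [Algebra R A] (π : R)
    (P : MarkedPresentation R A)
    (hP1 : algebraMap R A π ∈ Ideal.span (Set.range fun cols : Fin P.c → Fin P.n =>
        P.hom (jacobianMinor P.rel (Fin.castLE P.hcm) cols)))
    (hP2 : KillsTail P (algebraMap R A π))
    (ρ : A →ₐ[R] R ⧸ Ideal.span {π ^ 4}) :
    ∃ (r : Fin P.n → R) (τ : Fin P.m → R) (s : Matrix (Fin P.n) (Fin P.c) R) (u β' : R)
      (a : (Fin P.c → Fin P.n) → MvPolynomial (Fin P.n) R),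
      (∀ i, Ideal.Quotient.mk (Ideal.span {π ^ 4}) (r i) = ρ (P.hom (X i))) ∧
      (∀ j, eval r (P.rel j) = π ^ 4 * τ j) ∧ u = 1 + π * β' ∧
      (∀ j k : Fin P.c, ∑ i, eval r (pderiv i (P.rel (Fin.castLE P.hcm j))) * s i k =
        if j = k then u * π else 0) ∧
      (C π - ∑ I, a I * jacobianMinor P.rel (Fin.castLE P.hcm) I ∈ Ideal.span (Set.range P.rel)) ∧
      (∀ j : Fin P.m, P.c ≤ (j : ℕ) → C π * P.rel j ∈
        Ideal.span (P.rel '' {j' : Fin P.m | (j' : ℕ) < P.c}) ⊔
          Ideal.span (Set.range P.rel) ^ 2) := by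
  classical
  obtain ⟨aA, haA⟩ := Ideal.mem_span_range_iff_exists_fun.mp hP1
  choose a ha using fun I => P.surj (aA I)
  have hSS1 : C π - ∑ I, a I * jacobianMinor P.rel (Fin.castLE P.hcm) I ∈
      Ideal.span (Set.range P.rel) := by
    rw [← P.ker_eq]
    change P.hom _ = 0
    rw [map_sub, map_sum, ← algebraMap_eq, AlgHom.commutes, ← haA, sub_eq_zero]
    refine Finset.sum_congr rfl fun I _ => ?_
    rw [map_mul, ha]
  have htail : ∀ j : Fin P.m, P.c ≤ (j : ℕ) → C π * P.rel j ∈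
      Ideal.span (P.rel '' {j' : Fin P.m | (j' : ℕ) < P.c}) ⊔ Ideal.span (Set.range P.rel) ^ 2 :=
    fun j hj => hP2 (C π) (by rw [← algebraMap_eq, AlgHom.commutes]) j hj
  choose r hr using fun i : Fin P.n =>
    Ideal.Quotient.mk_surjective (I := Ideal.span {π ^ 4}) (ρ (P.hom (X i)))
  have hρ : ∀ p, ρ (P.hom p) = Ideal.Quotient.mk (Ideal.span {π ^ 4}) (eval r p) := by
    intro p
    have : ρ.comp P.hom = (Ideal.Quotient.mkₐ R (Ideal.span {π ^ 4})).comp (aeval r) := by
      apply MvPolynomial.algHom_ext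
      intro i
      change ρ (P.hom (X i)) = Ideal.Quotient.mk _ (aeval r (X i))
      rw [aeval_X, hr]
    exact DFunLike.congr_fun this p
  have hker : ∀ p ∈ Ideal.span (Set.range P.rel), ∃ b : R, eval r p = π ^ 4 * b := by
    intro p hp
    rw [← P.ker_eq] at hp
    have h0 : P.hom p = 0 := hp
    have h1 : Ideal.Quotient.mk (Ideal.span {π ^ 4}) (eval r p) = 0 := by
      rw [← hρ, h0, map_zero]
    obtain ⟨b, hb⟩ := Ideal.mem_span_singleton'.mp (Ideal.Quotient.eq_zero_iff_mem.mp h1)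
    exact ⟨b, by rw [← hb, mul_comm]⟩
  choose τ hτ using fun j => hker (P.rel j) (Ideal.subset_span ⟨j, rfl⟩)
  obtain ⟨β₀, hβ₀⟩ := hker _ hSS1
  let Rm : Matrix (Fin P.c) (Fin P.n) R := Matrix.of fun j i =>
    eval r (pderiv i (P.rel (Fin.castLE P.hcm j)))
  have hminor : ∀ I : Fin P.c → Fin P.n,
      eval r (jacobianMinor P.rel (Fin.castLE P.hcm) I) = (Rm.submatrix id I).det := by
    intro I
    unfold jacobianMinor
    rw [RingHom.map_det]
    congr 1
  obtain ⟨s, hs⟩ := DS1.cramer_right_inverse Rm (fun I => eval r (a I))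
  have hsum : ∑ I, eval r (a I) * (Rm.submatrix id I).det = (1 + π * (- π ^ 2 * β₀)) * π := by
    rw [map_sub, eval_C, map_sum] at hβ₀
    have : ∑ I, eval r (a I) * (Rm.submatrix id I).det =
        ∑ I, eval r (a I * jacobianMinor P.rel (Fin.castLE P.hcm) I) := by
      refine Finset.sum_congr rfl fun I _ => ?_
      rw [map_mul, hminor]
    rw [this]
    linear_combination (-1 : R) * hβ₀
  rw [hsum] at hs
  refine ⟨r, τ, s, 1 + π * (- π ^ 2 * β₀), - π ^ 2 * β₀, a, hr, hτ, rfl, ?_, hSS1, htail⟩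
  intro j k
  have := congrFun (congrFun hs j) k
  rw [Matrix.mul_apply, Matrix.smul_apply, Matrix.one_apply, smul_eq_mul, mul_ite, mul_one,
    mul_zero] at this
  exact this


theorem main2027 {R Λ A : Type u} [CommRing R] [CommRing Λ]
    [Algebra R Λ] (π : R) (hΛ : ∀ x : Λ, π ^ 2 • x = 0 → π • x = 0) [CommRing A] [Algebra R A]
    (φ : A →ₐ[R] Λ)
    (hπ : Smoothing.IsStrictlyStandard R A (algebraMap R A π))
    (ρ : A →ₐ[R] R ⧸ Ideal.span {π ^ 4})
    (hρ : ∀ (a : A) (r : R), Ideal.Quotient.mk (Ideal.span {π ^ 4}) r = ρ a →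
      algebraMap R Λ r - φ a ∈ Ideal.span {algebraMap R Λ (π ^ 4)}) :
    ∃ (B : Type u) (_ : CommRing B) (_ : Algebra R B), Algebra.FinitePresentation R B ∧
      ∃ (α : A →ₐ[R] B) (β : B →ₐ[R] Λ), β.comp α = φ ∧
        ∀ r : R, (∀ x : R, π ^ 2 * x = 0 → π * (r * x) = 0) →
          algebraMap R B r ∈ Smoothing.singularIdeal R B := by
  classical
  obtain ⟨P, hP1, hP2⟩ := hπ
  obtain ⟨r, τ, s, u, β', a, hr, hτ, hu, hs, hSS1, htail⟩ := exists_data π P hP1 hP2 ρ
  let S : Setup R :=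
    { n := P.n, m := P.m, c := P.c, hcn := P.hcn, hcm := P.hcm, f := P.rel, π := π, r := r,
      τ := τ, hτ := hτ, s := s, u := u, β' := β', hu := hu, hs := hs, a := a, hSS1 := hSS1,
      htail := htail }
  let mkB : MvPolynomial S.V R →ₐ[R] S.B := Ideal.Quotient.mkₐ R _
  have hmkB : ∀ p, p ∈ Ideal.span (Set.range S.rel) → mkB p = 0 := fun p hp =>
    Ideal.Quotient.eq_zero_iff_mem.mpr hp
  -- α
  have hkerα : ∀ p ∈ RingHom.ker P.hom.toRingHom, (mkB.comp S.α') p = 0 := by
    intro p hp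
    rw [P.ker_eq] at hp
    exact hmkB _ (S.spanF_le (S.α'_mem_of_mem p hp))
  let eA : (MvPolynomial (Fin P.n) R ⧸ RingHom.ker P.hom.toRingHom) ≃ₐ[R] A :=
    Ideal.quotientKerAlgEquivOfSurjective P.surj
  let α : A →ₐ[R] S.B := (Ideal.Quotient.liftₐ _ (mkB.comp S.α') hkerα).comp eA.symm.toAlgHom
  have hα : ∀ p, α (P.hom p) = mkB (S.α' p) := by
    intro p
    have : eA.symm (P.hom p) = Ideal.Quotient.mk _ p := by
      rw [AlgEquiv.symm_apply_eq]
      rfl
    change Ideal.Quotient.liftₐ _ (mkB.comp S.α') hkerα (eA.symm (P.hom p)) = _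
    rw [this]
    rfl
  -- λ
  have hlam : ∀ i : Fin P.n, ∃ l : Λ, φ (P.hom (X i)) = algebraMap R Λ (r i) +
      algebraMap R Λ (π ^ 4) * l := by
    intro i
    have h1 := hρ (P.hom (X i)) (r i) (hr i)
    obtain ⟨l, hl⟩ := Ideal.mem_span_singleton'.mp h1
    exact ⟨-l, by linear_combination hl⟩
  choose lam hlam using hlam
  let EV : MvPolynomial S.V R →ₐ[R] Λ :=
    aeval (Sum.elim (fun i => algebraMap R Λ π * lam i) (fun _ => 0))
  have hEVv : ∀ i, EV (S.v i) = algebraMap R Λ π * lam i := by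
    intro i
    change aeval _ (X (Sum.inl i)) = _
    rw [aeval_X]
    rfl
  have hEVw : ∀ k, EV (S.w k) = 0 := by
    intro k
    change aeval _ (X (Sum.inr k)) = _
    rw [aeval_X]
    rfl
  have hEVC : ∀ a, EV (C a) = algebraMap R Λ a := fun a => by
    rw [← algebraMap_eq, AlgHom.commutes]
  have hEVsub : ∀ i, EV (S.sub i) = φ (P.hom (X i)) := by
    intro i
    rw [hlam]
    unfold Setup.sub Setup.t Setup.t'
    rw [map_add, map_mul, map_add, map_sum, map_mul, hEVC, hEVC, hEVC, hEVv]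
    have : ∀ k, EV (C (S.s i k) * S.w k) = 0 := fun k => by rw [map_mul, hEVw, mul_zero]
    rw [Finset.sum_eq_zero fun k _ => this k, zero_add]
    change _ + algebraMap R Λ (π ^ 2) * (algebraMap R Λ π * (algebraMap R Λ π * lam i)) = _
    rw [map_pow, map_pow]
    ring
  have hEVα' : ∀ p, EV (S.α' p) = φ (P.hom p) := by
    intro p
    have : EV.comp S.α' = φ.comp P.hom := by
      apply MvPolynomial.algHom_ext
      intro i
      change EV (aeval S.sub (X i)) = φ (P.hom (X i))
      rw [aeval_X, hEVsub]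
    exact DFunLike.congr_fun this p
  have hEVF : ∀ j, EV (S.F j) = 0 := by
    intro j
    change EV (S.α' (P.rel j)) = 0
    rw [hEVα']
    have : P.rel j ∈ RingHom.ker P.hom.toRingHom := by
      rw [P.ker_eq]; exact Ideal.subset_span ⟨j, rfl⟩
    have h0 : P.hom (P.rel j) = 0 := this
    rw [h0, map_zero]
  have hEVg : ∀ jc, EV (S.g jc) = 0 := by
    intro jc
    set ε : Λ := ∑ i, algebraMap R Λ (S.rr (Fin.castLE S.hcm jc) i) * lam i +
      (algebraMap R Λ (S.τ (Fin.castLE S.hcm jc)) + EV (S.Q (Fin.castLE S.hcm jc))) with hε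
    have h1 : EV (S.g jc) = π • ε := by
      unfold Setup.g
      simp only [map_add, map_mul, map_sum, hEVw, hEVC, hEVv]
      have e : ∑ i, algebraMap R Λ (S.rr (Fin.castLE S.hcm jc) i) * (algebraMap R Λ π * lam i) =
          algebraMap R Λ π * ∑ i, algebraMap R Λ (S.rr (Fin.castLE S.hcm jc) i) * lam i := by
        rw [Finset.mul_sum]
        refine Finset.sum_congr rfl fun i _ => ?_
        ring
      rw [hε, Algebra.smul_def, e]
      ring
    have h2 : π ^ 3 • EV (S.g jc) = 0 := by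
      have := hEVF (Fin.castLE S.hcm jc)
      rw [S.F_eq_g, map_mul, hEVC] at this
      rw [Algebra.smul_def]
      exact this
    rw [h1] at h2 ⊢
    rw [← mul_smul, ← pow_succ] at h2
    exact DS1.smul_eq_zero_of_pow_smul π hΛ 3 ε h2
  have hEVker : ∀ p ∈ Ideal.span (Set.range S.rel), EV p = 0 := by
    intro p hp
    refine Submodule.span_induction ?_ ?_ ?_ ?_ hp
    · rintro _ ⟨j | jc, rfl⟩
      · exact hEVF j
      · exact hEVg jc
    · exact map_zero _
    · intro x y _ _ hx hy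
      rw [map_add, hx, hy, add_zero]
    · intro a x _ hx
      rw [smul_eq_mul, map_mul, hx, mul_zero]
  let β : S.B →ₐ[R] Λ := Ideal.Quotient.liftₐ _ EV hEVker
  have hβ : ∀ p, β (mkB p) = EV p := fun p => rfl
  refine ⟨S.B, inferInstance, inferInstance, LL1.fp_quotient S.rel, α, β, ?_, ?_⟩
  · apply AlgHom.ext
    intro x
    obtain ⟨p, rfl⟩ := P.surj x
    rw [AlgHom.comp_apply, hα, hβ, hEVα']
  · intro r₀ hr₀
    exact S.algebraMap_mem_singularIdeal r₀ hr₀

end Groth.Agent.Lib.Helper8.DS4
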