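import Mathlib
import Groth.Prelude.Def_Smoothing
import Groth.Agent.Lib.Helper8.LL1
import Groth.Agent.Lib.Helper8.SI1

set_option backward.isDefEq.respectTransparency.types false
set_option autoImplicit false
set_option linter.unusedSectionVars false
set_option linter.style.haveILetI false

universe u
open Smoothing

namespace Groth.Agent.Lib.Helper8.DS5

open Groth.Agent.Lib.Helper8

/-- composition of smoothness at primes -/
theorem isSmoothAt_comp {R D B : Type u} [CommRing R] [CommRing D] [CommRing B] [Algebra R D]
    [Algebra D B] [Algebra R B] [IsScalarTower R D B] (Q : Ideal B) [Q.IsPrime]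
    (h1 : Algebra.IsSmoothAt R (Q.comap (algebraMap D B))) (h2 : Algebra.IsSmoothAt D Q) :
    Algebra.IsSmoothAt R Q := by
  set q : Ideal D := Q.comap (algebraMap D B) with hq
  haveI : Algebra.FormallySmooth R (Localization.AtPrime q) := h1
  haveI : Algebra.FormallySmooth D (Localization.AtPrime Q) := h2
  letI : Algebra (Localization.AtPrime q) (Localization.AtPrime Q) :=
    (Localization.localRingHom q Q (algebraMap D B) rfl).toAlgebra
  haveI : IsScalarTower D (Localization.AtPrime q) (Localization.AtPrime Q) := by
    refine IsScalarTower.of_algebraMap_eq fun x => ?_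
    change _ = Localization.localRingHom q Q (algebraMap D B) rfl (algebraMap D _ x)
    rw [Localization.localRingHom_to_map]
    exact IsScalarTower.algebraMap_apply D B (Localization.AtPrime Q) x
  haveI : Algebra.FormallySmooth (Localization.AtPrime q) (Localization.AtPrime Q) :=
    Algebra.FormallySmooth.localization_base q.primeCompl
  haveI : IsScalarTower R (Localization.AtPrime q) (Localization.AtPrime Q) := by
    refine IsScalarTower.of_algebraMap_eq fun x => ?_
    rw [IsScalarTower.algebraMap_apply R D (Localization.AtPrime q),
      ← IsScalarTower.algebraMap_apply D (Localization.AtPrime q) (Localization.AtPrime Q),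
      IsScalarTower.algebraMap_apply R B (Localization.AtPrime Q),
      IsScalarTower.algebraMap_apply D B (Localization.AtPrime Q),
      ← IsScalarTower.algebraMap_apply R D B]
  exact Algebra.FormallySmooth.comp R (Localization.AtPrime q) (Localization.AtPrime Q)

/-- at a smooth prime of `D`, the annihilator condition can be achieved by an element outside -/
theorem exists_ann {R D : Type u} [CommRing R] [IsNoetherianRing R] [CommRing D] [Algebra R D]
    [Algebra.FinitePresentation R D] (π : R) (hR : ∀ r : R, π ^ 2 * r = 0 → π * r = 0)
    (q : Ideal D) [q.IsPrime] (hq : Algebra.IsSmoothAt R q) :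
    ∃ d : D, d ∉ q ∧ ∀ x : D, algebraMap R D π ^ 2 * x = 0 → algebraMap R D π * (d * x) = 0 := by
  haveI := hq
  haveI : IsNoetherianRing D := Algebra.FiniteType.isNoetherianRing R D
  obtain ⟨f, hfq, hsm⟩ := Algebra.IsSmoothAt.exists_notMem_smooth R q
  haveI : Module.Flat R (Localization.Away f) := inferInstance
  -- the chain of ideals
  let J : ℕ →o Ideal D :=
    { toFun := fun k => LinearMap.ker (LinearMap.mulLeft D (f ^ k * algebraMap R D π))
      monotone' := by
        intro k l hkl x hx
        rw [LinearMap.mem_ker, LinearMap.mulLeft_apply] at hx ⊢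
        obtain ⟨e, rfl⟩ := Nat.exists_eq_add_of_le hkl
        rw [pow_add]
        linear_combination f ^ e * hx }
  obtain ⟨k₀, hk₀⟩ := monotone_stabilizes_iff_noetherian.mpr inferInstance J
  refine ⟨f ^ k₀, fun h => hfq (Ideal.IsPrime.mem_of_pow_mem inferInstance _ h), ?_⟩
  intro x hx
  -- in the localization
  have h1 : π ^ 2 • (algebraMap D (Localization.Away f) x) = 0 := by
    rw [Algebra.smul_def, IsScalarTower.algebraMap_apply R D (Localization.Away f), ← map_mul,
      map_pow, hx, map_zero]
  have h2 := LL1.smul_eq_zero_of_flat π hR _ h1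
  rw [Algebra.smul_def, IsScalarTower.algebraMap_apply R D (Localization.Away f), ← map_mul] at h2
  obtain ⟨⟨_, k, rfl⟩, hk⟩ := (IsLocalization.map_eq_zero_iff (Submonoid.powers f)
    (Localization.Away f) _).mp h2
  have h3 : x ∈ J k := by
    change LinearMap.mulLeft D (f ^ k * algebraMap R D π) x = 0
    rw [LinearMap.mulLeft_apply, mul_assoc]
    exact hk
  have h4 : x ∈ J k₀ := by
    rcases le_total k k₀ with h | h
    · exact J.monotone h h3
    · rw [hk₀ k h]; exact h3
  have h5 : (f ^ k₀ * algebraMap R D π) * x = 0 := h4
  linear_combination h5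

end Groth.Agent.Lib.Helper8.DS5
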