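import Mathlib
import Groth.Prelude.Def_Smoothing
import Groth.Agent.Lib.Helper8.DS4
import Groth.Agent.Lib.Helper8.DS5
import Groth.Agent.S6829

set_option backward.isDefEq.respectTransparency.types false
set_option autoImplicit false
set_option linter.unusedSectionVars false
set_option linter.style.haveILetI false

universe u
open Smoothing TensorProduct

namespace Groth.Agent.Lib.Helper8.DS6

open Groth.Agent.Lib.Helper8

/-- `main2027` with the quotient by an ideal propositionally equal to `(π⁴)` -/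
theorem main2027' {R Λ A : Type u} [CommRing R] [CommRing Λ]
    [Algebra R Λ] (π : R) (hΛ : ∀ x : Λ, π ^ 2 • x = 0 → π • x = 0) [CommRing A] [Algebra R A]
    (φ : A →ₐ[R] Λ)
    (hπ : Smoothing.IsStrictlyStandard R A (algebraMap R A π))
    (I : Ideal R) (hI : I = Ideal.span {π ^ 4}) (IΛ : Ideal Λ)
    (hIΛ : IΛ = Ideal.span {algebraMap R Λ (π ^ 4)})
    (ρ : A →ₐ[R] R ⧸ I)
    (hρ : ∀ (a : A) (r : R), Ideal.Quotient.mk I r = ρ a → algebraMap R Λ r - φ a ∈ IΛ) :
    ∃ (B : Type u) (_ : CommRing B) (_ : Algebra R B), Algebra.FinitePresentation R B ∧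
      ∃ (α : A →ₐ[R] B) (β : B →ₐ[R] Λ), β.comp α = φ ∧
        ∀ r : R, (∀ x : R, π ^ 2 * x = 0 → π * (r * x) = 0) →
          algebraMap R B r ∈ Smoothing.singularIdeal R B := by
  subst hI
  subst hIΛ
  exact DS4.main2027 π hΛ φ hπ ρ hρ

theorem main2028 {R Λ A D : Type u} [CommRing R] [IsNoetherianRing R]
    [CommRing Λ] [Algebra R Λ] (π : R) (hR : ∀ r : R, π ^ 2 * r = 0 → π * r = 0)
    (hΛ : ∀ x : Λ, π ^ 2 • x = 0 → π • x = 0) [CommRing A] [Algebra R A]
    [Algebra.FinitePresentation R A] [CommRing D] [Algebra R D] [Algebra.FinitePresentation R D]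
    (φ : A →ₐ[R] Λ) (δ : D →ₐ[R] Λ) (hπ : Smoothing.IsStrictlyStandard R A (algebraMap R A π))
    (ψ : A →ₐ[R] D ⧸ Ideal.span {algebraMap R D (π ^ 4)})
    (hψ : ∀ (a : A) (d : D), Ideal.Quotient.mk (Ideal.span {algebraMap R D (π ^ 4)}) d = ψ a →
      δ d - φ a ∈ Ideal.span {algebraMap R Λ (π ^ 4)}) :
    ∃ (B : Type u) (_ : CommRing B) (_ : Algebra R B) (_ : Algebra D B) (_ : IsScalarTower R D B),
      Algebra.FinitePresentation R B ∧
      ∃ (α : A →ₐ[R] B) (β : B →ₐ[R] Λ), β.comp α = φ ∧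
        β.comp (IsScalarTower.toAlgHom R D B) = δ ∧
        (Smoothing.singularIdeal R D).map (algebraMap D B) ≤ Smoothing.singularIdeal D B ∧
        (Smoothing.singularIdeal R D).map (algebraMap D B) ≤ Smoothing.singularIdeal R B := by
  classical
  letI : Algebra D Λ := δ.toRingHom.toAlgebra
  haveI : IsScalarTower R D Λ := IsScalarTower.of_algebraMap_eq fun r => (δ.commutes r).symm
  have hδalg : ∀ d : D, algebraMap D Λ d = δ d := fun d => rfl
  set πD : D := algebraMap R D π with hπD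
  have hΛ' : ∀ x : Λ, πD ^ 2 • x = 0 → πD • x = 0 := by
    intro x hx
    have e1 : πD ^ 2 • x = π ^ 2 • x := by
      rw [hπD, ← map_pow, algebraMap_smul]
    have e2 : πD • x = π • x := by
      rw [hπD, algebraMap_smul]
    rw [e2]
    rw [e1] at hx
    exact hΛ x hx
  -- the maps on the base change
  let φ' : D ⊗[R] A →ₐ[D] Λ :=
    Algebra.TensorProduct.lift (Algebra.ofId D Λ) φ (fun _ _ => Commute.all _ _)
  have hφ' : ∀ (d : D) (a : A), φ' (d ⊗ₜ[R] a) = δ d * φ a := by
    intro d a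
    simp [φ', Algebra.ofId_apply, hδalg]
  let ρ' : D ⊗[R] A →ₐ[D] D ⧸ (Ideal.span {algebraMap R D (π ^ 4)}) :=
    Algebra.TensorProduct.lift (Algebra.ofId D (D ⧸ (Ideal.span {algebraMap R D (π ^ 4)}))) ψ (fun _ _ => Commute.all _ _)
  have hρ' : ∀ (d : D) (a : A), ρ' (d ⊗ₜ[R] a) = Ideal.Quotient.mk (Ideal.span {algebraMap R D (π ^ 4)}) d * ψ a := by
    intro d a
    simp [ρ', Algebra.ofId_apply]
  -- strictly standard after base change
  have hπ' : Smoothing.IsStrictlyStandard D (D ⊗[R] A) (algebraMap D (D ⊗[R] A) πD) := by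
    have h := (Groth.Agent.S6829.result (R := R) (A := A) (R' := D) (algebraMap R A π)).2 hπ
    have e : algebraMap D (D ⊗[R] A) πD = (1 : D) ⊗ₜ[R] algebraMap R A π := by
      rw [Algebra.TensorProduct.algebraMap_apply]
      calc πD ⊗ₜ[R] (1 : A) = (π • (1 : D)) ⊗ₜ[R] (1 : A) := by
            rw [hπD, Algebra.algebraMap_eq_smul_one]
        _ = (1 : D) ⊗ₜ[R] (π • (1 : A)) := TensorProduct.smul_tmul π 1 1
        _ = (1 : D) ⊗ₜ[R] algebraMap R A π := by rw [Algebra.algebraMap_eq_smul_one]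
    rw [e]
    exact h
  -- compatibility
  have hIDL : ∀ a ∈ (Ideal.span {algebraMap R D (π ^ 4)}), δ a ∈ (Ideal.span {algebraMap R Λ (π ^ 4)}) := by
    intro a ha
    obtain ⟨c, rfl⟩ := Ideal.mem_span_singleton'.mp ha
    rw [map_mul, AlgHom.commutes]
    exact Ideal.mul_mem_left _ _ (Ideal.subset_span rfl)
  have hcompat : ∀ (x : D ⊗[R] A) (d : D), Ideal.Quotient.mk (Ideal.span {algebraMap R D (π ^ 4)}) d = ρ' x →
      algebraMap D Λ d - φ' x ∈ (Ideal.span {algebraMap R Λ (π ^ 4)}) := by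
    intro x
    induction x using TensorProduct.induction_on with
    | zero =>
      intro d hd
      rw [map_zero] at hd
      rw [map_zero, sub_zero, hδalg]
      exact hIDL d (Ideal.Quotient.eq_zero_iff_mem.mp hd)
    | tmul d₁ a =>
      intro d hd
      rw [hρ'] at hd
      obtain ⟨d₂, hd₂⟩ := Ideal.Quotient.mk_surjective (ψ a)
      have h1 := hψ a d₂ hd₂
      rw [← hd₂, ← map_mul] at hd
      have h2 : d - d₁ * d₂ ∈ (Ideal.span {algebraMap R D (π ^ 4)}) := by
        rw [← Ideal.Quotient.eq_zero_iff_mem, map_sub, hd, sub_self]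
      have h3 := hIDL _ h2
      rw [hφ', hδalg]
      have e : δ d - δ d₁ * φ a = δ (d - d₁ * d₂) + δ d₁ * (δ d₂ - φ a) := by
        rw [map_sub, map_mul]; ring
      rw [e]
      exact add_mem h3 (Ideal.mul_mem_left _ _ h1)
    | add x y hx hy =>
      intro d hd
      obtain ⟨dx, hdx⟩ := Ideal.Quotient.mk_surjective (ρ' x)
      obtain ⟨dy, hdy⟩ := Ideal.Quotient.mk_surjective (ρ' y)
      have h1 := hx dx hdx
      have h2 := hy dy hdy
      rw [map_add, ← hdx, ← hdy, ← map_add] at hd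
      have h3 : d - (dx + dy) ∈ (Ideal.span {algebraMap R D (π ^ 4)}) := by
        rw [← Ideal.Quotient.eq_zero_iff_mem, map_sub, hd, sub_self]
      have h4 := hIDL _ h3
      rw [hδalg] at h1 h2 ⊢
      have e : δ d - φ' (x + y) = δ (d - (dx + dy)) + ((δ dx - φ' x) + (δ dy - φ' y)) := by
        rw [map_sub, map_add, map_add]; ring
      rw [e]
      exact add_mem h4 (add_mem h1 h2)
  obtain ⟨B, _, _, hfp, α', β', hβα, hsing⟩ := main2027' (R := D) (Λ := Λ) (A := D ⊗[R] A) πD hΛ'
    φ' hπ' (Ideal.span {algebraMap R D (π ^ 4)}) (by rw [hπD, map_pow]) (Ideal.span {algebraMap R Λ (π ^ 4)}) (by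
      rw [hπD, ← map_pow, hδalg, AlgHom.commutes]) ρ' hcompat
  letI : Algebra R B := ((algebraMap D B).comp (algebraMap R D)).toAlgebra
  haveI : IsScalarTower R D B := IsScalarTower.of_algebraMap_eq' rfl
  haveI : Algebra.FinitePresentation R B := Algebra.FinitePresentation.trans R D B
  let α : A →ₐ[R] B := (α'.restrictScalars R).comp Algebra.TensorProduct.includeRight
  let β : B →ₐ[R] Λ := β'.restrictScalars R
  -- smoothness of `B` over `D` above the smooth locus of `D` over `R`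
  have hkey : ∀ (Q : Ideal B) [Q.IsPrime],
      Algebra.IsSmoothAt R (Q.comap (algebraMap D B)) → Algebra.IsSmoothAt D Q := by
    intro Q _ hq
    obtain ⟨d, hdq, hd⟩ := DS5.exists_ann π hR (Q.comap (algebraMap D B)) hq
    have h1 := hsing d hd
    exact SI1.isSmoothAt_of_mem_singularIdeal Q _ h1 hdq
  have hnot : ∀ (Q : Ideal B) [Q.IsPrime] (x : D), x ∈ singularIdeal R D →
      algebraMap D B x ∉ Q → Algebra.IsSmoothAt R (Q.comap (algebraMap D B)) := by
    intro Q _ x hx hxQ
    exact SI1.isSmoothAt_of_mem_singularIdeal _ x hx hxQ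
  refine ⟨B, inferInstance, inferInstance, inferInstance, inferInstance, inferInstance, α, β,
    ?_, ?_, ?_, ?_⟩
  · apply AlgHom.ext
    intro a
    change β' (α' ((1 : D) ⊗ₜ[R] a)) = φ a
    have := DFunLike.congr_fun hβα ((1 : D) ⊗ₜ[R] a)
    rw [AlgHom.comp_apply, hφ', map_one, one_mul] at this
    exact this
  · apply AlgHom.ext
    intro d
    change β' (algebraMap D B d) = δ d
    rw [AlgHom.commutes, hδalg]
  · rw [Ideal.map_le_iff_le_comap]
    intro x hx
    rw [Ideal.mem_comap]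
    unfold singularIdeal
    rw [PrimeSpectrum.mem_vanishingIdeal]
    intro Q hQ
    by_contra hxQ
    apply hQ
    haveI : Q.asIdeal.IsPrime := Q.isPrime
    exact hkey Q.asIdeal (hnot Q.asIdeal x hx hxQ)
  · rw [Ideal.map_le_iff_le_comap]
    intro x hx
    rw [Ideal.mem_comap]
    unfold singularIdeal
    rw [PrimeSpectrum.mem_vanishingIdeal]
    intro Q hQ
    by_contra hxQ
    apply hQ
    haveI : Q.asIdeal.IsPrime := Q.isPrime
    have h1 := hnot Q.asIdeal x hx hxQ
    exact DS5.isSmoothAt_comp Q.asIdeal h1 (hkey Q.asIdeal h1)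

end Groth.Agent.Lib.Helper8.DS6
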