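import Mathlib
import Groth.Prelude.Def_Smoothing
import Groth.Agent.Lib.Helper8.LL1

set_option backward.isDefEq.respectTransparency.types false
set_option autoImplicit false
set_option linter.unusedSectionVars false
set_option linter.style.haveILetI false

universe u
open MvPolynomial Smoothing

namespace Groth.Agent.Lib.Helper8.LL2

open Groth.Agent.Lib.Helper8

variable {R : Type u} [CommRing R] {n m : ℕ} (f : Fin m → MvPolynomial (Fin n) R) (π : R)

/-- chart data: `A f_ℓ = ∑ h_{ℓ,i} f_{rows i} + π² g_ℓ`, normalised on the chosen rows -/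
structure Chart where
  c : ℕ
  rows : Fin c ↪ Fin m
  cols : Fin c ↪ Fin n
  A : MvPolynomial (Fin n) R
  h : Fin m → Fin c → MvPolynomial (Fin n) R
  g : Fin m → MvPolynomial (Fin n) R
  h4 : ∀ ℓ, A * f ℓ = ∑ i, h ℓ i * f (rows i) + C (π ^ 2) * g ℓ
  h5 : ∀ i₀ i, h (rows i₀) i = if i = i₀ then A else 0
  g5 : ∀ i₀, g (rows i₀) = 0

variable {f π}

noncomputable def Chart.minor (ch : Chart f π) : MvPolynomial (Fin n) R :=
  Matrix.det (Matrix.of fun j k : Fin ch.c => pderiv (ch.cols k) (f (ch.rows j)))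

/-- variables `x_i`, `z_j` -/
abbrev V (n m : ℕ) : Type := Fin n ⊕ Fin m

/-- relations index -/
abbrev K (m r : ℕ) : Type := Fin m ⊕ (Fin r × Fin m)

noncomputable def ι : MvPolynomial (Fin n) R →ₐ[R] MvPolynomial (V n m) R := rename Sum.inl

noncomputable def Z (j : Fin m) : MvPolynomial (V n m) R := X (Sum.inr j)

theorem pderiv_inl_ι (v : Fin n) (p : MvPolynomial (Fin n) R) :
    pderiv (Sum.inl v : V n m) (ι p) = ι (pderiv v p) := LL1.pderiv_inl_rename v p

theorem pderiv_inr_ι (w : Fin m) (p : MvPolynomial (Fin n) R) :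
    pderiv (Sum.inr w : V n m) (ι p) = 0 := LL1.pderiv_inr_rename w p

theorem ι_C (a : R) : (ι (n := n) (m := m)) (C a) = C a := by
  rw [ι, rename_C]

/-- the basic relation `f_j - π z_j` -/
noncomputable def Fr (f : Fin m → MvPolynomial (Fin n) R) (π : R) (j : Fin m) :
    MvPolynomial (V n m) R :=
  ι (f j) - C π * Z (n := n) j

/-- the chart relation -/
noncomputable def Pk (ch : Chart f π) (ℓ : Fin m) : MvPolynomial (V n m) R :=
  ι ch.A * Z ℓ - ∑ i, ι (ch.h ℓ i) * Z (ch.rows i) - C π * ι (ch.g ℓ)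

theorem Pk_rows (ch : Chart f π) (i₀ : Fin ch.c) : Pk ch (ch.rows i₀) = 0 := by
  classical
  unfold Pk
  rw [ch.g5, map_zero, mul_zero, sub_zero, Finset.sum_eq_single i₀]
  · rw [ch.h5, if_pos rfl, sub_self]
  · intro i _ hi
    rw [ch.h5, if_neg hi, map_zero, zero_mul]
  · intro h
    exact absurd (Finset.mem_univ _) h

/-- (F2) -/
theorem A_mul_Fr (ch : Chart f π) (j : Fin m) :
    ι ch.A * Fr f π j = ∑ i, ι (ch.h j i) * Fr f π (ch.rows i) - C π * Pk ch j := by
  have h := congrArg (ι (n := n) (m := m)) (ch.h4 j)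
  rw [map_mul, map_add, map_sum, map_mul] at h
  simp only [map_mul] at h
  have hC : (ι (n := n) (m := m)) (C (π ^ 2)) = C π * C π := by
    rw [ι, rename_C, pow_two, C_mul]
  rw [hC] at h
  unfold Fr Pk
  simp only [mul_sub, Finset.sum_sub_distrib]
  have h1 : ∑ x, ι (ch.h j x) * (C π * Z (n := n) (ch.rows x)) =
      C π * ∑ x, ι (ch.h j x) * Z (n := n) (ch.rows x) := by
    rw [Finset.mul_sum]
    refine Finset.sum_congr rfl fun x _ => ?_
    ring
  rw [h1, h]
  ring


section compare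

variable (c₁ c₂ : Chart f π) (ℓ : Fin m)

noncomputable def cc (i : Fin c₁.c) : MvPolynomial (Fin n) R :=
  c₂.A * c₁.h ℓ i - ∑ i', c₂.h ℓ i' * c₁.h (c₂.rows i') i

noncomputable def GG : MvPolynomial (Fin n) R :=
  c₂.A * c₁.g ℓ - ∑ i', c₂.h ℓ i' * c₁.g (c₂.rows i') - c₁.A * c₂.g ℓ

theorem E_identity : ∑ i, cc c₁ c₂ ℓ i * f (c₁.rows i) + C (π ^ 2) * GG c₁ c₂ ℓ = 0 := by
  have h1 := c₁.h4 ℓ
  have h2 := c₂.h4 ℓ
  have h3 : ∀ i', c₁.A * f (c₂.rows i') =
      ∑ i, c₁.h (c₂.rows i') i * f (c₁.rows i) + C (π ^ 2) * c₁.g (c₂.rows i') :=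
    fun i' => c₁.h4 _
  -- expand
  have e1 : ∑ i, cc c₁ c₂ ℓ i * f (c₁.rows i) =
      c₂.A * ∑ i, c₁.h ℓ i * f (c₁.rows i) -
        ∑ i', c₂.h ℓ i' * ∑ i, c₁.h (c₂.rows i') i * f (c₁.rows i) := by
    unfold cc
    simp only [sub_mul, Finset.sum_sub_distrib, Finset.mul_sum, Finset.sum_mul]
    rw [Finset.sum_comm]
    congr 1
    · refine Finset.sum_congr rfl fun i _ => ?_
      ring
    · refine Finset.sum_congr rfl fun i _ => Finset.sum_congr rfl fun i' _ => ?_
      ring
  have e2 : ∑ i', c₂.h ℓ i' * ∑ i, c₁.h (c₂.rows i') i * f (c₁.rows i) =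
      c₁.A * ∑ i', c₂.h ℓ i' * f (c₂.rows i') -
        C (π ^ 2) * ∑ i', c₂.h ℓ i' * c₁.g (c₂.rows i') := by
    rw [Finset.mul_sum, Finset.mul_sum, ← Finset.sum_sub_distrib]
    refine Finset.sum_congr rfl fun i' _ => ?_
    have := h3 i'
    linear_combination (- c₂.h ℓ i') * this
  rw [e1, e2]
  unfold GG
  linear_combination (- c₂.A) * h1 + c₁.A * h2

theorem T_identity :
    ι c₁.A * Pk c₂ ℓ - (ι c₂.A * Pk c₁ ℓ - ∑ i', ι (c₂.h ℓ i') * Pk c₁ (c₂.rows i')) =
      ∑ i, ι (cc c₁ c₂ ℓ i) * Z (n := n) (c₁.rows i) + C π * ι (GG c₁ c₂ ℓ) := by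
  have hs1 : ∑ i', ι (c₂.h ℓ i') * Pk c₁ (c₂.rows i') =
      ι c₁.A * ∑ i', ι (c₂.h ℓ i') * Z (n := n) (c₂.rows i') -
        ∑ i', ι (c₂.h ℓ i') * ∑ i, ι (c₁.h (c₂.rows i') i) * Z (n := n) (c₁.rows i) -
        C π * ∑ i', ι (c₂.h ℓ i') * ι (c₁.g (c₂.rows i')) := by
    unfold Pk
    simp only [mul_sub, Finset.sum_sub_distrib]
    congr 1
    · congr 1
      rw [Finset.mul_sum]
      refine Finset.sum_congr rfl fun i _ => ?_
      ring
    · rw [Finset.mul_sum]
      refine Finset.sum_congr rfl fun i _ => ?_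
      ring
  have hs2 : ∑ i, ι (cc c₁ c₂ ℓ i) * Z (n := n) (c₁.rows i) =
      ι c₂.A * ∑ i, ι (c₁.h ℓ i) * Z (n := n) (c₁.rows i) -
        ∑ i', ι (c₂.h ℓ i') * ∑ i, ι (c₁.h (c₂.rows i') i) * Z (n := n) (c₁.rows i) := by
    unfold cc
    simp only [map_sub, map_mul, map_sum, sub_mul, Finset.sum_sub_distrib, Finset.mul_sum,
      Finset.sum_mul]
    rw [Finset.sum_comm]
    congr 1
    · refine Finset.sum_congr rfl fun i _ => ?_
      ring
    · refine Finset.sum_congr rfl fun i _ => Finset.sum_congr rfl fun i' _ => ?_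
      ring
  have hG : ι (n := n) (m := m) (GG c₁ c₂ ℓ) = ι c₂.A * ι (c₁.g ℓ) - ∑ i', ι (c₂.h ℓ i') * ι (c₁.g (c₂.rows i')) -
      ι c₁.A * ι (c₂.g ℓ) := by
    unfold GG
    simp only [map_sub, map_mul, map_sum]
  rw [hs1, hs2, hG]
  unfold Pk
  ring

end compare


/-- the flatness argument -/
theorem flat_kill {P : Type u} [CommRing P] [Algebra R P] (Lead : Ideal P) (e₂ u M T : P) (π : R)
    (hR : ∀ r : R, π ^ 2 * r = 0 → π * r = 0)
    [Module.Flat R (Localization.Away (Ideal.Quotient.mk Lead e₂))]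
    (he : e₂ = u * M) (h1 : algebraMap R P π * T ∈ Lead)
    (h2 : M * T ∈ Lead ⊔ Ideal.span {algebraMap R P π}) :
    ∃ N : ℕ, e₂ ^ N * T ∈ Lead := by
  let a : (P ⧸ Lead) →+* Localization.Away (Ideal.Quotient.mk Lead e₂) := algebraMap _ _
  let q : P →+* (P ⧸ Lead) := Ideal.Quotient.mk Lead
  set t : Localization.Away (Ideal.Quotient.mk Lead e₂) := a (q T) with ht_def
  have hπS : ∀ x : P, a (q (algebraMap R P π * x)) = π • a (q x) := by
    intro x
    rw [map_mul, map_mul, Algebra.smul_def]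
    congr 1
  have ht0 : π • t = 0 := by
    rw [ht_def, ← hπS, (Ideal.Quotient.eq_zero_iff_mem.mpr h1 : q _ = 0), map_zero]
  obtain ⟨l, hl, y, hy, hly⟩ := Submodule.mem_sup.mp h2
  obtain ⟨w, rfl⟩ := Ideal.mem_span_singleton'.mp hy
  have hMt : a (q M) * t = π • a (q w) := by
    rw [ht_def, ← map_mul, ← map_mul, ← hly, map_add,
      (Ideal.Quotient.eq_zero_iff_mem.mpr hl : q l = 0), zero_add, mul_comm w, hπS]
  have h3 : π ^ 2 • a (q w) = 0 := by
    rw [pow_two, mul_smul, ← hMt, ← mul_smul_comm, ht0, mul_zero]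
  have h4 := LL1.smul_eq_zero_of_flat π hR _ h3
  rw [h4] at hMt
  have h5 : a (q e₂) * t = 0 := by
    have e1 : a (q e₂) = a (q u) * a (q M) := by
      rw [← map_mul, ← map_mul, ← he]
    rw [e1, mul_assoc, hMt, mul_zero]
  have hunit : IsUnit (a (q e₂)) := IsLocalization.Away.algebraMap_isUnit _
  have ht : t = 0 := (hunit.mul_right_eq_zero).mp h5
  obtain ⟨⟨_, N, rfl⟩, hN⟩ := (IsLocalization.map_eq_zero_iff (Submonoid.powers (q e₂))
    (Localization.Away (Ideal.Quotient.mk Lead e₂)) _).mp ht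
  refine ⟨N, ?_⟩
  rw [← Ideal.Quotient.eq_zero_iff_mem, map_mul, map_pow]
  exact hN

variable {r : ℕ} (ch : Fin r → Chart f π)

noncomputable def rel : K m r → MvPolynomial (V n m) R :=
  Sum.elim (fun j => Fr f π j) (fun p => Pk (ch p.1) p.2)

/-- the algebra `D` -/
abbrev D : Type u := MvPolynomial (V n m) R ⧸ Ideal.span (Set.range (rel ch))

instance : Algebra.FinitePresentation R (D ch) := LL1.fp_quotient (rel ch)

theorem Fr_mem (j : Fin m) : Fr f π j ∈ Ideal.span (Set.range (rel ch)) :=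
  Ideal.subset_span ⟨Sum.inl j, rfl⟩

theorem Pk_mem (k : Fin r) (ℓ : Fin m) : Pk (ch k) ℓ ∈ Ideal.span (Set.range (rel ch)) :=
  Ideal.subset_span ⟨Sum.inr (k, ℓ), rfl⟩

/-- (b'): smooth away from `π` -/
theorem isSmoothAt_of_pi_notMem (Q : Ideal (D ch)) [Q.IsPrime]
    (hQ : Ideal.Quotient.mk (Ideal.span (Set.range (rel ch))) (C π) ∉ Q) :
    Algebra.IsSmoothAt R Q := by
  classical
  let rows : Fin m ↪ K m r := ⟨Sum.inl, Sum.inl_injective⟩
  let cols : Fin m ↪ V n m := ⟨Sum.inr, Sum.inr_injective⟩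
  have hdet : Matrix.det (Matrix.of fun j k : Fin m => pderiv (cols k) (rel ch (rows j))) =
      (- C π) ^ m := by
    have : (Matrix.of fun j k : Fin m => pderiv (cols k) (rel ch (rows j))) =
        Matrix.diagonal fun _ : Fin m => (- C π : MvPolynomial (V n m) R) := by
      apply Matrix.ext
      intro j k
      simp only [Matrix.of_apply, rel, rows, cols, Function.Embedding.coeFn_mk, Sum.elim_inl, Fr, Z]
      rw [map_sub, pderiv_inr_ι, zero_sub, Derivation.leibniz, pderiv_C, smul_zero,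
        add_zero, smul_eq_mul, Matrix.diagonal_apply]
      by_cases hjk : j = k
      · subst hjk
        rw [pderiv_X_self, if_pos rfl, mul_one]
      · rw [if_neg hjk, pderiv_X_of_ne, mul_zero, neg_zero]
        intro h
        exact hjk (Sum.inr_injective h)
    rw [this, Matrix.det_diagonal, Finset.prod_const, Finset.card_univ, Fintype.card_fin]
  set e : MvPolynomial (V n m) R := C π * (- C π) ^ m with he
  have hmem : Ideal.Quotient.mk (Ideal.span (Set.range (rel ch))) e ∈ singularIdeal R (D ch) := by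
    refine LL1.mem_singularIdeal_of_minor (rel ch) rows cols e (C π) ?_ ?_
    · rw [hdet, he, sub_self]
      exact zero_mem _
    · intro ℓ
      refine Ideal.mem_sup_left ?_
      have hlead : ∀ j, Fr f π j ∈ Ideal.span (Set.range (rel ch ∘ rows)) := fun j =>
        Ideal.subset_span ⟨j, rfl⟩
      rcases ℓ with j | ⟨k, ℓ⟩
      · exact Ideal.mul_mem_left _ _ (hlead j)
      · change e * Pk (ch k) ℓ ∈ _
        have h2 := A_mul_Fr (ch k) ℓ
        have h3 : e * Pk (ch k) ℓ = (- C π) ^ m * (∑ i, ι ((ch k).h ℓ i) * Fr f π ((ch k).rows i)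
            - ι (ch k).A * Fr f π ℓ) := by
          rw [h2, he]; ring
        rw [h3]
        refine Ideal.mul_mem_left _ _ (sub_mem (Ideal.sum_mem _ fun i _ => ?_) ?_)
        · exact Ideal.mul_mem_left _ _ (hlead _)
        · exact Ideal.mul_mem_left _ _ (hlead _)
  refine SI1.isSmoothAt_of_mem_singularIdeal Q _ hmem ?_
  rw [he, map_mul, map_pow, map_neg]
  intro hcon
  rcases Ideal.IsPrime.mem_or_mem inferInstance hcon with h | h
  · exact hQ h
  · exact hQ (by simpa using Ideal.IsPrime.mem_of_pow_mem inferInstance _ h)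


section chart

variable (k : Fin r)

/-- the leading index set for chart `k` -/
abbrev LI : Type := Fin (ch k).c ⊕ {ℓ : Fin m // ℓ ∉ Set.range (ch k).rows}

noncomputable def rowsL : LI ch k ↪ K m r :=
  ⟨Sum.elim (fun i => Sum.inl ((ch k).rows i)) (fun ℓ => Sum.inr (k, ℓ.1)), by
    rintro (i | ℓ) (i' | ℓ') h
    · simp only [Sum.elim_inl, Sum.inl.injEq] at h
      rw [(ch k).rows.injective h]
    · simp at h
    · simp at h
    · simp only [Sum.elim_inr, Sum.inr.injEq, Prod.mk.injEq, true_and] at h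
      rw [Subtype.ext h]⟩

noncomputable def colsL : LI ch k ↪ V n m :=
  ⟨Sum.elim (fun i => Sum.inl ((ch k).cols i)) (fun ℓ => Sum.inr ℓ.1), by
    rintro (i | ℓ) (i' | ℓ') h
    · simp only [Sum.elim_inl, Sum.inl.injEq] at h
      rw [(ch k).cols.injective h]
    · simp at h
    · simp at h
    · simp only [Sum.elim_inr, Sum.inr.injEq] at h
      rw [Subtype.ext h]⟩

theorem pderiv_inl_Fr (v : Fin n) (j : Fin m) :
    pderiv (Sum.inl v : V n m) (Fr f π j) = ι (pderiv v (f j)) := by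
  unfold Fr Z
  rw [map_sub, pderiv_inl_ι, Derivation.leibniz, pderiv_C, smul_zero, add_zero,
    pderiv_X_of_ne (by simp), smul_zero, sub_zero]

theorem pderiv_inr_Fr (w j : Fin m) (hwj : j ≠ w) :
    pderiv (Sum.inr w : V n m) (Fr f π j) = 0 := by
  unfold Fr Z
  rw [map_sub, pderiv_inr_ι, Derivation.leibniz, pderiv_C, smul_zero, add_zero,
    pderiv_X_of_ne (by simpa using hwj), smul_zero, sub_zero]

theorem pderiv_inr_ι_mul (w : Fin m) (p : MvPolynomial (Fin n) R) (q : MvPolynomial (V n m) R) :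
    pderiv (Sum.inr w : V n m) (ι p * q) = ι p * pderiv (Sum.inr w) q := by
  rw [Derivation.leibniz, pderiv_inr_ι, smul_zero, add_zero, smul_eq_mul]

theorem pderiv_inr_Pk (c₁ : Chart f π) (w ℓ : Fin m) (hw : w ∉ Set.range c₁.rows) :
    pderiv (Sum.inr w : V n m) (Pk c₁ ℓ) = if ℓ = w then ι c₁.A else 0 := by
  unfold Pk
  rw [map_sub, map_sub, map_sum, pderiv_inr_ι_mul]
  have h1 : ∀ i, pderiv (Sum.inr w : V n m) (ι (c₁.h ℓ i) * Z (n := n) (c₁.rows i)) = 0 := by
    intro i
    rw [pderiv_inr_ι_mul, Z, pderiv_X_of_ne, mul_zero]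
    intro h
    exact hw ⟨i, Sum.inr_injective h⟩
  rw [Finset.sum_eq_zero fun i _ => h1 i, sub_zero, Derivation.leibniz, pderiv_C, smul_zero,
    add_zero, pderiv_inr_ι, smul_zero, sub_zero, Z]
  by_cases h : ℓ = w
  · subst h
    rw [pderiv_X_self, mul_one, if_pos rfl]
  · rw [if_neg h, pderiv_X_of_ne, mul_zero]
    intro h'
    exact h (Sum.inr_injective h')

theorem det_chart [inst : DecidableEq (LI ch k)] :
    Matrix.det (Matrix.of fun j k' : LI ch k => pderiv (colsL ch k k') (rel ch (rowsL ch k j))) =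
      ι (ch k).minor * ι (ch k).A ^ Fintype.card {ℓ : Fin m // ℓ ∉ Set.range (ch k).rows} := by
  have hinst : inst = instDecidableEqSum := Subsingleton.elim _ _
  subst hinst
  have h : (Matrix.of fun j k' : LI ch k => pderiv (colsL ch k k') (rel ch (rowsL ch k j))) =
      Matrix.fromBlocks
        ((Matrix.of fun j k' : Fin (ch k).c =>
          pderiv ((ch k).cols k') (f ((ch k).rows j))).map (ι (n := n) (m := m))) 0
        (Matrix.of fun (ℓ : {ℓ : Fin m // ℓ ∉ Set.range (ch k).rows}) (i' : Fin (ch k).c) =>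
          pderiv (Sum.inl ((ch k).cols i') : V n m) (Pk (ch k) ℓ.1))
        (Matrix.diagonal fun _ => ι (ch k).A) := by
    apply Matrix.ext
    rintro (i | ℓ) (i' | ℓ')
    · simp only [Matrix.of_apply, Matrix.fromBlocks_apply₁₁, Matrix.map_apply]
      exact pderiv_inl_Fr _ _
    · simp only [Matrix.of_apply, Matrix.fromBlocks_apply₁₂, Matrix.zero_apply]
      refine pderiv_inr_Fr _ _ ?_
      intro h
      exact ℓ'.2 ⟨i, h⟩
    · simp only [Matrix.of_apply, Matrix.fromBlocks_apply₂₁]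
      rfl
    · simp only [Matrix.of_apply, Matrix.fromBlocks_apply₂₂, Matrix.diagonal_apply]
      have := pderiv_inr_Pk (ch k) ℓ'.1 ℓ.1 ℓ'.2
      by_cases hℓ : ℓ = ℓ'
      · subst hℓ
        rw [if_pos rfl]
        rw [if_pos rfl] at this
        exact this
      · rw [if_neg hℓ]
        rw [if_neg (fun h => hℓ (Subtype.ext h))] at this
        exact this
  have hconv : Matrix.det (Matrix.of fun j k' : LI ch k =>
      pderiv (colsL ch k k') (rel ch (rowsL ch k j))) = Matrix.det (Matrix.fromBlocks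
        ((Matrix.of fun j k' : Fin (ch k).c =>
          pderiv ((ch k).cols k') (f ((ch k).rows j))).map (ι (n := n) (m := m))) 0
        (Matrix.of fun (ℓ : {ℓ : Fin m // ℓ ∉ Set.range (ch k).rows}) (i' : Fin (ch k).c) =>
          pderiv (Sum.inl ((ch k).cols i') : V n m) (Pk (ch k) ℓ.1))
        (Matrix.diagonal fun _ => ι (ch k).A)) := by
    rw [h]
  rw [hconv, Matrix.det_fromBlocks_zero₁₂, Matrix.det_diagonal, Finset.prod_const, Finset.card_univ]
  congr 1
  unfold Chart.minor
  rw [AlgHom.map_det, AlgHom.mapMatrix_apply]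

end chart


section chartmain

variable (hR : ∀ r : R, π ^ 2 * r = 0 → π * r = 0) (k : Fin r)

theorem ι_mem_of_mem (Lead : Ideal (MvPolynomial (V n m) R))
    (hFr : ∀ i, Fr f π ((ch k).rows i) ∈ Lead) (p : MvPolynomial (Fin n) R)
    (hp : p ∈ Ideal.span (Set.range (f ∘ (ch k).rows)) ⊔ Ideal.span {C (π ^ 2)}) :
    ι (n := n) (m := m) p ∈ Lead ⊔ Ideal.span {C π} := by
  have hle : Ideal.span (Set.range (f ∘ (ch k).rows)) ⊔ Ideal.span {C (π ^ 2)} ≤
      Ideal.comap (ι (n := n) (m := m)) (Lead ⊔ Ideal.span {C π}) := by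
    refine sup_le ?_ ?_
    · rw [Ideal.span_le]
      rintro _ ⟨i, rfl⟩
      rw [SetLike.mem_coe, Ideal.mem_comap, Function.comp_apply]
      have : ι (n := n) (m := m) (f ((ch k).rows i)) =
          Fr f π ((ch k).rows i) + Z (n := n) ((ch k).rows i) * C π := by
        unfold Fr; ring
      rw [this]
      exact add_mem (Ideal.mem_sup_left (hFr i))
        (Ideal.mem_sup_right (Ideal.mul_mem_left _ _ (Ideal.subset_span rfl)))
    · rw [Ideal.span_le]
      rintro _ rfl
      rw [SetLike.mem_coe, Ideal.mem_comap, ι_C, pow_two, C_mul]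
      exact Ideal.mem_sup_right (Ideal.mul_mem_left _ _ (Ideal.subset_span rfl))
  exact hle hp

include hR in
theorem isSmoothAt_chart (Q : Ideal (D ch)) [Q.IsPrime]
    (hA : Ideal.Quotient.mk (Ideal.span (Set.range (rel ch))) (ι (ch k).A) ∉ Q)
    (hM : Ideal.Quotient.mk (Ideal.span (Set.range (rel ch))) (ι (ch k).minor) ∉ Q) :
    Algebra.IsSmoothAt R Q := by
  classical
  set relL : LI ch k → MvPolynomial (V n m) R := rel ch ∘ rowsL ch k with hrelL
  set Lead : Ideal (MvPolynomial (V n m) R) := Ideal.span (Set.range relL) with hLead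
  set d : ℕ := Fintype.card {ℓ : Fin m // ℓ ∉ Set.range (ch k).rows} with hd
  set det : MvPolynomial (V n m) R :=
    Matrix.det (Matrix.of fun j k' : LI ch k => pderiv (colsL ch k k') (rel ch (rowsL ch k j)))
    with hdet_def
  have hdet : det = ι (ch k).minor * ι (ch k).A ^ d := det_chart ch k
  set e₂ : MvPolynomial (V n m) R := ι (ch k).A * det with he₂
  -- the leading algebra is standard smooth after inverting `e₂`
  haveI hstd : Algebra.IsStandardSmooth R (Localization.Away (Ideal.Quotient.mk Lead e₂)) := by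
    refine LL1.isStandardSmooth_away_of_minor relL (Function.Embedding.refl _) (colsL ch k) e₂
      (ι (ch k).A) ?_ ?_
    · have : e₂ - ι (ch k).A * Matrix.det (Matrix.of fun j k' : LI ch k =>
          pderiv (colsL ch k k') (relL ((Function.Embedding.refl _) j))) = 0 := by
        rw [he₂, hdet_def]
        exact sub_self _
      rw [this]
      exact zero_mem _
    · intro ℓ
      exact Ideal.mem_sup_left (Ideal.mul_mem_left _ _ (Ideal.subset_span ⟨ℓ, rfl⟩))
  haveI : Algebra.Smooth R (Localization.Away (Ideal.Quotient.mk Lead e₂)) := inferInstance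
  haveI : Module.Flat R (Localization.Away (Ideal.Quotient.mk Lead e₂)) := inferInstance
  have hFr : ∀ i, Fr f π ((ch k).rows i) ∈ Lead := fun i =>
    Ideal.subset_span ⟨Sum.inl i, rfl⟩
  have hPk : ∀ ℓ, Pk (ch k) ℓ ∈ Lead := by
    intro ℓ
    by_cases hℓ : ℓ ∈ Set.range (ch k).rows
    · obtain ⟨i, rfl⟩ := hℓ
      rw [Pk_rows]
      exact zero_mem _
    · exact Ideal.subset_span ⟨Sum.inr ⟨ℓ, hℓ⟩, rfl⟩
  have key : ∀ κ : K m r, ∃ N : ℕ, e₂ ^ N * rel ch κ ∈ Lead := by
    rintro (j | ⟨k', ℓ⟩)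
    · refine ⟨1, ?_⟩
      change e₂ ^ 1 * Fr f π j ∈ Lead
      have h2 := A_mul_Fr (ch k) j
      have : e₂ ^ 1 * Fr f π j = det * (∑ i, ι ((ch k).h j i) * Fr f π ((ch k).rows i) -
          C π * Pk (ch k) j) := by
        rw [← h2, he₂]; ring
      rw [this]
      refine Ideal.mul_mem_left _ _ (sub_mem (Ideal.sum_mem _ fun i _ => ?_) ?_)
      · exact Ideal.mul_mem_left _ _ (hFr i)
      · exact Ideal.mul_mem_left _ _ (hPk j)
    · change ∃ N : ℕ, e₂ ^ N * Pk (ch k') ℓ ∈ Lead
      set T : MvPolynomial (V n m) R := ι (ch k).A * Pk (ch k') ℓ - (ι (ch k').A * Pk (ch k) ℓ -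
        ∑ i', ι ((ch k').h ℓ i') * Pk (ch k) ((ch k').rows i')) with hT
      have hTid := T_identity (ch k) (ch k') ℓ
      rw [← hT] at hTid
      have hE := E_identity (ch k) (ch k') ℓ
      have hιE : ι (n := n) (m := m) (∑ i, cc (ch k) (ch k') ℓ i * f ((ch k).rows i)) +
          C π * C π * ι (GG (ch k) (ch k') ℓ) = 0 := by
        have := congrArg (ι (n := n) (m := m)) hE
        rw [map_add, map_mul, ι_C, map_zero, pow_two, C_mul] at this
        exact this
      have h1 : algebraMap R (MvPolynomial (V n m) R) π * T ∈ Lead := by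
        have : algebraMap R (MvPolynomial (V n m) R) π * T =
            - ∑ i, ι (cc (ch k) (ch k') ℓ i) * Fr f π ((ch k).rows i) := by
          rw [algebraMap_eq, hTid]
          have hs : ∑ i, ι (cc (ch k) (ch k') ℓ i) * Fr f π ((ch k).rows i) =
              ι (n := n) (m := m) (∑ i, cc (ch k) (ch k') ℓ i * f ((ch k).rows i)) -
                C π * ∑ i, ι (cc (ch k) (ch k') ℓ i) * Z (n := n) ((ch k).rows i) := by
            rw [map_sum, Finset.mul_sum, ← Finset.sum_sub_distrib]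
            refine Finset.sum_congr rfl fun i _ => ?_
            rw [map_mul]
            unfold Fr
            ring
          rw [hs]
          linear_combination hιE
        rw [this]
        exact neg_mem (Ideal.sum_mem _ fun i _ => Ideal.mul_mem_left _ _ (hFr i))
      have h2 : ι (ch k).minor * T ∈ Lead ⊔ Ideal.span {algebraMap R (MvPolynomial (V n m) R) π} := by
        rw [algebraMap_eq, hTid, mul_add, Finset.mul_sum]
        refine add_mem (Ideal.sum_mem _ fun i _ => ?_) ?_
        · have hmem : (ch k).minor * cc (ch k) (ch k') ℓ i ∈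
              Ideal.span (Set.range (f ∘ (ch k).rows)) ⊔ Ideal.span {C (π ^ 2)} := by
            refine LL1.det_mul_mem (fun i => f ((ch k).rows i)) (ch k).cols (cc (ch k) (ch k') ℓ) _
              ?_ ?_ i
            · intro i
              exact Ideal.mem_sup_left (Ideal.subset_span ⟨i, rfl⟩)
            · intro v
              have hEq : ∑ i, cc (ch k) (ch k') ℓ i * f ((ch k).rows i) =
                  - (C (π ^ 2) * GG (ch k) (ch k') ℓ) := by
                linear_combination hE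
              rw [hEq, map_neg, Derivation.leibniz, pderiv_C, smul_zero, add_zero, smul_eq_mul]
              exact neg_mem (Ideal.mem_sup_right (Ideal.mul_mem_right _ _ (Ideal.subset_span rfl)))
          have := ι_mem_of_mem ch k Lead hFr _ hmem
          rw [map_mul] at this
          have h3 : ι (ch k).minor * (ι (cc (ch k) (ch k') ℓ i) * Z (n := n) ((ch k).rows i)) =
              Z (n := n) ((ch k).rows i) * (ι (ch k).minor * ι (cc (ch k) (ch k') ℓ i)) := by ring
          rw [h3]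
          exact Ideal.mul_mem_left _ _ this
        · have h3 : ι (n := n) (m := m) (ch k).minor * (C π * ι (GG (ch k) (ch k') ℓ)) =
              (ι (n := n) (m := m) (ch k).minor * ι (GG (ch k) (ch k') ℓ)) * C π := by ring
          rw [h3]
          exact Ideal.mem_sup_right (Ideal.mul_mem_left _ _ (Ideal.subset_span rfl))
      obtain ⟨N, hN⟩ := flat_kill Lead e₂ (ι (ch k).A * ι (ch k).A ^ d) (ι (ch k).minor) T π hR
        (by rw [he₂, hdet]; ring) h1 h2
      refine ⟨N + 1, ?_⟩
      have hsplit : e₂ ^ (N + 1) * Pk (ch k') ℓ = det * (e₂ ^ N * T + e₂ ^ N *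
          (ι (ch k').A * Pk (ch k) ℓ - ∑ i', ι ((ch k').h ℓ i') * Pk (ch k) ((ch k').rows i'))) := by
        rw [hT, pow_succ, he₂]; ring
      rw [hsplit]
      refine Ideal.mul_mem_left _ _ (add_mem hN (Ideal.mul_mem_left _ _ (sub_mem ?_ ?_)))
      · exact Ideal.mul_mem_left _ _ (hPk ℓ)
      · exact Ideal.sum_mem _ fun i' _ => Ideal.mul_mem_left _ _ (hPk _)
  choose Nf hNf using key
  set N : ℕ := ∑ κ, Nf κ with hN
  have hkillN : ∀ κ, e₂ ^ N * rel ch κ ∈ Lead := by
    intro κ
    have hle : Nf κ ≤ N := Finset.single_le_sum (f := Nf) (fun _ _ => Nat.zero_le _)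
      (Finset.mem_univ κ)
    have : e₂ ^ N * rel ch κ = e₂ ^ (N - Nf κ) * (e₂ ^ Nf κ * rel ch κ) := by
      rw [← mul_assoc, ← pow_add, Nat.sub_add_cancel hle]
    rw [this]
    exact Ideal.mul_mem_left _ _ (hNf κ)
  set e : MvPolynomial (V n m) R := e₂ ^ N * e₂ with he
  have hmem : Ideal.Quotient.mk (Ideal.span (Set.range (rel ch))) e ∈ singularIdeal R (D ch) := by
    refine LL1.mem_singularIdeal_of_minor (rel ch) (rowsL ch k) (colsL ch k) e
      (e₂ ^ N * ι (ch k).A) ?_ ?_
    · have : e - e₂ ^ N * ι (ch k).A * Matrix.det (Matrix.of fun j k' : LI ch k =>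
          pderiv (colsL ch k k') (rel ch (rowsL ch k j))) = 0 := by
        rw [← hdet_def, he, he₂]; ring
      rw [this]
      exact zero_mem _
    · intro κ
      refine Ideal.mem_sup_left ?_
      have : e * rel ch κ = e₂ * (e₂ ^ N * rel ch κ) := by rw [he]; ring
      rw [this]
      exact Ideal.mul_mem_left _ _ (hkillN κ)
  refine SI1.isSmoothAt_of_mem_singularIdeal Q _ hmem ?_
  have hQp : Q.IsPrime := inferInstance
  have he₂Q : Ideal.Quotient.mk (Ideal.span (Set.range (rel ch))) e₂ ∉ Q := by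
    rw [he₂, hdet, map_mul, map_mul, map_pow]
    intro hcon
    rcases hQp.mem_or_mem hcon with h | h
    · exact hA h
    · rcases hQp.mem_or_mem h with h | h
      · exact hM h
      · exact hA (hQp.mem_of_pow_mem _ h)
  rw [he, map_mul, map_pow]
  intro hcon
  rcases hQp.mem_or_mem hcon with h | h
  · exact he₂Q (hQp.mem_of_pow_mem _ h)
  · exact he₂Q h

end chartmain

end Groth.Agent.Lib.Helper8.LL2
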