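import Mathlib
import Groth.Prelude.Def_Smoothing
import Groth.Agent.Lib.Helper8.LL2
import Groth.Agent.S2108

set_option backward.isDefEq.respectTransparency.types false
set_option autoImplicit false
set_option linter.unusedSectionVars false
set_option linter.style.haveILetI false

universe u
open MvPolynomial Smoothing

namespace Groth.Agent.Lib.Helper8.LL3

open Groth.Agent.Lib.Helper8

/-- determinant trick: remove the `I²` term -/
theorem det_trick {P : Type*} [CommRing P] {m : ℕ} (F : Fin m → P) (Ik : Ideal P) (a₁ : P)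
    (h : ∀ ℓ, a₁ * F ℓ ∈ Ik ⊔ Ideal.span (Set.range F) ^ 2) :
    ∃ ã : P, ã - a₁ ^ m ∈ Ideal.span (Set.range F) ∧ ∀ ℓ, ã * F ℓ ∈ Ik := by
  classical
  set I : Ideal P := Ideal.span (Set.range F) with hI
  have hB : ∀ ℓ, ∃ B : Fin m → P, (∀ s, B s ∈ I) ∧ a₁ * F ℓ - ∑ s, B s * F s ∈ Ik := by
    intro ℓ
    obtain ⟨y, hy, w, hw, hyw⟩ := Submodule.mem_sup.mp (h ℓ)
    rw [pow_two, ← smul_eq_mul, hI] at hw
    obtain ⟨a, ha, hsum⟩ := (Submodule.mem_ideal_smul_span_iff_exists_sum
      (Ideal.span (Set.range F)) F w).mp hw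
    refine ⟨fun s => a s, ha, ?_⟩
    have : ∑ s, a s * F s = w := by
      rw [← hsum, Finsupp.sum_fintype _ _ (fun i => by simp)]
      rfl
    rw [this, ← hyw, add_sub_cancel_right]
    exact hy
  choose B hBI hBk using hB
  set Mx : Matrix (Fin m) (Fin m) P := a₁ • (1 : Matrix (Fin m) (Fin m) P) - Matrix.of B with hMx
  have hv : ∀ ℓ, Matrix.mulVec Mx F ℓ ∈ Ik := by
    intro ℓ
    have : Matrix.mulVec Mx F ℓ = a₁ * F ℓ - ∑ s, B ℓ s * F s := by
      rw [Matrix.mulVec, dotProduct, hMx]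
      simp only [Matrix.sub_apply, Matrix.smul_apply, Matrix.one_apply, Matrix.of_apply, sub_mul,
        Finset.sum_sub_distrib, smul_eq_mul]
      congr 1
      rw [Finset.sum_eq_single ℓ]
      · rw [if_pos rfl, mul_one]
      · intro s _ hs
        rw [if_neg (Ne.symm hs), mul_zero, zero_mul]
      · intro hh
        exact absurd (Finset.mem_univ _) hh
    rw [this]
    exact hBk ℓ
  refine ⟨Mx.det, ?_, ?_⟩
  · rw [← Ideal.Quotient.eq_zero_iff_mem (I := I), map_sub, map_pow, RingHom.map_det]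
    have : (Ideal.Quotient.mk I).mapMatrix Mx =
        (Ideal.Quotient.mk I a₁) • (1 : Matrix (Fin m) (Fin m) (P ⧸ I)) := by
      apply Matrix.ext
      intro i j
      rw [RingHom.mapMatrix_apply, Matrix.map_apply, hMx, Matrix.sub_apply, Matrix.smul_apply,
        Matrix.of_apply, map_sub, Ideal.Quotient.eq_zero_iff_mem.mpr (hBI i j), sub_zero,
        Matrix.smul_apply, smul_eq_mul, smul_eq_mul, map_mul, Matrix.one_apply, Matrix.one_apply]
      split_ifs <;> simp
    rw [this, Matrix.det_smul, Matrix.det_one, mul_one, Fintype.card_fin, sub_self]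
  · intro ℓ
    have h3 : Matrix.mulVec Mx.adjugate (Matrix.mulVec Mx F) = Mx.det • F := by
      rw [Matrix.mulVec_mulVec, Matrix.adjugate_mul, Matrix.smul_mulVec, Matrix.one_mulVec]
    have h4 : (Mx.det • F) ℓ ∈ Ik := by
      rw [← h3, Matrix.mulVec, dotProduct]
      exact Ideal.sum_mem _ fun s _ => Ideal.mul_mem_left _ _ (hv s)
    simpa using h4


section charts

variable {R : Type u} [CommRing R] (π : R) {C' : Type u} [CommRing C'] [Algebra R C']
  [Algebra (R ⧸ Ideal.span {π ^ 2}) C'] [IsScalarTower R (R ⧸ Ideal.span {π ^ 2}) C']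
  {n m : ℕ} (fb : Fin m → MvPolynomial (Fin n) (R ⧸ Ideal.span {π ^ 2}))
  (φb : MvPolynomial (Fin n) (R ⧸ Ideal.span {π ^ 2}) →ₐ[R ⧸ Ideal.span {π ^ 2}] C')
  (hφb : Function.Surjective φb) (hker : RingHom.ker φb.toRingHom = Ideal.span (Set.range fb))
  (f : Fin m → MvPolynomial (Fin n) R)
  (hf : ∀ j, MvPolynomial.map (Ideal.Quotient.mk (Ideal.span {π ^ 2})) (f j) = fb j)

/-- reduction mod `π²` on polynomials -/
noncomputable def red : MvPolynomial (Fin n) R →+* MvPolynomial (Fin n) (R ⧸ Ideal.span {π ^ 2}) :=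
  MvPolynomial.map (Ideal.Quotient.mk (Ideal.span {π ^ 2}))

theorem red_surjective : Function.Surjective (red (n := n) π) :=
  MvPolynomial.map_surjective _ Ideal.Quotient.mk_surjective

theorem mem_ker_red (p : MvPolynomial (Fin n) R) (hp : red π p = 0) :
    ∃ g : MvPolynomial (Fin n) R, p = C (π ^ 2) * g := by
  have h1 : p ∈ RingHom.ker (red (n := n) π) := hp
  rw [red, MvPolynomial.ker_map, Ideal.mk_ker, Ideal.map_span, Set.image_singleton] at h1
  obtain ⟨g, hg⟩ := Ideal.mem_span_singleton'.mp h1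
  exact ⟨g, by rw [← hg, mul_comm]⟩

include hφb hker hf in
theorem chart_of_smooth (q : Ideal C') [q.IsPrime] [Algebra.IsSmoothAt (R ⧸ Ideal.span {π ^ 2}) q] :
    ∃ ch : LL2.Chart f π, φb (red π ch.A) ∉ q ∧
      ∃ a'' : C', φb (red π ch.A) = a'' * φb (red π ch.minor) := by
  classical
  obtain ⟨a, haq, c, rows, cols, a', haa', hkill⟩ := Groth.Agent.S2108.result fb φb hφb hker q
  obtain ⟨a₁, ha₁⟩ := hφb a
  have hk := hkill a₁ ha₁
  obtain ⟨ã, hã, hãk⟩ := det_trick fb (Ideal.span (Set.range (fb ∘ rows))) a₁ hk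
  have hφã : φb ã = a ^ m := by
    have h1 : ã - a₁ ^ m ∈ RingHom.ker φb.toRingHom := by rw [hker]; exact hã
    have h2 : φb (ã - a₁ ^ m) = 0 := h1
    rw [map_sub, map_pow, ha₁, sub_eq_zero] at h2
    exact h2
  obtain ⟨A, hA⟩ := red_surjective π (a₁ * ã)
  have hex : ∀ ℓ, ∃ (h : Fin c → MvPolynomial (Fin n) R) (g : MvPolynomial (Fin n) R),
      A * f ℓ = ∑ i, h i * f (rows i) + C (π ^ 2) * g := by
    intro ℓ
    have h1 : a₁ * ã * fb ℓ ∈ Ideal.span (Set.range (fb ∘ rows)) := by
      rw [mul_assoc]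
      exact Ideal.mul_mem_left _ _ (hãk ℓ)
    obtain ⟨hb, hhb⟩ := Ideal.mem_span_range_iff_exists_fun.mp h1
    choose h hh using fun i => red_surjective π (hb i)
    have h2 : red π (A * f ℓ - ∑ i, h i * f (rows i)) = 0 := by
      rw [map_sub, map_mul, map_sum, hA]
      have : ∀ j, red π (f j) = fb j := hf
      simp only [map_mul, hh, this]
      rw [sub_eq_zero, ← hhb]
      rfl
    obtain ⟨g, hg⟩ := mem_ker_red π _ h2
    exact ⟨h, g, by rw [← hg]; ring⟩
  choose h0 g0 h40 using hex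
  let h : Fin m → Fin c → MvPolynomial (Fin n) R := fun ℓ i =>
    if ℓ ∈ Set.range rows then (if rows i = ℓ then A else 0) else h0 ℓ i
  let g : Fin m → MvPolynomial (Fin n) R := fun ℓ => if ℓ ∈ Set.range rows then 0 else g0 ℓ
  have h4 : ∀ ℓ, A * f ℓ = ∑ i, h ℓ i * f (rows i) + C (π ^ 2) * g ℓ := by
    intro ℓ
    by_cases hℓ : ℓ ∈ Set.range rows
    · obtain ⟨i₀, rfl⟩ := hℓ
      simp only [h, g, if_pos (Set.mem_range_self i₀), mul_zero, add_zero]
      rw [Finset.sum_eq_single i₀]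
      · rw [if_pos rfl]
      · intro i _ hi
        rw [if_neg (fun h => hi (rows.injective h)), zero_mul]
      · intro hh
        exact absurd (Finset.mem_univ _) hh
    · simp only [h, g, if_neg hℓ]
      exact h40 ℓ
  have h5 : ∀ i₀ i, h (rows i₀) i = if i = i₀ then A else 0 := by
    intro i₀ i
    simp only [h, if_pos (Set.mem_range_self i₀)]
    by_cases hi : i = i₀
    · subst hi
      rw [if_pos rfl, if_pos rfl]
    · rw [if_neg hi, if_neg (fun h => hi (rows.injective h))]
  have g5 : ∀ i₀, g (rows i₀) = 0 := by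
    intro i₀
    simp only [g, if_pos (Set.mem_range_self i₀)]
  refine ⟨⟨c, rows, cols, A, h, g, h4, h5, g5⟩, ?_, ?_⟩
  · change φb (red π A) ∉ q
    rw [hA, map_mul, ha₁, hφã, ← pow_succ']
    intro hcon
    exact haq (Ideal.IsPrime.mem_of_pow_mem inferInstance _ hcon)
  · change ∃ a'' : C', φb (red π A) = a'' * φb (red π
      (Matrix.det (Matrix.of fun j k : Fin c => pderiv (cols k) (f (rows j)))))
    have hminor : red π (Matrix.det (Matrix.of fun j k : Fin c => pderiv (cols k) (f (rows j)))) =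
        Smoothing.jacobianMinor fb rows cols := by
      unfold Smoothing.jacobianMinor
      rw [RingHom.map_det]
      congr 1
      apply Matrix.ext
      intro j k
      rw [RingHom.mapMatrix_apply, Matrix.map_apply, Matrix.of_apply, Matrix.of_apply, ← hf, red,
        pderiv_map]
    refine ⟨a ^ m * a', ?_⟩
    rw [hA, hminor, map_mul, ha₁, hφã, mul_assoc, ← haa']
    ring

end charts

end Groth.Agent.Lib.Helper8.LL3
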