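import Mathlib
import Groth.Prelude.Def_Smoothing
import Groth.Agent.Lib.Helper8.LL3

set_option backward.isDefEq.respectTransparency.types false
set_option autoImplicit false
set_option linter.unusedSectionVars false
set_option linter.style.haveILetI false

universe u
open MvPolynomial Smoothing

namespace Groth.Agent.Lib.Helper8.LL4

open Groth.Agent.Lib.Helper8

section cover

variable {R : Type u} [CommRing R] [IsNoetherianRing R] (π : R) {C' : Type u} [CommRing C']
  [Algebra R C']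
  [Algebra (R ⧸ Ideal.span {π ^ 2}) C'] [IsScalarTower R (R ⧸ Ideal.span {π ^ 2}) C']
  [Algebra.FinitePresentation (R ⧸ Ideal.span {π ^ 2}) C']
  {n m : ℕ} (fb : Fin m → MvPolynomial (Fin n) (R ⧸ Ideal.span {π ^ 2}))
  (φb : MvPolynomial (Fin n) (R ⧸ Ideal.span {π ^ 2}) →ₐ[R ⧸ Ideal.span {π ^ 2}] C')
  (hφb : Function.Surjective φb) (hker : RingHom.ker φb.toRingHom = Ideal.span (Set.range fb))
  (f : Fin m → MvPolynomial (Fin n) R)
  (hf : ∀ j, MvPolynomial.map (Ideal.Quotient.mk (Ideal.span {π ^ 2})) (f j) = fb j)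

include hφb hker hf in
theorem exists_cover : ∃ (r : ℕ) (ch : Fin r → LL2.Chart f π),
    (∀ k, ∃ a'' : C', φb (LL3.red π (ch k).A) = a'' * φb (LL3.red π (ch k).minor)) ∧
    ∀ (q : Ideal C') [q.IsPrime], Algebra.IsSmoothAt (R ⧸ Ideal.span {π ^ 2}) q →
      ∃ k, φb (LL3.red π (ch k).A) ∉ q := by
  classical
  haveI : IsNoetherianRing C' :=
    Algebra.FiniteType.isNoetherianRing (R ⧸ Ideal.span {π ^ 2}) C'
  let S : Set C' := {a | ∃ ch : LL2.Chart f π, φb (LL3.red π ch.A) = a ∧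
    ∃ a'' : C', a = a'' * φb (LL3.red π ch.minor)}
  have hfg : (Submodule.span C' S).FG := IsNoetherian.noetherian _
  obtain ⟨s', hs'S, hs'span⟩ := (Submodule.fg_span_iff_fg_span_finset_subset S).mp hfg
  have hmem : ∀ k : Fin s'.card, ((s'.equivFin.symm k : ↥s') : C') ∈ S := fun k =>
    hs'S (s'.equivFin.symm k).2
  choose ch hch1 hch2 using hmem
  refine ⟨s'.card, ch, ?_, ?_⟩
  · intro k
    obtain ⟨a'', ha''⟩ := hch2 k
    exact ⟨a'', by rw [hch1 k]; exact ha''⟩
  · intro q _ hq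
    haveI := hq
    obtain ⟨ch0, h0q, h0⟩ := LL3.chart_of_smooth π fb φb hφb hker f hf q
    by_contra hcon
    push Not at hcon
    apply h0q
    have h1 : φb (LL3.red π ch0.A) ∈ Submodule.span C' S :=
      Submodule.subset_span ⟨ch0, rfl, h0⟩
    rw [hs'span] at h1
    have h2 : Submodule.span C' (↑s' : Set C') ≤ q := by
      rw [Submodule.span_le]
      intro x hx
      have := hcon (s'.equivFin ⟨x, hx⟩)
      rw [hch1, Equiv.symm_apply_apply] at this
      exact this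
    exact h2 h1

end cover



/-- constructing `ψ` -/
theorem psi_exists {R C' D : Type u} [CommRing R] [CommRing C'] [Algebra R C'] [CommRing D]
    [Algebra R D] (π : R) {n : ℕ} (φ : MvPolynomial (Fin n) R →ₐ[R] C')
    (hφsurj : Function.Surjective φ) (ι' : MvPolynomial (Fin n) R →ₐ[R] D)
    (hι' : ∀ p, φ p = 0 → ι' p ∈ Ideal.span {algebraMap R D π}) :
    ∃ ψ : C' →ₐ[R] D ⧸ Ideal.span {algebraMap R D π}, ∀ p,
      ψ (φ p) = Ideal.Quotient.mk (Ideal.span {algebraMap R D π}) (ι' p) := by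
  let mkπ : D →ₐ[R] (D ⧸ Ideal.span {algebraMap R D π}) := Ideal.Quotient.mkₐ R _
  let ψ₀ : MvPolynomial (Fin n) R →ₐ[R] (D ⧸ Ideal.span {algebraMap R D π}) := mkπ.comp ι'
  have hψ₀ker : ∀ p ∈ RingHom.ker φ.toRingHom, ψ₀ p = 0 := by
    intro p hp
    exact Ideal.Quotient.eq_zero_iff_mem.mpr (hι' p hp)
  let eC : (MvPolynomial (Fin n) R ⧸ RingHom.ker φ.toRingHom) ≃ₐ[R] C' :=
    Ideal.quotientKerAlgEquivOfSurjective hφsurj
  refine ⟨(Ideal.Quotient.liftₐ _ ψ₀ hψ₀ker).comp eC.symm.toAlgHom, ?_⟩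
  intro p
  have : eC.symm (φ p) = Ideal.Quotient.mk _ p := by
    rw [AlgEquiv.symm_apply_eq]
    rfl
  change Ideal.Quotient.liftₐ _ ψ₀ hψ₀ker (eC.symm (φ p)) = _
  rw [this]
  rfl

/-- constructing `δ` -/
theorem delta_exists {R Λ : Type u} [CommRing R] [CommRing Λ] [Algebra R Λ] (π : R)
    (hΛ : ∀ x : Λ, π ^ 2 • x = 0 → π • x = 0) {n m : ℕ} (f : Fin m → MvPolynomial (Fin n) R)
    {r : ℕ} (ch : Fin r → LL2.Chart f π) (lam : Fin n → Λ) (μ : Fin m → Λ)
    (hμ : ∀ j, aeval lam (f j) = algebraMap R Λ (π ^ 2) * μ j) :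
    ∃ δ : LL2.D ch →ₐ[R] Λ, ∀ p : MvPolynomial (Fin n) R,
      δ (Ideal.Quotient.mk (Ideal.span (Set.range (LL2.rel ch))) (LL2.ι p)) = aeval lam p := by
  let evL : MvPolynomial (Fin n) R →ₐ[R] Λ := aeval lam
  have hμ' : ∀ j, evL (f j) = algebraMap R Λ (π ^ 2) * μ j := hμ
  let EV : MvPolynomial (LL2.V n m) R →ₐ[R] Λ :=
    aeval (Sum.elim lam fun j => algebraMap R Λ π * μ j)
  have hEVι : ∀ p, EV (LL2.ι p) = evL p := by
    intro p
    change aeval _ (rename Sum.inl p) = aeval lam p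
    rw [aeval_rename]
    rfl
  have hEVZ : ∀ j, EV (LL2.Z (n := n) j) = algebraMap R Λ π * μ j := by
    intro j
    change aeval _ (X (Sum.inr j)) = _
    rw [aeval_X]
    rfl
  have hEVC : ∀ a, EV (C a) = algebraMap R Λ a := fun a => by
    rw [← algebraMap_eq, AlgHom.commutes]
  have hEVIB : ∀ p ∈ Ideal.span (Set.range (LL2.rel ch)), EV p = 0 := by
    intro p hp
    refine Submodule.span_induction ?_ ?_ ?_ ?_ hp
    · rintro _ ⟨j | ⟨k, ℓ⟩, rfl⟩
      · change EV (LL2.Fr f π j) = 0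
        unfold LL2.Fr
        rw [map_sub, map_mul, hEVι, hEVZ, hEVC, hμ', map_pow]
        ring
      · change EV (LL2.Pk (ch k) ℓ) = 0
        unfold LL2.Pk
        rw [map_sub, map_sub, map_mul, map_mul, map_sum, hEVι, hEVι, hEVZ, hEVC]
        simp only [map_mul, hEVι, hEVZ]
        set w : Λ := evL (ch k).A * μ ℓ - ∑ i, evL ((ch k).h ℓ i) * μ ((ch k).rows i) -
          evL ((ch k).g ℓ) with hw
        have h1 : evL (ch k).A * (algebraMap R Λ π * μ ℓ) -
            ∑ i, evL ((ch k).h ℓ i) * (algebraMap R Λ π * μ ((ch k).rows i)) -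
            algebraMap R Λ π * evL ((ch k).g ℓ) = π • w := by
          rw [hw, Algebra.smul_def, mul_sub, mul_sub, Finset.mul_sum]
          congr 1
          congr 1
          · ring
          · refine Finset.sum_congr rfl fun i _ => ?_
            ring
        rw [h1]
        apply hΛ
        have h4 := congrArg evL ((ch k).h4 ℓ)
        rw [map_mul, map_add, map_sum, map_mul, ← algebraMap_eq, AlgHom.commutes] at h4
        simp only [map_mul, hμ'] at h4
        rw [hw, Algebra.smul_def, mul_sub, mul_sub, Finset.mul_sum]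
        have h5 : ∑ i, algebraMap R Λ (π ^ 2) * (evL ((ch k).h ℓ i) * μ ((ch k).rows i)) =
            ∑ i, evL ((ch k).h ℓ i) * (algebraMap R Λ (π ^ 2) * μ ((ch k).rows i)) := by
          refine Finset.sum_congr rfl fun i _ => ?_
          ring
        rw [h5]
        linear_combination h4
    · exact map_zero _
    · intro x y _ _ hx hy
      rw [map_add, hx, hy, add_zero]
    · intro a x _ hx
      rw [smul_eq_mul, map_mul, hx, mul_zero]
  refine ⟨Ideal.Quotient.liftₐ _ EV hEVIB, ?_⟩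
  intro p
  exact hEVι p

theorem core {R Λ C' : Type u} [CommRing R] [CommRing Λ]
    [Algebra R Λ] (π : R) (hR : ∀ r : R, π ^ 2 * r = 0 → π * r = 0)
    (hΛ : ∀ x : Λ, π ^ 2 • x = 0 → π • x = 0) [CommRing C'] [Algebra R C']
    [Algebra (R ⧸ Ideal.span {π ^ 2}) C'] [IsScalarTower R (R ⧸ Ideal.span {π ^ 2}) C']
    (g : C' →ₐ[R] Λ ⧸ Ideal.span {algebraMap R Λ (π ^ 2)})
    {n m : ℕ} (f : Fin m → MvPolynomial (Fin n) R) (φ : MvPolynomial (Fin n) R →ₐ[R] C')
    (hφsurj : Function.Surjective φ) (hφf : ∀ j, φ (f j) = 0)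
    (hkerφ : ∀ p, φ p = 0 → ∃ (c : Fin m → MvPolynomial (Fin n) R)
      (g' : MvPolynomial (Fin n) R), p = ∑ j, c j * f j + C (π ^ 2) * g')
    {r : ℕ} (ch : Fin r → LL2.Chart f π)
    (hch : ∀ k, ∃ a'' : C', φ (ch k).A = a'' * φ (ch k).minor)
    (hcover : ∀ (q : Ideal C') [q.IsPrime], Algebra.IsSmoothAt (R ⧸ Ideal.span {π ^ 2}) q →
      ∃ k, φ (ch k).A ∉ q) :
    ∃ (D : Type u) (_ : CommRing D) (_ : Algebra R D), Algebra.FinitePresentation R D ∧
      ∃ (δ : D →ₐ[R] Λ) (ψ : C' →ₐ[R] D ⧸ Ideal.span {algebraMap R D π}),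
        (∀ (c : C') (d : D) (l : Λ), Ideal.Quotient.mk (Ideal.span {algebraMap R D π}) d = ψ c →
          Ideal.Quotient.mk (Ideal.span {algebraMap R Λ (π ^ 2)}) l = g c →
            δ d - l ∈ Ideal.span {algebraMap R Λ π}) ∧
        (∀ (Q : Ideal D) [Q.IsPrime], algebraMap R D π ∉ Q → Algebra.IsSmoothAt R Q) ∧
        (∀ (Q : Ideal (D ⧸ Ideal.span {algebraMap R D π})) [Q.IsPrime],
          Algebra.IsSmoothAt (R ⧸ Ideal.span {π ^ 2}) (Q.comap ψ) →
            Algebra.IsSmoothAt R (Q.comap (Ideal.Quotient.mk (Ideal.span {algebraMap R D π})))) := by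
  classical
  let mkD : MvPolynomial (LL2.V n m) R →ₐ[R] LL2.D ch := Ideal.Quotient.mkₐ R _
  have hmkD : ∀ p, p ∈ Ideal.span (Set.range (LL2.rel ch)) → mkD p = 0 := fun p hp =>
    Ideal.Quotient.eq_zero_iff_mem.mpr hp
  let ι' : MvPolynomial (Fin n) R →ₐ[R] LL2.D ch := mkD.comp LL2.ι
  have hι'f : ∀ j, ι' (f j) ∈ Ideal.span {algebraMap R (LL2.D ch) π} := by
    intro j
    have h1 : LL2.ι (n := n) (m := m) (f j) = LL2.Fr f π j + C π * LL2.Z (n := n) j := by
      unfold LL2.Fr; ring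
    have h2 : ι' (f j) = algebraMap R (LL2.D ch) π * mkD (LL2.Z (n := n) j) := by
      change mkD (LL2.ι (f j)) = _
      rw [h1, map_add, hmkD _ (LL2.Fr_mem ch j), zero_add, map_mul, ← algebraMap_eq,
        AlgHom.commutes]
    rw [h2]
    exact Ideal.mul_mem_right _ _ (Ideal.subset_span rfl)
  have hι' : ∀ p, φ p = 0 → ι' p ∈ Ideal.span {algebraMap R (LL2.D ch) π} := by
    intro p hp
    obtain ⟨c, g', rfl⟩ := hkerφ p hp
    rw [map_add, map_sum]
    refine add_mem (Ideal.sum_mem _ fun j _ => ?_) ?_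
    · rw [map_mul]
      exact Ideal.mul_mem_left _ _ (hι'f j)
    · rw [map_mul]
      refine Ideal.mul_mem_right _ _ ?_
      have : ι' (C (π ^ 2)) = algebraMap R (LL2.D ch) π * algebraMap R (LL2.D ch) π := by
        rw [← algebraMap_eq, AlgHom.commutes, map_pow, pow_two]
      rw [this]
      exact Ideal.mul_mem_left _ _ (Ideal.subset_span rfl)
  obtain ⟨ψ, hψ⟩ := psi_exists π φ hφsurj ι' hι'
  -- the map to Λ
  choose lam hlam using fun i : Fin n =>
    Ideal.Quotient.mk_surjective (I := Ideal.span {algebraMap R Λ (π ^ 2)}) (g (φ (X i)))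
  let evL : MvPolynomial (Fin n) R →ₐ[R] Λ := aeval lam
  have hev : ∀ p, Ideal.Quotient.mk (Ideal.span {algebraMap R Λ (π ^ 2)}) (evL p) = g (φ p) := by
    intro p
    have : (Ideal.Quotient.mkₐ R (Ideal.span {algebraMap R Λ (π ^ 2)})).comp evL = g.comp φ := by
      apply MvPolynomial.algHom_ext
      intro i
      change Ideal.Quotient.mk (Ideal.span {algebraMap R Λ (π ^ 2)}) (aeval lam (X i)) =
        g (φ (X i))
      rw [aeval_X, hlam]
    exact DFunLike.congr_fun this p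
  have hμ : ∀ j, ∃ μ : Λ, evL (f j) = algebraMap R Λ (π ^ 2) * μ := by
    intro j
    have h1 : evL (f j) ∈ Ideal.span {algebraMap R Λ (π ^ 2)} := by
      rw [← Ideal.Quotient.eq_zero_iff_mem, hev, hφf, map_zero]
    obtain ⟨μ, hμ⟩ := Ideal.mem_span_singleton'.mp h1
    exact ⟨μ, by rw [← hμ, mul_comm]⟩
  choose μ hμ using hμ
  obtain ⟨δ, hδ⟩ := delta_exists π hΛ f ch lam μ hμ
  refine ⟨LL2.D ch, inferInstance, inferInstance, inferInstance, δ, ψ, ?_, ?_, ?_⟩
  · intro c d l hd hl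
    obtain ⟨p, rfl⟩ := hφsurj c
    rw [hψ] at hd
    have h1 : d - ι' p ∈ Ideal.span {algebraMap R (LL2.D ch) π} := by
      rw [← Ideal.Quotient.eq_zero_iff_mem, map_sub, hd]
      exact sub_self _
    obtain ⟨d', hd'⟩ := Ideal.mem_span_singleton'.mp h1
    have h2 : evL p - l ∈ Ideal.span {algebraMap R Λ (π ^ 2)} := by
      rw [← Ideal.Quotient.eq_zero_iff_mem, map_sub, hev, hl, sub_self]
    obtain ⟨t', ht'⟩ := Ideal.mem_span_singleton'.mp h2
    have h3 : δ d - l = (δ d' + t' * algebraMap R Λ π) * algebraMap R Λ π := by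
      have e1 : δ d = δ (ι' p) + δ d' * algebraMap R Λ π := by
        rw [← AlgHom.commutes δ π, ← map_mul, hd', ← map_add]
        congr 1
        ring
      have e3 : δ (ι' p) = evL p := hδ p
      rw [e1, e3]
      have e2 : evL p - l = t' * algebraMap R Λ π * algebraMap R Λ π := by
        rw [← ht', map_pow]; ring
      linear_combination e2
    rw [h3]
    exact Ideal.mul_mem_left _ _ (Ideal.subset_span rfl)
  · intro Q _ hQ
    exact LL2.isSmoothAt_of_pi_notMem ch Q hQ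
  · intro Q _ hQ
    obtain ⟨k, hk⟩ := hcover (Q.comap ψ) hQ
    obtain ⟨a'', ha''⟩ := hch k
    have hA : ψ (φ (ch k).A) ∉ Q := hk
    have hM : ψ (φ (ch k).minor) ∉ Q := by
      intro hcon
      apply hA
      rw [ha'', map_mul]
      exact Ideal.mul_mem_left _ _ hcon
    rw [hψ] at hA hM
    exact LL2.isSmoothAt_chart ch hR k _ hA hM

theorem main2024 {R Λ C' : Type u} [CommRing R] [IsNoetherianRing R] [CommRing Λ]
    [Algebra R Λ] (π : R) (hR : ∀ r : R, π ^ 2 * r = 0 → π * r = 0)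
    (hΛ : ∀ x : Λ, π ^ 2 • x = 0 → π • x = 0) [CommRing C'] [Algebra R C']
    [Algebra (R ⧸ Ideal.span {π ^ 2}) C'] [IsScalarTower R (R ⧸ Ideal.span {π ^ 2}) C']
    [Algebra.FinitePresentation (R ⧸ Ideal.span {π ^ 2}) C']
    (g : C' →ₐ[R] Λ ⧸ Ideal.span {algebraMap R Λ (π ^ 2)}) :
    ∃ (D : Type u) (_ : CommRing D) (_ : Algebra R D), Algebra.FinitePresentation R D ∧
      ∃ (δ : D →ₐ[R] Λ) (ψ : C' →ₐ[R] D ⧸ Ideal.span {algebraMap R D π}),
        (∀ (c : C') (d : D) (l : Λ), Ideal.Quotient.mk (Ideal.span {algebraMap R D π}) d = ψ c →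
          Ideal.Quotient.mk (Ideal.span {algebraMap R Λ (π ^ 2)}) l = g c →
            δ d - l ∈ Ideal.span {algebraMap R Λ π}) ∧
        (∀ (Q : Ideal D) [Q.IsPrime], algebraMap R D π ∉ Q → Algebra.IsSmoothAt R Q) ∧
        (∀ (Q : Ideal (D ⧸ Ideal.span {algebraMap R D π})) [Q.IsPrime],
          Algebra.IsSmoothAt (R ⧸ Ideal.span {π ^ 2}) (Q.comap ψ) →
            Algebra.IsSmoothAt R (Q.comap (Ideal.Quotient.mk (Ideal.span {algebraMap R D π})))) := by
  classical
  -- presentation of `C'`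
  obtain ⟨n, φb, hφb, hfg⟩ := Algebra.FinitePresentation.out (R := R ⧸ Ideal.span {π ^ 2}) (A := C')
  obtain ⟨s, hs⟩ := hfg
  let fb : Fin s.card → MvPolynomial (Fin n) (R ⧸ Ideal.span {π ^ 2}) := fun j =>
    ((s.equivFin.symm j : ↥s) : MvPolynomial (Fin n) (R ⧸ Ideal.span {π ^ 2}))
  have hrange : Set.range fb = ↑s := by
    ext x
    constructor
    · rintro ⟨j, rfl⟩
      exact (s.equivFin.symm j).2
    · intro hx
      exact ⟨s.equivFin ⟨x, hx⟩, by simp [fb]⟩
  have hker : RingHom.ker φb.toRingHom = Ideal.span (Set.range fb) := by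
    rw [hrange]; exact hs.symm
  choose f hf using fun j => LL3.red_surjective (n := n) π (fb j)
  obtain ⟨r, ch, hch, hcover⟩ := exists_cover π fb φb hφb hker f hf
  -- the map `φ`
  let φ : MvPolynomial (Fin n) R →ₐ[R] C' := aeval fun i => φb (X i)
  have hφ : ∀ p, φ p = φb (LL3.red π p) := by
    intro p
    induction p using MvPolynomial.induction_on with
    | C a =>
      change φ (C a) = φb (MvPolynomial.map _ (C a))
      rw [MvPolynomial.map_C, ← algebraMap_eq, ← algebraMap_eq, AlgHom.commutes, AlgHom.commutes,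
        IsScalarTower.algebraMap_apply R (R ⧸ Ideal.span {π ^ 2}) C']
      rfl
    | add p q hp hq => rw [map_add, map_add, map_add, hp, hq]
    | mul_X p i hp =>
      rw [map_mul, map_mul, map_mul, hp]
      congr 1
      change aeval (fun i => φb (X i)) (X i) = φb (MvPolynomial.map _ (X i))
      rw [aeval_X, MvPolynomial.map_X]
  have hφsurj : Function.Surjective φ := by
    intro c
    obtain ⟨pb, rfl⟩ := hφb c
    obtain ⟨p, rfl⟩ := LL3.red_surjective π pb
    exact ⟨p, hφ p⟩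
  have hφf : ∀ j, φ (f j) = 0 := by
    intro j
    rw [hφ, hf]
    have : fb j ∈ RingHom.ker φb.toRingHom := by
      rw [hker]; exact Ideal.subset_span ⟨j, rfl⟩
    exact this
  have hkerφ : ∀ p, φ p = 0 → ∃ (c : Fin s.card → MvPolynomial (Fin n) R)
      (g' : MvPolynomial (Fin n) R), p = ∑ j, c j * f j + C (π ^ 2) * g' := by
    intro p hp
    rw [hφ] at hp
    have h1 : LL3.red π p ∈ Ideal.span (Set.range fb) := by
      rw [← hker]; exact hp
    obtain ⟨cb, hcb⟩ := Ideal.mem_span_range_iff_exists_fun.mp h1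
    choose c hc using fun j => LL3.red_surjective (n := n) π (cb j)
    have h2 : LL3.red π (p - ∑ j, c j * f j) = 0 := by
      rw [map_sub, map_sum, ← hcb, sub_eq_zero]
      refine Finset.sum_congr rfl fun j _ => ?_
      rw [map_mul, hc, hf]
    obtain ⟨g', hg'⟩ := LL3.mem_ker_red π _ h2
    exact ⟨c, g', by rw [← hg']; ring⟩
  refine core π hR hΛ g f φ hφsurj hφf hkerφ ch ?_ ?_
  · intro k
    obtain ⟨a'', ha''⟩ := hch k
    exact ⟨a'', by rw [hφ, hφ]; exact ha''⟩
  · intro q _ hq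
    obtain ⟨k, hk⟩ := hcover q hq
    exact ⟨k, by rw [hφ]; exact hk⟩

end Groth.Agent.Lib.Helper8.LL4
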