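import Mathlib
import Groth.Prelude.Def_Smoothing
import Groth.Agent.Lib.Helper8.LL4
import Groth.Agent.Lib.Helper8.DS6

set_option backward.isDefEq.respectTransparency.types false
set_option autoImplicit false
set_option linter.unusedSectionVars false
set_option linter.style.haveILetI false

universe u
open Smoothing

namespace Groth.Agent.Lib.Helper8.DS7

open Groth.Agent.Lib.Helper8

/-- `main2024` with ideals propositionally equal to `(π²)` -/
theorem main2024' {R Λ C' : Type u} [CommRing R] [IsNoetherianRing R] [CommRing Λ]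
    [Algebra R Λ] (π : R) (hR : ∀ r : R, π ^ 2 * r = 0 → π * r = 0)
    (hΛ : ∀ x : Λ, π ^ 2 • x = 0 → π • x = 0) [CommRing C'] [Algebra R C']
    (I : Ideal R) (hI : I = Ideal.span {π ^ 2})
    [Algebra (R ⧸ I) C'] [IsScalarTower R (R ⧸ I) C']
    [Algebra.FinitePresentation (R ⧸ I) C']
    (IΛ : Ideal Λ) (hIΛ : IΛ = Ideal.span {algebraMap R Λ (π ^ 2)})
    (g : C' →ₐ[R] Λ ⧸ IΛ) :
    ∃ (D : Type u) (_ : CommRing D) (_ : Algebra R D), Algebra.FinitePresentation R D ∧
      ∃ (δ : D →ₐ[R] Λ) (ψ : C' →ₐ[R] D ⧸ Ideal.span {algebraMap R D π}),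
        (∀ (c : C') (d : D) (l : Λ), Ideal.Quotient.mk (Ideal.span {algebraMap R D π}) d = ψ c →
          Ideal.Quotient.mk IΛ l = g c →
            δ d - l ∈ Ideal.span {algebraMap R Λ π}) ∧
        (∀ (Q : Ideal D) [Q.IsPrime], algebraMap R D π ∉ Q → Algebra.IsSmoothAt R Q) ∧
        (∀ (Q : Ideal (D ⧸ Ideal.span {algebraMap R D π})) [Q.IsPrime],
          Algebra.IsSmoothAt (R ⧸ I) (Q.comap ψ) →
            Algebra.IsSmoothAt R (Q.comap (Ideal.Quotient.mk (Ideal.span {algebraMap R D π})))) := by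
  subst hI
  subst hIΛ
  exact LL4.main2024 π hR hΛ g

theorem isSmoothAt_congr {R D : Type u} [CommRing R] [CommRing D] [Algebra R D]
    {p₁ p₂ : Ideal D} [p₁.IsPrime] [p₂.IsPrime] (h : p₁ = p₂) (h1 : Algebra.IsSmoothAt R p₁) :
    Algebra.IsSmoothAt R p₂ := by
  subst h
  exact h1

theorem main19959 {R Λ A C' : Type u} [CommRing R] [IsNoetherianRing R] [CommRing Λ]
    [Algebra R Λ] (π : R) (hR : ∀ r : R, π ^ 2 * r = 0 → π * r = 0)
    (hΛ : ∀ x : Λ, π ^ 2 • x = 0 → π • x = 0) [CommRing A] [Algebra R A]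
    [Algebra.FinitePresentation R A] (φ : A →ₐ[R] Λ)
    (hπ : Smoothing.IsStrictlyStandard R A (algebraMap R A π))
    [CommRing C'] [Algebra R C'] [Algebra (R ⧸ Ideal.span {π ^ 8}) C']
    [IsScalarTower R (R ⧸ Ideal.span {π ^ 8}) C']
    [Algebra.FinitePresentation (R ⧸ Ideal.span {π ^ 8}) C']
    (γ : A →ₐ[R] C') (g : C' →ₐ[R] Λ ⧸ Ideal.span {algebraMap R Λ (π ^ 8)})
    (hfac : ∀ a : A, g (γ a) = Ideal.Quotient.mk (Ideal.span {algebraMap R Λ (π ^ 8)}) (φ a)) :
    ∃ (B : Type u) (_ : CommRing B) (_ : Algebra R B), Algebra.FinitePresentation R B ∧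
      ∃ (α : A →ₐ[R] B) (β : B →ₐ[R] Λ), β.comp α = φ ∧
        (∀ (Q : Ideal B) [Q.IsPrime], algebraMap R B π ∉ Q → Algebra.IsSmoothAt R Q) ∧
        (Smoothing.singularIdeal (R ⧸ Ideal.span {π ^ 8}) C').map g ≤
          ((Smoothing.singularIdeal R B).map β).radical.map
            (Ideal.Quotient.mk (Ideal.span {algebraMap R Λ (π ^ 8)})) := by
  classical
  have hR4 : ∀ r : R, (π ^ 4) ^ 2 * r = 0 → π ^ 4 * r = 0 := by
    intro r hr
    have h1 : π ^ (7 + 1) • r = 0 := by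
      rw [smul_eq_mul, ← hr]; ring
    have h2 := DS1.smul_eq_zero_of_pow_smul (Λ := R) π (fun x hx => hR x hx) 7 r h1
    rw [smul_eq_mul] at h2
    rw [show π ^ 4 * r = π ^ 3 * (π * r) by ring, h2, mul_zero]
  have hΛ4 : ∀ x : Λ, (π ^ 4) ^ 2 • x = 0 → π ^ 4 • x = 0 := by
    intro x hx
    have h1 : π ^ (7 + 1) • x = 0 := by
      rw [← hx]; congr 1; ring
    have h2 := DS1.smul_eq_zero_of_pow_smul π hΛ 7 x h1
    rw [show π ^ 4 = π ^ 3 * π by ring, mul_smul, h2, smul_zero]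
  obtain ⟨D, _, _, hDfp, δ, ψ, hcompat, hDb, hDc⟩ := main2024' (R := R) (Λ := Λ) (C' := C') (π ^ 4)
    hR4 hΛ4 (Ideal.span {π ^ 8}) (by rw [← pow_mul]) (Ideal.span {algebraMap R Λ (π ^ 8)})
    (by rw [← pow_mul]) g
  haveI := hDfp
  have hψ₂ : ∀ (a : A) (d : D),
      Ideal.Quotient.mk (Ideal.span {algebraMap R D (π ^ 4)}) d = (ψ.comp γ) a →
      δ d - φ a ∈ Ideal.span {algebraMap R Λ (π ^ 4)} := by
    intro a d hd
    exact hcompat (γ a) d (φ a) hd (hfac a).symm
  obtain ⟨B, _, _, _, _, hBfp, α, β, hβα, hβδ, hH1, hH2⟩ :=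
    DS6.main2028 π hR hΛ φ δ hπ (ψ.comp γ) hψ₂
  haveI := hBfp
  have hβδ' : ∀ d : D, β (algebraMap D B d) = δ d := fun d => DFunLike.congr_fun hβδ d
  refine ⟨B, inferInstance, inferInstance, hBfp, α, β, hβα, ?_, ?_⟩
  · intro Q _ hQ
    have hq : algebraMap R D (π ^ 4) ∉ Q.comap (algebraMap D B) := by
      intro h
      rw [Ideal.mem_comap, ← IsScalarTower.algebraMap_apply, map_pow] at h
      exact hQ (Ideal.IsPrime.mem_of_pow_mem inferInstance _ h)
    have h1 := hDb (Q.comap (algebraMap D B)) hq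
    obtain ⟨f, hf, hfq⟩ := SI1.exists_mem_singularIdeal_notMem _ h1
    have h2 : algebraMap D B f ∈ singularIdeal R B := hH2 (Ideal.mem_map_of_mem _ hf)
    exact SI1.isSmoothAt_of_mem_singularIdeal Q _ h2 hfq
  · rw [Ideal.map_le_iff_le_comap]
    intro x hx
    rw [Ideal.mem_comap]
    obtain ⟨y, hy⟩ := Ideal.Quotient.mk_surjective (g x)
    rw [← hy]
    refine Ideal.mem_map_of_mem _ ?_
    rw [Ideal.radical_eq_sInf, Ideal.mem_sInf]
    rintro 𝔭 ⟨h𝔭le, h𝔭prime⟩
    haveI := h𝔭prime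
    set qD : Ideal D := 𝔭.comap δ with hqD
    have hHB : singularIdeal R B ≤ 𝔭.comap β := Ideal.map_le_iff_le_comap.mp h𝔭le
    -- `D` is not smooth at `qD`
    have hns : ¬ Algebra.IsSmoothAt R qD := by
      intro hsm
      obtain ⟨f, hf, hfq⟩ := SI1.exists_mem_singularIdeal_notMem _ hsm
      apply hfq
      have h2 : algebraMap D B f ∈ singularIdeal R B := hH2 (Ideal.mem_map_of_mem _ hf)
      have h3 := hHB h2
      rw [Ideal.mem_comap, hβδ'] at h3
      exact h3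
    have hπq : algebraMap R D (π ^ 4) ∈ qD := by
      by_contra h
      exact hns (hDb qD h)
    have hle : Ideal.span {algebraMap R D (π ^ 4)} ≤ qD := by
      rw [Ideal.span_le]
      rintro _ rfl
      exact hπq
    have hker : RingHom.ker (Ideal.Quotient.mk (Ideal.span {algebraMap R D (π ^ 4)})) ≤ qD := by
      rw [Ideal.mk_ker]; exact hle
    haveI hQbar : (qD.map (Ideal.Quotient.mk (Ideal.span {algebraMap R D (π ^ 4)}))).IsPrime :=
      Ideal.map_isPrime_of_surjective Ideal.Quotient.mk_surjective hker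
    have hcomap : (qD.map (Ideal.Quotient.mk (Ideal.span {algebraMap R D (π ^ 4)}))).comap
        (Ideal.Quotient.mk (Ideal.span {algebraMap R D (π ^ 4)})) = qD := by
      rw [Ideal.comap_map_of_surjective _ Ideal.Quotient.mk_surjective, ← RingHom.ker_eq_comap_bot,
        sup_eq_left]
      exact hker
    have hnsC : ¬ Algebra.IsSmoothAt (R ⧸ Ideal.span {π ^ 8})
        ((qD.map (Ideal.Quotient.mk (Ideal.span {algebraMap R D (π ^ 4)}))).comap ψ) := by
      intro hsm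
      exact hns (isSmoothAt_congr hcomap (hDc _ hsm))
    have hxq : x ∈ (qD.map (Ideal.Quotient.mk (Ideal.span {algebraMap R D (π ^ 4)}))).comap ψ := by
      unfold singularIdeal at hx
      rw [PrimeSpectrum.mem_vanishingIdeal] at hx
      exact hx ⟨(qD.map (Ideal.Quotient.mk (Ideal.span {algebraMap R D (π ^ 4)}))).comap ψ,
        Ideal.comap_isPrime _ _⟩ hnsC
    obtain ⟨d, hd⟩ := Ideal.Quotient.mk_surjective (I := Ideal.span {algebraMap R D (π ^ 4)}) (ψ x)
    have hdq : d ∈ qD := by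
      rw [← hcomap, Ideal.mem_comap, hd]
      exact hxq
    have h5 := hcompat x d y hd hy
    have h6 : Ideal.span {algebraMap R Λ (π ^ 4)} ≤ 𝔭 := by
      rw [Ideal.span_le]
      rintro _ rfl
      have : δ (algebraMap R D (π ^ 4)) ∈ 𝔭 := hπq
      rwa [AlgHom.commutes] at this
    have h7 : δ d ∈ 𝔭 := hdq
    have h8 := 𝔭.sub_mem h7 (h6 h5)
    rwa [sub_sub_cancel] at h8

end Groth.Agent.Lib.Helper8.DS7
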