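import Mathlib
import Groth.Prelude.Def_Smoothing

set_option backward.isDefEq.respectTransparency.types false
set_option autoImplicit false
set_option linter.unusedSectionVars false
set_option linter.style.haveILetI false

universe u
open Smoothing

namespace Groth.Agent.Lib.Helper8.RS1

/-- smoothness at a prime passes to a quotient of the base (abstract form) -/
theorem isSmoothAt_of_surjective {R₀ R₁ A₀ A₁ : Type u} [CommRing R₀] [CommRing R₁] [CommRing A₀]
    [CommRing A₁] [Algebra R₀ A₀] [Algebra R₁ A₁] (ρR : R₀ →+* R₁) (hρR : Function.Surjective ρR)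
    (ρA : A₀ →+* A₁) (hρA : Function.Surjective ρA)
    (hcomm : ∀ r, ρA (algebraMap R₀ A₀ r) = algebraMap R₁ A₁ (ρR r))
    (hker : RingHom.ker ρA ≤ (RingHom.ker ρR).map (algebraMap R₀ A₀))
    (P₁ : Ideal A₁) [P₁.IsPrime] (h : Algebra.IsSmoothAt R₀ (P₁.comap ρA)) :
    Algebra.IsSmoothAt R₁ P₁ := by
  set P₀ : Ideal A₀ := P₁.comap ρA with hP₀
  haveI : Algebra.FormallySmooth R₀ (Localization.AtPrime P₀) := h
  change Algebra.FormallySmooth R₁ (Localization.AtPrime P₁)
  refine Algebra.FormallySmooth.of_comp_surjective fun T _ _ J hJ u => ?_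
  letI : Algebra R₀ T := ((algebraMap R₁ T).comp ρR).toAlgebra
  have halgT : ∀ r, algebraMap R₀ T r = algebraMap R₁ T (ρR r) := fun r => rfl
  let loc : Localization.AtPrime P₀ →+* Localization.AtPrime P₁ :=
    Localization.localRingHom P₀ P₁ ρA rfl
  have hloc : ∀ a, loc (algebraMap A₀ _ a) = algebraMap A₁ _ (ρA a) := fun a =>
    Localization.localRingHom_to_map _ _ _ _ _
  let v : Localization.AtPrime P₀ →ₐ[R₀] T ⧸ J :=
    { toRingHom := u.toRingHom.comp loc
      commutes' := by
        intro r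
        change u (loc (algebraMap R₀ (Localization.AtPrime P₀) r)) = _
        rw [IsScalarTower.algebraMap_apply R₀ A₀ (Localization.AtPrime P₀), hloc, hcomm,
          ← IsScalarTower.algebraMap_apply R₁ A₁ (Localization.AtPrime P₁), AlgHom.commutes]
        rfl }
  have hv : ∀ x, v x = u (loc x) := fun x => rfl
  let vt : Localization.AtPrime P₀ →ₐ[R₀] T := Algebra.FormallySmooth.lift J ⟨2, hJ⟩ v
  have hvt : ∀ x, Ideal.Quotient.mk J (vt x) = v x := fun x =>
    Algebra.FormallySmooth.mk_lift J ⟨2, hJ⟩ v x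
  let w₀ : A₀ →+* T := vt.toRingHom.comp (algebraMap A₀ (Localization.AtPrime P₀))
  have hw₀ : ∀ a, w₀ a = vt (algebraMap A₀ _ a) := fun a => rfl
  have hw₀alg : ∀ r, w₀ (algebraMap R₀ A₀ r) = algebraMap R₁ T (ρR r) := by
    intro r
    rw [hw₀, ← IsScalarTower.algebraMap_apply R₀ A₀ (Localization.AtPrime P₀), AlgHom.commutes,
      halgT]
  have hw₀ker : ∀ a, ρA a = 0 → w₀ a = 0 := by
    intro a ha
    have h1 : a ∈ (RingHom.ker ρR).map (algebraMap R₀ A₀) := hker ha
    have hle : (RingHom.ker ρR).map (algebraMap R₀ A₀) ≤ RingHom.ker w₀ := by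
      rw [Ideal.map_le_iff_le_comap]
      intro r hr
      rw [Ideal.mem_comap, RingHom.mem_ker, hw₀alg, (hr : ρR r = 0), map_zero]
    exact hle h1
  let w₁ : A₁ →+* T := ρA.liftOfRightInverse (Function.surjInv hρA)
    (Function.rightInverse_surjInv hρA) ⟨w₀, fun a ha => hw₀ker a ha⟩
  have hw₁ : ∀ a, w₁ (ρA a) = w₀ a := fun a =>
    RingHom.liftOfRightInverse_comp_apply _ _ _ _ a
  have hunits : ∀ s : P₁.primeCompl, IsUnit (w₁ s) := by
    rintro ⟨s, hs⟩
    obtain ⟨s₀, rfl⟩ := hρA s
    rw [hw₁, hw₀]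
    refine IsUnit.map vt ?_
    exact IsLocalization.map_units (Localization.AtPrime P₀) (⟨s₀, hs⟩ : P₀.primeCompl)
  let w : Localization.AtPrime P₁ →+* T := IsLocalization.lift (M := P₁.primeCompl) hunits
  have hw : ∀ a, w (algebraMap A₁ _ a) = w₁ a := fun a => IsLocalization.lift_eq _ a
  let wA : Localization.AtPrime P₁ →ₐ[R₁] T :=
    { toRingHom := w
      commutes' := by
        intro r
        obtain ⟨r₀, rfl⟩ := hρR r
        change w (algebraMap R₁ (Localization.AtPrime P₁) (ρR r₀)) = _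
        rw [IsScalarTower.algebraMap_apply R₁ A₁ (Localization.AtPrime P₁), hw, ← hcomm, hw₁,
          hw₀alg] }
  refine ⟨wA, ?_⟩
  apply AlgHom.coe_ringHom_injective
  refine IsLocalization.ringHom_ext P₁.primeCompl ?_
  ext a
  obtain ⟨a₀, rfl⟩ := hρA a
  change Ideal.Quotient.mk J (w (algebraMap A₁ _ (ρA a₀))) = u (algebraMap A₁ _ (ρA a₀))
  rw [hw, hw₁, hw₀, hvt, hv, hloc]

/-- smoothness at a prime does not depend on the base up to isomorphism -/
theorem isSmoothAt_of_ringEquiv_base {R' R'' C : Type u} [CommRing R'] [CommRing R''] [CommRing C]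
    [Algebra R' C] [Algebra R'' C] (e : R' ≃+* R'')
    (hc : ∀ r, algebraMap R' C r = algebraMap R'' C (e r)) (P : Ideal C) [P.IsPrime]
    (h : Algebra.IsSmoothAt R'' P) : Algebra.IsSmoothAt R' P := by
  haveI : Algebra.FormallySmooth R'' (Localization.AtPrime P) := h
  change Algebra.FormallySmooth R' (Localization.AtPrime P)
  letI : Algebra R' R'' := e.toRingHom.toAlgebra
  haveI : IsScalarTower R' R'' (Localization.AtPrime P) := by
    refine IsScalarTower.of_algebraMap_eq fun r => ?_
    rw [IsScalarTower.algebraMap_apply R' C (Localization.AtPrime P), hc,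
      ← IsScalarTower.algebraMap_apply R'' C (Localization.AtPrime P)]
    rfl
  haveI : Algebra.FormallySmooth R' R'' :=
    Algebra.FormallySmooth.of_equiv (AlgEquiv.ofRingEquiv (f := e) (fun r => rfl))
  exact Algebra.FormallySmooth.comp R' R'' (Localization.AtPrime P)

end Groth.Agent.Lib.Helper8.RS1
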