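import Mathlib
import Groth.Prelude.Def_Smoothing
import Groth.Agent.Lib.Helper8.RS1
import Groth.Agent.Lib.Helper8.DS7
import Groth.Agent.Lib.Helper8.IS2

set_option backward.isDefEq.respectTransparency.types false
set_option autoImplicit false
set_option linter.unusedSectionVars false
set_option linter.style.haveILetI false

universe u
open Smoothing

namespace Groth.Agent.Lib.Helper8.RS2

open Groth.Agent.Lib.Helper8

/-- transport of strict standardness along an algebra isomorphism -/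
theorem isStrictlyStandard_of_algEquiv {R A A' : Type u} [CommRing R] [CommRing A] [CommRing A']
    [Algebra R A] [Algebra R A'] (e : A ≃ₐ[R] A') (a : A) (h : IsStrictlyStandard R A a) :
    IsStrictlyStandard R A' (e a) := by
  obtain ⟨P, h1, h2⟩ := h
  let P' : MarkedPresentation R A' :=
    { n := P.n, m := P.m, c := P.c, hcn := P.hcn, hcm := P.hcm, rel := P.rel
      hom := e.toAlgHom.comp P.hom
      surj := e.surjective.comp P.surj
      ker_eq := by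
        rw [← P.ker_eq]
        ext x
        simp only [RingHom.mem_ker]
        change e (P.hom x) = 0 ↔ P.hom x = 0
        exact e.map_eq_zero_iff }
  refine ⟨P', ?_, ?_⟩
  · have h3 := Ideal.mem_map_of_mem (e : A →+* A') h1
    rw [Ideal.map_span] at h3
    refine Ideal.span_mono ?_ h3
    rintro _ ⟨_, ⟨cols, rfl⟩, rfl⟩
    exact ⟨cols, rfl⟩
  · intro a' ha' j hj
    have : P.hom a' = a := e.injective ha'
    exact h2 a' this j hj


theorem comap_map_eq {Λ₀ Λ₁ : Type u} [CommRing Λ₀] [CommRing Λ₁] (ρΛ : Λ₀ →+* Λ₁)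
    (hρΛ : Function.Surjective ρΛ) (𝔭 : Ideal Λ₀) (h : RingHom.ker ρΛ ≤ 𝔭) :
    (𝔭.map ρΛ).comap ρΛ = 𝔭 := by
  rw [Ideal.comap_map_of_surjective _ hρΛ, ← RingHom.ker_eq_comap_bot, sup_eq_left]
  exact h

/-- the abstract step: resolving modulo `π⁸` resolves the problem -/
theorem step_abs {R₀ A₀ Λ₀ R₁ A₁ Λ₁ : Type u} [CommRing R₀] [IsNoetherianRing R₀] [CommRing A₀]
    [Algebra R₀ A₀] [Algebra.FinitePresentation R₀ A₀] [CommRing Λ₀] [Algebra R₀ Λ₀]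
    (φ₀ : A₀ →ₐ[R₀] Λ₀) (𝔮₀ : Ideal Λ₀) [𝔮₀.IsPrime] (π₀ : R₀)
    (hπ𝔮 : algebraMap R₀ Λ₀ π₀ ∈ 𝔮₀)
    (hR : ∀ x : R₀, π₀ ^ 2 * x = 0 → π₀ * x = 0) (hΛ : ∀ x : Λ₀, π₀ ^ 2 • x = 0 → π₀ • x = 0)
    (hstd : IsStrictlyStandard R₀ A₀ (algebraMap R₀ A₀ π₀))
    [CommRing R₁] [CommRing A₁] [Algebra R₁ A₁] [CommRing Λ₁] [Algebra R₁ Λ₁]
    (φ₁ : A₁ →ₐ[R₁] Λ₁)
    (ρR : R₀ →+* R₁) (hρR : Function.Surjective ρR) (hkR : RingHom.ker ρR = Ideal.span {π₀ ^ 8})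
    (ρA : A₀ →+* A₁) (hρA : Function.Surjective ρA)
    (hkA : RingHom.ker ρA = Ideal.span {algebraMap R₀ A₀ (π₀ ^ 8)})
    (hcA : ∀ r, ρA (algebraMap R₀ A₀ r) = algebraMap R₁ A₁ (ρR r))
    (ρΛ : Λ₀ →+* Λ₁) (hρΛ : Function.Surjective ρΛ)
    (hkΛ : RingHom.ker ρΛ = Ideal.span {algebraMap R₀ Λ₀ (π₀ ^ 8)})
    (hcΛ : ∀ r, ρΛ (algebraMap R₀ Λ₀ r) = algebraMap R₁ Λ₁ (ρR r))
    (hφ : ∀ a, φ₁ (ρA a) = ρΛ (φ₀ a))
    (hres : Resolvable R₁ φ₁ (𝔮₀.map ρΛ)) : Resolvable R₀ φ₀ 𝔮₀ := by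
  classical
  obtain ⟨C₁, _, _, hC₁fp, g₁, h₁, hh₁g₁, hsr, hnot⟩ := hres
  haveI := hC₁fp
  letI algR₀C : Algebra R₀ C₁ := ((algebraMap R₁ C₁).comp ρR).toAlgebra
  have halgC : ∀ r, algebraMap R₀ C₁ r = algebraMap R₁ C₁ (ρR r) := fun r => rfl
  -- the concrete quotient of `R₀`
  let liftR : (R₀ ⧸ Ideal.span {π₀ ^ 8}) →+* R₁ := Ideal.Quotient.lift _ ρR (by
    intro a ha
    rw [← hkR] at ha
    exact ha)
  have hliftR : ∀ r, liftR (Ideal.Quotient.mk _ r) = ρR r := fun r => rfl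
  have hliftRbij : Function.Bijective liftR := by
    constructor
    · rw [Ideal.injective_lift_iff]
      exact hkR
    · exact Ideal.Quotient.lift_surjective_of_surjective _ _ hρR
  let eR : (R₀ ⧸ Ideal.span {π₀ ^ 8}) ≃+* R₁ := RingEquiv.ofBijective liftR hliftRbij
  letI algRqC : Algebra (R₀ ⧸ Ideal.span {π₀ ^ 8}) C₁ := ((algebraMap R₁ C₁).comp liftR).toAlgebra
  haveI : IsScalarTower R₀ (R₀ ⧸ Ideal.span {π₀ ^ 8}) C₁ :=
    IsScalarTower.of_algebraMap_eq fun r => rfl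
  haveI : Algebra.FinitePresentation (R₀ ⧸ Ideal.span {π₀ ^ 8}) C₁ :=
    IS2.finitePresentation_of_ringEquiv eR (fun r => rfl)
  let γ : A₀ →ₐ[R₀] C₁ :=
    { toRingHom := g₁.toRingHom.comp ρA
      commutes' := by
        intro r
        change g₁ (ρA (algebraMap R₀ A₀ r)) = _
        rw [hcA, AlgHom.commutes, halgC] }
  have hγ : ∀ a, γ a = g₁ (ρA a) := fun a => rfl
  -- the concrete quotient of `Λ₀`
  let liftΛ : (Λ₀ ⧸ Ideal.span {algebraMap R₀ Λ₀ (π₀ ^ 8)}) →+* Λ₁ :=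
    Ideal.Quotient.lift _ ρΛ (by
      intro a ha
      rw [← hkΛ] at ha
      exact ha)
  have hliftΛ : ∀ l, liftΛ (Ideal.Quotient.mk _ l) = ρΛ l := fun l => rfl
  have hliftΛbij : Function.Bijective liftΛ := by
    constructor
    · rw [Ideal.injective_lift_iff]
      exact hkΛ
    · exact Ideal.Quotient.lift_surjective_of_surjective _ _ hρΛ
  let eΛ : (Λ₀ ⧸ Ideal.span {algebraMap R₀ Λ₀ (π₀ ^ 8)}) ≃+* Λ₁ :=
    RingEquiv.ofBijective liftΛ hliftΛbij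
  have heΛ : ∀ l, eΛ (Ideal.Quotient.mk _ l) = ρΛ l := fun l => rfl
  let g : C₁ →ₐ[R₀] Λ₀ ⧸ Ideal.span {algebraMap R₀ Λ₀ (π₀ ^ 8)} :=
    { toRingHom := eΛ.symm.toRingHom.comp h₁.toRingHom
      commutes' := by
        intro r
        change eΛ.symm (h₁ (algebraMap R₀ C₁ r)) = _
        rw [halgC, AlgHom.commutes, ← hcΛ, ← heΛ, RingEquiv.symm_apply_apply]
        rfl }
  have hg : ∀ x, eΛ (g x) = h₁ x := fun x => eΛ.apply_symm_apply _
  have hfac : ∀ a : A₀, g (γ a) = Ideal.Quotient.mk _ (φ₀ a) := by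
    intro a
    apply eΛ.injective
    rw [hg, hγ, heΛ, ← hφ]
    exact DFunLike.congr_fun hh₁g₁ (ρA a)
  obtain ⟨B, _, _, hBfp, α, β, hβα, hsmooth, hle⟩ :=
    DS7.main19959 π₀ hR hΛ φ₀ hstd γ g hfac
  haveI := hBfp
  have hkerΛ𝔮 : ∀ 𝔭 : Ideal Λ₀, algebraMap R₀ Λ₀ π₀ ∈ 𝔭 → RingHom.ker ρΛ ≤ 𝔭 := by
    intro 𝔭 h𝔭
    rw [hkΛ, Ideal.span_le]
    rintro _ rfl
    rw [map_pow]
    exact Ideal.pow_mem_of_mem _ h𝔭 8 (by norm_num)
  haveI h𝔮₁ : (𝔮₀.map ρΛ).IsPrime :=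
    Ideal.map_isPrime_of_surjective hρΛ (hkerΛ𝔮 𝔮₀ hπ𝔮)
  -- key fact
  have KF : ∀ x ∈ singularIdeal R₁ C₁, ∃ y ∈ ((singularIdeal R₀ B).map β).radical,
      h₁ x = ρΛ y := by
    intro x hx
    have hx' : x ∈ singularIdeal (R₀ ⧸ Ideal.span {π₀ ^ 8}) C₁ := by
      unfold singularIdeal at hx ⊢
      rw [PrimeSpectrum.mem_vanishingIdeal] at hx ⊢
      intro P hP
      apply hx P
      intro hsm
      apply hP
      haveI : P.asIdeal.IsPrime := P.isPrime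
      exact RS1.isSmoothAt_of_ringEquiv_base eR (fun r => rfl) P.asIdeal hsm
    have h2 := hle (Ideal.mem_map_of_mem _ hx')
    obtain ⟨y, hy, hyx⟩ := (Ideal.mem_map_iff_of_surjective _ Ideal.Quotient.mk_surjective).mp h2
    refine ⟨y, hy, ?_⟩
    rw [← hg, ← heΛ, hyx]
  refine ⟨B, inferInstance, inferInstance, hBfp, α, β, hβα, ?_, ?_⟩
  · -- (a)
    unfold singRad
    rw [Ideal.radical_le_radical_iff, Ideal.map_le_iff_le_comap]
    intro f hf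
    rw [Ideal.mem_comap, Ideal.radical_eq_sInf, Ideal.mem_sInf]
    rintro 𝔭 ⟨h𝔭le, h𝔭prime⟩
    haveI := h𝔭prime
    have hπ𝔭 : algebraMap R₀ Λ₀ π₀ ∈ 𝔭 := by
      by_contra hcon
      have hQ : algebraMap R₀ B π₀ ∉ 𝔭.comap β := by
        rw [Ideal.mem_comap, AlgHom.commutes]
        exact hcon
      have hsm := hsmooth (𝔭.comap β) hQ
      obtain ⟨b, hb, hbQ⟩ := SI1.exists_mem_singularIdeal_notMem _ hsm
      exact hbQ (h𝔭le (Ideal.mem_map_of_mem _ hb))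
    have hker𝔭 := hkerΛ𝔮 𝔭 hπ𝔭
    haveI h𝔭₁ : (𝔭.map ρΛ).IsPrime := Ideal.map_isPrime_of_surjective hρΛ hker𝔭
    have hcm := comap_map_eq ρΛ hρΛ 𝔭 hker𝔭
    have h1 : singRad R₁ h₁ ≤ 𝔭.map ρΛ := by
      unfold singRad
      rw [Ideal.IsPrime.radical_le_iff h𝔭₁, Ideal.map_le_iff_le_comap]
      intro x hx
      obtain ⟨y, hy, hxy⟩ := KF x hx
      rw [Ideal.mem_comap, hxy]
      refine Ideal.mem_map_of_mem _ ?_
      exact (Ideal.IsPrime.radical_le_iff h𝔭prime).mpr h𝔭le hy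
    have h2 : (singularIdeal R₁ A₁).map φ₁ ≤ 𝔭.map ρΛ :=
      le_trans Ideal.le_radical (le_trans hsr h1)
    have h3 : ρA f ∈ singularIdeal R₁ A₁ := by
      unfold singularIdeal
      rw [PrimeSpectrum.mem_vanishingIdeal]
      intro P₁ hP₁
      by_contra hfP
      apply hP₁
      haveI : P₁.asIdeal.IsPrime := P₁.isPrime
      have hsm0 : Algebra.IsSmoothAt R₀ (P₁.asIdeal.comap ρA) :=
        SI1.isSmoothAt_of_mem_singularIdeal _ f hf hfP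
      refine RS1.isSmoothAt_of_surjective ρR hρR ρA hρA hcA ?_ P₁.asIdeal hsm0
      rw [hkA, hkR, Ideal.map_span, Set.image_singleton]
    have h4 := h2 (Ideal.mem_map_of_mem _ h3)
    rw [hφ] at h4
    rw [← hcm]
    exact h4
  · -- (b)
    obtain ⟨x, hx, hxq⟩ := (SI1.not_singRad_le_iff h₁ (𝔮₀.map ρΛ)).mp hnot
    obtain ⟨y, hy, hxy⟩ := KF x hx
    intro hcon
    apply hxq
    rw [hxy]
    exact Ideal.mem_map_of_mem _ (hcon hy)

end Groth.Agent.Lib.Helper8.RS2
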