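import Mathlib
import Groth.Prelude.Def_Smoothing
import Groth.Agent.Lib.Helper8.RS2
import Groth.Agent.S6829

set_option backward.isDefEq.respectTransparency.types false
set_option autoImplicit false
set_option linter.unusedSectionVars false
set_option linter.style.haveILetI false

universe u
open Smoothing TensorProduct

namespace Groth.Agent.Lib.Helper8.RS3

open Groth.Agent.Lib.Helper8

variable {R A Λ : Type u} [CommRing R] [IsNoetherianRing R] [CommRing A] [Algebra R A]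
  [Algebra.FinitePresentation R A] [CommRing Λ] [Algebra R Λ] (φ : A →ₐ[R] Λ) (𝔮 : Ideal Λ)
  [𝔮.IsPrime]

/-- the problem modulo `K` can be resolved -/
def ResK (K : Ideal R) : Prop :=
  ∃ φK : (A ⧸ K.map (algebraMap R A)) →ₐ[R ⧸ K] (Λ ⧸ K.map (algebraMap R Λ)),
    (∀ a : A, φK (Ideal.Quotient.mk _ a) = Ideal.Quotient.mk _ (φ a)) ∧
    Resolvable (R ⧸ K) φK (𝔮.map (Ideal.Quotient.mk (K.map (algebraMap R Λ))))

theorem step_final (π : R) (hπ𝔮 : algebraMap R Λ π ∈ 𝔮)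
    (hR : ∀ x : R, π ^ 2 * x = 0 → π * x = 0) (hΛ : ∀ x : Λ, π ^ 2 • x = 0 → π • x = 0)
    (hstd : IsStrictlyStandard R A (algebraMap R A π))
    (h : ResK φ 𝔮 (Ideal.span {π ^ 8})) : Resolvable R φ 𝔮 := by
  obtain ⟨φK, hφK, hres⟩ := h
  refine RS2.step_abs φ 𝔮 π hπ𝔮 hR hΛ hstd φK
    (Ideal.Quotient.mk _) Ideal.Quotient.mk_surjective (Ideal.mk_ker)
    (Ideal.Quotient.mk _) Ideal.Quotient.mk_surjective ?_ ?_
    (Ideal.Quotient.mk _) Ideal.Quotient.mk_surjective ?_ ?_ ?_ hres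
  · rw [Ideal.mk_ker, Ideal.map_span, Set.image_singleton]
  · intro r
    rfl
  · rw [Ideal.mk_ker, Ideal.map_span, Set.image_singleton]
  · intro r
    rfl
  · intro a
    exact hφK a


theorem ker_factor {P : Type*} [CommRing P] (S T : Ideal P) (p : P)
    (hT : T = S ⊔ Ideal.span {p}) (H : S ≤ T) :
    RingHom.ker (Ideal.Quotient.factor H) = Ideal.span {Ideal.Quotient.mk S p} := by
  apply le_antisymm
  · intro x hx
    obtain ⟨a, rfl⟩ := Ideal.Quotient.mk_surjective x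
    rw [RingHom.mem_ker, Ideal.Quotient.factor_mk, Ideal.Quotient.eq_zero_iff_mem, hT] at hx
    obtain ⟨s, hs, y, hy, rfl⟩ := Submodule.mem_sup.mp hx
    obtain ⟨c, rfl⟩ := Ideal.mem_span_singleton'.mp hy
    rw [map_add, Ideal.Quotient.eq_zero_iff_mem.mpr hs, zero_add, map_mul]
    exact Ideal.mul_mem_left _ _ (Ideal.subset_span rfl)
  · rw [Ideal.span_le]
    rintro _ rfl
    rw [SetLike.mem_coe, RingHom.mem_ker, Ideal.Quotient.factor_mk, Ideal.Quotient.eq_zero_iff_mem,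
      hT]
    exact Ideal.mem_sup_right (Ideal.subset_span rfl)

instance fp_quot (K : Ideal R) :
    Algebra.FinitePresentation (R ⧸ K) (A ⧸ K.map (algebraMap R A)) := by
  haveI : Algebra.FinitePresentation R (A ⧸ K.map (algebraMap R A)) :=
    Algebra.FinitePresentation.quotient (Ideal.FG.map (IsNoetherian.noetherian K) _)
  exact Algebra.FinitePresentation.of_restrict_scalars_finitePresentation R (R ⧸ K) _

theorem step_quot (K₀ K₁ : Ideal R) (π : R) (hK₁ : K₁ = K₀ ⊔ Ideal.span {π ^ 8})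
    (hK₀𝔮 : K₀.map (algebraMap R Λ) ≤ 𝔮) (hπ𝔮 : algebraMap R Λ π ∈ 𝔮)
    (hR : ∀ x : R, π ^ 2 * x ∈ K₀ → π * x ∈ K₀)
    (hΛ : ∀ y : Λ, algebraMap R Λ π ^ 2 * y ∈ K₀.map (algebraMap R Λ) →
      algebraMap R Λ π * y ∈ K₀.map (algebraMap R Λ))
    (hstd : IsStrictlyStandard R A (algebraMap R A π))
    (h : ResK φ 𝔮 K₁) : ResK φ 𝔮 K₀ := by
  obtain ⟨φK₁, hφK₁, hres⟩ := h
  have hle : K₀ ≤ K₁ := by rw [hK₁]; exact le_sup_left
  have hleA : K₀.map (algebraMap R A) ≤ K₁.map (algebraMap R A) := Ideal.map_mono hle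
  have hleΛ : K₀.map (algebraMap R Λ) ≤ K₁.map (algebraMap R Λ) := Ideal.map_mono hle
  have hK₁A : K₁.map (algebraMap R A) = K₀.map (algebraMap R A) ⊔
      Ideal.span {algebraMap R A (π ^ 8)} := by
    rw [hK₁, Ideal.map_sup, Ideal.map_span, Set.image_singleton]
  have hK₁Λ : K₁.map (algebraMap R Λ) = K₀.map (algebraMap R Λ) ⊔
      Ideal.span {algebraMap R Λ (π ^ 8)} := by
    rw [hK₁, Ideal.map_sup, Ideal.map_span, Set.image_singleton]
  have hcomap : K₀.map (algebraMap R A) ≤ (K₀.map (algebraMap R Λ)).comap φ.toRingHom := by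
    rw [Ideal.map_le_iff_le_comap]
    intro k hk
    rw [Ideal.mem_comap, Ideal.mem_comap]
    change φ (algebraMap R A k) ∈ _
    rw [AlgHom.commutes]
    exact Ideal.mem_map_of_mem _ hk
  let φ₀ : (A ⧸ K₀.map (algebraMap R A)) →ₐ[R ⧸ K₀] (Λ ⧸ K₀.map (algebraMap R Λ)) :=
    { toRingHom := Ideal.quotientMap (K₀.map (algebraMap R Λ)) φ.toRingHom hcomap
      commutes' := by
        intro r
        obtain ⟨r, rfl⟩ := Ideal.Quotient.mk_surjective r
        change Ideal.quotientMap _ φ.toRingHom hcomap (Ideal.Quotient.mk _ (algebraMap R A r)) = _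
        rw [Ideal.quotientMap_mk]
        change Ideal.Quotient.mk _ (φ (algebraMap R A r)) = _
        rw [AlgHom.commutes]
        rfl }
  have hφ₀ : ∀ a : A, φ₀ (Ideal.Quotient.mk _ a) = Ideal.Quotient.mk _ (φ a) := fun a => rfl
  refine ⟨φ₀, hφ₀, ?_⟩
  haveI h𝔮₀ : (𝔮.map (Ideal.Quotient.mk (K₀.map (algebraMap R Λ)))).IsPrime :=
    Ideal.map_isPrime_of_surjective Ideal.Quotient.mk_surjective (by rw [Ideal.mk_ker]; exact hK₀𝔮)
  have hstd₀ : IsStrictlyStandard (R ⧸ K₀) (A ⧸ K₀.map (algebraMap R A))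
      (algebraMap (R ⧸ K₀) (A ⧸ K₀.map (algebraMap R A)) (Ideal.Quotient.mk K₀ π)) := by
    have h1 := (Groth.Agent.S6829.result (R := R) (A := A) (R' := R ⧸ K₀) (algebraMap R A π)).2 hstd
    let e := Algebra.TensorProduct.quotIdealMapEquivQuotTensor A K₀
    have h2 := RS2.isStrictlyStandard_of_algEquiv e.symm _ h1
    have h3 : e.symm ((1 : R ⧸ K₀) ⊗ₜ[R] algebraMap R A π) =
        algebraMap (R ⧸ K₀) (A ⧸ K₀.map (algebraMap R A)) (Ideal.Quotient.mk K₀ π) := by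
      rw [AlgEquiv.symm_apply_eq]
      rfl
    rw [h3] at h2
    exact h2
  refine RS2.step_abs φ₀ (𝔮.map (Ideal.Quotient.mk (K₀.map (algebraMap R Λ))))
    (Ideal.Quotient.mk K₀ π) ?_ ?_ ?_ hstd₀ φK₁
    (Ideal.Quotient.factor hle) (Ideal.Quotient.factor_surjective hle) ?_
    (Ideal.Quotient.factor hleA) (Ideal.Quotient.factor_surjective hleA) ?_ ?_
    (Ideal.Quotient.factor hleΛ) (Ideal.Quotient.factor_surjective hleΛ) ?_ ?_ ?_ ?_
  · exact Ideal.mem_map_of_mem _ hπ𝔮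
  · intro x hx
    obtain ⟨x, rfl⟩ := Ideal.Quotient.mk_surjective x
    rw [← map_pow, ← map_mul, Ideal.Quotient.eq_zero_iff_mem] at hx
    rw [← map_mul, Ideal.Quotient.eq_zero_iff_mem]
    exact hR x hx
  · intro x hx
    obtain ⟨y, rfl⟩ := Ideal.Quotient.mk_surjective x
    rw [Algebra.smul_def] at hx ⊢
    have e1 : algebraMap (R ⧸ K₀) (Λ ⧸ K₀.map (algebraMap R Λ)) (Ideal.Quotient.mk K₀ π ^ 2) =
        Ideal.Quotient.mk _ (algebraMap R Λ π ^ 2) := by
      rw [← map_pow, ← map_pow]; rfl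
    have e2 : algebraMap (R ⧸ K₀) (Λ ⧸ K₀.map (algebraMap R Λ)) (Ideal.Quotient.mk K₀ π) =
        Ideal.Quotient.mk _ (algebraMap R Λ π) := rfl
    rw [e1, ← map_mul, Ideal.Quotient.eq_zero_iff_mem] at hx
    rw [e2, ← map_mul, Ideal.Quotient.eq_zero_iff_mem]
    exact hΛ y hx
  · rw [← map_pow]
    exact ker_factor K₀ K₁ (π ^ 8) hK₁ hle
  · have := ker_factor (K₀.map (algebraMap R A)) (K₁.map (algebraMap R A)) (algebraMap R A (π ^ 8))
      hK₁A hleA
    rw [this, ← map_pow]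
    rfl
  · intro r
    obtain ⟨r, rfl⟩ := Ideal.Quotient.mk_surjective r
    rfl
  · have := ker_factor (K₀.map (algebraMap R Λ)) (K₁.map (algebraMap R Λ)) (algebraMap R Λ (π ^ 8))
      hK₁Λ hleΛ
    rw [this, ← map_pow]
    rfl
  · intro r
    obtain ⟨r, rfl⟩ := Ideal.Quotient.mk_surjective r
    rfl
  · intro a
    obtain ⟨a, rfl⟩ := Ideal.Quotient.mk_surjective a
    rw [Ideal.Quotient.factor_mk, hφK₁, hφ₀, Ideal.Quotient.factor_mk]
  · rw [Ideal.map_map, Ideal.Quotient.factor_comp_mk]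
    exact hres

end Groth.Agent.Lib.Helper8.RS3
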