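import Mathlib
import Groth.Prelude.Def_Smoothing
import Groth.Agent.Lib.Helper8.AZ1
import Groth.Agent.Lib.Helper8.LQ1
import Groth.Agent.Lib.Helper8.GS1
import Groth.Agent.Lib.Helper8.FL1
import Groth.Agent.Lib.Helper8.IS2
import Groth.Agent.Lib.Helper8.RS3

set_option backward.isDefEq.respectTransparency.types false
set_option autoImplicit false
set_option linter.unusedSectionVars false
set_option linter.style.haveILetI false

/-!
# The Artinian step: resolving modulo powers of a regular system of parameters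
-/

namespace Groth.Agent.Lib.Helper8.FN1

open Smoothing MvPolynomial IsLocalRing

universe u

/-- quotient by an ideal whose radical is a maximal ideal `𝔪`: the nilradical is the image of `𝔪`
and it is maximal. -/
theorem nilradical_quotient {P : Type*} [CommRing P] (𝔪 K : Ideal P) [𝔪.IsMaximal] (hK : K ≤ 𝔪)
    (hrad : 𝔪 ≤ K.radical) :
    nilradical (P ⧸ K) = 𝔪.map (Ideal.Quotient.mk K) ∧ (nilradical (P ⧸ K)).IsMaximal := by
  have hmem : ∀ b : P, Ideal.Quotient.mk K b ∈ 𝔪.map (Ideal.Quotient.mk K) ↔ b ∈ 𝔪 := by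
    intro b
    rw [Ideal.mem_map_iff_of_surjective _ Ideal.Quotient.mk_surjective]
    constructor
    · rintro ⟨c, hc, hcb⟩
      have : c - b ∈ K := Ideal.Quotient.eq.mp hcb
      have h2 : b = c - (c - b) := by ring
      rw [h2]
      exact Ideal.sub_mem _ hc (hK this)
    · intro hb
      exact ⟨b, hb, rfl⟩
  have heq : nilradical (P ⧸ K) = 𝔪.map (Ideal.Quotient.mk K) := by
    ext x
    obtain ⟨b, rfl⟩ := Ideal.Quotient.mk_surjective x
    rw [hmem, mem_nilradical]
    constructor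
    · rintro ⟨n, hn⟩
      rw [← map_pow, Ideal.Quotient.eq_zero_iff_mem] at hn
      exact (Ideal.IsMaximal.isPrime ‹_›).mem_of_pow_mem n (hK hn)
    · intro hb
      obtain ⟨n, hn⟩ := hrad hb
      exact ⟨n, by rw [← map_pow, Ideal.Quotient.eq_zero_iff_mem]; exact hn⟩
  refine ⟨heq, ?_⟩
  rw [heq]
  exact Ideal.IsMaximal.map_of_surjective_of_ker_le Ideal.Quotient.mk_surjective
    (by rw [Ideal.mk_ker]; exact hK)

theorem isUnit_or_isNilpotent {P : Type*} [CommRing P] (𝔪 K : Ideal P) [𝔪.IsMaximal] (hK : K ≤ 𝔪)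
    (hrad : 𝔪 ≤ K.radical) (x : P ⧸ K) : ¬ IsUnit x → IsNilpotent x := by
  haveI := (nilradical_quotient 𝔪 K hK hrad).2
  intro hx
  exact (((Ring.krullDimLE_zero_and_isLocalRing_tfae (P ⧸ K)).out 3 2 rfl rfl).mp ‹_› x).mpr hx

theorem ringKrullDim_quotient_eq_zero {P : Type*} [CommRing P] (𝔪 K : Ideal P) [𝔪.IsMaximal]
    (hK : K ≤ 𝔪) (hrad : 𝔪 ≤ K.radical) : ringKrullDim (P ⧸ K) = 0 := by
  haveI := (nilradical_quotient 𝔪 K hK hrad).2
  haveI : Nontrivial (P ⧸ K) := Ideal.Quotient.nontrivial_iff.mpr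
    (fun h => (Ideal.IsMaximal.ne_top ‹𝔪.IsMaximal›) (top_le_iff.mp (h ▸ hK)))
  exact ringKrullDimZero_iff_ringKrullDim_eq_zero.mp (Ring.KrullDimLE.of_isMaximal_nilradical _)

/-- `k ≃ k[x]/(x)`. -/
noncomputable def equivQuotVars (k : Type*) [Field k] (d : ℕ) :
    k ≃+* MvPolynomial (Fin d) k ⧸ Ideal.span (Set.range (X : Fin d → MvPolynomial (Fin d) k)) :=
  RingEquiv.ofBijective ((Ideal.Quotient.mk _).comp (C : k →+* MvPolynomial (Fin d) k)) (by
    have hne : Ideal.span (Set.range (X : Fin d → MvPolynomial (Fin d) k)) ≠ ⊤ := by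
      rw [FL1.idealOfVars_eq_ker]
      exact RingHom.ker_ne_top _
    haveI : Nontrivial (MvPolynomial (Fin d) k ⧸
        Ideal.span (Set.range (X : Fin d → MvPolynomial (Fin d) k))) :=
      Ideal.Quotient.nontrivial_iff.mpr hne
    refine ⟨RingHom.injective _, ?_⟩
    intro x
    obtain ⟨f, rfl⟩ := Ideal.Quotient.mk_surjective x
    refine ⟨constantCoeff f, ?_⟩
    rw [RingHom.comp_apply, Ideal.Quotient.eq, FL1.idealOfVars_eq_ker, RingHom.mem_ker, map_sub,
      constantCoeff_C, sub_self])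

theorem equivQuotVars_apply (k : Type*) [Field k] (d : ℕ) (c : k) :
    equivQuotVars k d c = Ideal.Quotient.mk _ (C c) := rfl

end Groth.Agent.Lib.Helper8.FN1
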