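import Mathlib
import Groth.Prelude.Def_Smoothing
import Groth.Agent.Lib.Helper8.FN1

set_option backward.isDefEq.respectTransparency.types false
set_option autoImplicit false
set_option linter.unusedSectionVars false
set_option linter.style.haveILetI false

namespace Groth.Agent.Lib.Helper8.FN2

open Smoothing MvPolynomial IsLocalRing Groth.Agent.Lib.Helper8

universe u

theorem indSmooth_quot {k : Type u} [Field k] {d : ℕ} (T : Type u) [CommRing T]
    [IsRegularLocalRing T] [Algebra (MvPolynomial (Fin d) k) T] [Algebra k T]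
    [IsScalarTower k (MvPolynomial (Fin d) k) T] (hd : ringKrullDim T = d)
    (hspan : Ideal.span (Set.range fun i => algebraMap (MvPolynomial (Fin d) k) T (X i)) =
      maximalIdeal T)
    (hres : IndSmooth k (ResidueField T))
    (K : Ideal (MvPolynomial (Fin d) k))
    (hK1 : K ≤ Ideal.span (Set.range (X : Fin d → MvPolynomial (Fin d) k)))
    (hK2 : ∀ i : Fin d, ∃ m : ℕ, (X i : MvPolynomial (Fin d) k) ^ m ∈ K) :
    IndSmooth (MvPolynomial (Fin d) k ⧸ K)
      (T ⧸ K.map (algebraMap (MvPolynomial (Fin d) k) T)) := by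
  haveI : Module.Flat (MvPolynomial (Fin d) k) T := FL1.flat_of_regular T hd hspan
  haveI := IS2.flat_quotient (R := MvPolynomial (Fin d) k) (Λ := T) K
  haveI hmax : (Ideal.span (Set.range (X : Fin d → MvPolynomial (Fin d) k))).IsMaximal := by
    rw [FL1.idealOfVars_eq_ker]
    exact RingHom.ker_isMaximal_of_surjective _ (fun c => ⟨C c, constantCoeff_C _ c⟩)
  have h𝔪T : (Ideal.span (Set.range (X : Fin d → MvPolynomial (Fin d) k))).map
      (algebraMap (MvPolynomial (Fin d) k) T) = maximalIdeal T := by
    rw [Ideal.map_span, ← hspan, ← Set.range_comp]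
    rfl
  have hrad : Ideal.span (Set.range (X : Fin d → MvPolynomial (Fin d) k)) ≤ K.radical := by
    rw [Ideal.span_le]
    rintro _ ⟨i, rfl⟩
    exact hK2 i
  have h' : IndSmooth (MvPolynomial (Fin d) k ⧸
      Ideal.span (Set.range (X : Fin d → MvPolynomial (Fin d) k)))
      (T ⧸ (Ideal.span (Set.range (X : Fin d → MvPolynomial (Fin d) k))).map
        (algebraMap (MvPolynomial (Fin d) k) T)) := by
    refine IS2.indSmooth_of_ringEquiv (FN1.equivQuotVars k d)
      (Ideal.quotEquivOfEq h𝔪T.symm : T ⧸ maximalIdeal T ≃+* _) ?_ hres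
    intro c
    show Ideal.Quotient.mk _ (algebraMap k T c) = Ideal.Quotient.mk _
      (algebraMap (MvPolynomial (Fin d) k) T (C c))
    rw [IsScalarTower.algebraMap_apply k (MvPolynomial (Fin d) k) T]
    rfl
  have h2 := IS2.indSmooth_doubleQuot K _ hK1 h'
  have hnil : IsNilpotent ((Ideal.span (Set.range (X : Fin d → MvPolynomial (Fin d) k))).map
      (Ideal.Quotient.mk K)) := by
    have hfg : ((Ideal.span (Set.range (X : Fin d → MvPolynomial (Fin d) k))).map
        (Ideal.Quotient.mk K)).FG := IsNoetherian.noetherian _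
    rw [hfg.isNilpotent_iff_le_nilradical]
    exact le_of_eq (FN1.nilradical_quotient _ K hK1 hrad).1.symm
  exact IS2.main2022 _ hnil h2

end Groth.Agent.Lib.Helper8.FN2
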