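import Mathlib
import Groth.Prelude.Def_Smoothing
import Groth.Agent.Lib.Helper8.FN2

set_option backward.isDefEq.respectTransparency.types false
set_option autoImplicit false
set_option linter.unusedSectionVars false
set_option linter.style.haveILetI false

namespace Groth.Agent.Lib.Helper8.FN3

open Smoothing MvPolynomial IsLocalRing Groth.Agent.Lib.Helper8

universe u

theorem artinian_step {k : Type u} [Field k] {d : ℕ} {Cr Λ : Type u} [CommRing Cr]
    [Algebra (MvPolynomial (Fin d) k) Cr] [Algebra.FinitePresentation (MvPolynomial (Fin d) k) Cr]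
    [CommRing Λ] [Algebra (MvPolynomial (Fin d) k) Λ] [Algebra k Λ]
    [IsScalarTower k (MvPolynomial (Fin d) k) Λ]
    (𝔮 : Ideal Λ) [𝔮.IsPrime] [IsRegularLocalRing (Localization.AtPrime 𝔮)]
    [Algebra.IsGeometricallyReduced k 𝔮.ResidueField]
    (hd : ringKrullDim (Localization.AtPrime 𝔮) = d)
    (hspan : Ideal.span (Set.range fun i =>
      algebraMap (MvPolynomial (Fin d) k) (Localization.AtPrime 𝔮) (X i)) =
        maximalIdeal (Localization.AtPrime 𝔮))
    (K : Ideal (MvPolynomial (Fin d) k))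
    (hK1 : K ≤ Ideal.span (Set.range (X : Fin d → MvPolynomial (Fin d) k)))
    (hK2 : ∀ i : Fin d, ∃ m : ℕ, (X i : MvPolynomial (Fin d) k) ^ m ∈ K)
    (φK : (Cr ⧸ K.map (algebraMap (MvPolynomial (Fin d) k) Cr)) →ₐ[MvPolynomial (Fin d) k ⧸ K]
      (Λ ⧸ K.map (algebraMap (MvPolynomial (Fin d) k) Λ)))
    (hmin : 𝔮.map (Ideal.Quotient.mk (K.map (algebraMap (MvPolynomial (Fin d) k) Λ))) ∈
      (singRad (MvPolynomial (Fin d) k ⧸ K) φK).minimalPrimes) :
    Resolvable (MvPolynomial (Fin d) k ⧸ K) φK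
      (𝔮.map (Ideal.Quotient.mk (K.map (algebraMap (MvPolynomial (Fin d) k) Λ)))) := by
  haveI hprime : (𝔮.map (Ideal.Quotient.mk
      (K.map (algebraMap (MvPolynomial (Fin d) k) Λ)))).IsPrime := hmin.1.1
  haveI : IsScalarTower k (MvPolynomial (Fin d) k) (Localization.AtPrime 𝔮) := by
    refine IsScalarTower.of_algebraMap_eq (fun c => ?_)
    rw [IsScalarTower.algebraMap_apply k Λ (Localization.AtPrime 𝔮),
      IsScalarTower.algebraMap_apply k (MvPolynomial (Fin d) k) Λ,
      ← IsScalarTower.algebraMap_apply (MvPolynomial (Fin d) k) Λ (Localization.AtPrime 𝔮)]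
  haveI hmax : (Ideal.span (Set.range (X : Fin d → MvPolynomial (Fin d) k))).IsMaximal := by
    rw [FL1.idealOfVars_eq_ker]
    exact RingHom.ker_isMaximal_of_surjective _ (fun c => ⟨C c, constantCoeff_C _ c⟩)
  have hrad : Ideal.span (Set.range (X : Fin d → MvPolynomial (Fin d) k)) ≤ K.radical := by
    rw [Ideal.span_le]
    rintro _ ⟨i, rfl⟩
    exact hK2 i
  -- the images of the variables lie in `𝔮`
  have hX𝔮 : ∀ i : Fin d, algebraMap (MvPolynomial (Fin d) k) Λ (X i) ∈ 𝔮 := by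
    intro i
    rw [← IsLocalization.AtPrime.to_map_mem_maximal_iff (Localization.AtPrime 𝔮) 𝔮,
      ← IsScalarTower.algebraMap_apply, ← hspan]
    exact Ideal.subset_span ⟨i, rfl⟩
  have hK𝔮 : K.map (algebraMap (MvPolynomial (Fin d) k) Λ) ≤ 𝔮 := by
    refine (Ideal.map_mono hK1).trans ?_
    rw [Ideal.map_span, Ideal.span_le]
    rintro _ ⟨_, ⟨i, rfl⟩, rfl⟩
    exact hX𝔮 i
  have hJ' : K.map (algebraMap (MvPolynomial (Fin d) k) (Localization.AtPrime 𝔮)) =
      (K.map (algebraMap (MvPolynomial (Fin d) k) Λ)).map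
        (algebraMap Λ (Localization.AtPrime 𝔮)) := by
    rw [Ideal.map_map, ← IsScalarTower.algebraMap_eq]
  have hle : K.map (algebraMap (MvPolynomial (Fin d) k) Λ) ≤
      (K.map (algebraMap (MvPolynomial (Fin d) k) (Localization.AtPrime 𝔮))).comap
        (algebraMap Λ (Localization.AtPrime 𝔮)) := by
    rw [hJ']
    exact Ideal.le_comap_map
  letI alg1 : Algebra (Λ ⧸ K.map (algebraMap (MvPolynomial (Fin d) k) Λ))
      (Localization.AtPrime 𝔮 ⧸
        K.map (algebraMap (MvPolynomial (Fin d) k) (Localization.AtPrime 𝔮))) :=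
    (Ideal.quotientMap _ (algebraMap Λ (Localization.AtPrime 𝔮)) hle).toAlgebra
  have halg : ∀ x : Λ, algebraMap (Λ ⧸ K.map (algebraMap (MvPolynomial (Fin d) k) Λ))
      (Localization.AtPrime 𝔮 ⧸
        K.map (algebraMap (MvPolynomial (Fin d) k) (Localization.AtPrime 𝔮)))
      (Ideal.Quotient.mk _ x) = Ideal.Quotient.mk _ (algebraMap Λ (Localization.AtPrime 𝔮) x) :=
    fun x => rfl
  haveI : IsScalarTower (MvPolynomial (Fin d) k ⧸ K)
      (Λ ⧸ K.map (algebraMap (MvPolynomial (Fin d) k) Λ))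
      (Localization.AtPrime 𝔮 ⧸
        K.map (algebraMap (MvPolynomial (Fin d) k) (Localization.AtPrime 𝔮))) := by
    refine IsScalarTower.of_algebraMap_eq (fun r => ?_)
    obtain ⟨r, rfl⟩ := Ideal.Quotient.mk_surjective r
    show Ideal.Quotient.mk _ (algebraMap _ _ r) = Ideal.Quotient.mk _ (algebraMap Λ _ (algebraMap _ Λ r))
    rw [← IsScalarTower.algebraMap_apply]
  haveI : IsLocalization.AtPrime (Localization.AtPrime 𝔮 ⧸
        K.map (algebraMap (MvPolynomial (Fin d) k) (Localization.AtPrime 𝔮)))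
      (𝔮.map (Ideal.Quotient.mk (K.map (algebraMap (MvPolynomial (Fin d) k) Λ)))) :=
    LQ1.isLocalization_atPrime_quotient 𝔮 (Localization.AtPrime 𝔮) _ hK𝔮 _ hJ' halg
  have h𝔪T : (Ideal.span (Set.range (X : Fin d → MvPolynomial (Fin d) k))).map
      (algebraMap (MvPolynomial (Fin d) k) (Localization.AtPrime 𝔮)) =
        maximalIdeal (Localization.AtPrime 𝔮) := by
    rw [Ideal.map_span, ← hspan, ← Set.range_comp]
    rfl
  refine AZ1.resolvable_of_indSmooth_localization (Λq := Localization.AtPrime 𝔮 ⧸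
        K.map (algebraMap (MvPolynomial (Fin d) k) (Localization.AtPrime 𝔮))) φK _ hmin ?_ ?_ ?_
  · -- units
    intro r hr
    by_contra hu
    obtain ⟨m, hm⟩ := FN1.isUnit_or_isNilpotent _ K hK1 hrad r hu
    apply hr
    apply hprime.mem_of_pow_mem m
    rw [← map_pow, hm, map_zero]
    exact Ideal.zero_mem _
  · -- dimension
    refine FN1.ringKrullDim_quotient_eq_zero (maximalIdeal (Localization.AtPrime 𝔮)) _ ?_ ?_
    · rw [← h𝔪T]
      exact Ideal.map_mono hK1
    · rw [← h𝔪T, Ideal.map_le_iff_le_comap]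
      refine hrad.trans ?_
      intro x ⟨m, hm⟩
      exact ⟨m, by rw [← map_pow]; exact Ideal.mem_map_of_mem _ hm⟩
  · exact FN2.indSmooth_quot (Localization.AtPrime 𝔮) hd hspan
      (GS1.indSmooth_of_isGeometricallyReduced k 𝔮.ResidueField) K hK1 hK2

end Groth.Agent.Lib.Helper8.FN3
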