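import Mathlib
import Groth.Prelude.Def_Smoothing
import Groth.Agent.Lib.Helper8.FN3
import Groth.Agent.Lib.Helper8.SI1
import Groth.Agent.Lib.Helper8.RS3

set_option backward.isDefEq.respectTransparency.types false
set_option autoImplicit false
set_option linter.unusedSectionVars false
set_option linter.style.haveILetI false

namespace Groth.Agent.Lib.Helper8.FN4

open Smoothing IsLocalRing Groth.Agent.Lib.Helper8

universe u

theorem singularIdeal_quot_mem {R C : Type u} [CommRing R] [CommRing C] [Algebra R C]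
    (K : Ideal R) (c : C) (hc : c ∈ singularIdeal R C) :
    Ideal.Quotient.mk (K.map (algebraMap R C)) c ∈
      singularIdeal (R ⧸ K) (C ⧸ K.map (algebraMap R C)) := by
  unfold singularIdeal at hc ⊢
  rw [PrimeSpectrum.mem_vanishingIdeal] at hc ⊢
  intro x hx
  have hx' : ¬ Algebra.IsSmoothAt (R ⧸ K) x.asIdeal := hx
  have h0 : ¬ Algebra.IsSmoothAt R (x.asIdeal.comap (Ideal.Quotient.mk (K.map (algebraMap R C)))) := by
    intro h
    apply hx'
    refine RS1.isSmoothAt_of_surjective (Ideal.Quotient.mk K) Ideal.Quotient.mk_surjective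
      (Ideal.Quotient.mk (K.map (algebraMap R C))) Ideal.Quotient.mk_surjective (fun r => rfl) ?_
      x.asIdeal h
    rw [Ideal.mk_ker, Ideal.mk_ker]
  have := hc ⟨x.asIdeal.comap (Ideal.Quotient.mk (K.map (algebraMap R C))), inferInstance⟩ h0
  exact this

/-- transfer of the problem to the quotient: either the quotient problem is trivially resolved, or the
prime stays minimal. -/
theorem resolvable_quot {R C Λ : Type u} [CommRing R] [IsNoetherianRing R] [CommRing C]
    [Algebra R C] [Algebra.FinitePresentation R C] [CommRing Λ] [Algebra R Λ] (φC : C →ₐ[R] Λ)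
    (𝔮 : Ideal Λ) [𝔮.IsPrime] (I : Ideal Λ) (hmin : 𝔮 ∈ I.minimalPrimes)
    (hI : I ≤ singRad R φC) (K : Ideal R) (hK𝔮 : K.map (algebraMap R Λ) ≤ 𝔮)
    (φK : (C ⧸ K.map (algebraMap R C)) →ₐ[R ⧸ K] (Λ ⧸ K.map (algebraMap R Λ)))
    (hφK : ∀ c : C, φK (Ideal.Quotient.mk _ c) = Ideal.Quotient.mk _ (φC c))
    (hart : 𝔮.map (Ideal.Quotient.mk (K.map (algebraMap R Λ))) ∈
        (singRad (R ⧸ K) φK).minimalPrimes →
      Resolvable (R ⧸ K) φK (𝔮.map (Ideal.Quotient.mk (K.map (algebraMap R Λ))))) :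
    Resolvable (R ⧸ K) φK (𝔮.map (Ideal.Quotient.mk (K.map (algebraMap R Λ)))) := by
  by_cases hle : singRad (R ⧸ K) φK ≤ 𝔮.map (Ideal.Quotient.mk (K.map (algebraMap R Λ)))
  · apply hart
    have hcomap : (𝔮.map (Ideal.Quotient.mk (K.map (algebraMap R Λ)))).comap
        (Ideal.Quotient.mk (K.map (algebraMap R Λ))) = 𝔮 :=
      RS2.comap_map_eq _ Ideal.Quotient.mk_surjective 𝔮 (by rw [Ideal.mk_ker]; exact hK𝔮)
    have hprime : (𝔮.map (Ideal.Quotient.mk (K.map (algebraMap R Λ)))).IsPrime := by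
      apply Ideal.map_isPrime_of_surjective Ideal.Quotient.mk_surjective
      rw [Ideal.mk_ker]
      exact hK𝔮
    refine ⟨⟨hprime, hle⟩, ?_⟩
    rintro 𝔭' ⟨h𝔭'prime, h𝔭'le⟩ h𝔭'𝔮
    haveI := h𝔭'prime
    -- the prime downstairs
    have h1 : I ≤ 𝔭'.comap (Ideal.Quotient.mk (K.map (algebraMap R Λ))) := by
      refine hI.trans ?_
      unfold singRad
      rw [Ideal.IsPrime.radical_le_iff (Ideal.comap_isPrime _ _), Ideal.map_le_iff_le_comap]
      intro c hc
      rw [Ideal.mem_comap, Ideal.mem_comap]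
      apply h𝔭'le
      apply Ideal.le_radical
      have : Ideal.Quotient.mk (K.map (algebraMap R Λ)) (φC c) =
          φK (Ideal.Quotient.mk _ c) := (hφK c).symm
      rw [this]
      exact Ideal.mem_map_of_mem _ (singularIdeal_quot_mem K c hc)
    have h2 : 𝔭'.comap (Ideal.Quotient.mk (K.map (algebraMap R Λ))) ≤ 𝔮 := by
      rw [← hcomap]
      exact Ideal.comap_mono h𝔭'𝔮
    have h3 : 𝔮 ≤ 𝔭'.comap (Ideal.Quotient.mk (K.map (algebraMap R Λ))) :=
      hmin.2 ⟨Ideal.comap_isPrime _ _, h1⟩ h2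
    rw [Ideal.map_le_iff_le_comap]
    exact h3
  · refine ⟨C ⧸ K.map (algebraMap R C), inferInstance, inferInstance, RS3.fp_quot K,
      AlgHom.id _ _, φK, AlgHom.comp_id _, le_refl _, hle⟩

end Groth.Agent.Lib.Helper8.FN4
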