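import Mathlib
import Groth.Prelude.Def_Smoothing

set_option backward.isDefEq.respectTransparency.types false
set_option autoImplicit false
set_option linter.unusedSectionVars false
set_option linter.style.haveILetI false

namespace Groth.Agent.Lib.Helper8.FN5

open Smoothing

universe u

theorem singularIdeal_le_of_formallySmooth (k R D : Type u) [CommRing k] [CommRing R] [CommRing D]
    [Algebra k R] [Algebra R D] [Algebra k D] [IsScalarTower k R D] [Algebra.FormallySmooth k R] :
    singularIdeal R D ≤ singularIdeal k D := by
  unfold singularIdeal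
  apply PrimeSpectrum.vanishingIdeal_anti_mono
  intro x hx hx'
  apply hx
  have h1 : Algebra.IsSmoothAt R x.asIdeal := hx'
  haveI : Algebra.FormallySmooth R (Localization.AtPrime x.asIdeal) := h1
  show Algebra.FormallySmooth k (Localization.AtPrime x.asIdeal)
  exact Algebra.FormallySmooth.comp k R (Localization.AtPrime x.asIdeal)

theorem singRad_le_of_formallySmooth {k R D Λ : Type u} [CommRing k] [CommRing R] [CommRing D]
    [Algebra k R] [Algebra R D] [Algebra k D] [IsScalarTower k R D] [Algebra.FormallySmooth k R]
    [CommRing Λ] [Algebra R Λ] [Algebra k Λ] [IsScalarTower k R Λ] (h : D →ₐ[R] Λ) :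
    singRad R h ≤ singRad k (h.restrictScalars k) := by
  unfold singRad
  apply Ideal.radical_mono
  rw [Ideal.map_le_iff_le_comap]
  intro x hx
  exact Ideal.mem_map_of_mem (h.restrictScalars k)
    (singularIdeal_le_of_formallySmooth k R D hx)

/-- descent of a resolution over a smooth base to the ground ring -/
theorem descent {k R A C Λ : Type u} [CommRing k] [CommRing R] [Algebra k R]
    [Algebra.FormallySmooth k R] [Algebra.FinitePresentation k R]
    [CommRing A] [Algebra k A] [CommRing C] [Algebra R C] [Algebra k C] [IsScalarTower k R C]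
    [CommRing Λ] [Algebra R Λ] [Algebra k Λ] [IsScalarTower k R Λ]
    (φ : A →ₐ[k] Λ) (φC : C →ₐ[R] Λ) (gC : A →ₐ[k] C) (hcomp : ∀ a, φC (gC a) = φ a)
    (hH : singRad k φ ≤ singRad R φC) (𝔮 : Ideal Λ) (hres : Resolvable R φC 𝔮) :
    Resolvable k φ 𝔮 := by
  obtain ⟨D, _, _, hDfp, g', h', hh'g', hsr, hnot⟩ := hres
  haveI := hDfp
  letI algkD : Algebra k D := ((algebraMap R D).comp (algebraMap k R)).toAlgebra
  haveI : IsScalarTower k R D := IsScalarTower.of_algebraMap_eq fun r => rfl
  haveI : Algebra.FinitePresentation k D := Algebra.FinitePresentation.trans k R D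
  refine ⟨D, inferInstance, algkD, inferInstance, (g'.restrictScalars k).comp gC,
    h'.restrictScalars k, ?_, ?_, ?_⟩
  · ext a
    show h' (g' (gC a)) = φ a
    rw [← hcomp]
    exact DFunLike.congr_fun hh'g' (gC a)
  · exact (hH.trans hsr).trans (singRad_le_of_formallySmooth h')
  · intro hle
    exact hnot ((singRad_le_of_formallySmooth h').trans hle)

end Groth.Agent.Lib.Helper8.FN5
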