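import Mathlib
import Groth.Prelude.Def_Smoothing
import Groth.Agent.Lib.Helper8.SI1
import Groth.Agent.Lib.Helper8.LL1
import Groth.Agent.Lib.Helper8.DS5

set_option backward.isDefEq.respectTransparency.types false
set_option autoImplicit false
set_option linter.unusedSectionVars false
set_option linter.style.haveILetI false

/-!
# The algebra `B = (R ⊗ A)[z_ij]/(x_i^n - ∑ z_ij a_j)` over `R = k[x_1..x_d]`
-/

namespace Groth.Agent.Lib.Helper8.BB1

open MvPolynomial TensorProduct Smoothing

universe u

variable (k : Type u) [CommRing k] (A : Type u) [CommRing A] [Algebra k A] (d r n : ℕ)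

/-- the base change `k[x] ⊗ A` (wrapped, to keep instance paths uniform). -/
def A' : Type u := MvPolynomial (Fin d) k ⊗[k] A

noncomputable instance : CommRing (A' k A d) :=
  inferInstanceAs (CommRing (MvPolynomial (Fin d) k ⊗[k] A))
noncomputable instance : Algebra (MvPolynomial (Fin d) k) (A' k A d) :=
  inferInstanceAs (Algebra (MvPolynomial (Fin d) k) (MvPolynomial (Fin d) k ⊗[k] A))
noncomputable instance : Algebra k (A' k A d) :=
  inferInstanceAs (Algebra k (MvPolynomial (Fin d) k ⊗[k] A))
instance : IsScalarTower k (MvPolynomial (Fin d) k) (A' k A d) :=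
  inferInstanceAs (IsScalarTower k (MvPolynomial (Fin d) k) (MvPolynomial (Fin d) k ⊗[k] A))

variable {A}

/-- pure tensors in `A'`. -/
noncomputable def tm (x : MvPolynomial (Fin d) k) (y : A) : A' k A d :=
  (x ⊗ₜ[k] y : MvPolynomial (Fin d) k ⊗[k] A)

variable (a : Fin r → A)

/-- the relations. -/
noncomputable def F (i : Fin d) : MvPolynomial (Fin d × Fin r) (A' k A d) :=
  C (tm k d (X i) (1 : A)) ^ n - ∑ j, X (i, j) * C (tm k d 1 (a j))

/-- the algebra `B`. -/
abbrev BB : Type u :=
  MvPolynomial (Fin d × Fin r) (A' k A d) ⧸ Ideal.span (Set.range (F k d r n a))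

theorem pderiv_F (i i' : Fin d) (j : Fin r) :
    pderiv (i', j) (F k d r n a i) = if i = i' then -C (tm k d 1 (a j)) else 0 := by
  classical
  unfold F
  rw [map_sub, ← map_pow, pderiv_C, zero_sub, map_sum]
  have h1 : ∀ j' : Fin r, pderiv (i', j) (X (i, j') * C (tm k d 1 (a j')) :
      MvPolynomial (Fin d × Fin r) (A' k A d)) =
      if (i, j') = (i', j) then C (tm k d 1 (a j')) else 0 := by
    intro j'
    rw [Derivation.leibniz, pderiv_C, smul_zero, zero_add, pderiv_X, smul_eq_mul,
      Pi.single_apply]
    by_cases h : (i, j') = (i', j)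
    · rw [if_pos h, if_pos h, mul_one]
    · rw [if_neg h, if_neg h, mul_zero]
  rw [Finset.sum_congr rfl (fun j' _ => h1 j')]
  by_cases hi : i = i'
  · subst hi
    rw [if_pos rfl, Finset.sum_eq_single j]
    · rw [if_pos rfl]
    · intro j' _ hj'
      rw [if_neg]
      intro h
      exact hj' (Prod.mk.inj h).2
    · intro h
      exact absurd (Finset.mem_univ j) h
  · rw [if_neg hi, neg_eq_zero]
    apply Finset.sum_eq_zero
    intro j' _
    rw [if_neg]
    intro h
    exact hi (Prod.mk.inj h).1

/-- the image of `a_j` is in the singular ideal of `B` over `A'`. -/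
theorem mk_C_mem_singularIdeal (j : Fin r) :
    Ideal.Quotient.mk (Ideal.span (Set.range (F k d r n a))) (C (tm k d 1 (a j))) ∈
      singularIdeal (A' k A d) (BB k d r n a) := by
  classical
  have h := LL1.mem_singularIdeal_of_minor (R := A' k A d) (F k d r n a)
    (Function.Embedding.refl (Fin d))
    (⟨fun i => (i, j), fun i i' h => (Prod.mk.inj h).1⟩ : Fin d ↪ Fin d × Fin r)
    ((-C (tm k d 1 (a j))) ^ d) 1 ?_ ?_
  · -- radical
    unfold singularIdeal at h ⊢
    rw [PrimeSpectrum.mem_vanishingIdeal] at h ⊢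
    intro p hp
    have h1 := h p hp
    rw [map_pow] at h1
    have h2 := p.2.mem_of_pow_mem d h1
    rw [map_neg] at h2
    exact (Ideal.neg_mem_iff _).mp h2
  · have hdet : Matrix.det (Matrix.of fun i i' : Fin d =>
        pderiv ((⟨fun i => (i, j), fun i i' h => (Prod.mk.inj h).1⟩ : Fin d ↪ Fin d × Fin r) i')
          (F k d r n a (Function.Embedding.refl (Fin d) i))) = (-C (tm k d 1 (a j))) ^ d := by
      have : (Matrix.of fun i i' : Fin d =>
        pderiv ((⟨fun i => (i, j), fun i i' h => (Prod.mk.inj h).1⟩ : Fin d ↪ Fin d × Fin r) i')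
          (F k d r n a (Function.Embedding.refl (Fin d) i))) =
          Matrix.diagonal (fun _ : Fin d => -C (tm k d 1 (a j))) := by
        refine Matrix.ext fun i i' => ?_
        rw [Matrix.of_apply, Matrix.diagonal_apply]
        exact pderiv_F k d r n a i i' j
      rw [this, Matrix.det_diagonal, Finset.prod_const, Finset.card_univ, Fintype.card_fin]
    rw [hdet, one_mul, sub_self]
    exact Ideal.zero_mem _
  · intro ℓ
    refine Ideal.mem_sup_left (Ideal.mul_mem_left _ _ (Ideal.subset_span ⟨ℓ, rfl⟩))

end Groth.Agent.Lib.Helper8.BB1
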