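import Mathlib
import Groth.Prelude.Def_Smoothing
import Groth.Agent.Lib.Helper8.BB1

set_option backward.isDefEq.respectTransparency.types false
set_option autoImplicit false
set_option linter.unusedSectionVars false
set_option linter.style.haveILetI false

namespace Groth.Agent.Lib.Helper8.BB2

open MvPolynomial TensorProduct Smoothing Groth.Agent.Lib.Helper8 Groth.Agent.Lib.Helper8.BB1

universe u

variable (k : Type u) [CommRing k] {A : Type u} [CommRing A] [Algebra k A] (d r n : ℕ)

instance [Algebra.FinitePresentation k A] :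
    Algebra.FinitePresentation (MvPolynomial (Fin d) k) (A' k A d) :=
  inferInstanceAs (Algebra.FinitePresentation (MvPolynomial (Fin d) k)
    (MvPolynomial (Fin d) k ⊗[k] A))

/-- base change of the singular ideal. -/
theorem tm_mem_singularIdeal [Algebra.FinitePresentation k A] (a₀ : A)
    (ha₀ : a₀ ∈ singularIdeal k A) :
    tm k d 1 a₀ ∈ singularIdeal (MvPolynomial (Fin d) k) (A' k A d) := by
  rw [SI1.mem_singularIdeal_iff] at ha₀ ⊢
  haveI := ha₀
  haveI : Algebra.Smooth (MvPolynomial (Fin d) k)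
      (MvPolynomial (Fin d) k ⊗[k] Localization.Away a₀) := inferInstance
  exact Algebra.Smooth.of_equiv
    (IsLocalization.Away.tensorProductEquivTMulRight k (MvPolynomial (Fin d) k) a₀
      (Localization.Away a₀))

/-- the inclusion `A → A'` as a ring hom. -/
noncomputable def incl : A →+* A' k A d :=
  (Algebra.TensorProduct.includeRight : A →ₐ[k] MvPolynomial (Fin d) k ⊗[k] A).toRingHom

theorem incl_apply (a₀ : A) : incl k d a₀ = tm k d 1 a₀ := rfl

variable (a : Fin r → A)

/-- the ring hom `A → B`. -/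
noncomputable def inclB : A →+* BB k d r n a :=
  (Ideal.Quotient.mk (Ideal.span (Set.range (F k d r n a)))).comp (C.comp (incl k d))

theorem inclB_apply (a₀ : A) : inclB k d r n a a₀ =
    Ideal.Quotient.mk (Ideal.span (Set.range (F k d r n a))) (C (tm k d 1 a₀)) := rfl

theorem algebraMap_A'_BB (x : A' k A d) : algebraMap (A' k A d) (BB k d r n a) x =
    Ideal.Quotient.mk (Ideal.span (Set.range (F k d r n a))) (C x) := rfl

theorem algebraMap_R_A' (x : MvPolynomial (Fin d) k) :
    algebraMap (MvPolynomial (Fin d) k) (A' k A d) x = tm k d x 1 := rfl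

theorem algebraMap_R_BB (x : MvPolynomial (Fin d) k) :
    algebraMap (MvPolynomial (Fin d) k) (BB k d r n a) x =
    Ideal.Quotient.mk (Ideal.span (Set.range (F k d r n a))) (C (tm k d x 1)) := rfl

instance [Algebra.FinitePresentation k A] :
    Algebra.FinitePresentation (MvPolynomial (Fin d) k) (BB k d r n a) := by
  haveI : Algebra.FinitePresentation (A' k A d) (BB k d r n a) := LL1.fp_quotient (F k d r n a)
  exact Algebra.FinitePresentation.trans (MvPolynomial (Fin d) k) (A' k A d) (BB k d r n a)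

/-- (B3) -/
theorem inclB_mem_singularIdeal [Algebra.FinitePresentation k A]
    (ha : ∀ j, a j ∈ singularIdeal k A) (a₀ : A) (ha₀ : a₀ ∈ Ideal.span (Set.range a)) :
    inclB k d r n a a₀ ∈ singularIdeal (MvPolynomial (Fin d) k) (BB k d r n a) := by
  rw [SI1.mem_singularIdeal_iff_subset]
  intro 𝔓 h𝔓
  have h𝔓' : inclB k d r n a a₀ ∉ 𝔓.asIdeal := h𝔓
  haveI : 𝔓.asIdeal.IsPrime := 𝔓.2
  obtain ⟨j, hj⟩ : ∃ j, inclB k d r n a (a j) ∉ 𝔓.asIdeal := by
    by_contra hcon
    push Not at hcon
    apply h𝔓'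
    have hle : Ideal.span (Set.range a) ≤ 𝔓.asIdeal.comap (inclB k d r n a) := by
      rw [Ideal.span_le]
      rintro _ ⟨j, rfl⟩
      exact hcon j
    exact hle ha₀
  have h1 : Algebra.IsSmoothAt (A' k A d) 𝔓.asIdeal :=
    SI1.isSmoothAt_of_mem_singularIdeal 𝔓.asIdeal _ (mk_C_mem_singularIdeal k d r n a j) hj
  have h2 : Algebra.IsSmoothAt (MvPolynomial (Fin d) k)
      (𝔓.asIdeal.comap (algebraMap (A' k A d) (BB k d r n a))) :=
    SI1.isSmoothAt_of_mem_singularIdeal _ _ (tm_mem_singularIdeal k d (a j) (ha j)) hj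
  exact DS5.isSmoothAt_comp 𝔓.asIdeal h2 h1

/-- (B4) -/
theorem X_mem_singularIdeal [Algebra.FinitePresentation k A]
    (ha : ∀ j, a j ∈ singularIdeal k A) (i : Fin d) :
    algebraMap (MvPolynomial (Fin d) k) (BB k d r n a) (X i) ∈
      singularIdeal (MvPolynomial (Fin d) k) (BB k d r n a) := by
  have hpow : (algebraMap (MvPolynomial (Fin d) k) (BB k d r n a) (X i)) ^ n ∈
      singularIdeal (MvPolynomial (Fin d) k) (BB k d r n a) := by
    have h0 : Ideal.Quotient.mk (Ideal.span (Set.range (F k d r n a))) (F k d r n a i) = 0 :=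
      Ideal.Quotient.eq_zero_iff_mem.mpr (Ideal.subset_span ⟨i, rfl⟩)
    have hF : F k d r n a i =
        C (tm k d (X i) 1) ^ n - ∑ j, X (i, j) * C (tm k d 1 (a j)) := rfl
    rw [hF, map_sub, sub_eq_zero, map_pow, map_sum] at h0
    rw [algebraMap_R_BB, h0]
    refine Ideal.sum_mem _ fun j _ => ?_
    rw [map_mul]
    refine Ideal.mul_mem_left _ _ ?_
    exact inclB_mem_singularIdeal k d r n a ha (a j) (Ideal.subset_span ⟨j, rfl⟩)
  unfold singularIdeal at hpow ⊢
  rw [PrimeSpectrum.mem_vanishingIdeal] at hpow ⊢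
  intro p hp
  exact p.2.mem_of_pow_mem n (hpow p hp)

end Groth.Agent.Lib.Helper8.BB2
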