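import Mathlib
import Groth.Prelude.Def_Smoothing
import Groth.Agent.Lib.Helper8.BB2

set_option backward.isDefEq.respectTransparency.types false
set_option autoImplicit false
set_option linter.unusedSectionVars false
set_option linter.style.haveILetI false

namespace Groth.Agent.Lib.Helper8.BB3

open MvPolynomial TensorProduct Smoothing Groth.Agent.Lib.Helper8 Groth.Agent.Lib.Helper8.BB1
  Groth.Agent.Lib.Helper8.BB2

universe u

variable (k : Type u) [CommRing k] {A : Type u} [CommRing A] [Algebra k A] (d r n : ℕ)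
  (a : Fin r → A)

theorem tm_algebraMap (c : k) :
    tm k d (algebraMap k (MvPolynomial (Fin d) k) c) (1 : A) = tm k d 1 (algebraMap k A c) := by
  unfold tm
  rw [Algebra.algebraMap_eq_smul_one, Algebra.algebraMap_eq_smul_one, TensorProduct.smul_tmul]

/-- the `k`-algebra map `A → B`. -/
noncomputable def inclBₐ : A →ₐ[k] BB k d r n a :=
  { toRingHom := inclB k d r n a
    commutes' := by
      intro c
      show inclB k d r n a (algebraMap k A c) = _
      rw [IsScalarTower.algebraMap_apply k (MvPolynomial (Fin d) k) (BB k d r n a),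
        algebraMap_R_BB, tm_algebraMap, inclB_apply] }

theorem inclBₐ_apply (a₀ : A) : inclBₐ k d r n a a₀ = inclB k d r n a a₀ := rfl

variable {Λ : Type u} [CommRing Λ] [Algebra (MvPolynomial (Fin d) k) Λ] [Algebra k Λ]
  [IsScalarTower k (MvPolynomial (Fin d) k) Λ] (φ : A →ₐ[k] Λ)

/-- the map `A' → Λ`. -/
noncomputable def psiA' : A' k A d →ₐ[MvPolynomial (Fin d) k] Λ :=
  (Algebra.TensorProduct.lift (Algebra.ofId (MvPolynomial (Fin d) k) Λ) φ
    (fun _ _ => Commute.all _ _) : MvPolynomial (Fin d) k ⊗[k] A →ₐ[MvPolynomial (Fin d) k] Λ)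

theorem psiA'_tm (x : MvPolynomial (Fin d) k) (y : A) :
    psiA' k d φ (tm k d x y) = algebraMap _ Λ x * φ y := by
  show Algebra.TensorProduct.lift (Algebra.ofId (MvPolynomial (Fin d) k) Λ) φ
    (fun _ _ => Commute.all _ _) (x ⊗ₜ[k] y) = _
  rw [Algebra.TensorProduct.lift_tmul]
  rfl

/-- the map from the polynomial ring over `A'`. -/
noncomputable def psiP (lam : Fin d → Fin r → Λ) :
    MvPolynomial (Fin d × Fin r) (A' k A d) →ₐ[MvPolynomial (Fin d) k] Λ :=
  { toRingHom := eval₂Hom (psiA' k d φ).toRingHom (fun v : Fin d × Fin r => lam v.1 v.2)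
    commutes' := by
      intro x
      show eval₂Hom (psiA' k d φ).toRingHom (fun v : Fin d × Fin r => lam v.1 v.2) (algebraMap _ _ x) = _
      rw [MvPolynomial.algebraMap_apply, eval₂Hom_C]
      exact (psiA' k d φ).commutes x }

theorem psiP_C (lam : Fin d → Fin r → Λ) (x : A' k A d) :
    psiP k d r φ lam (C x) = psiA' k d φ x := by
  show eval₂Hom (psiA' k d φ).toRingHom (fun v : Fin d × Fin r => lam v.1 v.2) (C x) = _
  rw [eval₂Hom_C]
  rfl

theorem psiP_X (lam : Fin d → Fin r → Λ) (v : Fin d × Fin r) :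
    psiP k d r φ lam (X v) = lam v.1 v.2 := by
  show eval₂Hom (psiA' k d φ).toRingHom (fun v : Fin d × Fin r => lam v.1 v.2) (X v) = _
  rw [eval₂Hom_X']

theorem psiP_F (lam : Fin d → Fin r → Λ)
    (hrel : ∀ i, (algebraMap (MvPolynomial (Fin d) k) Λ (X i)) ^ n = ∑ j, lam i j * φ (a j))
    (i : Fin d) : psiP k d r φ lam (F k d r n a i) = 0 := by
  have hF : F k d r n a i =
      C (tm k d (X i) 1) ^ n - ∑ j, X (i, j) * C (tm k d 1 (a j)) := rfl
  rw [hF, map_sub, map_pow, map_sum, psiP_C, psiA'_tm, map_one, mul_one, hrel, sub_eq_zero]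
  refine Finset.sum_congr rfl fun j _ => ?_
  rw [map_mul, psiP_X, psiP_C, psiA'_tm, map_one, one_mul]

/-- the map `B → Λ`. -/
noncomputable def psiB (lam : Fin d → Fin r → Λ)
    (hrel : ∀ i, (algebraMap (MvPolynomial (Fin d) k) Λ (X i)) ^ n = ∑ j, lam i j * φ (a j)) :
    BB k d r n a →ₐ[MvPolynomial (Fin d) k] Λ :=
  Ideal.Quotient.liftₐ _ (psiP k d r φ lam) (by
    intro x hx
    have hle : Ideal.span (Set.range (F k d r n a)) ≤ RingHom.ker (psiP k d r φ lam) := by
      rw [Ideal.span_le]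
      rintro _ ⟨i, rfl⟩
      exact RingHom.mem_ker.mpr (psiP_F k d r n a φ lam hrel i)
    exact RingHom.mem_ker.mp (hle hx))

theorem psiB_inclB (lam : Fin d → Fin r → Λ)
    (hrel : ∀ i, (algebraMap (MvPolynomial (Fin d) k) Λ (X i)) ^ n = ∑ j, lam i j * φ (a j))
    (a₀ : A) : psiB k d r n a φ lam hrel (inclB k d r n a a₀) = φ a₀ := by
  rw [inclB_apply]
  show psiP k d r φ lam (C (tm k d 1 a₀)) = _
  rw [psiP_C, psiA'_tm, map_one, one_mul]

end Groth.Agent.Lib.Helper8.BB3
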