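import Mathlib

set_option backward.isDefEq.respectTransparency.types false
set_option autoImplicit false
set_option linter.unusedSectionVars false
set_option linter.style.haveILetI false

/-!
# Conormal sequence in coordinates (abstract form)

`R → Q → S` with `Q → S` surjective with kernel `J`, and `Ω[Q/R]` free with a basis `b`.
We express the conormal sequence `J/J² → S ⊗ Ω[Q/R] → Ω[S/R] → 0` in the coordinates given by `b`.
-/

namespace Groth.Agent.Lib.Helper8.SF1

open TensorProduct KaehlerDifferential

universe u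

variable {R Q S : Type u} [CommRing R] [CommRing Q] [CommRing S] [Algebra R Q] [Algebra Q S]
  [Algebra R S] [IsScalarTower R Q S] {ι : Type} [Fintype ι] [DecidableEq ι]
  (b : Module.Basis ι Q Ω[Q⁄R])

/-- the gradient of an element of `Q`, with values in `S`. -/
noncomputable def gradQ (g : Q) : ι → S := fun i => algebraMap Q S (b.repr (D R Q g) i)

/-- the coordinate isomorphism `S ⊗ Ω[Q/R] ≃ Sⁿ`. -/
noncomputable def Xi : S ⊗[Q] Ω[Q⁄R] ≃ₗ[S] (ι → S) :=
  (Algebra.TensorProduct.basis S b).equivFun

/-- the map `Sⁿ → Ω[S/R]`. -/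
noncomputable def delta : (ι → S) →ₗ[S] Ω[S⁄R] :=
  (KaehlerDifferential.mapBaseChange R Q S) ∘ₗ (Xi (S := S) b).symm.toLinearMap

theorem Xi_tmul_D (g : Q) : Xi (S := S) b ((1 : S) ⊗ₜ[Q] D R Q g) = gradQ (S := S) b g := by
  funext i
  unfold Xi gradQ
  rw [Module.Basis.equivFun_apply, Algebra.TensorProduct.basis_repr_tmul, one_smul,
    Finsupp.mapRange_apply]

theorem delta_surjective (hsurj : Function.Surjective (algebraMap Q S)) :
    Function.Surjective (delta (S := S) b) := by
  unfold delta
  rw [LinearMap.coe_comp]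
  exact (KaehlerDifferential.mapBaseChange_surjective R Q S hsurj).comp
    (Xi (S := S) b).symm.surjective

theorem delta_single (i : ι) :
    delta (S := S) b (Pi.single i 1) = KaehlerDifferential.map R R Q S (b i) := by
  unfold delta Xi
  rw [LinearMap.comp_apply, LinearEquiv.coe_coe]
  have : (Algebra.TensorProduct.basis S b).equivFun.symm (Pi.single i 1) =
      (1 : S) ⊗ₜ[Q] b i := by
    rw [Module.Basis.equivFun_symm_apply]
    rw [Finset.sum_eq_single i]
    · rw [Pi.single_eq_same, one_smul, Algebra.TensorProduct.basis_apply]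
    · intro j _ hj
      rw [Pi.single_eq_of_ne hj, zero_smul]
    · intro h
      exact absurd (Finset.mem_univ i) h
  rw [this, KaehlerDifferential.mapBaseChange_tmul, one_smul]

theorem exists_of_delta_eq_zero (hsurj : Function.Surjective (algebraMap Q S)) (v : ι → S)
    (hv : delta (S := S) b v = 0) :
    ∃ g : Q, algebraMap Q S g = 0 ∧ v = gradQ (S := S) b g := by
  have hex := KaehlerDifferential.exact_kerCotangentToTensor_mapBaseChange R Q S hsurj
  have h1 : KaehlerDifferential.mapBaseChange R Q S ((Xi (S := S) b).symm v) = 0 := hv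
  obtain ⟨c, hc⟩ := (hex _).mp h1
  obtain ⟨g, rfl⟩ := Ideal.toCotangent_surjective _ c
  rw [KaehlerDifferential.kerCotangentToTensor_toCotangent] at hc
  refine ⟨g.1, RingHom.mem_ker.mp g.2, ?_⟩
  rw [← Xi_tmul_D, hc, LinearEquiv.apply_symm_apply]

theorem delta_gradQ (g : Q) (hg : algebraMap Q S g = 0) :
    delta (S := S) b (gradQ (S := S) b g) = 0 := by
  unfold delta
  rw [LinearMap.comp_apply, LinearEquiv.coe_coe, ← Xi_tmul_D, LinearEquiv.symm_apply_apply,
    KaehlerDifferential.mapBaseChange_tmul, one_smul, KaehlerDifferential.map_D, hg, map_zero]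

theorem mem_sq_of_gradQ_eq_zero [Algebra.FormallySmooth R Q] [Algebra.FormallySmooth R S]
    (hsurj : Function.Surjective (algebraMap Q S)) (g : Q) (hg : algebraMap Q S g = 0)
    (hgrad : gradQ (S := S) b g = 0) : g ∈ (RingHom.ker (algebraMap Q S)) ^ 2 := by
  have hinj : Function.Injective (kerCotangentToTensor R Q S) :=
    (Algebra.FormallySmooth.kerCotangentToTensor_injective_iff hsurj).mpr inferInstance
  have hgk : g ∈ RingHom.ker (algebraMap Q S) := RingHom.mem_ker.mpr hg
  have h1 : kerCotangentToTensor R Q S (Ideal.toCotangent _ ⟨g, hgk⟩) = 0 := by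
    rw [KaehlerDifferential.kerCotangentToTensor_toCotangent]
    apply (Xi (S := S) b).injective
    rw [Xi_tmul_D, hgrad, map_zero]
  have h2 : Ideal.toCotangent _ (⟨g, hgk⟩ : RingHom.ker (algebraMap Q S)) = 0 :=
    hinj (by rw [h1, map_zero])
  exact (Ideal.toCotangent_eq_zero _ _).mp h2

theorem gradQ_zero : gradQ (S := S) b (0 : Q) = 0 := by
  funext i
  unfold gradQ
  rw [map_zero, map_zero, Finsupp.zero_apply, map_zero, Pi.zero_apply]

theorem gradQ_add (x y : Q) : gradQ (S := S) b (x + y) = gradQ (S := S) b x + gradQ (S := S) b y := by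
  funext i
  unfold gradQ
  rw [map_add, map_add, Finsupp.add_apply, map_add, Pi.add_apply]

theorem gradQ_mul (x y : Q) : gradQ (S := S) b (x * y) =
    algebraMap Q S x • gradQ (S := S) b y + algebraMap Q S y • gradQ (S := S) b x := by
  funext i
  unfold gradQ
  rw [Derivation.leibniz, map_add, map_smul, map_smul, Finsupp.add_apply, Finsupp.smul_apply,
    Finsupp.smul_apply, map_add, smul_eq_mul, smul_eq_mul, map_mul, map_mul, Pi.add_apply,
    Pi.smul_apply, Pi.smul_apply, smul_eq_mul, smul_eq_mul]

end Groth.Agent.Lib.Helper8.SF1
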