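import Mathlib
import Groth.Agent.Lib.Helper8.SF1

set_option backward.isDefEq.respectTransparency.types false
set_option autoImplicit false
set_option linter.unusedSectionVars false
set_option linter.style.haveILetI false

/-!
# Conormal sequence of a localized finitely presented algebra, in coordinates
-/

namespace Groth.Agent.Lib.Helper8.SF2

open MvPolynomial KaehlerDifferential Groth.Agent.Lib.Helper8

universe u

variable {R A S : Type u} [CommRing R] [CommRing A] [CommRing S] [Algebra R A] [Algebra A S]
  [Algebra R S] [IsScalarTower R A S] {N : ℕ} (ψ : MvPolynomial (Fin N) R →ₐ[R] A)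

/-- the ring hom `P → S`. -/
noncomputable def iotaS : MvPolynomial (Fin N) R →+* S := (algebraMap A S).comp ψ.toRingHom

theorem iotaS_apply (h : MvPolynomial (Fin N) R) : iotaS (S := S) ψ h = algebraMap A S (ψ h) := rfl

/-- the gradient with values in `S`. -/
noncomputable def grad (h : MvPolynomial (Fin N) R) : Fin N → S :=
  fun i => iotaS (S := S) ψ (pderiv i h)

theorem conormal (hψ : Function.Surjective ψ) (a' : MvPolynomial (Fin N) R)
    [IsLocalization.Away (ψ a') S] :
    ∃ δ : (Fin N → S) →ₗ[S] Ω[S⁄R], Function.Surjective δ ∧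
      (∀ i, δ (Pi.single i 1) = D R S (iotaS (S := S) ψ (X i))) ∧
      (∀ v, δ v = 0 → v ∈ Submodule.span S
        (Set.range fun g : RingHom.ker ψ => grad (S := S) ψ (g : MvPolynomial (Fin N) R))) ∧
      (∀ g ∈ RingHom.ker ψ, δ (grad (S := S) ψ g) = 0) ∧
      (Algebra.FormallySmooth R S → ∀ h ∈ RingHom.ker ψ, grad (S := S) ψ h = 0 →
        ∃ t : ℕ, a' ^ t * h ∈ (RingHom.ker ψ) ^ 2) := by
  classical
  letI algPS : Algebra (MvPolynomial (Fin N) R) S := (iotaS (S := S) ψ).toAlgebra
  have hPS : ∀ x, algebraMap (MvPolynomial (Fin N) R) S x = algebraMap A S (ψ x) := fun x => rfl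
  haveI : IsScalarTower R (MvPolynomial (Fin N) R) S :=
    IsScalarTower.of_algebraMap_eq (fun r => by
      rw [hPS, ψ.commutes, ← IsScalarTower.algebraMap_apply])
  have hunit : IsUnit (algebraMap (MvPolynomial (Fin N) R) S a') := by
    rw [hPS]
    exact IsLocalization.Away.algebraMap_isUnit (ψ a')
  letI algQS : Algebra (Localization.Away a') S := (IsLocalization.Away.lift a' hunit).toAlgebra
  have hQS : ∀ x, algebraMap (Localization.Away a') S (algebraMap _ (Localization.Away a') x) =
      algebraMap (MvPolynomial (Fin N) R) S x := fun x => IsLocalization.Away.lift_eq a' hunit x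
  haveI : IsScalarTower (MvPolynomial (Fin N) R) (Localization.Away a') S :=
    IsScalarTower.of_algebraMap_eq (fun x => (hQS x).symm)
  haveI : IsScalarTower R (Localization.Away a') S :=
    IsScalarTower.of_algebraMap_eq (fun r => by
      rw [IsScalarTower.algebraMap_apply R (MvPolynomial (Fin N) R) S, ← hQS,
        ← IsScalarTower.algebraMap_apply R (MvPolynomial (Fin N) R) (Localization.Away a')])
  -- surjectivity
  have hsurj : Function.Surjective (algebraMap (Localization.Away a') S) := by
    intro s
    obtain ⟨x, m, rfl⟩ := IsLocalization.exists_mk'_eq (Submonoid.powers (ψ a')) s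
    obtain ⟨n, hn⟩ := m.2
    obtain ⟨y, rfl⟩ := hψ x
    refine ⟨IsLocalization.mk' (Localization.Away a') y
      (⟨a' ^ n, n, rfl⟩ : Submonoid.powers a'), ?_⟩
    rw [IsLocalization.eq_mk'_iff_mul_eq]
    have h1 : (m : A) = ψ (a' ^ n) := by rw [map_pow]; exact hn.symm
    rw [h1, ← hPS, ← hQS, ← map_mul, IsLocalization.mk'_spec, hQS, hPS]
  -- kernel
  have hker : RingHom.ker (algebraMap (Localization.Away a') S) =
      (RingHom.ker ψ).map (algebraMap (MvPolynomial (Fin N) R) (Localization.Away a')) := by
    apply le_antisymm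
    · intro z hz
      obtain ⟨y, m, rfl⟩ := IsLocalization.exists_mk'_eq (Submonoid.powers a') z
      rw [IsLocalization.mk'_mem_map_algebraMap_iff]
      have h1 : algebraMap (MvPolynomial (Fin N) R) S y = 0 := by
        rw [← hQS, ← IsLocalization.mk'_spec (Localization.Away a') y m, map_mul,
          RingHom.mem_ker.mp hz, zero_mul]
      rw [hPS, IsLocalization.map_eq_zero_iff (Submonoid.powers (ψ a'))] at h1
      obtain ⟨⟨_, k, rfl⟩, hk⟩ := h1
      refine ⟨a' ^ k, ⟨k, rfl⟩, ?_⟩
      rw [RingHom.mem_ker, map_mul, map_pow]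
      exact hk
    · rw [Ideal.map_le_iff_le_comap]
      intro g hg
      rw [Ideal.mem_comap, RingHom.mem_ker, hQS, hPS, RingHom.mem_ker.mp hg, map_zero]
  -- basis
  let b : Module.Basis (Fin N) (Localization.Away a') Ω[Localization.Away a'⁄R] :=
    (KaehlerDifferential.mvPolynomialBasis R (Fin N)).ofIsLocalizedModule (Localization.Away a')
      (Submonoid.powers a')
      (KaehlerDifferential.map R R (MvPolynomial (Fin N) R) (Localization.Away a'))
  have hb : ∀ i, b i = D R (Localization.Away a')
      (algebraMap (MvPolynomial (Fin N) R) (Localization.Away a') (X i)) := by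
    intro i
    rw [Module.Basis.ofIsLocalizedModule_apply, KaehlerDifferential.mvPolynomialBasis_apply,
      KaehlerDifferential.map_D]
  have hgrad : ∀ h : MvPolynomial (Fin N) R,
      SF1.gradQ (S := S) b (algebraMap _ (Localization.Away a') h) = grad (S := S) ψ h := by
    intro h
    funext i
    unfold SF1.gradQ grad
    rw [← KaehlerDifferential.map_D R R (MvPolynomial (Fin N) R) (Localization.Away a'),
      Module.Basis.ofIsLocalizedModule_repr_apply,
      KaehlerDifferential.mvPolynomialBasis_repr_apply, hQS]
    rfl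
  refine ⟨SF1.delta (S := S) b, SF1.delta_surjective b hsurj, ?_, ?_, ?_, ?_⟩
  · intro i
    rw [SF1.delta_single, hb, KaehlerDifferential.map_D, hQS]
    rfl
  · intro v hv
    obtain ⟨g, hg0, rfl⟩ := SF1.exists_of_delta_eq_zero b hsurj v hv
    have hgJ : g ∈ (RingHom.ker ψ).map
        (algebraMap (MvPolynomial (Fin N) R) (Localization.Away a')) := by
      rw [← hker]; exact RingHom.mem_ker.mpr hg0
    have key : ∀ g' ∈ (RingHom.ker ψ).map
        (algebraMap (MvPolynomial (Fin N) R) (Localization.Away a')),
        SF1.gradQ (S := S) b g' ∈ Submodule.span S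
          (Set.range fun g : RingHom.ker ψ => grad (S := S) ψ (g : MvPolynomial (Fin N) R)) := by
      intro g' hg'
      rw [Ideal.map] at hg'
      induction hg' using Submodule.span_induction with
      | mem x hx =>
        obtain ⟨y, hy, rfl⟩ := hx
        rw [hgrad]
        exact Submodule.subset_span ⟨⟨y, hy⟩, rfl⟩
      | zero =>
        rw [SF1.gradQ_zero]
        exact Submodule.zero_mem _
      | add x y _ _ hx hy =>
        rw [SF1.gradQ_add]
        exact Submodule.add_mem _ hx hy
      | smul q x hx hx' =>
        rw [smul_eq_mul, SF1.gradQ_mul]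
        have hx0 : algebraMap (Localization.Away a') S x = 0 := by
          have : x ∈ RingHom.ker (algebraMap (Localization.Away a') S) := by
            rw [hker, Ideal.map]; exact hx
          exact RingHom.mem_ker.mp this
        rw [hx0, zero_smul, add_zero]
        exact Submodule.smul_mem _ _ hx'
    exact key g hgJ
  · intro g hg
    rw [← hgrad]
    apply SF1.delta_gradQ
    rw [hQS, hPS, RingHom.mem_ker.mp hg, map_zero]
  · intro hfs h hh hgr
    haveI := hfs
    haveI : Algebra.FormallySmooth R (Localization.Away a') :=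
      Algebra.FormallySmooth.comp R (MvPolynomial (Fin N) R) (Localization.Away a')
    have h0 : algebraMap (Localization.Away a') S (algebraMap _ (Localization.Away a') h) = 0 := by
      rw [hQS, hPS, RingHom.mem_ker.mp hh, map_zero]
    have h1 := SF1.mem_sq_of_gradQ_eq_zero b hsurj _ h0 (by rw [hgrad, hgr])
    rw [hker, ← Ideal.map_pow,
      IsLocalization.algebraMap_mem_map_algebraMap_iff (Submonoid.powers a')] at h1
    obtain ⟨m, ⟨t, rfl⟩, hm⟩ := h1
    exact ⟨t, hm⟩

end Groth.Agent.Lib.Helper8.SF2
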