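import Mathlib

set_option backward.isDefEq.respectTransparency.types false
set_option autoImplicit false
set_option linter.unusedSectionVars false
set_option linter.style.haveILetI false

/-!
# Linear algebra: the kernel of `S^(n₀+q) → Ω` is free when `Ω ⊕ S^p ≃ S^q`
-/

namespace Groth.Agent.Lib.Helper8.SF3

universe u

variable (S : Type u) [CommRing S]

/-- `S^m × S^n ≃ S^(m+n)`. -/
noncomputable def appL (m n : ℕ) : ((Fin m → S) × (Fin n → S)) ≃ₗ[S] (Fin (m + n) → S) where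
  toFun x := Fin.append x.1 x.2
  invFun v := (fun i => v (Fin.castAdd n i), fun i => v (Fin.natAdd m i))
  map_add' x y := by
    funext i
    refine Fin.addCases (fun i => ?_) (fun i => ?_) i <;> simp
  map_smul' c x := by
    funext i
    refine Fin.addCases (fun i => ?_) (fun i => ?_) i <;> simp
  left_inv x := by
    ext i <;> simp
  right_inv v := by
    funext i
    refine Fin.addCases (fun i => ?_) (fun i => ?_) i <;> simp

theorem appL_apply_castAdd {m n : ℕ} (x : (Fin m → S) × (Fin n → S)) (i : Fin m) :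
    appL S m n x (Fin.castAdd n i) = x.1 i := by
  show Fin.append x.1 x.2 (Fin.castAdd n i) = _
  rw [Fin.append_left]

theorem appL_apply_natAdd {m n : ℕ} (x : (Fin m → S) × (Fin n → S)) (i : Fin n) :
    appL S m n x (Fin.natAdd m i) = x.2 i := by
  show Fin.append x.1 x.2 (Fin.natAdd m i) = _
  rw [Fin.append_right]

theorem appL_symm_fst {m n : ℕ} (v : Fin (m + n) → S) (i : Fin m) :
    ((appL S m n).symm v).1 i = v (Fin.castAdd n i) := rfl

theorem appL_symm_snd {m n : ℕ} (v : Fin (m + n) → S) (i : Fin n) :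
    ((appL S m n).symm v).2 i = v (Fin.natAdd m i) := rfl

variable {S}

theorem exists_basis_ker {Ω : Type u} [AddCommGroup Ω] [Module S Ω] {n₀ p q : ℕ}
    (e : (Ω × (Fin p → S)) ≃ₗ[S] (Fin q → S))
    (δ : (Fin (n₀ + q) → S) →ₗ[S] Ω) (hδ : Function.Surjective δ)
    (hδ0 : ∀ l : Fin q, δ (Pi.single (Fin.natAdd n₀ l) 1) = 0) :
    ∃ (W : Fin (n₀ + p) → (Fin (n₀ + q) → S))
      (V : (Fin (n₀ + q) → S) →ₗ[S] (Fin (n₀ + p) → S)),
      (∀ j, δ (W j) = 0) ∧ (∀ j, V (W j) = Pi.single j 1) ∧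
      (∀ v, δ v = 0 → v = ∑ j, V v j • W j) := by
  classical
  -- projectivity
  haveI : Module.Projective S Ω := by
    refine Module.Projective.of_split (e.toLinearMap ∘ₗ LinearMap.inl S Ω (Fin p → S))
      (LinearMap.fst S Ω (Fin p → S) ∘ₗ e.symm.toLinearMap) ?_
    ext x
    simp
  -- δ kills the second block
  have hδ2 : ∀ y : Fin q → S, δ (appL S n₀ q (0, y)) = 0 := by
    intro y
    have h1 : appL S n₀ q (0, y) = ∑ l, y l • (Pi.single (Fin.natAdd n₀ l) 1 : Fin (n₀ + q) → S) := by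
      funext i
      refine Fin.addCases (fun i => ?_) (fun i => ?_) i
      · rw [appL_apply_castAdd, Finset.sum_apply]
        symm
        apply Finset.sum_eq_zero
        intro l _
        rw [Pi.smul_apply, Pi.single_apply, if_neg, smul_zero]
        intro h
        have := congrArg Fin.val h
        simp at this
        omega
      · rw [appL_apply_natAdd, Finset.sum_apply, Finset.sum_eq_single i]
        · rw [Pi.smul_apply, Pi.single_eq_same, smul_eq_mul, mul_one]
        · intro l _ hl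
          rw [Pi.smul_apply, Pi.single_apply, if_neg, smul_zero]
          intro h
          exact hl ((Fin.natAdd_injective _ _ h).symm)
        · intro h
          exact absurd (Finset.mem_univ i) h
    rw [h1, map_sum]
    apply Finset.sum_eq_zero
    intro l _
    rw [map_smul, hδ0, smul_zero]
  let δ₀ : (Fin n₀ → S) →ₗ[S] Ω := δ ∘ₗ (appL S n₀ q).toLinearMap ∘ₗ LinearMap.inl S _ _
  have hδ₀ : ∀ x, δ₀ x = δ (appL S n₀ q (x, 0)) := fun x => rfl
  have hsplit : ∀ x y, δ (appL S n₀ q (x, y)) = δ₀ x := by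
    intro x y
    have : ((x, y) : (Fin n₀ → S) × (Fin q → S)) = (x, 0) + (0, y) := by simp
    rw [this, map_add, map_add, hδ2, add_zero, hδ₀]
  have hδ₀surj : Function.Surjective δ₀ := by
    intro ω
    obtain ⟨v, rfl⟩ := hδ ω
    refine ⟨((appL S n₀ q).symm v).1, ?_⟩
    rw [← hsplit _ ((appL S n₀ q).symm v).2, Prod.mk.eta, LinearEquiv.apply_symm_apply]
  obtain ⟨s₀, hs₀⟩ := Module.projective_lifting_property δ₀ LinearMap.id hδ₀surj
  have hs₀' : ∀ ω, δ₀ (s₀ ω) = ω := fun ω => LinearMap.congr_fun hs₀ ω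
  -- the maps
  let Ψ : ((Fin n₀ → S) × (Fin p → S)) →ₗ[S] (Fin (n₀ + q) → S) :=
    (appL S n₀ q).toLinearMap ∘ₗ
      LinearMap.prod ((LinearMap.id - s₀ ∘ₗ δ₀) ∘ₗ LinearMap.fst S _ _)
        (e.toLinearMap ∘ₗ LinearMap.prodMap δ₀ LinearMap.id)
  have hΨ : ∀ x y, Ψ (x, y) = appL S n₀ q (x - s₀ (δ₀ x), e (δ₀ x, y)) := fun x y => rfl
  let V' : (Fin (n₀ + q) → S) →ₗ[S] ((Fin n₀ → S) × (Fin p → S)) :=
    LinearMap.prod
      (((LinearMap.id - s₀ ∘ₗ δ₀) ∘ₗ LinearMap.fst S _ _ +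
        s₀ ∘ₗ LinearMap.fst S _ _ ∘ₗ e.symm.toLinearMap ∘ₗ LinearMap.snd S _ _) ∘ₗ
          (appL S n₀ q).symm.toLinearMap)
      (LinearMap.snd S _ _ ∘ₗ e.symm.toLinearMap ∘ₗ LinearMap.snd S _ _ ∘ₗ
        (appL S n₀ q).symm.toLinearMap)
  have hV' : ∀ x y, V' (appL S n₀ q (x, y)) =
      (x - s₀ (δ₀ x) + s₀ (e.symm y).1, (e.symm y).2) := by
    intro x y
    refine Prod.ext ?_ ?_
    · simp [V']
    · simp [V']
  have hδΨ : ∀ z, δ (Ψ z) = 0 := by
    rintro ⟨x, y⟩
    rw [hΨ, hsplit, map_sub, hs₀', sub_self]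
  have hVΨ : ∀ z, V' (Ψ z) = z := by
    rintro ⟨x, y⟩
    rw [hΨ, hV', LinearEquiv.symm_apply_apply, map_sub, hs₀', sub_self, map_zero, sub_zero]
    simp
  have hΨV : ∀ v, δ v = 0 → Ψ (V' v) = v := by
    intro v hv
    obtain ⟨⟨x, y⟩, rfl⟩ := (appL S n₀ q).surjective v
    rw [hsplit] at hv
    rw [hV', hΨ, hv, map_zero, sub_zero, map_add, hs₀', hv, zero_add, add_sub_cancel_right]
    rw [show ((e.symm y).1, (e.symm y).2) = e.symm y from rfl, LinearEquiv.apply_symm_apply]
  refine ⟨fun j => Ψ ((appL S n₀ p).symm (Pi.single j 1)), (appL S n₀ p).toLinearMap ∘ₗ V',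
    fun j => hδΨ _, ?_, ?_⟩
  · intro j
    rw [LinearMap.comp_apply, hVΨ, LinearEquiv.coe_coe, LinearEquiv.apply_symm_apply]
  · intro v hv
    have h1 : (appL S n₀ p) (V' v) = ∑ j, (appL S n₀ p) (V' v) j • (Pi.single j 1 : Fin (n₀ + p) → S) := by
      funext i
      rw [Finset.sum_apply, Finset.sum_eq_single i]
      · rw [Pi.smul_apply, Pi.single_eq_same, smul_eq_mul, mul_one]
      · intro l _ hl
        rw [Pi.smul_apply, Pi.single_apply, if_neg (Ne.symm hl), smul_zero]
      · intro h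
        exact absurd (Finset.mem_univ i) h
    conv_lhs => rw [← hΨV v hv, ← (appL S n₀ p).symm_apply_apply (V' v), h1]
    rw [map_sum, map_sum]
    refine Finset.sum_congr rfl fun j _ => ?_
    rw [map_smul, map_smul]
    rfl

end Groth.Agent.Lib.Helper8.SF3
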