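import Mathlib

set_option backward.isDefEq.respectTransparency.types false
set_option autoImplicit false
set_option linter.unusedSectionVars false
set_option linter.style.haveILetI false

/-!
# A weak Cauchy–Binet formula
-/

namespace Groth.Agent.Lib.Helper8.SF4

theorem det_mul_mem_span_minors {S : Type*} [CommRing S] {c N : ℕ} (M : Matrix (Fin c) (Fin N) S)
    (V : Matrix (Fin N) (Fin c) S) :
    (M * V).det ∈ Ideal.span (Set.range fun cols : Fin c → Fin N => (M.submatrix id cols).det) := by
  classical
  have h1 : (M * V).det = Matrix.detRowAlternating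
      (fun k : Fin c => ∑ i : Fin N, V i k • (fun j : Fin c => M j i)) := by
    rw [← Matrix.det_transpose]
    show Matrix.det _ = Matrix.det _
    congr 1
    funext k j
    rw [Matrix.transpose_apply, Matrix.mul_apply, Finset.sum_apply]
    refine Finset.sum_congr rfl fun i _ => ?_
    rw [Pi.smul_apply, smul_eq_mul, mul_comm]
  rw [h1]
  have h2 := (Matrix.detRowAlternating (R := S) (n := Fin c)).toMultilinearMap.map_sum
    (fun (k : Fin c) (i : Fin N) => V i k • (fun j : Fin c => M j i))
  rw [AlternatingMap.coe_multilinearMap] at h2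
  rw [h2]
  refine Ideal.sum_mem _ fun φ _ => ?_
  have h3 : (Matrix.detRowAlternating (R := S) (n := Fin c))
      (fun k => V (φ k) k • (fun j : Fin c => M j (φ k))) =
      (∏ k, V (φ k) k) • (Matrix.detRowAlternating (R := S) (n := Fin c))
        (fun k => (fun j : Fin c => M j (φ k))) := by
    have := (Matrix.detRowAlternating (R := S) (n := Fin c)).toMultilinearMap.map_smul_univ
      (fun k => V (φ k) k) (fun k => (fun j : Fin c => M j (φ k)))
    simpa using this
  rw [h3, smul_eq_mul]
  refine Ideal.mul_mem_left _ _ (Ideal.subset_span ⟨φ, ?_⟩)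
  show (M.submatrix id φ).det = Matrix.det (fun k j => M j (φ k))
  rw [← Matrix.det_transpose]
  rfl

end Groth.Agent.Lib.Helper8.SF4
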