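import Mathlib
import Groth.Prelude.Def_Smoothing
import Groth.Agent.Lib.Helper8.SF2
import Groth.Agent.Lib.Helper8.SF3
import Groth.Agent.Lib.Helper8.SF4

set_option backward.isDefEq.respectTransparency.types false
set_option autoImplicit false
set_option linter.unusedSectionVars false
set_option linter.style.haveILetI false

/-!
# Gradient lemmas and lifting of kernel elements
-/

namespace Groth.Agent.Lib.Helper8.SF5

open MvPolynomial KaehlerDifferential Groth.Agent.Lib.Helper8 Groth.Agent.Lib.Helper8.SF2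

universe u

variable {R A S : Type u} [CommRing R] [CommRing A] [CommRing S] [Algebra R A] [Algebra A S]
  [Algebra R S] [IsScalarTower R A S] {N : ℕ} (ψ : MvPolynomial (Fin N) R →ₐ[R] A)

theorem grad_zero : grad (S := S) ψ 0 = 0 := by
  funext i
  unfold grad
  rw [map_zero, map_zero, Pi.zero_apply]

theorem grad_add (x y : MvPolynomial (Fin N) R) :
    grad (S := S) ψ (x + y) = grad (S := S) ψ x + grad (S := S) ψ y := by
  funext i
  unfold grad
  rw [map_add, map_add, Pi.add_apply]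

theorem grad_mul (x y : MvPolynomial (Fin N) R) :
    grad (S := S) ψ (x * y) =
      iotaS (S := S) ψ x • grad (S := S) ψ y + iotaS (S := S) ψ y • grad (S := S) ψ x := by
  funext i
  unfold grad
  rw [Derivation.leibniz, map_add, smul_eq_mul, smul_eq_mul, map_mul, map_mul, Pi.add_apply,
    Pi.smul_apply, Pi.smul_apply, smul_eq_mul, smul_eq_mul]

theorem iotaS_eq_zero {f : MvPolynomial (Fin N) R} (hf : f ∈ RingHom.ker ψ) :
    iotaS (S := S) ψ f = 0 := by
  rw [iotaS_apply, RingHom.mem_ker.mp hf, map_zero]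

theorem grad_mul_of_mem (x : MvPolynomial (Fin N) R) {f : MvPolynomial (Fin N) R}
    (hf : f ∈ RingHom.ker ψ) :
    grad (S := S) ψ (x * f) = iotaS (S := S) ψ x • grad (S := S) ψ f := by
  rw [grad_mul, iotaS_eq_zero ψ hf, zero_smul, add_zero]

theorem grad_sum {κ : Type*} (s : Finset κ) (F : κ → MvPolynomial (Fin N) R) :
    grad (S := S) ψ (∑ j ∈ s, F j) = ∑ j ∈ s, grad (S := S) ψ (F j) := by
  classical
  induction s using Finset.induction_on with
  | empty => simp [grad_zero]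
  | insert j s hj ih => rw [Finset.sum_insert hj, Finset.sum_insert hj, grad_add, ih]

theorem grad_sub (x y : MvPolynomial (Fin N) R) :
    grad (S := S) ψ (x - y) = grad (S := S) ψ x - grad (S := S) ψ y := by
  funext i
  unfold grad
  rw [map_sub, map_sub, Pi.sub_apply]

variable (hψ : Function.Surjective ψ) (a' : MvPolynomial (Fin N) R) [IsLocalization.Away (ψ a') S]

include hψ in
theorem exists_scaled (s : S) : ∃ (r : ℕ) (c : MvPolynomial (Fin N) R),
    (iotaS (S := S) ψ a') ^ r * s = iotaS (S := S) ψ c := by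
  obtain ⟨⟨x, ⟨_, r, rfl⟩⟩, hx⟩ := IsLocalization.surj (Submonoid.powers (ψ a')) s
  obtain ⟨c, rfl⟩ := hψ x
  refine ⟨r, c, ?_⟩
  rw [iotaS_apply, iotaS_apply, ← hx, map_pow, mul_comm]

include hψ in
theorem exists_scaled_fin {c : ℕ} (s : Fin c → S) : ∃ (r : ℕ) (cs : Fin c → MvPolynomial (Fin N) R),
    ∀ j, (iotaS (S := S) ψ a') ^ r * s j = iotaS (S := S) ψ (cs j) := by
  choose r cs h using fun j => exists_scaled (S := S) ψ hψ a' (s j)
  refine ⟨∑ j, r j, fun j => a' ^ (∑ j, r j - r j) * cs j, fun j => ?_⟩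
  have hle : r j ≤ ∑ j, r j := Finset.single_le_sum (fun _ _ => Nat.zero_le _) (Finset.mem_univ j)
  rw [map_mul, map_pow, ← h j, ← mul_assoc, ← pow_add, Nat.sub_add_cancel hle]

include hψ in
theorem exists_grad_eq (v : Fin N → S)
    (hv : v ∈ Submodule.span S
      (Set.range fun g : RingHom.ker ψ => grad (S := S) ψ (g : MvPolynomial (Fin N) R))) :
    ∃ (t : ℕ) (f : MvPolynomial (Fin N) R), f ∈ RingHom.ker ψ ∧
      grad (S := S) ψ f = (iotaS (S := S) ψ a') ^ t • v := by
  induction hv using Submodule.span_induction with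
  | mem x hx =>
    obtain ⟨g, rfl⟩ := hx
    exact ⟨0, g, g.2, by rw [pow_zero, one_smul]⟩
  | zero => exact ⟨0, 0, Ideal.zero_mem _, by rw [grad_zero, smul_zero]⟩
  | add x y _ _ hx hy =>
    obtain ⟨t₁, f₁, hf₁, h₁⟩ := hx
    obtain ⟨t₂, f₂, hf₂, h₂⟩ := hy
    refine ⟨t₁ + t₂, a' ^ t₂ * f₁ + a' ^ t₁ * f₂,
      Ideal.add_mem _ (Ideal.mul_mem_left _ _ hf₁) (Ideal.mul_mem_left _ _ hf₂), ?_⟩
    rw [grad_add, grad_mul_of_mem ψ _ hf₁, grad_mul_of_mem ψ _ hf₂, h₁, h₂, map_pow, map_pow,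
      smul_smul, smul_smul, ← pow_add, ← pow_add, smul_add, add_comm t₂ t₁]
  | smul s x _ hx =>
    obtain ⟨t₁, f₁, hf₁, h₁⟩ := hx
    obtain ⟨r, c, hc⟩ := exists_scaled (S := S) ψ hψ a' s
    refine ⟨t₁ + r, c * f₁, Ideal.mul_mem_left _ _ hf₁, ?_⟩
    rw [grad_mul_of_mem ψ _ hf₁, h₁, ← hc, smul_smul, smul_smul]
    congr 1
    rw [pow_add]
    ring

include hψ in
theorem exists_grad_eq_fin {c : ℕ} (W : Fin c → Fin N → S)
    (hW : ∀ j, W j ∈ Submodule.span S
      (Set.range fun g : RingHom.ker ψ => grad (S := S) ψ (g : MvPolynomial (Fin N) R))) :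
    ∃ (t : ℕ) (f : Fin c → MvPolynomial (Fin N) R), (∀ j, f j ∈ RingHom.ker ψ) ∧
      ∀ j, grad (S := S) ψ (f j) = (iotaS (S := S) ψ a') ^ t • W j := by
  choose t f hf h using fun j => exists_grad_eq (S := S) ψ hψ a' (W j) (hW j)
  refine ⟨∑ j, t j, fun j => a' ^ (∑ j, t j - t j) * f j,
    fun j => Ideal.mul_mem_left _ _ (hf j), fun j => ?_⟩
  have hle : t j ≤ ∑ j, t j := Finset.single_le_sum (fun _ _ => Nat.zero_le _) (Finset.mem_univ j)
  rw [grad_mul_of_mem ψ _ (hf j), h j, map_pow, smul_smul, ← pow_add, Nat.sub_add_cancel hle]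

end Groth.Agent.Lib.Helper8.SF5
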