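import Mathlib
import Groth.Prelude.Def_Smoothing
import Groth.Agent.Lib.Helper8.SF5

set_option backward.isDefEq.respectTransparency.types false
set_option autoImplicit false
set_option linter.unusedSectionVars false
set_option linter.style.haveILetI false

/-!
# `a^n` is strictly standard when `A_a` is smooth with stably free differentials
-/

namespace Groth.Agent.Lib.Helper8.SF6

open MvPolynomial KaehlerDifferential Groth.Agent.Lib.Helper8 Groth.Agent.Lib.Helper8.SF2
  Groth.Agent.Lib.Helper8.SF5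

universe u

theorem core {R A : Type u} [CommRing R] [CommRing A] [Algebra R A] {n₀ q p m₀ : ℕ}
    (ψ : MvPolynomial (Fin (n₀ + q)) R →ₐ[R] A) (hψ : Function.Surjective ψ)
    (hψ0 : ∀ l : Fin q, ψ (X (Fin.natAdd n₀ l)) = 0)
    (g₀ : Fin m₀ → MvPolynomial (Fin (n₀ + q)) R)
    (hg₀ : RingHom.ker ψ = Ideal.span (Set.range g₀))
    (a' : MvPolynomial (Fin (n₀ + q)) R)
    (S : Type u) [CommRing S] [Algebra A S] [Algebra R S] [IsScalarTower R A S]
    [IsLocalization.Away (ψ a') S] [Algebra.FormallySmooth R S] (hpq : p ≤ q)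
    (e : (Ω[S⁄R] × (Fin p → S)) ≃ₗ[S] (Fin q → S)) :
    ∃ e₀ : ℕ, ∀ n, e₀ ≤ n → Smoothing.IsStrictlyStandard R A (ψ a' ^ n) := by
  classical
  obtain ⟨δ, hδsurj, hδX, hδker, hδgrad, hsm⟩ := SF2.conormal (S := S) ψ hψ a'
  have hδ0 : ∀ l : Fin q, δ (Pi.single (Fin.natAdd n₀ l) 1) = 0 := by
    intro l
    rw [hδX, iotaS_apply, hψ0, map_zero, map_zero]
  obtain ⟨W, V, hW0, hVW, hWV⟩ := SF3.exists_basis_ker e δ hδsurj hδ0
  obtain ⟨t, f, hfI, hfW⟩ :=
    SF5.exists_grad_eq_fin (S := S) ψ hψ a' W (fun j => hδker _ (hW0 j))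
  have huunit : IsUnit (iotaS (S := S) ψ a') := by
    rw [iotaS_apply]
    exact IsLocalization.Away.algebraMap_isUnit (ψ a')
  -- relations
  have hg₀I : ∀ l, g₀ l ∈ RingHom.ker ψ := by
    intro l
    rw [hg₀]
    exact Ideal.subset_span ⟨l, rfl⟩
  have hrelL : ∀ j : Fin (n₀ + p), Fin.append f g₀ (Fin.castAdd m₀ j) = f j :=
    fun j => Fin.append_left f g₀ j
  have hrelR : ∀ l : Fin m₀, Fin.append f g₀ (Fin.natAdd (n₀ + p) l) = g₀ l :=
    fun l => Fin.append_right f g₀ l
  have hrelI : ∀ j, Fin.append f g₀ j ∈ RingHom.ker ψ := by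
    intro j
    refine Fin.addCases (fun j => ?_) (fun l => ?_) j
    · rw [hrelL]; exact hfI j
    · rw [hrelR]; exact hg₀I l
  have hspan : Ideal.span (Set.range (Fin.append f g₀)) = RingHom.ker ψ := by
    apply le_antisymm
    · rw [Ideal.span_le]
      rintro _ ⟨j, rfl⟩
      exact hrelI j
    · rw [hg₀]
      apply Ideal.span_mono
      rintro _ ⟨l, rfl⟩
      exact ⟨Fin.natAdd (n₀ + p) l, hrelR l⟩
  -- minors
  let Mf : Matrix (Fin (n₀ + p)) (Fin (n₀ + q)) S := fun j i => grad (S := S) ψ (f j) i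
  let VM : Matrix (Fin (n₀ + q)) (Fin (n₀ + p)) S := fun i k => V (Pi.single i 1) k
  have hVsum : ∀ (w : Fin (n₀ + q) → S) (k : Fin (n₀ + p)),
      V w k = ∑ i, w i * V (Pi.single i 1) k := by
    intro w k
    have h1 : w = ∑ i, w i • (Pi.single i 1 : Fin (n₀ + q) → S) := by
      funext i
      rw [Finset.sum_apply, Finset.sum_eq_single i]
      · rw [Pi.smul_apply, Pi.single_eq_same, smul_eq_mul, mul_one]
      · intro l _ hl
        rw [Pi.smul_apply, Pi.single_apply, if_neg (Ne.symm hl), smul_zero]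
      · intro h
        exact absurd (Finset.mem_univ i) h
    conv_lhs => rw [h1]
    rw [map_sum, Finset.sum_apply]
    refine Finset.sum_congr rfl fun i _ => ?_
    rw [map_smul, Pi.smul_apply, smul_eq_mul]
  have hMV : Mf * VM = (iotaS (S := S) ψ a') ^ t • (1 : Matrix (Fin (n₀ + p)) (Fin (n₀ + p)) S) := by
    ext j k
    rw [Matrix.mul_apply, Matrix.smul_apply, smul_eq_mul]
    have h1 : ∀ i, Mf j i * VM i k = (iotaS (S := S) ψ a') ^ t * (W j i * V (Pi.single i 1) k) := by
      intro i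
      show grad (S := S) ψ (f j) i * _ = _
      rw [hfW j, Pi.smul_apply, smul_eq_mul, mul_assoc]
    rw [Finset.sum_congr rfl (fun i _ => h1 i), ← Finset.mul_sum, ← hVsum, hVW,
      Matrix.one_apply, Pi.single_apply]
    by_cases hjk : j = k
    · rw [if_pos hjk, if_pos hjk.symm]
    · rw [if_neg hjk, if_neg (Ne.symm hjk)]
  have hdet : (iotaS (S := S) ψ a') ^ (t * (n₀ + p)) ∈
      Ideal.span (Set.range fun cols : Fin (n₀ + p) → Fin (n₀ + q) =>
        (Mf.submatrix id cols).det) := by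
    have := SF4.det_mul_mem_span_minors Mf VM
    rwa [hMV, Matrix.det_smul, Matrix.det_one, mul_one, Fintype.card_fin, ← pow_mul] at this
  have hminor : ∀ cols : Fin (n₀ + p) → Fin (n₀ + q), (Mf.submatrix id cols).det =
      iotaS (S := S) ψ (Smoothing.jacobianMinor (Fin.append f g₀)
        (Fin.castLE (Nat.le_add_right (n₀ + p) m₀)) cols) := by
    intro cols
    unfold Smoothing.jacobianMinor
    rw [RingHom.map_det]
    congr 1
    ext j k
    rw [RingHom.mapMatrix_apply, Matrix.map_apply, Matrix.of_apply, Matrix.submatrix_apply, id]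
    show grad (S := S) ψ (f j) (cols k) = _
    have : Fin.append f g₀ (Fin.castLE (Nat.le_add_right (n₀ + p) m₀) j) = f j := hrelL j
    rw [this]
    rfl
  obtain ⟨e₁, he₁⟩ : ∃ e₁ : ℕ, ψ a' ^ e₁ ∈
      Ideal.span (Set.range fun cols : Fin (n₀ + p) → Fin (n₀ + q) =>
        ψ (Smoothing.jacobianMinor (Fin.append f g₀)
          (Fin.castLE (Nat.le_add_right (n₀ + p) m₀)) cols)) := by
    set 𝔞 : Ideal A := Ideal.span (Set.range fun cols : Fin (n₀ + p) → Fin (n₀ + q) =>
        ψ (Smoothing.jacobianMinor (Fin.append f g₀)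
          (Fin.castLE (Nat.le_add_right (n₀ + p) m₀)) cols)) with h𝔞
    have htop : 𝔞.map (algebraMap A S) = ⊤ := by
      apply Ideal.eq_top_of_isUnit_mem _ _ (huunit.pow (t * (n₀ + p)))
      have hle : Ideal.span (Set.range fun cols : Fin (n₀ + p) → Fin (n₀ + q) =>
          (Mf.submatrix id cols).det) ≤ 𝔞.map (algebraMap A S) := by
        rw [Ideal.span_le]
        rintro _ ⟨cols, rfl⟩
        show (Mf.submatrix id cols).det ∈ _
        rw [hminor, iotaS_apply]
        exact Ideal.mem_map_of_mem _ (Ideal.subset_span ⟨cols, rfl⟩)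
      exact hle hdet
    by_contra hcon
    push Not at hcon
    have hdis : Disjoint ((Submonoid.powers (ψ a') : Submonoid A) : Set A) (𝔞 : Set A) := by
      rw [Set.disjoint_left]
      rintro _ ⟨k, rfl⟩ hk
      exact hcon k hk
    exact (IsLocalization.map_algebraMap_ne_top_iff_disjoint (Submonoid.powers (ψ a')) S 𝔞).mpr
      hdis htop
  -- tail
  have htail : ∀ l : Fin m₀, ∃ el : ℕ, a' ^ el * g₀ l ∈
      Ideal.span (Set.range f) ⊔ (RingHom.ker ψ) ^ 2 := by
    intro l
    have hv0 : δ (grad (S := S) ψ (g₀ l)) = 0 := hδgrad _ (hg₀I l)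
    have hv := hWV _ hv0
    obtain ⟨r, cs, hcs⟩ := SF5.exists_scaled_fin (S := S) ψ hψ a' (V (grad (S := S) ψ (g₀ l)))
    have hhI : a' ^ (r + t) * g₀ l - ∑ j, cs j * f j ∈ RingHom.ker ψ :=
      Ideal.sub_mem _ (Ideal.mul_mem_left _ _ (hg₀I l))
        (Ideal.sum_mem _ fun j _ => Ideal.mul_mem_left _ _ (hfI j))
    have hgr : grad (S := S) ψ (a' ^ (r + t) * g₀ l - ∑ j, cs j * f j) = 0 := by
      rw [grad_sub, grad_mul_of_mem ψ _ (hg₀I l), grad_sum, map_pow]
      have h2 : ∀ j, grad (S := S) ψ (cs j * f j) =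
          (iotaS (S := S) ψ a') ^ (r + t) • (V (grad (S := S) ψ (g₀ l)) j • W j) := by
        intro j
        rw [grad_mul_of_mem ψ _ (hfI j), ← hcs j, hfW j, smul_smul, smul_smul, pow_add]
        congr 1
        ring
      rw [Finset.sum_congr rfl (fun j _ => h2 j), ← Finset.smul_sum, ← hv, sub_self]
    obtain ⟨s, hs⟩ := hsm inferInstance _ hhI hgr
    refine ⟨s + (r + t), ?_⟩
    have heq : a' ^ (s + (r + t)) * g₀ l =
        ∑ j, (a' ^ s * cs j) * f j + a' ^ s * (a' ^ (r + t) * g₀ l - ∑ j, cs j * f j) := by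
      rw [mul_sub, Finset.mul_sum, pow_add]
      have : ∀ j, a' ^ s * (cs j * f j) = a' ^ s * cs j * f j := fun j => (mul_assoc _ _ _).symm
      rw [Finset.sum_congr rfl (fun j _ => this j)]
      ring
    rw [heq]
    refine Ideal.add_mem _ (Ideal.mem_sup_left ?_) (Ideal.mem_sup_right hs)
    exact Ideal.sum_mem _ fun j _ => Ideal.mul_mem_left _ _ (Ideal.subset_span ⟨j, rfl⟩)
  choose el hel using htail
  refine ⟨e₁ + ∑ l, el l, fun n hn => ?_⟩
  refine ⟨⟨n₀ + q, (n₀ + p) + m₀, n₀ + p, by omega, Nat.le_add_right _ _, Fin.append f g₀, ψ, hψ,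
    hspan.symm⟩, ?_, ?_⟩
  · have hn1 : e₁ ≤ n := le_trans (Nat.le_add_right _ _) hn
    have : ψ a' ^ n = ψ a' ^ (n - e₁) * ψ a' ^ e₁ := by
      rw [← pow_add, Nat.sub_add_cancel hn1]
    rw [this]
    exact Ideal.mul_mem_left _ _ he₁
  · intro a'' ha'' j hj
    have hj1 : n₀ + p ≤ (j : ℕ) := hj
    have hj2 : (j : ℕ) < (n₀ + p) + m₀ := j.2
    have hjlt : (j : ℕ) - (n₀ + p) < m₀ := by omega
    set l : Fin m₀ := ⟨(j : ℕ) - (n₀ + p), hjlt⟩ with hl
    have hj' : j = Fin.natAdd (n₀ + p) l := by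
      apply Fin.ext
      show (j : ℕ) = (n₀ + p) + ((j : ℕ) - (n₀ + p))
      omega
    have hjrel : Fin.append f g₀ j = g₀ l := by
      have h := hrelR l
      rw [← hj'] at h
      exact h
    show a'' * Fin.append f g₀ j ∈ Ideal.span (Fin.append f g₀ '' {j' | (j' : ℕ) < n₀ + p}) ⊔
      Ideal.span (Set.range (Fin.append f g₀)) ^ 2
    have hsp2 : Ideal.span (Set.range (Fin.append f g₀)) ^ 2 = (RingHom.ker ψ) ^ 2 := by
      rw [hspan]
    rw [hjrel, hsp2]
    have hle1 : Ideal.span (Set.range f) ≤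
        Ideal.span (Fin.append f g₀ '' {j' | (j' : ℕ) < n₀ + p}) := by
      apply Ideal.span_mono
      rintro _ ⟨j₀, rfl⟩
      exact ⟨Fin.castAdd m₀ j₀, by simp, hrelL j₀⟩
    have hell : el l ≤ n := by
      have h1 : el l ≤ ∑ l, el l :=
        Finset.single_le_sum (fun _ _ => Nat.zero_le _) (Finset.mem_univ l)
      omega
    have hdiff : a'' - a' ^ n ∈ RingHom.ker ψ := by
      rw [RingHom.mem_ker, map_sub, map_pow, ha'', sub_self]
    have heq : a'' * g₀ l = (a'' - a' ^ n) * g₀ l + a' ^ (n - el l) * (a' ^ el l * g₀ l) := by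
      rw [← mul_assoc, ← pow_add, Nat.sub_add_cancel hell]
      ring
    rw [heq]
    refine Ideal.add_mem _ (Ideal.mem_sup_right ?_) ?_
    · rw [pow_two]
      exact Ideal.mul_mem_mul hdiff (hg₀I l)
    · refine Ideal.mul_mem_left _ _ ?_
      exact (sup_le_sup_right hle1 _) (hel l)

/-- zero is strictly standard. -/
theorem isStrictlyStandard_zero {R A : Type u} [CommRing R] [CommRing A] [Algebra R A]
    [Algebra.FinitePresentation R A] : Smoothing.IsStrictlyStandard R A (0 : A) := by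
  obtain ⟨n₀, ψ₀, hψ₀, hfg₀⟩ := Algebra.FinitePresentation.out (R := R) (A := A)
  obtain ⟨m₀, g₀, hg₀⟩ := Submodule.fg_iff_exists_fin_generating_family.mp hfg₀
  have hker : RingHom.ker ψ₀.toRingHom = Ideal.span (Set.range g₀) := hg₀.symm
  have key : ∀ x : MvPolynomial (Fin n₀) R, ψ₀ x = 0 → ∀ j : Fin m₀,
      x * g₀ j ∈ Ideal.span (Set.range g₀) ^ 2 := by
    intro x hx j
    rw [pow_two]
    refine Ideal.mul_mem_mul ?_ (Ideal.subset_span ⟨j, rfl⟩)
    rw [← hker]
    exact RingHom.mem_ker.mpr hx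
  refine ⟨⟨n₀, m₀, 0, Nat.zero_le _, Nat.zero_le _, g₀, ψ₀, hψ₀, hker⟩, Ideal.zero_mem _, ?_⟩
  intro a'' ha'' j _
  exact Ideal.mem_sup_right (key a'' ha'' j)

/-- S2031. -/
theorem main2031 {R A : Type u} [CommRing R] [CommRing A]
    [Algebra R A] [Algebra.FinitePresentation R A] (a : A) [Algebra.Smooth R (Localization.Away a)]
    (p q : ℕ) (e : (Ω[Localization.Away a⁄R] × (Fin p → Localization.Away a)) ≃ₗ[Localization.Away a]
      (Fin q → Localization.Away a)) :
    ∃ e₀ : ℕ, ∀ n : ℕ, e₀ ≤ n → Smoothing.IsStrictlyStandard R A (a ^ n) := by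
  classical
  by_cases hS : Subsingleton (Localization.Away a)
  · -- degenerate case: `a` is nilpotent
    have h01 : algebraMap A (Localization.Away a) 1 = 0 := Subsingleton.elim _ _
    rw [IsLocalization.map_eq_zero_iff (Submonoid.powers a)] at h01
    obtain ⟨⟨_, k, rfl⟩, hk⟩ := h01
    rw [mul_one] at hk
    have hk' : a ^ k = 0 := hk
    refine ⟨k, fun n hn => ?_⟩
    have : a ^ n = 0 := by
      rw [← Nat.sub_add_cancel hn, pow_add, hk', mul_zero]
    rw [this]
    exact isStrictlyStandard_zero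
  · haveI : Nontrivial (Localization.Away a) := not_subsingleton_iff_nontrivial.mp hS
    have hpq : p ≤ q := by
      refine le_of_fin_injective (Localization.Away a)
        (e.toLinearMap ∘ₗ LinearMap.inr (Localization.Away a) Ω[Localization.Away a⁄R]
          (Fin p → Localization.Away a)) ?_
      rw [LinearMap.coe_comp]
      exact e.injective.comp LinearMap.inr_injective
    obtain ⟨n₀, ψ₀, hψ₀, _⟩ := Algebra.FinitePresentation.out (R := R) (A := A)
    let ψ : MvPolynomial (Fin (n₀ + q)) R →ₐ[R] A :=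
      aeval (Fin.append (fun i => ψ₀ (X i)) (fun _ => 0))
    have hcomp : ψ.comp (rename (Fin.castAdd q)) = ψ₀ := by
      apply MvPolynomial.algHom_ext
      intro i
      rw [AlgHom.comp_apply, rename_X, aeval_X, Fin.append_left]
    have hψ : Function.Surjective ψ := by
      intro x
      obtain ⟨y, rfl⟩ := hψ₀ x
      exact ⟨rename (Fin.castAdd q) y, by rw [← AlgHom.comp_apply, hcomp]⟩
    have hψ0 : ∀ l : Fin q, ψ (X (Fin.natAdd n₀ l)) = 0 := by
      intro l
      rw [aeval_X, Fin.append_right]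
    have hfg : (RingHom.ker ψ.toRingHom).FG := Algebra.FinitePresentation.ker_fG_of_surjective ψ hψ
    obtain ⟨m₀, g₀, hg₀⟩ := Submodule.fg_iff_exists_fin_generating_family.mp hfg
    obtain ⟨a', rfl⟩ := hψ a
    exact core ψ hψ hψ0 g₀ hg₀.symm a' (Localization.Away (ψ a')) hpq e

end Groth.Agent.Lib.Helper8.SF6
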