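import Mathlib
import Groth.Agent.Lib.Helper8.SymK1

set_option backward.isDefEq.respectTransparency.types false
set_option autoImplicit false
set_option linter.unusedSectionVars false
set_option linter.style.haveILetI false

/-!
# Localization of a symmetric algebra is a symmetric algebra
-/

namespace Groth.Agent.Lib.Helper8.SymK3

universe u

open TensorProduct

section Loc

theorem isSymmetricAlgebra_localization {A : Type u} [CommRing A] {N : Type u} [AddCommGroup N] [Module A N]
    {C : Type u} [CommRing C] [Algebra A C] {ι : N →ₗ[A] C} (hι : IsSymmetricAlgebra ι)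
    (a : A) {B : Type u} [CommRing B] [Algebra A B] [IsLocalization.Away a B]
    {S : Type u} [CommRing S] [Algebra C S] [IsLocalization.Away (algebraMap A C a) S]
    [Algebra A S] [IsScalarTower A C S] [Algebra B S] [IsScalarTower A B S]
    {P : Type u} [AddCommGroup P] [Module A P] [Module B P] [IsScalarTower A B P]
    (ℓ : N →ₗ[A] P) [IsLocalizedModule (Submonoid.powers a) ℓ]
    (f : P →ₗ[B] S) (hfℓ : ∀ n, f (ℓ n) = algebraMap C S (ι n)) : IsSymmetricAlgebra f := by
  let Φ : (SymmetricAlgebra B P) →ₐ[B] S := SymmetricAlgebra.lift f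
  have hΦι : ∀ p, Φ (SymmetricAlgebra.ι B P p) = f p := fun p => SymmetricAlgebra.lift_ι_apply f p
  let ψ₀ : C →ₐ[A] (SymmetricAlgebra B P) := hι.lift ((SymmetricAlgebra.ι B P).restrictScalars A ∘ₗ ℓ)
  have hψ₀ : ∀ n, ψ₀ (ι n) = SymmetricAlgebra.ι B P (ℓ n) := by
    intro n
    simp [ψ₀]
  have haB : IsUnit (algebraMap A B a) := IsLocalization.Away.algebraMap_isUnit a
  have hunit : IsUnit (ψ₀.toRingHom (algebraMap A C a)) := by
    have : ψ₀.toRingHom (algebraMap A C a) = algebraMap B (SymmetricAlgebra B P) (algebraMap A B a) := by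
      show ψ₀ (algebraMap A C a) = _
      rw [ψ₀.commutes, IsScalarTower.algebraMap_apply A B (SymmetricAlgebra B P)]
    rw [this]
    exact haB.map _
  let Ψ : S →+* (SymmetricAlgebra B P) := IsLocalization.Away.lift (algebraMap A C a) hunit
  have hΨ : ∀ c, Ψ (algebraMap C S c) = ψ₀ c := fun c =>
    IsLocalization.Away.lift_eq (algebraMap A C a) hunit c
  -- Φ ∘ Ψ = id
  have h1 : ∀ s, Φ (Ψ s) = s := by
    have : (Φ.toRingHom.comp Ψ) = RingHom.id S := by
      apply IsLocalization.ringHom_ext (Submonoid.powers (algebraMap A C a))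
      have e : (Φ.restrictScalars A).comp ψ₀ = IsScalarTower.toAlgHom A C S := by
        apply hι.algHom_ext
        ext n
        show Φ (ψ₀ (ι n)) = algebraMap C S (ι n)
        rw [hψ₀, hΦι, hfℓ]
      ext c
      simp only [RingHom.coe_comp, Function.comp_apply, RingHom.id_apply]
      rw [hΨ]
      exact congrArg (fun F : C →ₐ[A] S => F c) e
    intro s
    exact congrArg (fun F : S →+* S => F s) this
  -- Ψ ∘ Φ = id
  have hΨB : ∀ b : B, Ψ (algebraMap B S b) = algebraMap B (SymmetricAlgebra B P) b := by
    have : (Ψ.comp (algebraMap B S)) = algebraMap B (SymmetricAlgebra B P) := by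
      apply IsLocalization.ringHom_ext (Submonoid.powers a)
      ext x
      simp only [RingHom.coe_comp, Function.comp_apply]
      rw [← IsScalarTower.algebraMap_apply A B S, IsScalarTower.algebraMap_apply A C S, hΨ,
        ψ₀.commutes, IsScalarTower.algebraMap_apply A B (SymmetricAlgebra B P)]
    intro b
    exact congrArg (fun F : B →+* (SymmetricAlgebra B P) => F b) this
  have hΨf : ∀ p, Ψ (f p) = SymmetricAlgebra.ι B P p := by
    intro p
    obtain ⟨⟨n, s⟩, hs⟩ := IsLocalizedModule.surj (Submonoid.powers a) ℓ p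
    -- s • p = ℓ n
    have hs' : (s : A) • p = ℓ n := hs
    have hu : IsUnit (algebraMap B (SymmetricAlgebra B P) (algebraMap A B (s : A))) := by
      obtain ⟨k, hk⟩ := s.2
      rw [← hk, map_pow, map_pow]
      exact (haB.map _).pow k
    have e1 : algebraMap B (SymmetricAlgebra B P) (algebraMap A B (s : A)) * Ψ (f p) =
        algebraMap B (SymmetricAlgebra B P) (algebraMap A B (s : A)) * SymmetricAlgebra.ι B P p := by
      have e2 : algebraMap B S (algebraMap A B (s : A)) * f p = f (ℓ n) := by
        rw [← hs', ← Algebra.smul_def, ← map_smul, algebraMap_smul]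
      have e3 : algebraMap B (SymmetricAlgebra B P) (algebraMap A B (s : A)) * SymmetricAlgebra.ι B P p =
          SymmetricAlgebra.ι B P (ℓ n) := by
        rw [← hs', ← Algebra.smul_def, ← map_smul, algebraMap_smul]
      rw [e3, ← hΨB, ← map_mul, e2, hfℓ, hΨ, hψ₀]
    exact hu.mul_left_cancel e1
  have h2 : ∀ σ, Ψ (Φ σ) = σ := by
    intro σ
    induction σ using SymmetricAlgebra.induction with
    | algebraMap b => rw [Φ.commutes, hΨB]
    | ι p => rw [hΦι, hΨf]
    | mul x y hx hy => rw [map_mul, map_mul, hx, hy]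
    | add x y hx hy => rw [map_add, map_add, hx, hy]
  exact ⟨Function.LeftInverse.injective h2, Function.RightInverse.surjective h1⟩

end Loc

end Groth.Agent.Lib.Helper8.SymK3
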