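import Mathlib
import Groth.Agent.Lib.Helper8.SymK2
import Groth.Agent.Lib.Helper8.SymK3

set_option backward.isDefEq.respectTransparency.types false
set_option autoImplicit false
set_option linter.unusedSectionVars false
set_option linter.style.haveILetI false

namespace Groth.Agent.Lib.Helper8.SymK4

universe u

open TensorProduct KaehlerDifferential Groth.Agent.Lib.Helper8.SymK1 Groth.Agent.Lib.Helper8.SymK2
  Groth.Agent.Lib.Helper8.SymK3

/-- the symmetric algebra of a finite module is of finite type. -/
theorem finiteType_symmetricAlgebra (A : Type u) [CommRing A] (N : Type u) [AddCommGroup N]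
    [Module A N] [Module.Finite A N] : Algebra.FiniteType A (SymmetricAlgebra A N) := by
  classical
  obtain ⟨s, hs⟩ := (Module.Finite.fg_top : (⊤ : Submodule A N).FG)
  refine ⟨⟨s.image (SymmetricAlgebra.ι A N), ?_⟩⟩
  rw [eq_top_iff]
  intro x hx
  clear hx
  induction x using SymmetricAlgebra.induction with
  | algebraMap r => exact Subalgebra.algebraMap_mem _ r
  | ι p =>
    have hp : p ∈ Submodule.span A (s : Set N) := hs ▸ Submodule.mem_top
    induction hp using Submodule.span_induction with
    | mem y hy => exact Algebra.subset_adjoin (by simpa using ⟨y, hy, rfl⟩)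
    | zero => simp
    | add y z _ _ hy hz => rw [map_add]; exact Subalgebra.add_mem _ hy hz
    | smul r y _ hy => rw [map_smul]; exact Subalgebra.smul_mem _ hy r
  | mul a b ha hb => exact Subalgebra.mul_mem _ ha hb
  | add a b ha hb => exact Subalgebra.add_mem _ ha hb


/-- the localized statement, abstract version. -/
theorem free_kaehler_localization_aux {R A C : Type u} [CommRing R] [CommRing A] [CommRing C]
    [Algebra R A] [Algebra A C] [Algebra R C] [IsScalarTower R A C]
    {N F : Type u} [AddCommGroup N] [Module A N] [AddCommGroup F] [Module A F] [Module.Free A F]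
    {ι : N →ₗ[A] C} (hι : IsSymmetricAlgebra ι)
    (i₀ : N →ₗ[A] F) (π : F →ₗ[A] Ω[A⁄R]) (hi₀ : Function.Injective i₀)
    (hπ : Function.Surjective π) (hex₀ : Function.Exact i₀ π) (a : A)
    (B : Type u) [CommRing B] [Algebra A B] [Algebra R B] [IsScalarTower R A B]
    [IsLocalization.Away a B] [Algebra.Smooth R B]
    (S : Type u) [CommRing S] [Algebra C S] [Algebra A S] [IsScalarTower A C S]
    [Algebra R S] [IsLocalization.Away (algebraMap A C a) S]
    [Algebra B S] [IsScalarTower A B S] [IsScalarTower R B S] :
    Module.Free S Ω[S⁄R] := by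
  haveI : Module.Flat A B := IsLocalization.flat B (Submonoid.powers a)
  -- the localized exact sequence
  obtain ⟨i, π', hi, hπ', hex⟩ : ∃ (i : B ⊗[A] N →ₗ[B] B ⊗[A] F)
      (π' : B ⊗[A] F →ₗ[B] B ⊗[A] Ω[A⁄R]),
      Function.Injective i ∧ Function.Surjective π' ∧ Function.Exact i π' := by
    refine ⟨LinearMap.baseChange B i₀, LinearMap.baseChange B π, ?_, ?_, ?_⟩
    · exact Module.Flat.lTensor_preserves_injective_linearMap i₀ hi₀
    · exact LinearMap.lTensor_surjective B hπ
    · exact Module.Flat.lTensor_exact B hex₀
  -- Kähler differentials of the localization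
  obtain ⟨e⟩ : Nonempty (B ⊗[A] Ω[A⁄R] ≃ₗ[B] Ω[B⁄R]) := by
    have h1 : IsLocalizedModule (Submonoid.powers a) (KaehlerDifferential.map R R A B) :=
      inferInstance
    exact ⟨((isLocalizedModule_iff_isBaseChange (Submonoid.powers a) B _).mp h1).equiv⟩
  -- the symmetric algebra structure
  obtain ⟨f, hfℓ⟩ : ∃ f : B ⊗[A] N →ₗ[B] S, ∀ x : N,
      f (TensorProduct.mk A B N 1 x) = algebraMap C S (ι x) := by
    refine ⟨LinearMap.liftBaseChange B ((IsScalarTower.toAlgHom A C S).toLinearMap ∘ₗ ι), ?_⟩
    intro x
    simp
  have hf : IsSymmetricAlgebra f :=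
    isSymmetricAlgebra_localization hι a (TensorProduct.mk A B N 1) f hfℓ
  haveI : Module.Projective B Ω[B⁄R] := inferInstance
  exact free_kaehler_of_isSymmetricAlgebra i π' hi hπ' hex e hf

/-- the localized statement for the literal localizations. -/
theorem free_kaehler_localization {R A C : Type u} [CommRing R] [CommRing A] [CommRing C]
    [Algebra R A] [Algebra A C] [Algebra R C] [IsScalarTower R A C]
    {N F : Type u} [AddCommGroup N] [Module A N] [AddCommGroup F] [Module A F] [Module.Free A F]
    {ι : N →ₗ[A] C} (hι : IsSymmetricAlgebra ι)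
    (i₀ : N →ₗ[A] F) (π : F →ₗ[A] Ω[A⁄R]) (hi₀ : Function.Injective i₀)
    (hπ : Function.Surjective π) (hex₀ : Function.Exact i₀ π) (a : A)
    [Algebra.Smooth R (Localization.Away a)] :
    Module.Free (Localization.Away (algebraMap A C a))
      Ω[Localization.Away (algebraMap A C a)⁄R] := by
  have hunit : IsUnit ((algebraMap A (Localization.Away (algebraMap A C a))) a) := by
    rw [IsScalarTower.algebraMap_apply A C (Localization.Away (algebraMap A C a))]
    exact IsLocalization.Away.algebraMap_isUnit (algebraMap A C a)
  letI algBS : Algebra (Localization.Away a) (Localization.Away (algebraMap A C a)) :=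
    (IsLocalization.Away.lift a hunit).toAlgebra
  haveI : IsScalarTower A (Localization.Away a) (Localization.Away (algebraMap A C a)) :=
    IsScalarTower.of_algebraMap_eq (fun x => by
      show algebraMap A (Localization.Away (algebraMap A C a)) x =
        (IsLocalization.Away.lift a hunit) (algebraMap A (Localization.Away a) x)
      rw [IsLocalization.Away.lift_eq])
  haveI : IsScalarTower R (Localization.Away a) (Localization.Away (algebraMap A C a)) :=
    IsScalarTower.of_algebraMap_eq (fun r => by
      rw [IsScalarTower.algebraMap_apply R A (Localization.Away (algebraMap A C a)),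
        IsScalarTower.algebraMap_apply A (Localization.Away a) (Localization.Away (algebraMap A C a)),
        ← IsScalarTower.algebraMap_apply R A (Localization.Away a)])
  exact free_kaehler_localization_aux hι i₀ π hi₀ hπ hex₀ a (Localization.Away a)
    (Localization.Away (algebraMap A C a))

/-- S2110. -/
theorem main2110 {R A : Type u} [CommRing R] [CommRing A] [Algebra R A]
    [Algebra.FinitePresentation R A] :
    ∃ (C : Type u) (_ : CommRing C) (_ : Algebra A C) (_ : Algebra R C) (_ : IsScalarTower R A C),
      Algebra.FiniteType A C ∧ Nonempty (C →ₐ[A] A) ∧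
      ∀ a : A, Algebra.Smooth R (Localization.Away a) →
        Module.Free (Localization.Away (algebraMap A C a))
          Ω[Localization.Away (algebraMap A C a)⁄R] := by
  obtain ⟨n, π, hπ⟩ := Module.Finite.exists_fin' A Ω[A⁄R]
  have hfg : (LinearMap.ker π).FG := Module.FinitePresentation.fg_ker π hπ
  haveI : Module.Finite A (LinearMap.ker π) := Module.Finite.iff_fg.mpr hfg
  refine ⟨SymmetricAlgebra A (LinearMap.ker π), inferInstance, inferInstance, inferInstance,
    inferInstance, finiteType_symmetricAlgebra A _, ⟨SymmetricAlgebra.algebraMapInv⟩, ?_⟩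
  intro a ha
  exact free_kaehler_localization SymmetricAlgebra.isSymmetricAlgebra_ι (LinearMap.ker π).subtype π
    (LinearMap.ker π).injective_subtype hπ (LinearMap.exact_subtype_ker_map π) a

end Groth.Agent.Lib.Helper8.SymK4
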