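import Mathlib
import Groth.Agent.Lib.Helper8.SymK4

set_option backward.isDefEq.respectTransparency.types false
set_option autoImplicit false
set_option linter.unusedSectionVars false
set_option linter.style.haveILetI false

/-!
# The retract `C` of S2110, with formal smoothness of `C_a`
-/

namespace Groth.Agent.Lib.Helper8.SymK5

universe u

open TensorProduct KaehlerDifferential Groth.Agent.Lib.Helper8.SymK1 Groth.Agent.Lib.Helper8.SymK2
  Groth.Agent.Lib.Helper8.SymK3 Groth.Agent.Lib.Helper8.SymK4

section Main

variable {R B S : Type u} [CommRing R] [CommRing B] [CommRing S] [Algebra R B] [Algebra B S]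
  [Algebra R S] [IsScalarTower R B S]
  {P G Q : Type u} [AddCommGroup P] [Module B P] [AddCommGroup G] [Module B G]
  [AddCommGroup Q] [Module B Q]

theorem formallySmooth_of_isSymmetricAlgebra [Module.Projective B Ω[B⁄R]] [Module.Free B G]
    (i : P →ₗ[B] G) (π : G →ₗ[B] Q) (hi : Function.Injective i) (hπ : Function.Surjective π)
    (hex : Function.Exact i π) (e : Q ≃ₗ[B] Ω[B⁄R])
    {f : P →ₗ[B] S} (hf : IsSymmetricAlgebra f) : Algebra.FormallySmooth B S := by
  haveI : Module.Projective B Q := Module.Projective.of_equiv e.symm
  obtain ⟨eG⟩ := nonempty_equiv_prod_of_exact i π hi hπ hex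
  haveI : Module.Projective B G := inferInstance
  haveI : Module.Projective B (P × Q) := Module.Projective.of_equiv eG
  haveI : Module.Projective B P :=
    Module.Projective.of_split (LinearMap.inl B P Q) (LinearMap.fst B P Q) (by ext; simp)
  exact formallySmooth_of_projective hf

end Main

/-- the localized statement, abstract version. -/
theorem formallySmooth_localization_aux {R A C : Type u} [CommRing R] [CommRing A] [CommRing C]
    [Algebra R A] [Algebra A C] [Algebra R C] [IsScalarTower R A C]
    {N F : Type u} [AddCommGroup N] [Module A N] [AddCommGroup F] [Module A F] [Module.Free A F]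
    {ι : N →ₗ[A] C} (hι : IsSymmetricAlgebra ι)
    (i₀ : N →ₗ[A] F) (π : F →ₗ[A] Ω[A⁄R]) (hi₀ : Function.Injective i₀)
    (hπ : Function.Surjective π) (hex₀ : Function.Exact i₀ π) (a : A)
    (B : Type u) [CommRing B] [Algebra A B] [Algebra R B] [IsScalarTower R A B]
    [IsLocalization.Away a B] [Algebra.Smooth R B]
    (S : Type u) [CommRing S] [Algebra C S] [Algebra A S] [IsScalarTower A C S]
    [Algebra R S] [IsLocalization.Away (algebraMap A C a) S]
    [Algebra B S] [IsScalarTower A B S] [IsScalarTower R B S] :
    Algebra.FormallySmooth R S := by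
  haveI : Module.Flat A B := IsLocalization.flat B (Submonoid.powers a)
  obtain ⟨i, π', hi, hπ', hex⟩ : ∃ (i : B ⊗[A] N →ₗ[B] B ⊗[A] F)
      (π' : B ⊗[A] F →ₗ[B] B ⊗[A] Ω[A⁄R]),
      Function.Injective i ∧ Function.Surjective π' ∧ Function.Exact i π' := by
    refine ⟨LinearMap.baseChange B i₀, LinearMap.baseChange B π, ?_, ?_, ?_⟩
    · exact Module.Flat.lTensor_preserves_injective_linearMap i₀ hi₀
    · exact LinearMap.lTensor_surjective B hπ
    · exact Module.Flat.lTensor_exact B hex₀
  obtain ⟨e⟩ : Nonempty (B ⊗[A] Ω[A⁄R] ≃ₗ[B] Ω[B⁄R]) := by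
    have h1 : IsLocalizedModule (Submonoid.powers a) (KaehlerDifferential.map R R A B) :=
      inferInstance
    exact ⟨((isLocalizedModule_iff_isBaseChange (Submonoid.powers a) B _).mp h1).equiv⟩
  obtain ⟨f, hfℓ⟩ : ∃ f : B ⊗[A] N →ₗ[B] S, ∀ x : N,
      f (TensorProduct.mk A B N 1 x) = algebraMap C S (ι x) := by
    refine ⟨LinearMap.liftBaseChange B ((IsScalarTower.toAlgHom A C S).toLinearMap ∘ₗ ι), ?_⟩
    intro x
    simp
  have hf : IsSymmetricAlgebra f :=
    isSymmetricAlgebra_localization hι a (TensorProduct.mk A B N 1) f hfℓ
  haveI : Module.Projective B Ω[B⁄R] := inferInstance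
  haveI : Algebra.FormallySmooth B S :=
    formallySmooth_of_isSymmetricAlgebra (R := R) i π' hi hπ' hex e hf
  exact Algebra.FormallySmooth.comp R B S

/-- the localized statement for the literal localizations. -/
theorem formallySmooth_localization {R A C : Type u} [CommRing R] [CommRing A] [CommRing C]
    [Algebra R A] [Algebra A C] [Algebra R C] [IsScalarTower R A C]
    {N F : Type u} [AddCommGroup N] [Module A N] [AddCommGroup F] [Module A F] [Module.Free A F]
    {ι : N →ₗ[A] C} (hι : IsSymmetricAlgebra ι)
    (i₀ : N →ₗ[A] F) (π : F →ₗ[A] Ω[A⁄R]) (hi₀ : Function.Injective i₀)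
    (hπ : Function.Surjective π) (hex₀ : Function.Exact i₀ π) (a : A)
    [Algebra.Smooth R (Localization.Away a)] :
    Algebra.FormallySmooth R (Localization.Away (algebraMap A C a)) := by
  have hunit : IsUnit ((algebraMap A (Localization.Away (algebraMap A C a))) a) := by
    rw [IsScalarTower.algebraMap_apply A C (Localization.Away (algebraMap A C a))]
    exact IsLocalization.Away.algebraMap_isUnit (algebraMap A C a)
  letI algBS : Algebra (Localization.Away a) (Localization.Away (algebraMap A C a)) :=
    (IsLocalization.Away.lift a hunit).toAlgebra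
  haveI : IsScalarTower A (Localization.Away a) (Localization.Away (algebraMap A C a)) :=
    IsScalarTower.of_algebraMap_eq (fun x => by
      show algebraMap A (Localization.Away (algebraMap A C a)) x =
        (IsLocalization.Away.lift a hunit) (algebraMap A (Localization.Away a) x)
      rw [IsLocalization.Away.lift_eq])
  haveI : IsScalarTower R (Localization.Away a) (Localization.Away (algebraMap A C a)) :=
    IsScalarTower.of_algebraMap_eq (fun r => by
      rw [IsScalarTower.algebraMap_apply R A (Localization.Away (algebraMap A C a)),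
        IsScalarTower.algebraMap_apply A (Localization.Away a) (Localization.Away (algebraMap A C a)),
        ← IsScalarTower.algebraMap_apply R A (Localization.Away a)])
  exact formallySmooth_localization_aux hι i₀ π hi₀ hπ hex₀ a (Localization.Away a)
    (Localization.Away (algebraMap A C a))

/-- S2110, strengthened: `C_a` is moreover formally smooth over `R`. -/
theorem main2110' {R A : Type u} [CommRing R] [CommRing A] [Algebra R A]
    [Algebra.FinitePresentation R A] :
    ∃ (C : Type u) (_ : CommRing C) (_ : Algebra A C) (_ : Algebra R C) (_ : IsScalarTower R A C),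
      Algebra.FiniteType A C ∧ Nonempty (C →ₐ[A] A) ∧
      ∀ a : A, Algebra.Smooth R (Localization.Away a) →
        Algebra.FormallySmooth R (Localization.Away (algebraMap A C a)) ∧
        Module.Free (Localization.Away (algebraMap A C a))
          Ω[Localization.Away (algebraMap A C a)⁄R] := by
  obtain ⟨n, π, hπ⟩ := Module.Finite.exists_fin' A Ω[A⁄R]
  have hfg : (LinearMap.ker π).FG := Module.FinitePresentation.fg_ker π hπ
  haveI : Module.Finite A (LinearMap.ker π) := Module.Finite.iff_fg.mpr hfg
  refine ⟨SymmetricAlgebra A (LinearMap.ker π), inferInstance, inferInstance, inferInstance,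
    inferInstance, finiteType_symmetricAlgebra A _, ⟨SymmetricAlgebra.algebraMapInv⟩, ?_⟩
  intro a ha
  exact ⟨formallySmooth_localization SymmetricAlgebra.isSymmetricAlgebra_ι (LinearMap.ker π).subtype π
      (LinearMap.ker π).injective_subtype hπ (LinearMap.exact_subtype_ker_map π) a,
    free_kaehler_localization SymmetricAlgebra.isSymmetricAlgebra_ι (LinearMap.ker π).subtype π
      (LinearMap.ker π).injective_subtype hπ (LinearMap.exact_subtype_ker_map π) a⟩

end Groth.Agent.Lib.Helper8.SymK5
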