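import Mathlib
import Groth.Prelude.Def_Smoothing
import Groth.Agent.Lib.Helper8.SI1
import Groth.Agent.Lib.Helper8.SymK5
import Groth.Agent.Lib.Helper8.SF6
import Groth.Agent.Lib.Helper8.BB3

set_option backward.isDefEq.respectTransparency.types false
set_option autoImplicit false
set_option linter.unusedSectionVars false
set_option linter.style.haveILetI false

namespace Groth.Agent.Lib.Helper8.FN6

open Smoothing MvPolynomial Groth.Agent.Lib.Helper8

universe u

theorem mem_singularIdeal_of_formallySmooth {R C : Type u} [CommRing R] [CommRing C] [Algebra R C]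
    [Algebra.FinitePresentation R C] (c : C)
    (h : Algebra.FormallySmooth R (Localization.Away c)) : c ∈ singularIdeal R C := by
  rw [SI1.mem_singularIdeal_iff]
  haveI : Algebra.FinitePresentation C (Localization.Away c) :=
    IsLocalization.Away.finitePresentation c
  haveI : Algebra.FinitePresentation R (Localization.Away c) :=
    Algebra.FinitePresentation.trans R C _
  exact ⟨h, inferInstance⟩

/-- S2031 for a localization with free module of differentials -/
theorem exists_pow_std {R C : Type u} [CommRing R] [CommRing C] [Algebra R C]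
    [Algebra.FinitePresentation R C] (c : C)
    (h : Algebra.FormallySmooth R (Localization.Away c))
    (hfree : Module.Free (Localization.Away c) Ω[Localization.Away c⁄R]) :
    ∃ e₀ : ℕ, ∀ n : ℕ, e₀ ≤ n → IsStrictlyStandard R C (c ^ n) := by
  haveI : Algebra.FinitePresentation C (Localization.Away c) :=
    IsLocalization.Away.finitePresentation c
  haveI : Algebra.FinitePresentation R (Localization.Away c) :=
    Algebra.FinitePresentation.trans R C _
  haveI : Algebra.Smooth R (Localization.Away c) := ⟨h, inferInstance⟩
  haveI : Module.Finite (Localization.Away c) Ω[Localization.Away c⁄R] := inferInstance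
  rcases subsingleton_or_nontrivial (Localization.Away c) with hS | hN
  · haveI : Subsingleton Ω[Localization.Away c⁄R] := Module.subsingleton (Localization.Away c) _
    exact SF6.main2031 c 0 0
      (LinearEquiv.ofSubsingleton _ _)
  · let b := Module.finBasis (Localization.Away c) Ω[Localization.Away c⁄R]
    exact SF6.main2031 c 0 _
      ((LinearEquiv.prodUnique (R := Localization.Away c) (M := Ω[Localization.Away c⁄R])
        (M₂ := Fin 0 → Localization.Away c)).trans b.equivFun)

/-- Part A: the algebra `C` over `R = k[x]` -/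
theorem partA (k : Type u) [Field k] {A : Type u} [CommRing A] [Algebra k A]
    [Algebra.FinitePresentation k A] (d r n : ℕ) (a : Fin r → A)
    (ha : ∀ j, a j ∈ singularIdeal k A) :
    ∃ (C : Type u) (_ : CommRing C) (_ : Algebra (BB1.BB k d r n a) C)
      (_ : Algebra (MvPolynomial (Fin d) k) C)
      (_ : IsScalarTower (MvPolynomial (Fin d) k) (BB1.BB k d r n a) C),
      Algebra.FinitePresentation (MvPolynomial (Fin d) k) C ∧
      Nonempty (C →ₐ[BB1.BB k d r n a] BB1.BB k d r n a) ∧
      (∀ b ∈ singularIdeal (MvPolynomial (Fin d) k) (BB1.BB k d r n a),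
        algebraMap (BB1.BB k d r n a) C b ∈ singularIdeal (MvPolynomial (Fin d) k) C) ∧
      ∃ c : ℕ, 0 < c ∧ ∀ i : Fin d,
        IsStrictlyStandard (MvPolynomial (Fin d) k) C
          (algebraMap (MvPolynomial (Fin d) k) C (X i ^ c)) := by
  obtain ⟨C, _, algBC, algRC, tower, hft, hret, hC⟩ :=
    SymK5.main2110' (R := MvPolynomial (Fin d) k) (A := BB1.BB k d r n a)
  haveI := hft
  haveI hfp : Algebra.FinitePresentation (MvPolynomial (Fin d) k) C := by
    haveI : Algebra.FiniteType (MvPolynomial (Fin d) k) C :=
      Algebra.FiniteType.trans (S := BB1.BB k d r n a) inferInstance inferInstance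
    exact Algebra.FinitePresentation.of_finiteType.mp inferInstance
  refine ⟨C, inferInstance, algBC, algRC, tower, hfp, hret, ?_, ?_⟩
  · intro b hb
    rw [SI1.mem_singularIdeal_iff] at hb
    exact mem_singularIdeal_of_formallySmooth _ (hC b hb).1
  · have h1 : ∀ i : Fin d, ∃ e₀ : ℕ, ∀ m : ℕ, e₀ ≤ m →
        IsStrictlyStandard (MvPolynomial (Fin d) k) C
          (algebraMap (MvPolynomial (Fin d) k) C (X i ^ m)) := by
      intro i
      have hb := BB2.X_mem_singularIdeal k d r n a ha i
      rw [SI1.mem_singularIdeal_iff] at hb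
      obtain ⟨h2, h3⟩ := hC _ hb
      obtain ⟨e₀, he₀⟩ := exists_pow_std _ h2 h3
      refine ⟨e₀, fun m hm => ?_⟩
      have := he₀ m hm
      rw [← IsScalarTower.algebraMap_apply, ← map_pow] at this
      exact this
    choose e₀ he₀ using h1
    refine ⟨1 + ∑ i, e₀ i, by omega, fun i => he₀ i _ ?_⟩
    have : e₀ i ≤ ∑ i, e₀ i := Finset.single_le_sum (f := e₀) (fun _ _ => Nat.zero_le _)
      (Finset.mem_univ i)
    omega

end Groth.Agent.Lib.Helper8.FN6
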