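import Mathlib
import Groth.Prelude.Def_Smoothing

set_option backward.isDefEq.respectTransparency.types false
set_option autoImplicit false
set_option linter.unusedSectionVars false
set_option linter.style.haveILetI false

namespace Groth.Agent.Lib.Helper8.FN7

open Smoothing IsLocalRing

universe u

/-- a power of `𝔮` lands in `I` after localizing at a prime `𝔮` minimal over `I`. -/
theorem exists_pow_map_le {Λ : Type*} [CommRing Λ] [IsNoetherianRing Λ] (I 𝔮 : Ideal Λ) [𝔮.IsPrime]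
    (hmin : 𝔮 ∈ I.minimalPrimes) (T : Type*) [CommRing T] [Algebra Λ T]
    [IsLocalization.AtPrime T 𝔮] :
    ∃ n : ℕ, 0 < n ∧ (𝔮 ^ n).map (algebraMap Λ T) ≤ I.map (algebraMap Λ T) := by
  haveI : IsLocalRing T := IsLocalization.AtPrime.isLocalRing T 𝔮
  haveI : IsNoetherianRing T := IsLocalization.isNoetherianRing 𝔮.primeCompl T inferInstance
  have h𝔪 : 𝔮.map (algebraMap Λ T) = maximalIdeal T :=
    IsLocalization.AtPrime.map_eq_maximalIdeal 𝔮 T
  have hrad : maximalIdeal T ≤ (I.map (algebraMap Λ T)).radical := by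
    rw [Ideal.radical_eq_sInf]
    refine le_sInf ?_
    rintro P ⟨hIP, hP⟩
    haveI := hP
    have h1 : I ≤ P.comap (algebraMap Λ T) := Ideal.map_le_iff_le_comap.mp hIP
    have h2 : P.comap (algebraMap Λ T) ≤ 𝔮 := by
      rw [← IsLocalization.AtPrime.comap_maximalIdeal T 𝔮]
      exact Ideal.comap_mono (IsLocalRing.le_maximalIdeal hP.ne_top)
    have h3 : 𝔮 ≤ P.comap (algebraMap Λ T) := hmin.2 ⟨Ideal.comap_isPrime _ _, h1⟩ h2
    rw [← h𝔪]
    exact Ideal.map_le_iff_le_comap.mpr h3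
  obtain ⟨n, hn⟩ := Ideal.exists_radical_pow_le_of_fg (I.map (algebraMap Λ T))
    (IsNoetherian.noetherian _)
  refine ⟨n + 1, Nat.succ_pos n, ?_⟩
  rw [Ideal.map_pow, h𝔪]
  exact ((Ideal.pow_le_pow_right (Nat.le_succ n)).trans (Ideal.pow_right_mono hrad n)).trans hn

theorem ann_transfer {Λ : Type*} [CommRing Λ] {d : ℕ} (π p : Fin d → Λ) (c : ℕ) (hc : 0 < c)
    (hp : ∀ i, p i = π i ^ c)
    (h : ∀ i : Fin d, ∀ x : Λ ⧸ Ideal.span (Set.range
        fun j : {j : Fin d // (j : ℕ) < (i : ℕ)} => π j ^ (c * 8)),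
      Ideal.Quotient.mk _ (π i) ^ 2 * x = 0 → Ideal.Quotient.mk _ (π i) * x = 0) :
    ∀ i : Fin d, ∀ x : Λ ⧸ Ideal.span (Set.range
        fun j : {j : Fin d // (j : ℕ) < (i : ℕ)} => p j ^ 8),
      Ideal.Quotient.mk _ (p i) ^ 2 * x = 0 → Ideal.Quotient.mk _ (p i) * x = 0 := by
  intro i x hx
  obtain ⟨y, rfl⟩ := Ideal.Quotient.mk_surjective x
  have hJ : Ideal.span (Set.range fun j : {j : Fin d // (j : ℕ) < (i : ℕ)} => p j ^ 8) =
      Ideal.span (Set.range fun j : {j : Fin d // (j : ℕ) < (i : ℕ)} => π j ^ (c * 8)) := by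
    congr 2
    funext j
    rw [hp, pow_mul]
  rw [← map_pow, ← map_mul, Ideal.Quotient.eq_zero_iff_mem, hJ] at hx
  rw [← map_mul, Ideal.Quotient.eq_zero_iff_mem, hJ]
  have hm : ∀ z : Λ, π i ^ 2 * z ∈ Ideal.span (Set.range
      fun j : {j : Fin d // (j : ℕ) < (i : ℕ)} => π j ^ (c * 8)) →
      π i * z ∈ Ideal.span (Set.range
        fun j : {j : Fin d // (j : ℕ) < (i : ℕ)} => π j ^ (c * 8)) := by
    intro z hz
    have := h i (Ideal.Quotient.mk _ z)
    rw [← map_pow, ← map_mul, ← map_mul, Ideal.Quotient.eq_zero_iff_mem,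
      Ideal.Quotient.eq_zero_iff_mem] at this
    exact this hz
  have hind : ∀ m : ℕ, ∀ z : Λ, π i ^ (m + 2) * z ∈ Ideal.span (Set.range
      fun j : {j : Fin d // (j : ℕ) < (i : ℕ)} => π j ^ (c * 8)) →
      π i * z ∈ Ideal.span (Set.range
        fun j : {j : Fin d // (j : ℕ) < (i : ℕ)} => π j ^ (c * 8)) := by
    intro m
    induction m with
    | zero => exact hm
    | succ m ih =>
      intro z hz
      apply ih
      have h1 : π i ^ (m + 1 + 2) * z = π i ^ 2 * (π i ^ (m + 1) * z) := by ring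
      rw [h1] at hz
      have h2 := hm _ hz
      have h3 : π i * (π i ^ (m + 1) * z) = π i ^ (m + 2) * z := by ring
      rw [h3] at h2
      exact h2
  obtain ⟨c', rfl⟩ : ∃ c', c = c' + 1 := ⟨c - 1, by omega⟩
  have h4 : p i ^ 2 * y = π i ^ (2 * c' + 2) * y := by
    rw [hp]
    ring
  rw [h4] at hx
  have h5 := hind _ y hx
  have h6 : p i * y = π i ^ c' * (π i * y) := by
    rw [hp]
    ring
  rw [h6]
  exact Ideal.mul_mem_left _ _ h5

theorem exists_phiK {R A Λ : Type u} [CommRing R] [CommRing A] [Algebra R A] [CommRing Λ]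
    [Algebra R Λ] (φ : A →ₐ[R] Λ) (K : Ideal R) :
    ∃ φK : (A ⧸ K.map (algebraMap R A)) →ₐ[R ⧸ K] (Λ ⧸ K.map (algebraMap R Λ)),
      ∀ a : A, φK (Ideal.Quotient.mk _ a) = Ideal.Quotient.mk _ (φ a) := by
  have hcomap : K.map (algebraMap R A) ≤ (K.map (algebraMap R Λ)).comap φ.toRingHom := by
    rw [Ideal.map_le_iff_le_comap]
    intro k hk
    rw [Ideal.mem_comap, Ideal.mem_comap]
    change φ (algebraMap R A k) ∈ _
    rw [AlgHom.commutes]
    exact Ideal.mem_map_of_mem _ hk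
  let φ₀ : (A ⧸ K.map (algebraMap R A)) →ₐ[R ⧸ K] (Λ ⧸ K.map (algebraMap R Λ)) :=
    { toRingHom := Ideal.quotientMap (K.map (algebraMap R Λ)) φ.toRingHom hcomap
      commutes' := by
        intro r
        obtain ⟨r, rfl⟩ := Ideal.Quotient.mk_surjective r
        change Ideal.quotientMap _ φ.toRingHom hcomap (Ideal.Quotient.mk _ (algebraMap R A r)) = _
        rw [Ideal.quotientMap_mk]
        change Ideal.Quotient.mk _ (φ (algebraMap R A r)) = _
        rw [AlgHom.commutes]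
        rfl }
  exact ⟨φ₀, fun a => rfl⟩

end Groth.Agent.Lib.Helper8.FN7
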