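import Mathlib

set_option backward.isDefEq.respectTransparency.types false
set_option autoImplicit false
set_option linter.unusedSectionVars false
set_option linter.style.haveILetI false

/-!
# Powers of variables are nonzerodivisors modulo powers of earlier variables
-/

namespace Groth.Agent.Lib.Helper8.MN1

open MvPolynomial

theorem mem_of_X_pow_mul_mem {k : Type*} [CommRing k] {d : ℕ} (i : Fin d) (m E : ℕ)
    (f : MvPolynomial (Fin d) k)
    (h : X i ^ m * f ∈ Ideal.span (Set.range fun j : {j : Fin d // (j : ℕ) < (i : ℕ)} =>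
      (X (j : Fin d) : MvPolynomial (Fin d) k) ^ E)) :
    f ∈ Ideal.span (Set.range fun j : {j : Fin d // (j : ℕ) < (i : ℕ)} =>
      (X (j : Fin d) : MvPolynomial (Fin d) k) ^ E) := by
  classical
  have hset : (Set.range fun j : {j : Fin d // (j : ℕ) < (i : ℕ)} =>
      (X (j : Fin d) : MvPolynomial (Fin d) k) ^ E) =
      (fun s => monomial s (1 : k)) ''
        (Set.range fun j : {j : Fin d // (j : ℕ) < (i : ℕ)} => Finsupp.single (j : Fin d) E) := by
    rw [← Set.range_comp]
    congr 1
    funext j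
    rw [Function.comp_apply, X_pow_eq_monomial]
  rw [hset, mem_ideal_span_monomial_image] at h ⊢
  intro s hs
  have hs' : Finsupp.single i m + s ∈ (X i ^ m * f).support := by
    rw [mem_support_iff, X_pow_eq_monomial, coeff_monomial_mul, one_mul]
    exact mem_support_iff.mp hs
  obtain ⟨_, ⟨j, rfl⟩, hj⟩ := h _ hs'
  refine ⟨_, ⟨j, rfl⟩, ?_⟩
  intro v
  by_cases hv : v = (j : Fin d)
  · subst hv
    have h1 := hj (j : Fin d)
    have hne : i ≠ (j : Fin d) := by
      intro hij
      have := j.2
      rw [← hij] at this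
      exact lt_irrefl _ this
    rw [Finsupp.add_apply, Finsupp.single_eq_of_ne' hne, zero_add] at h1
    exact h1
  · rw [Finsupp.single_eq_of_ne' (Ne.symm hv)]
    exact Nat.zero_le _

/-- the annihilator condition of S6822 for the polynomial ring. -/
theorem ann_condition {k : Type*} [CommRing k] {d : ℕ} (c : ℕ) (i : Fin d)
    (x : MvPolynomial (Fin d) k ⧸ Ideal.span (Set.range
      fun j : {j : Fin d // (j : ℕ) < (i : ℕ)} => ((X (j : Fin d) : MvPolynomial (Fin d) k) ^ c) ^ 8))
    (hx : Ideal.Quotient.mk _ ((X i : MvPolynomial (Fin d) k) ^ c) ^ 2 * x = 0) :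
    Ideal.Quotient.mk _ ((X i : MvPolynomial (Fin d) k) ^ c) * x = 0 := by
  obtain ⟨f, rfl⟩ := Ideal.Quotient.mk_surjective x
  have hset : (Set.range fun j : {j : Fin d // (j : ℕ) < (i : ℕ)} =>
      ((X (j : Fin d) : MvPolynomial (Fin d) k) ^ c) ^ 8) =
      Set.range fun j : {j : Fin d // (j : ℕ) < (i : ℕ)} =>
      (X (j : Fin d) : MvPolynomial (Fin d) k) ^ (c * 8) := by
    congr 1
    funext j
    rw [pow_mul]
  rw [← map_pow, ← map_mul, Ideal.Quotient.eq_zero_iff_mem, ← pow_mul] at hx
  rw [← map_mul, Ideal.Quotient.eq_zero_iff_mem]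
  refine Ideal.mul_mem_left _ _ ?_
  rw [hset] at hx ⊢
  exact mem_of_X_pow_mul_mem i (c * 2) (c * 8) f hx

end Groth.Agent.Lib.Helper8.MN1
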