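import Mathlib
import Groth.Agent.Lib.Helper8.PAR2

set_option backward.isDefEq.respectTransparency.types false
set_option autoImplicit false
set_option linter.unusedSectionVars false
set_option linter.style.haveILetI false

namespace Groth.Agent.Lib.Helper8.PAR3

universe u

open RingTheory.Sequence Groth.Agent.Lib.Helper8.PAR1 Groth.Agent.Lib.Helper8.PAR2

section main

variable {Λ : Type u} [CommRing Λ] [IsNoetherianRing Λ] (I q : Ideal Λ) [hq : q.IsPrime]
  (R : Type u) [CommRing R] [Algebra Λ R] [IsLocalization.AtPrime R q] [IsRegularLocalRing R]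

/-- S2109, abstract localization, with the exponent `N = n` made explicit. -/
theorem main2109_fixed (n e d : ℕ) (hn : 0 < n) (he : 0 < e) (_hIq : I ≤ q)
    (hpow : (q ^ n).map (algebraMap Λ R) ≤ I.map (algebraMap Λ R))
    (hd : ringKrullDim R = d) :
    ∃ (π : Fin d → Λ),
      Ideal.span (Set.range fun i => algebraMap Λ R (π i)) = q.map (algebraMap Λ R) ∧
      (∀ i, π i ^ n ∈ I) ∧
      ∀ i : Fin d, ∀ x : Λ ⧸ Ideal.span (Set.range fun j : {j : Fin d // (j : ℕ) < (i : ℕ)} => π j ^ e),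
        Ideal.Quotient.mk _ (π i) ^ 2 * x = 0 → Ideal.Quotient.mk _ (π i) * x = 0 := by
  classical
  -- generators of the maximal ideal
  have hfg : (IsLocalRing.maximalIdeal R).FG := IsNoetherian.noetherian _
  obtain ⟨T, hTcard, hTspan⟩ := Submodule.FG.exists_span_finset_card_eq_spanFinrank hfg
  have hrank : (IsLocalRing.maximalIdeal R).spanFinrank = d := by
    have h := IsRegularLocalRing.spanFinrank_maximalIdeal (R := R)
    rw [hd] at h
    exact_mod_cast h
  have hcard : T.card = d := hTcard.trans hrank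
  let eT := T.equivFinOfCardEq hcard
  let y : Fin d → R := fun j => (eT.symm j : R)
  have hy : Ideal.span (Set.range y) = IsLocalRing.maximalIdeal R := by
    rw [← hTspan]
    congr 1
    ext z
    constructor
    · rintro ⟨j, rfl⟩
      exact (eT.symm j).2
    · intro hz
      exact ⟨eT ⟨z, hz⟩, by simp [y]⟩
  have hym : ∀ j, y j ∈ IsLocalRing.maximalIdeal R := fun j => hy ▸ Ideal.subset_span ⟨j, rfl⟩
  -- lift to Λ
  have h0 : ∀ j : Fin d, ∃ (a c : Λ), c ∉ q ∧ algebraMap Λ R a = y j * algebraMap Λ R c := by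
    intro j
    obtain ⟨a, ⟨c, hc⟩, hac⟩ := IsLocalization.exists_mk'_eq q.primeCompl (y j)
    refine ⟨a, c, hc, ?_⟩
    rw [← hac]
    exact (IsLocalization.mk'_spec R a ⟨c, hc⟩).symm
  choose a0 c0 hc0 ha0 using h0
  have ha0q : ∀ j, a0 j ∈ q := by
    intro j
    rw [← IsLocalization.AtPrime.to_map_mem_maximal_iff R q (a0 j), ha0]
    exact Ideal.mul_mem_right _ _ (hym j)
  have h1 : ∀ j : Fin d, ∃ s : Λ, s ∉ q ∧ s * a0 j ^ n ∈ I := by
    intro j
    apply exists_mul_mem_of_map_mem q R I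
    apply hpow
    exact Ideal.mem_map_of_mem _ (Ideal.pow_mem_pow (ha0q j) n)
  choose s1 hs1q hs1 using h1
  let p1 : ℕ → Λ := fun j => if h : j < d then s1 ⟨j, h⟩ * a0 ⟨j, h⟩ else 0
  have hp1val : ∀ j : Fin d, p1 j = s1 j * a0 j := by
    intro j
    simp [p1, j.isLt]
  have hp1pow : ∀ j : Fin d, p1 j ^ n ∈ I := by
    intro j
    rw [hp1val, mul_pow]
    obtain ⟨m, rfl⟩ := Nat.exists_eq_add_of_le hn
    have : s1 j ^ (1 + m) * a0 j ^ (1 + m) = s1 j ^ m * (s1 j * a0 j ^ (1 + m)) := by ring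
    rw [this]
    exact I.mul_mem_left _ (hs1 j)
  have hp1 : ∀ j : Fin d, ∃ v : R, IsUnit v ∧ algebraMap Λ R (p1 j) = v * y j := by
    intro j
    refine ⟨algebraMap Λ R (s1 j) * algebraMap Λ R (c0 j), ?_, ?_⟩
    · exact (IsLocalization.map_units R (⟨s1 j, hs1q j⟩ : q.primeCompl)).mul
        (IsLocalization.map_units R (⟨c0 j, hc0 j⟩ : q.primeCompl))
    · rw [hp1val, map_mul, ha0]; ring
  obtain ⟨u, huq, hu⟩ := exists_multipliers q R e d he hd p1 y hy hp1 d le_rfl
  refine ⟨fun i => u i * p1 i, ?_, ?_, ?_⟩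
  · rw [IsLocalization.AtPrime.map_eq_maximalIdeal q R, ← hy]
    apply span_range_eq_of_units
    intro j
    obtain ⟨v, hv, hvj⟩ := hp1 j
    refine ⟨algebraMap Λ R (u j) * v, ?_, ?_⟩
    · exact (IsLocalization.map_units R (⟨u j, huq j⟩ : q.primeCompl)).mul hv
    · rw [map_mul, hvj, mul_assoc]
  · intro i
    rw [mul_pow]
    exact I.mul_mem_left _ (hp1pow i)
  · intro i x hx
    obtain ⟨x, rfl⟩ := Ideal.Quotient.mk_surjective x
    have hrange : (Set.range fun j : {j : Fin d // (j : ℕ) < (i : ℕ)} => (u j * p1 j) ^ e) =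
        (fun j : ℕ => (u j * p1 j) ^ e) '' Set.Iio (i : ℕ) := by
      ext z
      constructor
      · rintro ⟨⟨j, hj⟩, rfl⟩
        exact ⟨(j : ℕ), hj, rfl⟩
      · rintro ⟨k, hk, rfl⟩
        have hk' : k < (i : ℕ) := hk
        exact ⟨⟨⟨k, lt_trans hk' i.isLt⟩, hk'⟩, rfl⟩
    rw [← map_pow, ← map_mul, Ideal.Quotient.eq_zero_iff_mem] at hx
    rw [← map_mul, Ideal.Quotient.eq_zero_iff_mem]
    have hx' : (u i * p1 i) ^ 2 * x ∈
        Ideal.span (Set.range fun j : {j : Fin d // (j : ℕ) < (i : ℕ)} => (u j * p1 j) ^ e) := hx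
    show u i * p1 i * x ∈
        Ideal.span (Set.range fun j : {j : Fin d // (j : ℕ) < (i : ℕ)} => (u j * p1 j) ^ e)
    rw [hrange] at hx' ⊢
    exact hu i i.isLt x hx'

end main

end Groth.Agent.Lib.Helper8.PAR3
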