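import Mathlib
import Groth.Prelude.Def_Smoothing
import Groth.Agent.Lib.Helper8.RS3

set_option backward.isDefEq.respectTransparency.types false
set_option autoImplicit false
set_option linter.unusedSectionVars false
set_option linter.style.haveILetI false

universe u
open Smoothing

namespace Groth.Agent.Lib.Helper8.RS4

open Groth.Agent.Lib.Helper8

theorem main6822 {R A Λ : Type u} [CommRing R] [IsNoetherianRing R]
    [CommRing A] [Algebra R A] [Algebra.FinitePresentation R A] [CommRing Λ] [Algebra R Λ]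
    (φ : A →ₐ[R] Λ) (𝔮 : Ideal Λ) [𝔮.IsPrime] {r : ℕ} (hr : 0 < r) (π : Fin r → R)
    (hπ𝔮 : ∀ i, algebraMap R Λ (π i) ∈ 𝔮)
    (hR : ∀ i : Fin r, ∀ x : R ⧸ Ideal.span (Set.range fun j : {j : Fin r // (j : ℕ) < (i : ℕ)} => π j ^ 8),
      Ideal.Quotient.mk _ (π i) ^ 2 * x = 0 → Ideal.Quotient.mk _ (π i) * x = 0)
    (hΛ : ∀ i : Fin r, ∀ x : Λ ⧸ Ideal.span (Set.range fun j : {j : Fin r // (j : ℕ) < (i : ℕ)} =>
        algebraMap R Λ (π j) ^ 8),
      Ideal.Quotient.mk _ (algebraMap R Λ (π i)) ^ 2 * x = 0 → Ideal.Quotient.mk _ (algebraMap R Λ (π i)) * x = 0)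
    (hstd : ∀ i, Smoothing.IsStrictlyStandard R A (algebraMap R A (π i)))
    (K : Ideal R) (hK : K = Ideal.span (Set.range fun i => π i ^ 8))
    (φK : (A ⧸ K.map (algebraMap R A)) →ₐ[R ⧸ K] (Λ ⧸ K.map (algebraMap R Λ)))
    (hφK : ∀ a : A, φK (Ideal.Quotient.mk _ a) = Ideal.Quotient.mk _ (φ a))
    (hres : Smoothing.Resolvable (R ⧸ K) φK (𝔮.map (Ideal.Quotient.mk (K.map (algebraMap R Λ))))) :
    Smoothing.Resolvable R φ 𝔮 := by
  classical
  let KR : ℕ → Ideal R := fun i =>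
    Ideal.span (Set.range fun j : {j : Fin r // (j : ℕ) < i} => π j ^ 8)
  have hKRr : KR r = K := by
    rw [hK]
    apply le_antisymm
    · rw [Ideal.span_le]
      rintro _ ⟨j, rfl⟩
      exact Ideal.subset_span ⟨j.1, rfl⟩
    · rw [Ideal.span_le]
      rintro _ ⟨j, rfl⟩
      exact Ideal.subset_span ⟨⟨j, j.2⟩, rfl⟩
  have hKRsucc : ∀ i (hi : i < r), KR (i + 1) = KR i ⊔ Ideal.span {π ⟨i, hi⟩ ^ 8} := by
    intro i hi
    apply le_antisymm
    · rw [Ideal.span_le]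
      rintro _ ⟨⟨j, hj⟩, rfl⟩
      rcases Nat.lt_succ_iff_lt_or_eq.mp hj with h | h
      · exact Ideal.mem_sup_left (Ideal.subset_span ⟨⟨j, h⟩, rfl⟩)
      · refine Ideal.mem_sup_right (Ideal.subset_span ?_)
        have : j = ⟨i, hi⟩ := Fin.ext h
        change π j ^ 8 ∈ _
        rw [this]
        rfl
    · refine sup_le ?_ ?_
      · rw [Ideal.span_le]
        rintro _ ⟨⟨j, hj⟩, rfl⟩
        exact Ideal.subset_span ⟨⟨j, Nat.lt_succ_of_lt hj⟩, rfl⟩
      · rw [Ideal.span_le]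
        rintro _ rfl
        exact Ideal.subset_span ⟨⟨⟨i, hi⟩, Nat.lt_succ_self i⟩, rfl⟩
  have hKR0 : KR 0 = ⊥ := by
    rw [eq_bot_iff, Ideal.span_le]
    rintro _ ⟨⟨j, hj⟩, rfl⟩
    exact absurd hj (Nat.not_lt_zero _)
  have hKR𝔮 : ∀ i, (KR i).map (algebraMap R Λ) ≤ 𝔮 := by
    intro i
    rw [Ideal.map_le_iff_le_comap, Ideal.span_le]
    rintro _ ⟨j, rfl⟩
    rw [SetLike.mem_coe, Ideal.mem_comap, map_pow]
    exact Ideal.pow_mem_of_mem _ (hπ𝔮 j) 8 (by norm_num)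
  have hRm : ∀ i : Fin r, ∀ x : R, π i ^ 2 * x ∈ KR i → π i * x ∈ KR i := by
    intro i x hx
    have := hR i (Ideal.Quotient.mk _ x)
    rw [← map_pow, ← map_mul, ← map_mul, Ideal.Quotient.eq_zero_iff_mem,
      Ideal.Quotient.eq_zero_iff_mem] at this
    exact this hx
  have hKRΛ : ∀ i : ℕ, (KR i).map (algebraMap R Λ) =
      Ideal.span (Set.range fun j : {j : Fin r // (j : ℕ) < i} => algebraMap R Λ (π j) ^ 8) := by
    intro i
    rw [Ideal.map_span]
    congr 1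
    ext y
    constructor
    · rintro ⟨_, ⟨j, rfl⟩, rfl⟩
      exact ⟨j, by rw [map_pow]⟩
    · rintro ⟨j, rfl⟩
      exact ⟨_, ⟨j, rfl⟩, by rw [map_pow]⟩
  have hΛm : ∀ i : Fin r, ∀ y : Λ, algebraMap R Λ (π i) ^ 2 * y ∈ (KR i).map (algebraMap R Λ) →
      algebraMap R Λ (π i) * y ∈ (KR i).map (algebraMap R Λ) := by
    intro i y hy
    rw [hKRΛ] at hy ⊢
    have := hΛ i (Ideal.Quotient.mk _ y)
    rw [← map_pow, ← map_mul, ← map_mul, Ideal.Quotient.eq_zero_iff_mem,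
      Ideal.Quotient.eq_zero_iff_mem] at this
    exact this hy
  have hchain : ∀ d i : ℕ, i + d = r → 1 ≤ i → RS3.ResK φ 𝔮 (KR i) := by
    intro d
    induction d with
    | zero =>
      intro i hi _
      rw [Nat.add_zero] at hi
      rw [hi, hKRr]
      exact ⟨φK, hφK, hres⟩
    | succ d ih =>
      intro i hi h1
      have hir : i < r := by omega
      have h2 := ih (i + 1) (by omega) (by omega)
      exact RS3.step_quot φ 𝔮 (KR i) (KR (i + 1)) (π ⟨i, hir⟩) (hKRsucc i hir) (hKR𝔮 i)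
        (hπ𝔮 _) (hRm ⟨i, hir⟩) (hΛm ⟨i, hir⟩) (hstd _) h2
  have h1 := hchain (r - 1) 1 (by omega) le_rfl
  have hKR1 : KR 1 = Ideal.span {π ⟨0, hr⟩ ^ 8} := by
    rw [hKRsucc 0 hr, hKR0, bot_sup_eq]
  rw [hKR1] at h1
  refine RS3.step_final φ 𝔮 (π ⟨0, hr⟩) (hπ𝔮 _) ?_ ?_ (hstd _) h1
  · intro x hx
    have := hRm ⟨0, hr⟩ x (by
      change _ ∈ KR 0
      rw [hKR0, hx]; exact zero_mem _)
    change _ ∈ KR 0 at this
    rw [hKR0] at this
    exact this
  · intro x hx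
    rw [Algebra.smul_def, map_pow] at hx
    have := hΛm ⟨0, hr⟩ x (by
      change _ ∈ (KR 0).map _
      rw [hx]; exact zero_mem _)
    change _ ∈ (KR 0).map _ at this
    rw [hKR0, Ideal.map_bot] at this
    rw [Algebra.smul_def]
    exact this

end Groth.Agent.Lib.Helper8.RS4
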