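import Mathlib
import Groth.Prelude.Def_Smoothing
import Groth.Agent.Lib.Helper8.FN4
import Groth.Agent.Lib.Helper8.FN5
import Groth.Agent.Lib.Helper8.FN6
import Groth.Agent.Lib.Helper8.FN7
import Groth.Agent.Lib.Helper8.PAR3
import Groth.Agent.Lib.Helper8.MN1
import Groth.Agent.Lib.Helper8.RS4

set_option backward.isDefEq.respectTransparency.types false
set_option autoImplicit false
set_option linter.unusedSectionVars false
set_option linter.style.haveILetI false

namespace Groth.Agent.Lib.Helper8.FN8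

open Smoothing MvPolynomial IsLocalRing Groth.Agent.Lib.Helper8

universe u

theorem main_dim_zero {k A Λ : Type u} [Field k] [CommRing A] [Algebra k A]
    [Algebra.FinitePresentation k A] [CommRing Λ] [Algebra k Λ] [IsNoetherianRing Λ]
    (φ : A →ₐ[k] Λ) (𝔮 : Ideal Λ) [𝔮.IsPrime] (hmin : 𝔮 ∈ (singRad k φ).minimalPrimes)
    [IsRegularLocalRing (Localization.AtPrime 𝔮)]
    [Algebra.IsGeometricallyReduced k 𝔮.ResidueField]
    (hd : ringKrullDim (Localization.AtPrime 𝔮) = 0) : Resolvable k φ 𝔮 := by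
  have h𝔪 : maximalIdeal (Localization.AtPrime 𝔮) = ⊥ := by
    have h := IsRegularLocalRing.spanFinrank_maximalIdeal (R := Localization.AtPrime 𝔮)
    rw [hd] at h
    have h' : (maximalIdeal (Localization.AtPrime 𝔮)).spanFinrank = 0 := by exact_mod_cast h
    exact (Submodule.spanFinrank_eq_zero_iff_eq_bot (IsNoetherian.noetherian _)).mp h'
  have hbij : Function.Bijective (IsLocalRing.residue (Localization.AtPrime 𝔮)) := by
    refine ⟨?_, IsLocalRing.residue_surjective⟩
    rw [injective_iff_map_eq_zero]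
    intro x hx
    have : x ∈ maximalIdeal _ := (IsLocalRing.residue_eq_zero_iff x).mp hx
    rw [h𝔪] at this
    exact this
  have hind : IndSmooth k (Localization.AtPrime 𝔮) := by
    refine IS2.indSmooth_of_ringEquiv (RingEquiv.refl k) (RingEquiv.ofBijective _ hbij).symm ?_
      (GS1.indSmooth_of_isGeometricallyReduced k 𝔮.ResidueField)
    intro c
    rw [RingEquiv.symm_apply_eq]
    rfl
  refine AZ1.resolvable_of_indSmooth_localization (Λq := Localization.AtPrime 𝔮) φ 𝔮 hmin ?_ hd hind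
  intro r hr
  refine IsUnit.mk0 r ?_
  rintro rfl
  exact hr (by rw [map_zero]; exact zero_mem _)

theorem main6823 {k A Λ : Type u} [Field k] [CommRing A] [Algebra k A]
    [Algebra.FinitePresentation k A] [CommRing Λ] [Algebra k Λ] [IsNoetherianRing Λ]
    (φ : A →ₐ[k] Λ) (𝔮 : Ideal Λ) [𝔮.IsPrime] (hmin : 𝔮 ∈ (singRad k φ).minimalPrimes)
    [IsRegularLocalRing (Localization.AtPrime 𝔮)]
    [Algebra.IsGeometricallyReduced k 𝔮.ResidueField] : Resolvable k φ 𝔮 := by
  classical
  obtain ⟨d, hd⟩ : ∃ d : ℕ, ringKrullDim (Localization.AtPrime 𝔮) = d :=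
    ⟨_, (IsRegularLocalRing.spanFinrank_maximalIdeal (R := Localization.AtPrime 𝔮)).symm⟩
  rcases Nat.eq_zero_or_pos d with rfl | hdpos
  · exact main_dim_zero φ 𝔮 hmin (by rw [hd]; rfl)
  -- generators of the singular ideal
  haveI : IsNoetherianRing A := Algebra.FiniteType.isNoetherianRing k A
  obtain ⟨r, a, ha⟩ := (Submodule.fg_iff_exists_fin_generating_family).mp
    (IsNoetherian.noetherian (singularIdeal k A))
  have ha' : Ideal.span (Set.range a) = singularIdeal k A := ha
  have haH : ∀ j, a j ∈ singularIdeal k A := fun j => ha' ▸ Ideal.subset_span ⟨j, rfl⟩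
  -- the ideal `I`
  have hI𝔮 : (singularIdeal k A).map φ ≤ 𝔮 := le_trans Ideal.le_radical hmin.1.2
  have hminI : 𝔮 ∈ ((singularIdeal k A).map φ).minimalPrimes := by
    rw [← Ideal.radical_minimalPrimes]
    exact hmin
  obtain ⟨n, hn, hpow⟩ := FN7.exists_pow_map_le ((singularIdeal k A).map φ) 𝔮 hminI
    (Localization.AtPrime 𝔮)
  -- the algebra `C`
  obtain ⟨Cr, _, algBC, algRC, tower, hCfp, ⟨ret⟩, hCsing, c, hc, hstd⟩ :=
    FN6.partA k d r n a haH
  haveI := hCfp
  -- the parameters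
  obtain ⟨π, hπspan, hπpow, hπann⟩ := PAR3.main2109_fixed ((singularIdeal k A).map φ) 𝔮
    (Localization.AtPrime 𝔮) n (c * 8) d hn (by omega) hI𝔮 hpow hd
  have hπ𝔮 : ∀ i, π i ∈ 𝔮 := fun i =>
    Ideal.IsPrime.mem_of_pow_mem inferInstance n (hI𝔮 (hπpow i))
  -- coefficients
  have hIspan : (singularIdeal k A).map φ = Ideal.span (Set.range fun j => φ (a j)) := by
    rw [← ha', Ideal.map_span, ← Set.range_comp]
    rfl
  have hlam : ∀ i, ∃ l : Fin r → Λ, ∑ j, l j * φ (a j) = π i ^ n := by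
    intro i
    have := hπpow i
    rw [hIspan] at this
    exact (Ideal.mem_span_range_iff_exists_fun).mp this
  choose lam hlam using hlam
  -- `R`-algebra structure on `Λ`
  letI algRΛ : Algebra (MvPolynomial (Fin d) k) Λ :=
    (aeval π : MvPolynomial (Fin d) k →ₐ[k] Λ).toRingHom.toAlgebra
  have halgX : ∀ i, algebraMap (MvPolynomial (Fin d) k) Λ (X i) = π i := fun i => aeval_X π i
  haveI : IsScalarTower k (MvPolynomial (Fin d) k) Λ :=
    IsScalarTower.of_algebraMap_eq fun c₀ => (aeval_C π c₀).symm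
  have hrel : ∀ i, (algebraMap (MvPolynomial (Fin d) k) Λ (X i)) ^ n =
      ∑ j, lam i j * φ (a j) := fun i => by rw [halgX, hlam]
  have hspan : Ideal.span (Set.range fun i =>
      algebraMap (MvPolynomial (Fin d) k) (Localization.AtPrime 𝔮) (X i)) =
        maximalIdeal (Localization.AtPrime 𝔮) := by
    rw [← IsLocalization.AtPrime.map_eq_maximalIdeal 𝔮 (Localization.AtPrime 𝔮), ← hπspan]
    congr 2
    funext i
    rw [IsScalarTower.algebraMap_apply (MvPolynomial (Fin d) k) Λ (Localization.AtPrime 𝔮), halgX]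
  -- the maps
  let ψB := BB3.psiB k d r n a φ lam hrel
  letI algkC : Algebra k Cr := ((algebraMap (MvPolynomial (Fin d) k) Cr).comp
    (algebraMap k (MvPolynomial (Fin d) k))).toAlgebra
  haveI : IsScalarTower k (MvPolynomial (Fin d) k) Cr :=
    IsScalarTower.of_algebraMap_eq fun _ => rfl
  let φC : Cr →ₐ[MvPolynomial (Fin d) k] Λ :=
    ψB.comp (ret.restrictScalars (MvPolynomial (Fin d) k))
  let gC : A →ₐ[k] Cr :=
    { toRingHom := (algebraMap (BB1.BB k d r n a) Cr).comp (BB2.inclB k d r n a)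
      commutes' := by
        intro c₀
        show algebraMap (BB1.BB k d r n a) Cr (BB2.inclB k d r n a (algebraMap k A c₀)) =
          algebraMap k Cr c₀
        rw [← BB3.inclBₐ_apply, AlgHom.commutes,
          IsScalarTower.algebraMap_apply k (MvPolynomial (Fin d) k) (BB1.BB k d r n a),
          ← IsScalarTower.algebraMap_apply (MvPolynomial (Fin d) k) (BB1.BB k d r n a) Cr]
        rfl }
  have hcomp : ∀ a₀, φC (gC a₀) = φ a₀ := by
    intro a₀
    show ψB (ret (algebraMap (BB1.BB k d r n a) Cr (BB2.inclB k d r n a a₀))) = φ a₀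
    rw [AlgHom.commutes]
    exact BB3.psiB_inclB k d r n a φ lam hrel a₀
  have hH : singRad k φ ≤ singRad (MvPolynomial (Fin d) k) φC := by
    have h1 : (singularIdeal k A).map φ ≤ singRad (MvPolynomial (Fin d) k) φC := by
      rw [Ideal.map_le_iff_le_comap]
      intro a₀ ha₀
      rw [Ideal.mem_comap]
      apply Ideal.le_radical
      rw [← hcomp a₀]
      apply Ideal.mem_map_of_mem
      exact hCsing _ (BB2.inclB_mem_singularIdeal k d r n a haH a₀ (by rw [ha']; exact ha₀))
    have h2 := Ideal.radical_mono h1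
    have h3 : (singRad (MvPolynomial (Fin d) k) φC).radical =
        singRad (MvPolynomial (Fin d) k) φC := Ideal.radical_idem _
    rw [h3] at h2
    exact h2
  -- the ideal `K`
  obtain ⟨φK, hφK⟩ := FN7.exists_phiK φC
    (Ideal.span (Set.range fun i : Fin d => ((X i : MvPolynomial (Fin d) k) ^ c) ^ 8))
  have hK1 : Ideal.span (Set.range fun i : Fin d => ((X i : MvPolynomial (Fin d) k) ^ c) ^ 8) ≤
      Ideal.span (Set.range (X : Fin d → MvPolynomial (Fin d) k)) := by
    rw [Ideal.span_le]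
    rintro _ ⟨i, rfl⟩
    show ((X i : MvPolynomial (Fin d) k) ^ c) ^ 8 ∈ _
    rw [← pow_mul]
    obtain ⟨m, hm⟩ : ∃ m, c * 8 = m + 1 := ⟨c * 8 - 1, by omega⟩
    rw [hm, pow_succ]
    exact Ideal.mul_mem_left _ _ (Ideal.subset_span ⟨i, rfl⟩)
  have hK2 : ∀ i : Fin d, ∃ m : ℕ, (X i : MvPolynomial (Fin d) k) ^ m ∈
      Ideal.span (Set.range fun i : Fin d => ((X i : MvPolynomial (Fin d) k) ^ c) ^ 8) :=
    fun i => ⟨c * 8, by rw [pow_mul]; exact Ideal.subset_span ⟨i, rfl⟩⟩
  have hK𝔮 : (Ideal.span (Set.range fun i : Fin d =>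
      ((X i : MvPolynomial (Fin d) k) ^ c) ^ 8)).map (algebraMap (MvPolynomial (Fin d) k) Λ) ≤ 𝔮 := by
    rw [Ideal.map_span, Ideal.span_le]
    rintro _ ⟨_, ⟨i, rfl⟩, rfl⟩
    rw [SetLike.mem_coe, map_pow, map_pow, halgX]
    exact Ideal.pow_mem_of_mem _ (Ideal.pow_mem_of_mem _ (hπ𝔮 i) c hc) 8 (by norm_num)
  have hres' := FN4.resolvable_quot φC 𝔮 (singRad k φ) hmin hH _ hK𝔮 φK hφK
    (fun hmin' => FN3.artinian_step 𝔮 hd hspan _ hK1 hK2 φK hmin')
  have hresC : Resolvable (MvPolynomial (Fin d) k) φC 𝔮 := by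
    refine RS4.main6822 φC 𝔮 hdpos (fun i => (X i : MvPolynomial (Fin d) k) ^ c) ?_ ?_ ?_ hstd
      _ rfl φK hφK hres'
    · intro i
      show algebraMap (MvPolynomial (Fin d) k) Λ (X i ^ c) ∈ 𝔮
      rw [map_pow, halgX]
      exact Ideal.pow_mem_of_mem _ (hπ𝔮 i) c hc
    · intro i x hx
      exact MN1.ann_condition c i x hx
    · exact FN7.ann_transfer π (fun i => algebraMap (MvPolynomial (Fin d) k) Λ (X i ^ c)) c hc
        (fun i => by rw [map_pow, halgX]) hπann
  exact FN5.descent φ φC gC hcomp hH 𝔮 hresC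

end Groth.Agent.Lib.Helper8.FN8
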