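import Mathlib
import Groth.Agent.S9319

set_option backward.isDefEq.respectTransparency.types false
set_option autoImplicit false
set_option linter.unusedSectionVars false
set_option linter.style.haveILetI false

namespace Groth.Agent.Lib.Helper8.HR1
open Algebra TensorProduct
universe u

section Ext
variable (S F : Type u) [CommRing S] [CommRing F] [Algebra S F]

/-- the extension `S → F` (over base `S`) with ring `S`. -/
noncomputable def extS (h : Function.Surjective (algebraMap S F)) : Extension.{u} S F where
  Ring := S
  σ x := (h x).choose
  algebraMap_σ x := (h x).choose_spec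

variable {S F}

instance instFS (h : Function.Surjective (algebraMap S F)) :
    FormallySmooth S (extS S F h).Ring := inferInstanceAs (FormallySmooth S S)

theorem h1ι_surjective (h : Function.Surjective (algebraMap S F)) :
    Function.Surjective (extS S F h).h1Cotangentι := by
  intro x
  have h0 : Subsingleton (Ω[S⁄S]) :=
    KaehlerDifferential.subsingleton_of_surjective S S Function.surjective_id
  have hsub : Subsingleton (extS S F h).CotangentSpace := by
    refine ⟨fun a b => ?_⟩
    have : ∀ c : F ⊗[S] Ω[S⁄S], c = 0 := by
      intro c
      induction c using TensorProduct.induction_on with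
      | zero => rfl
      | tmul x y => rw [Subsingleton.elim y 0, TensorProduct.tmul_zero]
      | add x y hx hy => rw [hx, hy, add_zero]
    exact (this a).trans (this b).symm
  exact ⟨⟨x, Subsingleton.elim _ _⟩, rfl⟩

theorem map_defaultHom_bijective (h : Function.Surjective (algebraMap S F)) :
    Function.Bijective (Extension.H1Cotangent.map (Extension.defaultHom S F (extS S F h))) := by
  haveI : FormallySmooth S (Generators.self S F).toExtension.Ring :=
    inferInstanceAs (FormallySmooth S (MvPolynomial F S))
  have := Extension.H1Cotangent.equivOfFormallySmooth_toLinearMap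
    (Extension.defaultHom S F (extS S F h))
  rw [← this]
  exact LinearEquiv.bijective _

end Ext

section Main

variable {k S A F K : Type u} [Field k] [CommRing S] [CommRing A] [Field F] [Field K]
  [Algebra k S] [Algebra k A] [Algebra S A] [IsScalarTower k S A]
  [Algebra k F] [Algebra S F] [IsScalarTower k S F]
  [Algebra k K] [Algebra A K] [IsScalarTower k A K]
  [Algebra F K] [Algebra S K] [IsScalarTower S F K] [IsScalarTower S A K] [IsScalarTower k F K]
  (hSF : Function.Surjective (algebraMap S F)) (hAK : Function.Surjective (algebraMap A K))

/-- the hom of extensions `(S → F) → (A → K)`. -/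
noncomputable def homSA : (extS S F hSF).Hom (extS A K hAK) where
  toRingHom := algebraMap S A
  toRingHom_algebraMap x := rfl
  algebraMap_toRingHom x := by
    show algebraMap A K (algebraMap S A x) = algebraMap F K (algebraMap S F x)
    rw [← IsScalarTower.algebraMap_apply, ← IsScalarTower.algebraMap_apply]

theorem map_surjective_of_injective
    (h2 : Function.Injective (KaehlerDifferential.mapBaseChange k S F)) :
    Function.Surjective (Algebra.H1Cotangent.map k S F F) := by
  intro y
  have h3 := Algebra.H1Cotangent.exact_δ_mapBaseChange k S F
  have h4 := Algebra.H1Cotangent.exact_map_δ k S F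
  have h5 : Algebra.H1Cotangent.δ k S F y = 0 := by
    apply h2
    rw [map_zero]
    exact (h3 _).mpr ⟨y, rfl⟩
  exact (h4 y).mp h5

theorem cotangent_baseChange_injective
    (h1 : Function.Injective (Algebra.H1Cotangent.map k A K K))
    (h2 : Function.Injective (KaehlerDifferential.mapBaseChange k S F)) :
    Function.Injective ((Extension.Cotangent.map (homSA hSF hAK)).liftBaseChange K) := by
  have htop : Function.Injective ((Algebra.H1Cotangent.map k k F K).liftBaseChange K) :=
    Groth.Agent.S9319.result
  have hlp := map_surjective_of_injective (k := k) (S := S) (F := F) h2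
  have h4S := map_defaultHom_bijective hSF
  have h3A := map_defaultHom_bijective hAK
  have hιS := h1ι_surjective hSF
  -- the surjection L' : H1(F/k) → Cotangent(S → F)
  let L' : Algebra.H1Cotangent k F →ₗ[F] (extS S F hSF).Cotangent :=
    (extS S F hSF).h1Cotangentι ∘ₗ
      (Extension.H1Cotangent.map (Extension.defaultHom S F (extS S F hSF))) ∘ₗ
      (Algebra.H1Cotangent.map k S F F)
  have hL' : Function.Surjective L' := by
    intro y
    obtain ⟨y1, rfl⟩ := hιS y
    obtain ⟨y2, rfl⟩ := h4S.2 y1
    obtain ⟨y3, rfl⟩ := hlp y2
    exact ⟨y3, rfl⟩
  have hLT : Function.Surjective (L'.baseChange K) := by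
    intro z
    obtain ⟨w, hw⟩ := LinearMap.lTensor_surjective K hL' z
    refine ⟨w, ?_⟩
    rw [← hw]
    exact congrFun (LinearMap.baseChange_eq_ltensor (A := K) L') w
  -- the key commutativity
  have hcomm : ∀ w : K ⊗[F] Algebra.H1Cotangent k F,
      (Extension.Cotangent.map (homSA hSF hAK)).liftBaseChange K (L'.baseChange K w) =
      (extS A K hAK).h1Cotangentι
        (Extension.H1Cotangent.map (Extension.defaultHom A K (extS A K hAK))
          (Algebra.H1Cotangent.map k A K K
            ((Algebra.H1Cotangent.map k k F K).liftBaseChange K w))) := by
    intro w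
    induction w using TensorProduct.induction_on with
    | zero => simp
    | add x y hx hy => simp only [map_add, hx, hy]
    | tmul c x =>
      rw [LinearMap.baseChange_tmul, LinearMap.liftBaseChange_tmul, LinearMap.liftBaseChange_tmul,
        map_smul, map_smul, map_smul]
      congr 1
      show Extension.Cotangent.map (homSA hSF hAK) ((extS S F hSF).h1Cotangentι
        (Extension.H1Cotangent.map (Extension.defaultHom S F (extS S F hSF))
          (Algebra.H1Cotangent.map k S F F x))) = _
      have e1 : Extension.Cotangent.map (homSA hSF hAK) ((extS S F hSF).h1Cotangentι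
          (Extension.H1Cotangent.map (Extension.defaultHom S F (extS S F hSF))
            (Algebra.H1Cotangent.map k S F F x))) =
          (extS A K hAK).h1Cotangentι (Extension.H1Cotangent.map (homSA hSF hAK)
            (Extension.H1Cotangent.map (Extension.defaultHom S F (extS S F hSF))
              (Algebra.H1Cotangent.map k S F F x))) := rfl
      rw [e1]
      congr 1
      unfold Algebra.H1Cotangent.map
      rw [← Extension.H1Cotangent.map_comp_apply, ← Extension.H1Cotangent.map_comp_apply,
        ← Extension.H1Cotangent.map_comp_apply, ← Extension.H1Cotangent.map_comp_apply]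
      exact DFunLike.congr_fun (Extension.H1Cotangent.map_eq _ _) x
  intro y1 y2 hy
  rw [← sub_eq_zero] at hy ⊢
  rw [← map_sub] at hy
  obtain ⟨w, hw⟩ := hLT (y1 - y2)
  rw [← hw, hcomm] at hy
  have h6 : (Algebra.H1Cotangent.map k k F K).liftBaseChange K w = 0 := by
    apply h1
    apply h3A.1
    apply Extension.h1Cotangentι_injective
    rw [hy, map_zero, map_zero, map_zero]
  have h7 : w = 0 := htop (by rw [h6, map_zero])
  rw [← hw, h7, map_zero]

end Main

end Groth.Agent.Lib.Helper8.HR1
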