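import Mathlib
import Groth.Agent.Lib.Helper8.HR1

set_option backward.isDefEq.respectTransparency.types false
set_option autoImplicit false
set_option linter.unusedSectionVars false
set_option linter.style.haveILetI false

namespace Groth.Agent.Lib.Helper8.HR2
open Algebra TensorProduct IsLocalRing
universe u

section LinAlg

theorem injective_of_span_li {R M N ι : Type*} [Field R] [AddCommGroup M] [Module R M]
    [AddCommGroup N] [Module R N]
    (f : M →ₗ[R] N) (v : ι → M) (hv : Submodule.span R (Set.range v) = ⊤)
    (hli : LinearIndependent R (fun i => f (v i))) : Function.Injective f := by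
  rw [injective_iff_map_eq_zero]
  intro x hx
  have hx' : x ∈ Submodule.span R (Set.range v) := hv ▸ Submodule.mem_top
  obtain ⟨c, rfl⟩ := (Finsupp.mem_span_range_iff_exists_finsupp).mp hx'
  have hc : c = 0 := by
    apply linearIndependent_iff.mp hli
    rw [Finsupp.linearCombination_apply]
    rw [map_finsuppSum] at hx
    simpa [map_smul] using hx
  rw [hc]
  simp

theorem li_one_tmul {F K V ι : Type*} [Field F] [Field K] [Algebra F K] [AddCommGroup V]
    [Module F V] {v : ι → V} (hv : LinearIndependent F v) :
    LinearIndependent K (fun i => (1 : K) ⊗ₜ[F] v i) := by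
  classical
  let I : Set V := hv.linearIndepOn_id.extend (Set.subset_univ _)
  let b : Module.Basis I F V := .extend hv.linearIndepOn_id
  let v' (i : ι) : I := ⟨v i, hv.linearIndepOn_id.subset_extend _ <| Set.mem_range_self i⟩
  have h_inj : Function.Injective v' := fun i j hij =>
    hv.injective (by simpa [v'] using congrArg Subtype.val hij)
  have hv' : (b.baseChange K) ∘ v' = fun i => (1 : K) ⊗ₜ[F] v i := by
    ext i
    show (b.baseChange K) (v' i) = _
    rw [Module.Basis.baseChange_apply]
    rw [show b (v' i) = v i from Module.Basis.extend_apply_self _ _]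
  rw [← hv']
  exact (b.baseChange K).linearIndependent.comp _ h_inj

end LinAlg

section Setup

variable {k A : Type u} [Field k] [CommRing A] [IsLocalRing A] [Algebra k A] {m : ℕ}
  (φ : MvPolynomial (Fin m) k →ₐ[k] A)

/-- the prime `𝔭 = φ⁻¹(𝔪)` -/
noncomputable def pp : Ideal (MvPolynomial (Fin m) k) := (maximalIdeal A).comap φ.toRingHom

instance : (pp φ).IsPrime := Ideal.comap_isPrime _ _

theorem mem_pp (x : MvPolynomial (Fin m) k) : x ∈ pp φ ↔ φ x ∈ maximalIdeal A := Iff.rfl

/-- the localization at `𝔭` -/
abbrev SS := Localization.AtPrime (pp φ)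

theorem isUnit_of_primeCompl (y : (pp φ).primeCompl) : IsUnit (φ.toRingHom y) := by
  have h : (y : MvPolynomial (Fin m) k) ∉ pp φ := y.2
  by_contra h'
  exact h ((mem_maximalIdeal _).mpr h')

noncomputable def liftSA : SS φ →+* A :=
  IsLocalization.lift (M := (pp φ).primeCompl) (g := φ.toRingHom) (isUnit_of_primeCompl φ)

theorem liftSA_algebraMap (x : MvPolynomial (Fin m) k) :
    liftSA φ (algebraMap _ (SS φ) x) = φ x := by
  unfold liftSA
  rw [IsLocalization.lift_eq]
  rfl

@[instance_reducible] noncomputable def algSA : Algebra (SS φ) A := (liftSA φ).toAlgebra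

attribute [local instance] algSA

theorem algebraMap_SA (x : SS φ) : algebraMap (SS φ) A x = liftSA φ x := rfl

instance tower_kSA : IsScalarTower k (SS φ) A := by
  refine IsScalarTower.of_algebraMap_eq fun c => ?_
  rw [algebraMap_SA, IsScalarTower.algebraMap_apply k (MvPolynomial (Fin m) k) (SS φ),
    liftSA_algebraMap]
  exact (φ.commutes c).symm

instance isLocalHom_SA : IsLocalHom (algebraMap (SS φ) A) := by
  refine ⟨fun x hx => ?_⟩
  obtain ⟨⟨a, t⟩, rfl⟩ := IsLocalization.mk'_surjective (pp φ).primeCompl x
  have h1 : φ.toRingHom a = φ.toRingHom t * liftSA φ (IsLocalization.mk' (SS φ) a t) :=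
    (IsLocalization.lift_mk'_spec _ _ _ _).mp rfl
  have h2 : IsUnit (φ.toRingHom a) := by
    rw [h1]
    exact (isUnit_of_primeCompl φ t).mul hx
  rw [IsLocalization.AtPrime.isUnit_mk'_iff (SS φ) (pp φ)]
  intro h3
  exact ((mem_maximalIdeal _).mp ((mem_pp φ a).mp h3)) h2

theorem map_pp_eq : (pp φ).map φ.toRingHom = (maximalIdeal (SS φ)).map (algebraMap (SS φ) A) := by
  rw [← Localization.AtPrime.map_eq_maximalIdeal, Ideal.map_map]
  congr 1
  refine RingHom.ext fun x => ?_
  exact (liftSA_algebraMap φ x).symm

instance isLocalHom_kA : IsLocalHom (algebraMap k A) := by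
  refine ⟨fun x hx => ?_⟩
  rcases eq_or_ne x 0 with rfl | h
  · rw [map_zero] at hx
    exact absurd hx not_isUnit_zero
  · exact isUnit_iff_ne_zero.mpr h

end Setup


section H2

variable {k A : Type u} [Field k] [CommRing A] [IsLocalRing A] [Algebra k A] {m : ℕ}
  (φ : MvPolynomial (Fin m) k →ₐ[k] A)

attribute [local instance] algSA

/-- the coordinate functions in the localization -/
noncomputable def yS (i : Fin m) : SS φ := algebraMap (MvPolynomial (Fin m) k) (SS φ) (MvPolynomial.X i)

theorem algebraMap_yS (i : Fin m) : algebraMap (SS φ) A (yS φ i) = φ (MvPolynomial.X i) :=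
  liftSA_algebraMap φ _

theorem span_D_yS : Submodule.span (SS φ)
    (Set.range fun i : Fin m => KaehlerDifferential.D k (SS φ) (yS φ i)) = ⊤ := by
  rw [_root_.eq_top_iff, ← KaehlerDifferential.span_range_map_derivation_of_isLocalization k
    (MvPolynomial (Fin m) k) (SS φ) (pp φ).primeCompl, Submodule.span_le]
  rintro _ ⟨x, rfl⟩
  show KaehlerDifferential.map k k _ (SS φ) (KaehlerDifferential.D k _ x) ∈ _
  rw [KaehlerDifferential.map_D]
  induction x using MvPolynomial.induction_on with
  | C a =>
    rw [← MvPolynomial.algebraMap_eq, ← IsScalarTower.algebraMap_apply, Derivation.map_algebraMap]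
    exact zero_mem _
  | add p q hp hq =>
    rw [map_add, map_add]
    exact add_mem hp hq
  | mul_X p i hp =>
    rw [map_mul, Derivation.leibniz]
    exact add_mem (Submodule.smul_mem _ _ (Submodule.subset_span ⟨i, rfl⟩))
      (Submodule.smul_mem _ _ hp)

theorem span_one_tmul_D_yS : Submodule.span (ResidueField (SS φ))
    (Set.range fun i : Fin m => (1 : ResidueField (SS φ)) ⊗ₜ[SS φ]
      KaehlerDifferential.D k (SS φ) (yS φ i)) = ⊤ := by
  rw [← Submodule.baseChange_top (ResidueField (SS φ)) (R := SS φ) (M := Ω[SS φ⁄k]),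
    ← span_D_yS φ, Submodule.baseChange_span, ← Set.range_comp]
  rfl

variable (F : IntermediateField k (ResidueField A))
  (hφ : ∀ i : Fin m, residue A (φ (MvPolynomial.X i)) ∈ F)

include hφ in
theorem residue_phi_mem (a : MvPolynomial (Fin m) k) : residue A (φ a) ∈ F := by
  induction a using MvPolynomial.induction_on with
  | C c =>
    rw [← MvPolynomial.algebraMap_eq, φ.commutes]
    exact F.algebraMap_mem c
  | add p q hp hq =>
    rw [map_add, map_add]
    exact F.add_mem hp hq
  | mul_X p i hp =>
    rw [map_mul, map_mul]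
    exact F.mul_mem hp (hφ i)

include hφ in
theorem algebraMap_mem (x : ResidueField (SS φ)) :
    algebraMap (ResidueField (SS φ)) (ResidueField A) x ∈ F := by
  obtain ⟨s, rfl⟩ := residue_surjective x
  rw [ResidueField.algebraMap_residue]
  obtain ⟨⟨a, t⟩, rfl⟩ := IsLocalization.mk'_surjective (pp φ).primeCompl s
  have h1 : φ.toRingHom a = φ.toRingHom t * liftSA φ (IsLocalization.mk' (SS φ) a t) :=
    (IsLocalization.lift_mk'_spec _ _ _ _).mp rfl
  have h2 : residue A (φ a) = residue A (φ t) *
      residue A (algebraMap (SS φ) A (IsLocalization.mk' (SS φ) a t)) := by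
    rw [← map_mul]
    exact congrArg _ h1
  have h3 : residue A (φ t) ≠ 0 := by
    rw [Ne, residue_eq_zero_iff]
    exact fun h => t.2 h
  have h4 : residue A (algebraMap (SS φ) A (IsLocalization.mk' (SS φ) a t)) =
      residue A (φ a) / residue A (φ t) := by
    rw [h2, mul_div_cancel_left₀ _ h3]
  rw [h4]
  exact F.div_mem (residue_phi_mem φ F hφ a) (residue_phi_mem φ F hφ t)

/-- the induced field map `κ(𝔭) → F`. -/
noncomputable def psi : ResidueField (SS φ) →+* F where
  toFun x := ⟨algebraMap (ResidueField (SS φ)) (ResidueField A) x, algebraMap_mem φ F hφ x⟩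
  map_one' := Subtype.ext (map_one _)
  map_mul' x y := Subtype.ext (map_mul _ x y)
  map_zero' := Subtype.ext (map_zero _)
  map_add' x y := Subtype.ext (map_add _ x y)

theorem psi_residue_yS (i : Fin m) :
    psi φ F hφ (residue (SS φ) (yS φ i)) = ⟨residue A (φ (MvPolynomial.X i)), hφ i⟩ := by
  apply Subtype.ext
  show algebraMap (ResidueField (SS φ)) (ResidueField A) (residue (SS φ) (yS φ i)) = _
  rw [ResidueField.algebraMap_residue, algebraMap_yS]

theorem li_D_residue_yS
    (hb : LinearIndependent F
      (fun i : Fin m => KaehlerDifferential.D k F ⟨residue A (φ (MvPolynomial.X i)), hφ i⟩)) :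
    LinearIndependent (ResidueField (SS φ))
      (fun i : Fin m => KaehlerDifferential.D k (ResidueField (SS φ))
        (algebraMap (SS φ) (ResidueField (SS φ)) (yS φ i))) := by
  letI : Algebra (ResidueField (SS φ)) F := (psi φ F hφ).toAlgebra
  haveI : IsScalarTower k (ResidueField (SS φ)) F := by
    refine IsScalarTower.of_algebraMap_eq fun c => ?_
    apply Subtype.ext
    show algebraMap k (ResidueField A) c =
      algebraMap (ResidueField (SS φ)) (ResidueField A) (algebraMap k (ResidueField (SS φ)) c)
    rw [← IsScalarTower.algebraMap_apply]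
  rw [Fintype.linearIndependent_iff]
  intro c hc
  have h1 := congrArg (KaehlerDifferential.map k k (ResidueField (SS φ)) F) hc
  rw [map_sum, map_zero] at h1
  have h2 : ∀ i : Fin m, KaehlerDifferential.map k k (ResidueField (SS φ)) F
      (c i • KaehlerDifferential.D k (ResidueField (SS φ))
        (algebraMap (SS φ) (ResidueField (SS φ)) (yS φ i))) =
      (psi φ F hφ (c i)) • KaehlerDifferential.D k F
        ⟨residue A (φ (MvPolynomial.X i)), hφ i⟩ := by
    intro i
    rw [map_smul, KaehlerDifferential.map_D, ← algebraMap_smul F (c i)]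
    congr 2
    exact psi_residue_yS φ F hφ i
  rw [Finset.sum_congr rfl (fun i _ => h2 i)] at h1
  have h3 := Fintype.linearIndependent_iff.mp hb _ h1
  intro i
  exact (psi φ F hφ).injective (by rw [h3 i, map_zero])

theorem mapBaseChange_injective
    (hb : LinearIndependent F
      (fun i : Fin m => KaehlerDifferential.D k F ⟨residue A (φ (MvPolynomial.X i)), hφ i⟩)) :
    Function.Injective (KaehlerDifferential.mapBaseChange k (SS φ) (ResidueField (SS φ))) := by
  refine injective_of_span_li _ _ (span_one_tmul_D_yS φ) ?_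
  have h := li_D_residue_yS φ F hφ hb
  convert h using 2 with i
  rw [KaehlerDifferential.mapBaseChange_tmul, one_smul, KaehlerDifferential.map_D]

end H2

end Groth.Agent.Lib.Helper8.HR2
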