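import Mathlib
import Groth.Agent.Lib.Helper8.HR2
import Groth.Agent.S9282
import Groth.Agent.S2036
import Groth.Agent.Lib.Helper9.RegFlat2
import Groth.Agent.Lib.Helper12.RegularSeqQuot

set_option backward.isDefEq.respectTransparency.types false
set_option autoImplicit false
set_option linter.unusedSectionVars false
set_option linter.style.haveILetI false

namespace Groth.Agent.Lib.Helper8.HR3
open Algebra TensorProduct IsLocalRing
open Groth.Agent.Lib.Helper8.HR1 Groth.Agent.Lib.Helper8.HR2
universe u

section Params

variable (S : Type u) [CommRing S] [IsLocalRing S] [IsNoetherianRing S]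

/-- minimal generators of the maximal ideal: their classes form a basis of the cotangent space. -/
theorem exists_params : ∃ (c : ℕ) (g : Fin c → S), (∀ i, g i ∈ maximalIdeal S) ∧
    Ideal.span (Set.range g) = maximalIdeal S ∧
    (∀ b : Fin c → S, ∑ j, b j * g j ∈ maximalIdeal S ^ 2 → ∀ j, b j ∈ maximalIdeal S) := by
  let bs := Module.finBasis (ResidueField S) (CotangentSpace S)
  have hsurj := (maximalIdeal S).toCotangent_surjective
  choose g' hg' using fun i => hsurj (bs i)
  refine ⟨_, fun i => (g' i : S), fun i => (g' i).2, ?_, ?_⟩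
  · have h1 : Submodule.span (ResidueField S)
        ((maximalIdeal S).toCotangent '' (Set.range g')) = ⊤ := by
      rw [← Set.range_comp]
      have : (maximalIdeal S).toCotangent ∘ g' = bs := funext hg'
      rw [this]
      exact bs.span_eq
    have h2 := CotangentSpace.span_image_eq_top_iff.mp h1
    have h3 := congrArg (Submodule.map (maximalIdeal S).subtype) h2
    rw [Submodule.map_span, Submodule.map_top, Submodule.range_subtype, ← Set.range_comp] at h3
    exact h3
  · intro b hb j
    have hmem : ∑ j, b j * (g' j : S) ∈ maximalIdeal S :=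
      Ideal.sum_mem _ fun j _ => Ideal.mul_mem_left _ _ (g' j).2
    have h1 : (maximalIdeal S).toCotangent ⟨∑ j, b j * (g' j : S), hmem⟩ = 0 :=
      (Ideal.toCotangent_eq_zero _ _).mpr hb
    have h0 : (⟨∑ j, b j * (g' j : S), hmem⟩ : maximalIdeal S) = ∑ j, b j • g' j := by
      apply Subtype.ext
      rw [AddSubmonoidClass.coe_finsetSum]
      rfl
    rw [h0, map_sum] at h1
    have h2 : ∑ j, (residue S (b j)) • bs j = 0 := by
      rw [← h1]
      refine Finset.sum_congr rfl fun j _ => ?_
      rw [map_smul, hg']
      exact (IsScalarTower.algebraMap_smul (ResidueField S) (b j) (bs j))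
    have := (Fintype.linearIndependent_iff.mp bs.linearIndependent _ h2) j
    exact (residue_eq_zero_iff _).mp this

end Params

section LI

variable {S : Type u} [CommRing S] [IsLocalRing S]
  (hSF : Function.Surjective (algebraMap S (ResidueField S)))

theorem mem_ker_extS {x : S} (hx : x ∈ maximalIdeal S) :
    x ∈ (extS S (ResidueField S) hSF).ker :=
  (residue_eq_zero_iff x).mpr hx

theorem ker_extS : @Eq (Ideal S) (extS S (ResidueField S) hSF).ker (maximalIdeal S) :=
  (ker_residue : RingHom.ker (residue S) = maximalIdeal S)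

theorem li_mk {c : ℕ} (g : Fin c → S) (hg : ∀ i, g i ∈ maximalIdeal S)
    (hstar : ∀ b : Fin c → S, ∑ j, b j * g j ∈ maximalIdeal S ^ 2 → ∀ j, b j ∈ maximalIdeal S) :
    LinearIndependent (ResidueField S) (fun j : Fin c =>
      Extension.Cotangent.mk (P := extS S (ResidueField S) hSF)
        ⟨g j, mem_ker_extS hSF (hg j)⟩) := by
  rw [Fintype.linearIndependent_iff]
  intro cc hc
  choose b hb using fun j => residue_surjective (cc j)
  have h1 : ∀ j, cc j • Extension.Cotangent.mk (P := extS S (ResidueField S) hSF)
        ⟨g j, mem_ker_extS hSF (hg j)⟩ =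
      Extension.Cotangent.mk (P := extS S (ResidueField S) hSF)
        ((b j : (extS S (ResidueField S) hSF).Ring) •
          (⟨g j, mem_ker_extS hSF (hg j)⟩ : (extS S (ResidueField S) hSF).ker)) := by
    intro j
    rw [map_smul, ← hb j]
    exact (IsScalarTower.algebraMap_smul (ResidueField S)
      (b j : (extS S (ResidueField S) hSF).Ring) _)
  rw [Finset.sum_congr rfl (fun j _ => h1 j), ← map_sum, Extension.Cotangent.mk_eq_zero_iff] at hc
  have hk : @Eq (Ideal S) ((extS S (ResidueField S) hSF).ker ^ 2) (maximalIdeal S ^ 2) :=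
    congrArg (fun I : Ideal S => I ^ 2) (ker_extS hSF)
  simp only [Submodule.coe_sum] at hc
  have h2 := hstar b (by
    rw [← hk]
    exact hc)
  intro j
  rw [← hb j]
  exact (residue_eq_zero_iff _).mpr (h2 j)

end LI


section StarA

variable {k A : Type u} [Field k] [CommRing A] [IsLocalRing A] [Algebra k A] {m : ℕ}
  (φ : MvPolynomial (Fin m) k →ₐ[k] A)

attribute [local instance] algSA

theorem star_A
    (h1 : Function.Injective (Algebra.H1Cotangent.map k A (ResidueField A) (ResidueField A)))
    (h2 : Function.Injective (KaehlerDifferential.mapBaseChange k (SS φ) (ResidueField (SS φ))))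
    {c : ℕ} (g : Fin c → SS φ) (hg : ∀ i, g i ∈ maximalIdeal (SS φ))
    (hstar : ∀ b : Fin c → SS φ, ∑ j, b j * g j ∈ maximalIdeal (SS φ) ^ 2 →
      ∀ j, b j ∈ maximalIdeal (SS φ)) :
    ∀ a : Fin c → A, ∑ j, a j * algebraMap (SS φ) A (g j) ∈ maximalIdeal A ^ 2 →
      ∀ j, a j ∈ maximalIdeal A := by
  have hSF : Function.Surjective (algebraMap (SS φ) (ResidueField (SS φ))) := residue_surjective
  have hAK : Function.Surjective (algebraMap A (ResidueField A)) := residue_surjective
  have hΦ := cotangent_baseChange_injective (k := k) hSF hAK h1 h2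
  intro a ha
  have hfmem : ∀ j, algebraMap (SS φ) A (g j) ∈ (extS A (ResidueField A) hAK).ker :=
    fun j => mem_ker_extS hAK (map_nonunit (algebraMap (SS φ) A) (g j) (hg j))
  have h3 : ∀ j, residue A (a j) • Extension.Cotangent.map (homSA hSF hAK)
      (Extension.Cotangent.mk ⟨g j, mem_ker_extS hSF (hg j)⟩) =
      Extension.Cotangent.mk (P := extS A (ResidueField A) hAK)
        ((a j : (extS A (ResidueField A) hAK).Ring) •
          (⟨algebraMap (SS φ) A (g j), hfmem j⟩ : (extS A (ResidueField A) hAK).ker)) := by
    intro j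
    rw [Extension.Cotangent.map_mk, map_smul]
    exact (IsScalarTower.algebraMap_smul (ResidueField A)
      (a j : (extS A (ResidueField A) hAK).Ring) _)
  have ht : ((Extension.Cotangent.map (homSA hSF hAK)).liftBaseChange (ResidueField A))
      (∑ j, residue A (a j) ⊗ₜ[ResidueField (SS φ)]
        Extension.Cotangent.mk (P := extS (SS φ) (ResidueField (SS φ)) hSF)
          ⟨g j, mem_ker_extS hSF (hg j)⟩) = 0 := by
    rw [map_sum]
    simp only [LinearMap.liftBaseChange_tmul]
    rw [Finset.sum_congr rfl (fun j _ => h3 j), ← map_sum, Extension.Cotangent.mk_eq_zero_iff]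
    simp only [Submodule.coe_sum]
    have hk : @Eq (Ideal A) ((extS A (ResidueField A) hAK).ker ^ 2) (maximalIdeal A ^ 2) :=
      congrArg (fun I : Ideal A => I ^ 2) (ker_extS hAK)
    have hmem2 : (∑ j, a j * algebraMap (SS φ) A (g j) : A) ∈
        ((extS A (ResidueField A) hAK).ker ^ 2 : Ideal A) := by
      rw [hk]
      exact ha
    exact hmem2
  have ht0 := hΦ (ht.trans (map_zero _).symm)
  have hli := li_one_tmul (K := ResidueField A) (li_mk hSF g hg hstar)
  have ht' : ∑ j, residue A (a j) • ((1 : ResidueField A) ⊗ₜ[ResidueField (SS φ)]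
      Extension.Cotangent.mk (P := extS (SS φ) (ResidueField (SS φ)) hSF)
        ⟨g j, mem_ker_extS hSF (hg j)⟩) = 0 := by
    rw [← ht0]
    refine Finset.sum_congr rfl fun j _ => ?_
    rw [TensorProduct.smul_tmul', smul_eq_mul, mul_one]
  intro j
  have := Fintype.linearIndependent_iff.mp hli _ ht' j
  exact (residue_eq_zero_iff _).mp this

end StarA

section Main

open Groth.Agent.Lib.Helper12

attribute [local instance] algSA

theorem main9288 (p : ℕ) [Fact p.Prime] (k : Type u) [Field k] [CharP k p] (A : Type u)
    [CommRing A] [IsLocalRing A] [IsNoetherianRing A] [Algebra k A]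
    (hA : CAlg.IsGeometricallyRegular k A)
    (F : IntermediateField k (ResidueField A)) (m : ℕ)
    (φ : MvPolynomial (Fin m) k →ₐ[k] A)
    (hφ : ∀ i : Fin m, residue A (φ (MvPolynomial.X i)) ∈ F)
    (hb : LinearIndependent F
        (fun i : Fin m => KaehlerDifferential.D k F ⟨residue A (φ (MvPolynomial.X i)), hφ i⟩)) :
    letI := φ.toRingHom.toAlgebra
    Module.Flat (MvPolynomial (Fin m) k) A ∧
      IsRegularLocalRing (A ⧸ Ideal.map φ.toRingHom
        (Ideal.comap φ.toRingHom (maximalIdeal A))) := by
  have hfs := (Groth.Agent.S2036.result p).mp hA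
  have h1 := Groth.Agent.S9282.result k A hfs
  have h2 := mapBaseChange_injective φ F hφ hb
  obtain ⟨c, g, hg, hspan, hstar⟩ := exists_params (SS φ)
  have hstarA := star_A φ h1 h2 g hg hstar
  have hAreg : IsRegularLocalRing A := by
    have h3 : IsRegularRing (k ⊗[k] A) := hA k inferInstance
    have h4 : IsRegularRing A :=
      IsRegularRing.of_ringEquiv (Algebra.TensorProduct.lid k A).toRingEquiv
    exact IsRegularLocalRing.of_isRegularRing_of_isLocalRing A
  have hSreg : IsRegularLocalRing (SS φ) := inferInstance
  obtain ⟨hquot, hregA⟩ := isRegularLocalRing_quotient_and_isRegular_of_indep c A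
    (fun j => algebraMap (SS φ) A (g j))
    (fun j => map_nonunit (algebraMap (SS φ) A) (g j) (hg j)) hstarA
  obtain ⟨-, hregS⟩ := isRegularLocalRing_quotient_and_isRegular_of_indep c (SS φ) g hg hstar
  have hideal : Ideal.span (Set.range fun j => algebraMap (SS φ) A (g j)) =
      Ideal.map φ.toRingHom (Ideal.comap φ.toRingHom (maximalIdeal A)) := by
    have h7 : Ideal.map φ.toRingHom (Ideal.comap φ.toRingHom (maximalIdeal A)) =
        (maximalIdeal (SS φ)).map (algebraMap (SS φ) A) := map_pp_eq φ
    rw [h7, ← hspan, Ideal.map_span, ← Set.range_comp]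
    rfl
  have hflatS : Module.Flat (SS φ) A := by
    refine (Groth.Agent.Lib.Helper9.RegFlat.main (SS φ) A A (List.ofFn g) ?_ hregS.toIsWeaklyRegular).mpr
      ⟨?_, ?_⟩
    · intro f hf
      rw [List.mem_ofFn] at hf
      obtain ⟨j, rfl⟩ := hf
      exact hg j
    · have hmax : Ideal.ofList (List.ofFn g) = maximalIdeal (SS φ) := by
        rw [Ideal.ofList, ← hspan]
        congr 1
        ext x
        simp [List.mem_ofFn]
      haveI : (Ideal.ofList (List.ofFn g)).IsMaximal := by
        rw [hmax]
        infer_instance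
      letI := Ideal.Quotient.field (Ideal.ofList (List.ofFn g))
      exact Module.Flat.of_free
    · have h5 : List.ofFn (fun j => algebraMap (SS φ) A (g j)) =
          (List.ofFn g).map (algebraMap (SS φ) A) := by
        rw [List.map_ofFn]
        rfl
      have h6 := hregA.toIsWeaklyRegular
      rw [h5] at h6
      exact (RingTheory.Sequence.isWeaklyRegular_map_algebraMap_iff A A (List.ofFn g)).mp h6
  constructor
  · letI := φ.toRingHom.toAlgebra
    haveI : IsScalarTower (MvPolynomial (Fin m) k) (SS φ) A :=
      IsScalarTower.of_algebraMap_eq fun x => (liftSA_algebraMap φ x).symm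
    exact Module.Flat.trans (MvPolynomial (Fin m) k) (SS φ) A
  · rw [← hideal]
    exact hquot

end Main

end Groth.Agent.Lib.Helper8.HR3
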