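import Mathlib

set_option backward.isDefEq.respectTransparency.types false
set_option autoImplicit false
set_option linter.unusedSectionVars false
set_option linter.style.haveILetI false

namespace Groth.Agent.Lib.Helper8.IN7

open IsLocalRing Algebra

universe u

/-- finiteness of `H¹(L_{K/k})` is invariant under isomorphism. -/
theorem finite_h1_of_algEquiv {k K K' : Type u} [Field k] [Field K] [Field K'] [Algebra k K]
    [Algebra k K'] (e : K ≃ₐ[k] K') (h : Module.Finite K (H1Cotangent k K)) :
    Module.Finite K' (H1Cotangent k K') := by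
  letI := e.toRingHom.toAlgebra
  letI := e.symm.toRingHom.toAlgebra
  have : IsScalarTower k K K' := .of_algebraMap_eq' e.toAlgHom.comp_algebraMap.symm
  have : IsScalarTower k K' K := .of_algebraMap_eq' e.symm.toAlgHom.comp_algebraMap.symm
  have : IsScalarTower K K' K := .of_algebraMap_eq fun _ ↦ (e.symm_apply_apply _).symm
  have : IsScalarTower K' K K' := .of_algebraMap_eq fun _ ↦ (e.apply_symm_apply _).symm
  have hsurj : Function.Surjective (H1Cotangent.map k k K K') := by
    intro x
    refine ⟨H1Cotangent.map k k K' K x, ?_⟩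
    change ((H1Cotangent.map k k K K').restrictScalars K' ∘ₗ H1Cotangent.map k k K' K) x = x
    rw [H1Cotangent.map, H1Cotangent.map, ← Extension.H1Cotangent.map_comp,
      Extension.H1Cotangent.map_eq, Extension.H1Cotangent.map_id, LinearMap.id_apply]
  haveI : Module.Finite K (H1Cotangent k K') :=
    Module.Finite.of_surjective (H1Cotangent.map k k K K') hsurj
  exact Module.Finite.of_restrictScalars_finite K K' (H1Cotangent k K')


section LA

variable {K V : Type*} [Field K] [AddCommGroup V] [Module K V]

/-- extend a linearly independent family by members of a second family to a basis. -/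
theorem exists_extend_li {h s : ℕ} (v : Fin h → V) (hv : LinearIndependent K v) (u : Fin s → V)
    (hsp : Submodule.span K (Set.range v ∪ Set.range u) = ⊤) :
    ∃ (d' : ℕ) (ι : Fin d' → Fin s), LinearIndependent K (Fin.append v (u ∘ ι)) ∧
      Submodule.span K (Set.range (Fin.append v (u ∘ ι))) = ⊤ := by
  classical
  set W : Submodule K V := Submodule.span K (Set.range v) with hW
  set T : Set (V ⧸ W) := Set.range (W.mkQ ∘ u) with hT
  haveI : Module.Finite K (Submodule.span K T) :=
    Module.Finite.span_of_finite K (Set.finite_range _)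
  obtain ⟨f, hfT, hfspan, hfli⟩ := Submodule.exists_fun_fin_finrank_span_eq K T
  choose ι hι using hfT
  have hTtop : Submodule.span K T = ⊤ := by
    rw [_root_.eq_top_iff]
    rintro x -
    obtain ⟨y, rfl⟩ := W.mkQ_surjective x
    have hy : y ∈ Submodule.span K (Set.range v ∪ Set.range u) := hsp ▸ Submodule.mem_top
    rw [Submodule.span_union, Submodule.mem_sup] at hy
    obtain ⟨y1, hy1, y2, hy2, rfl⟩ := hy
    rw [map_add, Submodule.mkQ_apply, (Submodule.Quotient.mk_eq_zero W).mpr hy1, zero_add]
    have : W.mkQ y2 ∈ Submodule.map W.mkQ (Submodule.span K (Set.range u)) :=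
      Submodule.mem_map_of_mem hy2
    rw [Submodule.map_span, ← Set.range_comp] at this
    exact this
  refine ⟨_, ι, ?_, ?_⟩
  · rw [Fintype.linearIndependent_iff]
    intro c hc
    rw [Fin.sum_univ_add] at hc
    simp only [Fin.append_left, Fin.append_right, Function.comp_apply] at hc
    have h1 := congrArg W.mkQ hc
    rw [map_add, map_sum, map_sum, map_zero] at h1
    have h2 : ∑ i, W.mkQ (c (Fin.castAdd _ i) • v i) = 0 := by
      refine Finset.sum_eq_zero fun i _ => ?_
      rw [Submodule.mkQ_apply, Submodule.Quotient.mk_eq_zero]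
      exact W.smul_mem _ (Submodule.subset_span ⟨i, rfl⟩)
    rw [h2, zero_add] at h1
    have h3 : ∑ i, c (Fin.natAdd h i) • f i = 0 := by
      rw [← h1]
      refine Finset.sum_congr rfl fun i _ => ?_
      rw [map_smul, ← hι i]
      rfl
    have h4 := Fintype.linearIndependent_iff.mp hfli _ h3
    have h5 : ∑ i, c (Fin.castAdd _ i) • v i = 0 := by
      rw [← hc]
      have : ∑ i, c (Fin.natAdd h i) • u (ι i) = 0 :=
        Finset.sum_eq_zero fun i _ => by rw [h4 i, zero_smul]
      rw [this, add_zero]
    have h6 := Fintype.linearIndependent_iff.mp hv _ h5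
    intro i
    refine Fin.addCases (fun i => h6 i) (fun i => h4 i) i
  · rw [_root_.eq_top_iff]
    rintro x -
    have hx : W.mkQ x ∈ Submodule.span K (Set.range f) := by
      rw [hfspan, hTtop]
      exact Submodule.mem_top
    obtain ⟨c, hc⟩ := (Submodule.mem_span_range_iff_exists_fun K).mp hx
    have h1 : x - ∑ i, c i • u (ι i) ∈ W := by
      rw [← Submodule.Quotient.mk_eq_zero, Submodule.Quotient.mk_sub, ← Submodule.mkQ_apply,
        ← Submodule.mkQ_apply, ← hc, map_sum, sub_eq_zero]
      refine Finset.sum_congr rfl fun i _ => ?_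
      rw [map_smul, ← hι i]
      rfl
    have h2 : x = (x - ∑ i, c i • u (ι i)) + ∑ i, c i • u (ι i) := by abel
    rw [h2]
    refine Submodule.add_mem _ ?_ ?_
    · refine (Submodule.span_mono ?_) h1
      rintro _ ⟨i, rfl⟩
      exact ⟨Fin.castAdd _ i, by rw [Fin.append_left]⟩
    · refine Submodule.sum_mem _ fun i _ => Submodule.smul_mem _ _ (Submodule.subset_span ?_)
      exact ⟨Fin.natAdd h i, by rw [Fin.append_right]; rfl⟩

end LA

section Cot

variable {S : Type u} [CommRing S] [IsLocalRing S]

/-- classes in the cotangent space. -/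
noncomputable def cl {n : ℕ} (f : Fin n → S) (hf : ∀ i, f i ∈ maximalIdeal S) (i : Fin n) :
    CotangentSpace S :=
  (maximalIdeal S).toCotangent ⟨f i, hf i⟩

theorem sum_smul_cl {n : ℕ} (f : Fin n → S) (hf : ∀ i, f i ∈ maximalIdeal S) (b : Fin n → S) :
    ∑ j, residue S (b j) • cl f hf j = (maximalIdeal S).toCotangent
      ⟨∑ j, b j * f j, Ideal.sum_mem _ fun j _ => Ideal.mul_mem_left _ _ (hf j)⟩ := by
  have h0 : (⟨∑ j, b j * f j, Ideal.sum_mem _ fun j _ => Ideal.mul_mem_left _ _ (hf j)⟩ :
      maximalIdeal S) = ∑ j, b j • (⟨f j, hf j⟩ : maximalIdeal S) := by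
    apply Subtype.ext
    rw [AddSubmonoidClass.coe_finsetSum]
    rfl
  rw [h0, map_sum]
  refine Finset.sum_congr rfl fun j _ => ?_
  rw [map_smul]
  exact (IsScalarTower.algebraMap_smul (ResidueField S) (b j) (cl f hf j))

theorem hind_of_li {n : ℕ} (f : Fin n → S) (hf : ∀ i, f i ∈ maximalIdeal S)
    (hli : LinearIndependent (ResidueField S) (cl f hf)) :
    ∀ b : Fin n → S, ∑ j, b j * f j ∈ maximalIdeal S ^ 2 → ∀ j, b j ∈ maximalIdeal S := by
  intro b hb j
  have h1 : (maximalIdeal S).toCotangent
      ⟨∑ j, b j * f j, Ideal.sum_mem _ fun j _ => Ideal.mul_mem_left _ _ (hf j)⟩ = 0 :=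
    (Ideal.toCotangent_eq_zero _ _).mpr hb
  rw [← sum_smul_cl f hf b] at h1
  have := (Fintype.linearIndependent_iff.mp hli _ h1) j
  exact (residue_eq_zero_iff _).mp this

theorem li_of_hind {n : ℕ} (f : Fin n → S) (hf : ∀ i, f i ∈ maximalIdeal S)
    (hind : ∀ b : Fin n → S, ∑ j, b j * f j ∈ maximalIdeal S ^ 2 → ∀ j, b j ∈ maximalIdeal S) :
    LinearIndependent (ResidueField S) (cl f hf) := by
  rw [Fintype.linearIndependent_iff]
  intro c hc
  choose b hb using fun j => residue_surjective (c j)
  have h1 : ∑ j, residue S (b j) • cl f hf j = 0 := by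
    rw [← hc]
    refine Finset.sum_congr rfl fun j _ => ?_
    rw [hb]
  rw [sum_smul_cl] at h1
  have h2 := hind b ((Ideal.toCotangent_eq_zero _ _).mp h1)
  intro j
  rw [← hb j]
  exact (residue_eq_zero_iff _).mpr (h2 j)

theorem span_eq_of_span_cl [IsNoetherianRing S] {n : ℕ} (f : Fin n → S)
    (hf : ∀ i, f i ∈ maximalIdeal S)
    (hsp : Submodule.span (ResidueField S) (Set.range (cl f hf)) = ⊤) :
    Ideal.span (Set.range f) = maximalIdeal S := by
  have h1 : Submodule.span (ResidueField S)
      ((maximalIdeal S).toCotangent '' (Set.range fun i => (⟨f i, hf i⟩ : maximalIdeal S))) = ⊤ := by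
    rw [← Set.range_comp]
    exact hsp
  have h2 := CotangentSpace.span_image_eq_top_iff.mp h1
  have h3 := congrArg (Submodule.map (maximalIdeal S).subtype) h2
  rw [Submodule.map_span, Submodule.map_top, Submodule.range_subtype, ← Set.range_comp] at h3
  exact h3

theorem span_cl_of_span_eq [IsNoetherianRing S] {n : ℕ} (f : Fin n → S)
    (hf : ∀ i, f i ∈ maximalIdeal S) (h : Ideal.span (Set.range f) = maximalIdeal S) :
    Submodule.span (ResidueField S) (Set.range (cl f hf)) = ⊤ := by
  have h1 : Submodule.span S (Set.range fun i => (⟨f i, hf i⟩ : maximalIdeal S)) = ⊤ := by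
    apply Submodule.map_injective_of_injective (maximalIdeal S).injective_subtype
    rw [Submodule.map_span, Submodule.map_top, Submodule.range_subtype, ← Set.range_comp]
    exact h
  have h2 := CotangentSpace.span_image_eq_top_iff.mpr h1
  rw [← Set.range_comp] at h2
  exact h2

/-- extend an independent family by members of a generating family to a system of parameters. -/
theorem exists_extension_params [IsNoetherianRing S] {h s : ℕ} (g : Fin h → S)
    (hg : ∀ i, g i ∈ maximalIdeal S)
    (hindg : ∀ b : Fin h → S, ∑ j, b j * g j ∈ maximalIdeal S ^ 2 → ∀ j, b j ∈ maximalIdeal S)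
    (G : Fin s → S) (hG : ∀ i, G i ∈ maximalIdeal S)
    (hgen : Ideal.span (Set.range G) = maximalIdeal S) :
    ∃ (d' : ℕ) (ι : Fin d' → Fin s),
      (∀ i, Fin.append g (G ∘ ι) i ∈ maximalIdeal S) ∧
      (∀ b : Fin (h + d') → S, ∑ j, b j * Fin.append g (G ∘ ι) j ∈ maximalIdeal S ^ 2 →
        ∀ j, b j ∈ maximalIdeal S) ∧
      Ideal.span (Set.range (Fin.append g (G ∘ ι))) = maximalIdeal S := by
  have hli := li_of_hind g hg hindg
  have hspG := span_cl_of_span_eq G hG hgen
  have hsp : Submodule.span (ResidueField S) (Set.range (cl g hg) ∪ Set.range (cl G hG)) = ⊤ := by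
    rw [_root_.eq_top_iff, ← hspG]
    exact Submodule.span_mono Set.subset_union_right
  obtain ⟨d', ι, hli', hsp'⟩ := exists_extend_li (cl g hg) hli (cl G hG) hsp
  have hmem : ∀ i, Fin.append g (G ∘ ι) i ∈ maximalIdeal S := by
    intro i
    refine Fin.addCases (fun i => ?_) (fun i => ?_) i
    · rw [Fin.append_left]; exact hg i
    · rw [Fin.append_right]; exact hG _
  have hcl : cl (Fin.append g (G ∘ ι)) hmem = Fin.append (cl g hg) (cl G hG ∘ ι) := by
    funext i
    refine Fin.addCases (fun i => ?_) (fun i => ?_) i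
    · simp only [cl, Fin.append_left]
    · simp only [cl, Fin.append_right, Function.comp_apply]
  refine ⟨d', ι, hmem, hind_of_li _ hmem (hcl ▸ hli'), span_eq_of_span_cl _ hmem (hcl ▸ hsp')⟩

end Cot

end Groth.Agent.Lib.Helper8.IN7
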