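import Mathlib
import Groth.Agent.Lib.Helper8.HR3
import Groth.Agent.Lib.Helper8.IN7
import Groth.Agent.Lib.Helper8.PAR1

set_option backward.isDefEq.respectTransparency.types false
set_option autoImplicit false
set_option linter.unusedSectionVars false
set_option linter.style.haveILetI false

namespace Groth.Agent.Lib.Helper8.IN10

open IsLocalRing MvPolynomial Groth.Agent.Lib.Helper8 Groth.Agent.Lib.Helper8.HR2

universe u

/-- a subfamily of a generating family of the maximal ideal which is a minimal generating set. -/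
theorem exists_params_from_gens {S : Type u} [CommRing S] [IsLocalRing S] [IsNoetherianRing S]
    {s : ℕ} (G : Fin s → S) (hG : ∀ i, G i ∈ maximalIdeal S)
    (hgen : Ideal.span (Set.range G) = maximalIdeal S) :
    ∃ (h : ℕ) (ι : Fin h → Fin s),
      (∀ b : Fin h → S, ∑ j, b j * G (ι j) ∈ maximalIdeal S ^ 2 → ∀ j, b j ∈ maximalIdeal S) ∧
      Ideal.span (Set.range (G ∘ ι)) = maximalIdeal S := by
  have hspG := IN7.span_cl_of_span_eq G hG hgen
  haveI : Module.Finite (ResidueField S)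
      (Submodule.span (ResidueField S) (Set.range (IN7.cl G hG))) :=
    Module.Finite.span_of_finite _ (Set.finite_range _)
  obtain ⟨f, hfT, hfspan, hfli⟩ := Submodule.exists_fun_fin_finrank_span_eq (ResidueField S)
    (Set.range (IN7.cl G hG))
  choose ι hι using hfT
  have hmem : ∀ i, (G ∘ ι) i ∈ maximalIdeal S := fun i => hG _
  have hcl : IN7.cl (G ∘ ι) hmem = f := by
    funext i
    rw [← hι i]
    rfl
  refine ⟨_, ι, IN7.hind_of_li (G ∘ ι) hmem (hcl ▸ hfli), IN7.span_eq_of_span_cl _ hmem ?_⟩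
  rw [hcl, hfspan, hspG]

/-- images of generators of `𝔮` generate the maximal ideal of the localization. -/
theorem span_map_gens {Λ : Type u} [CommRing Λ] (𝔮 : Ideal Λ) [𝔮.IsPrime] {s : ℕ} (G : Fin s → Λ)
    (hG : Ideal.span (Set.range G) = 𝔮) :
    Ideal.span (Set.range fun l => algebraMap Λ (Localization.AtPrime 𝔮) (G l)) =
      maximalIdeal (Localization.AtPrime 𝔮) := by
  calc Ideal.span (Set.range fun l => algebraMap Λ (Localization.AtPrime 𝔮) (G l)) =
        (Ideal.span (Set.range G)).map (algebraMap Λ (Localization.AtPrime 𝔮)) := by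
        rw [Ideal.map_span, ← Set.range_comp]
        rfl
    _ = 𝔮.map (algebraMap Λ (Localization.AtPrime 𝔮)) :=
        congrArg (fun I => Ideal.map (algebraMap Λ (Localization.AtPrime 𝔮)) I) hG
    _ = maximalIdeal (Localization.AtPrime 𝔮) :=
        IsLocalization.AtPrime.map_eq_maximalIdeal 𝔮 (Localization.AtPrime 𝔮)

section Main

variable {k Λ : Type u} [Field k] [CommRing Λ] [Algebra k Λ] [IsNoetherianRing Λ]
  (𝔮 : Ideal Λ) [𝔮.IsPrime]

attribute [local instance] algSA

/-- the parameters: generators of `𝔭'` giving a cotangent basis of `k[y']_{𝔭'}` stay independent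
in `Λ_𝔮`, and are completed by members of a generating family of `𝔮`. -/
theorem exists_params (p : ℕ) [Fact p.Prime] [CharP k p]
    (hA : CAlg.IsGeometricallyRegular k (Localization.AtPrime 𝔮))
    (F : IntermediateField k (ResidueField (Localization.AtPrime 𝔮))) {t : ℕ} (x : Fin t → Λ)
    (hφ : ∀ i, residue _ (algebraMap Λ (Localization.AtPrime 𝔮) (x i)) ∈ F)
    (hb : LinearIndependent F (fun i => KaehlerDifferential.D k F
      ⟨residue _ (algebraMap Λ (Localization.AtPrime 𝔮) (x i)), hφ i⟩))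
    {s : ℕ} (G : Fin s → Λ) (hG : Ideal.span (Set.range G) = 𝔮) :
    ∃ (h : ℕ) (ϖ : Fin h → MvPolynomial (Fin t) k) (d' : ℕ) (ι : Fin d' → Fin s),
      (∀ i, aeval x (ϖ i) ∈ 𝔮) ∧
      (∀ f₀ : MvPolynomial (Fin t) k, aeval x f₀ ∈ 𝔮 →
        ∃ s₀ : MvPolynomial (Fin t) k, aeval x s₀ ∉ 𝔮 ∧ s₀ * f₀ ∈ Ideal.span (Set.range ϖ)) ∧
      (∀ i, Fin.append (fun i => algebraMap Λ (Localization.AtPrime 𝔮) (aeval x (ϖ i)))
        (fun l => algebraMap Λ (Localization.AtPrime 𝔮) (G (ι l))) i ∈ maximalIdeal _) ∧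
      (∀ b : Fin (h + d') → Localization.AtPrime 𝔮,
        ∑ j, b j * Fin.append (fun i => algebraMap Λ (Localization.AtPrime 𝔮) (aeval x (ϖ i)))
          (fun l => algebraMap Λ (Localization.AtPrime 𝔮) (G (ι l))) j ∈ maximalIdeal _ ^ 2 →
        ∀ j, b j ∈ maximalIdeal _) ∧
      Ideal.span (Set.range (Fin.append
        (fun i => algebraMap Λ (Localization.AtPrime 𝔮) (aeval x (ϖ i)))
        (fun l => algebraMap Λ (Localization.AtPrime 𝔮) (G (ι l))))) = maximalIdeal _ := by
  classical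
  haveI : IsNoetherianRing (Localization.AtPrime 𝔮) :=
    IsLocalization.isNoetherianRing 𝔮.primeCompl _ inferInstance
  let φ' : MvPolynomial (Fin t) k →ₐ[k] Localization.AtPrime 𝔮 :=
    (IsScalarTower.toAlgHom k Λ (Localization.AtPrime 𝔮)).comp (aeval x)
  have hφ'X : ∀ i, φ' (X i) = algebraMap Λ (Localization.AtPrime 𝔮) (x i) := by
    intro i
    show algebraMap Λ (Localization.AtPrime 𝔮) (aeval x (X i)) = _
    rw [aeval_X]
  have hφ'' : ∀ i, residue _ (φ' (X i)) ∈ F := fun i => by rw [hφ'X]; exact hφ i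
  have hb' : LinearIndependent F (fun i => KaehlerDifferential.D k F
      ⟨residue _ (φ' (X i)), hφ'' i⟩) := by
    have : (fun i => KaehlerDifferential.D k F ⟨residue _ (φ' (X i)), hφ'' i⟩) =
        (fun i => KaehlerDifferential.D k F
          ⟨residue _ (algebraMap Λ (Localization.AtPrime 𝔮) (x i)), hφ i⟩) :=
      _root_.funext fun i => congrArg (KaehlerDifferential.D k F) (Subtype.ext (congrArg (residue (Localization.AtPrime 𝔮)) (hφ'X i)))
    rw [this]
    exact hb
  have hmempp : ∀ f₀ : MvPolynomial (Fin t) k, f₀ ∈ pp φ' ↔ aeval x f₀ ∈ 𝔮 := by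
    intro f₀
    rw [mem_pp]
    show algebraMap Λ (Localization.AtPrime 𝔮) (aeval x f₀) ∈ maximalIdeal _ ↔ _
    exact IsLocalization.AtPrime.to_map_mem_maximal_iff (Localization.AtPrime 𝔮) 𝔮 _
  -- generators of `𝔭'`
  obtain ⟨s', G', hG'⟩ := Submodule.fg_iff_exists_fin_generating_family.mp
    (IsNoetherian.noetherian (pp φ'))
  have hG'' : Ideal.span (Set.range G') = pp φ' := hG'
  have hG'mem : ∀ i, G' i ∈ pp φ' := fun i => hG'' ▸ Ideal.subset_span ⟨i, rfl⟩
  have hgen' : Ideal.span (Set.range fun i => algebraMap (MvPolynomial (Fin t) k) (SS φ') (G' i)) =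
      maximalIdeal (SS φ') := span_map_gens (pp φ') G' hG''
  have hGm' : ∀ i, algebraMap (MvPolynomial (Fin t) k) (SS φ') (G' i) ∈ maximalIdeal (SS φ') := by
    intro i
    rw [← hgen']
    exact Ideal.subset_span ⟨i, rfl⟩
  obtain ⟨h, ι', hstar, hspan'⟩ := exists_params_from_gens
    (fun i => algebraMap (MvPolynomial (Fin t) k) (SS φ') (G' i)) hGm' hgen'
  let ϖ : Fin h → MvPolynomial (Fin t) k := fun i => G' (ι' i)
  let g : Fin h → SS φ' := fun i => algebraMap (MvPolynomial (Fin t) k) (SS φ') (ϖ i)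
  have hg : ∀ i, g i ∈ maximalIdeal (SS φ') := fun i => hGm' _
  -- independence in `Λ_𝔮`
  have hfs := (Groth.Agent.S2036.result p).mp hA
  have h1 := Groth.Agent.S9282.result k (Localization.AtPrime 𝔮) hfs
  have h2 := mapBaseChange_injective φ' F hφ'' hb'
  have hstarA := HR3.star_A φ' h1 h2 g hg hstar
  have hgA : ∀ i, algebraMap (SS φ') (Localization.AtPrime 𝔮) (g i) =
      algebraMap Λ (Localization.AtPrime 𝔮) (aeval x (ϖ i)) := fun i => liftSA_algebraMap φ' _
  have hGq : Ideal.span (Set.range fun l => algebraMap Λ (Localization.AtPrime 𝔮) (G l)) =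
      maximalIdeal (Localization.AtPrime 𝔮) := span_map_gens 𝔮 G hG
  have hGqm : ∀ l, algebraMap Λ (Localization.AtPrime 𝔮) (G l) ∈
      maximalIdeal (Localization.AtPrime 𝔮) := by
    intro l
    rw [← hGq]
    exact Ideal.subset_span ⟨l, rfl⟩
  have hindA : ∀ b : Fin h → Localization.AtPrime 𝔮,
      ∑ j, b j * algebraMap Λ (Localization.AtPrime 𝔮) (aeval x (ϖ j)) ∈ maximalIdeal _ ^ 2 →
      ∀ j, b j ∈ maximalIdeal _ := by
    intro b hb
    apply hstarA b
    convert hb using 3 with j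
    exact hgA j
  have hgAm : ∀ i, algebraMap Λ (Localization.AtPrime 𝔮) (aeval x (ϖ i)) ∈ maximalIdeal _ := by
    intro i
    rw [← hgA]
    exact map_nonunit _ _ (hg i)
  obtain ⟨d', ι, hm, hind, hsp⟩ := IN7.exists_extension_params
    (fun i => algebraMap Λ (Localization.AtPrime 𝔮) (aeval x (ϖ i))) hgAm hindA
    (fun l => algebraMap Λ (Localization.AtPrime 𝔮) (G l)) hGqm hGq
  refine ⟨h, ϖ, d', ι, fun i => (hmempp _).mp (hG'mem _), ?_, hm, hind, hsp⟩
  intro f₀ hf₀
  have hf₀' : algebraMap (MvPolynomial (Fin t) k) (SS φ') f₀ ∈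
      (Ideal.span (Set.range ϖ)).map (algebraMap (MvPolynomial (Fin t) k) (SS φ')) := by
    rw [Ideal.map_span, ← Set.range_comp]
    have : (algebraMap (MvPolynomial (Fin t) k) (SS φ')) ∘ ϖ =
        (fun i => algebraMap (MvPolynomial (Fin t) k) (SS φ') (G' i)) ∘ ι' := rfl
    rw [this, hspan', ← Localization.AtPrime.map_eq_maximalIdeal]
    exact Ideal.mem_map_of_mem _ ((hmempp f₀).mpr hf₀)
  obtain ⟨s₀, hs₀, hs₀f⟩ := PAR1.exists_mul_mem_of_map_mem (pp φ') (SS φ')
    (Ideal.span (Set.range ϖ)) f₀ hf₀'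
  exact ⟨s₀, fun h => hs₀ ((hmempp s₀).mpr h), hs₀f⟩

end Main

end Groth.Agent.Lib.Helper8.IN10
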