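import Mathlib
import Groth.Agent.Lib.Helper12.RegularSeqQuot

set_option backward.isDefEq.respectTransparency.types false
set_option autoImplicit false
set_option linter.unusedSectionVars false
set_option linter.style.haveILetI false

namespace Groth.Agent.Lib.Helper8.IN6

open IsLocalRing

universe u

/-- the differentials of generators of a field extension span the module of differentials. -/
theorem span_D_adjoin {k K : Type*} [Field k] [Field K] [Algebra k K] (S : Set K) :
    Submodule.span (IntermediateField.adjoin k S)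
      (Set.range fun s : S => KaehlerDifferential.D k (IntermediateField.adjoin k S)
        ⟨s.1, IntermediateField.subset_adjoin k S s.2⟩) = ⊤ := by
  set N := Submodule.span (IntermediateField.adjoin k S)
      (Set.range fun s : S => KaehlerDifferential.D k (IntermediateField.adjoin k S)
        ⟨s.1, IntermediateField.subset_adjoin k S s.2⟩) with hN
  rw [eq_top_iff, ← KaehlerDifferential.span_range_derivation, Submodule.span_le]
  rintro _ ⟨⟨x, hx⟩, rfl⟩
  show KaehlerDifferential.D k (IntermediateField.adjoin k S) ⟨x, hx⟩ ∈ N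
  induction hx using IntermediateField.adjoin_induction with
  | mem x hx => exact Submodule.subset_span ⟨⟨x, hx⟩, rfl⟩
  | algebraMap c =>
    have : (⟨algebraMap k K c, IntermediateField.algebraMap_mem _ c⟩ :
        IntermediateField.adjoin k S) = algebraMap k (IntermediateField.adjoin k S) c := rfl
    rw [this, Derivation.map_algebraMap]
    exact zero_mem _
  | add x y hx hy ihx ihy =>
    have : (⟨x + y, add_mem hx hy⟩ : IntermediateField.adjoin k S) = ⟨x, hx⟩ + ⟨y, hy⟩ := rfl
    rw [this, map_add]
    exact add_mem ihx ihy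
  | inv x hx ih =>
    have : (⟨x⁻¹, inv_mem hx⟩ : IntermediateField.adjoin k S) =
        (⟨x, hx⟩ : IntermediateField.adjoin k S)⁻¹ := rfl
    rw [this, Derivation.leibniz_inv]
    exact N.smul_mem _ ih
  | mul x y hx hy ihx ihy =>
    have : (⟨x * y, mul_mem hx hy⟩ : IntermediateField.adjoin k S) = ⟨x, hx⟩ * ⟨y, hy⟩ := rfl
    rw [this, Derivation.leibniz]
    exact add_mem (N.smul_mem _ ihy) (N.smul_mem _ ihx)

open scoped IntermediateField.algebraAdjoinAdjoin in
theorem essFiniteType_adjoin {k K : Type*} [Field k] [Field K] [Algebra k K] (s : Finset K) :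
    Algebra.EssFiniteType k (IntermediateField.adjoin k (s : Set K)) := by
  have : Algebra.FiniteType k (Algebra.adjoin k (s : Set K)) := .adjoin_of_finite s.finite_toSet
  have : Algebra.EssFiniteType (Algebra.adjoin k (s : Set K))
      (IntermediateField.adjoin k (s : Set K)) :=
    .of_isLocalization _ (nonZeroDivisors _)
  exact .comp _ (Algebra.adjoin k (s : Set K)) _

/-- separability from the vanishing of relative differentials. -/
theorem isSeparable_of_span_D {k F κ₁ κ₂ : Type u} [Field k] [Field F] [Field κ₁] [Field κ₂]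
    [Algebra k F] [Algebra k κ₁] [Algebra κ₁ κ₂] [Algebra k κ₂] [IsScalarTower k κ₁ κ₂]
    [Algebra.EssFiniteType k F]
    (e : F →ₐ[k] κ₂) (he : Function.Surjective e) {ι : Type*} (x : ι → F)
    (hx : Submodule.span F (Set.range fun i => KaehlerDifferential.D k F (x i)) = ⊤)
    (hxe : ∀ i, e (x i) ∈ Set.range (algebraMap κ₁ κ₂)) :
    Algebra.IsSeparable κ₁ κ₂ := by
  letI algF : Algebra F κ₂ := e.toRingHom.toAlgebra
  haveI : IsScalarTower k F κ₂ := IsScalarTower.of_algebraMap_eq fun c => (e.commutes c).symm
  haveI : Algebra.EssFiniteType k κ₂ := Algebra.EssFiniteType.of_surjective e he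
  haveI : Algebra.EssFiniteType κ₁ κ₂ := Algebra.EssFiniteType.of_comp k κ₁ κ₂
  let δ : Derivation k F Ω[κ₂⁄κ₁] :=
    ((KaehlerDifferential.D κ₁ κ₂).restrictScalars k).compAlgebraMap F
  have hδ : ∀ y : F, δ y = KaehlerDifferential.D κ₁ κ₂ (e y) := fun y => rfl
  have hδx : ∀ i, δ (x i) = 0 := by
    intro i
    obtain ⟨c, hc⟩ := hxe i
    rw [hδ, ← hc, Derivation.map_algebraMap]
  have hL : δ.liftKaehlerDifferential = 0 := by
    apply LinearMap.ext_on_range hx
    intro i
    rw [Derivation.liftKaehlerDifferential_comp_D, hδx, LinearMap.zero_apply]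
  have hδ0 : ∀ y : F, δ y = 0 := by
    intro y
    rw [← Derivation.liftKaehlerDifferential_comp_D δ y, hL, LinearMap.zero_apply]
  haveI : Subsingleton Ω[κ₂⁄κ₁] := by
    rw [← Submodule.subsingleton_iff κ₂, ← subsingleton_iff_bot_eq_top,
      ← KaehlerDifferential.span_range_derivation, eq_comm, Submodule.span_eq_bot]
    rintro _ ⟨z, rfl⟩
    obtain ⟨y, rfl⟩ := he z
    rw [← hδ, hδ0]
  haveI : Algebra.FormallyUnramified κ₁ κ₂ := ⟨inferInstance⟩
  exact Algebra.FormallyUnramified.isSeparable κ₁ κ₂

/-- a power of an ideal with `d` generators lies in the ideal of `e`-th powers. -/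
theorem pow_le_span_pow {R : Type*} [CommRing R] {ι : Type*} (f : ι → R) (e : ℕ)
    (s : Finset ι) :
    Ideal.span (f '' (s : Set ι)) ^ (s.card * e + 1) ≤
      Ideal.span ((fun i => f i ^ e) '' (s : Set ι)) := by
  classical
  induction s using Finset.induction_on with
  | empty => simp
  | insert a s ha ih =>
    rw [Finset.coe_insert, Set.image_insert_eq, Set.image_insert_eq, Ideal.span_insert,
      Ideal.span_insert, Finset.card_insert_of_notMem ha]
    have e1 : (s.card + 1) * e + 1 = e + (s.card * e + 1) := by ring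
    rw [e1]
    refine (Ideal.sup_pow_add_le_pow_sup_pow).trans (sup_le_sup ?_ ih)
    rw [Ideal.span_singleton_pow]

theorem pow_le_span_range_pow {R : Type*} [CommRing R] {d : ℕ} (f : Fin d → R) (e : ℕ) :
    Ideal.span (Set.range f) ^ (d * e + 1) ≤ Ideal.span (Set.range fun i => f i ^ e) := by
  have h := pow_le_span_pow f e Finset.univ
  rw [Finset.coe_univ, Set.image_univ, Set.image_univ, Finset.card_univ, Fintype.card_fin] at h
  exact h

/-- transfer of flatness along a ring isomorphism of the target. -/
theorem flat_of_ringEquiv {D T₁ T₂ : Type*} [CommRing D] [CommRing T₁] [CommRing T₂]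
    [Algebra D T₁] [Algebra D T₂] (e : T₁ ≃+* T₂)
    (he : ∀ x, e (algebraMap D T₁ x) = algebraMap D T₂ x) [Module.Flat D T₁] :
    Module.Flat D T₂ := by
  let e' : T₁ ≃ₗ[D] T₂ :=
    { e.toAddEquiv with
      map_smul' := by
        intro c x
        show e (c • x) = c • e x
        rw [Algebra.smul_def, Algebra.smul_def, map_mul, he] }
  exact Module.Flat.of_linearEquiv e'.symm

/-- flatness of a quotient over a quotient. -/
theorem flat_quotient' {B C T : Type*} [CommRing B] [CommRing C] [CommRing T] [Algebra B C]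
    [Module.Flat B C] (J : Ideal B) [Algebra C T] [Algebra (B ⧸ J) T] [Algebra B T]
    [IsScalarTower B C T] [IsScalarTower B (B ⧸ J) T]
    (hsurj : Function.Surjective (algebraMap C T))
    (hker : RingHom.ker (algebraMap C T) = J.map (algebraMap B C)) :
    Module.Flat (B ⧸ J) T := by
  haveI : Module.Flat (B ⧸ J) (C ⧸ J.map (algebraMap B C)) :=
    Module.Flat.of_linearEquiv
      (Algebra.TensorProduct.quotIdealMapEquivQuotTensor C J).toLinearEquiv
  let e1 : (C ⧸ J.map (algebraMap B C)) ≃+* T :=
    (Ideal.quotEquivOfEq hker.symm).trans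
      (RingHom.quotientKerEquivOfSurjective hsurj)
  refine flat_of_ringEquiv (D := B ⧸ J) e1 ?_
  intro x
  obtain ⟨b, rfl⟩ := Ideal.Quotient.mk_surjective x
  show e1 (Ideal.Quotient.mk _ (algebraMap B C b)) = algebraMap (B ⧸ J) T (Ideal.Quotient.mk J b)
  have h1 : algebraMap (B ⧸ J) T (Ideal.Quotient.mk J b) = algebraMap B T b :=
    (IsScalarTower.algebraMap_apply B (B ⧸ J) T b).symm
  rw [h1, IsScalarTower.algebraMap_apply B C T]
  rfl

section Dim

variable (R : Type u) [CommRing R] [IsRegularLocalRing R]

/-- a generating family of the maximal ideal independent modulo `𝔪²` has `dim R` elements. -/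
theorem dim_eq_of_indep {n : ℕ} (f : Fin n → R) (hf : ∀ i, f i ∈ maximalIdeal R)
    (hind : ∀ a : Fin n → R, ∑ j, a j * f j ∈ maximalIdeal R ^ 2 → ∀ j, a j ∈ maximalIdeal R)
    (hspan : Ideal.span (Set.range f) = maximalIdeal R) : ringKrullDim R = n := by
  obtain ⟨-, hreg⟩ :=
    Groth.Agent.Lib.Helper12.isRegularLocalRing_quotient_and_isRegular_of_indep n R f hf hind
  have h1 := ringKrullDim_add_length_eq_ringKrullDim_of_isRegular (List.ofFn f) hreg
  have h2 : Ideal.ofList (List.ofFn f) = maximalIdeal R := by
    rw [Ideal.ofList, ← hspan]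
    congr 1
    ext x
    simp [List.mem_ofFn]
  have h3 : ringKrullDim (R ⧸ Ideal.ofList (List.ofFn f)) = 0 := by
    rw [h2]
    exact ringKrullDim_eq_zero_of_isField
      ((Ideal.Quotient.maximal_ideal_iff_isField_quotient _).mp inferInstance)
  rw [h3, zero_add, List.length_ofFn] at h1
  exact h1.symm

end Dim

end Groth.Agent.Lib.Helper8.IN6
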