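import Mathlib
import Groth.Agent.Lib.Helper8.HR3
import Groth.Agent.Lib.Helper8.IN6
import Groth.Agent.Lib.Helper8.IN10
import Groth.Agent.Lib.Helper8.FL1

set_option backward.isDefEq.respectTransparency.types false
set_option autoImplicit false
set_option linter.unusedSectionVars false
set_option linter.style.haveILetI false

namespace Groth.Agent.Lib.Helper8.IN11

open IsLocalRing MvPolynomial Groth.Agent.Lib.Helper8

universe u

/-- the smooth `k`-algebra `R₀ = k[y'][z]`. -/
abbrev R0 (k : Type u) [Field k] (t d' : ℕ) : Type u :=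
  MvPolynomial (Fin d') (MvPolynomial (Fin t) k)

instance (k : Type u) [Field k] (t d' : ℕ) : Algebra.FormallySmooth k (R0 k t d') :=
  Algebra.FormallySmooth.comp k (MvPolynomial (Fin t) k) _

instance (k : Type u) [Field k] (t d' : ℕ) : Algebra.FinitePresentation k (R0 k t d') :=
  Algebra.FinitePresentation.trans k (MvPolynomial (Fin t) k) _

theorem map_append {α β : Type*} (f : α → β) {m n : ℕ} (a : Fin m → α) (b : Fin n → α)
    (j : Fin (m + n)) :
    f (Fin.append a b j) = Fin.append (fun i => f (a i)) (fun l => f (b l)) j := by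
  refine Fin.addCases (fun i => ?_) (fun l => ?_) j
  · rw [Fin.append_left, Fin.append_left]
  · rw [Fin.append_right, Fin.append_right]

section Loc

variable {R₀ Λ : Type u} [CommRing R₀] [CommRing Λ] (φ₀ : R₀ →+* Λ) (𝔮 : Ideal Λ) [𝔮.IsPrime]

/-- the local homomorphism `(R₀)_{𝔭₀} → Λ_𝔮`. -/
@[instance_reducible] noncomputable def algA0 :
    Algebra (Localization.AtPrime (𝔮.comap φ₀)) (Localization.AtPrime 𝔮) :=
  (Localization.localRingHom (𝔮.comap φ₀) 𝔮 φ₀ rfl).toAlgebra

attribute [local instance] algA0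

theorem algA0_map (r : R₀) :
    algebraMap (Localization.AtPrime (𝔮.comap φ₀)) (Localization.AtPrime 𝔮)
      (algebraMap R₀ (Localization.AtPrime (𝔮.comap φ₀)) r) =
      algebraMap Λ (Localization.AtPrime 𝔮) (φ₀ r) :=
  Localization.localRingHom_to_map _ _ _ rfl r

instance isLocalHom_algA0 :
    IsLocalHom (algebraMap (Localization.AtPrime (𝔮.comap φ₀)) (Localization.AtPrime 𝔮)) :=
  Localization.isLocalHom_localRingHom _ _ _ rfl

theorem mem_comap_iff (r : R₀) : r ∈ 𝔮.comap φ₀ ↔ φ₀ r ∈ 𝔮 := Iff.rfl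

end Loc

section Phi

variable {k Λ : Type u} [Field k] [CommRing Λ] [Algebra k Λ] {t d' : ℕ}

variable (k) in
/-- the map `R₀ → Λ`. -/
noncomputable def phi0 (x : Fin t → Λ) (w : Fin d' → Λ) : R0 k t d' →+* Λ :=
  eval₂Hom (aeval x : MvPolynomial (Fin t) k →ₐ[k] Λ).toRingHom w

theorem phi0_C (x : Fin t → Λ) (w : Fin d' → Λ) (f : MvPolynomial (Fin t) k) :
    phi0 k x w (C f) = aeval x f := by
  unfold phi0
  rw [eval₂Hom_C]
  rfl

theorem phi0_X (x : Fin t → Λ) (w : Fin d' → Λ) (l : Fin d') :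
    phi0 k x w (X l) = w l := by
  unfold phi0
  rw [eval₂Hom_X']

theorem phi0_algebraMap (x : Fin t → Λ) (w : Fin d' → Λ) (c : k) :
    phi0 k x w (algebraMap k (R0 k t d') c) = algebraMap k Λ c := by
  rw [IsScalarTower.algebraMap_apply k (MvPolynomial (Fin t) k) (R0 k t d'),
    MvPolynomial.algebraMap_eq (R := MvPolynomial (Fin t) k), phi0_C]
  exact (aeval x).commutes c

/-- the parameters in `R₀`. -/
noncomputable def par {h : ℕ} (ϖ : Fin h → MvPolynomial (Fin t) k) (d' : ℕ) :
    Fin (h + d') → R0 k t d' :=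
  Fin.append (fun i => C (ϖ i)) (fun l => X l)

theorem phi0_par {h : ℕ} (ϖ : Fin h → MvPolynomial (Fin t) k) (x : Fin t → Λ) (w : Fin d' → Λ)
    (j : Fin (h + d')) :
    phi0 k x w (par ϖ d' j) = Fin.append (fun i => aeval x (ϖ i)) w j := by
  unfold par
  rw [map_append (phi0 k x w)]
  congr 1
  · funext i
    exact phi0_C x w _
  · funext l
    exact phi0_X x w l

/-- decomposition of a polynomial into constant term and the rest. -/
theorem sub_C_constantCoeff_mem (f : R0 k t d') :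
    f - C (constantCoeff f) ∈ Ideal.span (Set.range (X : Fin d' → R0 k t d')) := by
  rw [FL1.idealOfVars_eq_ker, RingHom.mem_ker, map_sub, constantCoeff_C, sub_self]

theorem phi0_mem_of_mem_span (x : Fin t → Λ) (w : Fin d' → Λ) (𝔮 : Ideal Λ)
    (hw : ∀ l, w l ∈ 𝔮) (g : R0 k t d')
    (hg : g ∈ Ideal.span (Set.range (X : Fin d' → R0 k t d'))) : phi0 k x w g ∈ 𝔮 := by
  have hle : Ideal.span (Set.range (X : Fin d' → R0 k t d')) ≤ 𝔮.comap (phi0 k x w) := by
    rw [Ideal.span_le]
    rintro _ ⟨l, rfl⟩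
    show phi0 k x w (X l) ∈ 𝔮
    rw [phi0_X]
    exact hw l
  exact hle hg

end Phi


section GenLoc

open Groth.Agent.Lib.Helper12

variable {R₀ Λ : Type u} [CommRing R₀] [CommRing Λ] (φ₀ : R₀ →+* Λ) (𝔮 : Ideal Λ) [𝔮.IsPrime]
  {n : ℕ} (π : Fin n → R₀)

attribute [local instance] algA0

local notation "A₀" => Localization.AtPrime (Ideal.comap φ₀ 𝔮)
local notation "Λq" => Localization.AtPrime 𝔮

theorem mem_of_map_mem (a : A₀) (ha : algebraMap A₀ Λq a ∈ maximalIdeal Λq) :
    a ∈ maximalIdeal A₀ := by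
  by_contra hu
  have hu' : IsUnit a := by
    by_contra h'
    exact hu ((mem_maximalIdeal _).mpr h')
  exact (mem_maximalIdeal _).mp ha (hu'.map (algebraMap A₀ Λq))

theorem gm (hm : ∀ j, algebraMap Λ Λq (φ₀ (π j)) ∈ maximalIdeal Λq) (j : Fin n) :
    algebraMap R₀ A₀ (π j) ∈ maximalIdeal A₀ := by
  apply mem_of_map_mem φ₀ 𝔮
  rw [algA0_map]
  exact hm j

theorem map_maximalIdeal_pow_le (m : ℕ) :
    (maximalIdeal A₀ ^ m).map (algebraMap A₀ Λq) ≤ maximalIdeal Λq ^ m := by
  rw [Ideal.map_pow]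
  exact Ideal.pow_right_mono (((IsLocalRing.local_hom_TFAE
    (algebraMap A₀ Λq)).out 0 2).mp (isLocalHom_algA0 φ₀ 𝔮)) m

theorem indA
    (hind : ∀ b : Fin n → Λq, ∑ j, b j * algebraMap Λ Λq (φ₀ (π j)) ∈ maximalIdeal Λq ^ 2 →
      ∀ j, b j ∈ maximalIdeal Λq)
    (b : Fin n → A₀) (hb : ∑ j, b j * algebraMap R₀ A₀ (π j) ∈ maximalIdeal A₀ ^ 2) (j : Fin n) :
    b j ∈ maximalIdeal A₀ := by
  have h1 := map_maximalIdeal_pow_le φ₀ 𝔮 2 (Ideal.mem_map_of_mem (algebraMap A₀ Λq) hb)
  rw [map_sum] at h1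
  have h2 : ∑ j, (algebraMap A₀ Λq (b j)) * algebraMap Λ Λq (φ₀ (π j)) ∈ maximalIdeal Λq ^ 2 := by
    have : ∀ j, algebraMap A₀ Λq (b j * algebraMap R₀ A₀ (π j)) =
        (algebraMap A₀ Λq (b j)) * algebraMap Λ Λq (φ₀ (π j)) := by
      intro j
      rw [map_mul, algA0_map]
    rw [Finset.sum_congr rfl (fun j _ => this j)] at h1
    exact h1
  exact mem_of_map_mem φ₀ 𝔮 _ (hind _ h2 j)

theorem flatA [IsRegularLocalRing Λq] [IsRegularLocalRing A₀]
    (hm : ∀ j, algebraMap Λ Λq (φ₀ (π j)) ∈ maximalIdeal Λq)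
    (hind : ∀ b : Fin n → Λq, ∑ j, b j * algebraMap Λ Λq (φ₀ (π j)) ∈ maximalIdeal Λq ^ 2 →
      ∀ j, b j ∈ maximalIdeal Λq)
    (hspanA : Ideal.span (Set.range fun j => algebraMap R₀ A₀ (π j)) = maximalIdeal A₀) :
    Module.Flat A₀ Λq := by
  have hgmap : ∀ j, algebraMap A₀ Λq (algebraMap R₀ A₀ (π j)) = algebraMap Λ Λq (φ₀ (π j)) :=
    fun j => algA0_map φ₀ 𝔮 _
  have hgm := gm φ₀ 𝔮 π hm
  have hindA := indA φ₀ 𝔮 π hind
  obtain ⟨-, hregA⟩ := isRegularLocalRing_quotient_and_isRegular_of_indep n Λq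
    (fun j => algebraMap A₀ Λq (algebraMap R₀ A₀ (π j)))
    (fun j => by rw [hgmap]; exact hm j)
    (by
      intro b hb
      apply hind b
      have : ∀ j, b j * algebraMap A₀ Λq (algebraMap R₀ A₀ (π j)) =
          b j * algebraMap Λ Λq (φ₀ (π j)) := fun j => by rw [hgmap]
      rw [Finset.sum_congr rfl (fun j _ => this j)] at hb
      exact hb)
  obtain ⟨-, hregS⟩ := isRegularLocalRing_quotient_and_isRegular_of_indep n A₀
    (fun j => algebraMap R₀ A₀ (π j)) hgm hindA
  refine (Groth.Agent.Lib.Helper9.RegFlat.main A₀ Λq Λq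
    (List.ofFn (fun j => algebraMap R₀ A₀ (π j))) ?_ hregS.toIsWeaklyRegular).mpr ⟨?_, ?_⟩
  · intro f hf
    rw [List.mem_ofFn] at hf
    obtain ⟨j, rfl⟩ := hf
    exact hgm j
  · have hmax : Ideal.ofList (List.ofFn (fun j => algebraMap R₀ A₀ (π j))) = maximalIdeal A₀ := by
      rw [FL1.ofList_ofFn, hspanA]
    haveI : (Ideal.ofList (List.ofFn (fun j => algebraMap R₀ A₀ (π j)))).IsMaximal := by
      rw [hmax]
      infer_instance
    letI := Ideal.Quotient.field (Ideal.ofList (List.ofFn (fun j => algebraMap R₀ A₀ (π j))))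
    exact Module.Flat.of_free
  · have h5 : List.ofFn (fun j => algebraMap A₀ Λq (algebraMap R₀ A₀ (π j))) =
        (List.ofFn (fun j => algebraMap R₀ A₀ (π j))).map (algebraMap A₀ Λq) := by
      rw [List.map_ofFn]
      rfl
    have h6 := hregA.toIsWeaklyRegular
    rw [h5] at h6
    exact (RingTheory.Sequence.isWeaklyRegular_map_algebraMap_iff Λq Λq
      (List.ofFn (fun j => algebraMap R₀ A₀ (π j)))).mp h6

end GenLoc


section Gen

variable {k Λ : Type u} [Field k] [CommRing Λ] [Algebra k Λ]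
  (𝔮 : Ideal Λ) [𝔮.IsPrime] {t h d' : ℕ}

/-- the maximal ideal of `A₀ = (R₀)_{𝔭₀}` is generated by the parameters. -/
theorem spanA (x : Fin t → Λ) (w : Fin d' → Λ) (ϖ : Fin h → MvPolynomial (Fin t) k)
    (hgen : ∀ f₀ : MvPolynomial (Fin t) k, aeval x f₀ ∈ 𝔮 →
      ∃ s₀ : MvPolynomial (Fin t) k, aeval x s₀ ∉ 𝔮 ∧ s₀ * f₀ ∈ Ideal.span (Set.range ϖ))
    (hw : ∀ l, w l ∈ 𝔮)
    (hgm : ∀ j, algebraMap (R0 k t d') (Localization.AtPrime (𝔮.comap (phi0 k x w)))
      (par ϖ d' j) ∈ maximalIdeal (Localization.AtPrime (𝔮.comap (phi0 k x w)))) :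
    Ideal.span (Set.range fun j => algebraMap (R0 k t d')
        (Localization.AtPrime (𝔮.comap (phi0 k x w))) (par ϖ d' j)) =
      maximalIdeal (Localization.AtPrime (𝔮.comap (phi0 k x w))) := by
  classical
  apply le_antisymm
  · rw [Ideal.span_le]
    rintro _ ⟨j, rfl⟩
    exact hgm j
  · rw [← IsLocalization.AtPrime.map_eq_maximalIdeal (𝔮.comap (phi0 k x w))
      (Localization.AtPrime (𝔮.comap (phi0 k x w))), Ideal.map_le_iff_le_comap]
    intro f hf
    rw [Ideal.mem_comap]
    have hf' : phi0 k x w f ∈ 𝔮 := hf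
    -- the non-constant part
    have h1 := sub_C_constantCoeff_mem f
    have h2 : algebraMap (R0 k t d') (Localization.AtPrime (𝔮.comap (phi0 k x w)))
        (f - C (constantCoeff f)) ∈ Ideal.span (Set.range fun j => algebraMap (R0 k t d')
        (Localization.AtPrime (𝔮.comap (phi0 k x w))) (par ϖ d' j)) := by
      have hle : Ideal.span (Set.range (X : Fin d' → R0 k t d')) ≤
          (Ideal.span (Set.range fun j => algebraMap (R0 k t d')
        (Localization.AtPrime (𝔮.comap (phi0 k x w))) (par ϖ d' j))).comap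
          (algebraMap (R0 k t d') (Localization.AtPrime (𝔮.comap (phi0 k x w)))) := by
        rw [Ideal.span_le]
        rintro _ ⟨l, rfl⟩
        rw [SetLike.mem_coe, Ideal.mem_comap]
        refine Ideal.subset_span ⟨Fin.natAdd h l, ?_⟩
        show algebraMap (R0 k t d') _ (par ϖ d' (Fin.natAdd h l)) = _
        unfold par
        rw [Fin.append_right]
      exact hle h1
    -- the constant part
    have h3 : phi0 k x w (C (constantCoeff f)) ∈ 𝔮 := by
      have : phi0 k x w (C (constantCoeff f)) =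
          phi0 k x w f - phi0 k x w (f - C (constantCoeff f)) := by
        rw [map_sub]; ring
      rw [this]
      exact 𝔮.sub_mem hf' (phi0_mem_of_mem_span x w 𝔮 hw _ h1)
    rw [phi0_C] at h3
    obtain ⟨s₀, hs₀, hs₀f⟩ := hgen _ h3
    have hunit : IsUnit (algebraMap (R0 k t d') (Localization.AtPrime (𝔮.comap (phi0 k x w)))
        (C s₀)) := by
      apply IsLocalization.map_units (Localization.AtPrime (𝔮.comap (phi0 k x w)))
        (⟨C s₀, ?_⟩ : (𝔮.comap (phi0 k x w)).primeCompl)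
      show C s₀ ∉ 𝔮.comap (phi0 k x w)
      rw [mem_comap_iff, phi0_C]
      exact hs₀
    have h4 : algebraMap (R0 k t d') (Localization.AtPrime (𝔮.comap (phi0 k x w)))
        (C s₀ * C (constantCoeff f)) ∈ Ideal.span (Set.range fun j => algebraMap (R0 k t d')
        (Localization.AtPrime (𝔮.comap (phi0 k x w))) (par ϖ d' j)) := by
      have hle : Ideal.span (Set.range ϖ) ≤ ((Ideal.span (Set.range fun j =>
          algebraMap (R0 k t d') (Localization.AtPrime (𝔮.comap (phi0 k x w)))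
            (par ϖ d' j))).comap
          (algebraMap (R0 k t d') (Localization.AtPrime (𝔮.comap (phi0 k x w))))).comap
            (C : MvPolynomial (Fin t) k →+* R0 k t d') := by
        rw [Ideal.span_le]
        rintro _ ⟨i, rfl⟩
        rw [SetLike.mem_coe, Ideal.mem_comap, Ideal.mem_comap]
        refine Ideal.subset_span ⟨Fin.castAdd d' i, ?_⟩
        show algebraMap (R0 k t d') _ (par ϖ d' (Fin.castAdd d' i)) = _
        unfold par
        rw [Fin.append_left]
      have := hle hs₀f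
      rw [Ideal.mem_comap, Ideal.mem_comap, map_mul] at this
      exact this
    rw [map_mul] at h4
    have h5 : algebraMap (R0 k t d') (Localization.AtPrime (𝔮.comap (phi0 k x w)))
        (C (constantCoeff f)) ∈ Ideal.span (Set.range fun j => algebraMap (R0 k t d')
        (Localization.AtPrime (𝔮.comap (phi0 k x w))) (par ϖ d' j)) := by
      obtain ⟨v, hv⟩ := hunit
      have : algebraMap (R0 k t d') (Localization.AtPrime (𝔮.comap (phi0 k x w)))
          (C (constantCoeff f)) =
          (↑v⁻¹ : Localization.AtPrime (𝔮.comap (phi0 k x w))) *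
            (algebraMap (R0 k t d') (Localization.AtPrime (𝔮.comap (phi0 k x w))) (C s₀) *
            algebraMap (R0 k t d') (Localization.AtPrime (𝔮.comap (phi0 k x w)))
              (C (constantCoeff f))) := by
        rw [← mul_assoc, ← hv, Units.inv_mul, one_mul]
      rw [this]
      exact Ideal.mul_mem_left _ _ h4
    have h6 : algebraMap (R0 k t d') (Localization.AtPrime (𝔮.comap (phi0 k x w))) f =
        algebraMap (R0 k t d') (Localization.AtPrime (𝔮.comap (phi0 k x w)))
          (f - C (constantCoeff f)) +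
        algebraMap (R0 k t d') (Localization.AtPrime (𝔮.comap (phi0 k x w)))
          (C (constantCoeff f)) := by
      rw [← map_add]; congr 1; ring
    rw [h6]
    exact Ideal.add_mem _ h2 h5

end Gen

end Groth.Agent.Lib.Helper8.IN11
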