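import Mathlib
import Groth.Prelude.Def_EGA41
import Groth.Agent.Lib.Helper23.PBasisField
import Groth.Agent.S2468

set_option backward.isDefEq.respectTransparency.types false
set_option autoImplicit false
set_option linter.unusedSectionVars false
set_option linter.style.haveILetI false

/-!
# p-bases and the imperfection module: a cofinite part of a p-basis stays p-independent
-/

namespace Groth.Agent.Lib.Helper8.PB1

open EGA41 TensorProduct Groth.Agent.Lib.Helper23

universe u

variable (p : ℕ) [Fact p.Prime]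

/-- the prime field, in universe `u`. -/
abbrev Fp : Type u := ULift.{u} (ZMod p)

/-- the algebra structure over the prime field. -/
@[reducible] noncomputable def algFp (R : Type u) [CommRing R] [CharP R p] : Algebra (Fp.{u} p) R :=
  ((ZMod.castHom (dvd_refl p) R).comp
    (ULift.ringEquiv : ULift.{u} (ZMod p) ≃+* ZMod p).toRingHom).toAlgebra

theorem ringHom_ext_Fp {R : Type*} [CommRing R] [CharP R p] (f g : Fp.{u} p →+* R) : f = g := by
  have h : f.comp (ULift.ringEquiv : ULift.{u} (ZMod p) ≃+* ZMod p).symm.toRingHom =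
      g.comp (ULift.ringEquiv : ULift.{u} (ZMod p) ≃+* ZMod p).symm.toRingHom :=
    Subsingleton.elim _ _
  ext x
  have := DFunLike.congr_fun h (ULift.ringEquiv x)
  simpa using this

theorem isScalarTower_Fp {k K : Type u} [CommRing k] [CommRing K] [CharP K p] [Algebra k K]
    [Algebra (Fp.{u} p) k] [Algebra (Fp.{u} p) K] : IsScalarTower (Fp.{u} p) k K :=
  IsScalarTower.of_algebraMap_eq fun x =>
    DFunLike.congr_fun (ringHom_ext_Fp p (algebraMap (Fp.{u} p) K)
      ((algebraMap k K).comp (algebraMap (Fp.{u} p) k))) x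

theorem exists_pBasis_cofinite_independent {k K : Type u} [Field k] [Field K] [Algebra k K]
    [CharP k p] [CharP K p] [Algebra (Fp.{u} p) k] [Algebra (Fp.{u} p) K]
    [IsScalarTower (Fp.{u} p) k K]
    (hH : Module.Finite K (Algebra.H1Cotangent k K)) :
    ∃ (Γ : Set k) (Γ₀ : Finset k), IsPBasis p (Fp.{u} p) (Subtype.val : Γ → k) ∧
      IsPIndependent p (Fp.{u} p) (fun γ : ↥(Γ \ (↑Γ₀ : Set k)) => algebraMap k K γ.1) := by
  classical
  obtain ⟨Γ, hΓ⟩ := PBasisField.exists_isPBasis' p (Fp.{u} p) (K := k)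
  obtain ⟨b, hb⟩ := (Groth.Agent.S2468.result p (k := Fp.{u} p) (K := k)
    (Subtype.val : Γ → k)).2.2.mp hΓ
  let bK : Module.Basis Γ K (K ⊗[k] Ω[k⁄Fp.{u} p]) := b.baseChange K
  have hbK : ∀ γ, bK γ = (1 : K) ⊗ₜ[k] b γ := fun γ => Module.Basis.baseChange_apply K b γ
  -- the kernel is finitely generated
  have hWfg : (LinearMap.ker (KaehlerDifferential.mapBaseChange (Fp.{u} p) k K)).FG := by
    have hex := Algebra.H1Cotangent.exact_δ_mapBaseChange (Fp.{u} p) k K
    rw [hex.linearMap_ker_eq]
    haveI := hH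
    rw [LinearMap.range_eq_map]
    exact Submodule.FG.map _ Module.Finite.fg_top
  obtain ⟨G, hG⟩ := hWfg
  let Γ₀' : Finset Γ := G.biUnion fun w => (bK.repr w).support
  have hW : LinearMap.ker (KaehlerDifferential.mapBaseChange (Fp.{u} p) k K) ≤
      Submodule.span K (bK '' (↑Γ₀' : Set Γ)) := by
    rw [← hG, Submodule.span_le]
    intro w hw
    rw [SetLike.mem_coe, Module.Basis.mem_span_image]
    intro γ hγ
    exact Finset.mem_biUnion.mpr ⟨w, hw, hγ⟩
  refine ⟨Γ, Γ₀'.image Subtype.val, hΓ, ?_⟩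
  rw [(Groth.Agent.S2468.result p (k := Fp.{u} p) (K := K)
    (fun γ : ↥(Γ \ (↑(Γ₀'.image Subtype.val) : Set k)) => algebraMap k K γ.1)).1]
  -- the family of differentials is the image of a part of the basis
  let ι : ↥(Γ \ (↑(Γ₀'.image Subtype.val) : Set k)) → Γ := fun γ => ⟨γ.1, γ.2.1⟩
  have hι : Function.Injective ι := by
    intro γ γ' h
    exact Subtype.ext (congrArg (fun z : Γ => z.1) h)
  have hιmem : ∀ γ, ι γ ∉ (↑Γ₀' : Set Γ) := by
    intro γ hγ
    apply γ.2.2
    exact Finset.mem_coe.mpr (Finset.mem_image.mpr ⟨ι γ, hγ, rfl⟩)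
  have hfam : (fun γ : ↥(Γ \ (↑(Γ₀'.image Subtype.val) : Set k)) =>
      KaehlerDifferential.D (Fp.{u} p) K (algebraMap k K γ.1)) =
      (KaehlerDifferential.mapBaseChange (Fp.{u} p) k K) ∘ (bK ∘ ι) := by
    funext γ
    rw [Function.comp_apply, Function.comp_apply, hbK, KaehlerDifferential.mapBaseChange_tmul,
      one_smul, hb, KaehlerDifferential.map_D]
  rw [hfam]
  have hli : LinearIndependent K (bK ∘ ι) := bK.linearIndependent.comp ι hι
  refine hli.map ?_
  have hdisj : Disjoint (Submodule.span K (bK '' (Set.range ι)))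
      (Submodule.span K (bK '' (↑Γ₀' : Set Γ))) := by
    apply bK.linearIndependent.disjoint_span_image
    rw [Set.disjoint_left]
    rintro _ ⟨γ, rfl⟩ h
    exact hιmem γ h
  rw [Set.range_comp]
  exact hdisj.mono_right hW

end Groth.Agent.Lib.Helper8.PB1
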