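import Mathlib
import Groth.Prelude.Def_EGA41
import Groth.Agent.Lib.Helper8.PB1
import Groth.Agent.S4541

set_option backward.isDefEq.respectTransparency.types false
set_option autoImplicit false
set_option linter.unusedSectionVars false
set_option linter.style.haveILetI false

/-!
# A coefficient field adapted to a cofinite part of a p-basis of the ground field
-/

namespace Groth.Agent.Lib.Helper8.PB2

open EGA41 IsLocalRing Groth.Agent.Lib.Helper23 Groth.Agent.Lib.Helper8

universe u

variable (p : ℕ) [Fact p.Prime]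

theorem Fp_map_mem {R : Type*} [CommRing R] (f : PB1.Fp.{u} p →+* R) (T : Subring R)
    (x : PB1.Fp.{u} p) : f x ∈ T := by
  have hx : x = ((x.down.val : ℕ) : PB1.Fp.{u} p) := by
    apply ULift.ext
    rw [ULift.down_natCast, ZMod.natCast_zmod_val]
  rw [hx, map_natCast]
  exact natCast_mem T _

/-- iterated Frobenius: `k` is generated as a ring by `p^M`-th powers and a `p`-generating set. -/
theorem closure_pow_union_eq_top {k : Type u} [Field k] [CharP k p] [Algebra (PB1.Fp.{u} p) k]
    (Γ : Set k) (hΓ : IsPGenerating p (PB1.Fp.{u} p) (Subtype.val : Γ → k)) (M : ℕ) :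
    Subring.closure (Set.range (fun c : k => c ^ p ^ M) ∪ Γ) = ⊤ := by
  induction M with
  | zero =>
    rw [eq_top_iff]
    intro c _
    exact Subring.subset_closure (Or.inl ⟨c, by simp⟩)
  | succ M ih =>
    rw [eq_top_iff]
    -- `p`-th powers
    have hpow : ∀ c : k, c ^ p ∈ Subring.closure (Set.range (fun c : k => c ^ p ^ (M + 1)) ∪ Γ) := by
      intro c
      have hc : c ∈ Subring.closure (Set.range (fun c : k => c ^ p ^ M) ∪ Γ) := by
        rw [ih]; exact Subring.mem_top c
      have h1 : frobenius k p c ∈ (Subring.closure (Set.range (fun c : k => c ^ p ^ M) ∪ Γ)).map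
          (frobenius k p) := Subring.mem_map.mpr ⟨c, hc, rfl⟩
      rw [RingHom.map_closure] at h1
      have h2 : Subring.closure ((frobenius k p) '' (Set.range (fun c : k => c ^ p ^ M) ∪ Γ)) ≤
          Subring.closure (Set.range (fun c : k => c ^ p ^ (M + 1)) ∪ Γ) := by
        rw [Subring.closure_le]
        rintro _ ⟨y, hy | hy, rfl⟩
        · obtain ⟨c', rfl⟩ := hy
          apply Subring.subset_closure
          left
          exact ⟨c', by simp only [frobenius_def]; rw [← pow_mul, pow_succ]⟩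
        · rw [frobenius_def]
          have hy' : y ∈ Subring.closure (Set.range (fun c : k => c ^ p ^ (M + 1)) ∪ Γ) :=
            Subring.subset_closure (Set.mem_union_right _ hy)
          exact pow_mem hy' p
      exact h2 h1
    -- the `p`-power subalgebra
    have hsub : ∀ s ∈ pPowerSubalgebra p (PB1.Fp.{u} p) k,
        s ∈ Subring.closure (Set.range (fun c : k => c ^ p ^ (M + 1)) ∪ Γ) := by
      intro s hs
      refine Algebra.adjoin_induction (p := fun s _ => s ∈
        Subring.closure (Set.range (fun c : k => c ^ p ^ (M + 1)) ∪ Γ)) ?_ ?_ ?_ ?_ hs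
      · rintro _ ⟨b, rfl⟩
        exact hpow b
      · intro a
        exact Fp_map_mem p _ _ a
      · intro _ _ _ _ h1 h2
        exact add_mem h1 h2
      · intro _ _ _ _ h1 h2
        exact mul_mem h1 h2
    intro c _
    have hc : c ∈ Submodule.span (pPowerSubalgebra p (PB1.Fp.{u} p) k)
        (Set.range fun e : {e : Γ →₀ ℕ // ∀ i, e i < p} =>
          pMonomial (Subtype.val : Γ → k) e.1) := by
      rw [hΓ]; exact Submodule.mem_top
    refine Submodule.span_induction (p := fun c _ => c ∈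
      Subring.closure (Set.range (fun c : k => c ^ p ^ (M + 1)) ∪ Γ)) ?_ ?_ ?_ ?_ hc
    · rintro _ ⟨e, rfl⟩
      refine PBasisField.pMonomial_mem_of_support _ _ Set.univ ?_ _ (Set.subset_univ _)
      intro γ _
      exact Subring.subset_closure (Or.inr γ.2)
    · exact zero_mem _
    · intro _ _ _ _ h1 h2
      exact add_mem h1 h2
    · intro s x _ hx
      exact mul_mem (hsub s.1 s.2) hx

/-- a ring-theoretic section of the residue map which agrees with the structure map on a cofinite
part of a `p`-generating subset of the ground field. -/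
theorem exists_section {k Λ : Type u} [Field k] [CharP k p] [CommRing Λ] [Algebra k Λ]
    [IsArtinianRing Λ] [IsLocalRing Λ]
    (hH : Module.Finite (ResidueField Λ) (Algebra.H1Cotangent k (ResidueField Λ))) :
    ∃ (σ : ResidueField Λ →+* Λ) (Γ : Set k) (Γ₀ : Finset k),
      (∀ x, residue Λ (σ x) = x) ∧
      (∀ M : ℕ, Subring.closure (Set.range (fun c : k => c ^ p ^ M) ∪ Γ) = ⊤) ∧
      ∀ γ ∈ Γ \ (↑Γ₀ : Set k), σ (algebraMap k (ResidueField Λ) γ) = algebraMap k Λ γ := by
  classical
  haveI : CharP (ResidueField Λ) p :=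
    charP_of_injective_algebraMap (algebraMap k (ResidueField Λ)).injective p
  haveI : CharP Λ p := charP_of_injective_algebraMap (algebraMap k Λ).injective p
  letI algk := PB1.algFp.{u} p k
  letI algK := PB1.algFp.{u} p (ResidueField Λ)
  letI algΛ := PB1.algFp.{u} p Λ
  haveI := PB1.isScalarTower_Fp.{u} p (k := k) (K := ResidueField Λ)
  obtain ⟨Γ, Γ₀, hΓ, hind⟩ := PB1.exists_pBasis_cofinite_independent.{u} p hH
  have hxinj : Function.Injective
      (fun γ : ↥(Γ \ (↑Γ₀ : Set k)) => algebraMap k (ResidueField Λ) γ.1) :=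
    fun a b h => Subtype.ext ((algebraMap k (ResidueField Λ)).injective h)
  have hL : IsPIndependent p (PB1.Fp.{u} p) (Subtype.val :
      (Set.range (fun γ : ↥(Γ \ (↑Γ₀ : Set k)) => algebraMap k (ResidueField Λ) γ.1)) →
        ResidueField Λ) := by
    rw [PBasisField.isPIndependent_val_iff]
    rintro _ ⟨γ, rfl⟩
    have h1 := (PBasisField.isPIndependent_iff p (PB1.Fp.{u} p)
      (fun γ : ↥(Γ \ (↑Γ₀ : Set k)) => algebraMap k (ResidueField Λ) γ.1)).mp hind γ
    have h2 : (Set.range (fun γ : ↥(Γ \ (↑Γ₀ : Set k)) => algebraMap k (ResidueField Λ) γ.1)) \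
        {algebraMap k (ResidueField Λ) γ.1} =
        (fun γ : ↥(Γ \ (↑Γ₀ : Set k)) => algebraMap k (ResidueField Λ) γ.1) '' {b | b ≠ γ} := by
      ext y
      constructor
      · rintro ⟨⟨γ', rfl⟩, hne⟩
        exact ⟨γ', fun h => hne (by rw [h]; rfl), rfl⟩
      · rintro ⟨γ', hne, rfl⟩
        exact ⟨⟨γ', rfl⟩, fun h => hne (hxinj h)⟩
    rw [h2]
    exact h1
  obtain ⟨B, hLB, -, hB⟩ := PBasisField.exists_isPBasis p (PB1.Fp.{u} p)
    (Set.univ : Set (ResidueField Λ)) _ (Set.subset_univ _)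
    ((PBasisField.isPGenerating_val_iff p (PB1.Fp.{u} p) _).mpr (by
      rw [eq_top_iff]; intro m _; exact IntermediateField.subset_adjoin _ _ (Set.mem_univ m))) hL
  -- the lifts
  have hz : ∀ b : B, ∃ z : Λ, residue Λ z = b.1 ∧
      ∀ γ : ↥(Γ \ (↑Γ₀ : Set k)), algebraMap k (ResidueField Λ) γ.1 = b.1 →
        z = algebraMap k Λ γ.1 := by
    intro b
    by_cases hb : b.1 ∈ Set.range
        (fun γ : ↥(Γ \ (↑Γ₀ : Set k)) => algebraMap k (ResidueField Λ) γ.1)
    · obtain ⟨γ, hγ⟩ := hb
      refine ⟨algebraMap k Λ γ.1, ?_, ?_⟩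
      · rw [← hγ]
        rfl
      · intro γ' hγ'
        have : γ' = γ := hxinj (hγ'.trans hγ.symm)
        rw [this]
    · obtain ⟨z, hz⟩ := residue_surjective (R := Λ) b.1
      refine ⟨z, hz, ?_⟩
      intro γ hγ
      exact absurd ⟨γ, hγ⟩ hb
  choose z hz1 hz2 using hz
  have hnil : IsNilpotent (maximalIdeal Λ) := by
    rw [← IsLocalRing.jacobson_eq_maximalIdeal ⊥ bot_ne_top]
    exact IsArtinianRing.isNilpotent_jacobson_bot
  let v : ResidueField Λ →ₐ[PB1.Fp.{u} p] Λ ⧸ maximalIdeal Λ :=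
    { toRingHom := RingHom.id (ResidueField Λ)
      commutes' := fun a => DFunLike.congr_fun (PB1.ringHom_ext_Fp.{u} p
        ((RingHom.id (ResidueField Λ)).comp (algebraMap (PB1.Fp.{u} p) (ResidueField Λ)))
        (algebraMap (PB1.Fp.{u} p) (Λ ⧸ maximalIdeal Λ))) a }
  obtain ⟨w, ⟨hw1, hw2⟩, -⟩ := (Groth.Agent.S4541.result p (A := PB1.Fp.{u} p)
    (B := ResidueField Λ) (Subtype.val : B → ResidueField Λ) hB).2 Λ (maximalIdeal Λ) hnil v z
    (fun b => hz1 b)
  refine ⟨w.toRingHom, Γ, Γ₀, ?_, closure_pow_union_eq_top p Γ hΓ.2, ?_⟩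
  · intro x
    exact DFunLike.congr_fun hw1 x
  · intro γ hγ
    have hmem : algebraMap k (ResidueField Λ) γ ∈ B := hLB ⟨⟨γ, hγ⟩, rfl⟩
    have h1 := hw2 ⟨_, hmem⟩
    have h2 := hz2 ⟨_, hmem⟩ ⟨γ, hγ⟩ rfl
    show w (algebraMap k (ResidueField Λ) γ) = _
    rw [← h2]
    exact h1

end Groth.Agent.Lib.Helper8.PB2
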