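import Mathlib
import Groth.Agent.Lib.Helper8.IS2

set_option backward.isDefEq.respectTransparency.types false
set_option autoImplicit false
set_option linter.unusedSectionVars false
set_option linter.style.haveILetI false

/-!
# Generation modulo a nilpotent ideal, and flatness of `F[x]/J → K[x]/JK[x]`
-/

namespace Groth.Agent.Lib.Helper8.PB3

open IsLocalRing MvPolynomial Groth.Agent.Lib.Helper8

universe u

/-- a subring containing generators of a nilpotent ideal `𝔪` and surjecting onto `Λ/𝔪` is everything -/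
theorem subring_eq_top_of_nilpotent {Λ : Type*} [CommRing Λ] (𝔪 : Ideal Λ) {d : ℕ}
    (lam : Fin d → Λ) (hspan : Ideal.span (Set.range lam) = 𝔪) (hnil : IsNilpotent 𝔪)
    (S : Subring Λ) (hlam : ∀ i, lam i ∈ S) (hS : ∀ x : Λ, ∃ s ∈ S, x - s ∈ 𝔪) : S = ⊤ := by
  classical
  have step : ∀ j : ℕ, ∀ x ∈ 𝔪 ^ j, ∃ s ∈ S, x - s ∈ 𝔪 ^ (j + 1) := by
    intro j
    induction j with
    | zero =>
      intro x _
      obtain ⟨s, hs, hxs⟩ := hS x
      exact ⟨s, hs, by rwa [zero_add, pow_one]⟩
    | succ j ih =>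
      intro x hx
      rw [pow_succ] at hx
      refine Submodule.mul_induction_on hx ?_ ?_
      · intro a ha b hb
        rw [← hspan] at hb
        obtain ⟨c, rfl⟩ := (Ideal.mem_span_range_iff_exists_fun).mp hb
        have h1 : ∀ i, ∃ s ∈ S, a * c i - s ∈ 𝔪 ^ (j + 1) :=
          fun i => ih (a * c i) (Ideal.mul_mem_right _ _ ha)
        choose s hs hsm using h1
        refine ⟨∑ i, s i * lam i, sum_mem fun i _ => mul_mem (hs i) (hlam i), ?_⟩
        have h2 : a * ∑ i, c i * lam i - ∑ i, s i * lam i = ∑ i, (a * c i - s i) * lam i := by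
          rw [Finset.mul_sum, ← Finset.sum_sub_distrib]
          refine Finset.sum_congr rfl fun i _ => ?_
          ring
        rw [h2]
        refine Ideal.sum_mem _ fun i _ => ?_
        rw [pow_succ (n := j + 1)]
        refine Ideal.mul_mem_mul (hsm i) ?_
        rw [← hspan]
        exact Ideal.subset_span ⟨i, rfl⟩
      · intro x y ⟨s, hs, hxs⟩ ⟨t, ht, hyt⟩
        refine ⟨s + t, add_mem hs ht, ?_⟩
        have : x + y - (s + t) = (x - s) + (y - t) := by ring
        rw [this]
        exact Ideal.add_mem _ hxs hyt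
  obtain ⟨N, hN⟩ := hnil
  have down : ∀ j : ℕ, j ≤ N → ∀ x ∈ 𝔪 ^ (N - j), x ∈ S := by
    intro j
    induction j with
    | zero =>
      intro _ x hx
      rw [Nat.sub_zero, hN] at hx
      have : x = 0 := hx
      rw [this]
      exact zero_mem S
    | succ j ih =>
      intro hj x hx
      obtain ⟨s, hs, hxs⟩ := step _ x hx
      have h1 : N - (j + 1) + 1 = N - j := by omega
      rw [h1] at hxs
      have h2 := ih (by omega) _ hxs
      have : x = (x - s) + s := by ring
      rw [this]
      exact add_mem h2 hs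
  rw [eq_top_iff]
  intro x _
  refine down N le_rfl x ?_
  rw [Nat.sub_self, pow_zero, Ideal.one_eq_top]
  exact Submodule.mem_top

/-- the evaluation map from the polynomial ring over a coefficient field is surjective -/
theorem eval₂Hom_surjective {Λ : Type*} [CommRing Λ] [IsLocalRing Λ]
    (hnil : IsNilpotent (maximalIdeal Λ)) (σ : ResidueField Λ →+* Λ)
    (hσ : ∀ x, residue Λ (σ x) = x) {d : ℕ} (lam : Fin d → Λ)
    (hspan : Ideal.span (Set.range lam) = maximalIdeal Λ) :
    Function.Surjective (eval₂Hom σ lam) := by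
  have h := subring_eq_top_of_nilpotent (maximalIdeal Λ) lam hspan hnil (eval₂Hom σ lam).range
    (fun i => ⟨X i, eval₂Hom_X' _ _ i⟩) (fun x => ⟨σ (residue Λ x), ⟨C (residue Λ x), eval₂Hom_C _ _ _⟩, by
      rw [← Ideal.Quotient.eq_zero_iff_mem]
      show residue Λ (x - σ (residue Λ x)) = 0
      rw [map_sub, hσ, sub_self]⟩)
  intro x
  have : x ∈ (eval₂Hom σ lam).range := by rw [h]; exact Subring.mem_top x
  exact this

/-- flatness of the map induced on quotients by a flat map of polynomial rings -/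
theorem flat_of_factor {F K A Λ : Type u} [Field F] [Field K] [Algebra F K] [CommRing A]
    [CommRing Λ] {d : ℕ} (q : MvPolynomial (Fin d) F →+* A) (hq : Function.Surjective q)
    (j : A →+* Λ) (Ψ : MvPolynomial (Fin d) K →+* Λ) (hΨ : Function.Surjective Ψ)
    (hcomm : ∀ P, j (q P) = Ψ (map (algebraMap F K) P))
    (hker : RingHom.ker Ψ ≤ (RingHom.ker q).map (map (algebraMap F K))) : j.Flat := by
  letI algP : Algebra (MvPolynomial (Fin d) F) (MvPolynomial (Fin d) K) :=
    MvPolynomial.algebraMvPolynomial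
  have halg : ∀ P, algebraMap (MvPolynomial (Fin d) F) (MvPolynomial (Fin d) K) P =
      map (algebraMap F K) P := fun P => rfl
  haveI : Module.Flat (MvPolynomial (Fin d) F) (MvPolynomial (Fin d) K) :=
    Module.Flat.isBaseChange F (MvPolynomial (Fin d) F) K (MvPolynomial (Fin d) K)
      (Algebra.IsPushout.out (R := F) (S := MvPolynomial (Fin d) F) (R' := K)
        (S' := MvPolynomial (Fin d) K))
  have hflat := IS2.flat_quotient (R := MvPolynomial (Fin d) F) (Λ := MvPolynomial (Fin d) K)
    (RingHom.ker q)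
  have hmid : (algebraMap (MvPolynomial (Fin d) F ⧸ RingHom.ker q)
      (MvPolynomial (Fin d) K ⧸ (RingHom.ker q).map
        (algebraMap (MvPolynomial (Fin d) F) (MvPolynomial (Fin d) K)))).Flat :=
    RingHom.flat_algebraMap_iff.mpr hflat
  have hkereq : (RingHom.ker q).map
      (algebraMap (MvPolynomial (Fin d) F) (MvPolynomial (Fin d) K)) = RingHom.ker Ψ := by
    apply le_antisymm
    · rw [Ideal.map_le_iff_le_comap]
      intro P hP
      rw [Ideal.mem_comap, RingHom.mem_ker, halg, ← hcomm, RingHom.mem_ker.mp hP, map_zero]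
    · exact hker
  let e₁ : (MvPolynomial (Fin d) F ⧸ RingHom.ker q) ≃+* A :=
    RingHom.quotientKerEquivOfSurjective hq
  let e₂ : (MvPolynomial (Fin d) K ⧸ RingHom.ker Ψ) ≃+* Λ :=
    RingHom.quotientKerEquivOfSurjective hΨ
  let e₃ : (MvPolynomial (Fin d) K ⧸ (RingHom.ker q).map
      (algebraMap (MvPolynomial (Fin d) F) (MvPolynomial (Fin d) K))) ≃+*
      (MvPolynomial (Fin d) K ⧸ RingHom.ker Ψ) := Ideal.quotEquivOfEq hkereq
  have hj : j = ((e₂.toRingHom.comp e₃.toRingHom).comp
      (algebraMap (MvPolynomial (Fin d) F ⧸ RingHom.ker q)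
      (MvPolynomial (Fin d) K ⧸ (RingHom.ker q).map
        (algebraMap (MvPolynomial (Fin d) F) (MvPolynomial (Fin d) K))))).comp
      e₁.symm.toRingHom := by
    ext a
    obtain ⟨P, rfl⟩ := hq a
    have h1 : e₁.symm (q P) = Ideal.Quotient.mk _ P := by
      rw [RingEquiv.symm_apply_eq]
      rfl
    show j (q P) = e₂ (e₃ (algebraMap _ _ (e₁.symm (q P))))
    rw [h1, hcomm]
    rfl
  rw [hj]
  refine RingHom.Flat.comp (RingHom.Flat.of_bijective e₁.symm.bijective) ?_
  refine RingHom.Flat.comp hmid ?_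
  exact RingHom.Flat.of_bijective (e₃.trans e₂).bijective

end Groth.Agent.Lib.Helper8.PB3
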