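import Mathlib
import Groth.Agent.Lib.Helper8.PB3

set_option backward.isDefEq.respectTransparency.types false
set_option autoImplicit false
set_option linter.unusedSectionVars false
set_option linter.style.haveILetI false

/-!
# An Artinian local algebra with finitely generated residue field is essentially of finite type
-/

namespace Groth.Agent.Lib.Helper8.PB4

open IsLocalRing MvPolynomial Groth.Agent.Lib.Helper8

universe u

theorem essFiniteType_of_local_nilpotent {k A : Type u} [CommRing k] [CommRing A] [Algebra k A]
    [IsLocalRing A] (hnil : IsNilpotent (maximalIdeal A)) {d m : ℕ} (lam : Fin d → A)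
    (hspan : Ideal.span (Set.range lam) = maximalIdeal A) (u : Fin m → A)
    (hgen : ∀ T : Subfield (ResidueField A), (∀ c : k, algebraMap k (ResidueField A) c ∈ T) →
      (∀ j, residue A (u j) ∈ T) → T = ⊤) :
    Algebra.EssFiniteType k A := by
  classical
  let θ : MvPolynomial (Fin m ⊕ Fin d) k →ₐ[k] A := aeval (Sum.elim u lam)
  let 𝔭 : Ideal (MvPolynomial (Fin m ⊕ Fin d) k) := (maximalIdeal A).comap θ.toRingHom
  haveI h𝔭 : 𝔭.IsPrime := Ideal.comap_isPrime _ _
  have hunit : ∀ y : 𝔭.primeCompl, IsUnit (θ y) := by
    rintro ⟨y, hy⟩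
    by_contra hu
    exact hy ((mem_maximalIdeal _).mpr hu)
  let θ' : Localization.AtPrime 𝔭 →ₐ[k] A :=
    IsLocalization.liftAlgHom (M := 𝔭.primeCompl) (f := θ) hunit
  have hθ' : ∀ P, θ' (algebraMap _ _ P) = θ P := fun P => IsLocalization.lift_eq _ P
  -- the maximal ideal goes into the maximal ideal
  have hmax : ∀ b ∈ maximalIdeal (Localization.AtPrime 𝔭), θ' b ∈ maximalIdeal A := by
    intro b hb
    rw [← IsLocalization.AtPrime.map_eq_maximalIdeal 𝔭 (Localization.AtPrime 𝔭)] at hb
    have h1 : (𝔭.map (algebraMap _ (Localization.AtPrime 𝔭))).map θ'.toRingHom ≤ maximalIdeal A := by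
      rw [Ideal.map_map, Ideal.map_le_iff_le_comap]
      intro P hP
      rw [Ideal.mem_comap]
      show θ' (algebraMap _ _ P) ∈ _
      rw [hθ']
      exact hP
    exact h1 (Ideal.mem_map_of_mem _ hb)
  -- the image of the range in the residue field is a subfield
  let T : Subfield (ResidueField A) :=
    { (θ'.toRingHom.range.map (residue A)) with
      inv_mem' := by
        rintro _ ⟨_, ⟨b, rfl⟩, rfl⟩
        by_cases hb : b ∈ maximalIdeal (Localization.AtPrime 𝔭)
        · have h0 : residue A (θ'.toRingHom b) = 0 := by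
            rw [residue_eq_zero_iff]
            exact hmax b hb
          rw [h0, inv_zero]
          exact (θ'.toRingHom.range.map (residue A)).zero_mem
        · have hbu : IsUnit b := by
            by_contra h
            exact hb ((mem_maximalIdeal _).mpr h)
          obtain ⟨b', hb'⟩ := hbu.exists_right_inv
          refine ⟨θ'.toRingHom b', ⟨b', rfl⟩, ?_⟩
          have h1 : residue A (θ'.toRingHom b) * residue A (θ'.toRingHom b') = 1 := by
            rw [← map_mul, ← map_mul, hb', map_one, map_one]
          exact (eq_inv_of_mul_eq_one_right h1) }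
  have hT : T = ⊤ := by
    apply hgen
    · intro c
      refine ⟨algebraMap k A c, ⟨algebraMap k (Localization.AtPrime 𝔭) c, AlgHom.commutes θ' c⟩, rfl⟩
    · intro j
      refine ⟨u j, ⟨algebraMap (MvPolynomial (Fin m ⊕ Fin d) k) (Localization.AtPrime 𝔭)
        (X (Sum.inl j)), ?_⟩, rfl⟩
      show θ' (algebraMap (MvPolynomial (Fin m ⊕ Fin d) k) (Localization.AtPrime 𝔭)
        (X (Sum.inl j))) = u j
      rw [hθ']
      show aeval (Sum.elim u lam) (X (Sum.inl j)) = u j
      rw [aeval_X]
      rfl
  have hsurj : Function.Surjective θ' := by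
    have h := PB3.subring_eq_top_of_nilpotent (maximalIdeal A) lam hspan hnil θ'.toRingHom.range
      (fun i => ⟨algebraMap (MvPolynomial (Fin m ⊕ Fin d) k) (Localization.AtPrime 𝔭)
          (X (Sum.inr i)), by
        show θ' (algebraMap (MvPolynomial (Fin m ⊕ Fin d) k) (Localization.AtPrime 𝔭)
          (X (Sum.inr i))) = lam i
        rw [hθ']
        show aeval (Sum.elim u lam) (X (Sum.inr i)) = lam i
        rw [aeval_X]
        rfl⟩)
      (fun x => by
        have hx : residue A x ∈ T := by rw [hT]; exact Subfield.mem_top _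
        obtain ⟨s, hs, hsx⟩ := hx
        refine ⟨s, hs, ?_⟩
        rw [← residue_eq_zero_iff, map_sub, hsx, sub_self])
    intro x
    have : x ∈ θ'.toRingHom.range := by rw [h]; exact Subring.mem_top x
    exact this
  exact Algebra.EssFiniteType.of_surjective θ' hsurj

end Groth.Agent.Lib.Helper8.PB4
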