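import Mathlib
import Groth.Agent.Lib.Helper8.PB3
import Groth.Agent.Lib.Helper8.PB4
import Groth.Agent.Lib.Helper8.FL1

set_option backward.isDefEq.respectTransparency.types false
set_option autoImplicit false
set_option linter.unusedSectionVars false
set_option linter.style.haveILetI false

/-!
# The subalgebra `σ(F)[λ]` of an Artinian local algebra with coefficient field `σ`
-/

namespace Groth.Agent.Lib.Helper8.PB5

open IsLocalRing MvPolynomial Groth.Agent.Lib.Helper8

universe u

/-- the residue of the evaluation is the constant coefficient -/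
theorem residue_eval₂Hom {Λ : Type*} [CommRing Λ] [IsLocalRing Λ] (σ : ResidueField Λ →+* Λ)
    (hσ : ∀ x, residue Λ (σ x) = x) {d : ℕ} (lam : Fin d → Λ)
    (hlam : ∀ i, lam i ∈ maximalIdeal Λ) (Q : MvPolynomial (Fin d) (ResidueField Λ)) :
    residue Λ (eval₂Hom σ lam Q) = constantCoeff Q := by
  have h : (residue Λ).comp (eval₂Hom σ lam) = constantCoeff := by
    apply MvPolynomial.ringHom_ext
    · intro c
      rw [RingHom.comp_apply, eval₂Hom_C, hσ, constantCoeff_C]
    · intro i
      rw [RingHom.comp_apply, eval₂Hom_X', constantCoeff_X, residue_eq_zero_iff]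
      exact hlam i
  exact DFunLike.congr_fun h Q

variable {k Λ : Type u} [Field k] [CommRing Λ] [Algebra k Λ] [IsLocalRing Λ]
  (σ : ResidueField Λ →+* Λ) {d : ℕ} (lam : Fin d → Λ)
  (F : IntermediateField k (ResidueField Λ))

/-- evaluation on polynomials with coefficients in `F`. -/
noncomputable def PsiF : MvPolynomial (Fin d) F →+* Λ :=
  (eval₂Hom σ lam).comp (map (algebraMap F (ResidueField Λ)))

theorem PsiF_C (f : F) : PsiF σ lam F (C f) = σ (f : ResidueField Λ) := by
  show eval₂Hom σ lam (map _ (C f)) = _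
  rw [map_C, eval₂Hom_C]
  rfl

theorem PsiF_X (i : Fin d) : PsiF σ lam F (X i) = lam i := by
  show eval₂Hom σ lam (map _ (X i)) = _
  rw [map_X, eval₂Hom_X']

theorem PsiF_map (P : MvPolynomial (Fin d) F) :
    PsiF σ lam F P = eval₂Hom σ lam (map (algebraMap F (ResidueField Λ)) P) := rfl

variable (hσ : ∀ x, residue Λ (σ x) = x) (hlam : ∀ i, lam i ∈ maximalIdeal Λ)

include hσ hlam in
theorem residue_PsiF (P : MvPolynomial (Fin d) F) :
    residue Λ (PsiF σ lam F P) = algebraMap F (ResidueField Λ) (constantCoeff P) := by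
  rw [PsiF_map, residue_eval₂Hom σ hσ lam hlam, constantCoeff_map]

variable (hk : ∀ c : k, algebraMap k Λ c ∈ (PsiF σ lam F).range)

/-- the subalgebra `σ(F)[λ]`. -/
noncomputable def subalg : Subalgebra k Λ :=
  { (PsiF σ lam F).range.toSubsemiring with algebraMap_mem' := hk }

theorem mem_subalg (x : Λ) : x ∈ subalg σ lam F hk ↔ ∃ P, PsiF σ lam F P = x := Iff.rfl

/-- the surjection from the polynomial ring. -/
noncomputable def q : MvPolynomial (Fin d) F →+* ↥(subalg σ lam F hk) :=
  RingHom.codRestrict (PsiF σ lam F) (subalg σ lam F hk) (fun P => ⟨P, rfl⟩)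

theorem q_surjective : Function.Surjective (q σ lam F hk) := by
  rintro ⟨x, P, hP⟩
  exact ⟨P, Subtype.ext hP⟩

theorem q_val (P : MvPolynomial (Fin d) F) : ((q σ lam F hk P : ↥(subalg σ lam F hk)) : Λ) =
    PsiF σ lam F P := rfl

theorem isNilpotent_of_mem (hnil : IsNilpotent (maximalIdeal Λ)) (a : ↥(subalg σ lam F hk))
    (ha : (a : Λ) ∈ maximalIdeal Λ) : IsNilpotent a := by
  obtain ⟨N, hN⟩ := hnil
  rw [Ideal.zero_eq_bot] at hN
  refine ⟨N, Subtype.ext ?_⟩
  have h3 := Ideal.pow_mem_pow ha N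
  rw [hN, Ideal.mem_bot] at h3
  exact h3

include hσ hlam in
theorem isUnit_of_notMem (hnil : IsNilpotent (maximalIdeal Λ)) (a : ↥(subalg σ lam F hk))
    (ha : (a : Λ) ∉ maximalIdeal Λ) : IsUnit a := by
  obtain ⟨P, rfl⟩ := q_surjective σ lam F hk a
  have hf : constantCoeff P ≠ 0 := by
    intro h0
    apply ha
    rw [q_val, ← residue_eq_zero_iff, residue_PsiF σ lam F hσ hlam, h0, map_zero]
  have h1 : IsUnit (q σ lam F hk (C (constantCoeff P)⁻¹) * q σ lam F hk P) := by
    have h2 : q σ lam F hk (C (constantCoeff P)⁻¹) * q σ lam F hk P =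
        1 + (q σ lam F hk (C (constantCoeff P)⁻¹ * P) - 1) := by
      rw [map_mul]
      ring
    rw [h2]
    apply IsNilpotent.isUnit_one_add
    apply isNilpotent_of_mem σ lam F hk hnil
    show ((q σ lam F hk (C (constantCoeff P)⁻¹ * P) : ↥(subalg σ lam F hk)) : Λ) - 1 ∈
      maximalIdeal Λ
    rw [q_val, ← residue_eq_zero_iff, map_sub, residue_PsiF σ lam F hσ hlam, map_one, map_mul,
      constantCoeff_C, inv_mul_cancel₀ hf, map_one, sub_self]
  exact isUnit_of_mul_isUnit_right h1

include hσ hlam in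
theorem isLocalRing_subalg (hnil : IsNilpotent (maximalIdeal Λ)) :
    IsLocalRing ↥(subalg σ lam F hk) := by
  haveI : Nontrivial ↥(subalg σ lam F hk) := inferInstance
  apply IsLocalRing.of_isUnit_or_isUnit_one_sub_self
  intro a
  by_cases ha : (a : Λ) ∈ maximalIdeal Λ
  · right
    apply isUnit_of_notMem σ lam F hσ hlam hk hnil
    intro h1
    have : (1 : Λ) ∈ maximalIdeal Λ := by
      have h2 := Ideal.add_mem _ ha h1
      have h3 : (a : Λ) + ((1 - a : ↥(subalg σ lam F hk)) : Λ) = 1 := by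
        show (a : Λ) + ((1 : Λ) - (a : Λ)) = 1
        ring
      rw [h3] at h2
      exact h2
    exact (Ideal.ne_top_iff_one _).mp (maximalIdeal.isMaximal Λ).ne_top this
  · left
    exact isUnit_of_notMem σ lam F hσ hlam hk hnil a ha

include hσ hlam in
theorem mem_maximalIdeal_subalg (hnil : IsNilpotent (maximalIdeal Λ))
    [IsLocalRing ↥(subalg σ lam F hk)] (a : ↥(subalg σ lam F hk)) :
    a ∈ maximalIdeal ↥(subalg σ lam F hk) ↔ (a : Λ) ∈ maximalIdeal Λ := by
  constructor
  · intro ha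
    by_contra h
    exact (mem_maximalIdeal a).mp ha (isUnit_of_notMem σ lam F hσ hlam hk hnil a h)
  · intro ha
    rw [mem_maximalIdeal]
    intro hu
    exact (mem_maximalIdeal _).mp ha (hu.map (algebraMap ↥(subalg σ lam F hk) Λ))

include hσ hlam in
theorem isNilpotent_maximalIdeal_subalg (hnil : IsNilpotent (maximalIdeal Λ))
    [IsLocalRing ↥(subalg σ lam F hk)] : IsNilpotent (maximalIdeal ↥(subalg σ lam F hk)) := by
  have hmaxA := mem_maximalIdeal_subalg σ lam F hσ hlam hk hnil
  obtain ⟨N, hN⟩ := hnil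
  rw [Ideal.zero_eq_bot] at hN
  refine ⟨N, ?_⟩
  rw [Ideal.zero_eq_bot, ← le_bot_iff]
  have h1 : maximalIdeal ↥(subalg σ lam F hk) ≤
      (maximalIdeal Λ).comap (algebraMap ↥(subalg σ lam F hk) Λ) := by
    intro a ha
    exact (hmaxA a).mp ha
  have h2 : maximalIdeal ↥(subalg σ lam F hk) ^ N ≤
      (maximalIdeal Λ ^ N).comap (algebraMap ↥(subalg σ lam F hk) Λ) :=
    (Ideal.pow_right_mono h1 N).trans (Ideal.le_comap_pow _ N)
  intro a ha
  have h3 := h2 ha
  rw [hN, Ideal.mem_comap, Ideal.mem_bot] at h3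
  rw [Ideal.mem_bot]
  exact Subtype.val_injective h3

end Groth.Agent.Lib.Helper8.PB5
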