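import Mathlib
import Groth.Agent.Lib.Helper8.PB5

set_option backward.isDefEq.respectTransparency.types false
set_option autoImplicit false
set_option linter.unusedSectionVars false
set_option linter.style.haveILetI false

/-!
# Properties of the subalgebra `σ(F)[λ]`
-/

namespace Groth.Agent.Lib.Helper8.PB6

open IsLocalRing MvPolynomial Groth.Agent.Lib.Helper8 Groth.Agent.Lib.Helper8.PB5

universe u

variable {k Λ : Type u} [Field k] [CommRing Λ] [Algebra k Λ] [IsLocalRing Λ]
  (σ : ResidueField Λ →+* Λ) {d : ℕ} (lam : Fin d → Λ)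
  (F : IntermediateField k (ResidueField Λ))
  (hσ : ∀ x, residue Λ (σ x) = x) (hlam : ∀ i, lam i ∈ maximalIdeal Λ)
  (hk : ∀ c : k, algebraMap k Λ c ∈ (PsiF σ lam F).range)
  (hnil : IsNilpotent (maximalIdeal Λ))

include hσ hlam hnil in
theorem isArtinianRing_subalg [IsLocalRing ↥(subalg σ lam F hk)] :
    IsArtinianRing ↥(subalg σ lam F hk) := by
  haveI : IsNoetherianRing ↥(subalg σ lam F hk) :=
    isNoetherianRing_of_surjective _ _ (q σ lam F hk) (q_surjective σ lam F hk)
  rw [isArtinianRing_iff_isNilpotent_maximalIdeal]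
  exact isNilpotent_maximalIdeal_subalg σ lam F hσ hlam hk hnil

include hσ hlam hnil in
theorem map_maximalIdeal_subalg [IsLocalRing ↥(subalg σ lam F hk)]
    (hspan : Ideal.span (Set.range lam) = maximalIdeal Λ) :
    (maximalIdeal ↥(subalg σ lam F hk)).map (algebraMap ↥(subalg σ lam F hk) Λ) =
      maximalIdeal Λ := by
  have hmaxA := mem_maximalIdeal_subalg σ lam F hσ hlam hk hnil
  apply le_antisymm
  · rw [Ideal.map_le_iff_le_comap]
    intro a ha
    exact (hmaxA a).mp ha
  · rw [← hspan, Ideal.span_le]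
    rintro _ ⟨i, rfl⟩
    have h1 : q σ lam F hk (X i) ∈ maximalIdeal ↥(subalg σ lam F hk) := by
      rw [hmaxA, q_val, PsiF_X]
      exact hlam i
    have h2 := Ideal.mem_map_of_mem (algebraMap ↥(subalg σ lam F hk) Λ) h1
    have h3 : algebraMap ↥(subalg σ lam F hk) Λ (q σ lam F hk (X i)) = lam i := PsiF_X σ lam F i
    rw [h3] at h2
    exact h2

theorem flat_subalg (hΨ : Function.Surjective (eval₂Hom σ lam))
    (hker : RingHom.ker (eval₂Hom σ lam) ≤
      (RingHom.ker (PsiF σ lam F)).map (map (algebraMap F (ResidueField Λ)))) :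
    Module.Flat ↥(subalg σ lam F hk) Λ := by
  have hflat : (algebraMap ↥(subalg σ lam F hk) Λ).Flat := by
    refine PB3.flat_of_factor (q σ lam F hk) (q_surjective σ lam F hk)
      (algebraMap ↥(subalg σ lam F hk) Λ) (eval₂Hom σ lam) hΨ (fun P => rfl) ?_
    refine hker.trans (Ideal.map_mono ?_)
    intro P hP
    rw [RingHom.mem_ker] at hP ⊢
    exact Subtype.ext hP
  exact RingHom.flat_algebraMap_iff.mp hflat

include hσ hlam hnil in
theorem span_q_X [IsLocalRing ↥(subalg σ lam F hk)] :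
    Ideal.span (Set.range fun i => q σ lam F hk (X i)) = maximalIdeal ↥(subalg σ lam F hk) := by
  have hmaxA := mem_maximalIdeal_subalg σ lam F hσ hlam hk hnil
  apply le_antisymm
  · rw [Ideal.span_le]
    rintro _ ⟨i, rfl⟩
    rw [SetLike.mem_coe, hmaxA, q_val, PsiF_X]
    exact hlam i
  · intro a ha
    obtain ⟨P, rfl⟩ := q_surjective σ lam F hk a
    have hP0 : constantCoeff P = 0 := by
      have h1 := (hmaxA _).mp ha
      rw [q_val, ← residue_eq_zero_iff, residue_PsiF σ lam F hσ hlam] at h1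
      exact (map_eq_zero_iff _ (algebraMap F (ResidueField Λ)).injective).mp h1
    have hP : P ∈ Ideal.span (Set.range (X : Fin d → MvPolynomial (Fin d) F)) := by
      rw [FL1.idealOfVars_eq_ker]
      exact hP0
    have h2 := Ideal.mem_map_of_mem (q σ lam F hk) hP
    rw [Ideal.map_span, ← Set.range_comp] at h2
    exact h2

include hσ hlam hnil in
theorem essFiniteType_subalg [IsLocalRing ↥(subalg σ lam F hk)]
    (U : Finset (ResidueField Λ)) (hF : F = IntermediateField.adjoin k (U : Set _)) :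
    Algebra.EssFiniteType k ↥(subalg σ lam F hk) := by
  classical
  have hmaxA := mem_maximalIdeal_subalg σ lam F hσ hlam hk hnil
  let eU := U.equivFin
  have hUmem : ∀ j : Fin U.card, ((eU.symm j : U) : ResidueField Λ) ∈ F := fun j => by
    rw [hF]
    exact IntermediateField.subset_adjoin k _ (Finset.mem_coe.mpr (eU.symm j).2)
  refine PB4.essFiniteType_of_local_nilpotent
    (isNilpotent_maximalIdeal_subalg σ lam F hσ hlam hk hnil) (fun i => q σ lam F hk (X i))
    (span_q_X σ lam F hσ hlam hk hnil)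
    (fun j => q σ lam F hk (C ⟨((eU.symm j : U) : ResidueField Λ), hUmem j⟩)) ?_
  intro T hTk hTu
  -- the ring hom `F → ResidueField A`
  let ρ : F →+* ResidueField ↥(subalg σ lam F hk) :=
    ((residue ↥(subalg σ lam F hk)).comp (q σ lam F hk)).comp C
  have hρ : ∀ f : F, ρ f = residue ↥(subalg σ lam F hk) (q σ lam F hk (C f)) := fun f => rfl
  have hρk : ∀ c : k, ρ (algebraMap k F c) = algebraMap k (ResidueField ↥(subalg σ lam F hk)) c := by
    intro c
    show residue ↥(subalg σ lam F hk) (q σ lam F hk (C (algebraMap k F c))) =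
      residue ↥(subalg σ lam F hk) (algebraMap k ↥(subalg σ lam F hk) c)
    rw [← sub_eq_zero, ← map_sub, residue_eq_zero_iff, hmaxA]
    show PsiF σ lam F (C (algebraMap k F c)) - algebraMap k Λ c ∈ maximalIdeal Λ
    rw [PsiF_C, ← residue_eq_zero_iff, map_sub, hσ, sub_eq_zero]
    rfl
  have key : ∀ x (hx : x ∈ IntermediateField.adjoin k (U : Set (ResidueField Λ))),
      ρ ⟨x, hF ▸ hx⟩ ∈ T := by
    intro x hx
    induction hx using IntermediateField.adjoin_induction with
    | mem x hxU =>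
      have hxU' : x ∈ U := Finset.mem_coe.mp hxU
      have h1 := hTu (eU ⟨x, hxU'⟩)
      have h2 : ((eU.symm (eU ⟨x, hxU'⟩) : U) : ResidueField Λ) = x := by
        rw [Equiv.symm_apply_apply]
      have h3 : (⟨((eU.symm (eU ⟨x, hxU'⟩) : U) : ResidueField Λ), hUmem _⟩ : F) =
          ⟨x, hF ▸ IntermediateField.subset_adjoin k _ hxU⟩ := Subtype.ext h2
      rw [h3] at h1
      exact h1
    | algebraMap c =>
      have h4 : (⟨algebraMap k (ResidueField Λ) c,
          hF ▸ IntermediateField.algebraMap_mem _ c⟩ : F) = algebraMap k F c := rfl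
      rw [h4, hρk c]
      exact hTk c
    | add x y hx hy h1 h2 =>
      have h4 : (⟨x + y, hF ▸ add_mem hx hy⟩ : F) = ⟨x, hF ▸ hx⟩ + ⟨y, hF ▸ hy⟩ := rfl
      rw [h4, map_add]
      exact add_mem h1 h2
    | inv x hx h1 =>
      have h4 : (⟨x⁻¹, hF ▸ inv_mem hx⟩ : F) = (⟨x, hF ▸ hx⟩ : F)⁻¹ := rfl
      rw [h4, map_inv₀]
      exact inv_mem h1
    | mul x y hx hy h1 h2 =>
      have h4 : (⟨x * y, hF ▸ mul_mem hx hy⟩ : F) = ⟨x, hF ▸ hx⟩ * ⟨y, hF ▸ hy⟩ := rfl
      rw [h4, map_mul]
      exact mul_mem h1 h2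
  have hρF : ∀ f : F, ρ f ∈ T := by
    rintro ⟨x, hx⟩
    exact key x (hF ▸ hx)
  rw [eq_top_iff]
  intro t _
  obtain ⟨a, rfl⟩ := residue_surjective t
  obtain ⟨P, rfl⟩ := q_surjective σ lam F hk a
  have h5 : residue ↥(subalg σ lam F hk) (q σ lam F hk P) = ρ (constantCoeff P) := by
    rw [hρ, ← sub_eq_zero, ← map_sub, residue_eq_zero_iff, hmaxA, ← map_sub, q_val,
      ← residue_eq_zero_iff, residue_PsiF σ lam F hσ hlam, map_sub, constantCoeff_C, sub_self,
      map_zero]
  rw [h5]
  exact hρF _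

end Groth.Agent.Lib.Helper8.PB6
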