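import Mathlib
import Groth.Agent.Lib.Helper8.PB2
import Groth.Agent.Lib.Helper8.PB6

set_option backward.isDefEq.respectTransparency.types false
set_option autoImplicit false
set_option linter.unusedSectionVars false
set_option linter.style.haveILetI false

/-!
# Main assembly for S6854
-/

namespace Groth.Agent.Lib.Helper8.PB7

open IsLocalRing MvPolynomial Groth.Agent.Lib.Helper8 Groth.Agent.Lib.Helper8.PB5

universe u

variable {k Λ : Type u} [Field k] [CommRing Λ] [Algebra k Λ] [IsLocalRing Λ]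
  (σ : ResidueField Λ →+* Λ) {d : ℕ} (lam : Fin d → Λ)
  (F : IntermediateField k (ResidueField Λ))

/-- a polynomial whose coefficients lie in `F` comes from `F[X]`. -/
theorem exists_map_eq (P : MvPolynomial (Fin d) (ResidueField Λ))
    (hP : ∀ c ∈ P.coeffs, c ∈ F) :
    ∃ P' : MvPolynomial (Fin d) F, map (algebraMap F (ResidueField Λ)) P' = P := by
  have h : P ∈ Set.range (map (algebraMap F (ResidueField Λ))) := by
    rw [MvPolynomial.mem_range_map_iff_coeffs_subset]
    intro c hc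
    exact ⟨⟨c, hP c hc⟩, rfl⟩
  exact h

/-- the structure map of `k` lands in `σ(F)[λ]`. -/
theorem hk_of (p : ℕ) [Fact p.Prime] [CharP Λ p]
    (hσ : ∀ x, residue Λ (σ x) = x)
    (hnil : IsNilpotent (maximalIdeal Λ))
    (Γ : Set k) (Γ₀ : Finset k)
    (hgen : ∀ M : ℕ, Subring.closure (Set.range (fun c : k => c ^ p ^ M) ∪ Γ) = ⊤)
    (hagree : ∀ γ ∈ Γ \ (↑Γ₀ : Set k), σ (algebraMap k (ResidueField Λ) γ) = algebraMap k Λ γ)
    (hΓ₀ : ∀ γ ∈ Γ₀, algebraMap k Λ γ ∈ (PsiF σ lam F).range) :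
    ∀ c : k, algebraMap k Λ c ∈ (PsiF σ lam F).range := by
  obtain ⟨N, hN⟩ := hnil
  rw [Ideal.zero_eq_bot] at hN
  have hNp : N ≤ p ^ N := (Nat.lt_pow_self (Fact.out : p.Prime).one_lt).le
  have hσk : ∀ c : k, σ (algebraMap k (ResidueField Λ) c) ∈ (PsiF σ lam F).range := by
    intro c
    refine ⟨C (algebraMap k F c), ?_⟩
    rw [PsiF_C]
    rfl
  have htop : (PsiF σ lam F).range.comap (algebraMap k Λ) = ⊤ := by
    rw [eq_top_iff, ← hgen N, Subring.closure_le]
    rintro c (⟨c, rfl⟩ | hc)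
    · show algebraMap k Λ (c ^ p ^ N) ∈ (PsiF σ lam F).range
      have h1 : algebraMap k Λ c - σ (algebraMap k (ResidueField Λ) c) ∈ maximalIdeal Λ := by
        rw [← residue_eq_zero_iff, map_sub, hσ, sub_eq_zero]
        rfl
      have h2 : (algebraMap k Λ c - σ (algebraMap k (ResidueField Λ) c)) ^ p ^ N = 0 := by
        have h3 := Ideal.pow_mem_pow h1 (p ^ N)
        have h4 := Ideal.pow_le_pow_right (I := maximalIdeal Λ) hNp h3
        rw [hN] at h4
        exact h4
      rw [sub_pow_char_pow, sub_eq_zero] at h2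
      rw [map_pow, h2]
      exact pow_mem (hσk c) _
    · show algebraMap k Λ c ∈ (PsiF σ lam F).range
      by_cases hc0 : c ∈ Γ₀
      · exact hΓ₀ c hc0
      · rw [← hagree c ⟨hc, fun h => hc0 (Finset.mem_coe.mp h)⟩]
        exact hσk c
  intro c
  have : c ∈ (PsiF σ lam F).range.comap (algebraMap k Λ) := by
    rw [htop]; exact Subring.mem_top c
  exact this

theorem main6854 {k Λ : Type u} [Field k] (p : ℕ) [Fact p.Prime]
    [CharP k p] [CommRing Λ] [Algebra k Λ] [IsArtinianRing Λ] [IsLocalRing Λ]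
    (hH : Module.Finite (IsLocalRing.ResidueField Λ) (Algebra.H1Cotangent k (IsLocalRing.ResidueField Λ)))
    (E : Finset Λ) :
    ∃ (A : Subalgebra k Λ) (_ : IsLocalRing A), (↑E : Set Λ) ⊆ A ∧ IsArtinianRing A ∧ Module.Flat A Λ ∧
      Algebra.EssFiniteType k A ∧
      (IsLocalRing.maximalIdeal A).map (algebraMap A Λ) = IsLocalRing.maximalIdeal Λ := by
  classical
  obtain ⟨σ, Γ, Γ₀, hσ, hgen, hagree⟩ := PB2.exists_section p hH
  haveI : CharP Λ p := charP_of_injective_algebraMap (algebraMap k Λ).injective p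
  have hnil : IsNilpotent (maximalIdeal Λ) := by
    rw [← IsLocalRing.jacobson_eq_maximalIdeal ⊥ bot_ne_top]
    exact IsArtinianRing.isNilpotent_jacobson_bot
  -- generators of the maximal ideal
  obtain ⟨d, lam, hspan⟩ : ∃ (d : ℕ) (lam : Fin d → Λ),
      Ideal.span (Set.range lam) = maximalIdeal Λ :=
    Submodule.fg_iff_exists_fin_generating_family.mp
      ((isNoetherianRing_iff_ideal_fg Λ).mp inferInstance (maximalIdeal Λ))
  have hlam : ∀ i, lam i ∈ maximalIdeal Λ := fun i => by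
    rw [← hspan]; exact Ideal.subset_span ⟨i, rfl⟩
  have hΨ := PB3.eval₂Hom_surjective hnil σ hσ lam hspan
  -- finite generating set for the kernel
  obtain ⟨G, hG⟩ : (RingHom.ker (eval₂Hom σ lam)).FG :=
    (isNoetherianRing_iff_ideal_fg _).mp inferInstance _
  choose PE hPE using fun e : Λ => hΨ e
  obtain ⟨Pols, hPolsdef⟩ : ∃ Pols : Finset (MvPolynomial (Fin d) (ResidueField Λ)),
      Pols = G ∪ E.image PE ∪ Γ₀.image (fun γ => PE (algebraMap k Λ γ)) := ⟨_, rfl⟩
  obtain ⟨U, hUdef⟩ : ∃ U : Finset (ResidueField Λ), U = Pols.biUnion (fun P => P.coeffs) :=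
    ⟨_, rfl⟩
  obtain ⟨F, hF⟩ : ∃ F : IntermediateField k (ResidueField Λ),
      F = IntermediateField.adjoin k (U : Set (ResidueField Λ)) := ⟨_, rfl⟩
  have hPols : ∀ P ∈ Pols, ∃ P' : MvPolynomial (Fin d) F,
      map (algebraMap F (ResidueField Λ)) P' = P := by
    intro P hP
    apply exists_map_eq
    intro c hc
    rw [hF]
    apply IntermediateField.subset_adjoin
    rw [hUdef, Finset.mem_coe, Finset.mem_biUnion]
    exact ⟨P, hP, hc⟩
  have hrange : ∀ P ∈ Pols, eval₂Hom σ lam P ∈ (PsiF σ lam F).range := by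
    intro P hP
    obtain ⟨P', rfl⟩ := hPols P hP
    exact ⟨P', rfl⟩
  have hk : ∀ c : k, algebraMap k Λ c ∈ (PsiF σ lam F).range := by
    apply hk_of σ lam F p hσ hnil Γ Γ₀ hgen hagree
    intro γ hγ
    have h1 : PE (algebraMap k Λ γ) ∈ Pols := by
      rw [hPolsdef]
      exact Finset.mem_union_right _ (Finset.mem_image_of_mem _ hγ)
    have h2 := hrange _ h1
    rw [hPE] at h2
    exact h2
  haveI hloc : IsLocalRing ↥(subalg σ lam F hk) := isLocalRing_subalg σ lam F hσ hlam hk hnil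
  refine ⟨subalg σ lam F hk, hloc, ?_, PB6.isArtinianRing_subalg σ lam F hσ hlam hk hnil,
    PB6.flat_subalg σ lam F hk hΨ ?_, PB6.essFiniteType_subalg σ lam F hσ hlam hk hnil U hF,
    PB6.map_maximalIdeal_subalg σ lam F hσ hlam hk hnil hspan⟩
  · intro e he
    have h1 : PE e ∈ Pols := by
      rw [hPolsdef]
      exact Finset.mem_union_left _ (Finset.mem_union_right _
        (Finset.mem_image_of_mem _ (Finset.mem_coe.mp he)))
    have h2 := hrange _ h1
    rw [hPE] at h2
    exact h2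
  · rw [← hG, Ideal.span_le]
    intro g hg
    have h1 : g ∈ Pols := by
      rw [hPolsdef]
      exact Finset.mem_union_left _ (Finset.mem_union_left _ (Finset.mem_coe.mp hg))
    obtain ⟨g', rfl⟩ := hPols g h1
    apply Ideal.mem_map_of_mem
    rw [RingHom.mem_ker, PsiF_map, ← RingHom.mem_ker, ← hG]
    exact Ideal.subset_span hg

end Groth.Agent.Lib.Helper8.PB7
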