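import Mathlib
import Groth.Agent.Lib.Helper8.PB7

set_option backward.isDefEq.respectTransparency.types false
set_option autoImplicit false
set_option linter.unusedSectionVars false
set_option linter.style.haveILetI false

namespace Groth.Agent.Lib.Helper8.IN5

open IsLocalRing MvPolynomial Groth.Agent.Lib.Helper8 Groth.Agent.Lib.Helper8.PB5

universe u

/-- family version of S6854: a section `σ` and a finite set `U₀` of residues such that for every
intermediate field `F ⊇ U₀` the subalgebra `σ(F)[λ]` contains `E` and lies flatly under `L`. -/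
theorem main_family {k L : Type u} [Field k] (p : ℕ) [Fact p.Prime]
    [CharP k p] [CommRing L] [Algebra k L] [IsArtinianRing L] [IsLocalRing L]
    (hH : Module.Finite (ResidueField L) (Algebra.H1Cotangent k (ResidueField L)))
    {s : ℕ} (lam : Fin s → L) (hspan : Ideal.span (Set.range lam) = maximalIdeal L)
    (E : Finset L) :
    ∃ (σ : ResidueField L →+* L), (∀ x, residue L (σ x) = x) ∧
      ∃ U₀ : Finset (ResidueField L), ∀ F : IntermediateField k (ResidueField L),
        (↑U₀ : Set (ResidueField L)) ⊆ F →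
        ∃ hk : ∀ c : k, algebraMap k L c ∈ (PsiF σ lam F).range,
          (↑E : Set L) ⊆ subalg σ lam F hk ∧ Module.Flat (subalg σ lam F hk) L := by
  classical
  obtain ⟨σ, Γ, Γ₀, hσ, hgen, hagree⟩ := PB2.exists_section p hH
  haveI : CharP L p := charP_of_injective_algebraMap (algebraMap k L).injective p
  have hnil : IsNilpotent (maximalIdeal L) := by
    rw [← IsLocalRing.jacobson_eq_maximalIdeal ⊥ bot_ne_top]
    exact IsArtinianRing.isNilpotent_jacobson_bot
  have hlam : ∀ i, lam i ∈ maximalIdeal L := fun i => by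
    rw [← hspan]; exact Ideal.subset_span ⟨i, rfl⟩
  have hΨ := PB3.eval₂Hom_surjective hnil σ hσ lam hspan
  obtain ⟨G, hG⟩ : (RingHom.ker (eval₂Hom σ lam)).FG :=
    (isNoetherianRing_iff_ideal_fg _).mp inferInstance _
  choose PE hPE using fun e : L => hΨ e
  obtain ⟨Pols, hPolsdef⟩ : ∃ Pols : Finset (MvPolynomial (Fin s) (ResidueField L)),
      Pols = G ∪ E.image PE ∪ Γ₀.image (fun γ => PE (algebraMap k L γ)) := ⟨_, rfl⟩
  obtain ⟨U, hUdef⟩ : ∃ U : Finset (ResidueField L), U = Pols.biUnion (fun P => P.coeffs) :=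
    ⟨_, rfl⟩
  refine ⟨σ, hσ, U, fun F hUF => ?_⟩
  have hPols : ∀ P ∈ Pols, ∃ P' : MvPolynomial (Fin s) F,
      map (algebraMap F (ResidueField L)) P' = P := by
    intro P hP
    apply PB7.exists_map_eq
    intro c hc
    apply hUF
    rw [hUdef, Finset.mem_coe, Finset.mem_biUnion]
    exact ⟨P, hP, hc⟩
  have hrange : ∀ P ∈ Pols, eval₂Hom σ lam P ∈ (PsiF σ lam F).range := by
    intro P hP
    obtain ⟨P', rfl⟩ := hPols P hP
    exact ⟨P', rfl⟩
  have hk : ∀ c : k, algebraMap k L c ∈ (PsiF σ lam F).range := by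
    apply PB7.hk_of σ lam F p hσ hnil Γ Γ₀ hgen hagree
    intro γ hγ
    have h1 : PE (algebraMap k L γ) ∈ Pols := by
      rw [hPolsdef]
      exact Finset.mem_union_right _ (Finset.mem_image_of_mem _ hγ)
    have h2 := hrange _ h1
    rw [hPE] at h2
    exact h2
  refine ⟨hk, ?_, PB6.flat_subalg σ lam F hk hΨ ?_⟩
  · intro e he
    have h1 : PE e ∈ Pols := by
      rw [hPolsdef]
      exact Finset.mem_union_left _ (Finset.mem_union_right _
        (Finset.mem_image_of_mem _ (Finset.mem_coe.mp he)))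
    have h2 := hrange _ h1
    rw [hPE] at h2
    exact h2
  · rw [← hG, Ideal.span_le]
    intro g hg
    have h1 : g ∈ Pols := by
      rw [hPolsdef]
      exact Finset.mem_union_left _ (Finset.mem_union_left _ (Finset.mem_coe.mp hg))
    obtain ⟨g', rfl⟩ := hPols g h1
    apply Ideal.mem_map_of_mem
    rw [RingHom.mem_ker, PsiF_map, ← RingHom.mem_ker, ← hG]
    exact Ideal.subset_span hg

/-- Lemma G: every residue class is a quotient of residues of global elements on which the
reduction agrees with the section. -/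
theorem exists_sigma_fraction {Λ : Type u} [CommRing Λ] (𝔮 : Ideal Λ) [𝔮.IsPrime]
    (p : ℕ) [Fact p.Prime] (n : ℕ)
    (L : Type u) [CommRing L] [IsLocalRing L] [CharP L p] (mkL : Λ →+* L)
    (hsurj : ∀ y : L, ∃ (a u : Λ), u ∉ 𝔮 ∧ mkL a = y * mkL u)
    (hnil : maximalIdeal L ^ n = ⊥)
    (σ : ResidueField L →+* L) (hσ : ∀ x, residue L (σ x) = x) (x : ResidueField L) :
    ∃ (a u : Λ), u ∉ 𝔮 ∧ mkL a = σ (residue L (mkL a)) ∧ mkL u = σ (residue L (mkL u)) ∧
      x * residue L (mkL u) = residue L (mkL a) := by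
  obtain ⟨a₀, u₀, hu₀, ha₀⟩ := hsurj (σ x)
  set N := p ^ n with hN
  have hnN : n ≤ N := (Nat.lt_pow_self (Fact.out : p.Prime).one_lt).le
  have hN1 : 1 ≤ N := Nat.one_le_pow _ _ (Fact.out : p.Prime).pos
  -- the Frobenius trick
  have hfrob : ∀ y : L, y ^ N = σ (residue L y) ^ N := by
    intro y
    have h1 : y - σ (residue L y) ∈ maximalIdeal L := by
      rw [← residue_eq_zero_iff, map_sub, hσ, sub_self]
    have h2 : (y - σ (residue L y)) ^ N = 0 := by
      have h3 := Ideal.pow_mem_pow h1 N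
      have h4 := Ideal.pow_le_pow_right (I := maximalIdeal L) hnN h3
      rw [hnil] at h4
      exact h4
    rw [sub_pow_char_pow, sub_eq_zero] at h2
    exact h2
  refine ⟨a₀ * u₀ ^ (N - 1), u₀ ^ N, fun h => hu₀ (Ideal.IsPrime.mem_of_pow_mem inferInstance N h),
    ?_, ?_, ?_⟩
  · have e1 : mkL (a₀ * u₀ ^ (N - 1)) = σ x * mkL u₀ ^ N := by
      rw [map_mul, map_pow, ha₀, mul_assoc, ← pow_succ']
      congr 2
      omega
    rw [e1, hfrob, map_mul, map_pow, hσ, hσ, map_mul, map_pow]
  · rw [map_pow, hfrob, map_pow, map_pow, hσ]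
  · have e1 : mkL (a₀ * u₀ ^ (N - 1)) = σ x * mkL u₀ ^ N := by
      rw [map_mul, map_pow, ha₀, mul_assoc, ← pow_succ']
      congr 2
      omega
    rw [e1, map_mul, hσ, map_pow, map_pow]

end Groth.Agent.Lib.Helper8.IN5
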