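import Mathlib
import Groth.Agent.Lib.Helper8.HR3
import Groth.Agent.Lib.Helper8.IN7

set_option backward.isDefEq.respectTransparency.types false
set_option autoImplicit false
set_option linter.unusedSectionVars false
set_option linter.style.haveILetI false

namespace Groth.Agent.Lib.Helper8.IN8

open IsLocalRing Algebra Groth.Agent.Lib.Helper8

universe u

section H1

variable {k A : Type u} [Field k] [CommRing A] [IsLocalRing A] [IsNoetherianRing A] [Algebra k A]

attribute [local instance] HR2.isLocalHom_kA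

/-- finiteness of `H¹(L_{K/k})` for the residue field of a geometrically regular local ring. -/
theorem finite_h1 (p : ℕ) [Fact p.Prime] [CharP k p] (hA : CAlg.IsGeometricallyRegular k A) :
    Module.Finite (ResidueField A) (H1Cotangent k (ResidueField A)) := by
  have hfs := (Groth.Agent.S2036.result p).mp hA
  have h1 := Groth.Agent.S9282.result k A hfs
  have hAK : Function.Surjective (algebraMap A (ResidueField A)) := residue_surjective
  have h3 := HR1.map_defaultHom_bijective hAK
  -- finiteness of the cotangent module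
  haveI : IsNoetherianRing (HR1.extS A (ResidueField A) hAK).Ring :=
    inferInstanceAs (IsNoetherianRing A)
  haveI : Module.Finite (HR1.extS A (ResidueField A) hAK).Ring
      (HR1.extS A (ResidueField A) hAK).Cotangent := by
    haveI : Module.Finite (HR1.extS A (ResidueField A) hAK).Ring
        (HR1.extS A (ResidueField A) hAK).ker :=
      Module.Finite.iff_fg.mpr (IsNoetherian.noetherian _)
    exact Module.Finite.of_surjective
      (Extension.Cotangent.mk (P := HR1.extS A (ResidueField A) hAK))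
      Extension.Cotangent.mk_surjective
  haveI : Module.Finite (ResidueField A) (HR1.extS A (ResidueField A) hAK).Cotangent :=
    Module.Finite.of_restrictScalars_finite (HR1.extS A (ResidueField A) hAK).Ring
      (ResidueField A) _
  let L : H1Cotangent k (ResidueField A) →ₗ[ResidueField A]
      (HR1.extS A (ResidueField A) hAK).Cotangent :=
    (HR1.extS A (ResidueField A) hAK).h1Cotangentι ∘ₗ
      (Extension.H1Cotangent.map (Extension.defaultHom A (ResidueField A)
        (HR1.extS A (ResidueField A) hAK))) ∘ₗ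
      (H1Cotangent.map k A (ResidueField A) (ResidueField A))
  have hL : Function.Injective L := by
    intro x y hxy
    apply h1
    apply h3.1
    exact Subtype.ext (by exact hxy)
  exact Module.Finite.of_injective L hL

end H1


section LL

variable {Λ : Type u} [CommRing Λ] (𝔮 : Ideal Λ) [𝔮.IsPrime] (N : ℕ)

/-- the Artinian quotient `Λ_𝔮 / 𝔪^{N+1}`. -/
abbrev LL : Type u :=
  Localization.AtPrime 𝔮 ⧸ (maximalIdeal (Localization.AtPrime 𝔮)) ^ (N + 1)

instance nontrivial_LL : Nontrivial (LL 𝔮 N) := by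
  apply Ideal.Quotient.nontrivial_iff.mpr
  intro h
  have h1 : (maximalIdeal (Localization.AtPrime 𝔮)) ^ (N + 1) ≤ maximalIdeal _ :=
    Ideal.pow_le_self (Nat.succ_ne_zero N)
  rw [h] at h1
  exact (maximalIdeal.isMaximal _).ne_top (top_le_iff.mp h1)

instance isLocalRing_LL : IsLocalRing (LL 𝔮 N) :=
  IsLocalRing.of_surjective' (Ideal.Quotient.mk _) Ideal.Quotient.mk_surjective

instance isLocalHom_mk : IsLocalHom (Ideal.Quotient.mk
    ((maximalIdeal (Localization.AtPrime 𝔮)) ^ (N + 1))) :=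
  IsLocalHom.of_surjective _ Ideal.Quotient.mk_surjective

theorem maximalIdeal_LL : maximalIdeal (LL 𝔮 N) =
    (maximalIdeal (Localization.AtPrime 𝔮)).map (Ideal.Quotient.mk _) := by
  apply le_antisymm
  · intro x hx
    obtain ⟨y, rfl⟩ := Ideal.Quotient.mk_surjective x
    apply Ideal.mem_map_of_mem
    by_contra hy
    have hu : IsUnit y := by
      by_contra hnu
      exact hy ((mem_maximalIdeal y).mpr hnu)
    exact (mem_maximalIdeal _).mp hx (hu.map _)
  · exact map_maximalIdeal_le _

theorem pow_maximalIdeal_LL : maximalIdeal (LL 𝔮 N) ^ (N + 1) = ⊥ := by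
  rw [maximalIdeal_LL, ← Ideal.map_pow, Ideal.map_quotient_self]

instance isArtinianRing_LL [IsNoetherianRing Λ] : IsArtinianRing (LL 𝔮 N) := by
  haveI : IsNoetherianRing (Localization.AtPrime 𝔮) :=
    IsLocalization.isNoetherianRing 𝔮.primeCompl _ inferInstance
  rw [isArtinianRing_iff_isNilpotent_maximalIdeal]
  exact ⟨N + 1, pow_maximalIdeal_LL 𝔮 N⟩

/-- the reduction map. -/
noncomputable def mkL : Λ →+* LL 𝔮 N :=
  (Ideal.Quotient.mk _).comp (algebraMap Λ (Localization.AtPrime 𝔮))

theorem mkL_apply (x : Λ) : mkL 𝔮 N x = Ideal.Quotient.mk _ (algebraMap Λ (Localization.AtPrime 𝔮) x) :=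
  rfl

theorem mkL_surj (y : LL 𝔮 N) : ∃ a u : Λ, u ∉ 𝔮 ∧ mkL 𝔮 N a = y * mkL 𝔮 N u := by
  obtain ⟨y', rfl⟩ := Ideal.Quotient.mk_surjective y
  obtain ⟨a, ⟨u, hu⟩, rfl⟩ := IsLocalization.exists_mk'_eq 𝔮.primeCompl y'
  refine ⟨a, u, hu, ?_⟩
  rw [mkL_apply, mkL_apply, ← map_mul, IsLocalization.mk'_spec]

theorem mkL_mem_maximalIdeal_iff (x : Λ) : mkL 𝔮 N x ∈ maximalIdeal (LL 𝔮 N) ↔ x ∈ 𝔮 := by
  rw [mkL_apply, ← Ideal.mem_comap, maximalIdeal_comap,
    IsLocalization.AtPrime.to_map_mem_maximal_iff (Localization.AtPrime 𝔮) 𝔮]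

theorem isUnit_mkL (u : Λ) (hu : u ∉ 𝔮) : IsUnit (mkL 𝔮 N u) := by
  by_contra h
  exact hu ((mkL_mem_maximalIdeal_iff 𝔮 N u).mp ((mem_maximalIdeal _).mpr h))

theorem span_mkL_gens {s : ℕ} (G : Fin s → Λ) (hG : Ideal.span (Set.range G) = 𝔮) :
    Ideal.span (Set.range (mkL 𝔮 N ∘ G)) = maximalIdeal (LL 𝔮 N) := by
  have hm := IsLocalization.AtPrime.map_eq_maximalIdeal 𝔮 (Localization.AtPrime 𝔮)
  calc Ideal.span (Set.range (mkL 𝔮 N ∘ G)) = (Ideal.span (Set.range G)).map (mkL 𝔮 N) := by
        rw [Ideal.map_span, Set.range_comp]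
    _ = 𝔮.map (mkL 𝔮 N) := congrArg (fun I => Ideal.map (mkL 𝔮 N) I) hG
    _ = (𝔮.map (algebraMap Λ (Localization.AtPrime 𝔮))).map (Ideal.Quotient.mk
          ((maximalIdeal (Localization.AtPrime 𝔮)) ^ (N + 1))) := (Ideal.map_map _ _).symm
    _ = (maximalIdeal (Localization.AtPrime 𝔮)).map (Ideal.Quotient.mk
          ((maximalIdeal (Localization.AtPrime 𝔮)) ^ (N + 1))) :=
        congrArg (Ideal.map (Ideal.Quotient.mk
          ((maximalIdeal (Localization.AtPrime 𝔮)) ^ (N + 1)))) hm
    _ = maximalIdeal (LL 𝔮 N) := (maximalIdeal_LL 𝔮 N).symm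

/-- the comparison of residue fields. -/
noncomputable def ι : ResidueField (Localization.AtPrime 𝔮) →+* ResidueField (LL 𝔮 N) :=
  ResidueField.map (Ideal.Quotient.mk _)

theorem ι_residue (y : Localization.AtPrime 𝔮) :
    ι 𝔮 N (residue _ y) = residue _ (Ideal.Quotient.mk _ y) :=
  ResidueField.map_residue _ y

theorem ι_bijective : Function.Bijective (ι 𝔮 N) := by
  refine ⟨(ι 𝔮 N).injective, fun x => ?_⟩
  obtain ⟨y, rfl⟩ := residue_surjective x
  obtain ⟨y', rfl⟩ := Ideal.Quotient.mk_surjective y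
  exact ⟨residue _ y', ι_residue 𝔮 N y'⟩

variable {k : Type u} [Field k] [Algebra k Λ]

/-- the comparison of residue fields as an algebra isomorphism. -/
noncomputable def ιₐ : ResidueField (Localization.AtPrime 𝔮) ≃ₐ[k] ResidueField (LL 𝔮 N) :=
  AlgEquiv.ofBijective
    { toRingHom := ι 𝔮 N
      commutes' := by
        intro c
        show ι 𝔮 N (algebraMap k (ResidueField (Localization.AtPrime 𝔮)) c) = _
        rw [IsScalarTower.algebraMap_apply k (Localization.AtPrime 𝔮) (ResidueField _),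
          IsLocalRing.ResidueField.algebraMap_eq, ι_residue]
        rfl }
    (ι_bijective 𝔮 N)

theorem ιₐ_residue (y : Localization.AtPrime 𝔮) :
    (ιₐ 𝔮 N : ResidueField (Localization.AtPrime 𝔮) ≃ₐ[k] ResidueField (LL 𝔮 N)) (residue _ y) =
      residue _ (Ideal.Quotient.mk _ y) :=
  ι_residue 𝔮 N y

/-- the reduction map as an algebra map. -/
noncomputable def mkLₐ : Λ →ₐ[k] LL 𝔮 N :=
  { toRingHom := mkL 𝔮 N
    commutes' := by
      intro c
      show Ideal.Quotient.mk _ (algebraMap Λ (Localization.AtPrime 𝔮) (algebraMap k Λ c)) = _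
      rw [← IsScalarTower.algebraMap_apply]
      rfl }

theorem mkLₐ_apply (x : Λ) : (mkLₐ 𝔮 N : Λ →ₐ[k] LL 𝔮 N) x = mkL 𝔮 N x := rfl

end LL

end Groth.Agent.Lib.Helper8.IN8
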