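import Mathlib
import Groth.Agent.Lib.Helper8.IN5
import Groth.Agent.Lib.Helper8.IN6
import Groth.Agent.Lib.Helper8.IN8

set_option backward.isDefEq.respectTransparency.types false
set_option autoImplicit false
set_option linter.unusedSectionVars false
set_option linter.style.haveILetI false

namespace Groth.Agent.Lib.Helper8.IN9

open IsLocalRing Groth.Agent.Lib.Helper8 Groth.Agent.Lib.Helper8.IN8

universe u

variable {k Λ : Type u} [Field k] [CommRing Λ] [Algebra k Λ] [IsNoetherianRing Λ]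
  (𝔮 : Ideal Λ) [𝔮.IsPrime] (N : ℕ)

/-- the field `F`, generated by residues of `σ`-compatible global elements, together with a
differential basis. -/
theorem exists_chart_fields (p : ℕ) [Fact p.Prime] [CharP k p]
    (σ : ResidueField (LL 𝔮 N) →+* LL 𝔮 N) (hσ : ∀ x, residue _ (σ x) = x)
    (U₀ : Finset (ResidueField (LL 𝔮 N))) :
    ∃ (U : Finset (ResidueField (LL 𝔮 N))),
      (↑U₀ : Set (ResidueField (LL 𝔮 N))) ⊆
        IntermediateField.adjoin k (U : Set (ResidueField (LL 𝔮 N))) ∧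
      ∃ (t : ℕ) (x : Fin t → Λ)
        (hxF : ∀ i, residue _ (mkL 𝔮 N (x i)) ∈
          IntermediateField.adjoin k (U : Set (ResidueField (LL 𝔮 N)))),
        (∀ i, mkL 𝔮 N (x i) = σ (residue _ (mkL 𝔮 N (x i)))) ∧
        LinearIndependent (IntermediateField.adjoin k (U : Set (ResidueField (LL 𝔮 N))))
          (fun i => KaehlerDifferential.D k
            (IntermediateField.adjoin k (U : Set (ResidueField (LL 𝔮 N))))
            ⟨residue _ (mkL 𝔮 N (x i)), hxF i⟩) ∧
        Submodule.span (IntermediateField.adjoin k (U : Set (ResidueField (LL 𝔮 N))))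
          (Set.range fun i => KaehlerDifferential.D k
            (IntermediateField.adjoin k (U : Set (ResidueField (LL 𝔮 N))))
            ⟨residue _ (mkL 𝔮 N (x i)), hxF i⟩) = ⊤ := by
  classical
  haveI : CharP (LL 𝔮 N) p :=
    charP_of_injective_algebraMap (algebraMap k (LL 𝔮 N)).injective p
  -- Lemma G
  have hG : ∀ x : ResidueField (LL 𝔮 N), ∃ (a u : Λ), u ∉ 𝔮 ∧
      mkL 𝔮 N a = σ (residue _ (mkL 𝔮 N a)) ∧ mkL 𝔮 N u = σ (residue _ (mkL 𝔮 N u)) ∧
      x * residue _ (mkL 𝔮 N u) = residue _ (mkL 𝔮 N a) :=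
    fun x => IN5.exists_sigma_fraction 𝔮 p (N + 1) (LL 𝔮 N) (mkL 𝔮 N) (mkL_surj 𝔮 N)
      (pow_maximalIdeal_LL 𝔮 N) σ hσ x
  choose a u hu ha hua hxu using hG
  set Z : Finset Λ := U₀.image a ∪ U₀.image u with hZ
  have hZσ : ∀ z ∈ Z, mkL 𝔮 N z = σ (residue _ (mkL 𝔮 N z)) := by
    intro z hz
    rw [hZ, Finset.mem_union, Finset.mem_image, Finset.mem_image] at hz
    rcases hz with ⟨x, -, rfl⟩ | ⟨x, -, rfl⟩
    · exact ha x
    · exact hua x
  set U : Finset (ResidueField (LL 𝔮 N)) := Z.image (fun z => residue _ (mkL 𝔮 N z)) with hU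
  set F := IntermediateField.adjoin k (U : Set (ResidueField (LL 𝔮 N))) with hF
  have hZF : ∀ z ∈ Z, residue _ (mkL 𝔮 N z) ∈ F := by
    intro z hz
    apply IntermediateField.subset_adjoin
    rw [hU, Finset.coe_image]
    exact ⟨z, hz, rfl⟩
  refine ⟨U, ?_, ?_⟩
  · intro x hx
    have hx' : x ∈ U₀ := hx
    have h1 : residue _ (mkL 𝔮 N (u x)) ≠ 0 := by
      intro h0
      have := (residue_eq_zero_iff _).mp h0
      exact hu x ((mkL_mem_maximalIdeal_iff 𝔮 N _).mp this)
    have h2 : x = residue _ (mkL 𝔮 N (a x)) / residue _ (mkL 𝔮 N (u x)) := by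
      rw [eq_div_iff h1, hxu]
    show x ∈ F
    rw [h2]
    refine div_mem (hZF _ ?_) (hZF _ ?_)
    · rw [hZ]; exact Finset.mem_union_left _ (Finset.mem_image_of_mem _ hx')
    · rw [hZ]; exact Finset.mem_union_right _ (Finset.mem_image_of_mem _ hx')
  · -- differential basis
    have hspan := IN6.span_D_adjoin (k := k) (U : Set (ResidueField (LL 𝔮 N)))
    set T : Set (Ω[F⁄k]) := Set.range fun s : (U : Set (ResidueField (LL 𝔮 N))) =>
      KaehlerDifferential.D k F ⟨s.1, IntermediateField.subset_adjoin k _ s.2⟩ with hT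
    haveI : Module.Finite F (Submodule.span F T) :=
      Module.Finite.span_of_finite F (Set.finite_range _)
    obtain ⟨f, hfT, hfspan, hfli⟩ := Submodule.exists_fun_fin_finrank_span_eq F T
    have hfz : ∀ i, ∃ z ∈ Z, ∃ h : residue _ (mkL 𝔮 N z) ∈ F,
        KaehlerDifferential.D k F ⟨residue _ (mkL 𝔮 N z), h⟩ = f i := by
      intro i
      obtain ⟨⟨s, hs⟩, hsf⟩ := hfT i
      have hs' : s ∈ U := hs
      rw [hU, Finset.mem_image] at hs'
      obtain ⟨z, hz, rfl⟩ := hs'
      exact ⟨z, hz, IntermediateField.subset_adjoin k _ hs, hsf⟩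
    choose x hxZ hxF hxf using hfz
    refine ⟨_, x, hxF, fun i => hZσ _ (hxZ i), ?_, ?_⟩
    · have : (fun i => KaehlerDifferential.D k F ⟨residue _ (mkL 𝔮 N (x i)), hxF i⟩) = f :=
        funext hxf
      rw [this]
      exact hfli
    · have : (fun i => KaehlerDifferential.D k F ⟨residue _ (mkL 𝔮 N (x i)), hxF i⟩) = f :=
        funext hxf
      rw [this, hfspan]
      exact hspan

end Groth.Agent.Lib.Helper8.IN9
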