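import Mathlib
import Groth.Agent.Lib.Helper8.IN5
import Groth.Agent.Lib.Helper8.IN6
import Groth.Agent.Lib.Helper8.IN7
import Groth.Agent.Lib.Helper8.IN8
import Groth.Agent.Lib.Helper8.IN9
import Groth.Agent.Lib.Helper8.IN10
import Groth.Agent.Lib.Helper8.IN11

set_option backward.isDefEq.respectTransparency.types false
set_option autoImplicit false
set_option linter.unusedSectionVars false
set_option linter.style.haveILetI false

namespace Groth.Agent.Lib.Helper8.IN12

open IsLocalRing MvPolynomial Groth.Agent.Lib.Helper8 Groth.Agent.Lib.Helper8.IN8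
  Groth.Agent.Lib.Helper8.PB5

universe u

theorem mem_comap' {k K K' : Type*} [Field k] [Field K] [Field K'] [Algebra k K] [Algebra k K']
    (f : K →ₐ[k] K') (S : IntermediateField k K') (x : K) : x ∈ S.comap f ↔ f x ∈ S := Iff.rfl

/-- transport of linear independence of differentials along an isomorphism of fields. -/
theorem li_transport {k K K' : Type u} [Field k] [Field K] [Field K'] [Algebra k K] [Algebra k K']
    (e : K ≃ₐ[k] K') (F' : IntermediateField k K') {t : ℕ} (z : Fin t → K)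
    (hz : ∀ i, (e : K →ₐ[k] K') (z i) ∈ F')
    (hli : LinearIndependent F' (fun i => KaehlerDifferential.D k F' ⟨(e : K →ₐ[k] K') (z i), hz i⟩)) :
    LinearIndependent (F'.comap (e : K →ₐ[k] K'))
      (fun i => KaehlerDifferential.D k (F'.comap (e : K →ₐ[k] K'))
        ⟨z i, (mem_comap' _ _ _).mpr (hz i)⟩) := by
  set F := F'.comap (e : K →ₐ[k] K') with hF
  let eF : F →ₐ[k] F' :=
    ((e : K →ₐ[k] K').comp F.val).codRestrict F'.toSubalgebra
      (fun x => (mem_comap' _ _ _).mp x.2)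
  letI algFF' : Algebra F F' := eF.toRingHom.toAlgebra
  haveI : IsScalarTower k F F' := IsScalarTower.of_algebraMap_eq fun c => (eF.commutes c).symm
  have hinj : Function.Injective fun r : F => r • (1 : F') := by
    intro a b hab
    have h1 : eF a = eF b := by
      have h2 : ∀ r : F, r • (1 : F') = eF r := fun r => by
        rw [Algebra.smul_def, mul_one]; rfl
      rw [← h2 a, ← h2 b]
      exact hab
    exact eF.toRingHom.injective h1
  have h1 := hli.restrict_scalars hinj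
  apply LinearIndependent.of_comp (KaehlerDifferential.map k k F F')
  have h2 : (KaehlerDifferential.map k k F F') ∘ (fun i => KaehlerDifferential.D k F
      ⟨z i, (mem_comap' _ _ _).mpr (hz i)⟩) =
      fun i => KaehlerDifferential.D k F' ⟨(e : K →ₐ[k] K') (z i), hz i⟩ := by
    funext i
    rw [Function.comp_apply, KaehlerDifferential.map_D]
    rfl
  rw [h2]
  exact h1


section StageA1

variable {k Λ : Type u} [Field k] [CommRing Λ] [Algebra k Λ] [IsNoetherianRing Λ]
  (𝔮 : Ideal Λ) [𝔮.IsPrime] (N : ℕ)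

/-- Stage A1: the section, the field `F`, the chart `x`, and the parameters. -/
theorem stageA1 (p : ℕ) [Fact p.Prime] [CharP k p]
    (hA : CAlg.IsGeometricallyRegular k (Localization.AtPrime 𝔮))
    {s : ℕ} (G : Fin s → Λ) (hG : Ideal.span (Set.range G) = 𝔮) (E : Finset (LL 𝔮 N)) :
    ∃ (σ : ResidueField (LL 𝔮 N) →+* LL 𝔮 N) (_ : ∀ x, residue _ (σ x) = x)
      (F : IntermediateField k (ResidueField (LL 𝔮 N)))
      (hk : ∀ c : k, algebraMap k (LL 𝔮 N) c ∈ (PsiF σ (mkL 𝔮 N ∘ G) F).range),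
      Algebra.EssFiniteType k F ∧
      (↑E : Set (LL 𝔮 N)) ⊆ subalg σ (mkL 𝔮 N ∘ G) F hk ∧
      Module.Flat (subalg σ (mkL 𝔮 N ∘ G) F hk) (LL 𝔮 N) ∧
      ∃ (t : ℕ) (x : Fin t → Λ) (hxF : ∀ i, residue _ (mkL 𝔮 N (x i)) ∈ F),
        (∀ i, mkL 𝔮 N (x i) = σ (residue _ (mkL 𝔮 N (x i)))) ∧
        Submodule.span F (Set.range fun i => KaehlerDifferential.D k F
          ⟨residue _ (mkL 𝔮 N (x i)), hxF i⟩) = ⊤ ∧
        ∃ (h : ℕ) (ϖ : Fin h → MvPolynomial (Fin t) k) (d' : ℕ) (ι : Fin d' → Fin s),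
          (∀ i, aeval x (ϖ i) ∈ 𝔮) ∧
          (∀ f₀ : MvPolynomial (Fin t) k, aeval x f₀ ∈ 𝔮 →
            ∃ s₀ : MvPolynomial (Fin t) k, aeval x s₀ ∉ 𝔮 ∧
              s₀ * f₀ ∈ Ideal.span (Set.range ϖ)) ∧
          (∀ i, Fin.append (fun i => algebraMap Λ (Localization.AtPrime 𝔮) (aeval x (ϖ i)))
            (fun l => algebraMap Λ (Localization.AtPrime 𝔮) (G (ι l))) i ∈ maximalIdeal _) ∧
          (∀ b : Fin (h + d') → Localization.AtPrime 𝔮,
            ∑ j, b j * Fin.append
              (fun i => algebraMap Λ (Localization.AtPrime 𝔮) (aeval x (ϖ i)))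
              (fun l => algebraMap Λ (Localization.AtPrime 𝔮) (G (ι l))) j ∈
                maximalIdeal _ ^ 2 → ∀ j, b j ∈ maximalIdeal _) ∧
          Ideal.span (Set.range (Fin.append
            (fun i => algebraMap Λ (Localization.AtPrime 𝔮) (aeval x (ϖ i)))
            (fun l => algebraMap Λ (Localization.AtPrime 𝔮) (G (ι l))))) = maximalIdeal _ := by
  classical
  haveI : IsNoetherianRing (Localization.AtPrime 𝔮) :=
    IsLocalization.isNoetherianRing 𝔮.primeCompl _ inferInstance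
  have hH : Module.Finite (ResidueField (LL 𝔮 N))
      (Algebra.H1Cotangent k (ResidueField (LL 𝔮 N))) :=
    IN7.finite_h1_of_algEquiv (ιₐ 𝔮 N) (IN8.finite_h1 (k := k) p hA)
  obtain ⟨σ, hσ, U₀, hfam⟩ := IN5.main_family (k := k) p hH (mkL 𝔮 N ∘ G) (span_mkL_gens 𝔮 N G hG) E
  obtain ⟨U, hU₀, t, x, hxF, hxσ, hli, hspanD⟩ := IN9.exists_chart_fields (k := k) 𝔮 N p σ hσ U₀
  obtain ⟨hk, hE, hflat⟩ := hfam (IntermediateField.adjoin k (U : Set (ResidueField (LL 𝔮 N)))) hU₀
  haveI hess : Algebra.EssFiniteType k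
      (IntermediateField.adjoin k (U : Set (ResidueField (LL 𝔮 N)))) :=
    IN6.essFiniteType_adjoin U
  refine ⟨σ, hσ, IntermediateField.adjoin k (U : Set (ResidueField (LL 𝔮 N))), hk, hess, hE, hflat,
    t, x, hxF, hxσ, hspanD, ?_⟩
  -- transport to the residue field of `Λ_𝔮`
  have hz : ∀ i, ((ιₐ 𝔮 N : ResidueField (Localization.AtPrime 𝔮) ≃ₐ[k] ResidueField (LL 𝔮 N)) :
      ResidueField (Localization.AtPrime 𝔮) →ₐ[k] ResidueField (LL 𝔮 N))
      (residue _ (algebraMap Λ (Localization.AtPrime 𝔮) (x i))) ∈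
        IntermediateField.adjoin k (U : Set (ResidueField (LL 𝔮 N))) := by
    intro i
    have : ((ιₐ 𝔮 N : ResidueField (Localization.AtPrime 𝔮) ≃ₐ[k] ResidueField (LL 𝔮 N)) :
      ResidueField (Localization.AtPrime 𝔮) →ₐ[k] ResidueField (LL 𝔮 N))
      (residue _ (algebraMap Λ (Localization.AtPrime 𝔮) (x i))) = residue _ (mkL 𝔮 N (x i)) :=
      ιₐ_residue 𝔮 N _
    rw [this]
    exact hxF i
  have hb := li_transport (ιₐ 𝔮 N) (IntermediateField.adjoin k (U : Set (ResidueField (LL 𝔮 N))))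
    (fun i => residue _ (algebraMap Λ (Localization.AtPrime 𝔮) (x i))) hz hli
  exact IN10.exists_params 𝔮 p hA _ x _ hb G hG

end StageA1

end Groth.Agent.Lib.Helper8.IN12
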