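import Mathlib
import Groth.Agent.Lib.Helper8.PAR2

set_option backward.isDefEq.respectTransparency.types false
set_option autoImplicit false
set_option linter.unusedSectionVars false
set_option linter.style.haveILetI false

namespace Groth.Agent.Lib.Helper8.IN1

universe u

open RingTheory.Sequence Groth.Agent.Lib.Helper8.PAR1 Groth.Agent.Lib.Helper8.PAR2

/-- in a regular local ring, with `y` a regular system of parameters, `y i` is a nonzerodivisor
modulo the `e`-th powers of any set of other `y j`. -/
theorem regular_pow_finset (R : Type u) [CommRing R] [IsRegularLocalRing R] (d : ℕ)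
    (hd : ringKrullDim R = d) (y : Fin d → R)
    (hy : Ideal.span (Set.range y) = IsLocalRing.maximalIdeal R) (e : ℕ) (he : 0 < e)
    (S : Finset (Fin d)) (i : Fin d) (hiS : i ∉ S)
    (r : R) (hr : y i * r ∈ Ideal.span ((fun j => y j ^ e) '' (S : Set (Fin d)))) :
    r ∈ Ideal.span ((fun j => y j ^ e) '' (S : Set (Fin d))) := by
  classical
  have hym : ∀ j, y j ∈ IsLocalRing.maximalIdeal R := fun j => hy ▸ Ideal.subset_span ⟨j, rfl⟩
  set L1 : List R := S.toList.map (fun j => y j ^ e) with hL1
  set L3 : List R := (Finset.univ \ insert i S).toList.map y with hL3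
  set F : List R := L1 ++ (y i :: L3) with hF
  have hlen1 : L1.length = S.card := by simp [L1]
  have hlen3 : L3.length = d - (S.card + 1) := by
    simp only [L3, List.length_map, Finset.length_toList]
    rw [Finset.card_sdiff_of_subset (Finset.subset_univ _), Finset.card_univ, Fintype.card_fin,
      Finset.card_insert_of_notMem hiS]
  have hcard : S.card + 1 ≤ d := by
    have := Finset.card_le_univ (insert i S)
    rw [Finset.card_insert_of_notMem hiS, Fintype.card_fin] at this
    exact this
  have hlen : F.length = d := by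
    rw [hF, List.length_append, List.length_cons, hlen1, hlen3]
    omega
  have hFmem : ∀ x ∈ F, x ∈ IsLocalRing.maximalIdeal R := by
    intro x hx
    rw [hF, List.mem_append, List.mem_cons] at hx
    rcases hx with hx | rfl | hx
    · rw [hL1, List.mem_map] at hx
      obtain ⟨j, -, rfl⟩ := hx
      exact Ideal.pow_mem_of_mem _ (hym j) e he
    · exact hym i
    · rw [hL3, List.mem_map] at hx
      obtain ⟨j, -, rfl⟩ := hx
      exact hym j
  have hFle : Ideal.ofList F ≤ IsLocalRing.maximalIdeal R := by
    rw [Ideal.ofList, Ideal.span_le]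
    exact fun x hx => hFmem x hx
  have hFy : ∀ (p : Ideal R), p.IsPrime → Ideal.ofList F ≤ p → ∀ j, y j ∈ p := by
    intro p hp hle j
    by_cases hjS : j ∈ S
    · have h1 : y j ^ e ∈ p := by
        apply hle
        apply Ideal.subset_span
        show _ ∈ F
        rw [hF, List.mem_append]
        left
        rw [hL1, List.mem_map]
        exact ⟨j, Finset.mem_toList.mpr hjS, rfl⟩
      exact hp.mem_of_pow_mem e h1
    · by_cases hji : j = i
      · subst hji
        apply hle
        apply Ideal.subset_span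
        show _ ∈ F
        rw [hF, List.mem_append, List.mem_cons]
        exact Or.inr (Or.inl rfl)
      · apply hle
        apply Ideal.subset_span
        show _ ∈ F
        rw [hF, List.mem_append, List.mem_cons]
        refine Or.inr (Or.inr ?_)
        rw [hL3, List.mem_map]
        refine ⟨j, Finset.mem_toList.mpr ?_, rfl⟩
        rw [Finset.mem_sdiff, Finset.mem_insert]
        exact ⟨Finset.mem_univ _, fun h => h.elim hji hjS⟩
  have hdim0 : ringKrullDim (R ⧸ Ideal.ofList F) = 0 := by
    haveI : Nontrivial (R ⧸ Ideal.ofList F) := Ideal.Quotient.nontrivial_iff.mpr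
      (fun h => (IsLocalRing.maximalIdeal.isMaximal R).ne_top (top_le_iff.mp (h ▸ hFle)))
    apply le_antisymm _ ringKrullDim_nonneg_of_nontrivial
    haveI : Ring.KrullDimLE 0 (R ⧸ Ideal.ofList F) := by
      refine Ring.KrullDimLE.mk₀ fun Q hQ => ?_
      have hp : (Q.comap (Ideal.Quotient.mk (Ideal.ofList F))).IsPrime := Ideal.IsPrime.comap _
      have hle : Ideal.ofList F ≤ Q.comap (Ideal.Quotient.mk (Ideal.ofList F)) := by
        intro a ha
        rw [Ideal.mem_comap, Ideal.Quotient.eq_zero_iff_mem.mpr ha]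
        exact Q.zero_mem
      have hm : IsLocalRing.maximalIdeal R ≤ Q.comap (Ideal.Quotient.mk (Ideal.ofList F)) := by
        rw [← hy, Ideal.span_le]
        rintro _ ⟨j, rfl⟩
        exact hFy _ hp hle j
      have heq := (IsLocalRing.maximalIdeal.isMaximal R).eq_of_le hp.ne_top hm
      have hqm : (Q.comap (Ideal.Quotient.mk (Ideal.ofList F))).IsMaximal :=
        heq ▸ IsLocalRing.maximalIdeal.isMaximal R
      have := Ideal.map_eq_top_or_isMaximal_of_surjective (Ideal.Quotient.mk (Ideal.ofList F))
        Ideal.Quotient.mk_surjective hqm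
      rw [Ideal.map_comap_of_surjective _ Ideal.Quotient.mk_surjective] at this
      rcases this with h1 | h1
      · exact absurd h1 hQ.ne_top
      · exact h1
    exact (Ring.krullDimLE_iff).mp this
  have hCM := Groth.Agent.Lib.Helper16.PDR.isCohenMacaulayModule_self_of_isRegularLocalRing R
  have hreg : IsWeaklyRegular R F := by
    rw [Groth.Agent.Lib.Helper16.CICot.isWeaklyRegular_iff_dim hCM F hFmem, hdim0, hlen, hd,
      zero_add]
  have hi : S.card < F.length := by rw [hlen]; omega
  have h1 := hreg.regular_mod_prev S.card hi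
  have hFi : F[S.card] = y i := by
    rw [List.getElem_append_right (by rw [hlen1])]
    simp [hlen1]
  have htake : F.take S.card = L1 := by
    rw [hF, ← hlen1, List.take_left']
    rfl
  have hK : Ideal.ofList (F.take S.card) =
      Ideal.span ((fun j => y j ^ e) '' (S : Set (Fin d))) := by
    rw [htake, Ideal.ofList]
    congr 1
    ext x
    simp only [Set.mem_ofPred_eq, Set.mem_image, hL1, List.mem_map, Finset.mem_toList,
      Finset.mem_coe]
  rw [hFi, hK] at h1
  have htop : (Ideal.span ((fun j => y j ^ e) '' (S : Set (Fin d))) • (⊤ : Submodule R R)) =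
      Ideal.span ((fun j => y j ^ e) '' (S : Set (Fin d))) := by
    rw [smul_eq_mul, Ideal.mul_top]
  have h2 : y i • (Submodule.Quotient.mk r : R ⧸ (Ideal.span ((fun j => y j ^ e) '' (S : Set (Fin d))) •
      (⊤ : Submodule R R))) = y i • 0 := by
    rw [smul_zero, ← Submodule.Quotient.mk_smul, Submodule.Quotient.mk_eq_zero, htop, smul_eq_mul]
    exact hr
  have h3 := h1 h2
  rw [Submodule.Quotient.mk_eq_zero, htop] at h3
  exact h3

section Fam

variable {Λ : Type u} [CommRing Λ] [IsNoetherianRing Λ] (q : Ideal Λ) [hq : q.IsPrime]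
  (R : Type u) [CommRing R] [Algebra Λ R] [IsLocalization.AtPrime R q]

/-- family version of `PAR1.exists_multiplier`. -/
theorem exists_multiplier_finset (Ks : Finset (Ideal Λ)) (p : Λ)
    (hp : ∀ K ∈ Ks, ∀ r : R, algebraMap Λ R p * r ∈ K.map (algebraMap Λ R) →
      r ∈ K.map (algebraMap Λ R)) :
    ∃ s : Λ, s ∉ q ∧ ∀ K ∈ Ks, ∀ x : Λ, (s * p) ^ 2 * x ∈ K → (s * p) * x ∈ K := by
  classical
  have h1 : ∀ K : Ideal Λ, ∃ s : Λ, K ∈ Ks → (s ∉ q ∧ ∀ (x : Λ) (k : ℕ), p ^ k * x ∈ K → s * x ∈ K) := by
    intro K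
    by_cases hK : K ∈ Ks
    · obtain ⟨s, hs1, hs2⟩ := exists_kill_torsion q R K p (hp K hK)
      exact ⟨s, fun _ => ⟨hs1, hs2⟩⟩
    · exact ⟨0, fun h => absurd h hK⟩
  choose s0 hs0 using h1
  set S : Λ := ∏ K ∈ Ks, s0 K with hS
  have hSq : S ∉ q := by
    intro hmem
    obtain ⟨K, hK, hKq⟩ := (hq.prod_mem_iff).mp hmem
    exact (hs0 K hK).1 hKq
  have hSkill : ∀ K ∈ Ks, ∀ (x : Λ) (k : ℕ), p ^ k * x ∈ K → S * x ∈ K := by
    intro K hK x k hx
    rw [hS, ← Finset.mul_prod_erase Ks s0 hK, mul_comm (s0 K), mul_assoc]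
    exact K.mul_mem_left _ ((hs0 K hK).2 x k hx)
  have h2 : ∀ K : Ideal Λ, ∃ m : ℕ, 1 ≤ m ∧ ∀ (x : Λ) (k : ℕ), 1 ≤ k → (S ^ m) ^ k * x ∈ K →
      S ^ m * x ∈ K := fun K => exists_pow_stab K S
  choose m0 hm01 hm0 using h2
  set M : ℕ := ∏ K ∈ Ks, m0 K with hM
  have hM1 : 1 ≤ M := by
    rw [hM]
    exact Finset.one_le_prod' (fun K _ => hm01 K)
  have hMstab : ∀ K ∈ Ks, ∀ (x : Λ) (k : ℕ), 1 ≤ k → (S ^ M) ^ k * x ∈ K → S ^ M * x ∈ K := by
    intro K hK x k hk hx
    obtain ⟨M', hM'⟩ : ∃ M', M = m0 K * M' := by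
      refine ⟨∏ K' ∈ Ks.erase K, m0 K', ?_⟩
      rw [hM, Finset.mul_prod_erase Ks m0 hK]
    have hM'1 : 1 ≤ M' := by
      rcases Nat.eq_zero_or_pos M' with h | h
      · rw [h, mul_zero] at hM'; omega
      · exact h
    have e1 : (S ^ M) ^ k = (S ^ m0 K) ^ (M' * k) := by
      rw [hM', ← pow_mul, ← pow_mul, mul_assoc]
    rw [e1] at hx
    have h3 := hm0 K x (M' * k) (Nat.one_le_iff_ne_zero.mpr (by positivity)) hx
    have e2 : S ^ M = S ^ (m0 K * (M' - 1)) * S ^ m0 K := by
      rw [← pow_add, hM']
      congr 1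
      obtain ⟨M'', rfl⟩ : ∃ M'', M' = M'' + 1 := ⟨M' - 1, by omega⟩
      simp only [Nat.add_sub_cancel]
      ring
    rw [e2, mul_assoc]
    exact K.mul_mem_left _ h3
  refine ⟨S ^ M, fun h => hSq (hq.mem_of_pow_mem M h), ?_⟩
  intro K hK x hx
  have h1 : p ^ 2 * ((S ^ M) ^ 2 * x) ∈ K := by
    have : p ^ 2 * ((S ^ M) ^ 2 * x) = (S ^ M * p) ^ 2 * x := by ring
    rw [this]; exact hx
  have h2 : S * ((S ^ M) ^ 2 * x) ∈ K := hSkill K hK _ 2 h1
  have h3 : (S ^ M) ^ 3 * x ∈ K := by
    obtain ⟨r, hr⟩ := Nat.exists_eq_add_of_le hM1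
    have : (S ^ M) ^ 3 * x = S ^ r * (S * ((S ^ M) ^ 2 * x)) := by
      rw [hr]; ring
    rw [this]
    exact K.mul_mem_left _ h2
  have h4 : S ^ M * x ∈ K := hMstab K hK x 3 (by norm_num) h3
  have : S ^ M * p * x = p * (S ^ M * x) := by ring
  rw [this]
  exact K.mul_mem_left _ h4

variable [IsRegularLocalRing R]

/-- the inductive construction of the multipliers, for all subsets of earlier indices. -/
theorem exists_multipliers_subsets (e d : ℕ) (he : 0 < e) (hd : ringKrullDim R = d) (p1 : Fin d → Λ)
    (hy : Ideal.span (Set.range fun j => algebraMap Λ R (p1 j)) = IsLocalRing.maximalIdeal R) :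
    ∀ t : ℕ, t ≤ d → ∃ u : Fin d → Λ, (∀ j, u j ∉ q) ∧ ∀ i : Fin d, (i : ℕ) < t →
      ∀ S : Finset (Fin d), (∀ j ∈ S, j < i) → ∀ x : Λ,
      (u i * p1 i) ^ 2 * x ∈ Ideal.span ((fun j => (u j * p1 j) ^ e) '' (S : Set (Fin d))) →
      (u i * p1 i) * x ∈ Ideal.span ((fun j => (u j * p1 j) ^ e) '' (S : Set (Fin d))) := by
  classical
  intro t
  induction t with
  | zero =>
    intro _
    exact ⟨fun _ => 1, fun _ h => hq.ne_top ((Ideal.eq_top_iff_one q).mpr h),
      fun i hi => absurd hi (Nat.not_lt_zero i)⟩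
  | succ t ih =>
    intro ht
    have htd : t < d := by omega
    obtain ⟨u, huq, hu⟩ := ih (by omega)
    let it : Fin d := ⟨t, htd⟩
    let y' : Fin d → R := fun j => algebraMap Λ R (u j * p1 j)
    have hy' : Ideal.span (Set.range y') = IsLocalRing.maximalIdeal R := by
      rw [← hy]
      apply span_range_eq_of_units
      intro j
      refine ⟨algebraMap Λ R (u j), ?_, ?_⟩
      · exact IsLocalization.map_units R (⟨u j, huq j⟩ : q.primeCompl)
      · simp only [y']
        rw [map_mul]
    let KS : Finset (Fin d) → Ideal Λ := fun S =>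
      Ideal.span ((fun j => (u j * p1 j) ^ e) '' (S : Set (Fin d)))
    have hKSmap : ∀ S : Finset (Fin d), (KS S).map (algebraMap Λ R) =
        Ideal.span ((fun j => y' j ^ e) '' (S : Set (Fin d))) := by
      intro S
      simp only [KS]
      rw [Ideal.map_span, Set.image_image]
      congr 1
      ext z
      simp [y']
    let Ks : Finset (Ideal Λ) := ((Finset.univ.filter (fun j : Fin d => j < it)).powerset).image KS
    have hp : ∀ K ∈ Ks, ∀ r : R, algebraMap Λ R (u it * p1 it) * r ∈ K.map (algebraMap Λ R) →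
        r ∈ K.map (algebraMap Λ R) := by
      intro K hK r hr
      simp only [Ks, Finset.mem_image, Finset.mem_powerset] at hK
      obtain ⟨S, hS, rfl⟩ := hK
      rw [hKSmap] at hr ⊢
      have hitS : it ∉ S := by
        intro h
        have := hS h
        simp at this
      exact IN1.regular_pow_finset R d hd y' hy' e he S it hitS r hr
    obtain ⟨s, hsq, hs⟩ := exists_multiplier_finset q R Ks (u it * p1 it) hp
    refine ⟨Function.update u it (s * u it), ?_, ?_⟩
    · intro j
      by_cases hj : j = it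
      · subst hj
        rw [Function.update_self]
        exact fun h => (hq.mem_or_mem h).elim hsq (huq _)
      · rw [Function.update_of_ne hj]
        exact huq j
    · have himg : ∀ i : Fin d, (i : ℕ) ≤ t → ∀ S : Finset (Fin d), (∀ j ∈ S, j < i) →
          (fun j => (Function.update u it (s * u it) j * p1 j) ^ e) '' (S : Set (Fin d)) =
          (fun j => (u j * p1 j) ^ e) '' (S : Set (Fin d)) := by
        intro i hi S hS
        apply Set.image_congr
        intro j hj
        have hjlt : (j : ℕ) < (i : ℕ) := hS j hj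
        have : j ≠ it := by
          intro h
          rw [h] at hjlt
          simp only [it] at hjlt
          omega
        simp only [Function.update_of_ne this]
      intro i hi S hS x hx
      rw [himg i (by omega) S hS] at hx ⊢
      by_cases hit : i = it
      · subst hit
        rw [Function.update_self] at hx ⊢
        have e1 : s * u it * p1 it = s * (u it * p1 it) := by ring
        rw [e1] at hx ⊢
        refine hs (KS S) ?_ x hx
        simp only [Ks, Finset.mem_image, Finset.mem_powerset]
        refine ⟨S, ?_, rfl⟩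
        intro j hj
        simp only [Finset.mem_filter, Finset.mem_univ, true_and]
        exact hS j hj
      · rw [Function.update_of_ne hit] at hx ⊢
        refine hu i ?_ S hS x hx
        have : (i : ℕ) ≠ t := fun h => hit (Fin.ext h)
        omega

end Fam

end Groth.Agent.Lib.Helper8.IN1
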