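import Mathlib
import Groth.Prelude.Def_Smoothing
import Groth.Agent.Lib.Helper8.IS2
import Groth.Agent.Lib.Helper8.GS1
import Groth.Agent.Lib.Helper8.IN6
import Groth.Agent.Lib.Helper8.IN8
import Groth.Agent.Lib.Helper8.IN11
import Groth.Agent.Lib.Helper8.PB6
import Groth.Agent.Lib.Helper1.NormalField2
import Groth.Agent.Lib.Helper23.RegularHom2

set_option backward.isDefEq.respectTransparency.types false
set_option autoImplicit false
set_option linter.unusedSectionVars false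
set_option linter.style.haveILetI false

namespace Groth.Agent.Lib.Helper8.IN13

open IsLocalRing MvPolynomial Smoothing Groth.Agent.Lib.Helper8 Groth.Agent.Lib.Helper8.IN8
  Groth.Agent.Lib.Helper8.PB5

universe u

/-- the maximal ideal of a quotient of a local ring. -/
theorem maximalIdeal_quotient {A : Type*} [CommRing A] [IsLocalRing A] (J : Ideal A)
    [IsLocalRing (A ⧸ J)] :
    maximalIdeal (A ⧸ J) = (maximalIdeal A).map (Ideal.Quotient.mk J) := by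
  apply le_antisymm
  · intro x hx
    obtain ⟨y, rfl⟩ := Ideal.Quotient.mk_surjective x
    apply Ideal.mem_map_of_mem
    by_contra hy
    have hu : IsUnit y := by
      by_contra h'
      exact hy ((mem_maximalIdeal _).mpr h')
    exact (mem_maximalIdeal _).mp hx (hu.map _)
  · rw [Ideal.map_le_iff_le_comap]
    intro y hy
    rw [Ideal.mem_comap, mem_maximalIdeal]
    intro hu
    haveI : IsLocalHom (Ideal.Quotient.mk J) :=
      IsLocalHom.of_surjective _ Ideal.Quotient.mk_surjective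
    exact (mem_maximalIdeal _).mp hy (isUnit_of_map_unit (Ideal.Quotient.mk J) y hu)

/-- ind-smoothness of a flat algebra over a local ring with nilpotent maximal ideal, whose closed
fibre is a separable field extension. -/
theorem indSmooth_of_flat_of_separable {S₀ D : Type u} [CommRing S₀] [IsLocalRing S₀] [CommRing D]
    [Algebra S₀ D] [Module.Flat S₀ D] (hnil : IsNilpotent (maximalIdeal S₀))
    (hmax : ((maximalIdeal S₀).map (algebraMap S₀ D)).IsMaximal)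
    (hsep : letI := Ideal.Quotient.field (maximalIdeal S₀)
      letI := Ideal.Quotient.field ((maximalIdeal S₀).map (algebraMap S₀ D))
      Algebra.IsSeparable (S₀ ⧸ maximalIdeal S₀)
        (D ⧸ (maximalIdeal S₀).map (algebraMap S₀ D))) :
    IndSmooth S₀ D := by
  refine IS2.main2022 (maximalIdeal S₀) hnil ?_
  letI := Ideal.Quotient.field (maximalIdeal S₀)
  letI := Ideal.Quotient.field ((maximalIdeal S₀).map (algebraMap S₀ D))
  haveI := hsep
  haveI := Groth.Agent.Lib.Helper1.NormalField.isGeometricallyReduced_of_isSeparable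
    (S₀ ⧸ maximalIdeal S₀) (D ⧸ (maximalIdeal S₀).map (algebraMap S₀ D))
  exact GS1.indSmooth_of_isGeometricallyReduced (S₀ ⧸ maximalIdeal S₀)
    (D ⧸ (maximalIdeal S₀).map (algebraMap S₀ D))


section AL3

variable {A₀ Λq DF : Type u} [CommRing A₀] [CommRing Λq] [CommRing DF] [IsLocalRing A₀]
  [IsLocalRing Λq] [IsLocalRing DF]
  (K₀ : Ideal Λq) [Algebra A₀ Λq] [Algebra A₀ DF] [Algebra DF (Λq ⧸ K₀)]

/-- the quotient square: `S₀ = A₀/J → D = D_F/J D_F → T = Λ_𝔮/JΛ_𝔮`. -/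
theorem quotient_square [IsScalarTower A₀ DF (Λq ⧸ K₀)]
    [Module.Flat A₀ Λq] [Module.Flat DF (Λq ⧸ K₀)]
    [IsLocalHom (algebraMap A₀ Λq)] (J : Ideal A₀)
    (hK₀ : K₀ ≤ J.map (algebraMap A₀ Λq)) (hJ1 : J ≤ maximalIdeal A₀)
    (hloc : ∀ a : DF, IsUnit (algebraMap DF (Λq ⧸ K₀) a) → IsUnit a)
    (hm1 : (maximalIdeal A₀).map (algebraMap A₀ Λq) = maximalIdeal Λq)
    (hm2 : (maximalIdeal DF).map (algebraMap DF (Λq ⧸ K₀)) =
      (maximalIdeal Λq).map (Ideal.Quotient.mk K₀)) :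
    ∃ (_ : Algebra (DF ⧸ J.map (algebraMap A₀ DF)) (Λq ⧸ J.map (algebraMap A₀ Λq)))
      (_ : IsScalarTower (A₀ ⧸ J) (DF ⧸ J.map (algebraMap A₀ DF))
        (Λq ⧸ J.map (algebraMap A₀ Λq))),
      (∀ (a : DF) (y : Λq), algebraMap DF (Λq ⧸ K₀) a = Ideal.Quotient.mk K₀ y →
        algebraMap (DF ⧸ J.map (algebraMap A₀ DF)) (Λq ⧸ J.map (algebraMap A₀ Λq))
          (Ideal.Quotient.mk _ a) = Ideal.Quotient.mk _ y) ∧
      Module.FaithfullyFlat (DF ⧸ J.map (algebraMap A₀ DF)) (Λq ⧸ J.map (algebraMap A₀ Λq)) ∧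
      Module.Flat (A₀ ⧸ J) (DF ⧸ J.map (algebraMap A₀ DF)) ∧
      J.map (algebraMap A₀ DF) ≤ maximalIdeal DF ∧
      ((maximalIdeal A₀).map (Ideal.Quotient.mk J)).map
        (algebraMap (A₀ ⧸ J) (DF ⧸ J.map (algebraMap A₀ DF))) =
        (maximalIdeal DF).map (Ideal.Quotient.mk (J.map (algebraMap A₀ DF))) := by
  classical
  -- basic inclusions
  have hJΛ : J.map (algebraMap A₀ Λq) ≤ maximalIdeal Λq := by
    rw [← hm1]
    exact Ideal.map_mono hJ1
  have hK₀m : K₀ ≤ maximalIdeal Λq := hK₀.trans hJΛ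
  have hmkL : ∀ a : A₀, algebraMap DF (Λq ⧸ K₀) (algebraMap A₀ DF a) =
      Ideal.Quotient.mk K₀ (algebraMap A₀ Λq a) := by
    intro a
    rw [← IsScalarTower.algebraMap_apply A₀ DF (Λq ⧸ K₀),
      IsScalarTower.algebraMap_apply A₀ Λq (Λq ⧸ K₀)]
    rfl
  haveI hLnt : Nontrivial (Λq ⧸ K₀) := by
    apply Ideal.Quotient.nontrivial_iff.mpr
    intro h
    rw [h] at hK₀m
    exact (maximalIdeal.isMaximal Λq).ne_top (top_le_iff.mp hK₀m)
  haveI : IsLocalRing (Λq ⧸ K₀) :=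
    IsLocalRing.of_surjective' (Ideal.Quotient.mk _) Ideal.Quotient.mk_surjective
  haveI hTnt : Nontrivial (Λq ⧸ J.map (algebraMap A₀ Λq)) := by
    apply Ideal.Quotient.nontrivial_iff.mpr
    intro h
    rw [h] at hJΛ
    exact (maximalIdeal.isMaximal Λq).ne_top (top_le_iff.mp hJΛ)
  haveI : IsLocalRing (Λq ⧸ J.map (algebraMap A₀ Λq)) :=
    IsLocalRing.of_surjective' (Ideal.Quotient.mk _) Ideal.Quotient.mk_surjective
  have hJ' : J.map (algebraMap A₀ DF) ≤ maximalIdeal DF := by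
    rw [Ideal.map_le_iff_le_comap]
    intro a ha
    rw [Ideal.mem_comap, mem_maximalIdeal]
    intro hu
    have h1 := hu.map (algebraMap DF (Λq ⧸ K₀))
    rw [hmkL] at h1
    have h2 : algebraMap A₀ Λq a ∈ maximalIdeal Λq := hJΛ (Ideal.mem_map_of_mem _ ha)
    haveI : IsLocalHom (Ideal.Quotient.mk K₀) :=
      IsLocalHom.of_surjective _ Ideal.Quotient.mk_surjective
    exact (mem_maximalIdeal _).mp h2 (isUnit_of_map_unit (Ideal.Quotient.mk K₀) _ h1)
  haveI hDnt : Nontrivial (DF ⧸ J.map (algebraMap A₀ DF)) := by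
    apply Ideal.Quotient.nontrivial_iff.mpr
    intro h
    rw [h] at hJ'
    exact (maximalIdeal.isMaximal DF).ne_top (top_le_iff.mp hJ')
  haveI : IsLocalRing (DF ⧸ J.map (algebraMap A₀ DF)) :=
    IsLocalRing.of_surjective' (Ideal.Quotient.mk _) Ideal.Quotient.mk_surjective
  haveI hS₀nt : Nontrivial (A₀ ⧸ J) := by
    apply Ideal.Quotient.nontrivial_iff.mpr
    intro h
    rw [h] at hJ1
    exact (maximalIdeal.isMaximal A₀).ne_top (top_le_iff.mp hJ1)
  haveI : IsLocalRing (A₀ ⧸ J) :=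
    IsLocalRing.of_surjective' (Ideal.Quotient.mk _) Ideal.Quotient.mk_surjective
  -- the map `D_F → T`
  let ρ : DF →+* (Λq ⧸ J.map (algebraMap A₀ Λq)) :=
    (Ideal.Quotient.factor hK₀).comp (algebraMap DF (Λq ⧸ K₀))
  have hρA : ∀ a : A₀, ρ (algebraMap A₀ DF a) = Ideal.Quotient.mk _ (algebraMap A₀ Λq a) := by
    intro a
    show Ideal.Quotient.factor hK₀ (algebraMap DF (Λq ⧸ K₀) (algebraMap A₀ DF a)) = _
    rw [hmkL, Ideal.Quotient.factor_mk]
  have hρ : ∀ a ∈ J.map (algebraMap A₀ DF), ρ a = 0 := by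
    have hle : J.map (algebraMap A₀ DF) ≤ RingHom.ker ρ := by
      rw [Ideal.map_le_iff_le_comap]
      intro a ha
      rw [Ideal.mem_comap, RingHom.mem_ker, hρA, Ideal.Quotient.eq_zero_iff_mem]
      exact Ideal.mem_map_of_mem _ ha
    exact fun a ha => RingHom.mem_ker.mp (hle ha)
  letI algDT : Algebra (DF ⧸ J.map (algebraMap A₀ DF)) (Λq ⧸ J.map (algebraMap A₀ Λq)) :=
    (Ideal.Quotient.lift (J.map (algebraMap A₀ DF)) ρ hρ).toAlgebra
  have halgDT : ∀ a : DF, algebraMap (DF ⧸ J.map (algebraMap A₀ DF))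
      (Λq ⧸ J.map (algebraMap A₀ Λq)) (Ideal.Quotient.mk _ a) = ρ a := fun a => rfl
  haveI tower : IsScalarTower (A₀ ⧸ J) (DF ⧸ J.map (algebraMap A₀ DF))
      (Λq ⧸ J.map (algebraMap A₀ Λq)) := by
    refine IsScalarTower.of_algebraMap_eq (fun x => ?_)
    obtain ⟨a, rfl⟩ := Ideal.Quotient.mk_surjective x
    show Ideal.Quotient.mk _ (algebraMap A₀ Λq a) =
      algebraMap (DF ⧸ J.map (algebraMap A₀ DF)) (Λq ⧸ J.map (algebraMap A₀ Λq))
        (Ideal.Quotient.mk _ (algebraMap A₀ DF a))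
    rw [halgDT, hρA]
  refine ⟨algDT, tower, ?_, ?_⟩
  · intro a y hay
    rw [halgDT]
    show Ideal.Quotient.factor hK₀ (algebraMap DF (Λq ⧸ K₀) a) = _
    rw [hay, Ideal.Quotient.factor_mk]
  -- flatness of `D → T`
  letI algLT : Algebra (Λq ⧸ K₀) (Λq ⧸ J.map (algebraMap A₀ Λq)) :=
    (Ideal.Quotient.factor hK₀).toAlgebra
  letI algDFT : Algebra DF (Λq ⧸ J.map (algebraMap A₀ Λq)) := ρ.toAlgebra
  haveI : IsScalarTower DF (Λq ⧸ K₀) (Λq ⧸ J.map (algebraMap A₀ Λq)) :=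
    IsScalarTower.of_algebraMap_eq (fun a => rfl)
  haveI : IsScalarTower DF (DF ⧸ J.map (algebraMap A₀ DF)) (Λq ⧸ J.map (algebraMap A₀ Λq)) :=
    IsScalarTower.of_algebraMap_eq (fun a => rfl)
  have hker : RingHom.ker (algebraMap (Λq ⧸ K₀) (Λq ⧸ J.map (algebraMap A₀ Λq))) =
      (J.map (algebraMap A₀ DF)).map (algebraMap DF (Λq ⧸ K₀)) := by
    show RingHom.ker (Ideal.Quotient.factor hK₀) = _
    rw [Ideal.Quotient.factor_ker hK₀, Ideal.map_map, Ideal.map_map]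
    congr 1
    ext a
    exact (hmkL a).symm
  haveI hflatDT : Module.Flat (DF ⧸ J.map (algebraMap A₀ DF)) (Λq ⧸ J.map (algebraMap A₀ Λq)) :=
    IN6.flat_quotient' (B := DF) (C := Λq ⧸ K₀) (J.map (algebraMap A₀ DF))
      (Ideal.Quotient.factor_surjective hK₀) hker
  -- local homomorphism
  haveI hlocDT : IsLocalHom (algebraMap (DF ⧸ J.map (algebraMap A₀ DF))
      (Λq ⧸ J.map (algebraMap A₀ Λq))) := by
    constructor
    intro x hx
    obtain ⟨a, rfl⟩ := Ideal.Quotient.mk_surjective x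
    rw [halgDT] at hx
    haveI : IsLocalHom (Ideal.Quotient.factor hK₀) :=
      IsLocalHom.of_surjective _ (Ideal.Quotient.factor_surjective hK₀)
    have h1 : IsUnit (algebraMap DF (Λq ⧸ K₀) a) :=
      isUnit_of_map_unit (Ideal.Quotient.factor hK₀) _ hx
    exact (hloc a h1).map _
  haveI hff : Module.FaithfullyFlat (DF ⧸ J.map (algebraMap A₀ DF))
      (Λq ⧸ J.map (algebraMap A₀ Λq)) := Module.FaithfullyFlat.of_flat_of_isLocalHom
  haveI hflatST : Module.Flat (A₀ ⧸ J) (Λq ⧸ J.map (algebraMap A₀ Λq)) :=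
    IS2.flat_quotient (R := A₀) (Λ := Λq) J
  have hflatSD : Module.Flat (A₀ ⧸ J) (DF ⧸ J.map (algebraMap A₀ DF)) :=
    Groth.Agent.Lib.Helper23.RegularHom2.flat_of_faithfullyFlat_comp (A₀ ⧸ J)
      (DF ⧸ J.map (algebraMap A₀ DF)) (Λq ⧸ J.map (algebraMap A₀ Λq))
  refine ⟨hff, hflatSD, hJ', ?_⟩
  -- the maximal ideals
  have hcm := Ideal.comap_map_eq_self_of_faithfullyFlat (A := DF ⧸ J.map (algebraMap A₀ DF))
    (B := Λq ⧸ J.map (algebraMap A₀ Λq))
  rw [← hcm (((maximalIdeal A₀).map (Ideal.Quotient.mk J)).map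
        (algebraMap (A₀ ⧸ J) (DF ⧸ J.map (algebraMap A₀ DF)))),
    ← hcm ((maximalIdeal DF).map (Ideal.Quotient.mk (J.map (algebraMap A₀ DF))))]
  congr 1
  have e1 : (((maximalIdeal A₀).map (Ideal.Quotient.mk J)).map
        (algebraMap (A₀ ⧸ J) (DF ⧸ J.map (algebraMap A₀ DF)))).map
        (algebraMap (DF ⧸ J.map (algebraMap A₀ DF)) (Λq ⧸ J.map (algebraMap A₀ Λq))) =
      (maximalIdeal Λq).map (Ideal.Quotient.mk (J.map (algebraMap A₀ Λq))) := by
    rw [Ideal.map_map, Ideal.map_map, ← hm1, Ideal.map_map]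
    congr 1
    ext a
    show algebraMap (DF ⧸ J.map (algebraMap A₀ DF)) (Λq ⧸ J.map (algebraMap A₀ Λq))
      (Ideal.Quotient.mk _ (algebraMap A₀ DF a)) = Ideal.Quotient.mk _ (algebraMap A₀ Λq a)
    rw [halgDT, hρA]
  have e2 : ((maximalIdeal DF).map (Ideal.Quotient.mk (J.map (algebraMap A₀ DF)))).map
        (algebraMap (DF ⧸ J.map (algebraMap A₀ DF)) (Λq ⧸ J.map (algebraMap A₀ Λq))) =
      (maximalIdeal Λq).map (Ideal.Quotient.mk (J.map (algebraMap A₀ Λq))) := by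
    rw [Ideal.map_map]
    have h1 : (algebraMap (DF ⧸ J.map (algebraMap A₀ DF)) (Λq ⧸ J.map (algebraMap A₀ Λq))).comp
        (Ideal.Quotient.mk (J.map (algebraMap A₀ DF))) =
        (Ideal.Quotient.factor hK₀).comp (algebraMap DF (Λq ⧸ K₀)) := rfl
    rw [h1, ← Ideal.map_map, hm2, Ideal.map_map]
    congr 1
  rw [e1, e2]

end AL3

section AL4

/-- separability of the closed fibre, from a differential basis. -/
theorem isSeparable_fibre {k F S₀ D : Type u} [Field k] [Field F] [Algebra k F]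
    [Algebra.EssFiniteType k F] [CommRing S₀] [IsLocalRing S₀] [CommRing D]
    [Algebra k S₀] [Algebra S₀ D] [Algebra k D] [IsScalarTower k S₀ D]
    (hmax : ((maximalIdeal S₀).map (algebraMap S₀ D)).IsMaximal)
    (e₀ : F →+* D)
    (h1 : ∀ c : k, e₀ (algebraMap k F c) - algebraMap k D c ∈
      (maximalIdeal S₀).map (algebraMap S₀ D))
    (h2 : ∀ d : D, ∃ f : F, d - e₀ f ∈ (maximalIdeal S₀).map (algebraMap S₀ D))
    {ι : Type*} (x : ι → F)
    (hx : Submodule.span F (Set.range fun i => KaehlerDifferential.D k F (x i)) = ⊤)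
    (h3 : ∀ i, ∃ s₀ : S₀, e₀ (x i) - algebraMap S₀ D s₀ ∈
      (maximalIdeal S₀).map (algebraMap S₀ D)) :
    letI := Ideal.Quotient.field (maximalIdeal S₀)
    letI := Ideal.Quotient.field ((maximalIdeal S₀).map (algebraMap S₀ D))
    Algebra.IsSeparable (S₀ ⧸ maximalIdeal S₀)
      (D ⧸ (maximalIdeal S₀).map (algebraMap S₀ D)) := by
  letI := Ideal.Quotient.field (maximalIdeal S₀)
  letI := Ideal.Quotient.field ((maximalIdeal S₀).map (algebraMap S₀ D))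
  haveI : IsScalarTower k (S₀ ⧸ maximalIdeal S₀)
      (D ⧸ (maximalIdeal S₀).map (algebraMap S₀ D)) := by
    refine IsScalarTower.of_algebraMap_eq (fun c => ?_)
    show Ideal.Quotient.mk _ (algebraMap k D c) =
      Ideal.Quotient.mk _ (algebraMap S₀ D (algebraMap k S₀ c))
    rw [← IsScalarTower.algebraMap_apply k S₀ D]
  let e : F →ₐ[k] (D ⧸ (maximalIdeal S₀).map (algebraMap S₀ D)) :=
    { toRingHom := (Ideal.Quotient.mk _).comp e₀
      commutes' := by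
        intro c
        show Ideal.Quotient.mk _ (e₀ (algebraMap k F c)) = Ideal.Quotient.mk _ (algebraMap k D c)
        rw [← sub_eq_zero, ← map_sub, Ideal.Quotient.eq_zero_iff_mem]
        exact h1 c }
  have he : Function.Surjective e := by
    intro y
    obtain ⟨d, rfl⟩ := Ideal.Quotient.mk_surjective y
    obtain ⟨f, hf⟩ := h2 d
    refine ⟨f, ?_⟩
    show Ideal.Quotient.mk _ (e₀ f) = Ideal.Quotient.mk _ d
    rw [eq_comm, ← sub_eq_zero, ← map_sub, Ideal.Quotient.eq_zero_iff_mem]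
    exact hf
  refine IN6.isSeparable_of_span_D (k := k) e he x hx ?_
  intro i
  obtain ⟨s₀, hs₀⟩ := h3 i
  refine ⟨Ideal.Quotient.mk _ s₀, ?_⟩
  show Ideal.Quotient.mk _ (algebraMap S₀ D s₀) = Ideal.Quotient.mk _ (e₀ (x i))
  rw [eq_comm, ← sub_eq_zero, ← map_sub, Ideal.Quotient.eq_zero_iff_mem]
  exact hs₀

end AL4

section AL6

/-- the abstract Artinian data. -/
theorem artinian_data {k F A₀ Λq DF : Type u} [Field k] [Field F] [Algebra k F]
    [Algebra.EssFiniteType k F] [CommRing A₀] [CommRing Λq] [CommRing DF] [IsLocalRing A₀]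
    [IsLocalRing Λq] [IsLocalRing DF] [IsNoetherianRing DF]
    (K₀ : Ideal Λq) [Algebra A₀ Λq] [Algebra A₀ DF] [Algebra DF (Λq ⧸ K₀)]
    [IsScalarTower A₀ DF (Λq ⧸ K₀)] [Algebra k A₀] [Algebra k DF] [IsScalarTower k A₀ DF]
    [Module.Flat A₀ Λq] [Module.Flat DF (Λq ⧸ K₀)]
    [IsLocalHom (algebraMap A₀ Λq)] (J : Ideal A₀)
    (hK₀ : K₀ ≤ J.map (algebraMap A₀ Λq)) (hJ1 : J ≤ maximalIdeal A₀)
    (hloc : ∀ a : DF, IsUnit (algebraMap DF (Λq ⧸ K₀) a) → IsUnit a)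
    (hm1 : (maximalIdeal A₀).map (algebraMap A₀ Λq) = maximalIdeal Λq)
    (hm2 : (maximalIdeal DF).map (algebraMap DF (Λq ⧸ K₀)) =
      (maximalIdeal Λq).map (Ideal.Quotient.mk K₀))
    (hJ3 : ∃ M : ℕ, maximalIdeal A₀ ^ M ≤ J)
    (e₁ : F →+* DF)
    (h1 : ∀ c : k, e₁ (algebraMap k F c) - algebraMap k DF c ∈ maximalIdeal DF)
    (h2 : ∀ a : DF, ∃ f : F, a - e₁ f ∈ maximalIdeal DF)
    {ι : Type*} (x : ι → F)
    (hx : Submodule.span F (Set.range fun i => KaehlerDifferential.D k F (x i)) = ⊤)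
    (h3 : ∀ i, ∃ a₀ : A₀, e₁ (x i) = algebraMap A₀ DF a₀) :
    ∃ (D : Type u) (_ : CommRing D) (_ : Algebra (A₀ ⧸ J) D)
      (_ : Algebra D (Λq ⧸ J.map (algebraMap A₀ Λq))) (_ : Algebra k D)
      (_ : IsScalarTower (A₀ ⧸ J) D (Λq ⧸ J.map (algebraMap A₀ Λq)))
      (_ : IsScalarTower k (A₀ ⧸ J) D),
      IndSmooth (A₀ ⧸ J) D ∧ Module.FaithfullyFlat D (Λq ⧸ J.map (algebraMap A₀ Λq)) ∧
      IsNoetherianRing D ∧
      ∃ πD : DF →ₐ[k] D, ∀ (a : DF) (y : Λq),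
        algebraMap DF (Λq ⧸ K₀) a = Ideal.Quotient.mk K₀ y →
        algebraMap D (Λq ⧸ J.map (algebraMap A₀ Λq)) (πD a) = Ideal.Quotient.mk _ y := by
  classical
  obtain ⟨algDT, tower, hcompat, hff, hflatSD, hJ', hmax⟩ :=
    quotient_square K₀ J hK₀ hJ1 hloc hm1 hm2
  haveI hS₀nt : Nontrivial (A₀ ⧸ J) := by
    apply Ideal.Quotient.nontrivial_iff.mpr
    intro h
    rw [h] at hJ1
    exact (maximalIdeal.isMaximal _).ne_top (top_le_iff.mp hJ1)
  haveI : IsLocalRing (A₀ ⧸ J) :=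
    IsLocalRing.of_surjective' (Ideal.Quotient.mk _) Ideal.Quotient.mk_surjective
  haveI hDnt : Nontrivial (DF ⧸ J.map (algebraMap A₀ DF)) := by
    apply Ideal.Quotient.nontrivial_iff.mpr
    intro h
    rw [h] at hJ'
    exact (maximalIdeal.isMaximal _).ne_top (top_le_iff.mp hJ')
  haveI : IsLocalRing (DF ⧸ J.map (algebraMap A₀ DF)) :=
    IsLocalRing.of_surjective' (Ideal.Quotient.mk _) Ideal.Quotient.mk_surjective
  have hmS₀ := maximalIdeal_quotient J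
  have hmD := maximalIdeal_quotient (J.map (algebraMap A₀ DF))
  have hmax' : (maximalIdeal (A₀ ⧸ J)).map
      (algebraMap (A₀ ⧸ J) (DF ⧸ J.map (algebraMap A₀ DF))) =
      maximalIdeal (DF ⧸ J.map (algebraMap A₀ DF)) := by
    rw [hmS₀, hmax, ← hmD]
  haveI towerk : IsScalarTower k (A₀ ⧸ J) (DF ⧸ J.map (algebraMap A₀ DF)) := by
    refine IsScalarTower.of_algebraMap_eq (fun c => ?_)
    show Ideal.Quotient.mk _ (algebraMap k DF c) =
      Ideal.Quotient.mk _ (algebraMap A₀ DF (algebraMap k A₀ c))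
    rw [← IsScalarTower.algebraMap_apply k A₀ DF]
  refine ⟨DF ⧸ J.map (algebraMap A₀ DF), inferInstance, inferInstance, algDT, inferInstance,
    tower, towerk, ?_, hff, inferInstance, Ideal.Quotient.mkₐ k _, fun a y hay => hcompat a y hay⟩
  -- ind-smoothness
  haveI := hflatSD
  have hnil : IsNilpotent (maximalIdeal (A₀ ⧸ J)) := by
    obtain ⟨M, hM⟩ := hJ3
    refine ⟨M, ?_⟩
    rw [hmS₀, ← Ideal.map_pow, Ideal.zero_eq_bot, ← le_bot_iff]
    refine (Ideal.map_mono hM).trans ?_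
    rw [Ideal.map_quotient_self]
  have hmaxI : ((maximalIdeal (A₀ ⧸ J)).map
      (algebraMap (A₀ ⧸ J) (DF ⧸ J.map (algebraMap A₀ DF)))).IsMaximal := by
    rw [hmax']
    infer_instance
  refine indSmooth_of_flat_of_separable hnil hmaxI ?_
  have hkey : ∀ a : DF, a ∈ maximalIdeal DF →
      Ideal.Quotient.mk (J.map (algebraMap A₀ DF)) a ∈
      (maximalIdeal (A₀ ⧸ J)).map (algebraMap (A₀ ⧸ J) (DF ⧸ J.map (algebraMap A₀ DF))) := by
    intro a ha
    rw [hmax', hmD]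
    exact Ideal.mem_map_of_mem _ ha
  refine isSeparable_fibre (k := k) (F := F) hmaxI
    ((Ideal.Quotient.mk _).comp e₁) ?_ ?_ x hx ?_
  · intro c
    have := hkey _ (h1 c)
    rw [map_sub] at this
    exact this
  · intro d
    obtain ⟨a, rfl⟩ := Ideal.Quotient.mk_surjective d
    obtain ⟨f, hf⟩ := h2 a
    refine ⟨f, ?_⟩
    have := hkey _ hf
    rw [map_sub] at this
    exact this
  · intro i
    obtain ⟨a₀, ha₀⟩ := h3 i
    refine ⟨Ideal.Quotient.mk _ a₀, ?_⟩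
    have h2' : ((Ideal.Quotient.mk (J.map (algebraMap A₀ DF))).comp e₁) (x i) =
        algebraMap (A₀ ⧸ J) (DF ⧸ J.map (algebraMap A₀ DF)) (Ideal.Quotient.mk _ a₀) := by
      show Ideal.Quotient.mk _ (e₁ (x i)) = _
      rw [ha₀]
      rfl
    rw [h2', sub_self]
    exact Ideal.zero_mem _

end AL6

section DF

variable {k Λ : Type u} [Field k] [CommRing Λ] [Algebra k Λ] [IsNoetherianRing Λ]
  (𝔮 : Ideal Λ) [𝔮.IsPrime] (N : ℕ)
  (σ : ResidueField (LL 𝔮 N) →+* LL 𝔮 N) (hσ : ∀ x, residue _ (σ x) = x)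
  {s : ℕ} (lam : Fin s → LL 𝔮 N) (hlam : ∀ i, lam i ∈ maximalIdeal (LL 𝔮 N))
  (F : IntermediateField k (ResidueField (LL 𝔮 N)))
  (hk : ∀ c : k, algebraMap k (LL 𝔮 N) c ∈ (PsiF σ lam F).range)
  {R₀ : Type u} [CommRing R₀] [Algebra k R₀] (φ₀ : R₀ →+* Λ)
  (hφ₀k : ∀ c, φ₀ (algebraMap k R₀ c) = algebraMap k Λ c)
  (hφ₀ : ∀ f, mkL 𝔮 N (φ₀ f) ∈ subalg σ lam F hk)

theorem hnilL : IsNilpotent (maximalIdeal (LL 𝔮 N)) := ⟨N + 1, pow_maximalIdeal_LL 𝔮 N⟩

/-- the map `R₀ → D_F`. -/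
noncomputable def psi0 : R₀ →+* ↥(subalg σ lam F hk) :=
  RingHom.codRestrict ((mkL 𝔮 N).comp φ₀) (subalg σ lam F hk) hφ₀

theorem psi0_val (f : R₀) : ((psi0 𝔮 N σ lam F hk φ₀ hφ₀ f : ↥(subalg σ lam F hk)) : LL 𝔮 N) =
    mkL 𝔮 N (φ₀ f) := rfl

include hσ hlam in
theorem isUnit_psi0 (y : (𝔮.comap φ₀).primeCompl) : IsUnit (psi0 𝔮 N σ lam F hk φ₀ hφ₀ y) := by
  apply isUnit_of_notMem σ lam F hσ hlam hk (hnilL 𝔮 N)
  rw [psi0_val, mkL_mem_maximalIdeal_iff]
  exact y.2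

/-- the map `A₀ → D_F`. -/
noncomputable def psi : Localization.AtPrime (𝔮.comap φ₀) →+* ↥(subalg σ lam F hk) :=
  IsLocalization.lift (M := (𝔮.comap φ₀).primeCompl) (g := psi0 𝔮 N σ lam F hk φ₀ hφ₀)
    (isUnit_psi0 𝔮 N σ hσ lam hlam F hk φ₀ hφ₀)

theorem psi_algebraMap (f : R₀) :
    psi 𝔮 N σ hσ lam hlam F hk φ₀ hφ₀ (algebraMap R₀ (Localization.AtPrime (𝔮.comap φ₀)) f) =
      psi0 𝔮 N σ lam F hk φ₀ hφ₀ f :=
  IsLocalization.lift_eq _ f

attribute [local instance] IN11.algA0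

theorem psi_val (a : Localization.AtPrime (𝔮.comap φ₀)) :
    ((psi 𝔮 N σ hσ lam hlam F hk φ₀ hφ₀ a : ↥(subalg σ lam F hk)) : LL 𝔮 N) =
      Ideal.Quotient.mk _ (algebraMap (Localization.AtPrime (𝔮.comap φ₀))
        (Localization.AtPrime 𝔮) a) := by
  have h : ((subalg σ lam F hk).val.toRingHom.comp (psi 𝔮 N σ hσ lam hlam F hk φ₀ hφ₀)) =
      (Ideal.Quotient.mk ((maximalIdeal (Localization.AtPrime 𝔮)) ^ (N + 1))).comp
        (algebraMap (Localization.AtPrime (𝔮.comap φ₀)) (Localization.AtPrime 𝔮)) := by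
    apply IsLocalization.ringHom_ext (𝔮.comap φ₀).primeCompl
    ext f
    show ((psi 𝔮 N σ hσ lam hlam F hk φ₀ hφ₀ (algebraMap R₀ _ f) : ↥(subalg σ lam F hk)) : LL 𝔮 N) =
      Ideal.Quotient.mk _ (algebraMap (Localization.AtPrime (𝔮.comap φ₀))
        (Localization.AtPrime 𝔮) (algebraMap R₀ _ f))
    rw [psi_algebraMap, psi0_val, IN11.algA0_map]
    rfl
  exact DFunLike.congr_fun h a


include hσ hlam in
theorem q_C_sub_mem (c : k) [IsLocalRing ↥(subalg σ lam F hk)] :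
    q σ lam F hk (C (algebraMap k F c)) - algebraMap k ↥(subalg σ lam F hk) c ∈
      maximalIdeal ↥(subalg σ lam F hk) := by
  rw [mem_maximalIdeal_subalg σ lam F hσ hlam hk (hnilL 𝔮 N)]
  show PsiF σ lam F (C (algebraMap k F c)) - algebraMap k (LL 𝔮 N) c ∈ maximalIdeal (LL 𝔮 N)
  rw [PsiF_C, ← residue_eq_zero_iff, map_sub, hσ, sub_eq_zero]
  rfl

include hσ hlam in
theorem q_sub_C_mem (P : MvPolynomial (Fin s) F) [IsLocalRing ↥(subalg σ lam F hk)] :
    q σ lam F hk P - q σ lam F hk (C (constantCoeff P)) ∈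
      maximalIdeal ↥(subalg σ lam F hk) := by
  rw [mem_maximalIdeal_subalg σ lam F hσ hlam hk (hnilL 𝔮 N), ← map_sub, q_val,
    ← residue_eq_zero_iff, residue_PsiF σ lam F hσ hlam, map_sub, constantCoeff_C, sub_self,
    map_zero]


include hσ hlam hφ₀ hφ₀k in
/-- Stage A2: the Artinian data. -/
theorem stageA2 (hspanlam : Ideal.span (Set.range lam) = maximalIdeal (LL 𝔮 N))
    [Module.Flat (subalg σ lam F hk) (LL 𝔮 N)]
    [Module.Flat (Localization.AtPrime (𝔮.comap φ₀)) (Localization.AtPrime 𝔮)]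
    (hm1 : (maximalIdeal (Localization.AtPrime (𝔮.comap φ₀))).map
      (algebraMap (Localization.AtPrime (𝔮.comap φ₀)) (Localization.AtPrime 𝔮)) =
        maximalIdeal (Localization.AtPrime 𝔮))
    [Algebra.EssFiniteType k F]
    {t : ℕ} (xr : Fin t → R₀) (x : Fin t → Λ) (hxr : ∀ i, φ₀ (xr i) = x i)
    (hxF : ∀ i, residue _ (mkL 𝔮 N (x i)) ∈ F)
    (hxσ : ∀ i, mkL 𝔮 N (x i) = σ (residue _ (mkL 𝔮 N (x i))))
    (hspanD : Submodule.span F (Set.range fun i => KaehlerDifferential.D k F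
      ⟨residue _ (mkL 𝔮 N (x i)), hxF i⟩) = ⊤)
    (J : Ideal (Localization.AtPrime (𝔮.comap φ₀)))
    (hJ1 : J ≤ maximalIdeal (Localization.AtPrime (𝔮.comap φ₀)))
    (hJ2 : maximalIdeal (Localization.AtPrime 𝔮) ^ (N + 1) ≤
      J.map (algebraMap (Localization.AtPrime (𝔮.comap φ₀)) (Localization.AtPrime 𝔮)))
    (hJ3 : ∃ M : ℕ, maximalIdeal (Localization.AtPrime (𝔮.comap φ₀)) ^ M ≤ J)
    {A : Type u} [CommRing A] [Algebra k A] (φ : A →ₐ[k] Λ)
    (hφA : ∀ a, mkL 𝔮 N (φ a) ∈ subalg σ lam F hk) :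
    ∃ (D : Type u) (_ : CommRing D) (_ : Algebra (Localization.AtPrime (𝔮.comap φ₀) ⧸ J) D)
      (_ : Algebra D (Localization.AtPrime 𝔮 ⧸ J.map
        (algebraMap (Localization.AtPrime (𝔮.comap φ₀)) (Localization.AtPrime 𝔮))))
      (_ : Algebra k D)
      (_ : IsScalarTower (Localization.AtPrime (𝔮.comap φ₀) ⧸ J) D
        (Localization.AtPrime 𝔮 ⧸ J.map
          (algebraMap (Localization.AtPrime (𝔮.comap φ₀)) (Localization.AtPrime 𝔮))))
      (_ : IsScalarTower k (Localization.AtPrime (𝔮.comap φ₀) ⧸ J) D),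
      IndSmooth (Localization.AtPrime (𝔮.comap φ₀) ⧸ J) D ∧
      Module.FaithfullyFlat D (Localization.AtPrime 𝔮 ⧸ J.map
        (algebraMap (Localization.AtPrime (𝔮.comap φ₀)) (Localization.AtPrime 𝔮))) ∧
      IsNoetherianRing D ∧
      ∃ φD : A →ₐ[k] D, ∀ a, algebraMap D (Localization.AtPrime 𝔮 ⧸ J.map
        (algebraMap (Localization.AtPrime (𝔮.comap φ₀)) (Localization.AtPrime 𝔮))) (φD a) =
        Ideal.Quotient.mk _ (algebraMap Λ (Localization.AtPrime 𝔮) (φ a)) := by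
  classical
  haveI hlocDF : IsLocalRing ↥(subalg σ lam F hk) :=
    isLocalRing_subalg σ lam F hσ hlam hk (hnilL 𝔮 N)
  haveI hnoethDF : IsNoetherianRing ↥(subalg σ lam F hk) :=
    isNoetherianRing_of_surjective _ _ (q σ lam F hk) (q_surjective σ lam F hk)
  letI algA0DF : Algebra (Localization.AtPrime (𝔮.comap φ₀)) ↥(subalg σ lam F hk) :=
    (psi 𝔮 N σ hσ lam hlam F hk φ₀ hφ₀).toAlgebra
  have halgA0DF : ∀ a, algebraMap (Localization.AtPrime (𝔮.comap φ₀)) ↥(subalg σ lam F hk) a =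
      psi 𝔮 N σ hσ lam hlam F hk φ₀ hφ₀ a := fun a => rfl
  haveI tower1 : IsScalarTower (Localization.AtPrime (𝔮.comap φ₀)) ↥(subalg σ lam F hk)
      (Localization.AtPrime 𝔮 ⧸ maximalIdeal (Localization.AtPrime 𝔮) ^ (N + 1)) := by
    refine IsScalarTower.of_algebraMap_eq (fun a => ?_)
    exact (psi_val 𝔮 N σ hσ lam hlam F hk φ₀ hφ₀ a).symm
  have hloc : ∀ a : ↥(subalg σ lam F hk), IsUnit (algebraMap ↥(subalg σ lam F hk)
      (Localization.AtPrime 𝔮 ⧸ maximalIdeal (Localization.AtPrime 𝔮) ^ (N + 1)) a) →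
      IsUnit a := by
    intro a ha
    apply isUnit_of_notMem σ lam F hσ hlam hk (hnilL 𝔮 N)
    intro hmem
    exact (mem_maximalIdeal _).mp hmem ha
  have hm2 : (maximalIdeal ↥(subalg σ lam F hk)).map (algebraMap ↥(subalg σ lam F hk)
      (Localization.AtPrime 𝔮 ⧸ maximalIdeal (Localization.AtPrime 𝔮) ^ (N + 1))) =
      (maximalIdeal (Localization.AtPrime 𝔮)).map (Ideal.Quotient.mk _) := by
    rw [← maximalIdeal_LL]
    exact PB6.map_maximalIdeal_subalg σ lam F hσ hlam hk (hnilL 𝔮 N) hspanlam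
  haveI : Module.Flat ↥(subalg σ lam F hk)
      (Localization.AtPrime 𝔮 ⧸ maximalIdeal (Localization.AtPrime 𝔮) ^ (N + 1)) :=
    ‹Module.Flat (subalg σ lam F hk) (LL 𝔮 N)›
  -- the `k`-structure
  haveI towerk : IsScalarTower k (Localization.AtPrime (𝔮.comap φ₀)) ↥(subalg σ lam F hk) := by
    refine IsScalarTower.of_algebraMap_eq (fun c => ?_)
    rw [IsScalarTower.algebraMap_apply k R₀ (Localization.AtPrime (𝔮.comap φ₀)), halgA0DF,
      psi_algebraMap]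
    apply Subtype.ext
    rw [psi0_val, hφ₀k]
    exact ((mkLₐ 𝔮 N : Λ →ₐ[k] LL 𝔮 N).commutes c).symm
  obtain ⟨D, i1, i2, i3, i4, i5, i6, hind, hff, hnoeth, πD, hπD⟩ :=
    artinian_data (k := k) (F := F) (maximalIdeal (Localization.AtPrime 𝔮) ^ (N + 1)) J hJ2 hJ1
      hloc hm1 hm2 hJ3 ((q σ lam F hk).comp C)
      (fun c => q_C_sub_mem 𝔮 N σ hσ lam hlam F hk c)
      (fun a => by
        obtain ⟨P, rfl⟩ := q_surjective σ lam F hk a
        exact ⟨constantCoeff P, q_sub_C_mem 𝔮 N σ hσ lam hlam F hk P⟩)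
      (fun i => (⟨residue _ (mkL 𝔮 N (x i)), hxF i⟩ : F)) hspanD
      (fun i => by
        refine ⟨algebraMap R₀ _ (xr i), ?_⟩
        rw [halgA0DF, psi_algebraMap]
        apply Subtype.ext
        show ((q σ lam F hk (C _) : ↥(subalg σ lam F hk)) : LL 𝔮 N) = _
        rw [psi0_val, q_val, PsiF_C, hxr]
        exact (hxσ i).symm)
  refine ⟨D, i1, i2, i3, i4, i5, i6, hind, hff, hnoeth, ?_⟩
  let φDF : A →ₐ[k] ↥(subalg σ lam F hk) :=
    ((mkLₐ 𝔮 N : Λ →ₐ[k] LL 𝔮 N).comp φ).codRestrict (subalg σ lam F hk) hφA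
  refine ⟨πD.comp φDF, fun a => ?_⟩
  exact hπD (φDF a) (algebraMap Λ (Localization.AtPrime 𝔮) (φ a)) rfl

end DF

end Groth.Agent.Lib.Helper8.IN13
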