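import Mathlib
import Groth.Prelude.Def_Smoothing
import Groth.Agent.Lib.Helper8.FN8
import Groth.Agent.Lib.Helper8.DZ1
import Groth.Agent.S6829

set_option backward.isDefEq.respectTransparency.types false
set_option autoImplicit false
set_option linter.unusedSectionVars false
set_option linter.style.haveILetI false

namespace Groth.Agent.Lib.Helper8.IN14

open Smoothing MvPolynomial IsLocalRing TensorProduct Groth.Agent.Lib.Helper8

universe u

/-- base change of the singular ideal. -/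
theorem tmul_mem_singularIdeal {P R Cr : Type u} [CommRing P] [CommRing R] [Algebra P R]
    [CommRing Cr] [Algebra P Cr] [Algebra.FinitePresentation P Cr] (y : Cr)
    (hy : y ∈ singularIdeal P Cr) : (1 : R) ⊗ₜ[P] y ∈ singularIdeal R (R ⊗[P] Cr) := by
  rw [SI1.mem_singularIdeal_iff] at hy ⊢
  haveI := hy
  haveI : Algebra.Smooth R (R ⊗[P] Localization.Away y) := inferInstance
  exact Algebra.Smooth.of_equiv
    (IsLocalization.Away.tensorProductEquivTMulRight P R y (Localization.Away y))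

section BBext

variable (k : Type u) [CommRing k] {A : Type u} [CommRing A] [Algebra k A] (d r n : ℕ)
  (a : Fin r → A)

open BB1 BB2 BB3

/-- ring homs out of `BB` are determined on the base, on `A`, and on the variables. -/
theorem BB_ringHom_ext {T' : Type*} [CommRing T'] (Θ₁ Θ₂ : BB k d r n a →+* T')
    (h1 : ∀ x : MvPolynomial (Fin d) k,
      Θ₁ (algebraMap _ (BB k d r n a) x) = Θ₂ (algebraMap _ (BB k d r n a) x))
    (h2 : ∀ a₀ : A, Θ₁ (inclB k d r n a a₀) = Θ₂ (inclB k d r n a a₀))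
    (h3 : ∀ v : Fin d × Fin r, Θ₁ (Ideal.Quotient.mk _ (X v)) = Θ₂ (Ideal.Quotient.mk _ (X v))) :
    Θ₁ = Θ₂ := by
  let f₁ : MvPolynomial (Fin d) k ⊗[k] A →+* T' :=
    (Θ₁.comp ((Ideal.Quotient.mk _).comp C) : A' k A d →+* T')
  let f₂ : MvPolynomial (Fin d) k ⊗[k] A →+* T' :=
    (Θ₂.comp ((Ideal.Quotient.mk _).comp C) : A' k A d →+* T')
  have key : ∀ y : MvPolynomial (Fin d) k ⊗[k] A, f₁ y = f₂ y := by
    intro y
    induction y using TensorProduct.induction_on with
    | zero => rw [map_zero, map_zero]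
    | tmul x a₀ =>
      have e1 : (x ⊗ₜ[k] a₀ : MvPolynomial (Fin d) k ⊗[k] A) =
          (x ⊗ₜ[k] (1 : A)) * ((1 : MvPolynomial (Fin d) k) ⊗ₜ[k] a₀) := by
        rw [Algebra.TensorProduct.tmul_mul_tmul, mul_one, one_mul]
      rw [e1, map_mul, map_mul]
      have e3 : f₁ (x ⊗ₜ[k] (1 : A)) = f₂ (x ⊗ₜ[k] (1 : A)) := h1 x
      have e4 : f₁ ((1 : MvPolynomial (Fin d) k) ⊗ₜ[k] a₀) =
          f₂ ((1 : MvPolynomial (Fin d) k) ⊗ₜ[k] a₀) := h2 a₀
      rw [e3, e4]
    | add y z hy hz => rw [map_add, map_add, hy, hz]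
  apply Ideal.Quotient.ringHom_ext
  apply MvPolynomial.ringHom_ext
  · intro y
    exact key y
  · intro v
    exact h3 v

variable {Λ : Type u} [CommRing Λ] [Algebra (MvPolynomial (Fin d) k) Λ] [Algebra k Λ]
  [IsScalarTower k (MvPolynomial (Fin d) k) Λ] (φ : A →ₐ[k] Λ)

theorem psiB_X (lam : Fin d → Fin r → Λ)
    (hrel : ∀ i, (algebraMap (MvPolynomial (Fin d) k) Λ (X i)) ^ n = ∑ j, lam i j * φ (a j))
    (v : Fin d × Fin r) :
    psiB k d r n a φ lam hrel (Ideal.Quotient.mk _ (X v)) = lam v.1 v.2 := by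
  show psiP k d r φ lam (X v) = _
  rw [psiP_X]

end BBext


section AR

/-- the Artinian step from a factorization through a smooth algebra over the localized base. -/
theorem artinian_resolvable {R' C' Λ' SK TK B : Type u} [CommRing R'] [IsNoetherianRing R']
    [CommRing C'] [Algebra R' C'] [Algebra.FinitePresentation R' C'] [CommRing Λ'] [Algebra R' Λ']
    (φ' : C' →ₐ[R'] Λ') (𝔮' : Ideal Λ') [𝔮'.IsPrime]
    (hmin' : 𝔮' ∈ (singRad R' φ').minimalPrimes)
    [CommRing SK] [Algebra R' SK] [IsLocalization.AtPrime SK (𝔮'.comap (algebraMap R' Λ'))]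
    [CommRing TK] [Algebra Λ' TK] [IsLocalization.AtPrime TK 𝔮'] [Algebra R' TK]
    [IsScalarTower R' Λ' TK] [Algebra SK TK] [IsScalarTower R' SK TK]
    (hdim : ringKrullDim TK = 0)
    [CommRing B] [Algebra SK B] [Algebra.Smooth SK B] [Algebra R' B] [IsScalarTower R' SK B]
    (g₁ : C' →ₐ[R'] B) (β : B →ₐ[SK] TK)
    (hβ : ∀ x, β (g₁ x) = algebraMap Λ' TK (φ' x)) :
    Resolvable R' φ' 𝔮' := by
  refine DZ1.main2034 φ' 𝔮' hmin' (Rₚ := SK) (Λq := TK) hdim ?_
  refine ⟨B, inferInstance, inferInstance, inferInstance,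
    Algebra.TensorProduct.lift (Algebra.ofId SK B) g₁ (fun _ _ => Commute.all _ _), β, ?_, ?_, ?_⟩
  · apply Algebra.TensorProduct.ext'
    intro s x
    rw [AlgHom.comp_apply, Algebra.TensorProduct.lift_tmul, Algebra.TensorProduct.lift_tmul,
      map_mul, hβ]
    congr 1
    exact β.commutes s
  · rw [AZ1.singRad_eq_top_of_smooth β]
    exact le_top
  · rw [AZ1.singRad_eq_top_of_smooth β]
    intro hle
    have hprime : (𝔮'.map (algebraMap Λ' TK)).IsPrime :=
      IsLocalization.isPrime_of_isPrime_disjoint 𝔮'.primeCompl TK 𝔮' inferInstance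
        (by
          rw [Set.disjoint_left]
          intro x hx hx'
          exact hx hx')
    exact hprime.ne_top (top_le_iff.mp hle)

end AR

section EP1

variable {k A Λ : Type u} [Field k] [CommRing A] [Algebra k A]
    [Algebra.FinitePresentation k A] [CommRing Λ] [Algebra k Λ] [IsNoetherianRing Λ]

open BB1 BB2 BB3

/-- the general second half: reduction to the Artinian factorization. -/
theorem ep1 (φ : A →ₐ[k] Λ) (𝔮 : Ideal Λ) [𝔮.IsPrime] (hmin : 𝔮 ∈ (singRad k φ).minimalPrimes)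
    {d r n : ℕ} (hdpos : 0 < d) (a : Fin r → A) (haH : ∀ j, a j ∈ singularIdeal k A)
    (ha' : Ideal.span (Set.range a) = singularIdeal k A)
    (Cr : Type u) [CommRing Cr] [Algebra (BB k d r n a) Cr] [Algebra (MvPolynomial (Fin d) k) Cr]
    [IsScalarTower (MvPolynomial (Fin d) k) (BB k d r n a) Cr]
    [Algebra.FinitePresentation (MvPolynomial (Fin d) k) Cr]
    (ret : Cr →ₐ[BB k d r n a] BB k d r n a)
    (hCsing : ∀ b ∈ singularIdeal (MvPolynomial (Fin d) k) (BB k d r n a),
        algebraMap (BB k d r n a) Cr b ∈ singularIdeal (MvPolynomial (Fin d) k) Cr)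
    (c : ℕ) (hc : 0 < c)
    (hstd : ∀ i : Fin d, IsStrictlyStandard (MvPolynomial (Fin d) k) Cr
      (algebraMap (MvPolynomial (Fin d) k) Cr (X i ^ c)))
    (R : Type u) [CommRing R] [IsNoetherianRing R] [Algebra k R] [Algebra.FormallySmooth k R]
    [Algebra.FinitePresentation k R] [Algebra R Λ] [IsScalarTower k R Λ]
    (γ : Fin d → R) (lam : Fin d → Fin r → Λ)
    (hrel : ∀ i, (algebraMap R Λ (γ i)) ^ n = ∑ j, lam i j * φ (a j))
    (hγ𝔮 : ∀ i, algebraMap R Λ (γ i) ∈ 𝔮)
    (hR : ∀ i : Fin d, ∀ x : R ⧸ Ideal.span (Set.range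
        fun j : {j : Fin d // (j : ℕ) < (i : ℕ)} => γ j ^ (c * 8)),
      Ideal.Quotient.mk _ (γ i) ^ 2 * x = 0 → Ideal.Quotient.mk _ (γ i) * x = 0)
    (hΛ : ∀ i : Fin d, ∀ x : Λ ⧸ Ideal.span (Set.range
        fun j : {j : Fin d // (j : ℕ) < (i : ℕ)} => algebraMap R Λ (γ j) ^ (c * 8)),
      Ideal.Quotient.mk _ (algebraMap R Λ (γ i)) ^ 2 * x = 0 →
        Ideal.Quotient.mk _ (algebraMap R Λ (γ i)) * x = 0)
    (K : Ideal R) (hK : K = Ideal.span (Set.range fun i => (γ i ^ c) ^ 8))
    [hP : (𝔮.map (Ideal.Quotient.mk (K.map (algebraMap R Λ)))).IsPrime]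
    (SK TK : Type u) [CommRing SK] [CommRing TK] [Algebra (R ⧸ K) SK]
    [IsLocalization.AtPrime SK ((𝔮.map (Ideal.Quotient.mk (K.map (algebraMap R Λ)))).comap
      (algebraMap (R ⧸ K) (Λ ⧸ K.map (algebraMap R Λ))))]
    [Algebra (Λ ⧸ K.map (algebraMap R Λ)) TK]
    [IsLocalization.AtPrime TK (𝔮.map (Ideal.Quotient.mk (K.map (algebraMap R Λ))))]
    [Algebra (R ⧸ K) TK] [IsScalarTower (R ⧸ K) (Λ ⧸ K.map (algebraMap R Λ)) TK]
    [Algebra SK TK] [IsScalarTower (R ⧸ K) SK TK]
    (hdim : ringKrullDim TK = 0)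
    (hAF : ∃ (B : Type u) (_ : CommRing B) (_ : Algebra SK B), Algebra.Smooth SK B ∧
      ∃ (α : A →+* B) (ζ : Fin d → Fin r → B) (β : B →ₐ[SK] TK),
        (∀ a₀, β (α a₀) = algebraMap (Λ ⧸ K.map (algebraMap R Λ)) TK
          (Ideal.Quotient.mk _ (φ a₀))) ∧
        (∀ i j, β (ζ i j) = algebraMap (Λ ⧸ K.map (algebraMap R Λ)) TK
          (Ideal.Quotient.mk _ (lam i j))) ∧
        (∀ i, (algebraMap SK B (algebraMap (R ⧸ K) SK (Ideal.Quotient.mk K (γ i)))) ^ n =
          ∑ j, ζ i j * α (a j)) ∧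
        (∀ c₀ : k, α (algebraMap k A c₀) =
          algebraMap SK B (algebraMap (R ⧸ K) SK (Ideal.Quotient.mk K (algebraMap k R c₀))))) :
    Resolvable k φ 𝔮 := by
  classical
  -- `k[x] → R`
  letI algPR : Algebra (MvPolynomial (Fin d) k) R :=
    (aeval γ : MvPolynomial (Fin d) k →ₐ[k] R).toRingHom.toAlgebra
  have halgPR : ∀ i, algebraMap (MvPolynomial (Fin d) k) R (X i) = γ i := fun i => aeval_X γ i
  haveI : IsScalarTower k (MvPolynomial (Fin d) k) R :=
    IsScalarTower.of_algebraMap_eq fun c₀ => (aeval_C γ c₀).symm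
  letI algPΛ : Algebra (MvPolynomial (Fin d) k) Λ :=
    ((algebraMap R Λ).comp (algebraMap (MvPolynomial (Fin d) k) R)).toAlgebra
  haveI : IsScalarTower (MvPolynomial (Fin d) k) R Λ :=
    IsScalarTower.of_algebraMap_eq fun _ => rfl
  haveI : IsScalarTower k (MvPolynomial (Fin d) k) Λ := by
    refine IsScalarTower.of_algebraMap_eq fun c₀ => ?_
    show algebraMap k Λ c₀ = algebraMap R Λ (algebraMap (MvPolynomial (Fin d) k) R
      (algebraMap k (MvPolynomial (Fin d) k) c₀))
    rw [← IsScalarTower.algebraMap_apply k (MvPolynomial (Fin d) k) R,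
      ← IsScalarTower.algebraMap_apply k R Λ]
  have halgX : ∀ i, algebraMap (MvPolynomial (Fin d) k) Λ (X i) = algebraMap R Λ (γ i) := by
    intro i
    show algebraMap R Λ (algebraMap (MvPolynomial (Fin d) k) R (X i)) = _
    rw [halgPR]
  have hrel' : ∀ i, (algebraMap (MvPolynomial (Fin d) k) Λ (X i)) ^ n =
      ∑ j, lam i j * φ (a j) := fun i => by rw [halgX, hrel]
  -- the maps
  let ψB := psiB k d r n a φ lam hrel'
  let φCr : Cr →ₐ[MvPolynomial (Fin d) k] Λ :=
    ψB.comp (ret.restrictScalars (MvPolynomial (Fin d) k))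
  let φC : R ⊗[MvPolynomial (Fin d) k] Cr →ₐ[R] Λ :=
    Algebra.TensorProduct.lift (Algebra.ofId R Λ) φCr (fun _ _ => Commute.all _ _)
  have hφC : ∀ (r₀ : R) (y : Cr), φC (r₀ ⊗ₜ y) = algebraMap R Λ r₀ * φCr y := by
    intro r₀ y
    show Algebra.TensorProduct.lift (Algebra.ofId R Λ) φCr (fun _ _ => Commute.all _ _)
      (r₀ ⊗ₜ y) = _
    rw [Algebra.TensorProduct.lift_tmul]
    rfl
  -- `k`-algebra structure on `C`
  haveI : SMulCommClass (MvPolynomial (Fin d) k) k R := inferInstance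
  letI algkC : Algebra k (R ⊗[MvPolynomial (Fin d) k] Cr) := inferInstance
  haveI : IsScalarTower k R (R ⊗[MvPolynomial (Fin d) k] Cr) := inferInstance
  have halgkC : ∀ c₀ : k, algebraMap k (R ⊗[MvPolynomial (Fin d) k] Cr) c₀ =
      algebraMap R (R ⊗[MvPolynomial (Fin d) k] Cr) (algebraMap k R c₀) := fun c₀ =>
    IsScalarTower.algebraMap_apply k R _ c₀
  have hincl : ∀ c₀ : k, inclB k d r n a (algebraMap k A c₀) =
      algebraMap (MvPolynomial (Fin d) k) (BB k d r n a) (C c₀) := by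
    intro c₀
    rw [← inclBₐ_apply, AlgHom.commutes,
      IsScalarTower.algebraMap_apply k (MvPolynomial (Fin d) k) (BB k d r n a)]
    rfl
  let gC : A →ₐ[k] R ⊗[MvPolynomial (Fin d) k] Cr :=
    { toRingHom := (Algebra.TensorProduct.includeRight :
          Cr →ₐ[MvPolynomial (Fin d) k] R ⊗[MvPolynomial (Fin d) k] Cr).toRingHom.comp
        ((algebraMap (BB k d r n a) Cr).comp (inclB k d r n a))
      commutes' := by
        intro c₀
        show (1 : R) ⊗ₜ[MvPolynomial (Fin d) k]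
          (algebraMap (BB k d r n a) Cr (inclB k d r n a (algebraMap k A c₀))) =
          algebraMap k (R ⊗[MvPolynomial (Fin d) k] Cr) c₀
        rw [halgkC, hincl, ← IsScalarTower.algebraMap_apply (MvPolynomial (Fin d) k) (BB k d r n a) Cr,
          Algebra.TensorProduct.algebraMap_apply, Algebra.algebraMap_eq_smul_one (C c₀),
          ← TensorProduct.smul_tmul, Algebra.smul_def, mul_one]
        congr 1
        exact aeval_C γ c₀ }
  have hgC : ∀ a₀, gC a₀ = (1 : R) ⊗ₜ[MvPolynomial (Fin d) k]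
      (algebraMap (BB k d r n a) Cr (inclB k d r n a a₀)) := fun a₀ => rfl
  have hcomp : ∀ a₀, φC (gC a₀) = φ a₀ := by
    intro a₀
    rw [hgC, hφC, map_one, one_mul]
    show ψB (ret (algebraMap (BB k d r n a) Cr (inclB k d r n a a₀))) = φ a₀
    rw [AlgHom.commutes]
    exact psiB_inclB k d r n a φ lam hrel' a₀
  have hH : singRad k φ ≤ singRad R φC := by
    have h1 : (singularIdeal k A).map φ ≤ singRad R φC := by
      rw [Ideal.map_le_iff_le_comap]
      intro a₀ ha₀
      rw [Ideal.mem_comap]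
      apply Ideal.le_radical
      rw [← hcomp a₀]
      apply Ideal.mem_map_of_mem
      rw [hgC]
      apply tmul_mem_singularIdeal
      exact hCsing _ (inclB_mem_singularIdeal k d r n a haH a₀ (by rw [ha']; exact ha₀))
    have h2 := Ideal.radical_mono h1
    have h3 : (singRad R φC).radical = singRad R φC := Ideal.radical_idem _
    rw [h3] at h2
    exact h2
  -- strict standardness
  have hstdC : ∀ i, IsStrictlyStandard R (R ⊗[MvPolynomial (Fin d) k] Cr)
      (algebraMap R (R ⊗[MvPolynomial (Fin d) k] Cr) (γ i ^ c)) := by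
    intro i
    have h1 := (Groth.Agent.S6829.result (R := MvPolynomial (Fin d) k) (A := Cr) (R' := R)
      (algebraMap (MvPolynomial (Fin d) k) Cr (X i ^ c))).2 (hstd i)
    have h2 : (1 : R) ⊗ₜ[MvPolynomial (Fin d) k] (algebraMap (MvPolynomial (Fin d) k) Cr (X i ^ c)) =
        algebraMap R (R ⊗[MvPolynomial (Fin d) k] Cr) (γ i ^ c) := by
      rw [Algebra.TensorProduct.algebraMap_apply, Algebra.algebraMap_eq_smul_one (X i ^ c),
        ← TensorProduct.smul_tmul, Algebra.smul_def, mul_one, map_pow, halgPR]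
      rfl
    rw [h2] at h1
    exact h1
  -- the ideal `K`
  obtain ⟨φK, hφK⟩ := FN7.exists_phiK φC K
  have hK𝔮 : K.map (algebraMap R Λ) ≤ 𝔮 := by
    rw [hK, Ideal.map_span, Ideal.span_le]
    rintro _ ⟨_, ⟨i, rfl⟩, rfl⟩
    rw [SetLike.mem_coe, map_pow, map_pow]
    exact Ideal.pow_mem_of_mem _ (Ideal.pow_mem_of_mem _ (hγ𝔮 i) c hc) 8 (by norm_num)
  have hres' := FN4.resolvable_quot φC 𝔮 (singRad k φ) hmin hH K hK𝔮 φK hφK (fun hmin' => by
    obtain ⟨B, _, _, hsm, α, ζ, β, hβα, hβζ, hBrel, hαk⟩ := hAF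
    haveI := hsm
    -- algebra structures on `B`
    letI algRKB : Algebra (R ⧸ K) B :=
      ((algebraMap SK B).comp (algebraMap (R ⧸ K) SK)).toAlgebra
    haveI : IsScalarTower (R ⧸ K) SK B := IsScalarTower.of_algebraMap_eq fun _ => rfl
    letI algRB : Algebra R B := ((algebraMap (R ⧸ K) B).comp (Ideal.Quotient.mk K)).toAlgebra
    haveI : IsScalarTower R (R ⧸ K) B := IsScalarTower.of_algebraMap_eq fun _ => rfl
    letI algPB : Algebra (MvPolynomial (Fin d) k) B :=
      ((algebraMap R B).comp (algebraMap (MvPolynomial (Fin d) k) R)).toAlgebra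
    haveI : IsScalarTower (MvPolynomial (Fin d) k) R B :=
      IsScalarTower.of_algebraMap_eq fun _ => rfl
    letI algkB : Algebra k B := ((algebraMap R B).comp (algebraMap k R)).toAlgebra
    haveI : IsScalarTower k R B := IsScalarTower.of_algebraMap_eq fun _ => rfl
    haveI : IsScalarTower k (MvPolynomial (Fin d) k) B := by
      refine IsScalarTower.of_algebraMap_eq fun c₀ => ?_
      show algebraMap R B (algebraMap k R c₀) = algebraMap R B
        (algebraMap (MvPolynomial (Fin d) k) R (algebraMap k (MvPolynomial (Fin d) k) c₀))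
      rw [← IsScalarTower.algebraMap_apply k (MvPolynomial (Fin d) k) R]
    have halgRB : ∀ r₀ : R, algebraMap R B r₀ =
        algebraMap SK B (algebraMap (R ⧸ K) SK (Ideal.Quotient.mk K r₀)) := fun _ => rfl
    let αₐ : A →ₐ[k] B :=
      { toRingHom := α
        commutes' := by
          intro c₀
          show α (algebraMap k A c₀) = algebraMap R B (algebraMap k R c₀)
          rw [hαk, halgRB] }
    have hrelB : ∀ i, (algebraMap (MvPolynomial (Fin d) k) B (X i)) ^ n =
        ∑ j, ζ i j * αₐ (a j) := by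
      intro i
      show (algebraMap R B (algebraMap (MvPolynomial (Fin d) k) R (X i))) ^ n = _
      rw [halgPR, halgRB, hBrel]
      rfl
    let ψB' := psiB k d r n a αₐ ζ hrelB
    let g₃ : Cr →ₐ[MvPolynomial (Fin d) k] B :=
      ψB'.comp (ret.restrictScalars (MvPolynomial (Fin d) k))
    let g₂ : R ⊗[MvPolynomial (Fin d) k] Cr →ₐ[R] B :=
      Algebra.TensorProduct.lift (Algebra.ofId R B) g₃ (fun _ _ => Commute.all _ _)
    have hg₂ : ∀ (r₀ : R) (y : Cr), g₂ (r₀ ⊗ₜ y) = algebraMap R B r₀ * g₃ y := by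
      intro r₀ y
      show Algebra.TensorProduct.lift (Algebra.ofId R B) g₃ (fun _ _ => Commute.all _ _)
        (r₀ ⊗ₜ y) = _
      rw [Algebra.TensorProduct.lift_tmul]
      rfl
    have hker : ∀ x ∈ K.map (algebraMap R (R ⊗[MvPolynomial (Fin d) k] Cr)),
        g₂.toRingHom x = 0 := by
      have hle : K.map (algebraMap R (R ⊗[MvPolynomial (Fin d) k] Cr)) ≤
          RingHom.ker g₂.toRingHom := by
        rw [Ideal.map_le_iff_le_comap]
        intro r₀ hr₀
        rw [Ideal.mem_comap, RingHom.mem_ker]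
        show g₂ (algebraMap R _ r₀) = 0
        rw [AlgHom.commutes]
        show algebraMap (R ⧸ K) B (Ideal.Quotient.mk K r₀) = 0
        rw [Ideal.Quotient.eq_zero_iff_mem.mpr hr₀, map_zero]
      exact fun x hx => RingHom.mem_ker.mp (hle hx)
    let g₁ : (R ⊗[MvPolynomial (Fin d) k] Cr) ⧸
        K.map (algebraMap R (R ⊗[MvPolynomial (Fin d) k] Cr)) →ₐ[R ⧸ K] B :=
      { toRingHom := Ideal.Quotient.lift _ g₂.toRingHom hker
        commutes' := by
          intro r₀
          obtain ⟨r₀, rfl⟩ := Ideal.Quotient.mk_surjective r₀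
          show Ideal.Quotient.lift _ g₂.toRingHom hker
            (Ideal.Quotient.mk _ (algebraMap R _ r₀)) = _
          rw [Ideal.Quotient.lift_mk]
          show g₂ (algebraMap R _ r₀) = _
          rw [AlgHom.commutes]
          rfl }
    -- the key comparison on `BB`
    let toTK : Λ →+* TK := (algebraMap (Λ ⧸ K.map (algebraMap R Λ)) TK).comp
      (Ideal.Quotient.mk _)
    have htoTKR : ∀ r₀ : R, toTK (algebraMap R Λ r₀) = β (algebraMap R B r₀) := by
      intro r₀
      rw [halgRB, AlgHom.commutes, ← IsScalarTower.algebraMap_apply (R ⧸ K) SK TK,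
        IsScalarTower.algebraMap_apply (R ⧸ K) (Λ ⧸ K.map (algebraMap R Λ)) TK]
      rfl
    have hBB : (β : B →+* TK).comp (ψB' : BB k d r n a →+* B) =
        toTK.comp (ψB : BB k d r n a →+* Λ) := by
      apply BB_ringHom_ext
      · intro x
        show β (ψB' (algebraMap _ _ x)) = toTK (ψB (algebraMap _ _ x))
        rw [AlgHom.commutes, AlgHom.commutes]
        show β (algebraMap R B (algebraMap (MvPolynomial (Fin d) k) R x)) =
          toTK (algebraMap R Λ (algebraMap (MvPolynomial (Fin d) k) R x))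
        rw [htoTKR]
      · intro a₀
        show β (ψB' (inclB k d r n a a₀)) = toTK (ψB (inclB k d r n a a₀))
        rw [psiB_inclB, psiB_inclB]
        exact hβα a₀
      · intro v
        show β (ψB' (Ideal.Quotient.mk _ (X v))) = toTK (ψB (Ideal.Quotient.mk _ (X v)))
        rw [psiB_X, psiB_X]
        exact hβζ v.1 v.2
    have hβg₁ : ∀ x, β (g₁ x) = algebraMap (Λ ⧸ K.map (algebraMap R Λ)) TK (φK x) := by
      intro x
      obtain ⟨z, rfl⟩ := Ideal.Quotient.mk_surjective x
      rw [hφK]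
      show β (g₂ z) = toTK (φC z)
      induction z using TensorProduct.induction_on with
      | zero => rw [map_zero, map_zero, map_zero, map_zero]
      | tmul r₀ y =>
        rw [hg₂, hφC, map_mul, map_mul, htoTKR]
        congr 1
        exact DFunLike.congr_fun hBB (ret y)
      | add z w hz hw => rw [map_add, map_add, map_add, map_add, hz, hw]
    haveI : Algebra.FinitePresentation (R ⧸ K) ((R ⊗[MvPolynomial (Fin d) k] Cr) ⧸
        K.map (algebraMap R (R ⊗[MvPolynomial (Fin d) k] Cr))) := RS3.fp_quot K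
    exact artinian_resolvable φK _ hmin' hdim g₁ β hβg₁)
  have hresC : Resolvable R φC 𝔮 := by
    refine RS4.main6822 φC 𝔮 hdpos (fun i => γ i ^ c) ?_ ?_ ?_ hstdC K hK φK hφK hres'
    · intro i
      show algebraMap R Λ (γ i ^ c) ∈ 𝔮
      rw [map_pow]
      exact Ideal.pow_mem_of_mem _ (hγ𝔮 i) c hc
    · exact FN7.ann_transfer γ (fun i => γ i ^ c) c hc (fun i => rfl) hR
    · exact FN7.ann_transfer (fun i => algebraMap R Λ (γ i)) (fun i => algebraMap R Λ (γ i ^ c)) c hc
        (fun i => by rw [map_pow]) hΛ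
  exact FN5.descent φ φC gC hcomp hH 𝔮 hresC

end EP1

end Groth.Agent.Lib.Helper8.IN14
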