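import Mathlib
import Groth.Prelude.Def_Smoothing
import Groth.Agent.Lib.Helper8.IN6
import Groth.Agent.Lib.Helper8.IN11
import Groth.Agent.Lib.Helper8.FN8
import Groth.Agent.Lib.Helper18.PMor4
import Groth.Agent.Lib.Helper23.SmoothField

set_option backward.isDefEq.respectTransparency.types false
set_option autoImplicit false
set_option linter.unusedSectionVars false
set_option linter.style.haveILetI false

namespace Groth.Agent.Lib.Helper8.IN15

open Smoothing MvPolynomial IsLocalRing Groth.Agent.Lib.Helper8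

universe u

/-- conversion of the annihilator condition to the quotient format. -/
theorem ann_format {Λ : Type*} [CommRing Λ] {d : ℕ} (z : Fin d → Λ) (e : ℕ)
    (h : ∀ i : Fin d, ∀ S : Finset (Fin d), (∀ j ∈ S, j < i) → ∀ x : Λ,
      z i ^ 2 * x ∈ Ideal.span ((fun j => z j ^ e) '' (S : Set (Fin d))) →
      z i * x ∈ Ideal.span ((fun j => z j ^ e) '' (S : Set (Fin d)))) :
    ∀ i : Fin d, ∀ x : Λ ⧸ Ideal.span (Set.range
        fun j : {j : Fin d // (j : ℕ) < (i : ℕ)} => z j ^ e),
      Ideal.Quotient.mk _ (z i) ^ 2 * x = 0 → Ideal.Quotient.mk _ (z i) * x = 0 := by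
  classical
  intro i x hx
  obtain ⟨y, rfl⟩ := Ideal.Quotient.mk_surjective x
  have hset : ((fun j => z j ^ e) '' ((Finset.univ.filter (fun j : Fin d => j < i) : Finset (Fin d)) :
      Set (Fin d))) = Set.range fun j : {j : Fin d // (j : ℕ) < (i : ℕ)} => z j ^ e := by
    ext w
    constructor
    · rintro ⟨j, hj, rfl⟩
      have hj' : j < i := by simpa using hj
      exact ⟨⟨j, hj'⟩, rfl⟩
    · rintro ⟨⟨j, hj⟩, rfl⟩
      refine ⟨j, ?_, rfl⟩
      have : j < i := hj
      simpa using this
  rw [← map_pow, ← map_mul, Ideal.Quotient.eq_zero_iff_mem, ← hset] at hx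
  rw [← map_mul, Ideal.Quotient.eq_zero_iff_mem, ← hset]
  exact h i _ (fun j hj => by simpa using hj) y hx

section Mem

variable {k Λ : Type u} [Field k] [CommRing Λ] [Algebra k Λ] {t d' : ℕ}

theorem aeval_mem_subalgebra (S' : Subalgebra k Λ) (x : Fin t → Λ) (hx : ∀ i, x i ∈ S')
    (f : MvPolynomial (Fin t) k) : aeval x f ∈ S' := by
  induction f using MvPolynomial.induction_on with
  | C c => rw [aeval_C]; exact S'.algebraMap_mem c
  | add p q hp hq => rw [map_add]; exact S'.add_mem hp hq
  | mul_X p i hp => rw [map_mul, aeval_X]; exact S'.mul_mem hp (hx i)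

theorem phi0_mem_subalgebra (S' : Subalgebra k Λ) (x : Fin t → Λ) (w : Fin d' → Λ)
    (hx : ∀ i, x i ∈ S') (hw : ∀ l, w l ∈ S') (f : IN11.R0 k t d') :
    IN11.phi0 k x w f ∈ S' := by
  induction f using MvPolynomial.induction_on with
  | C c => rw [IN11.phi0_C]; exact aeval_mem_subalgebra S' x hx c
  | add p q hp hq => rw [map_add]; exact S'.add_mem hp hq
  | mul_X p i hp => rw [map_mul, IN11.phi0_X]; exact S'.mul_mem hp (hw i)

theorem map_mem_of_adjoin {A : Type u} [CommRing A] [Algebra k A] (S' : Subalgebra k Λ)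
    (φ : A →ₐ[k] Λ) (T : Set A) (hT : Algebra.adjoin k T = ⊤) (h : ∀ a ∈ T, φ a ∈ S') (a : A) :
    φ a ∈ S' := by
  have hle : Algebra.adjoin k T ≤ S'.comap φ := Algebra.adjoin_le h
  have : a ∈ Algebra.adjoin k T := by rw [hT]; exact Algebra.mem_top
  exact hle this

end Mem

/-- powers of generators of the maximal ideal. -/
theorem span_pow_le {A₀ : Type*} [CommRing A₀] [IsLocalRing A₀] {d : ℕ} (f : Fin d → A₀)
    (hf : Ideal.span (Set.range f) = maximalIdeal A₀) (e : ℕ) (he : 0 < e) :
    Ideal.span (Set.range fun i => f i ^ e) ≤ maximalIdeal A₀ ∧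
    maximalIdeal A₀ ^ (d * e + 1) ≤ Ideal.span (Set.range fun i => f i ^ e) := by
  constructor
  · rw [Ideal.span_le]
    rintro _ ⟨i, rfl⟩
    apply Ideal.pow_mem_of_mem _ _ e he
    rw [← hf]
    exact Ideal.subset_span ⟨i, rfl⟩
  · rw [← hf]
    exact IN6.pow_le_span_range_pow f e

/-- geometric reducedness of the residue field in dimension zero. -/
theorem geomReduced_residueField {k Λ : Type u} [Field k] [CommRing Λ] [Algebra k Λ]
    [IsNoetherianRing Λ] (𝔮 : Ideal Λ) [𝔮.IsPrime]
    (hreg : CAlg.IsGeometricallyRegular k (Localization.AtPrime 𝔮))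
    [IsRegularLocalRing (Localization.AtPrime 𝔮)]
    (hd : ringKrullDim (Localization.AtPrime 𝔮) = 0) :
    Algebra.IsGeometricallyReduced k 𝔮.ResidueField := by
  have h𝔪 : maximalIdeal (Localization.AtPrime 𝔮) = ⊥ := by
    have h := IsRegularLocalRing.spanFinrank_maximalIdeal (R := Localization.AtPrime 𝔮)
    rw [hd] at h
    have h' : (maximalIdeal (Localization.AtPrime 𝔮)).spanFinrank = 0 := by exact_mod_cast h
    exact (Submodule.spanFinrank_eq_zero_iff_eq_bot (IsNoetherian.noetherian _)).mp h'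
  have hbij : Function.Bijective (IsLocalRing.residue (Localization.AtPrime 𝔮)) := by
    refine ⟨?_, IsLocalRing.residue_surjective⟩
    rw [injective_iff_map_eq_zero]
    intro x hx
    have : x ∈ maximalIdeal _ := (IsLocalRing.residue_eq_zero_iff x).mp hx
    rw [h𝔪] at this
    exact this
  let f : Localization.AtPrime 𝔮 →ₐ[k] 𝔮.ResidueField :=
    { toRingHom := IsLocalRing.residue (Localization.AtPrime 𝔮)
      commutes' := fun c => rfl }
  let e : Localization.AtPrime 𝔮 ≃ₐ[k] 𝔮.ResidueField := AlgEquiv.ofBijective f hbij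
  haveI : Algebra.IsGeometricallyReduced k (Localization.AtPrime 𝔮) :=
    Groth.Agent.Lib.Helper18.PMor.isGeometricallyReduced_of_isGeometricallyRegular hreg
  exact Algebra.IsGeometricallyReduced.of_injective
    (e.symm.toAlgHom : 𝔮.ResidueField →ₐ[k] Localization.AtPrime 𝔮) e.symm.injective

/-- regularity of the localization. -/
theorem isRegularLocalRing_of_geomRegular {k S : Type u} [Field k] [CommRing S] [Algebra k S]
    [IsLocalRing S] (h : CAlg.IsGeometricallyRegular k S) : IsRegularLocalRing S := by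
  have h3 : IsRegularRing (TensorProduct k k S) := h k inferInstance
  have h4 : IsRegularRing S :=
    IsRegularRing.of_ringEquiv (Algebra.TensorProduct.lid k S).toRingEquiv
  exact IsRegularLocalRing.of_isRegularRing_of_isLocalRing S

end Groth.Agent.Lib.Helper8.IN15
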