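import Mathlib

set_option backward.isDefEq.respectTransparency.types false
set_option autoImplicit false
set_option linter.unusedSectionVars false
set_option linter.style.haveILetI false

namespace Groth.Agent.Lib.Helper8.IN2

open MvPolynomial

variable {R₀ : Type*} [CommRing R₀] {d : ℕ} (π : Fin d → R₀) (e : ℕ)

/-- the elements `γ_j = π_j t_j`. -/
noncomputable def gam (j : Fin d) : MvPolynomial (Fin d) R₀ := C (π j) * X j

theorem gam_eq (j : Fin d) : gam π j = monomial (Finsupp.single j 1) (π j) := by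
  unfold gam
  rw [C_mul_X_eq_monomial]

theorem gam_pow (j : Fin d) (m : ℕ) : gam π j ^ m = monomial (Finsupp.single j m) (π j ^ m) := by
  rw [gam_eq, monomial_pow, Finsupp.smul_single, smul_eq_mul, mul_one]

/-- the index sets. -/
def Iset (i : Fin d) (α : Fin d →₀ ℕ) : Set (Fin d) := {j | j < i ∧ e ≤ α j}

/-- the coefficient ideals. -/
def Iid (i : Fin d) (α : Fin d →₀ ℕ) : Ideal R₀ := Ideal.span ((fun j => π j ^ e) '' Iset e i α)

/-- the ideals `J_i`. -/
noncomputable def Jid (i : Fin d) : Ideal (MvPolynomial (Fin d) R₀) :=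
  Ideal.span (Set.range fun j : {j : Fin d // (j : ℕ) < (i : ℕ)} => gam π j ^ e)

theorem Iset_add (i : Fin d) (α : Fin d →₀ ℕ) (m : ℕ) :
    Iset e i (α + Finsupp.single i m) = Iset e i α := by
  ext j
  simp only [Iset, Set.mem_ofPred_eq]
  constructor
  · rintro ⟨h1, h2⟩
    refine ⟨h1, ?_⟩
    rw [Finsupp.add_apply, Finsupp.single_eq_of_ne (ne_of_lt h1), add_zero] at h2
    exact h2
  · rintro ⟨h1, h2⟩
    refine ⟨h1, ?_⟩
    rw [Finsupp.add_apply, Finsupp.single_eq_of_ne (ne_of_lt h1), add_zero]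
    exact h2

theorem coeff_mem_of_mem (i : Fin d) (x : MvPolynomial (Fin d) R₀) (hx : x ∈ Jid π e i)
    (α : Fin d →₀ ℕ) : coeff α x ∈ Iid π e i α := by
  classical
  unfold Jid at hx
  rw [Ideal.mem_span_range_iff_exists_fun] at hx
  obtain ⟨g, rfl⟩ := hx
  rw [coeff_sum]
  refine Ideal.sum_mem _ fun j _ => ?_
  rw [gam_pow, coeff_mul_monomial']
  split_ifs with h
  · refine Ideal.mul_mem_left _ _ (Ideal.subset_span ⟨j.1, ⟨?_, ?_⟩, rfl⟩)
    · exact j.2
    · have := h j.1
      rw [Finsupp.single_eq_same] at this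
      exact this
  · exact Ideal.zero_mem _

theorem monomial_mem (i : Fin d) (α : Fin d →₀ ℕ) (c : R₀) (hc : c ∈ Iid π e i α) :
    monomial α c ∈ Jid π e i := by
  classical
  unfold Iid at hc
  induction hc using Submodule.span_induction with
  | mem y hy =>
    obtain ⟨j, ⟨hj1, hj2⟩, rfl⟩ := hy
    have hle : Finsupp.single j e ≤ α := by
      intro l
      by_cases hl : l = j
      · subst hl
        rw [Finsupp.single_eq_same]
        exact hj2
      · rw [Finsupp.single_eq_of_ne hl]
        exact Nat.zero_le _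
    have h1 : monomial α (π j ^ e) =
        monomial (α - Finsupp.single j e) (1 : R₀) * gam π j ^ e := by
      rw [gam_pow, monomial_mul, one_mul, tsub_add_cancel_of_le hle]
    rw [h1]
    exact Ideal.mul_mem_left _ _ (Ideal.subset_span ⟨⟨j, hj1⟩, rfl⟩)
  | zero => rw [map_zero]; exact Ideal.zero_mem _
  | add y z _ _ hy hz => rw [map_add]; exact Ideal.add_mem _ hy hz
  | smul r y _ hy =>
    rw [smul_eq_mul, ← C_mul_monomial]
    exact Ideal.mul_mem_left _ _ hy

theorem mem_of_coeff_mem (i : Fin d) (x : MvPolynomial (Fin d) R₀)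
    (hx : ∀ α, coeff α x ∈ Iid π e i α) : x ∈ Jid π e i := by
  rw [← support_sum_monomial_coeff x]
  exact Ideal.sum_mem _ fun α _ => monomial_mem π e i α _ (hx α)

theorem ann_mem
    (hstar : ∀ i : Fin d, ∀ S : Finset (Fin d), (∀ j ∈ S, j < i) → ∀ x : R₀,
      (π i) ^ 2 * x ∈ Ideal.span ((fun j => π j ^ e) '' (S : Set (Fin d))) →
      π i * x ∈ Ideal.span ((fun j => π j ^ e) '' (S : Set (Fin d))))
    (i : Fin d) (x : MvPolynomial (Fin d) R₀) (hx : gam π i ^ 2 * x ∈ Jid π e i) :
    gam π i * x ∈ Jid π e i := by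
  classical
  apply mem_of_coeff_mem
  intro β
  rw [gam_eq, coeff_monomial_mul']
  split_ifs with h
  · set α := β - Finsupp.single i 1 with hα
    have hβ : β = α + Finsupp.single i 1 := (tsub_add_cancel_of_le h).symm
    have h1 := coeff_mem_of_mem π e i _ hx (α + Finsupp.single i 2)
    rw [gam_pow, coeff_monomial_mul', if_pos (by
      intro l
      rw [Finsupp.add_apply]
      exact Nat.le_add_left _ _), add_tsub_cancel_right] at h1
    unfold Iid at h1 ⊢
    rw [Iset_add] at h1
    rw [hβ, Iset_add]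
    have hS : ((Finset.univ.filter (fun j : Fin d => j < i ∧ e ≤ α j) : Finset (Fin d)) :
        Set (Fin d)) = Iset e i α := by
      ext j
      simp [Iset]
    rw [← hS] at h1 ⊢
    refine hstar i _ ?_ _ h1
    intro j hj
    simp only [Finset.mem_filter, Finset.mem_univ, true_and] at hj
    exact hj.1
  · exact Ideal.zero_mem _

/-- the annihilator condition over `R₀[t]`. -/
theorem ann_condition_t
    (hstar : ∀ i : Fin d, ∀ S : Finset (Fin d), (∀ j ∈ S, j < i) → ∀ x : R₀,
      (π i) ^ 2 * x ∈ Ideal.span ((fun j => π j ^ e) '' (S : Set (Fin d))) →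
      π i * x ∈ Ideal.span ((fun j => π j ^ e) '' (S : Set (Fin d))))
    (i : Fin d) (x : MvPolynomial (Fin d) R₀ ⧸ Ideal.span (Set.range
      fun j : {j : Fin d // (j : ℕ) < (i : ℕ)} => gam π j ^ e))
    (hx : Ideal.Quotient.mk _ (gam π i) ^ 2 * x = 0) :
    Ideal.Quotient.mk _ (gam π i) * x = 0 := by
  obtain ⟨y, rfl⟩ := Ideal.Quotient.mk_surjective x
  rw [← map_pow, ← map_mul, Ideal.Quotient.eq_zero_iff_mem] at hx
  rw [← map_mul, Ideal.Quotient.eq_zero_iff_mem]
  exact ann_mem π e hstar i y hx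

end Groth.Agent.Lib.Helper8.IN2
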