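import Mathlib
import Groth.Prelude.Def_Smoothing
import Groth.Agent.Lib.Helper8.LL1

set_option backward.isDefEq.respectTransparency.types false
set_option autoImplicit false
set_option linter.unusedSectionVars false
set_option linter.style.haveILetI false

namespace Groth.Agent.Lib.Helper8.IN3

open Smoothing MvPolynomial TensorProduct

universe u

/-- generators of the syzygy module, and the description of syzygies after flat base change. -/
theorem exists_syz_gens {D T : Type u} [CommRing D] [CommRing T] [Algebra D T] [Module.Flat D T]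
    [IsNoetherianRing D] {r : ℕ} (b : Fin r → D) :
    ∃ (K : ℕ) (σ : Fin K → Fin r → D), (∀ κ, ∑ j, σ κ j * b j = 0) ∧
      ∀ v : Fin r → T, ∑ j, v j * algebraMap D T (b j) = 0 →
        ∃ μ : Fin K → T, ∀ j, v j = ∑ κ, μ κ * algebraMap D T (σ κ j) := by
  classical
  let L : (Fin r → D) →ₗ[D] D := ∑ j, (LinearMap.proj j : (Fin r → D) →ₗ[D] D).smulRight (b j)
  have hL : ∀ v, L v = ∑ j, v j * b j := by
    intro v
    simp [L, LinearMap.sum_apply]
  obtain ⟨K, σ, hσ⟩ := Submodule.fg_iff_exists_fin_generating_family.mp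
    (IsNoetherian.noetherian (LinearMap.ker L))
  refine ⟨K, σ, fun κ => ?_, fun v hv => ?_⟩
  · have : σ κ ∈ LinearMap.ker L := hσ ▸ Submodule.subset_span ⟨κ, rfl⟩
    rw [LinearMap.mem_ker, hL] at this
    exact this
  · have h0 : ∑ j, b j • v j = 0 := by
      rw [← hv]
      refine Finset.sum_congr rfl fun j _ => ?_
      rw [Algebra.smul_def, mul_comm]
    obtain ⟨l, a, y, hxy, hrel⟩ := Module.Flat.isTrivialRelation_of_sum_smul_eq_zero (R := D) (M := T) (f := b) (x := v) h0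
    have hcol : ∀ m : Fin l, (fun j => a j m) ∈ Submodule.span D (Set.range σ) := by
      intro m
      rw [hσ, LinearMap.mem_ker, hL]
      rw [← hrel m]
      refine Finset.sum_congr rfl fun j _ => ?_
      rw [mul_comm]
    have hc : ∀ m : Fin l, ∃ c : Fin K → D, ∑ κ, c κ • σ κ = fun j => a j m :=
      fun m => (Submodule.mem_span_range_iff_exists_fun D).mp (hcol m)
    choose c hc using hc
    refine ⟨fun κ => ∑ m, c m κ • y m, fun j => ?_⟩
    rw [hxy j]
    have haj : ∀ m, a j m = ∑ κ, c m κ * σ κ j := by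
      intro m
      have := congrFun (hc m) j
      rw [Finset.sum_apply] at this
      rw [← this]
      rfl
    calc ∑ m, a j m • y m = ∑ m, ∑ κ, (c m κ • y m) * algebraMap D T (σ κ j) := by
          refine Finset.sum_congr rfl fun m _ => ?_
          rw [haj m, Finset.sum_smul]
          refine Finset.sum_congr rfl fun κ _ => ?_
          rw [Algebra.smul_def, Algebra.smul_def, map_mul]
          ring
      _ = ∑ κ, (∑ m, c m κ • y m) * algebraMap D T (σ κ j) := by
          rw [Finset.sum_comm]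
          refine Finset.sum_congr rfl fun κ _ => ?_
          rw [Finset.sum_mul]

section AS

variable {k A S₀ S D T : Type u} [CommRing k] [CommRing A] [Algebra k A]
  [Algebra.FinitePresentation k A]
  [CommRing S₀] [CommRing S] [CommRing D] [CommRing T]
  [Algebra k S₀] [Algebra S₀ S] [Algebra S₀ D] [Algebra S T] [Algebra D T] [Algebra S₀ T]
  [IsScalarTower S₀ S T] [IsScalarTower S₀ D T] [Algebra k D] [IsScalarTower k S₀ D]

/-- the variables of the auxiliary algebra. -/
abbrev Var (d r K : ℕ) : Type := (Fin d × Fin r) ⊕ (Fin K × Fin r)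

/-- the base `S₀ ⊗ A`. -/
abbrev Base (k A S₀ : Type u) [CommRing k] [CommRing A] [Algebra k A] [CommRing S₀]
    [Algebra k S₀] : Type u := S₀ ⊗[k] A

variable (k) in
/-- the relations. -/
noncomputable def rel {d r K : ℕ} (a : Fin r → A) (n : ℕ) (π : Fin d → S₀) :
    Fin d ⊕ Fin K → MvPolynomial (Var d r K) (Base k A S₀)
  | Sum.inl i => C (algebraMap S₀ (Base k A S₀) (π i ^ n)) -
      ∑ j, X (Sum.inl (i, j)) * C ((1 : S₀) ⊗ₜ[k] a j)
  | Sum.inr κ => ∑ j, X (Sum.inr (κ, j)) * C ((1 : S₀) ⊗ₜ[k] a j)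

variable (k) in
/-- the auxiliary finitely presented algebra. -/
abbrev A₁ {d r : ℕ} (K : ℕ) (a : Fin r → A) (n : ℕ) (π : Fin d → S₀) : Type u :=
  MvPolynomial (Var d r K) (Base k A S₀) ⧸ Ideal.span (Set.range (rel k (K := K) a n π))

instance fpA₁ {d r : ℕ} (K : ℕ) (a : Fin r → A) (n : ℕ) (π : Fin d → S₀) :
    Algebra.FinitePresentation S₀ (A₁ k K a n π) := by
  haveI : Algebra.FinitePresentation (Base k A S₀) (A₁ k K a n π) :=
    LL1.fp_quotient (rel k (K := K) a n π)
  haveI : Algebra.FinitePresentation S₀ (Base k A S₀) :=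
    inferInstanceAs (Algebra.FinitePresentation S₀ (S₀ ⊗[k] A))
  exact Algebra.FinitePresentation.trans S₀ (Base k A S₀) (A₁ k K a n π)

variable (φD : A →ₐ[k] D)

/-- the map `S₀ ⊗ A → D`. -/
noncomputable def f₀ : Base k A S₀ →ₐ[S₀] D :=
  (Algebra.TensorProduct.lift (Algebra.ofId S₀ D) φD (fun _ _ => Commute.all _ _) :
    S₀ ⊗[k] A →ₐ[S₀] D)

theorem f₀_tmul (s : S₀) (x : A) : f₀ φD (s ⊗ₜ[k] x) = algebraMap S₀ D s * φD x := by
  show Algebra.TensorProduct.lift (Algebra.ofId S₀ D) φD (fun _ _ => Commute.all _ _)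
    (s ⊗ₜ[k] x) = _
  rw [Algebra.TensorProduct.lift_tmul]
  rfl

/-- values of the variables. -/
def vals {d r K : ℕ} (w : Fin d → Fin r → D) (σ : Fin K → Fin r → D) : Var d r K → D
  | Sum.inl v => w v.1 v.2
  | Sum.inr v => σ v.1 v.2

/-- the map from the polynomial ring. -/
noncomputable def fP {d r K : ℕ} (w : Fin d → Fin r → D) (σ : Fin K → Fin r → D) :
    MvPolynomial (Var d r K) (Base k A S₀) →ₐ[S₀] D :=
  { toRingHom := eval₂Hom (f₀ φD).toRingHom (vals w σ)
    commutes' := by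
      intro x
      show eval₂Hom (f₀ φD).toRingHom (vals w σ) (algebraMap _ _ x) = _
      rw [MvPolynomial.algebraMap_apply, eval₂Hom_C]
      exact (f₀ φD).commutes x }

theorem fP_C {d r K : ℕ} (w : Fin d → Fin r → D) (σ : Fin K → Fin r → D) (x : Base k A S₀) :
    fP φD w σ (C x) = f₀ φD x := by
  show eval₂Hom (f₀ φD).toRingHom (vals w σ) (C x) = _
  rw [eval₂Hom_C]
  rfl

theorem fP_X {d r K : ℕ} (w : Fin d → Fin r → D) (σ : Fin K → Fin r → D) (v : Var d r K) :
    fP φD w σ (X v : MvPolynomial (Var d r K) (Base k A S₀)) = vals w σ v := by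
  show eval₂Hom (f₀ φD).toRingHom (vals w σ) (X v) = _
  rw [eval₂Hom_X']

theorem fP_rel {d r K : ℕ} (a : Fin r → A) (n : ℕ) (π : Fin d → S₀)
    (w : Fin d → Fin r → D) (σ : Fin K → Fin r → D)
    (hw : ∀ i, ∑ j, w i j * φD (a j) = (algebraMap S₀ D (π i)) ^ n)
    (hσ : ∀ κ, ∑ j, σ κ j * φD (a j) = 0) (ℓ : Fin d ⊕ Fin K) :
    fP φD w σ (rel k (K := K) a n π ℓ) = 0 := by
  rcases ℓ with i | κ
  · show fP φD w σ (C (algebraMap S₀ (Base k A S₀) (π i ^ n)) -
      ∑ j, X (Sum.inl (i, j)) * C ((1 : S₀) ⊗ₜ[k] a j)) = 0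
    rw [map_sub, fP_C, AlgHom.commutes, map_pow, ← hw i, map_sum, sub_eq_zero]
    refine Finset.sum_congr rfl fun j _ => ?_
    rw [map_mul, fP_X, fP_C, f₀_tmul, map_one, one_mul]
    rfl
  · show fP φD w σ (∑ j, X (Sum.inr (κ, j)) * C ((1 : S₀) ⊗ₜ[k] a j)) = 0
    rw [map_sum, ← hσ κ]
    refine Finset.sum_congr rfl fun j _ => ?_
    rw [map_mul, fP_X, fP_C, f₀_tmul, map_one, one_mul]
    rfl

/-- the map `A₁ → D`. -/
noncomputable def fA₁ {d r K : ℕ} (a : Fin r → A) (n : ℕ) (π : Fin d → S₀)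
    (w : Fin d → Fin r → D) (σ : Fin K → Fin r → D)
    (hw : ∀ i, ∑ j, w i j * φD (a j) = (algebraMap S₀ D (π i)) ^ n)
    (hσ : ∀ κ, ∑ j, σ κ j * φD (a j) = 0) : A₁ k K a n π →ₐ[S₀] D :=
  Ideal.Quotient.liftₐ _ (fP φD w σ) (by
    intro x hx
    have hle : Ideal.span (Set.range (rel k (K := K) a n π)) ≤ RingHom.ker (fP φD w σ) := by
      rw [Ideal.span_le]
      rintro _ ⟨ℓ, rfl⟩
      exact RingHom.mem_ker.mpr (fP_rel φD a n π w σ hw hσ ℓ)
    exact RingHom.mem_ker.mp (hle hx))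

end AS

end Groth.Agent.Lib.Helper8.IN3
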