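import Mathlib
import Groth.Prelude.Def_Smoothing
import Groth.Agent.Lib.Helper8.IN3

set_option backward.isDefEq.respectTransparency.types false
set_option autoImplicit false
set_option linter.unusedSectionVars false
set_option linter.style.haveILetI false

namespace Groth.Agent.Lib.Helper8.IN4

open Smoothing MvPolynomial TensorProduct Groth.Agent.Lib.Helper8.IN3

universe u


theorem tmul_algebraMap_left {S₀ S B₀ : Type*} [CommRing S₀] [CommRing S] [CommRing B₀]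
    [Algebra S₀ S] [Algebra S₀ B₀] (s : S) (c : S₀) :
    ((s * algebraMap S₀ S c) ⊗ₜ[S₀] (1 : B₀) : S ⊗[S₀] B₀) = s ⊗ₜ[S₀] algebraMap S₀ B₀ c := by
  rw [Algebra.algebraMap_eq_smul_one, Algebra.algebraMap_eq_smul_one, mul_smul_comm, mul_one,
    TensorProduct.smul_tmul]

theorem algebraMap_tensor_left {S₀ S B₀ : Type*} [CommRing S₀] [CommRing S] [CommRing B₀]
    [Algebra S₀ S] [Algebra S₀ B₀] (s : S) :
    algebraMap S (S ⊗[S₀] B₀) s = s ⊗ₜ[S₀] (1 : B₀) := by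
  rw [Algebra.TensorProduct.algebraMap_apply]
  rfl

theorem one_tmul_algebraMap {k S₀ A : Type*} [CommRing k] [CommRing S₀] [CommRing A]
    [Algebra k S₀] [Algebra k A] (c : k) :
    ((1 : S₀) ⊗ₜ[k] algebraMap k A c : S₀ ⊗[k] A) =
      algebraMap S₀ (S₀ ⊗[k] A) (algebraMap k S₀ c) := by
  rw [algebraMap_tensor_left, Algebra.algebraMap_eq_smul_one, Algebra.algebraMap_eq_smul_one,
    TensorProduct.tmul_smul, TensorProduct.smul_tmul']

variable {k A S₀ S D T : Type u} [CommRing k] [CommRing A] [Algebra k A]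
  [Algebra.FinitePresentation k A]
  [CommRing S₀] [CommRing S] [CommRing D] [CommRing T]
  [Algebra k S₀] [Algebra S₀ S] [Algebra S₀ D] [Algebra S T] [Algebra D T] [Algebra S₀ T]
  [IsScalarTower S₀ S T] [IsScalarTower S₀ D T] [Algebra k D] [IsScalarTower k S₀ D]

/-- the abstract Artinian step. -/
theorem artinian_factor (hind : IndSmooth S₀ D) [Module.Flat D T] [IsNoetherianRing D]
    (φD : A →ₐ[k] D) {r d : ℕ} (a : Fin r → A) (n : ℕ) (π : Fin d → S₀) (t : Fin d → S)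
    (ht : ∀ i, IsUnit (algebraMap S T (t i)))
    (lam : Fin d → Fin r → T)
    (hlam : ∀ i, ∑ j, lam i j * algebraMap D T (φD (a j)) =
      (algebraMap S T (t i * algebraMap S₀ S (π i))) ^ n)
    (hw : ∀ i, (algebraMap S₀ D (π i)) ^ n ∈ Ideal.span (Set.range fun j => φD (a j))) :
    ∃ (B : Type u) (_ : CommRing B) (_ : Algebra S B), Algebra.Smooth S B ∧
      ∃ (α : A →+* B) (ζ : Fin d → Fin r → B) (β : B →ₐ[S] T),
        (∀ a₀, β (α a₀) = algebraMap D T (φD a₀)) ∧ (∀ i j, β (ζ i j) = lam i j) ∧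
        (∀ i, (algebraMap S B (t i * algebraMap S₀ S (π i))) ^ n = ∑ j, ζ i j * α (a j)) ∧
        (∀ c : k, α (algebraMap k A c) =
          algebraMap S B (algebraMap S₀ S (algebraMap k S₀ c))) := by
  classical
  -- syzygies
  obtain ⟨K, σ, hσ, hsyz⟩ := exists_syz_gens (D := D) (T := T) (fun j => φD (a j))
  -- the coefficients `w`
  have hw' : ∀ i, ∃ w : Fin r → D, ∑ j, w j * φD (a j) = (algebraMap S₀ D (π i)) ^ n :=
    fun i => (Ideal.mem_span_range_iff_exists_fun).mp (hw i)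
  choose w hwrel using hw'
  -- the factorization through a smooth algebra
  obtain ⟨B₀, _, _, hsm, g₀, h₀, hcomp⟩ := hind (A₁ k K a n π) inferInstance
    (fA₁ φD a n π w σ hwrel hσ)
  haveI := hsm
  let mkA : MvPolynomial (Var d r K) (Base k A S₀) →ₐ[S₀] A₁ k K a n π :=
    Ideal.Quotient.mkₐ S₀ _
  have hmk0 : ∀ ℓ, mkA (rel k (K := K) a n π ℓ) = 0 := fun ℓ =>
    Ideal.Quotient.eq_zero_iff_mem.mpr (Ideal.subset_span ⟨ℓ, rfl⟩)
  -- elements of `B₀`
  let ab : Fin r → B₀ := fun j => g₀ (mkA (C ((1 : S₀) ⊗ₜ[k] a j)))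
  let wt : Fin d → Fin r → B₀ := fun i j => g₀ (mkA (X (Sum.inl (i, j))))
  let st : Fin K → Fin r → B₀ := fun κ j => g₀ (mkA (X (Sum.inr (κ, j))))
  have hrel1 : ∀ i, algebraMap S₀ B₀ (π i) ^ n = ∑ j, wt i j * ab j := by
    intro i
    have h1 := hmk0 (Sum.inl i)
    have h2 : rel k (K := K) a n π (Sum.inl i) = C (algebraMap S₀ (Base k A S₀) (π i ^ n)) -
      ∑ j, X (Sum.inl (i, j)) * C ((1 : S₀) ⊗ₜ[k] a j) := rfl
    rw [h2, map_sub, sub_eq_zero, map_sum] at h1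
    have h3 : mkA (C (algebraMap S₀ (Base k A S₀) (π i ^ n))) =
        algebraMap S₀ (A₁ k K a n π) (π i ^ n) := by
      rw [← MvPolynomial.algebraMap_apply]
      exact mkA.commutes _
    rw [h3] at h1
    have h4 := congrArg g₀ h1
    rw [AlgHom.commutes, map_pow, map_sum] at h4
    rw [h4]
    refine Finset.sum_congr rfl fun j _ => ?_
    rw [map_mul, map_mul]
  have hrel2 : ∀ κ, ∑ j, st κ j * ab j = 0 := by
    intro κ
    have h1 := hmk0 (Sum.inr κ)
    have h2 : rel k (K := K) a n π (Sum.inr κ) =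
      ∑ j, X (Sum.inr (κ, j)) * C ((1 : S₀) ⊗ₜ[k] a j) := rfl
    rw [h2, map_sum] at h1
    have h4 := congrArg g₀ h1
    rw [map_sum, map_zero] at h4
    rw [← h4]
    refine Finset.sum_congr rfl fun j _ => ?_
    rw [map_mul, map_mul]
  -- values under `h₀`
  have hh₀ : ∀ x, h₀ (g₀ x) = fA₁ φD a n π w σ hwrel hσ x := fun x =>
    DFunLike.congr_fun hcomp x
  have hfmk : ∀ P, fA₁ φD a n π w σ hwrel hσ (mkA P) = fP φD w σ P := fun P => rfl
  have hab : ∀ x : A, h₀ (g₀ (mkA (C ((1 : S₀) ⊗ₜ[k] x)))) = φD x := by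
    intro x
    rw [hh₀, hfmk, fP_C, f₀_tmul, map_one, one_mul]
  have hwt : ∀ i j, h₀ (wt i j) = w i j := by
    intro i j
    show h₀ (g₀ (mkA (X (Sum.inl (i, j))))) = _
    rw [hh₀, hfmk, fP_X]
    rfl
  have hst : ∀ κ j, h₀ (st κ j) = σ κ j := by
    intro κ j
    show h₀ (g₀ (mkA (X (Sum.inr (κ, j))))) = _
    rw [hh₀, hfmk, fP_X]
    rfl
  -- the inverse of `t`
  choose ui hui using fun i => (ht i).exists_left_inv
  -- the syzygy coefficients
  have hμ : ∀ i, ∃ μ : Fin K → T, ∀ j, lam i j * ui i ^ n - algebraMap D T (w i j) =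
      ∑ κ, μ κ * algebraMap D T (σ κ j) := by
    intro i
    apply hsyz
    have e1 : ∑ j, (lam i j * ui i ^ n - algebraMap D T (w i j)) * algebraMap D T (φD (a j)) =
        ui i ^ n * ∑ j, lam i j * algebraMap D T (φD (a j)) -
          algebraMap D T (∑ j, w i j * φD (a j)) := by
      rw [map_sum, Finset.mul_sum, ← Finset.sum_sub_distrib]
      refine Finset.sum_congr rfl fun j _ => ?_
      rw [map_mul]
      ring
    rw [e1, hlam, hwrel, map_mul, mul_pow, ← mul_assoc, ← mul_pow, hui, one_pow, one_mul,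
      ← IsScalarTower.algebraMap_apply, map_pow, ← IsScalarTower.algebraMap_apply, sub_self]
  choose μ hμ using hμ
  -- the algebra `B`
  let B := MvPolynomial (Fin d × Fin K) (S ⊗[S₀] B₀)
  haveI : Algebra.Smooth S (S ⊗[S₀] B₀) := inferInstance
  haveI : Algebra.Smooth (S ⊗[S₀] B₀) B := ⟨inferInstance, inferInstance⟩
  haveI : Algebra.Smooth S B := Algebra.Smooth.comp S (S ⊗[S₀] B₀) B
  -- the map `β`
  let β₀ : S ⊗[S₀] B₀ →ₐ[S] T :=
    Algebra.TensorProduct.lift (Algebra.ofId S T) ((IsScalarTower.toAlgHom S₀ D T).comp h₀)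
      (fun _ _ => Commute.all _ _)
  have hβ₀ : ∀ (s : S) (b : B₀), β₀ (s ⊗ₜ[S₀] b) = algebraMap S T s * algebraMap D T (h₀ b) := by
    intro s b
    show Algebra.TensorProduct.lift (Algebra.ofId S T) ((IsScalarTower.toAlgHom S₀ D T).comp h₀)
      (fun _ _ => Commute.all _ _) (s ⊗ₜ[S₀] b) = _
    rw [Algebra.TensorProduct.lift_tmul]
    rfl
  have hβ₀l : ∀ s : S, β₀ (s ⊗ₜ[S₀] (1 : B₀)) = algebraMap S T s := by
    intro s
    rw [hβ₀, map_one, map_one, mul_one]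
  have hβ₀r : ∀ b : B₀, β₀ ((1 : S) ⊗ₜ[S₀] b) = algebraMap D T (h₀ b) := by
    intro b
    rw [hβ₀, map_one, one_mul]
  let β : B →ₐ[S] T :=
    { toRingHom := eval₂Hom β₀.toRingHom (fun v : Fin d × Fin K => μ v.1 v.2)
      commutes' := by
        intro s
        show eval₂Hom β₀.toRingHom (fun v : Fin d × Fin K => μ v.1 v.2) (algebraMap S B s) = _
        rw [IsScalarTower.algebraMap_apply S (S ⊗[S₀] B₀) B, MvPolynomial.algebraMap_apply,
          eval₂Hom_C]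
        exact β₀.commutes s }
  have hβC : ∀ x, β (C x) = β₀ x := by
    intro x
    show eval₂Hom β₀.toRingHom (fun v : Fin d × Fin K => μ v.1 v.2) (C x) = _
    rw [eval₂Hom_C]
    rfl
  have hβX : ∀ v : Fin d × Fin K, β (X v) = μ v.1 v.2 := by
    intro v
    show eval₂Hom β₀.toRingHom (fun v : Fin d × Fin K => μ v.1 v.2) (X v) = _
    rw [eval₂Hom_X']
  -- the map `α`
  let α : A →+* B := (C : (S ⊗[S₀] B₀) →+* B).comp
    ((Algebra.TensorProduct.includeRight : B₀ →ₐ[S₀] S ⊗[S₀] B₀).toRingHom.comp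
      (g₀.toRingHom.comp (mkA.toRingHom.comp
        (C.comp (Algebra.TensorProduct.includeRight : A →ₐ[k] S₀ ⊗[k] A).toRingHom))))
  have hα : ∀ x : A, α x = C ((1 : S) ⊗ₜ[S₀] g₀ (mkA (C ((1 : S₀) ⊗ₜ[k] x)))) := fun x => rfl
  let ζ : Fin d → Fin r → B := fun i j =>
    C ((t i ^ n) ⊗ₜ[S₀] (1 : B₀)) * (C ((1 : S) ⊗ₜ[S₀] wt i j) +
      ∑ κ, X (i, κ) * C ((1 : S) ⊗ₜ[S₀] st κ j))
  refine ⟨B, inferInstance, inferInstance, inferInstance, α, ζ, β, ?_, ?_, ?_, ?_⟩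
  · intro a₀
    rw [hα, hβC, hβ₀r, hab]
  · intro i j
    show β (C ((t i ^ n) ⊗ₜ[S₀] (1 : B₀)) * (C ((1 : S) ⊗ₜ[S₀] wt i j) +
      ∑ κ, X (i, κ) * C ((1 : S) ⊗ₜ[S₀] st κ j))) = _
    rw [map_mul, map_add, map_sum, hβC, hβC, hβ₀l, hβ₀r, hwt]
    have e1 : ∀ κ, β (X (i, κ) * C ((1 : S) ⊗ₜ[S₀] st κ j)) =
        μ i κ * algebraMap D T (σ κ j) := by
      intro κ
      rw [map_mul, hβX, hβC, hβ₀r, hst]
    rw [Finset.sum_congr rfl (fun κ _ => e1 κ), ← hμ i j, map_pow]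
    have : algebraMap S T (t i) ^ n * (algebraMap D T (w i j) +
        (lam i j * ui i ^ n - algebraMap D T (w i j))) =
        lam i j * (ui i * algebraMap S T (t i)) ^ n := by ring
    rw [this, hui, one_pow, mul_one]
  · intro i
    have e1 : ∀ j, ζ i j * α (a j) = C ((t i ^ n) ⊗ₜ[S₀] (1 : B₀)) *
        (C ((1 : S) ⊗ₜ[S₀] (wt i j * ab j)) +
          ∑ κ, X (i, κ) * C ((1 : S) ⊗ₜ[S₀] (st κ j * ab j))) := by
      intro j
      show C ((t i ^ n) ⊗ₜ[S₀] (1 : B₀)) * (C ((1 : S) ⊗ₜ[S₀] wt i j) +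
        ∑ κ, X (i, κ) * C ((1 : S) ⊗ₜ[S₀] st κ j)) * C ((1 : S) ⊗ₜ[S₀] ab j) = _
      rw [mul_assoc, add_mul, Finset.sum_mul, ← C_mul, Algebra.TensorProduct.tmul_mul_tmul, one_mul]
      congr 2
      refine Finset.sum_congr rfl fun κ _ => ?_
      rw [mul_assoc, ← C_mul, Algebra.TensorProduct.tmul_mul_tmul, one_mul]
    rw [Finset.sum_congr rfl (fun j _ => e1 j), ← Finset.mul_sum, Finset.sum_add_distrib,
      ← map_sum, ← TensorProduct.tmul_sum, ← hrel1, Finset.sum_comm]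
    have e2 : ∀ κ, ∑ j, X (i, κ) * C ((1 : S) ⊗ₜ[S₀] (st κ j * ab j)) = (0 : B) := by
      intro κ
      rw [← Finset.mul_sum, ← map_sum, ← TensorProduct.tmul_sum, hrel2, TensorProduct.tmul_zero,
        map_zero, mul_zero]
    rw [Finset.sum_congr rfl (fun κ _ => e2 κ), Finset.sum_const_zero, add_zero, ← C_mul,
      Algebra.TensorProduct.tmul_mul_tmul, mul_one, one_mul]
    rw [← map_pow, IsScalarTower.algebraMap_apply S (S ⊗[S₀] B₀) B, MvPolynomial.algebraMap_apply,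
      algebraMap_tensor_left, mul_pow, ← map_pow, tmul_algebraMap_left, map_pow]
    rfl
  · intro c
    rw [hα]
    rw [IsScalarTower.algebraMap_apply S (S ⊗[S₀] B₀) B, MvPolynomial.algebraMap_apply]
    congr 1
    have e1 : ((1 : S₀) ⊗ₜ[k] algebraMap k A c : S₀ ⊗[k] A) =
        algebraMap S₀ (Base k A S₀) (algebraMap k S₀ c) := one_tmul_algebraMap c
    rw [e1, ← MvPolynomial.algebraMap_apply, AlgHom.commutes,
      AlgHom.commutes, algebraMap_tensor_left, ← one_mul (algebraMap S₀ S (algebraMap k S₀ c)),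
      tmul_algebraMap_left]
    rfl

end Groth.Agent.Lib.Helper8.IN4
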