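import Mathlib
import Groth.Prelude.Def_Smoothing
import Groth.Agent.Lib.Helper8.IN1
import Groth.Agent.Lib.Helper8.IN2
import Groth.Agent.Lib.Helper8.IN4
import Groth.Agent.Lib.Helper8.IN13
import Groth.Agent.Lib.Helper8.IN14
import Groth.Agent.Lib.Helper8.IN15
import Groth.Agent.Lib.Helper8.LQ1

set_option backward.isDefEq.respectTransparency.types false
set_option autoImplicit false
set_option linter.unusedSectionVars false
set_option linter.style.haveILetI false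

namespace Groth.Agent.Lib.Helper8.IN16

open Smoothing MvPolynomial IsLocalRing TensorProduct Groth.Agent.Lib.Helper8
  Groth.Agent.Lib.Helper8.IN8 Groth.Agent.Lib.Helper8.PB5

universe u

attribute [local instance] IN11.algA0

section EP2

variable {k A Λ : Type u} [Field k] [CommRing A] [Algebra k A]
    [Algebra.FinitePresentation k A] [CommRing Λ] [Algebra k Λ] [IsNoetherianRing Λ]

open BB1 BB2 BB3

/-- the assembly, given all the choices. -/
theorem ep2 (φ : A →ₐ[k] Λ) (𝔮 : Ideal Λ) [𝔮.IsPrime] (hmin : 𝔮 ∈ (singRad k φ).minimalPrimes)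
    [IsRegularLocalRing (Localization.AtPrime 𝔮)]
    {d r n : ℕ} (hdpos : 0 < d) (hd : ringKrullDim (Localization.AtPrime 𝔮) = d)
    (a : Fin r → A) (haH : ∀ j, a j ∈ singularIdeal k A)
    (ha' : Ideal.span (Set.range a) = singularIdeal k A) (hn : 0 < n)
    (hpow : (𝔮 ^ n).map (algebraMap Λ (Localization.AtPrime 𝔮)) ≤
      ((singularIdeal k A).map φ).map (algebraMap Λ (Localization.AtPrime 𝔮)))
    (Cr : Type u) [CommRing Cr] [Algebra (BB k d r n a) Cr] [Algebra (MvPolynomial (Fin d) k) Cr]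
    [IsScalarTower (MvPolynomial (Fin d) k) (BB k d r n a) Cr]
    [Algebra.FinitePresentation (MvPolynomial (Fin d) k) Cr]
    (ret : Cr →ₐ[BB k d r n a] BB k d r n a)
    (hCsing : ∀ b ∈ singularIdeal (MvPolynomial (Fin d) k) (BB k d r n a),
        algebraMap (BB k d r n a) Cr b ∈ singularIdeal (MvPolynomial (Fin d) k) Cr)
    (c : ℕ) (hc : 0 < c)
    (hstd : ∀ i : Fin d, IsStrictlyStandard (MvPolynomial (Fin d) k) Cr
      (algebraMap (MvPolynomial (Fin d) k) Cr (X i ^ c)))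
    (N : ℕ) (hN : d * (c * 8) + 1 ≤ N + 1)
    (σ : ResidueField (LL 𝔮 N) →+* LL 𝔮 N) (hσ : ∀ x, residue _ (σ x) = x)
    {s : ℕ} (G : Fin s → Λ) (hG : Ideal.span (Set.range G) = 𝔮)
    (F : IntermediateField k (ResidueField (LL 𝔮 N)))
    (hk : ∀ c : k, algebraMap k (LL 𝔮 N) c ∈ (PsiF σ (mkL 𝔮 N ∘ G) F).range)
    [Algebra.EssFiniteType k F]
    [Module.Flat (subalg σ (mkL 𝔮 N ∘ G) F hk) (LL 𝔮 N)]
    (hφA : ∀ a₀, mkL 𝔮 N (φ a₀) ∈ subalg σ (mkL 𝔮 N ∘ G) F hk)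
    {R₀ : Type u} [CommRing R₀] [Algebra k R₀] [IsNoetherianRing R₀]
    [Algebra.FormallySmooth k R₀] [Algebra.FinitePresentation k R₀]
    (φ₀ : R₀ →+* Λ) (hφ₀k : ∀ c, φ₀ (algebraMap k R₀ c) = algebraMap k Λ c)
    [IsRegularLocalRing (Localization.AtPrime (𝔮.comap φ₀))]
    (hφ₀ : ∀ f, mkL 𝔮 N (φ₀ f) ∈ subalg σ (mkL 𝔮 N ∘ G) F hk)
    {t : ℕ} (xr : Fin t → R₀) (x : Fin t → Λ) (hxr : ∀ i, φ₀ (xr i) = x i)
    (hxF : ∀ i, residue _ (mkL 𝔮 N (x i)) ∈ F)
    (hxσ : ∀ i, mkL 𝔮 N (x i) = σ (residue _ (mkL 𝔮 N (x i))))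
    (hspanD : Submodule.span F (Set.range fun i => KaehlerDifferential.D k F
      ⟨residue _ (mkL 𝔮 N (x i)), hxF i⟩) = ⊤)
    (π : Fin d → R₀)
    (hspanA : Ideal.span (Set.range fun j => algebraMap R₀
        (Localization.AtPrime (𝔮.comap φ₀)) (π j)) =
      maximalIdeal (Localization.AtPrime (𝔮.comap φ₀)))
    (hdimA : ringKrullDim (Localization.AtPrime (𝔮.comap φ₀)) = d)
    [Module.Flat (Localization.AtPrime (𝔮.comap φ₀)) (Localization.AtPrime 𝔮)]
    (hspanΛ : Ideal.span (Set.range fun j =>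
      algebraMap Λ (Localization.AtPrime 𝔮) (φ₀ (π j))) =
        maximalIdeal (Localization.AtPrime 𝔮)) :
    Resolvable k φ 𝔮 := by
  classical
  haveI : IsNoetherianRing (Localization.AtPrime 𝔮) :=
    IsLocalization.isNoetherianRing 𝔮.primeCompl _ inferInstance
  have he : 0 < c * 8 := by omega
  -- the ideal `I`
  have hIspan : (singularIdeal k A).map φ = Ideal.span (Set.range fun j => φ (a j)) := by
    rw [← ha', Ideal.map_span, ← Set.range_comp]
    rfl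
  -- `R₀`-side multipliers
  obtain ⟨u, hu, hstar⟩ := IN1.exists_multipliers_subsets (𝔮.comap φ₀)
    (Localization.AtPrime (𝔮.comap φ₀)) (c * 8) d he hdimA π hspanA d le_rfl
  have hstar' : ∀ i : Fin d, ∀ S : Finset (Fin d), (∀ j ∈ S, j < i) → ∀ x : R₀,
      (u i * π i) ^ 2 * x ∈ Ideal.span ((fun j => (u j * π j) ^ (c * 8)) '' (S : Set (Fin d))) →
      (u i * π i) * x ∈ Ideal.span ((fun j => (u j * π j) ^ (c * 8)) '' (S : Set (Fin d))) :=
    fun i => hstar i i.2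
  obtain ⟨pt, hpt⟩ : ∃ pt : Fin d → R₀, pt = fun i => u i * π i := ⟨_, rfl⟩
  have hpti : ∀ i, pt i = u i * π i := fun i => by rw [hpt]
  have hstarR : ∀ i : Fin d, ∀ S : Finset (Fin d), (∀ j ∈ S, j < i) → ∀ x : R₀,
      (pt i) ^ 2 * x ∈ Ideal.span ((fun j => (pt j) ^ (c * 8)) '' (S : Set (Fin d))) →
      (pt i) * x ∈ Ideal.span ((fun j => (pt j) ^ (c * 8)) '' (S : Set (Fin d))) := by
    rw [hpt]
    exact hstar'
  -- units
  have huA : ∀ i, IsUnit (algebraMap R₀ (Localization.AtPrime (𝔮.comap φ₀)) (u i)) := fun i =>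
    IsLocalization.map_units (Localization.AtPrime (𝔮.comap φ₀))
      (⟨u i, hu i⟩ : (𝔮.comap φ₀).primeCompl)
  have huΛ : ∀ i, φ₀ (u i) ∉ 𝔮 := fun i => hu i
  have hspanAt : Ideal.span (Set.range fun j => algebraMap R₀
      (Localization.AtPrime (𝔮.comap φ₀)) (pt j)) =
      maximalIdeal (Localization.AtPrime (𝔮.comap φ₀)) := by
    rw [← hspanA]
    apply PAR2.span_range_eq_of_units
    intro j
    exact ⟨_, huA j, by rw [hpti, map_mul]⟩
  have hunitΛ : ∀ z : Λ, z ∉ 𝔮 → IsUnit (algebraMap Λ (Localization.AtPrime 𝔮) z) := fun z hz =>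
    IsLocalization.map_units (Localization.AtPrime 𝔮) (⟨z, hz⟩ : 𝔮.primeCompl)
  have hspanΛt : Ideal.span (Set.range fun j =>
      algebraMap Λ (Localization.AtPrime 𝔮) (φ₀ (pt j))) =
      maximalIdeal (Localization.AtPrime 𝔮) := by
    rw [← hspanΛ]
    apply PAR2.span_range_eq_of_units
    intro j
    exact ⟨_, hunitΛ _ (huΛ j), by rw [hpti, map_mul, map_mul]⟩
  have hpt𝔮 : ∀ i, φ₀ (pt i) ∈ 𝔮 := by
    intro i
    rw [← IsLocalization.AtPrime.to_map_mem_maximal_iff (Localization.AtPrime 𝔮) 𝔮, ← hspanΛt]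
    exact Ideal.subset_span ⟨i, rfl⟩
  -- first `Λ`-side multiplier: exactness of the `n`-th power
  have hs1 : ∀ i, ∃ s₁ : Λ, s₁ ∉ 𝔮 ∧ s₁ * φ₀ (pt i) ^ n ∈ (singularIdeal k A).map φ := by
    intro i
    apply PAR1.exists_mul_mem_of_map_mem 𝔮 (Localization.AtPrime 𝔮)
    apply hpow
    apply Ideal.mem_map_of_mem
    exact Ideal.pow_mem_pow (hpt𝔮 i) n
  choose s₁ hs₁𝔮 hs₁I using hs1
  obtain ⟨y₁, hy₁⟩ : ∃ y₁ : Fin d → Λ, y₁ = fun i => s₁ i * φ₀ (pt i) := ⟨_, rfl⟩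
  have hy₁i : ∀ i, y₁ i = s₁ i * φ₀ (pt i) := fun i => by rw [hy₁]
  have hy₁I : ∀ i, y₁ i ^ n ∈ (singularIdeal k A).map φ := by
    intro i
    obtain ⟨m, hm⟩ : ∃ m, n = m + 1 := ⟨n - 1, by omega⟩
    have : y₁ i ^ n = s₁ i ^ m * (s₁ i * φ₀ (pt i) ^ n) := by
      rw [hy₁i, mul_pow, hm]; ring
    rw [this]
    exact Ideal.mul_mem_left _ _ (hs₁I i)
  have hspany₁ : Ideal.span (Set.range fun j =>
      algebraMap Λ (Localization.AtPrime 𝔮) (y₁ j)) = maximalIdeal (Localization.AtPrime 𝔮) := by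
    rw [← hspanΛt]
    apply PAR2.span_range_eq_of_units
    intro j
    exact ⟨_, hunitΛ _ (hs₁𝔮 j), by rw [hy₁i, map_mul]⟩
  -- second `Λ`-side multipliers: the annihilator condition
  obtain ⟨δ₂, hδ₂, hstarΛ⟩ := IN1.exists_multipliers_subsets 𝔮
    (Localization.AtPrime 𝔮) (c * 8) d he hd y₁ hspany₁ d le_rfl
  obtain ⟨δ, hδdef⟩ : ∃ δ : Fin d → Λ, δ = fun i => δ₂ i * s₁ i := ⟨_, rfl⟩
  have hδi : ∀ i, δ i = δ₂ i * s₁ i := fun i => by rw [hδdef]
  have hδ𝔮 : ∀ i, δ i ∉ 𝔮 := by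
    intro i h
    rw [hδi] at h
    rcases Ideal.IsPrime.mem_or_mem inferInstance h with h | h
    · exact hδ₂ i h
    · exact hs₁𝔮 i h
  obtain ⟨y, hydef⟩ : ∃ y : Fin d → Λ, y = fun i => φ₀ (pt i) * δ i := ⟨_, rfl⟩
  have hyi : ∀ i, y i = φ₀ (pt i) * δ i := fun i => by rw [hydef]
  have hyi' : ∀ i, y i = δ₂ i * y₁ i := fun i => by rw [hyi, hδi, hy₁i]; ring
  have hy𝔮 : ∀ i, y i ∈ 𝔮 := fun i => by rw [hyi]; exact Ideal.mul_mem_right _ _ (hpt𝔮 i)
  have hyI : ∀ i, y i ^ n ∈ (singularIdeal k A).map φ := by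
    intro i
    rw [hyi', mul_pow]
    exact Ideal.mul_mem_left _ _ (hy₁I i)
  have hstarΛ' : ∀ i : Fin d, ∀ S : Finset (Fin d), (∀ j ∈ S, j < i) → ∀ x : Λ,
      (y i) ^ 2 * x ∈ Ideal.span ((fun j => (y j) ^ (c * 8)) '' (S : Set (Fin d))) →
      (y i) * x ∈ Ideal.span ((fun j => (y j) ^ (c * 8)) '' (S : Set (Fin d))) := by
    have : y = fun i => δ₂ i * y₁ i := funext hyi'
    rw [this]
    exact fun i => hstarΛ i i.2
  have hlam : ∀ i, ∃ l : Fin r → Λ, ∑ j, l j * φ (a j) = y i ^ n := by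
    intro i
    have := hyI i
    rw [hIspan] at this
    exact (Ideal.mem_span_range_iff_exists_fun).mp this
  choose lam hlam using hlam
  -- the ring `R = R₀[T]`
  letI algRΛ : Algebra (MvPolynomial (Fin d) R₀) Λ := (eval₂Hom φ₀ δ).toAlgebra
  have halgC : ∀ r₀ : R₀, algebraMap (MvPolynomial (Fin d) R₀) Λ (C r₀) = φ₀ r₀ :=
    fun r₀ => eval₂Hom_C φ₀ δ r₀
  have halgX : ∀ i, algebraMap (MvPolynomial (Fin d) R₀) Λ (X i) = δ i :=
    fun i => eval₂Hom_X' φ₀ δ i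
  haveI : IsScalarTower k (MvPolynomial (Fin d) R₀) Λ := by
    refine IsScalarTower.of_algebraMap_eq fun c₀ => ?_
    rw [MvPolynomial.algebraMap_apply, halgC, hφ₀k]
  haveI : Algebra.FormallySmooth k (MvPolynomial (Fin d) R₀) :=
    Algebra.FormallySmooth.comp k R₀ _
  haveI : Algebra.FinitePresentation k (MvPolynomial (Fin d) R₀) :=
    Algebra.FinitePresentation.trans k R₀ _
  have hγ : ∀ i, algebraMap (MvPolynomial (Fin d) R₀) Λ (IN2.gam pt i) = y i := by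
    intro i
    unfold IN2.gam
    rw [map_mul, halgC, halgX, hyi]
  have hrel : ∀ i, (algebraMap (MvPolynomial (Fin d) R₀) Λ (IN2.gam pt i)) ^ n =
      ∑ j, lam i j * φ (a j) := fun i => by rw [hγ, hlam]
  have hγ𝔮 : ∀ i, algebraMap (MvPolynomial (Fin d) R₀) Λ (IN2.gam pt i) ∈ 𝔮 :=
    fun i => by rw [hγ]; exact hy𝔮 i
  have hR : ∀ i : Fin d, ∀ x : MvPolynomial (Fin d) R₀ ⧸ Ideal.span (Set.range
        fun j : {j : Fin d // (j : ℕ) < (i : ℕ)} => IN2.gam pt j ^ (c * 8)),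
      Ideal.Quotient.mk _ (IN2.gam pt i) ^ 2 * x = 0 → Ideal.Quotient.mk _ (IN2.gam pt i) * x = 0 :=
    fun i x hx => IN2.ann_condition_t pt (c * 8) hstarR i x hx
  have hΛ : ∀ i : Fin d, ∀ x : Λ ⧸ Ideal.span (Set.range
        fun j : {j : Fin d // (j : ℕ) < (i : ℕ)} =>
          algebraMap (MvPolynomial (Fin d) R₀) Λ (IN2.gam pt j) ^ (c * 8)),
      Ideal.Quotient.mk _ (algebraMap (MvPolynomial (Fin d) R₀) Λ (IN2.gam pt i)) ^ 2 * x = 0 →
        Ideal.Quotient.mk _ (algebraMap (MvPolynomial (Fin d) R₀) Λ (IN2.gam pt i)) * x = 0 := by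
    have hfam : (fun i => algebraMap (MvPolynomial (Fin d) R₀) Λ (IN2.gam pt i)) = y :=
      funext hγ
    have := IN15.ann_format y (c * 8) hstarΛ'
    rw [← hfam] at this
    exact this
  -- the ideal `K`
  obtain ⟨K, hK⟩ : ∃ K : Ideal (MvPolynomial (Fin d) R₀),
      K = Ideal.span (Set.range fun i => (IN2.gam pt i ^ c) ^ 8) := ⟨_, rfl⟩
  have hK𝔮 : K.map (algebraMap (MvPolynomial (Fin d) R₀) Λ) ≤ 𝔮 := by
    rw [hK, Ideal.map_span, Ideal.span_le]
    rintro _ ⟨_, ⟨i, rfl⟩, rfl⟩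
    rw [SetLike.mem_coe, map_pow, map_pow]
    exact Ideal.pow_mem_of_mem _ (Ideal.pow_mem_of_mem _ (hγ𝔮 i) c hc) 8 (by norm_num)
  haveI hP : (𝔮.map (Ideal.Quotient.mk (K.map (algebraMap (MvPolynomial (Fin d) R₀) Λ)))).IsPrime := by
    apply Ideal.map_isPrime_of_surjective Ideal.Quotient.mk_surjective
    rw [Ideal.mk_ker]
    exact hK𝔮
  have hmem𝔮' : ∀ z : Λ, Ideal.Quotient.mk (K.map (algebraMap (MvPolynomial (Fin d) R₀) Λ)) z ∈
      𝔮.map (Ideal.Quotient.mk (K.map (algebraMap (MvPolynomial (Fin d) R₀) Λ))) ↔ z ∈ 𝔮 :=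
    fun z => Ideal.mem_quotient_iff_mem hK𝔮
  -- the ideal `J`
  obtain ⟨J, hJ⟩ : ∃ J : Ideal (Localization.AtPrime (𝔮.comap φ₀)),
      J = Ideal.span (Set.range fun i =>
        (algebraMap R₀ (Localization.AtPrime (𝔮.comap φ₀)) (pt i)) ^ (c * 8)) := ⟨_, rfl⟩
  obtain ⟨hJ1, hJ3⟩ := IN15.span_pow_le
    (fun j => algebraMap R₀ (Localization.AtPrime (𝔮.comap φ₀)) (pt j)) hspanAt (c * 8) he
  rw [← hJ] at hJ1 hJ3
  have hJmap : J.map (algebraMap (Localization.AtPrime (𝔮.comap φ₀)) (Localization.AtPrime 𝔮)) =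
      Ideal.span (Set.range fun i =>
        (algebraMap Λ (Localization.AtPrime 𝔮) (φ₀ (pt i))) ^ (c * 8)) := by
    rw [hJ, Ideal.map_span, ← Set.range_comp]
    congr 2
    funext i
    rw [Function.comp_apply, map_pow, IN11.algA0_map]
  obtain ⟨hJΛ1, hJΛ3⟩ := IN15.span_pow_le
    (fun j => algebraMap Λ (Localization.AtPrime 𝔮) (φ₀ (pt j))) hspanΛt (c * 8) he
  rw [← hJmap] at hJΛ1 hJΛ3
  have hJ2 : maximalIdeal (Localization.AtPrime 𝔮) ^ (N + 1) ≤
      J.map (algebraMap (Localization.AtPrime (𝔮.comap φ₀)) (Localization.AtPrime 𝔮)) :=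
    (Ideal.pow_le_pow_right hN).trans hJΛ3
  have hJ'eq : J.map (algebraMap (Localization.AtPrime (𝔮.comap φ₀)) (Localization.AtPrime 𝔮)) =
      (K.map (algebraMap (MvPolynomial (Fin d) R₀) Λ)).map
        (algebraMap Λ (Localization.AtPrime 𝔮)) := by
    rw [hJmap, hK, Ideal.map_span, Ideal.map_span, ← Set.range_comp, ← Set.range_comp]
    symm
    apply PAR2.span_range_eq_of_units
    intro j
    refine ⟨(algebraMap Λ (Localization.AtPrime 𝔮) (δ j)) ^ (c * 8),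
      (hunitΛ _ (hδ𝔮 j)).pow _, ?_⟩
    rw [Function.comp_apply, Function.comp_apply, ← pow_mul, map_pow, hγ, hyi, map_pow, map_mul,
      mul_pow, mul_comm]
  have hle : K.map (algebraMap (MvPolynomial (Fin d) R₀) Λ) ≤
      (J.map (algebraMap (Localization.AtPrime (𝔮.comap φ₀)) (Localization.AtPrime 𝔮))).comap
        (algebraMap Λ (Localization.AtPrime 𝔮)) := by
    rw [hJ'eq]
    exact Ideal.le_comap_map
  letI algT : Algebra (Λ ⧸ K.map (algebraMap (MvPolynomial (Fin d) R₀) Λ))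
      (Localization.AtPrime 𝔮 ⧸
        J.map (algebraMap (Localization.AtPrime (𝔮.comap φ₀)) (Localization.AtPrime 𝔮))) :=
    (Ideal.quotientMap _ (algebraMap Λ (Localization.AtPrime 𝔮)) hle).toAlgebra
  have halgT : ∀ z : Λ, algebraMap (Λ ⧸ K.map (algebraMap (MvPolynomial (Fin d) R₀) Λ))
      (Localization.AtPrime 𝔮 ⧸
        J.map (algebraMap (Localization.AtPrime (𝔮.comap φ₀)) (Localization.AtPrime 𝔮)))
      (Ideal.Quotient.mk _ z) = Ideal.Quotient.mk _ (algebraMap Λ (Localization.AtPrime 𝔮) z) :=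
    fun z => rfl
  haveI hlocT : IsLocalization.AtPrime (Localization.AtPrime 𝔮 ⧸
        J.map (algebraMap (Localization.AtPrime (𝔮.comap φ₀)) (Localization.AtPrime 𝔮)))
      (𝔮.map (Ideal.Quotient.mk (K.map (algebraMap (MvPolynomial (Fin d) R₀) Λ)))) :=
    LQ1.isLocalization_atPrime_quotient 𝔮 (Localization.AtPrime 𝔮) _ hK𝔮 _ hJ'eq halgT
  letI algRKT : Algebra (MvPolynomial (Fin d) R₀ ⧸ K) (Localization.AtPrime 𝔮 ⧸
        J.map (algebraMap (Localization.AtPrime (𝔮.comap φ₀)) (Localization.AtPrime 𝔮))) :=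
    ((algebraMap (Λ ⧸ K.map (algebraMap (MvPolynomial (Fin d) R₀) Λ)) _).comp
      (algebraMap (MvPolynomial (Fin d) R₀ ⧸ K)
        (Λ ⧸ K.map (algebraMap (MvPolynomial (Fin d) R₀) Λ)))).toAlgebra
  haveI : IsScalarTower (MvPolynomial (Fin d) R₀ ⧸ K)
      (Λ ⧸ K.map (algebraMap (MvPolynomial (Fin d) R₀) Λ)) (Localization.AtPrime 𝔮 ⧸
        J.map (algebraMap (Localization.AtPrime (𝔮.comap φ₀)) (Localization.AtPrime 𝔮))) :=
    IsScalarTower.of_algebraMap_eq fun _ => rfl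
  have hdim : ringKrullDim (Localization.AtPrime 𝔮 ⧸
        J.map (algebraMap (Localization.AtPrime (𝔮.comap φ₀)) (Localization.AtPrime 𝔮))) = 0 := by
    refine FN1.ringKrullDim_quotient_eq_zero (maximalIdeal (Localization.AtPrime 𝔮)) _ hJΛ1 ?_
    intro z hz
    exact ⟨d * (c * 8) + 1, hJΛ3 (Ideal.pow_mem_pow hz _)⟩
  -- the localization `SK`
  have halgRK : ∀ z : MvPolynomial (Fin d) R₀, algebraMap (MvPolynomial (Fin d) R₀ ⧸ K)
      (Λ ⧸ K.map (algebraMap (MvPolynomial (Fin d) R₀) Λ)) (Ideal.Quotient.mk K z) =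
      Ideal.Quotient.mk _ (algebraMap (MvPolynomial (Fin d) R₀) Λ z) := fun z => rfl
  have hunitsT : ∀ z : ((𝔮.map (Ideal.Quotient.mk
      (K.map (algebraMap (MvPolynomial (Fin d) R₀) Λ)))).comap
      (algebraMap (MvPolynomial (Fin d) R₀ ⧸ K)
        (Λ ⧸ K.map (algebraMap (MvPolynomial (Fin d) R₀) Λ)))).primeCompl,
      IsUnit (algebraMap (MvPolynomial (Fin d) R₀ ⧸ K) (Localization.AtPrime 𝔮 ⧸
        J.map (algebraMap (Localization.AtPrime (𝔮.comap φ₀)) (Localization.AtPrime 𝔮)))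
        (z : MvPolynomial (Fin d) R₀ ⧸ K)) := by
    rintro ⟨z, hz⟩
    exact IsLocalization.map_units (Localization.AtPrime 𝔮 ⧸
        J.map (algebraMap (Localization.AtPrime (𝔮.comap φ₀)) (Localization.AtPrime 𝔮)))
      (⟨algebraMap (MvPolynomial (Fin d) R₀ ⧸ K)
        (Λ ⧸ K.map (algebraMap (MvPolynomial (Fin d) R₀) Λ)) z, hz⟩ :
        (𝔮.map (Ideal.Quotient.mk (K.map (algebraMap (MvPolynomial (Fin d) R₀) Λ)))).primeCompl)
  letI algST : Algebra (Localization.AtPrime ((𝔮.map (Ideal.Quotient.mk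
      (K.map (algebraMap (MvPolynomial (Fin d) R₀) Λ)))).comap
      (algebraMap (MvPolynomial (Fin d) R₀ ⧸ K)
        (Λ ⧸ K.map (algebraMap (MvPolynomial (Fin d) R₀) Λ)))))
      (Localization.AtPrime 𝔮 ⧸
        J.map (algebraMap (Localization.AtPrime (𝔮.comap φ₀)) (Localization.AtPrime 𝔮))) :=
    (IsLocalization.lift (M := ((𝔮.map (Ideal.Quotient.mk
      (K.map (algebraMap (MvPolynomial (Fin d) R₀) Λ)))).comap
      (algebraMap (MvPolynomial (Fin d) R₀ ⧸ K)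
        (Λ ⧸ K.map (algebraMap (MvPolynomial (Fin d) R₀) Λ)))).primeCompl)
      (g := algebraMap (MvPolynomial (Fin d) R₀ ⧸ K) (Localization.AtPrime 𝔮 ⧸
        J.map (algebraMap (Localization.AtPrime (𝔮.comap φ₀)) (Localization.AtPrime 𝔮))))
      hunitsT).toAlgebra
  haveI towerST : IsScalarTower (MvPolynomial (Fin d) R₀ ⧸ K)
      (Localization.AtPrime ((𝔮.map (Ideal.Quotient.mk
      (K.map (algebraMap (MvPolynomial (Fin d) R₀) Λ)))).comap
      (algebraMap (MvPolynomial (Fin d) R₀ ⧸ K)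
        (Λ ⧸ K.map (algebraMap (MvPolynomial (Fin d) R₀) Λ)))))
      (Localization.AtPrime 𝔮 ⧸
        J.map (algebraMap (Localization.AtPrime (𝔮.comap φ₀)) (Localization.AtPrime 𝔮))) :=
    IsScalarTower.of_algebraMap_eq fun z => (IsLocalization.lift_eq hunitsT z).symm
  -- the map `R → SK`
  obtain ⟨toSK, htoSK⟩ : ∃ toSK : MvPolynomial (Fin d) R₀ →+*
      Localization.AtPrime ((𝔮.map (Ideal.Quotient.mk
      (K.map (algebraMap (MvPolynomial (Fin d) R₀) Λ)))).comap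
      (algebraMap (MvPolynomial (Fin d) R₀ ⧸ K)
        (Λ ⧸ K.map (algebraMap (MvPolynomial (Fin d) R₀) Λ)))),
      toSK = (algebraMap (MvPolynomial (Fin d) R₀ ⧸ K) _).comp (Ideal.Quotient.mk K) := ⟨_, rfl⟩
  have htoSKa : ∀ z, toSK z = algebraMap (MvPolynomial (Fin d) R₀ ⧸ K) _ (Ideal.Quotient.mk K z) :=
    fun z => by rw [htoSK]; rfl
  have hunitSK : ∀ z : MvPolynomial (Fin d) R₀, algebraMap (MvPolynomial (Fin d) R₀) Λ z ∉ 𝔮 →
      IsUnit (toSK z) := by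
    intro z hz
    rw [htoSKa]
    refine IsLocalization.map_units _ (⟨Ideal.Quotient.mk K z, ?_⟩ :
      ((𝔮.map (Ideal.Quotient.mk
      (K.map (algebraMap (MvPolynomial (Fin d) R₀) Λ)))).comap
      (algebraMap (MvPolynomial (Fin d) R₀ ⧸ K)
        (Λ ⧸ K.map (algebraMap (MvPolynomial (Fin d) R₀) Λ)))).primeCompl)
    show Ideal.Quotient.mk K z ∉ Ideal.comap _ _
    rw [Ideal.mem_comap, halgRK, hmem𝔮']
    exact hz
  have htoSK_K : ∀ z ∈ K, toSK z = 0 := by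
    intro z hz
    rw [htoSKa, Ideal.Quotient.eq_zero_iff_mem.mpr hz, map_zero]
  have htoSKT : ∀ z, algebraMap _ (Localization.AtPrime 𝔮 ⧸
        J.map (algebraMap (Localization.AtPrime (𝔮.comap φ₀)) (Localization.AtPrime 𝔮))) (toSK z) =
      Ideal.Quotient.mk _ (algebraMap Λ (Localization.AtPrime 𝔮)
        (algebraMap (MvPolynomial (Fin d) R₀) Λ z)) := by
    intro z
    rw [htoSKa, ← IsScalarTower.algebraMap_apply (MvPolynomial (Fin d) R₀ ⧸ K),
      IsScalarTower.algebraMap_apply (MvPolynomial (Fin d) R₀ ⧸ K)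
        (Λ ⧸ K.map (algebraMap (MvPolynomial (Fin d) R₀) Λ)), halgRK, halgT]
  -- `X i` is a unit, `C (pt i) ^ e` vanishes
  have hXunit : ∀ i, IsUnit (toSK (X i)) := fun i => hunitSK _ (by rw [halgX]; exact hδ𝔮 i)
  have hCpt : ∀ i, toSK (C (pt i)) ^ (c * 8) = 0 := by
    intro i
    have h1 : toSK (IN2.gam pt i ^ (c * 8)) = 0 := by
      apply htoSK_K
      rw [hK, pow_mul]
      exact Ideal.subset_span ⟨i, rfl⟩
    unfold IN2.gam at h1
    rw [mul_pow, map_mul, map_pow, map_pow] at h1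
    exact ((hXunit i).pow (c * 8)).mul_left_eq_zero.mp h1
  -- the map `A₀ → SK`
  have hunitsθ : ∀ z : (𝔮.comap φ₀).primeCompl, IsUnit ((toSK.comp C) (z : R₀)) := by
    rintro ⟨z, hz⟩
    apply hunitSK
    rw [halgC]
    exact hz
  obtain ⟨θ, hθdef⟩ : ∃ θ : Localization.AtPrime (𝔮.comap φ₀) →+* _,
      θ = IsLocalization.lift (M := (𝔮.comap φ₀).primeCompl) (g := toSK.comp C) hunitsθ :=
    ⟨_, rfl⟩
  have hθ : ∀ r₀ : R₀, θ (algebraMap R₀ _ r₀) = toSK (C r₀) := by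
    intro r₀
    rw [hθdef]
    exact IsLocalization.lift_eq hunitsθ r₀
  have hθJ : ∀ z ∈ J, θ z = 0 := by
    have hle : J ≤ RingHom.ker θ := by
      rw [hJ, Ideal.span_le]
      rintro _ ⟨i, rfl⟩
      rw [SetLike.mem_coe, RingHom.mem_ker, map_pow, hθ]
      exact hCpt i
    exact fun z hz => RingHom.mem_ker.mp (hle hz)
  letI algS₀S : Algebra (Localization.AtPrime (𝔮.comap φ₀) ⧸ J)
      (Localization.AtPrime ((𝔮.map (Ideal.Quotient.mk
      (K.map (algebraMap (MvPolynomial (Fin d) R₀) Λ)))).comap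
      (algebraMap (MvPolynomial (Fin d) R₀ ⧸ K)
        (Λ ⧸ K.map (algebraMap (MvPolynomial (Fin d) R₀) Λ))))) :=
    (Ideal.Quotient.lift J θ hθJ).toAlgebra
  have halgS₀S : ∀ z, algebraMap (Localization.AtPrime (𝔮.comap φ₀) ⧸ J)
      (Localization.AtPrime ((𝔮.map (Ideal.Quotient.mk
      (K.map (algebraMap (MvPolynomial (Fin d) R₀) Λ)))).comap
      (algebraMap (MvPolynomial (Fin d) R₀ ⧸ K)
        (Λ ⧸ K.map (algebraMap (MvPolynomial (Fin d) R₀) Λ))))) (Ideal.Quotient.mk J z) = θ z :=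
    fun z => rfl
  have hθT : ∀ z : Localization.AtPrime (𝔮.comap φ₀),
      algebraMap _ (Localization.AtPrime 𝔮 ⧸
        J.map (algebraMap (Localization.AtPrime (𝔮.comap φ₀)) (Localization.AtPrime 𝔮))) (θ z) =
      Ideal.Quotient.mk _ (algebraMap (Localization.AtPrime (𝔮.comap φ₀))
        (Localization.AtPrime 𝔮) z) := by
    have h : (algebraMap (Localization.AtPrime ((𝔮.map (Ideal.Quotient.mk
      (K.map (algebraMap (MvPolynomial (Fin d) R₀) Λ)))).comap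
      (algebraMap (MvPolynomial (Fin d) R₀ ⧸ K)
        (Λ ⧸ K.map (algebraMap (MvPolynomial (Fin d) R₀) Λ))))) (Localization.AtPrime 𝔮 ⧸
        J.map (algebraMap (Localization.AtPrime (𝔮.comap φ₀)) (Localization.AtPrime 𝔮)))).comp θ =
        (Ideal.Quotient.mk (J.map (algebraMap (Localization.AtPrime (𝔮.comap φ₀))
          (Localization.AtPrime 𝔮)))).comp
          (algebraMap (Localization.AtPrime (𝔮.comap φ₀)) (Localization.AtPrime 𝔮)) := by
      apply IsLocalization.ringHom_ext (𝔮.comap φ₀).primeCompl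
      ext r₀
      simp only [RingHom.comp_apply]
      rw [hθ, htoSKT, halgC, IN11.algA0_map]
    exact fun z => DFunLike.congr_fun h z
  haveI towerS₀ST : IsScalarTower (Localization.AtPrime (𝔮.comap φ₀) ⧸ J)
      (Localization.AtPrime ((𝔮.map (Ideal.Quotient.mk
      (K.map (algebraMap (MvPolynomial (Fin d) R₀) Λ)))).comap
      (algebraMap (MvPolynomial (Fin d) R₀ ⧸ K)
        (Λ ⧸ K.map (algebraMap (MvPolynomial (Fin d) R₀) Λ)))))
      (Localization.AtPrime 𝔮 ⧸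
        J.map (algebraMap (Localization.AtPrime (𝔮.comap φ₀)) (Localization.AtPrime 𝔮))) := by
    refine IsScalarTower.of_algebraMap_eq fun z => ?_
    obtain ⟨z, rfl⟩ := Ideal.Quotient.mk_surjective z
    rw [halgS₀S, hθT]
    rfl
  -- Stage A2
  have hm1 : (maximalIdeal (Localization.AtPrime (𝔮.comap φ₀))).map
      (algebraMap (Localization.AtPrime (𝔮.comap φ₀)) (Localization.AtPrime 𝔮)) =
        maximalIdeal (Localization.AtPrime 𝔮) := by
    rw [← hspanAt, ← hspanΛt, Ideal.map_span, ← Set.range_comp]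
    congr 2
    funext j
    rw [Function.comp_apply, IN11.algA0_map]
  have hlamL : ∀ i, (mkL 𝔮 N ∘ G) i ∈ maximalIdeal (LL 𝔮 N) := by
    intro i
    rw [Function.comp_apply, mkL_mem_maximalIdeal_iff, ← hG]
    exact Ideal.subset_span ⟨i, rfl⟩
  obtain ⟨D, _, algS₀D, algDT, algkD, towerS₀DT, towerkS₀D, hindD, hffD, hnoethD, φD, hφD⟩ :=
    IN13.stageA2 𝔮 N σ hσ (mkL 𝔮 N ∘ G) hlamL F hk φ₀ hφ₀k hφ₀ (span_mkL_gens 𝔮 N G hG) hm1
      xr x hxr hxF hxσ hspanD J hJ1 hJ2 ⟨_, hJ3⟩ φ hφA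
  haveI := hffD
  haveI := hnoethD
  -- the data for the abstract Artinian factorization
  have htgam : ∀ i, toSK (X i) * algebraMap (Localization.AtPrime (𝔮.comap φ₀) ⧸ J) _
      (Ideal.Quotient.mk J (algebraMap R₀ _ (pt i))) = toSK (IN2.gam pt i) := by
    intro i
    rw [halgS₀S, hθ, ← map_mul]
    unfold IN2.gam
    rw [mul_comm]
  have hlamT : ∀ i, ∑ j, (Ideal.Quotient.mk (J.map (algebraMap (Localization.AtPrime (𝔮.comap φ₀))
        (Localization.AtPrime 𝔮))) (algebraMap Λ (Localization.AtPrime 𝔮) (lam i j))) *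
        algebraMap D _ (φD (a j)) =
      (algebraMap _ (Localization.AtPrime 𝔮 ⧸
        J.map (algebraMap (Localization.AtPrime (𝔮.comap φ₀)) (Localization.AtPrime 𝔮)))
        (toSK (X i) * algebraMap (Localization.AtPrime (𝔮.comap φ₀) ⧸ J) _
          (Ideal.Quotient.mk J (algebraMap R₀ _ (pt i))))) ^ n := by
    intro i
    rw [htgam, htoSKT, hγ, ← map_pow, ← map_pow, ← hlam, map_sum, map_sum]
    refine Finset.sum_congr rfl fun j _ => ?_
    rw [hφD, map_mul, map_mul]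
  have hw : ∀ i, (algebraMap (Localization.AtPrime (𝔮.comap φ₀) ⧸ J) D
      (Ideal.Quotient.mk J (algebraMap R₀ _ (pt i)))) ^ n ∈
      Ideal.span (Set.range fun j => φD (a j)) := by
    intro i
    rw [← Ideal.comap_map_eq_self_of_faithfullyFlat (B := Localization.AtPrime 𝔮 ⧸
        J.map (algebraMap (Localization.AtPrime (𝔮.comap φ₀)) (Localization.AtPrime 𝔮)))
      (Ideal.span (Set.range fun j => φD (a j))), Ideal.mem_comap, Ideal.map_span,
      ← Set.range_comp, map_pow,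
      ← IsScalarTower.algebraMap_apply (Localization.AtPrime (𝔮.comap φ₀) ⧸ J) D]
    have h1 : algebraMap (Localization.AtPrime (𝔮.comap φ₀) ⧸ J) (Localization.AtPrime 𝔮 ⧸
        J.map (algebraMap (Localization.AtPrime (𝔮.comap φ₀)) (Localization.AtPrime 𝔮)))
        (Ideal.Quotient.mk J (algebraMap R₀ _ (pt i))) =
        Ideal.Quotient.mk _ (algebraMap Λ (Localization.AtPrime 𝔮) (φ₀ (pt i))) := by
      rw [← IN11.algA0_map]
      rfl
    rw [h1, ← map_pow, ← map_pow]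
    have h2 : algebraMap Λ (Localization.AtPrime 𝔮) (φ₀ (pt i) ^ n) ∈
        Ideal.span (Set.range fun j => algebraMap Λ (Localization.AtPrime 𝔮) (φ (a j))) := by
      have h3 := hpow (Ideal.mem_map_of_mem (algebraMap Λ (Localization.AtPrime 𝔮))
        (Ideal.pow_mem_pow (hpt𝔮 i) n))
      rw [hIspan, Ideal.map_span, ← Set.range_comp] at h3
      exact h3
    have h4 := Ideal.mem_map_of_mem (Ideal.Quotient.mk (J.map (algebraMap
      (Localization.AtPrime (𝔮.comap φ₀)) (Localization.AtPrime 𝔮)))) h2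
    rw [Ideal.map_span, ← Set.range_comp] at h4
    have hfun : ((algebraMap D (Localization.AtPrime 𝔮 ⧸
        J.map (algebraMap (Localization.AtPrime (𝔮.comap φ₀)) (Localization.AtPrime 𝔮)))) ∘
        fun j => φD (a j)) =
        ((Ideal.Quotient.mk (J.map (algebraMap
          (Localization.AtPrime (𝔮.comap φ₀)) (Localization.AtPrime 𝔮)))) ∘
          fun j => algebraMap Λ (Localization.AtPrime 𝔮) (φ (a j))) :=
      funext fun j => hφD (a j)
    rw [hfun]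
    exact h4
  obtain ⟨B, _, _, hsm, α, ζ, β, h1, h2, h3, h4⟩ := IN4.artinian_factor (k := k) hindD φD a n
    (fun i => Ideal.Quotient.mk J (algebraMap R₀ _ (pt i))) (fun i => toSK (X i))
    (fun i => (hXunit i).map _)
    (fun i j => Ideal.Quotient.mk _ (algebraMap Λ (Localization.AtPrime 𝔮) (lam i j))) hlamT hw
  refine IN14.ep1 φ 𝔮 hmin hdpos a haH ha' Cr ret hCsing c hc hstd (MvPolynomial (Fin d) R₀)
    (IN2.gam pt) lam hrel hγ𝔮 hR hΛ K hK
    (Localization.AtPrime ((𝔮.map (Ideal.Quotient.mk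
      (K.map (algebraMap (MvPolynomial (Fin d) R₀) Λ)))).comap
      (algebraMap (MvPolynomial (Fin d) R₀ ⧸ K)
        (Λ ⧸ K.map (algebraMap (MvPolynomial (Fin d) R₀) Λ)))))
    (Localization.AtPrime 𝔮 ⧸
        J.map (algebraMap (Localization.AtPrime (𝔮.comap φ₀)) (Localization.AtPrime 𝔮)))
    hdim ⟨B, inferInstance, inferInstance, hsm, α, ζ, β, ?_, ?_, ?_, ?_⟩
  · intro a₀
    rw [h1, hφD, halgT]
  · intro i j
    rw [h2, halgT]
  · intro i
    rw [← h3, htgam, htoSKa]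
  · intro c₀
    have e0 : algebraMap k (Localization.AtPrime (𝔮.comap φ₀) ⧸ J) c₀ =
        Ideal.Quotient.mk J (algebraMap k (Localization.AtPrime (𝔮.comap φ₀)) c₀) := rfl
    have e1 : algebraMap k (Localization.AtPrime (𝔮.comap φ₀)) c₀ =
        algebraMap R₀ _ (algebraMap k R₀ c₀) :=
      IsScalarTower.algebraMap_apply k R₀ (Localization.AtPrime (𝔮.comap φ₀)) c₀
    rw [h4, e0, halgS₀S, e1, hθ, htoSKa, MvPolynomial.algebraMap_apply]

end EP2

end Groth.Agent.Lib.Helper8.IN16
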