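import Mathlib
import Groth.Prelude.Def_Smoothing
import Groth.Agent.Lib.Helper8.IN12
import Groth.Agent.Lib.Helper8.IN16

set_option backward.isDefEq.respectTransparency.types false
set_option autoImplicit false
set_option linter.unusedSectionVars false
set_option linter.style.haveILetI false

namespace Groth.Agent.Lib.Helper8.IN17

open Smoothing MvPolynomial IsLocalRing TensorProduct Groth.Agent.Lib.Helper8
  Groth.Agent.Lib.Helper8.IN8 Groth.Agent.Lib.Helper8.PB5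

universe u

attribute [local instance] IN11.algA0

theorem main6824 {k A Λ : Type u} [Field k] (p : ℕ) [Fact p.Prime] [CharP k p] [CommRing A]
    [Algebra k A] [Algebra.FinitePresentation k A] [CommRing Λ] [Algebra k Λ]
    [IsNoetherianRing Λ] (hreg : CAlg.IsGeometricallyRegular k Λ) (φ : A →ₐ[k] Λ)
    (𝔮 : Ideal Λ) [𝔮.IsPrime] (hmin : 𝔮 ∈ (Smoothing.singRad k φ).minimalPrimes) :
    Smoothing.Resolvable k φ 𝔮 := by
  classical
  haveI : IsNoetherianRing (Localization.AtPrime 𝔮) :=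
    IsLocalization.isNoetherianRing 𝔮.primeCompl _ inferInstance
  have hΛq : CAlg.IsGeometricallyRegular k (Localization.AtPrime 𝔮) :=
    Groth.Agent.Lib.Helper23.SmoothField.geomRegular_atPrime hreg 𝔮
  haveI : IsRegularLocalRing (Localization.AtPrime 𝔮) :=
    IN15.isRegularLocalRing_of_geomRegular hΛq
  obtain ⟨d, hd⟩ : ∃ d : ℕ, ringKrullDim (Localization.AtPrime 𝔮) = d :=
    ⟨_, (IsRegularLocalRing.spanFinrank_maximalIdeal (R := Localization.AtPrime 𝔮)).symm⟩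
  rcases Nat.eq_zero_or_pos d with rfl | hdpos
  · haveI := IN15.geomReduced_residueField 𝔮 hΛq (by rw [hd]; rfl)
    exact FN8.main_dim_zero φ 𝔮 hmin (by rw [hd]; rfl)
  -- generators of the singular ideal
  haveI : IsNoetherianRing A := Algebra.FiniteType.isNoetherianRing k A
  obtain ⟨r, a, ha⟩ := (Submodule.fg_iff_exists_fin_generating_family).mp
    (IsNoetherian.noetherian (singularIdeal k A))
  have ha' : Ideal.span (Set.range a) = singularIdeal k A := ha
  have haH : ∀ j, a j ∈ singularIdeal k A := fun j => ha' ▸ Ideal.subset_span ⟨j, rfl⟩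
  have hI𝔮 : (singularIdeal k A).map φ ≤ 𝔮 := le_trans Ideal.le_radical hmin.1.2
  have hminI : 𝔮 ∈ ((singularIdeal k A).map φ).minimalPrimes := by
    rw [← Ideal.radical_minimalPrimes]
    exact hmin
  obtain ⟨n, hn, hpow⟩ := FN7.exists_pow_map_le ((singularIdeal k A).map φ) 𝔮 hminI
    (Localization.AtPrime 𝔮)
  -- the algebra `C`
  obtain ⟨Cr, _, algBC, algRC, tower, hCfp, ⟨ret⟩, hCsing, c, hc, hstd⟩ :=
    FN6.partA k d r n a haH
  haveI := hCfp
  -- generators of `𝔮` and of `A`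
  obtain ⟨s, G, hG⟩ := (Submodule.fg_iff_exists_fin_generating_family).mp
    (IsNoetherian.noetherian 𝔮)
  have hG' : Ideal.span (Set.range G) = 𝔮 := hG
  obtain ⟨T, hT⟩ := (Algebra.FiniteType.out : (⊤ : Subalgebra k A).FG)
  -- Stage A1
  obtain ⟨σ, hσ, F, hk, hess, hE, hflat, t, x, hxF, hxσ, hspanD, h, ϖ, d', ι, hϖ𝔮, hgen, hm, hind,
    hspan⟩ := IN12.stageA1 𝔮 (d * (c * 8)) p hΛq G hG'
      (T.image (fun a₀ => mkL 𝔮 (d * (c * 8)) (φ a₀)))
  haveI := hess
  haveI := hflat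
  -- the dimension
  have hdim' := IN6.dim_eq_of_indep (Localization.AtPrime 𝔮) _ hm hind hspan
  have hdeq : d = h + d' := by
    rw [hd] at hdim'
    exact_mod_cast hdim'
  subst hdeq
  -- the ring `R₀` and the parameters
  obtain ⟨w, hwdef⟩ : ∃ w : Fin d' → Λ, w = fun l => G (ι l) := ⟨_, rfl⟩
  have hw𝔮 : ∀ l, w l ∈ 𝔮 := by
    intro l
    rw [hwdef, ← hG']
    exact Ideal.subset_span ⟨_, rfl⟩
  have hfam : (fun j => algebraMap Λ (Localization.AtPrime 𝔮)
      (IN11.phi0 k x w (IN11.par ϖ d' j))) =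
      Fin.append (fun i => algebraMap Λ (Localization.AtPrime 𝔮) (aeval x (ϖ i)))
        (fun l => algebraMap Λ (Localization.AtPrime 𝔮) (G (ι l))) := by
    funext j
    rw [IN11.phi0_par, IN11.map_append (algebraMap Λ (Localization.AtPrime 𝔮)), hwdef]
  have hm' : ∀ j, algebraMap Λ (Localization.AtPrime 𝔮)
      (IN11.phi0 k x w (IN11.par ϖ d' j)) ∈ maximalIdeal (Localization.AtPrime 𝔮) := by
    intro j
    have := hm j
    rw [← hfam] at this
    exact this
  have hind' : ∀ b : Fin (h + d') → Localization.AtPrime 𝔮,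
      ∑ j, b j * algebraMap Λ (Localization.AtPrime 𝔮) (IN11.phi0 k x w (IN11.par ϖ d' j)) ∈
        maximalIdeal (Localization.AtPrime 𝔮) ^ 2 → ∀ j, b j ∈ maximalIdeal _ := by
    have := hind
    rw [← hfam] at this
    exact this
  have hspan' : Ideal.span (Set.range fun j => algebraMap Λ (Localization.AtPrime 𝔮)
      (IN11.phi0 k x w (IN11.par ϖ d' j))) = maximalIdeal (Localization.AtPrime 𝔮) := by
    rw [hfam]
    exact hspan
  have hgm := IN11.gm (IN11.phi0 k x w) 𝔮 (IN11.par ϖ d') hm'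
  have hindA := IN11.indA (IN11.phi0 k x w) 𝔮 (IN11.par ϖ d') hind'
  have hspanA := IN11.spanA 𝔮 x w ϖ hgen hw𝔮 hgm
  haveI : Module.Flat (Localization.AtPrime (𝔮.comap (IN11.phi0 k x w)))
      (Localization.AtPrime 𝔮) :=
    IN11.flatA (IN11.phi0 k x w) 𝔮 (IN11.par ϖ d') hm' hind' hspanA
  have hdimA := IN6.dim_eq_of_indep (Localization.AtPrime (𝔮.comap (IN11.phi0 k x w))) _ hgm
    hindA hspanA
  -- membership in the subalgebra
  obtain ⟨S', hS'⟩ : ∃ S' : Subalgebra k Λ, S' = (subalg σ (mkL 𝔮 ((h + d') * (c * 8)) ∘ G) F hk).comap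
      (mkLₐ 𝔮 ((h + d') * (c * 8))) := ⟨_, rfl⟩
  have hmemS' : ∀ z : Λ, z ∈ S' ↔ mkL 𝔮 ((h + d') * (c * 8)) z ∈
      subalg σ (mkL 𝔮 ((h + d') * (c * 8)) ∘ G) F hk := by
    intro z
    rw [hS']
    rfl
  have hxS' : ∀ i, x i ∈ S' := by
    intro i
    rw [hmemS', mem_subalg]
    refine ⟨C ⟨_, hxF i⟩, ?_⟩
    rw [PsiF_C]
    exact (hxσ i).symm
  have hwS' : ∀ l, w l ∈ S' := by
    intro l
    rw [hmemS', mem_subalg]
    refine ⟨X (ι l), ?_⟩
    rw [PsiF_X, hwdef]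
    rfl
  have hφ₀ : ∀ f, mkL 𝔮 ((h + d') * (c * 8)) (IN11.phi0 k x w f) ∈
      subalg σ (mkL 𝔮 ((h + d') * (c * 8)) ∘ G) F hk :=
    fun f => (hmemS' _).mp (IN15.phi0_mem_subalgebra S' x w hxS' hwS' f)
  have hφA : ∀ a₀, mkL 𝔮 ((h + d') * (c * 8)) (φ a₀) ∈
      subalg σ (mkL 𝔮 ((h + d') * (c * 8)) ∘ G) F hk := by
    intro a₀
    refine (hmemS' _).mp (IN15.map_mem_of_adjoin S' φ (T : Set A) hT ?_ a₀)
    intro a₁ ha₁
    rw [hmemS']
    apply hE
    rw [Finset.coe_image]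
    exact ⟨a₁, ha₁, rfl⟩
  exact IN16.ep2 φ 𝔮 hmin hdpos hd a haH ha' hn hpow Cr ret hCsing c hc hstd
    ((h + d') * (c * 8)) le_rfl σ hσ G hG' F hk hφA (IN11.phi0 k x w)
    (IN11.phi0_algebraMap x w) hφ₀ (fun i => (C (X i) : IN11.R0 k t d')) x
    (fun i => by rw [IN11.phi0_C, aeval_X]) hxF hxσ hspanD (IN11.par ϖ d') hspanA hdimA hspan'

end Groth.Agent.Lib.Helper8.IN17
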