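import Mathlib
import Groth.Prelude.Def_Smoothing
import Groth.Agent.Lib.Helper8.SI1
import Groth.Agent.Lib.Helper8.LL1
import Groth.Agent.Lib.Helper8.DS5

set_option backward.isDefEq.respectTransparency.types false
set_option autoImplicit false
set_option linter.unusedSectionVars false
set_option linter.style.haveILetI false

/-!
# The algebra `B = A[z_ij]/(p_i^n - ∑ z_ij a_j)` over a base `R`
-/

namespace Groth.Agent.Lib.Helper8.BG1

open MvPolynomial Smoothing

universe u

variable (R : Type u) [CommRing R] {A : Type u} [CommRing A] [Algebra R A] (d r n : ℕ)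
  (p : Fin d → A) (a : Fin r → A)

/-- the relations. -/
noncomputable def F (i : Fin d) : MvPolynomial (Fin d × Fin r) A :=
  C (p i) ^ n - ∑ j, X (i, j) * C (a j)

/-- the algebra `B`. -/
abbrev BG : Type u :=
  MvPolynomial (Fin d × Fin r) A ⧸ Ideal.span (Set.range (F d r n p a))

theorem pderiv_F (i i' : Fin d) (j : Fin r) :
    pderiv (i', j) (F d r n p a i) = if i = i' then -C (a j) else 0 := by
  classical
  unfold F
  rw [map_sub, ← map_pow, pderiv_C, zero_sub, map_sum]
  have h1 : ∀ j' : Fin r, pderiv (i', j) (X (i, j') * C (a j') :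
      MvPolynomial (Fin d × Fin r) A) =
      if (i, j') = (i', j) then C (a j') else 0 := by
    intro j'
    rw [Derivation.leibniz, pderiv_C, smul_zero, zero_add, pderiv_X, smul_eq_mul,
      Pi.single_apply]
    by_cases h : (i, j') = (i', j)
    · rw [if_pos h, if_pos h, mul_one]
    · rw [if_neg h, if_neg h, mul_zero]
  rw [Finset.sum_congr rfl (fun j' _ => h1 j')]
  by_cases hi : i = i'
  · subst hi
    rw [if_pos rfl, Finset.sum_eq_single j]
    · rw [if_pos rfl]
    · intro j' _ hj'
      rw [if_neg]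
      intro h
      exact hj' (Prod.mk.inj h).2
    · intro h
      exact absurd (Finset.mem_univ j) h
  · rw [if_neg hi, neg_eq_zero]
    apply Finset.sum_eq_zero
    intro j' _
    rw [if_neg]
    intro h
    exact hi (Prod.mk.inj h).1

/-- the image of `a_j` is in the singular ideal of `B` over `A`. -/
theorem mk_C_mem_singularIdeal (j : Fin r) :
    Ideal.Quotient.mk (Ideal.span (Set.range (F d r n p a))) (C (a j)) ∈
      singularIdeal A (BG d r n p a) := by
  classical
  have h := LL1.mem_singularIdeal_of_minor (R := A) (F d r n p a)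
    (Function.Embedding.refl (Fin d))
    (⟨fun i => (i, j), fun i i' h => (Prod.mk.inj h).1⟩ : Fin d ↪ Fin d × Fin r)
    ((-C (a j)) ^ d) 1 ?_ ?_
  · -- radical
    unfold singularIdeal at h ⊢
    rw [PrimeSpectrum.mem_vanishingIdeal] at h ⊢
    intro q hq
    have h1 := h q hq
    rw [map_pow] at h1
    have h2 := q.2.mem_of_pow_mem d h1
    rw [map_neg] at h2
    exact (Ideal.neg_mem_iff _).mp h2
  · have hdet : Matrix.det (Matrix.of fun i i' : Fin d =>
        pderiv ((⟨fun i => (i, j), fun i i' h => (Prod.mk.inj h).1⟩ : Fin d ↪ Fin d × Fin r) i')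
          (F d r n p a (Function.Embedding.refl (Fin d) i))) = (-C (a j)) ^ d := by
      have : (Matrix.of fun i i' : Fin d =>
        pderiv ((⟨fun i => (i, j), fun i i' h => (Prod.mk.inj h).1⟩ : Fin d ↪ Fin d × Fin r) i')
          (F d r n p a (Function.Embedding.refl (Fin d) i))) =
          Matrix.diagonal (fun _ : Fin d => -C (a j)) := by
        refine Matrix.ext fun i i' => ?_
        rw [Matrix.of_apply, Matrix.diagonal_apply]
        exact pderiv_F d r n p a i i' j
      rw [this, Matrix.det_diagonal, Finset.prod_const, Finset.card_univ, Fintype.card_fin]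
    rw [hdet, one_mul, sub_self]
    exact Ideal.zero_mem _
  · intro ℓ
    refine Ideal.mem_sup_left (Ideal.mul_mem_left _ _ (Ideal.subset_span ⟨ℓ, rfl⟩))

/-- the ring hom `A → B`. -/
noncomputable def inclB : A →+* BG d r n p a :=
  (Ideal.Quotient.mk (Ideal.span (Set.range (F d r n p a)))).comp C

theorem inclB_apply (a₀ : A) : inclB d r n p a a₀ =
    Ideal.Quotient.mk (Ideal.span (Set.range (F d r n p a))) (C a₀) := rfl

theorem algebraMap_A_BG (x : A) : algebraMap A (BG d r n p a) x =
    Ideal.Quotient.mk (Ideal.span (Set.range (F d r n p a))) (C x) := rfl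

theorem algebraMap_R_BG (x : R) : algebraMap R (BG d r n p a) x =
    Ideal.Quotient.mk (Ideal.span (Set.range (F d r n p a))) (C (algebraMap R A x)) := rfl

instance [Algebra.FinitePresentation R A] :
    Algebra.FinitePresentation R (BG d r n p a) := by
  haveI : Algebra.FinitePresentation A (BG d r n p a) := LL1.fp_quotient (F d r n p a)
  exact Algebra.FinitePresentation.trans R A (BG d r n p a)

/-- (B3) -/
theorem inclB_mem_singularIdeal
    (ha : ∀ j, a j ∈ singularIdeal R A) (a₀ : A) (ha₀ : a₀ ∈ Ideal.span (Set.range a)) :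
    inclB d r n p a a₀ ∈ singularIdeal R (BG d r n p a) := by
  rw [SI1.mem_singularIdeal_iff_subset]
  intro 𝔓 h𝔓
  have h𝔓' : inclB d r n p a a₀ ∉ 𝔓.asIdeal := h𝔓
  haveI : 𝔓.asIdeal.IsPrime := 𝔓.2
  obtain ⟨j, hj⟩ : ∃ j, inclB d r n p a (a j) ∉ 𝔓.asIdeal := by
    by_contra hcon
    push Not at hcon
    apply h𝔓'
    have hle : Ideal.span (Set.range a) ≤ 𝔓.asIdeal.comap (inclB d r n p a) := by
      rw [Ideal.span_le]
      rintro _ ⟨j, rfl⟩
      exact hcon j
    exact hle ha₀
  have h1 : Algebra.IsSmoothAt A 𝔓.asIdeal :=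
    SI1.isSmoothAt_of_mem_singularIdeal 𝔓.asIdeal _ (mk_C_mem_singularIdeal d r n p a j) hj
  have h2 : Algebra.IsSmoothAt R
      (𝔓.asIdeal.comap (algebraMap A (BG d r n p a))) :=
    SI1.isSmoothAt_of_mem_singularIdeal _ _ (ha j) hj
  exact DS5.isSmoothAt_comp 𝔓.asIdeal h2 h1

/-- (B4) -/
theorem p_mem_singularIdeal
    (ha : ∀ j, a j ∈ singularIdeal R A) (i : Fin d) :
    inclB d r n p a (p i) ∈ singularIdeal R (BG d r n p a) := by
  have hpow : (inclB d r n p a (p i)) ^ n ∈ singularIdeal R (BG d r n p a) := by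
    have h0 : Ideal.Quotient.mk (Ideal.span (Set.range (F d r n p a))) (F d r n p a i) = 0 :=
      Ideal.Quotient.eq_zero_iff_mem.mpr (Ideal.subset_span ⟨i, rfl⟩)
    have hF : F d r n p a i = C (p i) ^ n - ∑ j, X (i, j) * C (a j) := rfl
    rw [hF, map_sub, sub_eq_zero, map_pow, map_sum] at h0
    rw [inclB_apply, h0]
    refine Ideal.sum_mem _ fun j _ => ?_
    rw [map_mul]
    refine Ideal.mul_mem_left _ _ ?_
    exact inclB_mem_singularIdeal R d r n p a ha (a j) (Ideal.subset_span ⟨j, rfl⟩)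
  unfold singularIdeal at hpow ⊢
  rw [PrimeSpectrum.mem_vanishingIdeal] at hpow ⊢
  intro q hq
  exact q.2.mem_of_pow_mem n (hpow q hq)

/-- the `R`-algebra map `A → B`. -/
noncomputable def inclBₐ : A →ₐ[R] BG d r n p a :=
  { toRingHom := inclB d r n p a
    commutes' := fun _ => rfl }

theorem inclBₐ_apply (a₀ : A) : inclBₐ R d r n p a a₀ = inclB d r n p a a₀ := rfl

variable {Λ : Type u} [CommRing Λ] [Algebra R Λ] (φ : A →ₐ[R] Λ)

/-- the map from the polynomial ring over `A`. -/
noncomputable def psiP (lam : Fin d → Fin r → Λ) :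
    MvPolynomial (Fin d × Fin r) A →ₐ[R] Λ :=
  { toRingHom := eval₂Hom φ.toRingHom (fun v : Fin d × Fin r => lam v.1 v.2)
    commutes' := by
      intro x
      show eval₂Hom φ.toRingHom (fun v : Fin d × Fin r => lam v.1 v.2) (algebraMap _ _ x) = _
      rw [IsScalarTower.algebraMap_apply R A (MvPolynomial (Fin d × Fin r) A),
        MvPolynomial.algebraMap_apply, eval₂Hom_C]
      exact φ.commutes x }

theorem psiP_C (lam : Fin d → Fin r → Λ) (x : A) :
    psiP R d r φ lam (C x) = φ x := by
  show eval₂Hom φ.toRingHom (fun v : Fin d × Fin r => lam v.1 v.2) (C x) = _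
  rw [eval₂Hom_C]
  rfl

theorem psiP_X (lam : Fin d → Fin r → Λ) (v : Fin d × Fin r) :
    psiP R d r φ lam (X v) = lam v.1 v.2 := by
  show eval₂Hom φ.toRingHom (fun v : Fin d × Fin r => lam v.1 v.2) (X v) = _
  rw [eval₂Hom_X']

theorem psiP_F (lam : Fin d → Fin r → Λ)
    (hrel : ∀ i, φ (p i) ^ n = ∑ j, lam i j * φ (a j))
    (i : Fin d) : psiP R d r φ lam (F d r n p a i) = 0 := by
  have hF : F d r n p a i = C (p i) ^ n - ∑ j, X (i, j) * C (a j) := rfl
  rw [hF, map_sub, map_pow, map_sum, psiP_C, hrel, sub_eq_zero]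
  refine Finset.sum_congr rfl fun j _ => ?_
  rw [map_mul, psiP_X, psiP_C]

/-- the map `B → Λ`. -/
noncomputable def psiB (lam : Fin d → Fin r → Λ)
    (hrel : ∀ i, φ (p i) ^ n = ∑ j, lam i j * φ (a j)) :
    BG d r n p a →ₐ[R] Λ :=
  Ideal.Quotient.liftₐ _ (psiP R d r φ lam) (by
    intro x hx
    have hle : Ideal.span (Set.range (F d r n p a)) ≤ RingHom.ker (psiP R d r φ lam) := by
      rw [Ideal.span_le]
      rintro _ ⟨i, rfl⟩
      exact RingHom.mem_ker.mpr (psiP_F R d r n p a φ lam hrel i)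
    exact RingHom.mem_ker.mp (hle hx))

theorem psiB_inclB (lam : Fin d → Fin r → Λ)
    (hrel : ∀ i, φ (p i) ^ n = ∑ j, lam i j * φ (a j))
    (a₀ : A) : psiB R d r n p a φ lam hrel (inclB d r n p a a₀) = φ a₀ := by
  rw [inclB_apply]
  show psiP R d r φ lam (C a₀) = _
  rw [psiP_C]

end Groth.Agent.Lib.Helper8.BG1
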