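import Mathlib
import Groth.Prelude.Def_Smoothing
import Groth.Agent.Lib.Helper8.BG1

set_option backward.isDefEq.respectTransparency.types false
set_option autoImplicit false
set_option linter.unusedSectionVars false
set_option linter.style.haveILetI false

/-!
# Noetherian induction: resolving all local problems gives ind-smoothness
-/

namespace Groth.Agent.Lib.Helper8.NI1

open Smoothing Groth.Agent.Lib.Helper8

universe u

theorem factor_smooth_of_singRad_eq_top {R B Λ : Type u} [CommRing R] [IsNoetherianRing R]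
    [CommRing B] [Algebra R B] [Algebra.FinitePresentation R B] [CommRing Λ] [Algebra R Λ]
    (h : B →ₐ[R] Λ) (htop : singRad R h = ⊤) :
    ∃ (B' : Type u) (_ : CommRing B') (_ : Algebra R B'), Algebra.Smooth R B' ∧
      ∃ (g : B →ₐ[R] B') (h' : B' →ₐ[R] Λ), h'.comp g = h := by
  classical
  haveI : IsNoetherianRing B := Algebra.FiniteType.isNoetherianRing R B
  obtain ⟨r, a, ha⟩ := (Submodule.fg_iff_exists_fin_generating_family).mp
    (IsNoetherian.noetherian (singularIdeal R B))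
  have ha' : Ideal.span (Set.range a) = singularIdeal R B := ha
  have haH : ∀ j, a j ∈ singularIdeal R B := fun j => ha' ▸ Ideal.subset_span ⟨j, rfl⟩
  have h1 : (singularIdeal R B).map h = ⊤ := Ideal.radical_eq_top.mp htop
  have hIspan : (singularIdeal R B).map h = Ideal.span (Set.range fun j => h (a j)) := by
    rw [← ha', Ideal.map_span, ← Set.range_comp]
    rfl
  obtain ⟨lam, hlam⟩ : ∃ l : Fin r → Λ, ∑ j, l j * h (a j) = 1 := by
    have : (1 : Λ) ∈ (singularIdeal R B).map h := by rw [h1]; exact Submodule.mem_top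
    rw [hIspan] at this
    exact (Ideal.mem_span_range_iff_exists_fun).mp this
  have hrel : ∀ i : Fin 1, h ((fun _ : Fin 1 => (1 : B)) i) ^ 1 =
      ∑ j, (fun (_ : Fin 1) j => lam j) i j * h (a j) := by
    intro i
    rw [map_one, one_pow, hlam]
  have hone : (1 : BG1.BG 1 r 1 (fun _ : Fin 1 => (1 : B)) a) ∈
      singularIdeal R (BG1.BG 1 r 1 (fun _ : Fin 1 => (1 : B)) a) := by
    have := BG1.p_mem_singularIdeal R 1 r 1 (fun _ : Fin 1 => (1 : B)) a haH 0
    rw [map_one] at this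
    exact this
  have hsm : Algebra.Smooth R (BG1.BG 1 r 1 (fun _ : Fin 1 => (1 : B)) a) := by
    rw [SI1.mem_singularIdeal_iff_subset, PrimeSpectrum.basicOpen_one] at hone
    have huniv : Algebra.smoothLocus R (BG1.BG 1 r 1 (fun _ : Fin 1 => (1 : B)) a) = Set.univ :=
      Set.eq_univ_of_univ_subset hone
    exact ⟨Algebra.smoothLocus_eq_univ_iff.mp huniv, inferInstance⟩
  refine ⟨BG1.BG 1 r 1 (fun _ : Fin 1 => (1 : B)) a, inferInstance, inferInstance, hsm,
    BG1.inclBₐ R 1 r 1 (fun _ : Fin 1 => (1 : B)) a,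
    BG1.psiB R 1 r 1 (fun _ : Fin 1 => (1 : B)) a h (fun _ j => lam j) hrel, ?_⟩
  ext b
  exact BG1.psiB_inclB R 1 r 1 (fun _ : Fin 1 => (1 : B)) a h (fun _ j => lam j) hrel b

theorem indSmooth_of_resolvable {R Λ : Type u} [CommRing R] [IsNoetherianRing R] [CommRing Λ]
    [Algebra R Λ] [IsNoetherianRing Λ]
    (H : ∀ (A : Type u) [CommRing A] [Algebra R A] [Algebra.FinitePresentation R A]
      (φ : A →ₐ[R] Λ) (𝔮 : Ideal Λ) [𝔮.IsPrime], 𝔮 ∈ (singRad R φ).minimalPrimes →
        Resolvable R φ 𝔮) : IndSmooth R Λ := by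
  intro A _ _ hfp f
  haveI := hfp
  let S : Set (Ideal Λ) := {J | ∃ (B : Type u) (_ : CommRing B) (_ : Algebra R B)
    (_ : Algebra.FinitePresentation R B) (g : A →ₐ[R] B) (h : B →ₐ[R] Λ),
      h.comp g = f ∧ J = singRad R h}
  have hne : S.Nonempty := ⟨singRad R f, A, inferInstance, inferInstance, inferInstance,
    AlgHom.id R A, f, AlgHom.comp_id f, rfl⟩
  obtain ⟨J, ⟨B, _, _, hBfp, g, h, hcomp, rfl⟩, hmax⟩ :=
    set_has_maximal_iff_noetherian.mpr (inferInstance : IsNoetherian Λ Λ) S hne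
  haveI := hBfp
  by_cases htop : singRad R h = ⊤
  · obtain ⟨B', _, _, hsm, g', h', hc'⟩ := factor_smooth_of_singRad_eq_top h htop
    exact ⟨B', inferInstance, inferInstance, hsm, g'.comp g, h',
      by rw [← AlgHom.comp_assoc, hc', hcomp]⟩
  · exfalso
    obtain ⟨𝔮, h𝔮⟩ := Ideal.nonempty_minimalPrimes htop
    haveI : 𝔮.IsPrime := h𝔮.1.1
    obtain ⟨B₁, _, _, hB₁fp, g₁, h₁, hc₁, hle, hnot⟩ := H B h 𝔮 h𝔮
    have hS : singRad R h₁ ∈ S := ⟨B₁, inferInstance, inferInstance, hB₁fp, g₁.comp g, h₁,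
      by rw [← AlgHom.comp_assoc, hc₁, hcomp], rfl⟩
    have hnlt : ¬ singRad R h < singRad R h₁ := hmax _ hS
    apply hnlt
    refine lt_of_le_of_ne hle ?_
    intro heq
    exact hnot (heq ▸ h𝔮.1.2)

end Groth.Agent.Lib.Helper8.NI1
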