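import Mathlib
import Groth.Agent.Lib.Helper8.IN17
import Groth.Agent.Lib.Helper8.FN8
import Groth.Agent.Lib.Helper8.NI1
import Groth.Agent.Lib.Helper23.FieldSep
import Groth.Agent.Lib.Helper23.RegularHom2

set_option backward.isDefEq.respectTransparency.types false
set_option autoImplicit false
set_option linter.unusedSectionVars false
set_option linter.style.haveILetI false

open Smoothing TensorProduct

namespace Groth.Agent.Lib.Helper8.PO1

universe u

/-- Popescu over a field: geometrically regular Noetherian algebras are ind-smooth. -/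
theorem indSmooth_field (k Λ : Type u) [Field k] [CommRing Λ] [Algebra k Λ] [IsNoetherianRing Λ]
    (h : CAlg.IsGeometricallyRegular k Λ) : IndSmooth k Λ := by
  classical
  refine NI1.indSmooth_of_resolvable ?_
  intro A _ _ _ φ 𝔮 _ hmin
  obtain ⟨p, hp⟩ := CharP.exists k
  rcases CharP.char_is_prime_or_zero k p with hpp | rfl
  · haveI : Fact p.Prime := ⟨hpp⟩
    exact IN17.main6824 p h φ 𝔮 hmin
  · haveI : CharZero k := CharP.charP_to_charZero k
    haveI : IsNoetherianRing (Localization.AtPrime 𝔮) :=
      IsLocalization.isNoetherianRing 𝔮.primeCompl _ inferInstance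
    have hΛq : CAlg.IsGeometricallyRegular k (Localization.AtPrime 𝔮) :=
      Groth.Agent.Lib.Helper23.SmoothField.geomRegular_atPrime h 𝔮
    haveI : IsRegularLocalRing (Localization.AtPrime 𝔮) :=
      IN15.isRegularLocalRing_of_geomRegular hΛq
    haveI : Algebra.IsGeometricallyReduced k 𝔮.ResidueField :=
      Groth.Agent.Lib.Helper23.FieldSep.isGeometricallyReduced_of_charZero k 𝔮.ResidueField
    exact FN8.main6823 φ 𝔮 hmin

theorem geomRegular_of_isRegularHom_field (K Λ : Type u) [Field K] [CommRing Λ] [Algebra K Λ]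
    [IsNoetherianRing Λ] (h : CAlg.IsRegularHom K Λ) : CAlg.IsGeometricallyRegular K Λ :=
  Groth.Agent.Lib.Helper23.RegularHom2.geomRegular_of_baseChange' K Λ
    (⊥ : Ideal K).ResidueField (h.2 ⊥).2

theorem indSmooth_field' (K Λ : Type u) [Field K] [CommRing Λ] [Algebra K Λ]
    [IsNoetherianRing Λ] (h : CAlg.IsRegularHom K Λ) : IndSmooth K Λ :=
  indSmooth_field K Λ (geomRegular_of_isRegularHom_field K Λ h)

end Groth.Agent.Lib.Helper8.PO1
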