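import Mathlib
import Groth.Prelude.Def_Smoothing

set_option backward.isDefEq.respectTransparency.types false
set_option autoImplicit false
set_option linter.unusedSectionVars false
set_option linter.style.haveILetI false

open Smoothing TensorProduct

namespace Groth.Agent.Lib.Helper8.PO2

universe u

section Std

variable {R : Type u} [CommRing R] {A : Type u} [CommRing A] [Algebra R A]

theorem killsTail_mul (P : MarkedPresentation R A) (a b : A) (h : KillsTail P a) :
    KillsTail P (b * a) := by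
  intro a' ha' j hj
  obtain ⟨b', hb'⟩ := P.surj b
  obtain ⟨a'', ha''⟩ := P.surj a
  have hker : a' - b' * a'' ∈ Ideal.span (Set.range P.rel) := by
    rw [← P.ker_eq, RingHom.mem_ker]
    change P.hom (a' - b' * a'') = 0
    rw [map_sub, map_mul, ha', hb', ha'', sub_self]
  have h1 := h a'' ha'' j hj
  have h2 : (a' - b' * a'') * P.rel j ∈ Ideal.span (Set.range P.rel) ^ 2 := by
    rw [pow_two]
    exact Ideal.mul_mem_mul hker (Ideal.subset_span ⟨j, rfl⟩)
  have h3 : a' * P.rel j = (a' - b' * a'') * P.rel j + b' * (a'' * P.rel j) := by ring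
  rw [h3]
  exact Ideal.add_mem _ (Ideal.mem_sup_right h2) (Ideal.mul_mem_left _ _ h1)

theorem strictlyStandard_mul (a b : A) (h : IsStrictlyStandard R A a) :
    IsStrictlyStandard R A (b * a) := by
  obtain ⟨P, h1, h2⟩ := h
  exact ⟨P, Ideal.mul_mem_left _ _ h1, killsTail_mul P a b h2⟩

theorem strictlyStandard_of_elementary (a : A) (h : IsElementaryStandard R A a) :
    IsStrictlyStandard R A a := by
  obtain ⟨P, ⟨a', ha'⟩, h2⟩ := h
  refine ⟨P, ?_, h2⟩
  rw [ha']
  exact Ideal.mul_mem_left _ _ (Ideal.subset_span ⟨Fin.castLE P.hcn, rfl⟩)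

theorem strictlyStandard_pow (a : A) (h : IsStrictlyStandard R A a) (n : ℕ) (hn : 0 < n) :
    IsStrictlyStandard R A (a ^ n) := by
  obtain ⟨m, rfl⟩ : ∃ m, n = m + 1 := ⟨n - 1, by omega⟩
  rw [pow_succ]
  exact strictlyStandard_mul a (a ^ m) h

theorem finitePresentation_of_elementary (a : A) (h : IsElementaryStandard R A a) :
    Algebra.FinitePresentation R A := by
  classical
  obtain ⟨P, -, -⟩ := h
  refine Algebra.FinitePresentation.of_surjective (f := P.hom) P.surj ?_
  rw [P.ker_eq]
  refine ⟨Finset.univ.image P.rel, ?_⟩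
  rw [Finset.coe_image, Finset.coe_univ, Set.image_univ]

end Std

section Stable

theorem exists_stable (M : Type*) [CommRing M] [IsNoetherianRing M] (t : M) :
    ∃ n₀ : ℕ, ∀ n, n₀ ≤ n → ∀ k : ℕ, ∀ x : M, t ^ (n + k) * x = 0 → t ^ n * x = 0 := by
  let f : ℕ →o Ideal M :=
    { toFun := fun n => LinearMap.ker (LinearMap.mulLeft M (t ^ n))
      monotone' := by
        intro a b hab x hx
        rw [LinearMap.mem_ker, LinearMap.mulLeft_apply] at hx ⊢
        obtain ⟨c, rfl⟩ := Nat.exists_eq_add_of_le hab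
        rw [pow_add, mul_comm (t ^ a), mul_assoc, hx, mul_zero] }
  obtain ⟨n₀, hn₀⟩ := monotone_stabilizes_iff_noetherian.mpr (inferInstance : IsNoetherian M M) f
  refine ⟨n₀, fun n hn k x hx => ?_⟩
  have h1 : x ∈ f (n + k) := by
    change x ∈ LinearMap.ker (LinearMap.mulLeft M (t ^ (n + k)))
    rw [LinearMap.mem_ker, LinearMap.mulLeft_apply]
    exact hx
  rw [← hn₀ (n + k) (by omega), hn₀ n hn] at h1
  change x ∈ LinearMap.ker (LinearMap.mulLeft M (t ^ n)) at h1
  rwa [LinearMap.mem_ker, LinearMap.mulLeft_apply] at h1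

/-- a common exponent `m > 0` for which all powers `s ^ (m * j)` (j > 0) have stable annihilators
in both `R` and `Λ`. -/
theorem exists_common_stable (R Λ : Type*) [CommRing R] [IsNoetherianRing R] [CommRing Λ]
    [IsNoetherianRing Λ] [Algebra R Λ] (s : R) :
    ∃ m : ℕ, 0 < m ∧ ∀ j : ℕ, 0 < j →
      (∀ r : R, (s ^ (m * j)) ^ 2 * r = 0 → s ^ (m * j) * r = 0) ∧
      (∀ x : Λ, (s ^ (m * j)) ^ 2 • x = 0 → (s ^ (m * j)) • x = 0) := by
  obtain ⟨n₁, h₁⟩ := exists_stable R s
  obtain ⟨n₂, h₂⟩ := exists_stable Λ (algebraMap R Λ s)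
  refine ⟨max (max n₁ n₂) 1, by positivity, fun j hj => ⟨fun r hr => ?_, fun x hx => ?_⟩⟩
  · have hle : n₁ ≤ max (max n₁ n₂) 1 * j := by
      calc n₁ ≤ max (max n₁ n₂) 1 := le_trans (le_max_left _ _) (le_max_left _ _)
        _ ≤ max (max n₁ n₂) 1 * j := Nat.le_mul_of_pos_right _ hj
    refine h₁ _ hle (max (max n₁ n₂) 1 * j) r ?_
    rw [← hr, pow_two, pow_add]
  · have hle : n₂ ≤ max (max n₁ n₂) 1 * j := by
      calc n₂ ≤ max (max n₁ n₂) 1 := le_trans (le_max_right _ _) (le_max_left _ _)
        _ ≤ max (max n₁ n₂) 1 * j := Nat.le_mul_of_pos_right _ hj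
    rw [Algebra.smul_def, map_pow] at hx ⊢
    rw [map_pow] at hx
    refine h₂ _ hle (max (max n₁ n₂) 1 * j) x ?_
    rw [← hx, pow_two, pow_add]

end Stable

section Field

theorem isField_localization_of_minimal {R : Type*} [CommRing R] [IsReduced R] (p : Ideal R)
    (hp : p ∈ minimalPrimes R) :
    haveI := hp.1.1
    IsField (Localization.AtPrime p) := by
  haveI := hp.1.1
  haveI : Ring.KrullDimLE 0 (Localization.AtPrime p) :=
    Ring.KrullDimLE.of_isLocalization p hp (Localization.AtPrime p)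
  haveI : IsReduced (Localization.AtPrime p) := inferInstance
  exact Ring.KrullDimLE.isField_of_isReduced

end Field

section Sing

theorem singularIdeal_eq_top_of_forall {R D : Type u} [CommRing R] [CommRing D] [Algebra R D]
    (h : ∀ (Q : Ideal D) [Q.IsPrime], Algebra.IsSmoothAt R Q) : singularIdeal R D = ⊤ := by
  unfold singularIdeal
  have : Algebra.smoothLocus R D = Set.univ := by
    rw [Set.eq_univ_iff_forall]
    intro x
    exact h x.asIdeal
  rw [this, Set.compl_univ, PrimeSpectrum.vanishingIdeal_empty]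

end Sing

end Groth.Agent.Lib.Helper8.PO2
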