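import Mathlib
import Groth.Prelude.Def_Smoothing
import Groth.Agent.Lib.Helper8.DS7
import Groth.Agent.Lib.Helper8.NI1
import Groth.Agent.Lib.Helper8.AZ1
import Groth.Agent.Lib.Helper8.SI1
import Groth.Agent.Lib.Helper8.FN7
import Groth.Agent.Lib.Helper8.RS3
import Groth.Agent.Lib.Helper8.PO2

set_option backward.isDefEq.respectTransparency.types false
set_option autoImplicit false
set_option linter.unusedSectionVars false
set_option linter.style.haveILetI false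

open Smoothing TensorProduct

namespace Groth.Agent.Lib.Helper8.PO3

universe u

/-- the abstract desingularization step with a smooth algebra `C` over `R/π⁸`. -/
theorem core2 {R Λ A C : Type u} [CommRing R] [IsNoetherianRing R] [CommRing Λ]
    [Algebra R Λ] (π : R) (hR : ∀ r : R, π ^ 2 * r = 0 → π * r = 0)
    (hΛ : ∀ x : Λ, π ^ 2 • x = 0 → π • x = 0) [CommRing A] [Algebra R A]
    [Algebra.FinitePresentation R A] (φ : A →ₐ[R] Λ)
    (hπ : IsStrictlyStandard R A (algebraMap R A π))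
    [CommRing C] [Algebra R C] [Algebra (R ⧸ Ideal.span {π ^ 8}) C]
    [IsScalarTower R (R ⧸ Ideal.span {π ^ 8}) C]
    [Algebra.Smooth (R ⧸ Ideal.span {π ^ 8}) C]
    (γ : A →ₐ[R] C) (g : C →ₐ[R] Λ ⧸ Ideal.span {algebraMap R Λ (π ^ 8)})
    (hfac : ∀ a : A, g (γ a) = Ideal.Quotient.mk (Ideal.span {algebraMap R Λ (π ^ 8)}) (φ a)) :
    ∃ (B : Type u) (_ : CommRing B) (_ : Algebra R B), Algebra.Smooth R B ∧
      ∃ (α : A →ₐ[R] B) (β : B →ₐ[R] Λ), β.comp α = φ := by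
  obtain ⟨B₂, _, _, hfp, α, β₂, hcomp, hsm, hsing⟩ := DS7.main19959 π hR hΛ φ hπ γ g hfac
  haveI := hfp
  rw [AZ1.singularIdeal_eq_top_of_smooth] at hsing
  have h1 : (1 : Λ ⧸ Ideal.span {algebraMap R Λ (π ^ 8)}) ∈
      ((singularIdeal R B₂).map β₂).radical.map
        (Ideal.Quotient.mk (Ideal.span {algebraMap R Λ (π ^ 8)})) := by
    apply hsing
    have : g 1 ∈ (⊤ : Ideal C).map g := Ideal.mem_map_of_mem g Submodule.mem_top
    rwa [map_one] at this
  obtain ⟨x, hx, hx1⟩ := (Ideal.mem_map_iff_of_surjective _ Ideal.Quotient.mk_surjective).mp h1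
  have hx2 : x - 1 ∈ Ideal.span {algebraMap R Λ (π ^ 8)} := by
    rw [← Ideal.Quotient.eq, hx1, map_one]
  have htop : singRad R β₂ = ⊤ := by
    by_contra hne
    obtain ⟨𝔮, h𝔮max, h𝔮le⟩ := Ideal.exists_le_maximal _ hne
    haveI : 𝔮.IsPrime := h𝔮max.isPrime
    have hπ𝔮 : algebraMap R Λ π ∉ 𝔮 := by
      intro hmem
      have h8 : algebraMap R Λ (π ^ 8) ∈ 𝔮 := by
        rw [map_pow]
        exact Ideal.pow_mem_of_mem _ hmem 8 (by norm_num)
      have h2 : x - 1 ∈ 𝔮 := by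
        refine (Ideal.span_le.mpr ?_) hx2
        intro y hy
        rw [Set.mem_singleton_iff] at hy
        rw [hy]
        exact h8
      have h3 : (1 : Λ) ∈ 𝔮 := by
        have := 𝔮.sub_mem (h𝔮le hx) h2
        rwa [sub_sub_cancel] at this
      exact h𝔮max.ne_top ((Ideal.eq_top_iff_one _).mpr h3)
    have hQ : algebraMap R B₂ π ∉ 𝔮.comap β₂ := by
      intro hmem
      apply hπ𝔮
      rw [Ideal.mem_comap, AlgHom.commutes] at hmem
      exact hmem
    have hsmQ := hsm (𝔮.comap β₂) hQ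
    obtain ⟨f, hf, hfQ⟩ := SI1.exists_mem_singularIdeal_notMem (𝔮.comap β₂) hsmQ
    apply hfQ
    rw [Ideal.mem_comap]
    apply h𝔮le
    exact Ideal.le_radical (Ideal.mem_map_of_mem β₂ hf)
  obtain ⟨B₃, _, _, hsm₃, g₃, h₃, hcomp₃⟩ := NI1.factor_smooth_of_singRad_eq_top β₂ htop
  refine ⟨B₃, inferInstance, inferInstance, hsm₃, g₃.comp α, h₃, ?_⟩
  rw [← AlgHom.comp_assoc, hcomp₃, hcomp]

/-- the desingularization step from ind-smoothness modulo `π⁸`. -/
theorem core {R Λ A : Type u} [CommRing R] [IsNoetherianRing R] [CommRing Λ]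
    [Algebra R Λ] (π : R) (hR : ∀ r : R, π ^ 2 * r = 0 → π * r = 0)
    (hΛ : ∀ x : Λ, π ^ 2 • x = 0 → π • x = 0) [CommRing A] [Algebra R A]
    [Algebra.FinitePresentation R A] (φ : A →ₐ[R] Λ)
    (hπ : IsStrictlyStandard R A (algebraMap R A π))
    (hind : IndSmooth (R ⧸ Ideal.span {π ^ 8})
      (Λ ⧸ (Ideal.span {π ^ 8}).map (algebraMap R Λ))) :
    ∃ (B : Type u) (_ : CommRing B) (_ : Algebra R B), Algebra.Smooth R B ∧
      ∃ (α : A →ₐ[R] B) (β : B →ₐ[R] Λ), β.comp α = φ := by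
  obtain ⟨φJ, hφJ⟩ := FN7.exists_phiK φ (Ideal.span {π ^ 8})
  haveI : Algebra.FinitePresentation (R ⧸ Ideal.span {π ^ 8})
      (A ⧸ (Ideal.span {π ^ 8}).map (algebraMap R A)) := RS3.fp_quot _
  obtain ⟨C, _, _, hCsm, gC, hC, hcompC⟩ := hind _ inferInstance φJ
  haveI := hCsm
  letI : Algebra R C :=
    ((algebraMap (R ⧸ Ideal.span {π ^ 8}) C).comp (Ideal.Quotient.mk (Ideal.span {π ^ 8}))).toAlgebra
  haveI : IsScalarTower R (R ⧸ Ideal.span {π ^ 8}) C := IsScalarTower.of_algebraMap_eq (fun _ => rfl)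
  have heq : (Ideal.span {π ^ 8}).map (algebraMap R Λ) = Ideal.span {algebraMap R Λ (π ^ 8)} := by
    rw [Ideal.map_span, Set.image_singleton]
  let e : (Λ ⧸ (Ideal.span {π ^ 8}).map (algebraMap R Λ)) ≃ₐ[R]
      Λ ⧸ Ideal.span {algebraMap R Λ (π ^ 8)} := Ideal.quotientEquivAlgOfEq R heq
  let γ : A →ₐ[R] C := (gC.restrictScalars R).comp (Ideal.Quotient.mkₐ R _)
  let g : C →ₐ[R] Λ ⧸ Ideal.span {algebraMap R Λ (π ^ 8)} :=
    (e : _ →ₐ[R] _).comp (hC.restrictScalars R)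
  refine core2 π hR hΛ φ hπ γ g ?_
  intro a
  have h1 : hC (gC (Ideal.Quotient.mk _ a)) = φJ (Ideal.Quotient.mk _ a) := by
    rw [← hcompC]
    rfl
  change e (hC (gC (Ideal.Quotient.mk _ a))) = _
  rw [h1, hφJ]
  rfl

end Groth.Agent.Lib.Helper8.PO3
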