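import Mathlib
import Groth.Prelude.Def_Smoothing
import Groth.Agent.Lib.Helper8.PO1
import Groth.Agent.Lib.Helper8.PO2
import Groth.Agent.Lib.Helper8.PO3
import Groth.Agent.Lib.Helper8.IS2
import Groth.Agent.S2029

set_option backward.isDefEq.respectTransparency.types false
set_option autoImplicit false
set_option linter.unusedSectionVars false
set_option linter.style.haveILetI false

open Smoothing TensorProduct

namespace Groth.Agent.Lib.Helper8.PO4

universe u

open Groth.Agent.Lib.Helper23

/-- the reduction step when some localization of `R` is a field. -/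
theorem step_field (R Λ : Type u) [CommRing R] [IsNoetherianRing R] [CommRing Λ]
    [IsNoetherianRing Λ] [Algebra R Λ] (hreg : CAlg.IsRegularHom R Λ)
    (IH : ∀ J : Ideal R, J ≠ ⊥ → IndSmooth (R ⧸ J) (Λ ⧸ J.map (algebraMap R Λ)))
    (S : Submonoid R) (K : Type u) [Field K] [Algebra R K] [IsLocalization S K] :
    IndSmooth R Λ := by
  intro A _ _ hfp φ
  haveI := hfp
  haveI : Algebra.EssFiniteType R K := Algebra.EssFiniteType.of_isLocalization K S
  have h1 : CAlg.IsRegularHom K (K ⊗[R] Λ) :=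
    RegularHom2.isRegularHom_baseChange_of_essFiniteType R K Λ hreg
  haveI : IsNoetherianRing (Λ ⊗[R] K) := Algebra.EssFiniteType.isNoetherianRing Λ _
  haveI : IsNoetherianRing (K ⊗[R] Λ) :=
    isNoetherianRing_of_ringEquiv _ (Algebra.TensorProduct.comm R Λ K).toRingEquiv
  obtain ⟨B', _, _, hsm', g', h', hgh'⟩ := PO1.indSmooth_field' K (K ⊗[R] Λ) h1 (K ⊗[R] A)
    inferInstance (Algebra.TensorProduct.map (AlgHom.id K K) φ)
  haveI := hsm'
  obtain ⟨B, _, _, α, β, hβα, s, hs, hes⟩ := Groth.Agent.S2029.result φ S g' h' hgh'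
  haveI : Algebra.FinitePresentation R B := PO2.finitePresentation_of_elementary _ hes
  have hss := PO2.strictlyStandard_of_elementary _ hes
  obtain ⟨m, hm, hstab⟩ := PO2.exists_common_stable R Λ s
  obtain ⟨hR, hΛ⟩ := hstab 1 one_pos
  have hπ : IsStrictlyStandard R B (algebraMap R B (s ^ (m * 1))) := by
    rw [map_pow]
    exact PO2.strictlyStandard_pow _ hss _ (by omega)
  have h0 : (0 : R) ∉ S := by
    intro h0
    have := IsLocalization.map_units K (⟨0, h0⟩ : S)
    rw [map_zero] at this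
    exact not_isUnit_zero this
  have hJ : Ideal.span {(s ^ (m * 1)) ^ 8} ≠ (⊥ : Ideal R) := by
    rw [Ne, Ideal.span_singleton_eq_bot]
    intro h
    apply h0
    rw [← h]
    exact Submonoid.pow_mem _ (Submonoid.pow_mem _ hs _) _
  obtain ⟨B₃, _, _, hsm₃, α₃, β₃, hcomp₃⟩ := PO3.core (s ^ (m * 1)) hR hΛ β hπ (IH _ hJ)
  exact ⟨B₃, inferInstance, inferInstance, hsm₃, α₃.comp α, β₃, by
    rw [← AlgHom.comp_assoc, hcomp₃, hβα]⟩

/-- the one-step reduction. -/
theorem one_step (R Λ : Type u) [CommRing R] [IsNoetherianRing R] [CommRing Λ]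
    [IsNoetherianRing Λ] [Algebra R Λ] (hreg : CAlg.IsRegularHom R Λ)
    (IH : ∀ J : Ideal R, J ≠ ⊥ → IndSmooth (R ⧸ J) (Λ ⧸ J.map (algebraMap R Λ))) :
    IndSmooth R Λ := by
  rcases subsingleton_or_nontrivial R with hsub | hnt
  · intro A _ _ hfp φ
    haveI : Subsingleton Λ := by
      refine subsingleton_of_zero_eq_one ?_
      rw [← map_one (algebraMap R Λ), ← map_zero (algebraMap R Λ)]
      exact congrArg _ (Subsingleton.elim _ _)
    exact ⟨Λ, inferInstance, inferInstance, inferInstance, φ, AlgHom.id R Λ, AlgHom.id_comp φ⟩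
  by_cases hred : IsReduced R
  · obtain ⟨⟨𝔭, h𝔭⟩⟩ := Ideal.nonempty_minimalPrimes (I := (⊥ : Ideal R)) bot_ne_top
    haveI := h𝔭.1.1
    letI : Field (Localization.AtPrime 𝔭) :=
      (PO2.isField_localization_of_minimal 𝔭 h𝔭).toField
    exact step_field R Λ hreg IH 𝔭.primeCompl (Localization.AtPrime 𝔭)
  · haveI := hreg.1
    have hnil : nilradical R ≠ ⊥ := by
      intro h
      apply hred
      exact ⟨fun x hx => by
        have : x ∈ nilradical R := hx
        rwa [h, Ideal.mem_bot] at this⟩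
    exact IS2.main2022 (nilradical R) (IsNoetherianRing.isNilpotent_nilradical R) (IH _ hnil)

end Groth.Agent.Lib.Helper8.PO4
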