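import Mathlib
import Groth.Prelude.Def_Smoothing
import Groth.Agent.Lib.Helper8.PO4

set_option backward.isDefEq.respectTransparency.types false
set_option autoImplicit false
set_option linter.unusedSectionVars false
set_option linter.style.haveILetI false

open Smoothing TensorProduct

namespace Groth.Agent.Lib.Helper8.PO5

universe u

open Groth.Agent.Lib.Helper23

theorem isRegularHom_quotient (R Λ : Type u) [CommRing R] [CommRing Λ] [Algebra R Λ]
    (hreg : CAlg.IsRegularHom R Λ) (I : Ideal R) :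
    CAlg.IsRegularHom (R ⧸ I) (Λ ⧸ I.map (algebraMap R Λ)) := by
  have h1 : CAlg.IsRegularHom (R ⧸ I) ((R ⧸ I) ⊗[R] Λ) :=
    RegularHom2.isRegularHom_baseChange_of_essFiniteType R (R ⧸ I) Λ hreg
  exact RegularHom2.isRegularHom_of_algEquiv
    (Algebra.TensorProduct.quotIdealMapEquivQuotTensor Λ I).symm h1

theorem popescu_quot (R Λ : Type u) [CommRing R] [IsNoetherianRing R] [CommRing Λ]
    [IsNoetherianRing Λ] [Algebra R Λ] (hreg : CAlg.IsRegularHom R Λ) (I : Ideal R) :
    IndSmooth (R ⧸ I) (Λ ⧸ I.map (algebraMap R Λ)) := by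
  revert I
  refine IsNoetherian.induction (R := R) (M := R)
    (P := fun I : Ideal R => IndSmooth (R ⧸ I) (Λ ⧸ Ideal.map (algebraMap R Λ) I)) ?_
  · intro (I : Ideal R) ih
    change ∀ J : Ideal R, J > I → IndSmooth (R ⧸ J) (Λ ⧸ Ideal.map (algebraMap R Λ) J) at ih
    refine PO4.one_step (R ⧸ I) (Λ ⧸ Ideal.map (algebraMap R Λ) I)
      (isRegularHom_quotient R Λ hreg I) ?_
    intro J' hJ'
    have hle : I ≤ J'.comap (Ideal.Quotient.mk I) := by
      intro x hx
      rw [Ideal.mem_comap, Ideal.Quotient.eq_zero_iff_mem.mpr hx]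
      exact zero_mem _
    have hlt : I < J'.comap (Ideal.Quotient.mk I) := by
      refine lt_of_le_of_ne hle ?_
      intro h
      apply hJ'
      rw [← Ideal.map_comap_of_surjective _ Ideal.Quotient.mk_surjective J', ← h,
        Ideal.map_quotient_self]
    have h3 := IS2.indSmooth_doubleQuot I (J'.comap (Ideal.Quotient.mk I)) hle (ih _ hlt)
    rwa [Ideal.map_comap_of_surjective _ Ideal.Quotient.mk_surjective] at h3

/-- **Popescu's theorem** (factorization form). -/
theorem popescu (R Λ : Type u) [CommRing R] [IsNoetherianRing R] [CommRing Λ]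
    [IsNoetherianRing Λ] [Algebra R Λ] (hreg : CAlg.IsRegularHom R Λ) : IndSmooth R Λ :=
  PO4.one_step R Λ hreg (fun J _ => popescu_quot R Λ hreg J)

end Groth.Agent.Lib.Helper8.PO5
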