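import Mathlib
import Groth.Prelude.Def_Smoothing
import Groth.Agent.Lib.Helper8.PO5
import Groth.Agent.Lib.Helper21.AdicNoetherian
import Groth.Agent.Lib.Helper11.Henselian
import Groth.Agent.S0536

set_option backward.isDefEq.respectTransparency.types false
set_option autoImplicit false
set_option linter.unusedSectionVars false
set_option linter.style.haveILetI false

open Smoothing TensorProduct

namespace Groth.Agent.Lib.Helper8.AA1

universe u

theorem mem_map_pow_of_evalₐ_eq_zero {A : Type u} [CommRing A] (I : Ideal A) (hI : I.FG)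
    (x : AdicCompletion I A) (n : ℕ) (h : AdicCompletion.evalₐ I n x = 0) :
    x ∈ (I ^ n).map (algebraMap A (AdicCompletion I A)) := by
  have h1 : AdicCompletion.eval I A n x = 0 := by
    rw [← AdicCompletion.factor_evalₐ_eq_eval I x (by simp), h, map_zero]
  have h2 : x ∈ (I ^ n • ⊤ : Submodule A (AdicCompletion I A)) := by
    rw [AdicCompletion.pow_smul_top_eq_ker_eval hI, LinearMap.mem_ker]
    exact h1
  rw [Ideal.smul_top_eq_map] at h2
  exact h2

/-- Artin approximation for a Henselian pair with regular completion map. -/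
theorem approx (A : Type u) [CommRing A] [IsNoetherianRing A]
    (I : Ideal A) [HenselianRing A I] (hreg : CAlg.IsRegularHom A (AdicCompletion I A)) (n m : ℕ)
    (F : Fin m → MvPolynomial (Fin n) A) (a : Fin n → (AdicCompletion I A))
    (ha : ∀ j, MvPolynomial.aeval a (F j) = 0) (N : ℕ) :
    ∃ b : Fin n → A, (∀ j, MvPolynomial.eval b (F j) = 0) ∧
      ∀ i, a i - algebraMap A (AdicCompletion I A) (b i) ∈
        (I ^ N).map (algebraMap A (AdicCompletion I A)) := by
  classical
  have hIfg : I.FG := IsNoetherian.noetherian I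
  haveI : IsNoetherianRing (AdicCompletion I A) :=
    Groth.Agent.Lib.Helper21.isNoetherianRing_adicCompletion_of_fg I hIfg
  -- the finitely presented algebra of the system
  have hfg : (Ideal.span (Set.range F)).FG := ⟨Finset.univ.image F, by
    rw [Finset.coe_image, Finset.coe_univ, Set.image_univ]⟩
  haveI : Algebra.FinitePresentation A (MvPolynomial (Fin n) A ⧸ Ideal.span (Set.range F)) :=
    Algebra.FinitePresentation.quotient hfg
  let φ : (MvPolynomial (Fin n) A ⧸ Ideal.span (Set.range F)) →ₐ[A] AdicCompletion I A :=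
    Ideal.Quotient.liftₐ _ (MvPolynomial.aeval a) (by
      intro x hx
      have hle : Ideal.span (Set.range F) ≤ RingHom.ker (MvPolynomial.aeval a).toRingHom := by
        rw [Ideal.span_le]
        rintro _ ⟨j, rfl⟩
        exact ha j
      exact hle hx)
  obtain ⟨B, _, _, hsm, g, h, hgh⟩ := PO5.popescu A (AdicCompletion I A) hreg _ inferInstance φ
  haveI := hsm
  -- henselian along `I ^ (N + 1)`
  haveI : HenselianRing A (I ^ (N + 1)) := by
    refine (Groth.Agent.Lib.Helper11.henselianRing_iff_of_radical_eq I (I ^ (N + 1)) ?_).mp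
      inferInstance
    rw [Ideal.radical_pow I (Nat.succ_ne_zero N)]
  let σ : B →ₐ[A] A ⧸ I ^ (N + 1) := (AdicCompletion.evalₐ I (N + 1)).comp h
  obtain ⟨τ, hτ⟩ := Groth.Agent.S0536.result A B A (I ^ (N + 1)) σ
  let y : Fin n → B := fun i => g (Ideal.Quotient.mk _ (MvPolynomial.X i))
  refine ⟨fun i => τ (y i), ?_, ?_⟩
  · intro j
    have h1 : MvPolynomial.aeval (fun i => τ (y i)) =
        (τ.comp g).comp (Ideal.Quotient.mkₐ A (Ideal.span (Set.range F))) := by
      apply MvPolynomial.algHom_ext
      intro i
      rw [MvPolynomial.aeval_X]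
      rfl
    have h2 : MvPolynomial.eval (fun i => τ (y i)) (F j) =
        MvPolynomial.aeval (fun i => τ (y i)) (F j) := by
      rw [← MvPolynomial.coe_aeval_eq_eval]
      rfl
    rw [h2, h1]
    change τ (g (Ideal.Quotient.mk _ (F j))) = 0
    rw [Ideal.Quotient.eq_zero_iff_mem.mpr (Ideal.subset_span (Set.mem_range_self j)), map_zero,
      map_zero]
  · intro i
    have hai : a i = h (y i) := by
      have : h (g (Ideal.Quotient.mk _ (MvPolynomial.X i))) =
          φ (Ideal.Quotient.mk _ (MvPolynomial.X i)) := by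
        rw [← hgh]
        rfl
      change a i = h (g (Ideal.Quotient.mk _ (MvPolynomial.X i)))
      rw [this]
      change a i = MvPolynomial.aeval a (MvPolynomial.X i)
      rw [MvPolynomial.aeval_X]
    have hmem : h (y i) - algebraMap A (AdicCompletion I A) (τ (y i)) ∈
        (I ^ (N + 1)).map (algebraMap A (AdicCompletion I A)) := by
      apply mem_map_pow_of_evalₐ_eq_zero I hIfg
      rw [map_sub, sub_eq_zero]
      have h3 : (Ideal.Quotient.mkₐ A (I ^ (N + 1))) (τ (y i)) = σ (y i) := by
        rw [← hτ]
        rfl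
      have h4 : AdicCompletion.evalₐ I (N + 1) (algebraMap A (AdicCompletion I A) (τ (y i))) =
          Ideal.Quotient.mk _ (τ (y i)) := by
        rw [AlgHom.commutes]
        rfl
      rw [h4]
      exact h3.symm
    rw [hai]
    exact Ideal.map_mono (Ideal.pow_le_pow_right (Nat.le_succ N)) hmem

end Groth.Agent.Lib.Helper8.AA1
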