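import Mathlib
import Groth.Prelude.Def_Smoothing
import Groth.Agent.Lib.Helper8.AA1
import Groth.Agent.Lib.Helper18.Exc

set_option backward.isDefEq.respectTransparency.types false
set_option autoImplicit false
set_option linter.unusedSectionVars false
set_option linter.style.haveILetI false

open Smoothing TensorProduct

namespace Groth.Agent.Lib.Helper8.AA2

universe u

/-- the completion map of a local G-ring is regular. -/
theorem isRegularHom_cpl_of_isGRing (R : Type u) [CommRing R] [IsLocalRing R]
    (hG : CAlg.IsGRing R) :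
    CAlg.IsRegularHom R (AdicCompletion (IsLocalRing.maximalIdeal R) R) := by
  haveI := hG.1
  have h1 := hG.2 (IsLocalRing.maximalIdeal R)
  haveI : IsNoetherianRing (Localization.AtPrime (IsLocalRing.maximalIdeal R)) :=
    IsLocalization.isNoetherianRing (IsLocalRing.maximalIdeal R).primeCompl _ inferInstance
  have hunits : (IsLocalRing.maximalIdeal R).primeCompl ≤ IsUnit.submonoid R := by
    intro x hx
    by_contra hx'
    exact hx ((IsLocalRing.mem_maximalIdeal _).mpr hx')
  let e : R ≃ₐ[R] Localization.AtPrime (IsLocalRing.maximalIdeal R) :=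
    IsLocalization.atUnits R (IsLocalRing.maximalIdeal R).primeCompl hunits
  exact Groth.Agent.Lib.Helper18.Exc.isRegularHom_cpl_of_ringEquiv e.symm.toRingEquiv h1

theorem approx_local (R : Type u) [CommRing R] [HenselianLocalRing R]
    (hG : CAlg.IsGRing R) (n m : ℕ) (F : Fin m → MvPolynomial (Fin n) R)
    (a : Fin n → (AdicCompletion (IsLocalRing.maximalIdeal R) R))
    (ha : ∀ j, MvPolynomial.aeval a (F j) = 0) (N : ℕ) :
    ∃ b : Fin n → R, (∀ j, MvPolynomial.eval b (F j) = 0) ∧
      ∀ i, a i - algebraMap R (AdicCompletion (IsLocalRing.maximalIdeal R) R) (b i) ∈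
        (IsLocalRing.maximalIdeal R ^ N).map
          (algebraMap R (AdicCompletion (IsLocalRing.maximalIdeal R) R)) := by
  haveI := hG.1
  exact AA1.approx R (IsLocalRing.maximalIdeal R) (isRegularHom_cpl_of_isGRing R hG) n m F a ha N

end Groth.Agent.Lib.Helper8.AA2
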