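import Mathlib
import Groth.Prelude.Def_Smoothing
import Groth.Agent.Lib.Helper8.AA3
import Groth.Agent.Lib.Helper4.FinAcc1

set_option backward.isDefEq.respectTransparency.types false
set_option autoImplicit false
set_option linter.unusedSectionVars false
set_option linter.style.haveILetI false

open Smoothing TensorProduct CategoryTheory CategoryTheory.Limits

namespace Groth.Agent.Lib.Helper8.AA4

universe u

open Groth.Agent.Lib.Helper4.IndEt Groth.Agent.Lib.Helper4.FinAcc

/-- an element of `F(X)` comes from a finitely presented stage. -/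
theorem exists_fp_stage (A : Type u) [CommRing A] (X : Under (CommRingCat.of A))
    (F : Under (CommRingCat.of A) ⥤ Type u)
    (hF : ∀ (J : Type u) [SmallCategory J] [IsFiltered J], PreservesColimitsOfShape J F)
    (ξ : F.obj X) :
    ∃ (Z : Under (CommRingCat.of A)) (_ : Z.hom.hom.FinitePresentation) (ι : Z ⟶ X)
      (x : F.obj Z), F.map ι x = ξ := by
  obtain ⟨J, _, _, pres, hp⟩ := ind_pfp (R := A) X
  haveI := hF J
  have hc := isColimitOfPreserves F pres.isColimit
  obtain ⟨j, x, hx⟩ := Types.jointly_surjective_of_isColimit hc ξ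
  exact ⟨pres.diag.obj j, hp j, pres.ι.app j, x, hx⟩

/-- Artin approximation for functors, Henselian pair with regular completion map. -/
theorem functor_approx (A : Type u) [CommRing A] [IsNoetherianRing A] (I : Ideal A)
    [HenselianRing A I] (hreg : CAlg.IsRegularHom A (AdicCompletion I A))
    (F : Under (CommRingCat.of A) ⥤ Type u)
    (hF : ∀ (J : Type u) [SmallCategory J] [IsFiltered J], PreservesColimitsOfShape J F)
    (n : ℕ) (hn : 1 ≤ n)
    (π : Under.mk (CommRingCat.ofHom (algebraMap A (AdicCompletion I A))) ⟶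
      Under.mk (CommRingCat.ofHom (algebraMap A (A ⧸ I ^ n))))
    (hπ : π.right = CommRingCat.ofHom
      (AdicCompletion.evalₐ I n : AdicCompletion I A →ₐ[A] A ⧸ I ^ n).toRingHom)
    (ρ : Under.mk (𝟙 (CommRingCat.of A)) ⟶
      Under.mk (CommRingCat.ofHom (algebraMap A (A ⧸ I ^ n))))
    (ξ : F.obj (Under.mk (CommRingCat.ofHom (algebraMap A (AdicCompletion I A))))) :
    ∃ η : F.obj (Under.mk (𝟙 (CommRingCat.of A))), F.map ρ η = F.map π ξ := by
  obtain ⟨Z, hZ, ι, x, hx⟩ := exists_fp_stage A _ F hF ξ
  letI := Z.hom.hom.toAlgebra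
  haveI : Algebra.FinitePresentation A Z.right := hZ
  let g : Z.right →ₐ[A] AdicCompletion I A :=
    { toRingHom := ι.right.hom
      commutes' := fun a => by
        have := congrArg (fun φ => φ.hom a) (Under.w ι)
        exact this }
  haveI : IsNoetherianRing (AdicCompletion I A) :=
    Groth.Agent.Lib.Helper21.isNoetherianRing_adicCompletion_of_fg I (IsNoetherian.noetherian I)
  obtain ⟨B, _, _, hsm, u, h, huh⟩ := PO5.popescu A (AdicCompletion I A) hreg Z.right inferInstance g
  haveI := hsm
  haveI : HenselianRing A (I ^ n) := by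
    refine (Groth.Agent.Lib.Helper11.henselianRing_iff_of_radical_eq I (I ^ n) ?_).mp
      inferInstance
    rw [Ideal.radical_pow I (by omega)]
  let σ : B →ₐ[A] A ⧸ I ^ n := (AdicCompletion.evalₐ I n).comp h
  obtain ⟨τ, hτ⟩ := Groth.Agent.S0536.result A B A (I ^ n) σ
  let w : Z ⟶ Under.mk (𝟙 (CommRingCat.of A)) :=
    Under.homMk (CommRingCat.ofHom (τ.comp u).toRingHom) (by
      ext a
      exact (τ.comp u).commutes a)
  have hρ : ρ.right = CommRingCat.ofHom (algebraMap A (A ⧸ I ^ n)) := by
    have := Under.w ρ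
    simpa using this
  have hcomm : w ≫ ρ = ι ≫ π := by
    ext z
    change ρ.right.hom (τ (u z)) = π.right.hom (ι.right.hom z)
    rw [hρ, hπ]
    change Ideal.Quotient.mk _ (τ (u z)) = AdicCompletion.evalₐ I n (g z)
    have h1 : Ideal.Quotient.mk (I ^ n) (τ (u z)) = σ (u z) := by
      rw [← hτ]
      rfl
    rw [h1, ← huh]
    rfl
  refine ⟨F.map w x, ?_⟩
  calc F.map ρ (F.map w x) = F.map (w ≫ ρ) x := by simp
    _ = F.map (ι ≫ π) x := by rw [hcomm]
    _ = F.map π (F.map ι x) := by simp
    _ = F.map π ξ := by rw [hx]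

end Groth.Agent.Lib.Helper8.AA4
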