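import Mathlib
import Groth.Prelude.Def_CAlg
import Groth.Agent.Lib.Helper18.CM9
import Groth.Agent.Lib.Helper18.CMRing
import Groth.Agent.Lib.Helper18.FibQuot
set_option backward.isDefEq.respectTransparency.types false
set_option linter.unusedSectionVars false
set_option autoImplicit false
set_option linter.style.haveILetI false
universe u

namespace Groth.Agent.Lib.Helper8.CMQ

open IsLocalRing Pointwise

/-- A Cohen–Macaulay local ring modulo a regular element of the maximal ideal is Cohen–Macaulay. -/
theorem cm_local_quot {T : Type u} [CommRing T] [hT : LocCoh.IsCohenMacaulayLocalRing T] (x : T)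
    (hx : x ∈ maximalIdeal T) (hreg : IsSMulRegular T x) :
    LocCoh.IsCohenMacaulayLocalRing (T ⧸ Ideal.span {x}) := by
  have hM : LocCoh.IsCohenMacaulayModule T T := hT.supportDim_eq_depth
  have h1 := Groth.Agent.Lib.Helper18.CM.isCohenMacaulayModule_quotSMulTop T hM hx hreg
  have hspan : Ideal.span {x} = x • (⊤ : Ideal T) := by
    simp [← Submodule.ideal_span_singleton_smul]
  let e : QuotSMulTop x T ≃ₗ[T] T ⧸ Ideal.span {x} :=
    Submodule.quotEquivOfEq _ _ hspan.symm
  have h2 : LocCoh.IsCohenMacaulayModule T (T ⧸ Ideal.span {x}) :=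
    (Groth.Agent.Lib.Helper18.CM.isCohenMacaulayModule_congr e).mp h1
  have hne : Ideal.span {x} ≠ ⊤ := by
    intro h
    have : Ideal.span {x} ≤ maximalIdeal T := by
      rw [Ideal.span_le, Set.singleton_subset_iff]
      exact hx
    rw [h, top_le_iff] at this
    exact (maximalIdeal.isMaximal T).ne_top this
  haveI : Nontrivial (T ⧸ Ideal.span {x}) := Ideal.Quotient.nontrivial_iff.mpr hne
  haveI : IsLocalRing (T ⧸ Ideal.span {x}) :=
    IsLocalRing.of_surjective' (Ideal.Quotient.mk (Ideal.span {x})) Ideal.Quotient.mk_surjective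
  haveI hloc : IsLocalHom (algebraMap T (T ⧸ Ideal.span {x})) :=
    IsLocalHom.of_surjective _ Ideal.Quotient.mk_surjective
  refine { supportDim_eq_depth := ?_ }
  unfold LocCoh.IsCohenMacaulayModule at h2
  rw [Groth.Agent.Lib.Helper18.CM.depth_eq_of_finite (A := T) (B := T ⧸ Ideal.span {x})
    (T ⧸ Ideal.span {x}), Module.supportDim_quotient_eq_ringKrullDim] at h2
  rw [Module.supportDim_self_eq_ringKrullDim]
  exact h2

/-- `(R/𝔟)_q ≃ R_Q/𝔟R_Q` for `Q` the preimage of `q` (as in helper16's Liaison5). -/
noncomputable def locQuotEquiv {R : Type u} [CommRing R] (𝔟 : Ideal R) (q : Ideal (R ⧸ 𝔟))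
    [q.IsPrime] (Q : Ideal R)
    [Q.IsPrime] (hQ : Q = q.comap (Ideal.Quotient.mk 𝔟)) :
    Localization.AtPrime q ≃+*
      (Localization.AtPrime Q ⧸ 𝔟.map (algebraMap R (Localization.AtPrime Q))) := by
  have h1 : q.primeCompl = Algebra.algebraMapSubmonoid (R ⧸ 𝔟) Q.primeCompl := by
    ext x
    constructor
    · intro hx
      obtain ⟨r, rfl⟩ := Ideal.Quotient.mk_surjective x
      refine ⟨r, ?_, rfl⟩
      change r ∉ Q
      rw [hQ, Ideal.mem_comap]
      exact hx
    · rintro ⟨r, hr, rfl⟩
      change r ∉ Q at hr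
      rw [hQ, Ideal.mem_comap] at hr
      exact hr
  have h2 : IsLocalization q.primeCompl
      (Localization.AtPrime Q ⧸ 𝔟.map (algebraMap R (Localization.AtPrime Q))) := by
    rw [h1]
    infer_instance
  exact (IsLocalization.algEquiv q.primeCompl (Localization.AtPrime q)
    (Localization.AtPrime Q ⧸ 𝔟.map (algebraMap R (Localization.AtPrime Q)))).toRingEquiv

/-- A Cohen–Macaulay ring modulo a regular element is Cohen–Macaulay. -/
theorem cm_quot_regular {A : Type u} [CommRing A] [hA : LocCoh.IsCohenMacaulayRing A] (x : A)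
    (hreg : IsSMulRegular A x) : LocCoh.IsCohenMacaulayRing (A ⧸ Ideal.span {x}) := by
  refine { isCohenMacaulayLocalRing_localization := ?_ }
  intro q hq
  set Q : Ideal A := q.comap (Ideal.Quotient.mk (Ideal.span {x})) with hQ
  haveI hQp : Q.IsPrime := Ideal.comap_isPrime _ _
  haveI hCM := hA.isCohenMacaulayLocalRing_localization Q
  have hxQ : x ∈ Q := by
    rw [hQ, Ideal.mem_comap]
    have : Ideal.Quotient.mk (Ideal.span {x}) x = 0 :=
      Ideal.Quotient.eq_zero_iff_mem.mpr (Ideal.mem_span_singleton_self x)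
    rw [this]
    exact Ideal.zero_mem _
  have hxm : algebraMap A (Localization.AtPrime Q) x ∈ maximalIdeal (Localization.AtPrime Q) :=
    (IsLocalization.AtPrime.to_map_mem_maximal_iff (Localization.AtPrime Q) Q x).mpr hxQ
  have hreg' : IsSMulRegular (Localization.AtPrime Q) (algebraMap A (Localization.AtPrime Q) x) := by
    have h1 : RingTheory.Sequence.IsWeaklyRegular A [x] := by
      rw [RingTheory.Sequence.isWeaklyRegular_cons_iff]
      exact ⟨hreg, RingTheory.Sequence.IsWeaklyRegular.nil _ _⟩
    have h2 := RingTheory.Sequence.IsWeaklyRegular.of_isLocalization (Localization.AtPrime Q)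
      Q.primeCompl h1
    rw [List.map_cons, RingTheory.Sequence.isWeaklyRegular_cons_iff] at h2
    exact h2.1
  have h3 := cm_local_quot (T := Localization.AtPrime Q) _ hxm hreg'
  have hmap : (Ideal.span {x}).map (algebraMap A (Localization.AtPrime Q))
      = Ideal.span {algebraMap A (Localization.AtPrime Q) x} := by
    rw [Ideal.map_span, Set.image_singleton]
  have e := locQuotEquiv (Ideal.span {x}) q Q hQ
  rw [hmap] at e
  exact Groth.Agent.Lib.Helper18.FibQuot.isCohenMacaulayLocalRing_of_ringEquiv
    (R := Localization.AtPrime Q ⧸ Ideal.span {algebraMap A (Localization.AtPrime Q) x})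
    (S := Localization.AtPrime q) (h := h3) e.symm

end Groth.Agent.Lib.Helper8.CMQ
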