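import Mathlib
import Groth.Prelude.Def_AlgSp2

set_option autoImplicit false
universe u
open CategoryTheory CategoryTheory.Limits AlgebraicGeometry Topology TopologicalSpace

namespace Groth.Agent.Lib.Helper8.MonoField

/-- a monomorphism from a nonempty scheme to the spectrum of a field is an isomorphism. -/
theorem isIso_of_mono_of_field {Z : Scheme.{u}} {L : Type u} [Field L]
    (f : Z ⟶ Spec (CommRingCat.of L)) [Mono f] [Nonempty Z] : IsIso f := by
  have hsub : Subsingleton Z := by
    constructor
    intro z₁ z₂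
    let φ₁ : CommRingCat.of L ⟶ Z.residueField z₁ := Spec.preimage (Z.fromSpecResidueField z₁ ≫ f)
    let φ₂ : CommRingCat.of L ⟶ Z.residueField z₂ := Spec.preimage (Z.fromSpecResidueField z₂ ≫ f)
    obtain ⟨Ω, _, i₁, i₂, hi⟩ := AlgSp.FieldPt.exists_amalgamation φ₁.hom φ₂.hom
    let g₁ : Spec (CommRingCat.of Ω) ⟶ Z :=
      Spec.map (CommRingCat.ofHom i₁) ≫ Z.fromSpecResidueField z₁
    let g₂ : Spec (CommRingCat.of Ω) ⟶ Z :=
      Spec.map (CommRingCat.ofHom i₂) ≫ Z.fromSpecResidueField z₂
    have hg : g₁ ≫ f = g₂ ≫ f := by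
      simp only [g₁, g₂, Category.assoc]
      rw [← Spec.map_preimage (Z.fromSpecResidueField z₁ ≫ f),
        ← Spec.map_preimage (Z.fromSpecResidueField z₂ ≫ f), ← Spec.map_comp, ← Spec.map_comp]
      congr 1
      exact CommRingCat.hom_ext hi
    have hg' : g₁ = g₂ := (cancel_mono f).mp hg
    have h1 : g₁.base (IsLocalRing.closedPoint Ω) = z₁ := by
      simp only [g₁, Scheme.Hom.comp_base, TopCat.hom_comp, ContinuousMap.comp_apply]
      exact Scheme.fromSpecResidueField_apply _ _
    have h2 : g₂.base (IsLocalRing.closedPoint Ω) = z₂ := by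
      simp only [g₂, Scheme.Hom.comp_base, TopCat.hom_comp, ContinuousMap.comp_apply]
      exact Scheme.fromSpecResidueField_apply _ _
    rw [← h1, ← h2, hg']
  have hfin : Finite Z := Finite.of_subsingleton
  have hcomp : CompactSpace Z := Finite.compactSpace
  have hqc : QuasiCompact f := (HasAffineProperty.iff_of_isAffine (P := @QuasiCompact)).mpr hcomp
  have hsurj : Surjective f := by
    constructor
    intro y
    obtain ⟨z⟩ := ‹Nonempty Z›
    exact ⟨z, Subsingleton.elim _ _⟩
  exact Flat.isIso_of_surjective_of_mono f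

end Groth.Agent.Lib.Helper8.MonoField

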