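import Mathlib
import Groth.Agent.S9841
import Groth.Agent.Lib.Helper29.QCohBasic

set_option autoImplicit false
universe u
open CategoryTheory CategoryTheory.Limits AlgebraicGeometry Opposite

namespace Groth.Agent.Lib.Helper8.RedStalk

open scoped TensorProduct

/-- reducedness ascends along a smooth ring map, prime by prime. -/
theorem isReduced_atPrime_of_smooth {A B Ap Bq : Type u} [CommRing A] [CommRing B] [Algebra A B]
    [Algebra.Smooth A B] (p : Ideal A) [p.IsPrime] (q : Ideal B) [q.IsPrime]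
    (hpq : ∀ a : A, a ∉ p → algebraMap A B a ∉ q)
    [CommRing Ap] [Algebra A Ap] [IsLocalization.AtPrime Ap p] [_root_.IsReduced Ap]
    [CommRing Bq] [Algebra B Bq] [IsLocalization.AtPrime Bq q] : _root_.IsReduced Bq := by
  have hred : _root_.IsReduced (Ap ⊗[A] B) := Groth.Agent.S9841.isReduced_of_smooth_alg Ap (Ap ⊗[A] B)
  refine ⟨fun x hx => ?_⟩
  obtain ⟨⟨b, s⟩, hbs⟩ := IsLocalization.surj q.primeCompl x
  have hbn : IsNilpotent (algebraMap B Bq b) := by
    rw [← hbs]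
    exact (Commute.all _ _).isNilpotent_mul_right hx
  obtain ⟨n, hn⟩ := hbn
  rw [← map_pow] at hn
  obtain ⟨s', hs'⟩ := (IsLocalization.map_eq_zero_iff q.primeCompl Bq _).mp hn
  have hc : IsNilpotent ((s' : B) * b) := by
    refine ⟨n + 1, ?_⟩
    rw [mul_pow, pow_succ, pow_succ]
    calc (s' : B) ^ n * s' * (b ^ n * b) = (s' : B) ^ n * b * (s' * b ^ n) := by ring
      _ = 0 := by rw [hs', mul_zero]
  have h1 : (1 : Ap) ⊗ₜ[A] ((s' : B) * b) = 0 := by
    have : IsNilpotent ((1 : Ap) ⊗ₜ[A] ((s' : B) * b)) :=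
      hc.map (Algebra.TensorProduct.includeRight : B →ₐ[A] Ap ⊗[A] B)
    exact this.eq_zero
  have h2 : TensorProduct.mk A Ap B 1 ((s' : B) * b) = 0 := h1
  obtain ⟨t, ht⟩ := (IsLocalizedModule.eq_zero_iff p.primeCompl (TensorProduct.mk A Ap B 1)).mp h2
  have htq : algebraMap A B t ∉ q := hpq t t.2
  have hm : algebraMap A B t * s' ∈ q.primeCompl := by
    intro hmem
    rcases (inferInstance : q.IsPrime).mem_or_mem hmem with h | h
    · exact htq h
    · exact s'.2 h
  have h3 : algebraMap B Bq b = 0 := by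
    rw [IsLocalization.map_eq_zero_iff q.primeCompl]
    refine ⟨⟨_, hm⟩, ?_⟩
    change algebraMap A B t * s' * b = 0
    rw [mul_assoc, ← Algebra.smul_def]
    exact ht
  rw [h3] at hbs
  exact (IsLocalization.map_units Bq s).mul_left_eq_zero.mp hbs

open Groth.Agent.Lib.Helper29.QCoh in
theorem isReduced_stalk_of_smooth {X Y : Scheme.{u}} (f : X ⟶ Y) [Smooth f] (x : X)
    (h : _root_.IsReduced (Y.presheaf.stalk (f.base x))) :
    _root_.IsReduced (X.presheaf.stalk x) := by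
  obtain ⟨V, hV, hfxV, -⟩ := exists_isAffineOpen_mem_and_subset (x := f.base x) (U := ⊤) trivial
  obtain ⟨U, hU, hxU, hUV⟩ :=
    exists_isAffineOpen_mem_and_subset (x := x) (U := f ⁻¹ᵁ V) hfxV
  have hsm : (f.appLE V U hUV).hom.Smooth :=
    HasRingHomProperty.appLE (P := @Smooth) f inferInstance ⟨V, hV⟩ ⟨U, hU⟩ hUV
  algebraize [(f.appLE V U hUV).hom]
  let _ := Y.presheaf.algebra_section_stalk ⟨f.base x, hfxV⟩
  have hlocY := hV.isLocalization_stalk ⟨f.base x, hfxV⟩
  let _ := X.presheaf.algebra_section_stalk ⟨x, hxU⟩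
  have hlocX := hU.isLocalization_stalk ⟨x, hxU⟩
  refine isReduced_atPrime_of_smooth (A := Γ(Y, V)) (B := Γ(X, U))
    (Ap := Y.presheaf.stalk (f.base x)) (Bq := X.presheaf.stalk x)
    (hV.primeIdealOf ⟨f.base x, hfxV⟩).asIdeal (hU.primeIdealOf ⟨x, hxU⟩).asIdeal ?_
  intro a ha
  rw [← mem_basicOpen_iff_notMem_primeIdealOf hV (f.base x) hfxV a] at ha
  rw [← mem_basicOpen_iff_notMem_primeIdealOf hU x hxU]
  change x ∈ X.basicOpen ((f.appLE V U hUV).hom a)
  rw [Scheme.Hom.appLE, CommRingCat.hom_comp, RingHom.comp_apply, Scheme.basicOpen_res]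
  exact ⟨hxU, by rw [← Scheme.preimage_basicOpen]; exact ha⟩

end Groth.Agent.Lib.Helper8.RedStalk
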