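import Mathlib
import Groth.Agent.Lib.Helper5.DoubleCentralizer

/-!
# Subalgebras of finite-dimensional division algebras (helper8)
-/

set_option autoImplicit false
universe u v w

namespace Groth.Agent.Lib.Helper8.DivSub

open Groth.Agent.Lib.Helper5.DoubleCentralizer

/-- a finite-dimensional subalgebra of a division algebra is closed under inverses. -/
theorem inv_mem_subalgebra (k : Type u) [Field k] (D : Type v) [DivisionRing D] [Algebra k D]
    [FiniteDimensional k D] (M : Subalgebra k D) (x : D) (hx : x ∈ M) (hx0 : x ≠ 0) :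
    x⁻¹ ∈ M := by
  let m : M →ₗ[k] M := LinearMap.mulLeft k ⟨x, hx⟩
  have hm : Function.Injective m := by
    intro a b hab
    have : x * a = x * b := congrArg Subtype.val hab
    exact Subtype.ext (mul_left_cancel₀ hx0 this)
  obtain ⟨y, hy⟩ := LinearMap.surjective_of_injective hm 1
  have : x * y = 1 := congrArg Subtype.val hy
  rw [← eq_inv_of_mul_eq_one_right this]
  exact y.2

theorem isSimpleRing_subalgebra (k : Type u) [Field k] (D : Type v) [DivisionRing D] [Algebra k D]
    [FiniteDimensional k D] (M : Subalgebra k D) : IsSimpleRing M := by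
  refine IsSimpleRing.of_eq_bot_or_eq_top fun I => ?_
  rw [or_iff_not_imp_left]
  intro hI
  obtain ⟨x, hxI, hx0⟩ : ∃ x ∈ I, x ≠ 0 := by
    by_contra h
    push Not at h
    exact hI (le_bot_iff.mp fun x hx => by rw [TwoSidedIdeal.mem_bot]; exact h x hx)
  have hx0' : (x : D) ≠ 0 := fun h => hx0 (Subtype.ext h)
  have hinv := inv_mem_subalgebra k D M x x.2 hx0'
  have h1 : (1 : M) ∈ I := by
    have := I.mul_mem_left ⟨(x : D)⁻¹, hinv⟩ x hxI
    have h2 : (⟨(x : D)⁻¹, hinv⟩ : M) * x = 1 := Subtype.ext (inv_mul_cancel₀ hx0')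
    rwa [h2] at this
  exact (TwoSidedIdeal.one_mem_iff I).mp h1


/-- A commutative subalgebra of a central division algebra equal to its own centralizer has
`dim D = (dim L)^2`; a maximal commutative subalgebra is its own centralizer. -/
theorem centralizer_eq_of_maximal_comm (k : Type u) [Field k]
    (D : Type v) [Ring D] [Algebra k D]
    (L : Subalgebra k D) (hcomm : ∀ x ∈ L, ∀ y ∈ L, x * y = y * x)
    (hmax : ∀ L' : Subalgebra k D, (∀ x ∈ L', ∀ y ∈ L', x * y = y * x) → L ≤ L' → L' = L) :
    Subalgebra.centralizer k (L : Set D) = L := by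
  have hLC : L ≤ Subalgebra.centralizer k (L : Set D) := fun x hx =>
    (Subalgebra.mem_centralizer_iff k).mpr fun y hy => hcomm y hy x hx
  have hCL : Subalgebra.centralizer k (L : Set D) ≤ L := by
    intro x hx
    rw [Subalgebra.mem_centralizer_iff] at hx
    have hc : ∀ a ∈ (L : Set D) ∪ {x}, ∀ b ∈ (L : Set D) ∪ {x}, a * b = b * a := by
      rintro a (ha | ha) b (hb | hb)
      · exact hcomm a ha b hb
      · rw [Set.mem_singleton_iff.mp hb]; exact hx a ha
      · rw [Set.mem_singleton_iff.mp ha]; exact (hx b hb).symm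
      · rw [Set.mem_singleton_iff.mp ha, Set.mem_singleton_iff.mp hb]
    have hmc := Algebra.isMulCommutative_adjoin k hc
    have hL' := hmax (Algebra.adjoin k ((L : Set D) ∪ {x}))
      (fun a ha b hb => setLike_mul_comm ha hb)
      (fun a ha => Algebra.subset_adjoin (Or.inl ha))
    rw [← hL']
    exact Algebra.subset_adjoin (Or.inr rfl)
  exact le_antisymm hCL hLC

end Groth.Agent.Lib.Helper8.DivSub
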