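import Mathlib
import Groth.Prelude.Def_Curves
import Groth.Agent.Lib.Helper15.Wedderburn
import Groth.Agent.Lib.Helper15.CSABaseChange

/-!
# Splitting of central simple algebras (helper8)

* `csa_of_splits`: an algebra split by some field extension is finite central simple.
* `splits_of_isSepClosed`: a finite CSA is split by any separably closed extension.
-/

set_option autoImplicit false
set_option maxSynthPendingDepth 3
universe u v w
open scoped TensorProduct

namespace Groth.Agent.Lib.Helper8.CSASplit

open Groth.Agent.Lib.Helper15.CSA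

/-- general version: a matrix-split algebra (over any extension field) is finite central simple. -/
theorem csa_of_splits (k : Type u) [Field k] (A : Type v) [Ring A] [Algebra k A]
    (K : Type w) [Field K] [Algebra k K] (h : Curves.Splits k A K) :
    Algebra.IsCentral k A ∧ IsSimpleRing A ∧ FiniteDimensional k A := by
  obtain ⟨n, hn, ⟨e⟩⟩ := h
  haveI : NeZero n := ⟨hn⟩
  haveI : Algebra.IsCentral K (K ⊗[k] A) := by
    refine ⟨fun z hz => ?_⟩
    have h1 : e z ∈ Subalgebra.center K (Matrix (Fin n) (Fin n) K) := by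
      rw [Subalgebra.mem_center_iff] at hz ⊢
      intro b
      have := congrArg e (hz (e.symm b))
      simpa using this
    obtain ⟨c, hc⟩ := (Algebra.IsCentral.mem_center_iff K).mp h1
    rw [Algebra.mem_bot]
    refine ⟨c, e.injective ?_⟩
    rw [AlgEquiv.commutes, hc]
  haveI : IsSimpleRing (K ⊗[k] A) := IsSimpleRing.of_ringEquiv e.symm.toRingEquiv inferInstance
  refine ⟨isCentral_of_baseChange k K A, isSimpleRing_of_baseChange k K A, ?_⟩
  have hfin : Module.Finite K (K ⊗[k] A) := Module.Finite.equiv e.symm.toLinearEquiv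
  have hr := Module.rank_baseChange (R := K) (S := k) (M' := A)
  rw [← Module.rank_lt_aleph0_iff] at hfin
  rw [hr] at hfin
  show Module.Finite k A
  rw [← Module.rank_lt_aleph0_iff]
  simpa using hfin


/-- A finite central simple algebra is split by every separably closed extension field. -/
theorem splits_of_isSepClosed (k : Type u) [Field k] (A : Type v) [Ring A] [Algebra k A]
    [Algebra.IsCentral k A] [IsSimpleRing A] [FiniteDimensional k A]
    (K : Type w) [Field K] [Algebra k K] [IsSepClosed K] : Curves.Splits k A K := by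
  haveI := isCentral_baseChange k K A
  haveI := isSimpleRing_baseChange k K A
  obtain ⟨n, hn, ⟨e⟩⟩ := exists_algEquiv_matrix_of_isSepClosed K (K ⊗[k] A)
  exact ⟨n, hn.out, ⟨e⟩⟩

/-- A matrix splitting over a field extension `K/k` is already defined over a finitely generated
subextension. -/
theorem exists_finset_adjoin_splits (k : Type u) [Field k] (A : Type v) [Ring A] [Algebra k A]
    [FiniteDimensional k A] (K : Type w) [Field K] [Algebra k K] (n : ℕ)
    (φ : K ⊗[k] A ≃ₐ[K] Matrix (Fin n) (Fin n) K) :
    ∃ S : Finset K, Nonempty ((IntermediateField.adjoin k (S : Set K)) ⊗[k] A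
      ≃ₐ[IntermediateField.adjoin k (S : Set K)]
        Matrix (Fin n) (Fin n) (IntermediateField.adjoin k (S : Set K))) := by
  classical
  let b := Module.finBasis k A
  let bK := Algebra.TensorProduct.basis K b
  let c : Fin n → Fin n → Fin (Module.finrank k A) → K := fun i j l =>
    bK.repr (φ.symm (Matrix.single i j 1)) l
  let S : Finset K := Finset.univ.image fun p : (Fin n × Fin n) × Fin (Module.finrank k A) =>
    c p.1.1 p.1.2 p.2
  refine ⟨S, ?_⟩
  set F := IntermediateField.adjoin k (S : Set K) with hF
  have hc : ∀ i j l, c i j l ∈ F := fun i j l =>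
    IntermediateField.subset_adjoin k _ (Finset.mem_coe.mpr
      (Finset.mem_image.mpr ⟨((i, j), l), Finset.mem_univ _, rfl⟩))
  let c' : Fin n → Fin n → Fin (Module.finrank k A) → F := fun i j l => ⟨c i j l, hc i j l⟩
  let x : Fin n → Fin n → F ⊗[k] A := fun i j => ∑ l, c' i j l ⊗ₜ[k] b l
  let ι : F ⊗[k] A →ₐ[F] K ⊗[k] A :=
    Algebra.TensorProduct.map (Algebra.ofId F K) (AlgHom.id k A)
  have hι : Function.Injective ι := by
    have h1 : Function.Injective (LinearMap.rTensor A (F.val.toLinearMap)) :=
      Module.Flat.rTensor_preserves_injective_linearMap _ F.val.injective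
    have h2 : ⇑ι = ⇑(LinearMap.rTensor A (F.val.toLinearMap)) := by
      funext z
      induction z using TensorProduct.induction_on with
      | zero => simp
      | tmul a b => simp [ι]; rfl
      | add a b ha hb => simp only [map_add, ha, hb]
    rw [h2]; exact h1
  let ψ₀ : Matrix (Fin n) (Fin n) F →ₗ[F] F ⊗[k] A :=
    (Matrix.stdBasis F (Fin n) (Fin n)).constr F fun p => x p.1 p.2
  let L₁ : Matrix (Fin n) (Fin n) F →ₗ[F] K ⊗[k] A := ι.toLinearMap ∘ₗ ψ₀
  let L₂ : Matrix (Fin n) (Fin n) F →ₗ[F] K ⊗[k] A :=
    (φ.symm.toLinearMap.restrictScalars F) ∘ₗ (AlgHom.mapMatrix (Algebra.ofId F K)).toLinearMap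
  have hL : L₁ = L₂ := by
    refine (Matrix.stdBasis F (Fin n) (Fin n)).ext fun p => ?_
    obtain ⟨i, j⟩ := p
    simp only [L₁, L₂, LinearMap.comp_apply, ψ₀, Module.Basis.constr_basis]
    rw [Matrix.stdBasis_eq_single]
    simp only [AlgHom.toLinearMap_apply, LinearMap.restrictScalars_apply, AlgEquiv.toLinearMap_apply,
      AlgHom.mapMatrix_apply, Matrix.map_single, map_one]
    have hx : φ.symm (Matrix.single i j 1) = ∑ l, c i j l • bK l := (bK.sum_repr _).symm
    rw [hx]
    show ι (∑ l, c' i j l ⊗ₜ[k] b l) = _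
    rw [map_sum]
    refine Finset.sum_congr rfl fun l _ => ?_
    simp only [bK, Algebra.TensorProduct.basis_apply, TensorProduct.smul_tmul', smul_eq_mul, mul_one]
    exact Algebra.TensorProduct.map_tmul _ _ _ _
  have hkey : ∀ M, ι (ψ₀ M) = φ.symm (M.map (algebraMap F K)) := fun M =>
    LinearMap.congr_fun hL M
  have hmapinj : Function.Injective fun M : Matrix (Fin n) (Fin n) F => M.map (algebraMap F K) :=
    Matrix.map_injective (algebraMap F K).injective
  have hone : ψ₀ 1 = 1 := by
    apply hι
    rw [hkey, map_one, Matrix.map_one _ (map_zero _) (map_one _), map_one]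
  have hmul : ∀ M N, ψ₀ (M * N) = ψ₀ M * ψ₀ N := by
    intro M N
    apply hι
    rw [hkey (M * N), map_mul ι, hkey, hkey, Matrix.map_mul, map_mul]
  let ψ : Matrix (Fin n) (Fin n) F →ₐ[F] F ⊗[k] A := AlgHom.ofLinearMap ψ₀ hone hmul
  have hψinj : Function.Injective ψ := by
    intro M N h
    apply hmapinj
    apply φ.symm.injective
    show φ.symm (M.map (algebraMap F K)) = φ.symm (N.map (algebraMap F K))
    rw [← hkey, ← hkey]
    exact congrArg ι h
  have hrank : Module.finrank F (Matrix (Fin n) (Fin n) F) = Module.finrank F (F ⊗[k] A) := by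
    have h1 : Module.finrank K (K ⊗[k] A) = Module.finrank K (Matrix (Fin n) (Fin n) K) :=
      φ.toLinearEquiv.finrank_eq
    rw [Module.finrank_baseChange] at h1 ⊢
    rw [h1]
    simp [Module.finrank_matrix]
  have hψbij : Function.Bijective ψ :=
    ⟨hψinj, (LinearMap.injective_iff_surjective_of_finrank_eq_finrank hrank (f := ψ.toLinearMap)).mp hψinj⟩
  exact ⟨(AlgEquiv.ofBijective ψ hψbij).symm⟩

/-- `E ⊗[F] (F ⊗[k] B) ≃ₐ[E] E ⊗[k] B` for a noncommutative `B`. -/
noncomputable def cancelBaseChangeE (k F E B : Type*) [CommSemiring k] [CommSemiring F]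
    [CommSemiring E] [Algebra k F] [Algebra k E] [Algebra F E] [IsScalarTower k F E]
    [Semiring B] [Algebra k B] :
    E ⊗[F] (F ⊗[k] B) ≃ₐ[E] E ⊗[k] B :=
  AlgEquiv.symm <| AlgEquiv.ofLinearEquiv
    (TensorProduct.AlgebraTensorModule.cancelBaseChange k F E E B).symm
    (by simp [Algebra.TensorProduct.one_def]) <|
      LinearMap.map_mul_of_map_mul_tmul (fun _ _ _ _ ↦ by simp)

/-- `E ⊗[F] M_n(F) ≃ₐ[E] M_n(E)`. -/
noncomputable def tensorMatrixEquiv (F E : Type*) [CommRing F] [CommRing E] [Algebra F E]
    (n : Type*) [Fintype n] [DecidableEq n] :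
    E ⊗[F] Matrix n n F ≃ₐ[E] Matrix n n E :=
  AlgEquiv.ofRingEquiv (f := (matrixEquivTensor n F E).symm.toRingEquiv) (by
    intro a
    rw [Algebra.TensorProduct.algebraMap_apply]
    simp [Algebra.algebraMap_eq_smul_one])

theorem splits_tower (k : Type*) [Field k] (F : Type*) [Field F] [Algebra k F]
    (E : Type*) [Field E] [Algebra k E] [Algebra F E] [IsScalarTower k F E]
    (A : Type*) [Ring A] [Algebra k A] (h : Curves.Splits k A F) : Curves.Splits k A E := by
  obtain ⟨n, hn, ⟨ψ⟩⟩ := h
  exact ⟨n, hn, ⟨(cancelBaseChangeE k F E A).symm.trans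
    ((Algebra.TensorProduct.congr AlgEquiv.refl ψ).trans (tensorMatrixEquiv F E (Fin n)))⟩⟩


/-- A finite CSA is split by a finite subextension of the separable closure. -/
theorem exists_finite_intermediateField_splits (k : Type u) [Field k] (A : Type v) [Ring A]
    [Algebra k A] [Algebra.IsCentral k A] [IsSimpleRing A] [FiniteDimensional k A] :
    ∃ F : IntermediateField k (SeparableClosure k), FiniteDimensional k F ∧
      Curves.Splits k A F := by
  obtain ⟨n, hn, ⟨φ⟩⟩ := splits_of_isSepClosed k A (SeparableClosure k)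
  obtain ⟨S, ⟨ψ⟩⟩ := exists_finset_adjoin_splits k A (SeparableClosure k) n φ
  refine ⟨IntermediateField.adjoin k (S : Set (SeparableClosure k)), ?_, ⟨n, hn, ⟨ψ⟩⟩⟩
  exact IntermediateField.finiteDimensional_adjoin fun x _ => Algebra.IsIntegral.isIntegral x

/-- A finite CSA is split by a finite Galois subextension of the separable closure. -/
theorem exists_finite_galois_intermediateField_splits (k : Type u) [Field k] (A : Type v) [Ring A]
    [Algebra k A] [Algebra.IsCentral k A] [IsSimpleRing A] [FiniteDimensional k A] :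
    ∃ F : IntermediateField k (SeparableClosure k), FiniteDimensional k F ∧ IsGalois k F ∧
      Curves.Splits k A F := by
  obtain ⟨F, hF, hs⟩ := exists_finite_intermediateField_splits k A
  refine ⟨IntermediateField.normalClosure k F (SeparableClosure k), inferInstance, ?_, ?_⟩
  · exact { }
  · exact splits_tower k F _ A hs

end Groth.Agent.Lib.Helper8.CSASplit
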