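import Mathlib
import Groth.Prelude.Def_QuadGrp
set_option backward.isDefEq.respectTransparency.types false
set_option autoImplicit false

/-!
# Reflections and coordinates for base changes of quadratic forms on `R^n` (helper8)
-/

namespace Groth.Agent.Lib.Helper8.QuadCtr

open TensorProduct Matrix QuadraticMap

universe u v w

section Refl

variable {A : Type u} {V : Type v} [CommRing A] [AddCommGroup V] [Module A V] (q : QuadraticForm A V)

/-- The reflection `v ↦ v - (u * B(x, v)) • x` (with `u = q(x)⁻¹`). -/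
noncomputable def reflLin (x : V) (u : A) : V →ₗ[A] V :=
  LinearMap.id - (u • QuadraticMap.polarBilin q x).smulRight x

lemma reflLin_apply (x : V) (u : A) (v : V) :
    reflLin q x u v = v - (u * QuadraticMap.polar q x v) • x := by
  simp [reflLin]

lemma reflLin_reflLin (x : V) (u : A) (hu : u * q x = 1) (v : V) :
    reflLin q x u (reflLin q x u v) = v := by
  rw [reflLin_apply, reflLin_apply]
  have h1 : QuadraticMap.polar q x (v - (u * QuadraticMap.polar q x v) • x) =
      - QuadraticMap.polar q x v := by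
    rw [QuadraticMap.polar_sub_right, QuadraticMap.polar_smul_right, QuadraticMap.polar_self]
    simp only [smul_eq_mul, nsmul_eq_mul, Nat.cast_ofNat]
    linear_combination (-2 * QuadraticMap.polar q x v) * hu
  rw [h1]
  simp only [mul_neg, neg_smul, sub_neg_eq_add, sub_add_cancel]

lemma q_reflLin (x : V) (u : A) (hu : u * q x = 1) (v : V) :
    q (reflLin q x u v) = q v := by
  rw [reflLin_apply, sub_eq_add_neg, ← neg_smul, QuadraticMap.map_add (⇑q), QuadraticMap.map_smul,
    QuadraticMap.polar_smul_right, QuadraticMap.polar_comm q v x]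
  simp only [smul_eq_mul]
  linear_combination (u * QuadraticMap.polar q x v ^ 2) * hu

/-- The reflection as a linear equivalence. -/
noncomputable def refl (x : V) (u : A) (hu : u * q x = 1) : V ≃ₗ[A] V :=
  LinearEquiv.ofInvolutive (reflLin q x u) (reflLin_reflLin q x u hu)

lemma refl_apply (x : V) (u : A) (hu : u * q x = 1) (v : V) :
    refl q x u hu v = v - (u * QuadraticMap.polar q x v) • x := by
  simp [refl, reflLin_apply]

lemma q_refl (x : V) (u : A) (hu : u * q x = 1) (v : V) : q (refl q x u hu v) = q v := by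
  have := q_reflLin q x u hu v
  simpa [refl] using this

end Refl

section Coord

variable {R : Type u} [CommRing R] {n : ℕ} (Q : QuadraticForm R (Fin n → R))

/-- The matrix of the chosen bilinear lift of `Q`. -/
noncomputable def bmat : Matrix (Fin n) (Fin n) R := LinearMap.toMatrix₂' R (QuadGrp.bilinLift Q)

lemma bmat_spec' (v w : Fin n → R) : v ⬝ᵥ bmat Q *ᵥ w = QuadGrp.bilinLift Q v w := by
  rw [← Matrix.toLinearMap₂'_apply', bmat, Matrix.toLinearMap₂'_toMatrix']

lemma bmat_spec (v : Fin n → R) : v ⬝ᵥ bmat Q *ᵥ v = Q v := by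
  rw [bmat_spec']
  have := QuadGrp.bilinLift_spec Q
  conv_rhs => rw [← this]
  rfl

/-- The polar matrix of `Q`. -/
noncomputable def smat : Matrix (Fin n) (Fin n) R := bmat Q + (bmat Q)ᵀ

lemma smat_spec (v w : Fin n → R) : v ⬝ᵥ smat Q *ᵥ w = QuadraticMap.polar Q v w := by
  have h := QuadGrp.bilinLift_spec Q
  rw [smat, Matrix.add_mulVec, dotProduct_add, bmat_spec', Matrix.mulVec_transpose,
    dotProduct_comm, ← Matrix.dotProduct_mulVec, bmat_spec']
  conv_rhs => rw [← h]
  rw [LinearMap.BilinMap.polar_toQuadraticMap]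

lemma smat_apply (i j : Fin n) :
    smat Q i j = QuadraticMap.polar Q (Pi.single i 1) (Pi.single j 1) := by
  rw [← smat_spec]
  simp

variable (A : Type v) [CommRing A] [Algebra R A]

/-- The coordinate form of the base change of `Q` to `A`. -/
noncomputable def qc : QuadraticForm A (Fin n → A) :=
  LinearMap.BilinMap.toQuadraticMap
    (Matrix.toLinearMap₂' A ((bmat Q).map (algebraMap R A)) : LinearMap.BilinMap A (Fin n → A) A)

lemma qc_apply (y : Fin n → A) :
    qc Q A y = y ⬝ᵥ (bmat Q).map (algebraMap R A) *ᵥ y := by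
  rw [qc, LinearMap.BilinMap.toQuadraticMap_apply, Matrix.toLinearMap₂'_apply']

lemma polar_qc (v y : Fin n → A) :
    QuadraticMap.polar (qc Q A) v y = v ⬝ᵥ (smat Q).map (algebraMap R A) *ᵥ y := by
  rw [qc, LinearMap.BilinMap.polar_toQuadraticMap, Matrix.toLinearMap₂'_apply',
    Matrix.toLinearMap₂'_apply', smat, Matrix.map_add _ (by simp), Matrix.add_mulVec,
    dotProduct_add, Matrix.transpose_map, Matrix.mulVec_transpose]
  congr 1
  rw [Matrix.dotProduct_mulVec, dotProduct_comm]

variable {A} {A' : Type w} [CommRing A'] [Algebra R A']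

lemma qc_map (φ : A →ₐ[R] A') (y : Fin n → A) : qc Q A' (φ ∘ y) = φ (qc Q A y) := by
  rw [qc_apply, qc_apply, ← AlgHom.coe_toRingHom, RingHom.map_dotProduct]
  congr 1
  funext i
  rw [Function.comp_apply, RingHom.map_mulVec, Matrix.map_map]
  congr 2
  ext a
  simp

lemma polar_qc_map (φ : A →ₐ[R] A') (v y : Fin n → A) :
    QuadraticMap.polar (qc Q A') (φ ∘ v) (φ ∘ y) = φ (QuadraticMap.polar (qc Q A) v y) := by
  rw [polar_qc, polar_qc, ← AlgHom.coe_toRingHom, RingHom.map_dotProduct]
  congr 1
  funext i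
  rw [Function.comp_apply, RingHom.map_mulVec, Matrix.map_map]
  congr 2
  ext a
  simp

lemma qc_self (v : Fin n → R) : qc Q R v = Q v := by
  rw [qc_apply, ← bmat_spec]
  congr 2

lemma qc_algebraMap (v : Fin n → R) : qc Q A (algebraMap R A ∘ v) = algebraMap R A (Q v) := by
  have := qc_map Q (Algebra.ofId R A) v
  rw [qc_self] at this
  exact this

lemma polar_qc_single (i j : Fin n) :
    QuadraticMap.polar (qc Q A) (Pi.single i 1) (Pi.single j 1) = algebraMap R A (smat Q i j) := by
  rw [polar_qc]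
  simp

end Coord

section Trans

variable {R : Type u} [CommRing R] {n : ℕ} (Q : QuadraticForm R (Fin n → R))
variable (A : Type v) [CommRing A] [Algebra R A]

/-- Coordinates on `A ⊗ R^n`. -/
noncomputable def E : A ⊗[R] (Fin n → R) ≃ₗ[A] (Fin n → A) :=
  TensorProduct.piScalarRight R A A (Fin n)

lemma E_tmul (a : A) (m : Fin n → R) : E (n := n) A (a ⊗ₜ[R] m) = fun j => m j • a := by
  simp [E]

variable (g : (Fin n → R) ≃ₗ[R] (Fin n → R))

/-- The matrix of `g`. -/
noncomputable def gmat : Matrix (Fin n) (Fin n) R := LinearMap.toMatrix' g.toLinearMap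

/-- The coordinate form of the base change of `g`. -/
noncomputable def gc : (Fin n → A) →ₗ[A] (Fin n → A) :=
  Matrix.toLin' ((gmat g).map (algebraMap R A))

lemma gc_apply (y : Fin n → A) : gc A g y = (gmat g).map (algebraMap R A) *ᵥ y := by
  simp [gc]

lemma gc_self (v : Fin n → R) : gc R g v = g v := by
  rw [gc_apply]
  have : (gmat g).map (algebraMap R R) = gmat g := by ext; simp
  rw [this, gmat, LinearMap.toMatrix'_mulVec]
  rfl

variable {A} {A' : Type w} [CommRing A'] [Algebra R A']

lemma gc_map (φ : A →ₐ[R] A') (y : Fin n → A) : gc A' g (φ ∘ y) = φ ∘ gc A g y := by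
  funext i
  rw [gc_apply, Function.comp_apply, gc_apply, ← AlgHom.coe_toRingHom, RingHom.map_mulVec,
    Matrix.map_map]
  congr 2
  ext a
  simp

lemma gc_algebraMap (v : Fin n → R) : gc A g (algebraMap R A ∘ v) = algebraMap R A ∘ g v := by
  have := gc_map g (Algebra.ofId R A) v
  rw [gc_self] at this
  exact this

variable (A)

lemma E_baseChange (z : A ⊗[R] (Fin n → R)) :
    E A (g.baseChange R A (Fin n → R) (Fin n → R) z) = gc A g (E A z) := by
  induction z using TensorProduct.induction_on with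
  | zero => simp
  | add x y hx hy => simp only [map_add, hx, hy]
  | tmul a m =>
    rw [LinearEquiv.baseChange_tmul, E_tmul, E_tmul]
    have h1 : (fun j => m j • a) = a • (algebraMap R A ∘ m) := by
      funext j; simp [Algebra.smul_def, mul_comm]
    have h2 : (fun j => (g m) j • a) = a • (algebraMap R A ∘ g m) := by
      funext j; simp [Algebra.smul_def, mul_comm]
    rw [h1, h2, map_smul, gc_algebraMap]

end Trans

section Comm

variable {R : Type u} [CommRing R] {n : ℕ} (Q : QuadraticForm R (Fin n → R))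
variable (A : Type v) [CommRing A] [Algebra R A]

lemma baseChangeForm_eq :
    QuadGrp.baseChangeForm A Q = (qc Q A).comp (E (n := n) (R := R) A).toLinearMap := by
  apply _root_.baseChange_ext
  intro m
  rw [QuadraticMap.comp_apply, QuadGrp.baseChangeForm, LinearMap.compQuadraticMap_apply,
    QuadGrp.baseChange_tmul]
  have h1 : (E (n := n) (R := R) A).toLinearMap (1 ⊗ₜ[R] m) = algebraMap R A ∘ m := by
    rw [LinearEquiv.coe_coe, E_tmul]
    funext j; simp [Algebra.smul_def]
  rw [h1, qc_algebraMap]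
  simp [Algebra.smul_def]

lemma baseChangeForm_apply (z : A ⊗[R] (Fin n → R)) :
    QuadGrp.baseChangeForm A Q z = qc Q A (E A z) := by
  rw [baseChangeForm_eq]; rfl

lemma mem_orth_of_qc (h : (A ⊗[R] (Fin n → R)) ≃ₗ[A] (A ⊗[R] (Fin n → R)))
    (hh : ∀ z, qc Q A (E A (h z)) = qc Q A (E A z)) : h ∈ QuadGrp.orth Q A := by
  intro z
  have := hh z
  rw [← baseChangeForm_apply, ← baseChangeForm_apply, QuadGrp.baseChangeForm,
    LinearMap.compQuadraticMap_apply, LinearMap.compQuadraticMap_apply] at this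
  exact (AlgebraTensorModule.rid R A A).injective this

variable (g : (Fin n → R) ≃ₗ[R] (Fin n → R))

/-- Coordinate form of the hypothesis: `g_A` commutes with every reflection. -/
lemma comm_coord
    (hcomm : ∀ h ∈ QuadGrp.orth Q A,
      g.baseChange R A (Fin n → R) (Fin n → R) * h = h * g.baseChange R A (Fin n → R) (Fin n → R))
    (ξ v : Fin n → A) (hξ : IsUnit (qc Q A ξ)) :
    QuadraticMap.polar (qc Q A) ξ v • gc A g ξ = QuadraticMap.polar (qc Q A) ξ (gc A g v) • ξ := by
  obtain ⟨u, hu⟩ := hξ.exists_left_inv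
  set s := refl (qc Q A) ξ u hu with hs
  set h : (A ⊗[R] (Fin n → R)) ≃ₗ[A] (A ⊗[R] (Fin n → R)) := (E A).trans (s.trans (E A).symm) with hh
  have hmem : h ∈ QuadGrp.orth Q A := by
    apply mem_orth_of_qc
    intro z
    simp only [hh, LinearEquiv.trans_apply, LinearEquiv.apply_symm_apply]
    exact q_refl _ _ _ hu _
  have h1 := hcomm h hmem
  have h2 := congrArg (fun f => E A (f ((E A).symm v))) h1
  simp only [LinearEquiv.mul_apply, hh, LinearEquiv.trans_apply, LinearEquiv.apply_symm_apply,
    E_baseChange] at h2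
  rw [hs, refl_apply, refl_apply, map_sub, map_smul] at h2
  have h3 : (u * QuadraticMap.polar (qc Q A) ξ v) • gc A g ξ =
      (u * QuadraticMap.polar (qc Q A) ξ (gc A g v)) • ξ := by
    have := sub_right_injective h2
    exact this
  have h4 := congrArg (fun w => qc Q A ξ • w) h3
  simp only [smul_smul] at h4
  rw [← mul_assoc, ← mul_assoc, mul_comm _ u, hu, one_mul, one_mul] at h4
  exact h4

end Comm

section PS

lemma coeff_two_aux {S : Type*} [CommRing S] (a b c d : S) :
    PowerSeries.coeff 2 ((PowerSeries.C a + PowerSeries.X * PowerSeries.C b) *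
      (PowerSeries.C c + PowerSeries.X * PowerSeries.C d)) = b * d := by
  have : (PowerSeries.C a + PowerSeries.X * PowerSeries.C b) *
      (PowerSeries.C c + PowerSeries.X * PowerSeries.C d) =
      PowerSeries.C (a * c) + PowerSeries.X * (PowerSeries.C (a * d + b * c) +
        PowerSeries.X * PowerSeries.C (b * d)) := by
    simp only [map_add, map_mul]; ring
  rw [this, map_add, show (2 : ℕ) = 1 + 1 from rfl, PowerSeries.coeff_succ_X_mul, map_add,
    show (1 : ℕ) = 0 + 1 from rfl, PowerSeries.coeff_succ_X_mul]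
  simp [PowerSeries.coeff_C]

variable {R : Type u} [CommRing R] (A : Type v) [CommRing A] [Algebra R A]

/-- `C` as an `R`-algebra homomorphism. -/
noncomputable def Cₐ : A →ₐ[R] PowerSeries A :=
  { (PowerSeries.C : A →+* PowerSeries A) with
    commutes' := fun r => by simp [PowerSeries.algebraMap_apply] }

/-- `constantCoeff` as an `R`-algebra homomorphism. -/
noncomputable def εₐ : PowerSeries A →ₐ[R] A :=
  { (PowerSeries.constantCoeff : PowerSeries A →+* A) with
    commutes' := fun r => by simp [PowerSeries.algebraMap_apply] }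

lemma Cₐ_apply (a : A) : Cₐ (R := R) A a = PowerSeries.C a := rfl
lemma εₐ_apply (p : PowerSeries A) : εₐ (R := R) A p = PowerSeries.constantCoeff p := rfl

variable {n : ℕ} (Q : QuadraticForm R (Fin n → R)) (g : (Fin n → R) ≃ₗ[R] (Fin n → R))

/-- `g` commutes with the reflections in all vectors with unit value (coordinate form). -/
def H1 : Prop :=
  ∀ ξ v : Fin n → A, IsUnit (qc Q A ξ) →
    QuadraticMap.polar (qc Q A) ξ v • gc A g ξ = QuadraticMap.polar (qc Q A) ξ (gc A g v) • ξ

/-- The same identity for all vectors. -/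
def H2 : Prop :=
  ∀ y v : Fin n → A,
    QuadraticMap.polar (qc Q A) y v • gc A g y = QuadraticMap.polar (qc Q A) y (gc A g v) • y

/-- the deformed vector `C ξ₀ + X • C y`. -/
noncomputable def defo (ξ₀ y : Fin n → A) : Fin n → PowerSeries A :=
  (PowerSeries.C ∘ ξ₀) + (PowerSeries.X : PowerSeries A) • (PowerSeries.C ∘ y)

lemma defo_apply (ξ₀ y : Fin n → A) (k : Fin n) :
    defo A ξ₀ y k = PowerSeries.C (ξ₀ k) + PowerSeries.X * PowerSeries.C (y k) := by
  simp [defo]

lemma gc_defo (ξ₀ y : Fin n → A) :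
    gc (PowerSeries A) g (defo A ξ₀ y) = defo A (gc A g ξ₀) (gc A g y) := by
  have h1 := gc_map g (Cₐ (R := R) A) ξ₀
  have h2 := gc_map g (Cₐ (R := R) A) y
  rw [defo, map_add, map_smul]
  change gc (PowerSeries A) g (⇑(Cₐ (R := R) A) ∘ ξ₀) +
    PowerSeries.X • gc (PowerSeries A) g (⇑(Cₐ (R := R) A) ∘ y) = _
  rw [h1, h2]
  rfl

lemma polar_defo (ξ₀ y v : Fin n → A) :
    QuadraticMap.polar (qc Q (PowerSeries A)) (defo A ξ₀ y) (PowerSeries.C ∘ v) =
      PowerSeries.C (QuadraticMap.polar (qc Q A) ξ₀ v) +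
        PowerSeries.X * PowerSeries.C (QuadraticMap.polar (qc Q A) y v) := by
  have h1 := polar_qc_map Q (Cₐ (R := R) A) ξ₀ v
  have h2 := polar_qc_map Q (Cₐ (R := R) A) y v
  rw [defo, QuadraticMap.polar_add_left, QuadraticMap.polar_smul_left]
  change QuadraticMap.polar (qc Q (PowerSeries A)) (⇑(Cₐ (R := R) A) ∘ ξ₀) (⇑(Cₐ (R := R) A) ∘ v) +
    PowerSeries.X • QuadraticMap.polar (qc Q (PowerSeries A)) (⇑(Cₐ (R := R) A) ∘ y)
      (⇑(Cₐ (R := R) A) ∘ v) = _
  rw [h1, h2]
  rfl

lemma isUnit_qc_defo (ξ₀ y : Fin n → A) (h : IsUnit (qc Q A ξ₀)) :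
    IsUnit (qc Q (PowerSeries A) (defo A ξ₀ y)) := by
  rw [PowerSeries.isUnit_iff_constantCoeff]
  have h1 := qc_map Q (εₐ (R := R) A) (defo A ξ₀ y)
  rw [εₐ_apply] at h1
  rw [← h1]
  have : ⇑(εₐ (R := R) A) ∘ defo A ξ₀ y = ξ₀ := by
    funext k
    simp [εₐ_apply, defo_apply]
  rw [this]
  exact h

lemma H2_of_H1 (h : H1 (PowerSeries A) Q g) (ξ₀ : Fin n → A) (hξ₀ : IsUnit (qc Q A ξ₀)) :
    H2 A Q g := by
  intro y v
  have h1 := h (defo A ξ₀ y) (PowerSeries.C ∘ v) (isUnit_qc_defo A Q ξ₀ y hξ₀)
  have hv : gc (PowerSeries A) g (PowerSeries.C ∘ v) = PowerSeries.C ∘ gc A g v :=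
    gc_map g (Cₐ (R := R) A) v
  rw [hv, polar_defo, polar_defo, gc_defo] at h1
  funext k
  have h2 := congrArg (fun f => PowerSeries.coeff 2 (f k)) h1
  simp only [Pi.smul_apply, smul_eq_mul, defo_apply, coeff_two_aux] at h2
  simpa using h2

/-- `g z ∧ z = 0` in coordinates. -/
def H3 : Prop := ∀ (z : Fin n → A) (a b : Fin n), gc A g z a * z b = gc A g z b * z a

lemma H3_of_H2 (h : H2 (PowerSeries A) Q g) (i j : Fin n)
    (hij : IsUnit (algebraMap R A (smat Q i j))) : H3 A g := by
  intro z a b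
  have h1 := h (defo A (Pi.single i 1) z) (PowerSeries.C ∘ (Pi.single j 1))
  have hβ : IsUnit (QuadraticMap.polar (qc Q (PowerSeries A)) (defo A (Pi.single i 1) z)
      (PowerSeries.C ∘ (Pi.single j 1))) := by
    rw [polar_defo, PowerSeries.isUnit_iff_constantCoeff]
    simpa [polar_qc_single] using hij
  have ha := congrFun h1 a
  have hb := congrFun h1 b
  simp only [Pi.smul_apply, smul_eq_mul] at ha hb
  have key : gc (PowerSeries A) g (defo A (Pi.single i 1) z) a * defo A (Pi.single i 1) z b =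
      gc (PowerSeries A) g (defo A (Pi.single i 1) z) b * defo A (Pi.single i 1) z a := by
    apply hβ.mul_left_cancel
    rw [← mul_assoc, ha, ← mul_assoc, hb]
    ring
  rw [gc_defo] at key
  have h2 := congrArg (PowerSeries.coeff 2) key
  simp only [defo_apply, coeff_two_aux] at h2
  exact h2

end PS

end Groth.Agent.Lib.Helper8.QuadCtr
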