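import Mathlib
import Groth.Prelude.Def_Curves

set_option autoImplicit false
universe u v w

namespace Groth.Agent.Lib.Helper8.TsenLang

open MvPolynomial

/-- `IsCi` for arbitrary finite index types. -/
theorem isCi_fintype {K : Type u} [Field K] {i : ℕ} (h : Curves.IsCi K i)
    {ι : Type v} {σ : Type w} [Fintype ι] [Fintype σ]
    (f : ι → MvPolynomial σ K) (d : ι → ℕ) (hf : ∀ ρ, (f ρ).IsHomogeneous (d ρ))
    (hd : ∀ ρ, 0 < d ρ) (hlt : ∑ ρ, d ρ ^ i < Fintype.card σ) :
    ∃ a : σ → K, a ≠ 0 ∧ ∀ ρ, eval a (f ρ) = 0 := by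
  classical
  let eι := Fintype.equivFin ι
  let eσ := Fintype.equivFin σ
  obtain ⟨a, ha0, ha⟩ := h (Fintype.card ι) (Fintype.card σ)
    (fun q => rename eσ (f (eι.symm q))) (fun q => d (eι.symm q))
    (fun q => (hf _).rename_isHomogeneous) (fun q => hd _)
    (by rw [Equiv.sum_comp eι.symm (fun ρ => d ρ ^ i)]; exact hlt)
  refine ⟨a ∘ eσ, ?_, fun ρ => ?_⟩
  · intro h0
    apply ha0
    funext q
    have := congrFun h0 (eσ.symm q)
    simpa using this
  · have := ha (eι ρ)
    rw [eval_rename] at this
    simpa using this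

/-- `IsCr` for arbitrary finite index types. -/
theorem isCr_fintype {K : Type u} [Field K] {r : ℕ} (h : Curves.IsCr K r)
    {σ : Type w} [Fintype σ] (d : ℕ)
    (f : MvPolynomial σ K) (hf : f.IsHomogeneous d)
    (hd : 0 < d) (hlt : d ^ r < Fintype.card σ) :
    ∃ a : σ → K, a ≠ 0 ∧ eval a f = 0 := by
  classical
  let eσ := Fintype.equivFin σ
  obtain ⟨a, ha0, ha⟩ := h (Fintype.card σ) d (rename eσ f) hf.rename_isHomogeneous hd hlt
  refine ⟨a ∘ eσ, ?_, ?_⟩
  · intro h0
    apply ha0
    funext q
    have := congrFun h0 (eσ.symm q)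
    simpa using this
  · rwa [eval_rename] at ha


section coord

variable {K : Type u} {L : Type v} [Field K] [Field L] [Algebra K L]
variable {τ : Type*}

/-- apply a `K`-linear functional coefficientwise -/
noncomputable def coeffMap (φ : L →ₗ[K] K) (p : MvPolynomial τ L) : MvPolynomial τ K :=
  ∑ s ∈ p.support, monomial s (φ (coeff s p))

lemma coeff_coeffMap (φ : L →ₗ[K] K) (p : MvPolynomial τ L) (s : τ →₀ ℕ) :
    coeff s (coeffMap φ p) = φ (coeff s p) := by
  classical
  unfold coeffMap
  rw [coeff_sum]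
  simp only [coeff_monomial]
  rw [Finset.sum_ite_eq' p.support s]
  split_ifs with h
  · rfl
  · rw [notMem_support_iff.mp h, map_zero]

lemma coeffMap_isHomogeneous (φ : L →ₗ[K] K) {p : MvPolynomial τ L} {n : ℕ}
    (hp : p.IsHomogeneous n) : (coeffMap φ p).IsHomogeneous n := by
  intro s hs
  rw [coeff_coeffMap] at hs
  exact hp (fun h => hs (by rw [h, map_zero]))

lemma eval_coeffMap (φ : L →ₗ[K] K) (p : MvPolynomial τ L) (y : τ → K) :
    eval y (coeffMap φ p) = φ (eval (fun t => algebraMap K L (y t)) p) := by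
  unfold coeffMap
  rw [map_sum, eval_eq, map_sum]
  refine Finset.sum_congr rfl fun s _ => ?_
  rw [eval_monomial]
  have : (∏ i ∈ s.support, (algebraMap K L (y i)) ^ s i) =
      algebraMap K L (s.prod fun n e => y n ^ e) := by
    rw [Finsupp.prod, map_prod]
    simp only [map_pow]
  rw [this, mul_comm (coeff s p), ← Algebra.smul_def, map_smul, smul_eq_mul, mul_comm]

end coord

section subst

variable {K : Type u} {L : Type v} [Field K] [Field L] [Algebra K L]
variable {σ : Type*} {ι : Type*} [Fintype ι] (ω : Module.Basis ι K L)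

/-- substitute `X_j = ∑_l ω_l Y_{j,l}` -/
noncomputable def subst : MvPolynomial σ L →ₐ[L] MvPolynomial (σ × ι) L :=
  aeval (fun j => ∑ l, C (ω l) * X (j, l))

/-- the point of `L^σ` with coordinates `y` -/
noncomputable def point (y : σ × ι → K) : σ → L := fun j => ∑ l, y (j, l) • ω l

lemma eval_subst (y : σ × ι → K) (f : MvPolynomial σ L) :
    eval (fun p => algebraMap K L (y p)) (subst ω f) = eval (point ω y) f := by
  have h : ((aeval (fun p => algebraMap K L (y p)) : MvPolynomial (σ × ι) L →ₐ[L] L).comp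
      (subst ω)) = aeval (point ω y) := by
    apply MvPolynomial.algHom_ext
    intro j
    simp [subst, point, Algebra.smul_def, mul_comm]
  have := DFunLike.congr_fun h f
  simpa [coe_aeval_eq_eval] using this

lemma subst_isHomogeneous {f : MvPolynomial σ L} {n : ℕ} (hf : f.IsHomogeneous n) :
    (subst (σ := σ) ω f).IsHomogeneous n := by
  have := hf.aeval (S := L) (fun j => ∑ l, C (ω l) * X ((j, l) : σ × ι)) (n := 1)
    (fun j => IsHomogeneous.sum _ _ _ fun l _ => isHomogeneous_C_mul_X _ _)
  simpa [subst] using this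

/-- the `l`-th coordinate form -/
noncomputable def comp (l : ι) (f : MvPolynomial σ L) : MvPolynomial (σ × ι) K :=
  coeffMap (ω.coord l) (subst ω f)

lemma eval_comp (l : ι) (f : MvPolynomial σ L) (y : σ × ι → K) :
    eval y (comp ω l f) = ω.repr (eval (point ω y) f) l := by
  unfold comp
  rw [eval_coeffMap, eval_subst]
  rfl

lemma comp_isHomogeneous (l : ι) {f : MvPolynomial σ L} {n : ℕ} (hf : f.IsHomogeneous n) :
    (comp ω l f).IsHomogeneous n :=
  coeffMap_isHomogeneous _ (subst_isHomogeneous ω hf)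

lemma point_ne_zero {y : σ × ι → K} (hy : y ≠ 0) : point ω y ≠ 0 := by
  intro h
  apply hy
  funext ⟨j, l⟩
  have hj : ∑ l, y (j, l) • ω l = 0 := congrFun h j
  have h1 := ω.repr_sum_self (fun l => y (j, l))
  rw [hj] at h1
  have := congrFun h1 l
  simpa using this.symm

lemma eval_eq_zero_of_comp {f : MvPolynomial σ L} {y : σ × ι → K}
    (h : ∀ l, eval y (comp ω l f) = 0) : eval (point ω y) f = 0 := by
  apply ω.repr.injective
  ext l
  rw [← eval_comp, h l]
  simp

end subst

/-- A finite extension of a `C_i` field (systems) is `C_i` (systems). -/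
theorem isCi_of_finite (K : Type u) [Field K] (L : Type v) [Field L] [Algebra K L]
    [FiniteDimensional K L] (i : ℕ) (hK : Curves.IsCi K i) : Curves.IsCi L i := by
  classical
  intro r n f d hf hd hlt
  let e := Module.finrank K L
  have he : 0 < e := Module.finrank_pos
  let ω := Module.finBasis K L
  obtain ⟨y, hy0, hy⟩ := isCi_fintype hK (ι := Fin r × Fin e) (σ := Fin n × Fin e)
    (fun q => comp ω q.2 (f q.1)) (fun q => d q.1)
    (fun q => comp_isHomogeneous ω q.2 (hf q.1)) (fun q => hd q.1)
    (by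
      rw [Fintype.sum_prod_type]
      simp only [Finset.sum_const, Finset.card_univ, Fintype.card_fin, smul_eq_mul,
        Fintype.card_prod]
      rw [← Finset.mul_sum, mul_comm]
      exact Nat.mul_lt_mul_of_pos_right hlt he)
  refine ⟨point ω y, point_ne_zero ω hy0, fun ρ => ?_⟩
  exact eval_eq_zero_of_comp ω fun l => hy (ρ, l)

/-- An algebraic extension of a `C_i` field (systems) is `C_i` (systems). -/
theorem isCi_of_isAlgebraic (K : Type u) [Field K] (L : Type v) [Field L] [Algebra K L]
    [Algebra.IsAlgebraic K L] (i : ℕ) (hK : Curves.IsCi K i) : Curves.IsCi L i := by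
  classical
  intro r n f d hf hd hlt
  let S : Set L := ⋃ ρ, ((f ρ).coeffs : Set L)
  have hSfin : S.Finite := Set.finite_iUnion fun ρ => Finset.finite_toSet _
  let L₀ := IntermediateField.adjoin K S
  haveI : Finite S := hSfin.to_subtype
  haveI : FiniteDimensional K L₀ :=
    IntermediateField.finiteDimensional_adjoin fun x _ => Algebra.IsIntegral.isIntegral x
  have hf₀ : ∀ ρ, ∃ g : MvPolynomial (Fin n) L₀, map (algebraMap L₀ L) g = f ρ := fun ρ => by
    have : f ρ ∈ Set.range (map (algebraMap L₀ L)) :=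
      mem_range_map_iff_coeffs_subset.mpr (fun c hc =>
        ⟨⟨c, IntermediateField.subset_adjoin K S (Set.mem_iUnion.mpr ⟨ρ, hc⟩)⟩, rfl⟩)
    exact this
  choose g hg using hf₀
  have hghom : ∀ ρ, (g ρ).IsHomogeneous (d ρ) := fun ρ =>
    IsHomogeneous.of_map (algebraMap L₀ L).injective (by rw [hg]; exact hf ρ)
  obtain ⟨a, ha0, ha⟩ := isCi_of_finite K L₀ i hK r n g d hghom hd hlt
  refine ⟨fun j => algebraMap L₀ L (a j), ?_, fun ρ => ?_⟩
  · intro h
    apply ha0
    funext j
    exact (algebraMap L₀ L).injective (by simpa using congrFun h j)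
  · rw [← hg ρ, eval_map]
    have := (eval₂_comp (algebraMap L₀ L) a (g ρ))
    rw [ha ρ, map_zero] at this
    exact this.symm

/-- determinant of a matrix of forms of degree `d` is a form of degree `card * d`. -/
theorem det_isHomogeneous {R : Type*} [CommRing R] {τ : Type*} {ι : Type*} [Fintype ι]
    [DecidableEq ι] (M : Matrix ι ι (MvPolynomial τ R)) (d : ℕ)
    (hM : ∀ a b, (M a b).IsHomogeneous d) : (M.det).IsHomogeneous (Fintype.card ι * d) := by
  rw [Matrix.det_apply]
  refine IsHomogeneous.sum _ _ _ fun σ _ => ?_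
  have hp : (∏ a, M (σ a) a).IsHomogeneous (Fintype.card ι * d) := by
    have := IsHomogeneous.prod Finset.univ (fun a => M (σ a) a) (fun _ => d) (fun a _ => hM _ _)
    simpa using this
  rcases Int.units_eq_one_or (Equiv.Perm.sign σ) with h | h
  · rw [h, one_smul]; exact hp
  · rw [h, Units.neg_smul, one_smul]; exact hp.neg

section norm

variable {K : Type u} {L : Type v} [Field K] [Field L] [Algebra K L]
variable {σ : Type*} {ι : Type*} [Fintype ι] [DecidableEq ι] (ω : Module.Basis ι K L)

/-- The norm form `N_{L/K}(f(∑ Y ω))`. -/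
noncomputable def normForm (f : MvPolynomial σ L) : MvPolynomial (σ × ι) K :=
  Matrix.det (Matrix.of fun a b => ∑ l, comp ω l f * C (ω.repr (ω l * ω b) a))

lemma normForm_isHomogeneous {f : MvPolynomial σ L} {d : ℕ} (hf : f.IsHomogeneous d) :
    (normForm ω f).IsHomogeneous (Fintype.card ι * d) := by
  apply det_isHomogeneous
  intro a b
  simp only [Matrix.of_apply]
  refine IsHomogeneous.sum _ _ _ fun l _ => ?_
  have := (comp_isHomogeneous ω l hf).mul (isHomogeneous_C (σ × ι) (ω.repr (ω l * ω b) a))
  simpa using this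

lemma eval_normForm (f : MvPolynomial σ L) (y : σ × ι → K) :
    eval y (normForm ω f) = Algebra.norm K (eval (point ω y) f) := by
  rw [Algebra.norm_eq_matrix_det ω, normForm, RingHom.map_det]
  congr 1
  ext a b
  simp only [RingHom.mapMatrix_apply, Matrix.map_apply, Matrix.of_apply, map_sum, map_mul, eval_C,
    eval_comp, Algebra.leftMulMatrix_eq_repr_mul]
  set z := eval (point ω y) f with hz
  conv_rhs => rw [← ω.sum_repr z, Finset.sum_mul, map_sum, Finsupp.coe_finset_sum, Finset.sum_apply]
  refine Finset.sum_congr rfl fun l _ => ?_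
  rw [smul_mul_assoc, map_smul, Finsupp.smul_apply, smul_eq_mul]

end norm

/-- A finite extension of a `C_1` field (single form) is `C_1` (single form). -/
theorem isCr_one_of_finite (K : Type u) [Field K] (L : Type v) [Field L] [Algebra K L]
    [FiniteDimensional K L] (hK : Curves.IsCr K 1) : Curves.IsCr L 1 := by
  classical
  intro n d f hf hd hlt
  let e := Module.finrank K L
  have he : 0 < e := Module.finrank_pos
  let ω := Module.finBasis K L
  obtain ⟨y, hy0, hy⟩ := isCr_fintype hK (σ := Fin n × Fin e) (Fintype.card (Fin e) * d)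
    (normForm ω f) (normForm_isHomogeneous ω hf)
    (by simpa using Nat.mul_pos he hd)
    (by
      simp only [pow_one, Fintype.card_fin, Fintype.card_prod] at hlt ⊢
      rw [mul_comm]
      exact Nat.mul_lt_mul_of_pos_right hlt he)
  refine ⟨point ω y, point_ne_zero ω hy0, ?_⟩
  rw [eval_normForm] at hy
  exact Algebra.norm_eq_zero_iff.mp hy

end Groth.Agent.Lib.Helper8.TsenLang
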