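import Mathlib
import Groth.Prelude.Def_Curves

set_option autoImplicit false
universe u v w

namespace Groth.Agent.Lib.Helper8.TsenLang2

open MvPolynomial

section coord

variable {K : Type u} {L : Type v} [CommRing K] [CommRing L] [Algebra K L]
variable {τ : Type*}

/-- apply a `K`-linear functional coefficientwise -/
noncomputable def coeffMap (φ : L →ₗ[K] K) (p : MvPolynomial τ L) : MvPolynomial τ K :=
  ∑ s ∈ p.support, monomial s (φ (coeff s p))

lemma coeff_coeffMap (φ : L →ₗ[K] K) (p : MvPolynomial τ L) (s : τ →₀ ℕ) :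
    coeff s (coeffMap φ p) = φ (coeff s p) := by
  classical
  unfold coeffMap
  rw [coeff_sum]
  simp only [coeff_monomial]
  rw [Finset.sum_ite_eq' p.support s]
  split_ifs with h
  · rfl
  · rw [notMem_support_iff.mp h, map_zero]

lemma coeffMap_isHomogeneous (φ : L →ₗ[K] K) {p : MvPolynomial τ L} {n : ℕ}
    (hp : p.IsHomogeneous n) : (coeffMap φ p).IsHomogeneous n := by
  intro s hs
  rw [coeff_coeffMap] at hs
  exact hp (fun h => hs (by rw [h, map_zero]))

lemma eval_coeffMap (φ : L →ₗ[K] K) (p : MvPolynomial τ L) (y : τ → K) :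
    eval y (coeffMap φ p) = φ (eval (fun t => algebraMap K L (y t)) p) := by
  unfold coeffMap
  rw [map_sum, eval_eq, map_sum]
  refine Finset.sum_congr rfl fun s _ => ?_
  rw [eval_monomial]
  have : (∏ i ∈ s.support, (algebraMap K L (y i)) ^ s i) =
      algebraMap K L (s.prod fun n e => y n ^ e) := by
    rw [Finsupp.prod, map_prod]
    simp only [map_pow]
  rw [this, mul_comm (coeff s p), ← Algebra.smul_def, map_smul, smul_eq_mul, mul_comm]

variable {σ : Type*} {ι : Type*} [Fintype ι] (ω : ι → L)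

/-- substitute `X_j = ∑_l ω_l Y_{j,l}` -/
noncomputable def gsubst : MvPolynomial σ L →ₐ[L] MvPolynomial (σ × ι) L :=
  aeval (fun j => ∑ l, C (ω l) * X (j, l))

/-- the point of `L^σ` with coordinates `y` -/
noncomputable def gpoint (y : σ × ι → K) : σ → L := fun j => ∑ l, y (j, l) • ω l

lemma eval_gsubst (y : σ × ι → K) (f : MvPolynomial σ L) :
    eval (fun p => algebraMap K L (y p)) (gsubst ω f) = eval (gpoint ω y) f := by
  have h : ((aeval (fun p => algebraMap K L (y p)) : MvPolynomial (σ × ι) L →ₐ[L] L).comp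
      (gsubst ω)) = aeval (gpoint ω y) := by
    apply MvPolynomial.algHom_ext
    intro j
    simp [gsubst, gpoint, Algebra.smul_def, mul_comm]
  have := DFunLike.congr_fun h f
  simpa [coe_aeval_eq_eval] using this

lemma gsubst_isHomogeneous {f : MvPolynomial σ L} {n : ℕ} (hf : f.IsHomogeneous n) :
    (gsubst (σ := σ) ω f).IsHomogeneous n := by
  have := hf.aeval (S := L) (fun j => ∑ l, C (ω l) * X ((j, l) : σ × ι)) (n := 1)
    (fun j => IsHomogeneous.sum _ _ _ fun l _ => isHomogeneous_C_mul_X _ _)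
  simpa [gsubst] using this

/-- the coordinate form attached to a functional -/
noncomputable def gcomp (φ : L →ₗ[K] K) (f : MvPolynomial σ L) : MvPolynomial (σ × ι) K :=
  coeffMap φ (gsubst ω f)

lemma eval_gcomp (φ : L →ₗ[K] K) (f : MvPolynomial σ L) (y : σ × ι → K) :
    eval y (gcomp ω φ f) = φ (eval (gpoint ω y) f) := by
  unfold gcomp
  rw [eval_coeffMap, eval_gsubst]

lemma gcomp_isHomogeneous (φ : L →ₗ[K] K) {f : MvPolynomial σ L} {n : ℕ}
    (hf : f.IsHomogeneous n) : (gcomp ω φ f).IsHomogeneous n :=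
  coeffMap_isHomogeneous _ (gsubst_isHomogeneous ω hf)

end coord

/-- degree bound for evaluating a form with polynomial coefficients at polynomials. -/
theorem natDegree_eval_le {K : Type u} [Field K] {σ : Type*} (g : MvPolynomial σ (Polynomial K))
    (d c s : ℕ) (hg : g.IsHomogeneous d) (hc : ∀ m, (coeff m g).natDegree ≤ c)
    (x : σ → Polynomial K) (hx : ∀ j, (x j).natDegree ≤ s) :
    (eval x g).natDegree ≤ c + s * d := by
  rw [eval_eq]
  refine Polynomial.natDegree_sum_le_of_forall_le _ _ fun m hm => ?_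
  refine (Polynomial.natDegree_mul_le).trans (add_le_add (hc m) ?_)
  refine (Polynomial.natDegree_prod_le _ _).trans ?_
  rw [hg.degree_eq_sum_deg_support hm, Finset.mul_sum]
  refine Finset.sum_le_sum fun j _ => ?_
  exact (Polynomial.natDegree_pow_le).trans (by rw [mul_comm]; exact Nat.mul_le_mul_right _ (hx j))


/-- `isCi_fintype` (copied): `IsCi` for arbitrary finite index types. -/
theorem isCi_fintype' {K : Type u} [Field K] {i : ℕ} (h : Curves.IsCi K i)
    {ι : Type v} {σ : Type w} [Fintype ι] [Fintype σ]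
    (f : ι → MvPolynomial σ K) (d : ι → ℕ) (hf : ∀ ρ, (f ρ).IsHomogeneous (d ρ))
    (hd : ∀ ρ, 0 < d ρ) (hlt : ∑ ρ, d ρ ^ i < Fintype.card σ) :
    ∃ a : σ → K, a ≠ 0 ∧ ∀ ρ, eval a (f ρ) = 0 := by
  classical
  let eι := Fintype.equivFin ι
  let eσ := Fintype.equivFin σ
  obtain ⟨a, ha0, ha⟩ := h (Fintype.card ι) (Fintype.card σ)
    (fun q => rename eσ (f (eι.symm q))) (fun q => d (eι.symm q))
    (fun q => (hf _).rename_isHomogeneous) (fun q => hd _)
    (by rw [Equiv.sum_comp eι.symm (fun ρ => d ρ ^ i)]; exact hlt)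
  refine ⟨a ∘ eσ, ?_, fun ρ => ?_⟩
  · intro h0
    apply ha0
    funext q
    have := congrFun h0 (eσ.symm q)
    simpa using this
  · have := ha (eι ρ)
    rw [eval_rename] at this
    simpa using this

open Polynomial in
/-- Key step of Lang--Nagata: forms over `K[T]`. -/
theorem exists_zero_polynomial (K : Type u) [Field K] (i : ℕ) (hK : Curves.IsCi K i) (r n : ℕ)
    (g : Fin r → MvPolynomial (Fin n) K[X]) (d : Fin r → ℕ)
    (hg : ∀ ρ, (g ρ).IsHomogeneous (d ρ)) (hd : ∀ ρ, 0 < d ρ)
    (hlt : ∑ ρ, d ρ ^ (i + 1) < n) :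
    ∃ x : Fin n → K[X], x ≠ 0 ∧ ∀ ρ, MvPolynomial.eval x (g ρ) = 0 := by
  classical
  let c : ℕ := Finset.univ.sup fun ρ => (g ρ).support.sup fun m => (MvPolynomial.coeff m (g ρ)).natDegree
  have hc : ∀ ρ m, (MvPolynomial.coeff m (g ρ)).natDegree ≤ c := by
    intro ρ m
    by_cases hm : m ∈ (g ρ).support
    · exact (Finset.le_sup (f := fun m => (MvPolynomial.coeff m (g ρ)).natDegree) hm).trans
        (Finset.le_sup (f := fun ρ => (g ρ).support.sup fun m =>
          (MvPolynomial.coeff m (g ρ)).natDegree) (Finset.mem_univ ρ))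
    · rw [MvPolynomial.notMem_support_iff.mp hm]; simp
  let A : ℕ := ∑ ρ, d ρ ^ i
  let B : ℕ := ∑ ρ, d ρ ^ (i + 1)
  let s : ℕ := (c + 1) * A
  let ω : Fin (s + 1) → K[X] := fun l => Polynomial.X ^ (l : ℕ)
  obtain ⟨y, hy0, hy⟩ := isCi_fintype' hK (ι := Σ ρ : Fin r, Fin (c + s * d ρ + 1))
    (σ := Fin n × Fin (s + 1))
    (fun q => gcomp ω (Polynomial.lcoeff K q.2) (g q.1)) (fun q => d q.1)
    (fun q => gcomp_isHomogeneous ω _ (hg q.1)) (fun q => hd q.1)
    (by
      rw [Fintype.sum_sigma]
      simp only [Finset.sum_const, Finset.card_univ, Fintype.card_fin, smul_eq_mul,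
        Fintype.card_prod]
      have h1 : ∑ ρ, (c + s * d ρ + 1) * d ρ ^ i = (c + 1) * A + s * B := by
        simp only [A, B, Finset.mul_sum, ← Finset.sum_add_distrib]
        refine Finset.sum_congr rfl fun ρ _ => ?_
        ring
      rw [h1]
      have hB : B + 1 ≤ n := hlt
      have hn : 0 < n := by omega
      calc (c + 1) * A + s * B = s * (B + 1) := by ring
        _ ≤ s * n := Nat.mul_le_mul_left _ hB
        _ < n * (s + 1) := by nlinarith)
  have hcoeff : ∀ (j : Fin n) (l : Fin (s + 1)), (gpoint ω y j).coeff (l : ℕ) = y (j, l) := by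
    intro j l
    simp only [gpoint, ω, Polynomial.finset_sum_coeff, Polynomial.coeff_smul,
      Polynomial.coeff_X_pow, smul_eq_mul, mul_ite, mul_one, mul_zero]
    rw [Finset.sum_eq_single l]
    · simp
    · intro b _ hb
      rw [if_neg]
      exact fun h => hb (Fin.ext h.symm)
    · simp
  have hdeg : ∀ j, (gpoint ω y j).natDegree ≤ s := by
    intro j
    simp only [gpoint, ω]
    refine Polynomial.natDegree_sum_le_of_forall_le _ _ fun l _ => ?_
    refine (Polynomial.natDegree_smul_le _ _).trans ?_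
    exact (Polynomial.natDegree_X_pow_le _).trans (Nat.lt_succ_iff.mp l.2)
  refine ⟨gpoint ω y, ?_, fun ρ => ?_⟩
  · intro h
    apply hy0
    funext ⟨j, l⟩
    rw [← hcoeff j l, h]
    simp
  · ext m
    rw [Polynomial.coeff_zero]
    by_cases hm : m < c + s * d ρ + 1
    · have := hy ⟨ρ, ⟨m, hm⟩⟩
      rw [eval_gcomp] at this
      exact this
    · apply Polynomial.coeff_eq_zero_of_natDegree_lt
      have := natDegree_eval_le (g ρ) (d ρ) c s (hg ρ) (hc ρ) (gpoint ω y) hdeg
      omega

open Polynomial in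
/-- Lang--Nagata: if `K` is `C_i` (systems) then `K(T)` is `C_{i+1}` (systems). -/
theorem isCi_succ_ratFunc (K : Type u) [Field K] (i : ℕ) (hK : Curves.IsCi K i) :
    Curves.IsCi (RatFunc K) (i + 1) := by
  classical
  intro r n f d hf hd hlt
  let S : Finset (RatFunc K) := Finset.univ.biUnion fun ρ => (f ρ).coeffs
  obtain ⟨b, hb⟩ := IsLocalization.exist_integer_multiples_of_finset (nonZeroDivisors K[X]) S
  let β : RatFunc K := algebraMap K[X] (RatFunc K) b
  have hinj : Function.Injective (algebraMap K[X] (RatFunc K)) := IsFractionRing.injective _ _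
  have hβ : β ≠ 0 := by
    intro h
    have : (b : K[X]) = 0 := hinj (by rw [map_zero]; exact h)
    exact nonZeroDivisors.coe_ne_zero b this
  have hf₀ : ∀ ρ, ∃ g : MvPolynomial (Fin n) K[X],
      MvPolynomial.map (algebraMap K[X] (RatFunc K)) g = MvPolynomial.C β * f ρ := fun ρ => by
    have : MvPolynomial.C β * f ρ ∈ Set.range (MvPolynomial.map (algebraMap K[X] (RatFunc K))) := by
      rw [MvPolynomial.mem_range_map_iff_coeffs_subset]
      intro a ha
      obtain ⟨m, hm, rfl⟩ := MvPolynomial.mem_coeffs_iff.mp ha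
      rw [MvPolynomial.coeff_C_mul]
      have hne : MvPolynomial.coeff m (f ρ) ≠ 0 := by
        intro h0
        rw [MvPolynomial.mem_support_iff, MvPolynomial.coeff_C_mul, h0, mul_zero] at hm
        exact hm rfl
      have hS : MvPolynomial.coeff m (f ρ) ∈ S :=
        Finset.mem_biUnion.mpr ⟨ρ, Finset.mem_univ _,
          MvPolynomial.coeff_mem_coeffs m hne⟩
      obtain ⟨q, hq⟩ := hb _ hS
      exact ⟨q, by rw [hq, Algebra.smul_def]⟩
    exact this
  choose g hg using hf₀
  have hghom : ∀ ρ, (g ρ).IsHomogeneous (d ρ) := fun ρ =>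
    IsHomogeneous.of_map hinj (by rw [hg]; exact (hf ρ).C_mul β)
  obtain ⟨x, hx0, hx⟩ := exists_zero_polynomial K i hK r n g d hghom hd hlt
  refine ⟨fun j => algebraMap K[X] (RatFunc K) (x j), ?_, fun ρ => ?_⟩
  · intro h
    apply hx0
    funext j
    exact hinj (by simpa using congrFun h j)
  · have h1 : MvPolynomial.eval (fun j => algebraMap K[X] (RatFunc K) (x j))
        (MvPolynomial.C β * f ρ) = 0 := by
      rw [← hg ρ, MvPolynomial.eval_map]
      have := (MvPolynomial.eval₂_comp (algebraMap K[X] (RatFunc K)) x (g ρ))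
      rw [hx ρ, map_zero] at this
      exact this.symm
    rw [map_mul, MvPolynomial.eval_C] at h1
    exact (mul_eq_zero.mp h1).resolve_left hβ

end Groth.Agent.Lib.Helper8.TsenLang2

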