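import Mathlib
import Groth.Prelude.Def_W4c1hilbpnTgt

set_option backward.isDefEq.respectTransparency.types false
set_option autoImplicit false
set_option linter.unusedSectionVars false
set_option linter.style.haveILetI false

universe u

namespace Groth.Agent.Lib.Helper8.Hilb

open MvPolynomial W4c1hilbpn

variable {k : Type u} [Field k] {n : ℕ} (I : Ideal (MvPolynomial (Fin n) k))

/-- truncation of an integer vector to an exponent vector. -/
noncomputable def toN (γ : Fin n → ℤ) : Fin n →₀ ℕ :=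
  Finsupp.equivFunOnFinite.symm fun i => (γ i).toNat

lemma toN_apply (γ : Fin n → ℤ) (i : Fin n) : toN γ i = (γ i).toNat := rfl

lemma shift_eq (β : Fin n →₀ ℕ) (α : Fin n → ℤ) :
    shift β α = toN (fun i => (β i : ℤ) + α i) := rfl

/-- an exponent vector as an integer vector. -/
def toZ (β : Fin n →₀ ℕ) : Fin n → ℤ := fun i => (β i : ℤ)

lemma toN_toZ (β : Fin n →₀ ℕ) : toN (toZ β) = β := by
  ext i; simp [toN_apply, toZ]

lemma toZ_toN (γ : Fin n → ℤ) (h : ∀ i, 0 ≤ γ i) : toZ (toN γ) = γ := by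
  ext i; simp [toN_apply, toZ, h i]

lemma mem_exps {β : Fin n →₀ ℕ} : β ∈ exps I ↔ monomial β (1 : k) ∈ I := Iff.rfl

lemma exps_add {β : Fin n →₀ ℕ} (hβ : β ∈ exps I) (δ : Fin n →₀ ℕ) : β + δ ∈ exps I := by
  rw [mem_exps] at hβ ⊢
  have : monomial (β + δ) (1 : k) = monomial β 1 * monomial δ 1 := by
    rw [monomial_mul, one_mul]
  rw [this]
  exact I.mul_mem_right _ hβ

lemma exps_add_single {β : Fin n →₀ ℕ} (hβ : β ∈ exps I) (i : Fin n) :
    β + Finsupp.single i 1 ∈ exps I := exps_add I hβ _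

variable {I}

lemma mem_iff_support (hI : IsMonomial I) (f : MvPolynomial (Fin n) k) :
    f ∈ I ↔ ∀ β ∈ f.support, β ∈ exps I := by
  constructor
  · intro hf β hβ
    exact hI f hf β hβ
  · intro h
    rw [← MvPolynomial.support_sum_monomial_coeff f]
    refine I.sum_mem fun β hβ => ?_
    have : monomial β (coeff β f) = C (coeff β f) * monomial β (1 : k) := by
      rw [C_mul_monomial, mul_one]
    rw [this]
    exact I.mul_mem_left _ (h β hβ)

lemma coeff_eq_zero_of_mem (hI : IsMonomial I) {f : MvPolynomial (Fin n) k} (hf : f ∈ I)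
    {γ : Fin n →₀ ℕ} (hγ : γ ∉ exps I) : coeff γ f = 0 := by
  by_contra h
  exact hγ ((mem_iff_support hI f).1 hf γ (mem_support_iff.2 h))

/-- the coefficient functional on the quotient, for an exponent outside the ideal. -/
noncomputable def cf (hI : IsMonomial I) (γ : Fin n →₀ ℕ) (hγ : γ ∉ exps I) :
    (MvPolynomial (Fin n) k ⧸ I) →ₗ[k] k :=
  (Submodule.liftQ (I.restrictScalars k) (lcoeff k γ) (by
      intro f hf
      rw [LinearMap.mem_ker]
      exact coeff_eq_zero_of_mem hI hf hγ)) ∘ₗ
    (Submodule.Quotient.restrictScalarsEquiv k I).symm.toLinearMap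

lemma cf_mk (hI : IsMonomial I) (γ : Fin n →₀ ℕ) (hγ : γ ∉ exps I)
    (f : MvPolynomial (Fin n) k) : cf hI γ hγ (Ideal.Quotient.mk I f) = coeff γ f := by
  unfold cf
  rw [LinearMap.coe_comp, Function.comp_apply]
  have : (Ideal.Quotient.mk I f) = Submodule.Quotient.mk f := rfl
  rw [this, LinearEquiv.coe_coe, Submodule.Quotient.restrictScalarsEquiv_symm_mk,
    Submodule.liftQ_apply]
  rfl

lemma mk_monomial_eq_zero {γ : Fin n →₀ ℕ} (hγ : γ ∈ exps I) :
    Ideal.Quotient.mk I (monomial γ (1 : k)) = 0 :=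
  Ideal.Quotient.eq_zero_iff_mem.2 hγ

lemma mk_monomial_ne_zero (hI : IsMonomial I) {γ : Fin n →₀ ℕ} (hγ : γ ∉ exps I) :
    Ideal.Quotient.mk I (monomial γ (1 : k)) ≠ 0 := by
  intro h
  have := congrArg (cf hI γ hγ) h
  rw [cf_mk, map_zero, coeff_monomial, if_pos rfl] at this
  exact one_ne_zero this

/-- finite colength: finitely many exponents outside the ideal. -/
lemma finite_compl_exps (hI : IsMonomial I) [Module.Finite k (MvPolynomial (Fin n) k ⧸ I)] :
    {γ : Fin n →₀ ℕ | γ ∉ exps I}.Finite := by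
  have hli : LinearIndependent k
      (fun γ : {γ : Fin n →₀ ℕ // γ ∉ exps I} => Ideal.Quotient.mk I (monomial γ.1 (1 : k))) := by
    rw [linearIndependent_iff']
    intro s g hg γ hγ
    have := congrArg (cf hI γ.1 γ.2) hg
    rw [map_sum, map_zero] at this
    simp only [map_smul, cf_mk, coeff_monomial, smul_eq_mul] at this
    rw [Finset.sum_eq_single γ] at this
    · simpa using this
    · intro b _ hb
      have : b.1 ≠ γ.1 := fun h => hb (Subtype.ext h)
      simp [this]
    · intro h; exact absurd hγ h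
  have := hli.finite_of_isNoetherian
  exact Set.finite_coe_iff.1 this

end Groth.Agent.Lib.Helper8.Hilb
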