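import Mathlib
import Groth.Agent.Lib.Helper8.Hilb1

set_option backward.isDefEq.respectTransparency.types false
set_option autoImplicit false
set_option linter.unusedSectionVars false
set_option linter.style.haveILetI false

universe u

namespace Groth.Agent.Lib.Helper8.Hilb

open MvPolynomial W4c1hilbpn

variable {k : Type u} [Field k] {n : ℕ} (I : Ideal (MvPolynomial (Fin n) k))

/-- unit vector in `ℤ^n`. -/
def eZ (i : Fin n) : Fin n → ℤ := Pi.single i 1

lemma eZ_self (i : Fin n) : eZ i i = 1 := by simp [eZ]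
lemma eZ_ne {i j : Fin n} (h : j ≠ i) : eZ i j = 0 := by simp [eZ, h]

lemma sum_abs_eq_one {d : Fin n → ℤ} (h : ∑ i, |d i| = 1) :
    ∃ i, |d i| = 1 ∧ ∀ j, j ≠ i → d j = 0 := by
  have hex : ∃ i, d i ≠ 0 := by
    by_contra hne
    simp only [not_exists, not_not] at hne
    simp [hne] at h
  obtain ⟨i, hi⟩ := hex
  have hsplit := Finset.add_sum_erase Finset.univ (fun j => |d j|) (Finset.mem_univ i)
  have h1 : 1 ≤ |d i| := Int.one_le_abs hi
  have hnn : 0 ≤ ∑ j ∈ Finset.univ.erase i, |d j| := Finset.sum_nonneg fun j _ => abs_nonneg _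
  have h0 : ∑ j ∈ Finset.univ.erase i, |d j| = 0 := by omega
  refine ⟨i, by omega, fun j hj => ?_⟩
  have := (Finset.sum_eq_zero_iff_of_nonneg (fun j _ => abs_nonneg (d j))).1 h0 j
    (Finset.mem_erase.2 ⟨hj, Finset.mem_univ j⟩)
  exact abs_eq_zero.1 this

lemma adj_imp {a b : Fin n → ℤ} (h : (stepGraph (Fin n)).Adj a b) :
    ∃ i, b = a + eZ i ∨ a = b + eZ i := by
  unfold stepGraph at h
  rw [SimpleGraph.fromRel_adj] at h
  obtain ⟨-, h⟩ := h
  have h' : ∑ i, |(a - b) i| = 1 := by
    rcases h with h | h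
    · simpa using h
    · simp only [Pi.sub_apply]
      rw [← h]
      exact Finset.sum_congr rfl fun i _ => abs_sub_comm _ _
  obtain ⟨i, hi, hj⟩ := sum_abs_eq_one h'
  refine ⟨i, ?_⟩
  rcases (abs_eq (by norm_num : (0 : ℤ) ≤ 1)).1 hi with h1 | h1
  · right
    ext j
    by_cases hji : j = i
    · subst hji; simp only [Pi.sub_apply] at h1; simp [eZ_self]; omega
    · have := hj j hji; simp only [Pi.sub_apply] at this; simp [eZ_ne hji]; omega
  · left
    ext j
    by_cases hji : j = i
    · subst hji; simp only [Pi.sub_apply] at h1; simp [eZ_self]; omega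
    · have := hj j hji; simp only [Pi.sub_apply] at this; simp [eZ_ne hji]; omega

lemma adj_add_eZ (a : Fin n → ℤ) (i : Fin n) : (stepGraph (Fin n)).Adj a (a + eZ i) := by
  unfold stepGraph
  rw [SimpleGraph.fromRel_adj]
  refine ⟨?_, Or.inl ?_⟩
  · intro h
    have := congrFun h i
    simp [eZ_self] at this
  · rw [Finset.sum_eq_single i]
    · simp [eZ_self]
    · intro j _ hj; simp [eZ_ne hj]
    · intro h; exact absurd (Finset.mem_univ i) h

variable {I}

/-- the back-shift `γ ↦ γ - α` truncated. -/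
noncomputable def back (α γ : Fin n → ℤ) : Fin n →₀ ℕ := toN (fun i => γ i - α i)

lemma mem_region_iff (α γ : Fin n → ℤ) :
    γ ∈ region I α ↔ (∀ i, 0 ≤ γ i - α i) ∧ back α γ ∈ exps I ∧
      ¬((∀ i, 0 ≤ γ i) ∧ toN γ ∈ exps I) := by
  unfold region
  simp only [Set.mem_ofPred_eq]
  constructor
  · rintro ⟨⟨β, hβ, rfl⟩, h2⟩
    refine ⟨fun i => by simp, ?_, h2⟩
    have : back α (fun i => (β i : ℤ) + α i) = β := by
      ext i; simp [back, toN_apply]
    rw [this]; exact hβ
  · rintro ⟨h1, h2, h3⟩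
    refine ⟨⟨back α γ, h2, ?_⟩, h3⟩
    ext i
    rw [back, toN_apply, Int.toNat_of_nonneg (h1 i)]
    ring

lemma back_add_eZ (α γ : Fin n → ℤ) (h : ∀ i, 0 ≤ γ i - α i) (j : Fin n) :
    back α (γ + eZ j) = back α γ + Finsupp.single j 1 := by
  ext i
  simp only [back, toN_apply, Pi.add_apply, Finsupp.coe_add]
  by_cases hij : i = j
  · subst hij
    simp only [eZ_self, Finsupp.single_eq_same]
    have := h i
    omega
  · simp only [eZ_ne hij, add_zero]
    simp [Ne.symm hij]

/-- moving in a direction `j ≠ i` from a point with negative `i`-th coordinate stays in the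
region. -/
lemma add_eZ_mem_region {α γ : Fin n → ℤ} (hγ : γ ∈ region I α) {i j : Fin n} (hi : γ i < 0)
    (hij : j ≠ i) : γ + eZ j ∈ region I α := by
  rw [mem_region_iff] at hγ ⊢
  obtain ⟨h1, h2, -⟩ := hγ
  refine ⟨fun l => ?_, ?_, ?_⟩
  · have := h1 l
    simp only [Pi.add_apply]
    by_cases hl : l = j
    · subst hl; simp [eZ_self]; omega
    · simp [eZ_ne hl]; omega
  · rw [back_add_eZ α γ h1 j]
    exact exps_add_single I h2 j
  · rintro ⟨h, -⟩
    have := h i
    simp only [Pi.add_apply, eZ_ne (Ne.symm hij), add_zero] at this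
    omega

end Groth.Agent.Lib.Helper8.Hilb
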