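import Mathlib
import Groth.Agent.Lib.Helper8.Hilb2

set_option backward.isDefEq.respectTransparency.types false
set_option autoImplicit false
set_option linter.unusedSectionVars false
set_option linter.style.haveILetI false

universe u

namespace Groth.Agent.Lib.Helper8.Hilb

open MvPolynomial W4c1hilbpn

variable {k : Type u} [Field k] {n : ℕ} (I : Ideal (MvPolynomial (Fin n) k)) (α : Fin n → ℤ)

/-- the induced unit-step graph on the region. -/
abbrev G : SimpleGraph ↥(region I α) := (stepGraph (Fin n)).induce (region I α)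

variable {I α}

lemma G_adj_iff (u w : ↥(region I α)) : (G I α).Adj u w ↔ (stepGraph (Fin n)).Adj u.1 w.1 :=
  Iff.rfl

/-- a function constant on edges is constant on components. -/
lemma const_of_reachable {X : Type*} (F : ↥(region I α) → X)
    (hF : ∀ u w, (G I α).Adj u w → F u = F w) {u w : ↥(region I α)}
    (h : (G I α).Reachable u w) : F u = F w := by
  rw [SimpleGraph.reachable_iff_reflTransGen] at h
  induction h with
  | refl => rfl
  | tail _ hbc ih => exact ih.trans (hF _ _ hbc)

/-- the ray from a point with a negative coordinate. -/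
lemma ray_mem {γ : Fin n → ℤ} (hγ : γ ∈ region I α) {i j : Fin n} (hi : γ i < 0) (hij : j ≠ i)
    (t : ℕ) : γ + (t : ℤ) • eZ j ∈ region I α ∧ (γ + (t : ℤ) • eZ j) i < 0 := by
  induction t with
  | zero => simpa using ⟨hγ, hi⟩
  | succ t ih =>
    have h1 : γ + ((t + 1 : ℕ) : ℤ) • eZ j = (γ + (t : ℤ) • eZ j) + eZ j := by
      push_cast; rw [add_smul, one_smul, add_assoc]
    rw [h1]
    refine ⟨add_eZ_mem_region ih.1 ih.2 hij, ?_⟩
    have := ih.2
    simp only [Pi.add_apply, eZ_ne (Ne.symm hij), add_zero] at this ⊢
    exact this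

lemma infinite_supp_of_neg (hn : 2 ≤ n) (v : ↥(region I α)) {i : Fin n} (hi : v.1 i < 0) :
    ((G I α).connectedComponentMk v).supp.Infinite := by
  obtain ⟨j, hij⟩ : ∃ j : Fin n, j ≠ i := by
    by_cases h0 : i = ⟨0, by omega⟩
    · exact ⟨⟨1, by omega⟩, by rw [h0]; simp [Fin.ext_iff]⟩
    · exact ⟨⟨0, by omega⟩, fun h => h0 h.symm⟩
  let ray : ℕ → ↥(region I α) := fun t => ⟨v.1 + (t : ℤ) • eZ j, (ray_mem v.2 hi hij t).1⟩
  have hreach : ∀ t, (G I α).Reachable v (ray t) := by
    intro t
    induction t with
    | zero =>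
      have : ray 0 = v := by apply Subtype.ext; simp [ray]
      rw [this]
    | succ t ih =>
      refine ih.trans (SimpleGraph.Adj.reachable ?_)
      rw [G_adj_iff]
      have h1 : (ray (t + 1)).1 = (ray t).1 + eZ j := by
        simp only [ray]
        push_cast; rw [add_smul, one_smul, add_assoc]
      rw [h1]
      exact adj_add_eZ _ j
  refine Set.infinite_of_injective_forall_mem (f := ray) ?_ ?_
  · intro s t hst
    have := congrFun (congrArg Subtype.val hst) j
    simp only [ray, Pi.add_apply, Pi.smul_apply, eZ_self, smul_eq_mul, mul_one] at this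
    omega
  · intro t
    rw [SimpleGraph.ConnectedComponent.mem_supp_iff, SimpleGraph.ConnectedComponent.eq]
    exact (hreach t).symm

/-- the nonnegative vertices of the region are finite in number. -/
lemma finite_nonneg (hI : IsMonomial I) [Module.Finite k (MvPolynomial (Fin n) k ⧸ I)] :
    {v : ↥(region I α) | ∀ i, 0 ≤ v.1 i}.Finite := by
  have hfin := finite_compl_exps (I := I) hI
  refine Set.Finite.of_injOn (f := fun v : ↥(region I α) => toN v.1) ?_ ?_ hfin
  · intro v hv
    have := (mem_region_iff α v.1).1 v.2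
    intro hmem
    exact this.2.2 ⟨hv, hmem⟩
  · intro v hv w hw hvw
    apply Subtype.ext
    rw [← toZ_toN v.1 hv, ← toZ_toN w.1 hw]
    exact congrArg toZ hvw

/-- an infinite component contains a vertex with a negative coordinate. -/
lemma exists_neg_of_infinite (hI : IsMonomial I) [Module.Finite k (MvPolynomial (Fin n) k ⧸ I)]
    (c : (G I α).ConnectedComponent) (hc : c.supp.Infinite) :
    ∃ v : ↥(region I α), v ∈ c.supp ∧ ∃ i, v.1 i < 0 := by
  by_contra hne
  simp only [not_exists, not_and, not_lt] at hne
  apply hc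
  refine (finite_nonneg (α := α) hI).subset ?_
  intro v hv
  exact fun i => hne v hv i

lemma nonneg_of_finite_supp (hn : 2 ≤ n) (v : ↥(region I α))
    (hfin : ((G I α).connectedComponentMk v).supp.Finite) (i : Fin n) : 0 ≤ v.1 i := by
  by_contra h
  exact infinite_supp_of_neg hn v (not_le.1 h) hfin

end Groth.Agent.Lib.Helper8.Hilb
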