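import Mathlib
import Groth.Agent.Lib.Helper8.Hilb3

set_option backward.isDefEq.respectTransparency.types false
set_option autoImplicit false
set_option linter.unusedSectionVars false
set_option linter.style.haveILetI false

universe u

namespace Groth.Agent.Lib.Helper8.Hilb

open MvPolynomial W4c1hilbpn

variable {k : Type u} [Field k] {n : ℕ} {I : Ideal (MvPolynomial (Fin n) k)} {α : Fin n → ℤ}

lemma back_mem (v : ↥(region I α)) : back α v.1 ∈ exps I := ((mem_region_iff α v.1).1 v.2).2.1

lemma sub_nonneg_of_mem (v : ↥(region I α)) (i : Fin n) : 0 ≤ v.1 i - α i :=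
  ((mem_region_iff α v.1).1 v.2).1 i

lemma toN_not_mem (v : ↥(region I α)) (hv : ∀ i, 0 ≤ v.1 i) : toN v.1 ∉ exps I :=
  fun h => ((mem_region_iff α v.1).1 v.2).2.2 ⟨hv, h⟩

lemma back_add (v : ↥(region I α)) (i : Fin n) : ((back α v.1 i : ℕ) : ℤ) + α i = v.1 i := by
  rw [back, toN_apply, Int.toNat_of_nonneg (sub_nonneg_of_mem v i)]
  ring

lemma shift_back (v : ↥(region I α)) : shift (back α v.1) α = toN v.1 := by
  rw [shift_eq]
  congr 1
  ext i
  exact back_add v i

/-- the monomial of the region vertex, as an element of the ideal. -/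
noncomputable def mono (v : ↥(region I α)) : ↥I := ⟨monomial (back α v.1) 1, back_mem v⟩

open Classical in
/-- the coefficient attached to a vertex of the region by a tangent vector. -/
noncomputable def val (hI : IsMonomial I) (φ : Tgt I) (v : ↥(region I α)) : k :=
  if h : ∀ i, 0 ≤ v.1 i then cf hI (toN v.1) (toN_not_mem v h) (φ (mono v)) else 0

lemma val_of_nonneg (hI : IsMonomial I) (φ : Tgt I) (v : ↥(region I α)) (h : ∀ i, 0 ≤ v.1 i) :
    val hI φ v = cf hI (toN v.1) (toN_not_mem v h) (φ (mono v)) := by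
  unfold val; rw [dif_pos h]

lemma val_of_neg (hI : IsMonomial I) (φ : Tgt I) (v : ↥(region I α)) (h : ¬ ∀ i, 0 ≤ v.1 i) :
    val hI φ v = 0 := by
  unfold val; rw [dif_neg h]

lemma val_add (hI : IsMonomial I) (φ ψ : Tgt I) (v : ↥(region I α)) :
    val hI (φ + ψ) v = val hI φ v + val hI ψ v := by
  by_cases h : ∀ i, 0 ≤ v.1 i
  · simp only [val_of_nonneg hI _ v h, LinearMap.add_apply, map_add]
  · simp only [val_of_neg hI _ v h, add_zero]

lemma val_smul (hI : IsMonomial I) (r : k) (φ : Tgt I) (v : ↥(region I α)) :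
    val hI (r • φ) v = r * val hI φ v := by
  by_cases h : ∀ i, 0 ≤ v.1 i
  · simp only [val_of_nonneg hI _ v h, LinearMap.smul_apply, map_smul, smul_eq_mul]
  · simp only [val_of_neg hI _ v h, mul_zero]

/-- the defining properties of the graded piece, at a vertex. -/
lemma tPiece_nonneg {φ : Tgt I} (hφ : φ ∈ tPiece I α) (v : ↥(region I α))
    (h : ∀ i, 0 ≤ v.1 i) :
    φ (mono v) ∈ Submodule.span k {Ideal.Quotient.mk I (monomial (toN v.1) (1 : k))} := by
  have := (hφ (back α v.1) (back_mem v)).1 (fun i => by rw [back_add]; exact h i)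
  rw [shift_back] at this
  exact this

lemma tPiece_neg {φ : Tgt I} (hφ : φ ∈ tPiece I α) (v : ↥(region I α))
    (h : ¬ ∀ i, 0 ≤ v.1 i) : φ (mono v) = 0 := by
  simp only [not_forall, not_le] at h
  obtain ⟨i, hi⟩ := h
  exact (hφ (back α v.1) (back_mem v)).2 ⟨i, by rw [back_add]; exact hi⟩

lemma val_spec (hI : IsMonomial I) {φ : Tgt I} (hφ : φ ∈ tPiece I α) (v : ↥(region I α))
    (h : ∀ i, 0 ≤ v.1 i) :
    φ (mono v) = val hI φ v • Ideal.Quotient.mk I (monomial (toN v.1) (1 : k)) := by
  obtain ⟨c, hc⟩ := Submodule.mem_span_singleton.1 (tPiece_nonneg hφ v h)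
  rw [val_of_nonneg hI φ v h, ← hc, map_smul, cf_mk, coeff_monomial, if_pos rfl, smul_eq_mul,
    mul_one]

/-- multiplying the monomial by a variable. -/
lemma mono_add_eZ (u w : ↥(region I α)) (i : Fin n) (h : w.1 = u.1 + eZ i) :
    mono w = (X i : MvPolynomial (Fin n) k) • mono u := by
  apply Subtype.ext
  change monomial (back α w.1) (1 : k) = X i * monomial (back α u.1) 1
  rw [h, back_add_eZ α u.1 (sub_nonneg_of_mem u) i, X, monomial_mul, one_mul, add_comm]

lemma toN_add_eZ (γ : Fin n → ℤ) (h : ∀ i, 0 ≤ γ i) (i : Fin n) :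
    toN (γ + eZ i) = toN γ + Finsupp.single i 1 := by
  ext j
  simp only [toN_apply, Pi.add_apply, Finsupp.coe_add]
  by_cases hij : j = i
  · subst hij
    simp only [eZ_self, Finsupp.single_eq_same]
    have := h j
    omega
  · simp only [eZ_ne hij, add_zero]
    simp [Ne.symm hij]

lemma X_smul_mk (i : Fin n) (γ : Fin n →₀ ℕ) :
    (X i : MvPolynomial (Fin n) k) • Ideal.Quotient.mk I (monomial γ (1 : k)) =
      Ideal.Quotient.mk I (monomial (γ + Finsupp.single i 1) (1 : k)) := by
  change Ideal.Quotient.mk I (X i * monomial γ (1 : k)) = _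
  rw [X, monomial_mul, one_mul, add_comm]

lemma val_step (hI : IsMonomial I) {φ : Tgt I} (hφ : φ ∈ tPiece I α) (u w : ↥(region I α))
    (i : Fin n) (h : w.1 = u.1 + eZ i) : val hI φ u = val hI φ w := by
  by_cases hw : ∀ j, 0 ≤ w.1 j
  · by_cases hu : ∀ j, 0 ≤ u.1 j
    · have h1 := val_spec hI hφ u hu
      have h2 : φ (mono w) = val hI φ u • Ideal.Quotient.mk I (monomial (toN w.1) (1 : k)) := by
        rw [mono_add_eZ u w i h, map_smul, h1, smul_comm, X_smul_mk, h, toN_add_eZ u.1 hu i]
      rw [val_of_nonneg hI φ w hw, h2, map_smul, cf_mk, coeff_monomial, if_pos rfl, smul_eq_mul,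
        mul_one]
    · rw [val_of_neg hI φ u hu, val_of_nonneg hI φ w hw, mono_add_eZ u w i h, map_smul,
        tPiece_neg hφ u hu, smul_zero, map_zero]
  · have hu : ¬ ∀ j, 0 ≤ u.1 j := by
      intro hu
      apply hw
      intro j
      rw [h]
      simp only [Pi.add_apply]
      by_cases hji : j = i
      · subst hji; rw [eZ_self]; have := hu j; omega
      · rw [eZ_ne hji, add_zero]; exact hu j
    rw [val_of_neg hI φ u hu, val_of_neg hI φ w hw]

lemma val_adj (hI : IsMonomial I) {φ : Tgt I} (hφ : φ ∈ tPiece I α) (u w : ↥(region I α))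
    (h : (G I α).Adj u w) : val hI φ u = val hI φ w := by
  rw [G_adj_iff] at h
  obtain ⟨i, hi | hi⟩ := adj_imp h
  · exact val_step hI hφ u w i hi
  · exact (val_step hI hφ w u i hi).symm

lemma val_reachable (hI : IsMonomial I) {φ : Tgt I} (hφ : φ ∈ tPiece I α) {u w : ↥(region I α)}
    (h : (G I α).Reachable u w) : val hI φ u = val hI φ w :=
  const_of_reachable (val hI φ) (val_adj hI hφ) h

end Groth.Agent.Lib.Helper8.Hilb
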