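import Mathlib
import Groth.Agent.Lib.Helper8.Hilb4

set_option backward.isDefEq.respectTransparency.types false
set_option autoImplicit false
set_option linter.unusedSectionVars false
set_option linter.style.haveILetI false

universe u

namespace Groth.Agent.Lib.Helper8.Hilb

open MvPolynomial W4c1hilbpn

variable {k : Type u} [Field k] {n : ℕ} {I : Ideal (MvPolynomial (Fin n) k)} {α : Fin n → ℤ}

/-- the monomials of `I`, as elements of `I`. -/
def monos (I : Ideal (MvPolynomial (Fin n) k)) : Set ↥I :=
  {x | ∃ β : Fin n →₀ ℕ, x.1 = monomial β 1}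

lemma span_monos (hI : IsMonomial I) :
    Submodule.span (MvPolynomial (Fin n) k) (monos I) = ⊤ := by
  apply Submodule.map_injective_of_injective (f := I.subtype) Subtype.val_injective
  rw [Submodule.map_span, Submodule.map_subtype_top]
  apply le_antisymm
  · rw [Submodule.span_le]
    rintro _ ⟨x, -, rfl⟩
    exact x.2
  · intro f hf
    rw [← MvPolynomial.support_sum_monomial_coeff f]
    refine Submodule.sum_mem _ fun β hβ => ?_
    have hβ' : monomial β (1 : k) ∈ I := hI f hf β hβ
    have : monomial β (coeff β f) = (C (coeff β f) : MvPolynomial (Fin n) k) • monomial β (1 : k) := by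
      rw [smul_eq_mul, C_mul_monomial, mul_one]
    rw [this]
    refine Submodule.smul_mem _ _ (Submodule.subset_span ?_)
    exact ⟨⟨monomial β 1, hβ'⟩, ⟨β, rfl⟩, rfl⟩

/-- a tangent vector vanishing on all monomials of `I` is zero. -/
lemma eq_zero_of_monomials (hI : IsMonomial I) (φ : Tgt I)
    (h : ∀ (β : Fin n →₀ ℕ) (hβ : monomial β (1 : k) ∈ I), φ ⟨monomial β 1, hβ⟩ = 0) : φ = 0 := by
  apply LinearMap.ext_on (span_monos hI)
  rintro x ⟨β, hx⟩
  have : x = ⟨monomial β 1, hx ▸ x.2⟩ := Subtype.ext hx
  rw [this, h]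
  rfl

/-- the region vertex attached to an exponent `β ∈ I` with `β + α ≥ 0`, `β + α ∉ I`. -/
lemma shift_mem_region {β : Fin n →₀ ℕ} (hβ : β ∈ exps I)
    (hout : shift β α ∉ exps I) : (fun i => (β i : ℤ) + α i) ∈ region I α := by
  rw [mem_region_iff]
  have hb : back α (fun i => (β i : ℤ) + α i) = β := by
    ext i; simp [back, toN_apply]
  refine ⟨fun i => by simp, by rw [hb]; exact hβ, ?_⟩
  rintro ⟨-, h⟩
  exact hout h

lemma back_shift (β : Fin n →₀ ℕ) : back α (fun i => (β i : ℤ) + α i) = β := by
  ext i; simp [back, toN_apply]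

/-- a tangent vector in the graded piece all of whose values vanish is zero. -/
lemma eq_zero_of_val (hI : IsMonomial I) {φ : Tgt I} (hφ : φ ∈ tPiece I α)
    (h : ∀ v : ↥(region I α), (∀ i, 0 ≤ v.1 i) → val hI φ v = 0) : φ = 0 := by
  apply eq_zero_of_monomials hI
  intro β hβ
  by_cases hnn : ∀ i, 0 ≤ (β i : ℤ) + α i
  · by_cases hout : shift β α ∈ exps I
    · have := (hφ β hβ).1 hnn
      rw [mk_monomial_eq_zero hout] at this
      simpa using this
    · let v : ↥(region I α) := ⟨fun i => (β i : ℤ) + α i, shift_mem_region hβ hout⟩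
      have h1 := val_spec hI hφ v hnn
      rw [h v hnn, zero_smul] at h1
      have h2 : mono v = ⟨monomial β 1, hβ⟩ := by
        apply Subtype.ext
        change monomial (back α v.1) (1 : k) = monomial β 1
        rw [back_shift]
      rw [← h2, h1]
  · simp only [not_forall, not_le] at hnn
    exact (hφ β hβ).2 hnn

end Groth.Agent.Lib.Helper8.Hilb
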