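import Mathlib
import Groth.Agent.Lib.Helper8.Hilb5

set_option backward.isDefEq.respectTransparency.types false
set_option autoImplicit false
set_option linter.unusedSectionVars false
set_option linter.style.haveILetI false

universe u

namespace Groth.Agent.Lib.Helper8.Hilb

open MvPolynomial W4c1hilbpn

variable {k : Type u} [Field k] {n : ℕ} (I : Ideal (MvPolynomial (Fin n) k)) (α : Fin n → ℤ)
  (c : (Fin n → ℤ) → k)

/-- the shifted integer vector `β + α`. -/
def sh (β : Fin n →₀ ℕ) : Fin n → ℤ := fun i => (β i : ℤ) + α i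

open Classical in
/-- the value of the constructed map on the monomial `x^β`. -/
noncomputable def vv (β : Fin n →₀ ℕ) : MvPolynomial (Fin n) k ⧸ I :=
  if ∀ i, 0 ≤ sh α β i then c (sh α β) • Ideal.Quotient.mk I (monomial (shift β α) (1 : k)) else 0

/-- the `k`-linear map defined on the monomial basis. -/
noncomputable def PhiK : MvPolynomial (Fin n) k →ₗ[k] (MvPolynomial (Fin n) k ⧸ I) :=
  (basisMonomials (Fin n) k).constr k (vv I α c)

lemma PhiK_monomial (β : Fin n →₀ ℕ) : PhiK I α c (monomial β 1) = vv I α c β := by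
  have h := (basisMonomials (Fin n) k).constr_basis k (vv I α c) β
  rw [coe_basisMonomials] at h
  exact h

lemma sh_add_single (β : Fin n →₀ ℕ) (i : Fin n) :
    sh α (β + Finsupp.single i 1) = sh α β + eZ i := by
  ext j
  simp only [sh, Finsupp.coe_add, Pi.add_apply, Nat.cast_add]
  by_cases hji : j = i
  · subst hji; simp [eZ_self]; ring
  · simp [eZ_ne hji, Ne.symm hji]

lemma shift_eq_toN_sh (β : Fin n →₀ ℕ) : shift β α = toN (sh α β) := rfl

variable {I α c}

lemma sh_mem_region {β : Fin n →₀ ℕ} (hβ : β ∈ exps I)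
    (h : ¬((∀ i, 0 ≤ sh α β i) ∧ toN (sh α β) ∈ exps I)) : sh α β ∈ region I α := by
  rw [mem_region_iff]
  refine ⟨fun i => by simp [sh], ?_, h⟩
  have : back α (sh α β) = β := back_shift β
  rw [this]; exact hβ

/-- the key compatibility with multiplication by a variable. -/
lemma vv_add_single
    (Ha : ∀ u w : ↥(region I α), ∀ i, w.1 = u.1 + eZ i → c u.1 = c w.1)
    (Hb : ∀ v : ↥(region I α), (¬ ∀ i, 0 ≤ v.1 i) → c v.1 = 0)
    {β : Fin n →₀ ℕ} (hβ : β ∈ exps I) (i : Fin n) :
    vv I α c (β + Finsupp.single i 1) = (X i : MvPolynomial (Fin n) k) • vv I α c β := by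
  have hβ' : β + Finsupp.single i 1 ∈ exps I := exps_add_single I hβ i
  have hsh := sh_add_single α β i
  unfold vv
  by_cases hw : ∀ j, 0 ≤ sh α (β + Finsupp.single i 1) j
  · rw [if_pos hw]
    by_cases hout : toN (sh α (β + Finsupp.single i 1)) ∈ exps I
    · -- both sides vanish
      rw [shift_eq_toN_sh, mk_monomial_eq_zero hout, smul_zero]
      by_cases hu : ∀ j, 0 ≤ sh α β j
      · rw [if_pos hu, smul_comm, X_smul_mk, shift_eq_toN_sh, ← toN_add_eZ _ hu, ← hsh,
          mk_monomial_eq_zero hout, smul_zero]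
      · rw [if_neg hu, smul_zero]
    · have hwreg : sh α (β + Finsupp.single i 1) ∈ region I α :=
        sh_mem_region hβ' (fun h => hout h.2)
      by_cases hu : ∀ j, 0 ≤ sh α β j
      · have hout' : toN (sh α β) ∉ exps I := by
          intro h
          apply hout
          rw [hsh, toN_add_eZ _ hu]
          exact exps_add_single I h i
        have hureg : sh α β ∈ region I α := sh_mem_region hβ (fun h => hout' h.2)
        have hc := Ha ⟨_, hureg⟩ ⟨_, hwreg⟩ i hsh
        simp only at hc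
        rw [if_pos hu, smul_comm, X_smul_mk, shift_eq_toN_sh, shift_eq_toN_sh, ← toN_add_eZ _ hu,
          ← hsh, hc]
      · have hureg : sh α β ∈ region I α := sh_mem_region hβ (fun h => hu h.1)
        have hc := Ha ⟨_, hureg⟩ ⟨_, hwreg⟩ i hsh
        have h0 := Hb ⟨_, hureg⟩ hu
        simp only at hc h0
        rw [if_neg hu, smul_zero, ← hc, h0, zero_smul]
  · rw [if_neg hw]
    have hu : ¬ ∀ j, 0 ≤ sh α β j := by
      intro hu
      apply hw
      intro j
      rw [hsh]
      simp only [Pi.add_apply]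
      by_cases hji : j = i
      · subst hji; rw [eZ_self]; have := hu j; omega
      · rw [eZ_ne hji, add_zero]; exact hu j
    rw [if_neg hu, smul_zero]

lemma PhiK_mul_monomial
    (Ha : ∀ u w : ↥(region I α), ∀ i, w.1 = u.1 + eZ i → c u.1 = c w.1)
    (Hb : ∀ v : ↥(region I α), (¬ ∀ i, 0 ≤ v.1 i) → c v.1 = 0)
    (g : MvPolynomial (Fin n) k) :
    ∀ β : Fin n →₀ ℕ, β ∈ exps I →
      PhiK I α c (g * monomial β 1) = g • PhiK I α c (monomial β 1) := by
  induction g using MvPolynomial.induction_on with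
  | C a =>
    intro β _
    rw [C_mul_monomial, mul_one, ← mul_one a, ← smul_eq_mul, ← smul_monomial, map_smul, smul_eq_mul,
      mul_one]
    rw [← algebraMap_eq, algebraMap_smul]
  | add p q hp hq =>
    intro β hβ
    rw [add_mul, map_add, hp β hβ, hq β hβ, add_smul]
  | mul_X p i hp =>
    intro β hβ
    have h1 : p * X i * monomial β (1 : k) = p * monomial (β + Finsupp.single i 1) 1 := by
      rw [mul_assoc, X, monomial_mul, one_mul, add_comm]
    rw [h1, hp _ (exps_add_single I hβ i), PhiK_monomial, PhiK_monomial, vv_add_single Ha Hb hβ i,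
      mul_smul]

lemma PhiK_mul (hI : IsMonomial I)
    (Ha : ∀ u w : ↥(region I α), ∀ i, w.1 = u.1 + eZ i → c u.1 = c w.1)
    (Hb : ∀ v : ↥(region I α), (¬ ∀ i, 0 ≤ v.1 i) → c v.1 = 0)
    (g f : MvPolynomial (Fin n) k) (hf : f ∈ I) :
    PhiK I α c (g * f) = g • PhiK I α c f := by
  conv_lhs => rw [← MvPolynomial.support_sum_monomial_coeff f]
  conv_rhs => rw [← MvPolynomial.support_sum_monomial_coeff f]
  rw [Finset.mul_sum, map_sum, map_sum, Finset.smul_sum]
  refine Finset.sum_congr rfl fun β hβ => ?_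
  have hβ' : β ∈ exps I := hI f hf β hβ
  have : monomial β (coeff β f) = (coeff β f) • monomial β (1 : k) := by
    rw [smul_monomial, smul_eq_mul, mul_one]
  rw [this, mul_smul_comm, map_smul, map_smul, PhiK_mul_monomial Ha Hb g β hβ', smul_comm]

/-- the constructed tangent vector. -/
noncomputable def mkTgt (hI : IsMonomial I)
    (Ha : ∀ u w : ↥(region I α), ∀ i, w.1 = u.1 + eZ i → c u.1 = c w.1)
    (Hb : ∀ v : ↥(region I α), (¬ ∀ i, 0 ≤ v.1 i) → c v.1 = 0) : Tgt I where
  toFun f := PhiK I α c f.1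
  map_add' f g := by simp
  map_smul' g f := by
    change PhiK I α c (g * f.1) = g • PhiK I α c f.1
    exact PhiK_mul hI Ha Hb g f.1 f.2

lemma mkTgt_monomial (hI : IsMonomial I)
    (Ha : ∀ u w : ↥(region I α), ∀ i, w.1 = u.1 + eZ i → c u.1 = c w.1)
    (Hb : ∀ v : ↥(region I α), (¬ ∀ i, 0 ≤ v.1 i) → c v.1 = 0)
    (β : Fin n →₀ ℕ) (hβ : monomial β (1 : k) ∈ I) :
    mkTgt hI Ha Hb ⟨monomial β 1, hβ⟩ = vv I α c β := PhiK_monomial I α c β

lemma mkTgt_mem (hI : IsMonomial I)
    (Ha : ∀ u w : ↥(region I α), ∀ i, w.1 = u.1 + eZ i → c u.1 = c w.1)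
    (Hb : ∀ v : ↥(region I α), (¬ ∀ i, 0 ≤ v.1 i) → c v.1 = 0) :
    mkTgt hI Ha Hb ∈ tPiece I α := by
  intro β hβ
  rw [mkTgt_monomial]
  unfold vv
  constructor
  · intro h
    rw [if_pos (show ∀ i, 0 ≤ sh α β i from h)]
    exact Submodule.smul_mem _ _ (Submodule.mem_span_singleton_self _)
  · rintro ⟨i, hi⟩
    rw [if_neg]
    intro h
    exact absurd (h i) (not_le.2 hi)

lemma val_mkTgt (hI : IsMonomial I)
    (Ha : ∀ u w : ↥(region I α), ∀ i, w.1 = u.1 + eZ i → c u.1 = c w.1)
    (Hb : ∀ v : ↥(region I α), (¬ ∀ i, 0 ≤ v.1 i) → c v.1 = 0)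
    (v : ↥(region I α)) (hv : ∀ i, 0 ≤ v.1 i) : val hI (mkTgt hI Ha Hb) v = c v.1 := by
  rw [val_of_nonneg hI _ v hv]
  have h1 : mkTgt hI Ha Hb (mono v) = vv I α c (back α v.1) := mkTgt_monomial hI Ha Hb _ _
  have h2 : sh α (back α v.1) = v.1 := by
    ext i; exact back_add v i
  rw [h1]
  unfold vv
  rw [h2, if_pos hv, shift_back, map_smul, cf_mk, coeff_monomial, if_pos rfl, smul_eq_mul, mul_one]

end Groth.Agent.Lib.Helper8.Hilb
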