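import Mathlib
import Groth.Agent.Lib.Helper8.Hilb6

set_option backward.isDefEq.respectTransparency.types false
set_option autoImplicit false
set_option linter.unusedSectionVars false
set_option linter.style.haveILetI false

universe u

namespace Groth.Agent.Lib.Helper8.Hilb

open MvPolynomial W4c1hilbpn

variable {k : Type u} [Field k] {n : ℕ} (I : Ideal (MvPolynomial (Fin n) k)) (α : Fin n → ℤ)

/-- the bounded components. -/
abbrev Bdd : Type := {c : (G I α).ConnectedComponent // c.supp.Finite}

variable {I α}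

/-- a representative of a component. -/
noncomputable def rep (c : (G I α).ConnectedComponent) : ↥(region I α) := c.nonempty_supp.some

lemma mk_rep (c : (G I α).ConnectedComponent) : (G I α).connectedComponentMk (rep c) = c :=
  c.nonempty_supp.some_mem

lemma rep_nonneg (hn : 2 ≤ n) (b : Bdd I α) (i : Fin n) : 0 ≤ (rep b.1).1 i := by
  apply nonneg_of_finite_supp hn
  rw [mk_rep]
  exact b.2

lemma finite_Bdd (hn : 2 ≤ n) (hI : IsMonomial I) [Module.Finite k (MvPolynomial (Fin n) k ⧸ I)] :
    Finite (Bdd I α) := by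
  have hfin := finite_nonneg (α := α) hI
  have : Finite ↥{v : ↥(region I α) | ∀ i, 0 ≤ v.1 i} := Set.finite_coe_iff.2 hfin
  refine Finite.of_injective
    (fun b : Bdd I α => (⟨rep b.1, rep_nonneg hn b⟩ : ↥{v : ↥(region I α) | ∀ i, 0 ≤ v.1 i})) ?_
  intro b b' h
  have h1 : rep b.1 = rep b'.1 := congrArg Subtype.val h
  apply Subtype.ext
  rw [← mk_rep b.1, ← mk_rep b'.1, h1]

/-- the evaluation map from the graded piece to functions on bounded components. -/
noncomputable def Psi (hI : IsMonomial I) : ↥(tPiece I α) →ₗ[k] (Bdd I α → k) where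
  toFun φ b := val hI φ.1 (rep b.1)
  map_add' φ ψ := by
    ext b
    simp only [Submodule.coe_add, val_add, Pi.add_apply]
  map_smul' r φ := by
    ext b
    simp only [Submodule.coe_smul, val_smul, Pi.smul_apply, smul_eq_mul, RingHom.id_apply]

lemma Psi_injective (hI : IsMonomial I)
    [Module.Finite k (MvPolynomial (Fin n) k ⧸ I)] : Function.Injective (Psi (α := α) hI) := by
  rw [injective_iff_map_eq_zero]
  intro φ hφ
  apply Subtype.ext
  apply eq_zero_of_val hI φ.2
  intro v hv
  by_cases hfin : ((G I α).connectedComponentMk v).supp.Finite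
  · let b : Bdd I α := ⟨(G I α).connectedComponentMk v, hfin⟩
    have h1 : (G I α).Reachable v (rep b.1) := by
      rw [← SimpleGraph.ConnectedComponent.eq, mk_rep]
    rw [val_reachable hI φ.2 h1]
    exact congrFun hφ b
  · obtain ⟨w, hw, i, hi⟩ := exists_neg_of_infinite hI _ hfin
    rw [SimpleGraph.ConnectedComponent.mem_supp_iff, SimpleGraph.ConnectedComponent.eq] at hw
    rw [← val_reachable hI φ.2 hw]
    apply val_of_neg
    intro h
    exact absurd (h i) (not_le.2 hi)

open Classical in
/-- extend a function on bounded components by zero to all components. -/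
noncomputable def extF (f : Bdd I α → k) (c : (G I α).ConnectedComponent) : k :=
  if hf : c.supp.Finite then f ⟨c, hf⟩ else 0

open Classical in
/-- the associated function on the lattice. -/
noncomputable def ctil (f : Bdd I α → k) (γ : Fin n → ℤ) : k :=
  if h : γ ∈ region I α then extF f ((G I α).connectedComponentMk ⟨γ, h⟩) else 0

lemma ctil_apply (f : Bdd I α → k) (v : ↥(region I α)) :
    ctil f v.1 = extF f ((G I α).connectedComponentMk v) := by
  unfold ctil
  rw [dif_pos v.2]

lemma ctil_Ha (f : Bdd I α → k) (u w : ↥(region I α)) (i : Fin n) (h : w.1 = u.1 + eZ i) :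
    ctil f u.1 = ctil f w.1 := by
  rw [ctil_apply, ctil_apply]
  congr 1
  rw [SimpleGraph.ConnectedComponent.eq]
  apply SimpleGraph.Adj.reachable
  rw [G_adj_iff, h]
  exact adj_add_eZ _ i

lemma ctil_Hb (hn : 2 ≤ n) (f : Bdd I α → k) (v : ↥(region I α)) (h : ¬ ∀ i, 0 ≤ v.1 i) :
    ctil f v.1 = 0 := by
  rw [ctil_apply]
  unfold extF
  rw [dif_neg]
  simp only [not_forall, not_le] at h
  obtain ⟨i, hi⟩ := h
  exact infinite_supp_of_neg hn v hi

lemma Psi_surjective (hn : 2 ≤ n) (hI : IsMonomial I) :
    Function.Surjective (Psi (α := α) hI) := by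
  intro f
  refine ⟨⟨mkTgt hI (ctil_Ha f) (ctil_Hb hn f), mkTgt_mem hI _ _⟩, ?_⟩
  ext b
  change val hI (mkTgt hI (ctil_Ha f) (ctil_Hb hn f)) (rep b.1) = f b
  rw [val_mkTgt hI _ _ _ (rep_nonneg hn b), ctil_apply, mk_rep]
  unfold extF
  rw [dif_pos b.2]

theorem main (hn : 2 ≤ n) (hI : IsMonomial I) [Module.Finite k (MvPolynomial (Fin n) k ⧸ I)] :
    Module.finrank k ↥(tPiece I α) = nBddComp I α := by
  have hfin : Finite (Bdd I α) := finite_Bdd hn hI
  have : Fintype (Bdd I α) := Fintype.ofFinite _
  let e : ↥(tPiece I α) ≃ₗ[k] (Bdd I α → k) :=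
    LinearEquiv.ofBijective (Psi hI) ⟨Psi_injective hI, Psi_surjective hn hI⟩
  rw [e.finrank_eq, Module.finrank_fintype_fun_eq_card, ← Nat.card_eq_fintype_card]
  rfl

end Groth.Agent.Lib.Helper8.Hilb
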