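import Mathlib
import Groth.Agent.Lib.Helper8.DivSub

set_option autoImplicit false
set_option maxSynthPendingDepth 3
universe u v w

namespace Groth.Agent.Lib.Helper8.SepSub

open scoped IsMulCommutative
open Groth.Agent.Lib.Helper8.DivSub

/-- abstract extension step -/
theorem exists_separable_adjoin (k : Type u) (F : Type v) (C : Type w) [Field k] [Field F]
    [DivisionRing C] [Algebra k F] [Algebra k C] [Algebra F C] [IsScalarTower k F C]
    [Algebra.IsSeparable k F] [Algebra.IsCentral F C] [FiniteDimensional F C]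
    (hne : (⊥ : Subalgebra F C) ≠ ⊤) :
    ∃ x : C, x ∉ (⊥ : Subalgebra F C) ∧ ∀ y ∈ Algebra.adjoin F {x}, IsSeparable k y := by
  haveI : Algebra.IsAlgebraic F C := Algebra.IsAlgebraic.of_finite F C
  obtain ⟨x, hx, hsep⟩ := JacobsonNoether.exists_separable_and_not_isCentral' hne
  refine ⟨x, hx, ?_⟩
  set M := Algebra.adjoin F {x} with hM
  letI : Field M := Field.ofIsUnitOrEqZero (fun a => by
    by_cases ha : a = 0
    · exact Or.inr ha
    · left
      have ha' : (a : C) ≠ 0 := fun h => ha (Subtype.ext h)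
      exact isUnit_iff_exists_inv.mpr ⟨⟨(a : C)⁻¹, inv_mem_subalgebra F C M a a.2 ha'⟩,
        Subtype.ext (mul_inv_cancel₀ ha')⟩)
  let x' : M := ⟨x, Algebra.self_mem_adjoin_singleton F x⟩
  have hx' : IsSeparable F x' := by
    unfold IsSeparable
    rw [← minpoly.algHom_eq M.val Subtype.val_injective x']
    exact hsep
  have htop : IntermediateField.adjoin F {x'} = ⊤ := by
    apply IntermediateField.adjoin_eq_top_of_algebra
    have h := Algebra.adjoin_adjoin_coe_preimage (R := F) (s := ({x} : Set C))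
    have hset : ((↑) : Algebra.adjoin F ({x} : Set C) → C) ⁻¹' {x} = {x'} := by
      ext z
      simp only [Set.mem_preimage, Set.mem_singleton_iff]
      exact ⟨fun h => Subtype.ext h, fun h => congrArg Subtype.val h⟩
    rw [hset] at h
    exact h
  haveI : Algebra.IsSeparable F (IntermediateField.adjoin F {x'}) :=
    (IntermediateField.isSeparable_adjoin_simple_iff_isSeparable F M).mpr hx'
  haveI : Algebra.IsSeparable F M := by
    rw [htop] at this
    exact AlgEquiv.Algebra.isSeparable (IntermediateField.topEquiv (F := F) (E := M))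
  haveI : Algebra.IsSeparable k M := Algebra.IsSeparable.trans k F M
  intro y hy
  have h1 := Algebra.IsSeparable.isSeparable k (⟨y, hy⟩ : M)
  unfold IsSeparable at h1 ⊢
  rwa [← minpoly.algHom_eq (M.val.restrictScalars k) Subtype.val_injective] at h1

open Groth.Agent.Lib.Helper5.DoubleCentralizer in
theorem exists_lt_separable (k : Type u) [Field k] (D : Type v) [DivisionRing D] [Algebra k D]
    [Algebra.IsCentral k D] [FiniteDimensional k D]
    (L : Subalgebra k D) (hcomm : ∀ x ∈ L, ∀ y ∈ L, x * y = y * x)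
    (hsep : Algebra.IsSeparable k L)
    (hne : Subalgebra.centralizer k (L : Set D) ≠ L) :
    ∃ M : Subalgebra k D, (∀ x ∈ M, ∀ y ∈ M, x * y = y * x) ∧ Algebra.IsSeparable k M ∧ L < M := by
  set C := Subalgebra.centralizer k (L : Set D) with hC
  have hLC : L ≤ C := fun x hx =>
    (Subalgebra.mem_centralizer_iff k).mpr fun y hy => hcomm y hy x hx
  haveI : IsMulCommutative L := .of_setLike_mul_comm hcomm
  haveI : IsSimpleRing L := isSimpleRing_subalgebra k D L
  letI : Field L := Field.ofIsUnitOrEqZero (fun a => by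
    by_cases ha : a = 0
    · exact Or.inr ha
    · left
      have ha' : (a : D) ≠ 0 := fun h => ha (Subtype.ext h)
      exact isUnit_iff_exists_inv.mpr ⟨⟨(a : D)⁻¹, inv_mem_subalgebra k D L a a.2 ha'⟩,
        Subtype.ext (mul_inv_cancel₀ ha')⟩)
  letI : DivisionRing C := DivisionRing.ofIsUnitOrEqZero (fun a => by
    by_cases ha : a = 0
    · exact Or.inr ha
    · left
      have ha' : (a : D) ≠ 0 := fun h => ha (Subtype.ext h)
      exact isUnit_iff_exists_inv.mpr ⟨⟨(a : D)⁻¹, inv_mem_subalgebra k D C a a.2 ha'⟩,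
        Subtype.ext (mul_inv_cancel₀ ha')⟩)
  letI : Algebra L C := RingHom.toAlgebra' (Subalgebra.inclusion hLC).toRingHom
    (fun l c => Subtype.ext (c.2 l.1 l.2))
  have halg : ∀ l : L, ((algebraMap L C l : C) : D) = l := fun l => rfl
  haveI : IsScalarTower k L C := IsScalarTower.of_algebraMap_eq fun r => Subtype.ext rfl
  haveI : Algebra.IsSeparable k L := hsep
  haveI : FiniteDimensional L C := Module.Finite.of_restrictScalars_finite k L C
  have hCC : Subalgebra.centralizer k (C : Set D) = L := centralizer_centralizer_eq k D L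
  haveI : Algebra.IsCentral L C := by
    refine ⟨fun z hz => ?_⟩
    rw [Subalgebra.mem_center_iff] at hz
    have hzL : (z : D) ∈ L := by
      rw [← hCC, Subalgebra.mem_centralizer_iff]
      intro g hg
      exact congrArg Subtype.val (hz ⟨g, hg⟩)
    rw [Algebra.mem_bot]
    exact ⟨⟨z, hzL⟩, Subtype.ext rfl⟩
  have hne' : (⊥ : Subalgebra L C) ≠ ⊤ := by
    intro h
    apply hne
    refine le_antisymm (fun c hc => ?_) hLC
    have : (⟨c, hc⟩ : C) ∈ (⊥ : Subalgebra L C) := h ▸ Algebra.mem_top
    obtain ⟨l, hl⟩ := Algebra.mem_bot.mp this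
    have : (l : D) = c := by rw [← halg, hl]
    rw [← this]; exact l.2
  obtain ⟨x, hx, hall⟩ := exists_separable_adjoin k L C hne'
  have hxL : (x : D) ∉ L := fun h => hx (Algebra.mem_bot.mpr ⟨⟨x, h⟩, Subtype.ext rfl⟩)
  have hxc := x.2
  rw [Subalgebra.mem_centralizer_iff] at hxc
  have hc : ∀ a ∈ (L : Set D) ∪ {(x : D)}, ∀ b ∈ (L : Set D) ∪ {(x : D)}, a * b = b * a := by
    rintro a (ha | ha) b (hb | hb)
    · exact hcomm a ha b hb
    · rw [Set.mem_singleton_iff.mp hb]; exact hxc a ha
    · rw [Set.mem_singleton_iff.mp ha]; exact (hxc b hb).symm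
    · rw [Set.mem_singleton_iff.mp ha, Set.mem_singleton_iff.mp hb]
  have hmc := Algebra.isMulCommutative_adjoin k hc
  refine ⟨Algebra.adjoin k ((L : Set D) ∪ {(x : D)}), fun a ha b hb => setLike_mul_comm ha hb, ?_, ?_⟩
  · let N : Subalgebra k D := ((Algebra.adjoin L {x}).restrictScalars k).map C.val
    have hN : Algebra.adjoin k ((L : Set D) ∪ {(x : D)}) ≤ N := by
      refine Algebra.adjoin_le ?_
      rintro a (ha | ha)
      · have hmem : algebraMap L C ⟨a, ha⟩ ∈ Algebra.adjoin L {x} :=
          Subalgebra.algebraMap_mem (Algebra.adjoin L {x}) (⟨a, ha⟩ : L)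
        exact ⟨algebraMap L C ⟨a, ha⟩, hmem, rfl⟩
      · rw [Set.mem_singleton_iff.mp ha]
        exact ⟨x, Algebra.self_mem_adjoin_singleton L x, rfl⟩
    refine ⟨fun m => ?_⟩
    obtain ⟨y, hy, hym⟩ := hN m.2
    have h1 := hall y hy
    unfold IsSeparable at h1 ⊢
    rw [← minpoly.algHom_eq C.val Subtype.val_injective y] at h1
    rw [← minpoly.algHom_eq (Algebra.adjoin k ((L : Set D) ∪ {(x : D)})).val Subtype.val_injective m]
    have : C.val y = (Algebra.adjoin k ((L : Set D) ∪ {(x : D)})).val m := hym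
    rwa [← this]
  · refine lt_of_le_of_ne (fun a ha => Algebra.subset_adjoin (Or.inl ha)) ?_
    intro h
    apply hxL
    rw [h]
    exact Algebra.subset_adjoin (Or.inr rfl)

/-- A finite central division algebra contains a maximal commutative subalgebra which is
separable over the base field. -/
theorem exists_separable_maximal_comm (k : Type u) [Field k] (D : Type v) [DivisionRing D]
    [Algebra k D] [Algebra.IsCentral k D] [FiniteDimensional k D] :
    ∃ L : Subalgebra k D, (∀ x ∈ L, ∀ y ∈ L, x * y = y * x) ∧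
      (∀ L' : Subalgebra k D, (∀ x ∈ L', ∀ y ∈ L', x * y = y * x) → L ≤ L' → L' = L) ∧
      Algebra.IsSeparable k L := by
  classical
  let P : ℕ → Prop := fun n => ∃ L : Subalgebra k D, (∀ x ∈ L, ∀ y ∈ L, x * y = y * x) ∧
    Algebra.IsSeparable k L ∧ Module.finrank k L = n
  have hbdd : ∀ n, P n → n ≤ Module.finrank k D := by
    rintro n ⟨L, -, -, rfl⟩
    exact Submodule.finrank_le (Subalgebra.toSubmodule L)
  have h0 : P (Module.finrank k (⊥ : Subalgebra k D)) := by
    refine ⟨⊥, ?_, ⟨fun x => ?_⟩, rfl⟩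
    · intro x hx y hy
      obtain ⟨a, rfl⟩ := Algebra.mem_bot.mp hx
      exact Algebra.commutes a y
    · obtain ⟨a, ha⟩ := Algebra.mem_bot.mp x.2
      have : x = algebraMap k (⊥ : Subalgebra k D) a := Subtype.ext ha.symm
      rw [this]
      exact isSeparable_algebraMap a
  obtain ⟨L, hcomm, hsep, hn⟩ := Nat.findGreatest_spec (P := P) (hbdd _ h0) h0
  refine ⟨L, hcomm, ?_, hsep⟩
  have hC : Subalgebra.centralizer k (L : Set D) = L := by
    by_contra hne
    obtain ⟨M, hMc, hMs, hLM⟩ := exists_lt_separable k D L hcomm hsep hne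
    have hlt : Module.finrank k L < Module.finrank k M :=
      Submodule.finrank_lt_finrank_of_lt (s := Subalgebra.toSubmodule L)
        (t := Subalgebra.toSubmodule M) hLM
    have hPM : P (Module.finrank k M) := ⟨M, hMc, hMs, rfl⟩
    have := Nat.le_findGreatest (hbdd _ hPM) hPM
    omega
  intro L' hL'c hLL'
  refine le_antisymm ?_ hLL'
  intro x hx
  rw [← hC, Subalgebra.mem_centralizer_iff]
  intro g hg
  exact hL'c g (hLL' hg) x hx

end Groth.Agent.Lib.Helper8.SepSub
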