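import Mathlib
set_option backward.isDefEq.respectTransparency.types false
set_option autoImplicit false
set_option linter.unusedSectionVars false
set_option linter.style.haveILetI false

namespace Groth.Agent.Lib.Helper8.Witt

open WittVector Function

variable {p : ℕ} [hp : Fact p.Prime] {R : Type*} [CommRing R]

local notation "𝕎" => WittVector p

/-- `z` lies in the image of `V^I`: its first `I` coefficients vanish. -/
def InV (I : ℕ) (z : 𝕎 R) : Prop := ∀ j < I, z.coeff j = 0

theorem inV_iterate (I : ℕ) (z : 𝕎 R) : InV I ((verschiebung : 𝕎 R →+ 𝕎 R)^[I] z) :=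
  fun _ hj => iterate_verschiebung_coeff_eq_zero z hj

theorem InV.eq_iterate {I : ℕ} {z : 𝕎 R} (h : InV I z) :
    z = (verschiebung : 𝕎 R →+ 𝕎 R)^[I] (z.shift I) :=
  eq_iterate_verschiebung h

theorem inV_zero (I : ℕ) : InV I (0 : 𝕎 R) := fun _ _ => zero_coeff p R _

theorem iterate_verschiebung_add (I : ℕ) (x y : 𝕎 R) :
    (verschiebung : 𝕎 R →+ 𝕎 R)^[I] (x + y) =
      (verschiebung : 𝕎 R →+ 𝕎 R)^[I] x + (verschiebung : 𝕎 R →+ 𝕎 R)^[I] y := by
  induction I with
  | zero => rfl
  | succ I ih => rw [iterate_succ_apply', iterate_succ_apply', iterate_succ_apply', ih, map_add]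

theorem iterate_verschiebung_zero (I : ℕ) :
    (verschiebung : 𝕎 R →+ 𝕎 R)^[I] 0 = 0 := by
  induction I with
  | zero => rfl
  | succ I ih => rw [iterate_succ_apply', ih, map_zero]

theorem iterate_verschiebung_neg (I : ℕ) (x : 𝕎 R) :
    (verschiebung : 𝕎 R →+ 𝕎 R)^[I] (-x) = -(verschiebung : 𝕎 R →+ 𝕎 R)^[I] x := by
  induction I with
  | zero => rfl
  | succ I ih => rw [iterate_succ_apply', iterate_succ_apply', ih, map_neg]

theorem iterate_verschiebung_sum {ι : Type*} (s : Finset ι) (I : ℕ) (x : ι → 𝕎 R) :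
    (verschiebung : 𝕎 R →+ 𝕎 R)^[I] (∑ i ∈ s, x i) =
      ∑ i ∈ s, (verschiebung : 𝕎 R →+ 𝕎 R)^[I] (x i) := by
  classical
  induction s using Finset.induction with
  | empty => simp
  | insert a s ha ih => rw [Finset.sum_insert ha, Finset.sum_insert ha, iterate_verschiebung_add, ih]

theorem InV.add {I : ℕ} {x y : 𝕎 R} (hx : InV I x) (hy : InV I y) : InV I (x + y) := by
  rw [hx.eq_iterate, hy.eq_iterate, ← iterate_verschiebung_add]
  exact inV_iterate _ _

theorem InV.neg {I : ℕ} {x : 𝕎 R} (hx : InV I x) : InV I (-x) := by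
  rw [hx.eq_iterate, ← iterate_verschiebung_neg]
  exact inV_iterate _ _

theorem InV.sub {I : ℕ} {x y : 𝕎 R} (hx : InV I x) (hy : InV I y) : InV I (x - y) := by
  rw [sub_eq_add_neg]; exact hx.add hy.neg

theorem InV.mul_right {I : ℕ} {x : 𝕎 R} (hx : InV I x) (w : 𝕎 R) : InV I (x * w) := by
  rw [hx.eq_iterate, iterate_verschiebung_mul_left]
  exact inV_iterate _ _

theorem InV.mul_left {I : ℕ} {x : 𝕎 R} (hx : InV I x) (w : 𝕎 R) : InV I (w * x) := by
  rw [mul_comm]; exact hx.mul_right w

theorem InV.sum {ι : Type*} (s : Finset ι) {I : ℕ} {x : ι → 𝕎 R} (hx : ∀ i ∈ s, InV I (x i)) :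
    InV I (∑ i ∈ s, x i) := by
  classical
  induction s using Finset.induction with
  | empty => simpa using inV_zero I
  | insert a s ha ih =>
    rw [Finset.sum_insert ha]
    exact (hx a (Finset.mem_insert_self a s)).add
      (ih fun i hi => hx i (Finset.mem_insert_of_mem hi))

theorem eq_zero_of_forall_inV {z : 𝕎 R} (h : ∀ I, InV I z) : z = 0 := by
  ext j
  rw [zero_coeff]
  exact h (j + 1) j (Nat.lt_succ_self j)

theorem InV.map {S : Type*} [CommRing S] (f : R →+* S) {I : ℕ} {x : 𝕎 R} (hx : InV I x) :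
    InV I (WittVector.map f x) := by
  intro j hj
  rw [map_coeff, hx j hj, map_zero]

/-- coefficients of `V^I [x]`. -/
theorem coeff_iterate_verschiebung_teichmuller (I : ℕ) (x : R) (j : ℕ) :
    ((verschiebung : 𝕎 R →+ 𝕎 R)^[I] (teichmuller p x)).coeff j = if j = I then x else 0 := by
  rcases lt_or_ge j I with h | h
  · rw [iterate_verschiebung_coeff_eq_zero _ h, if_neg (ne_of_lt h)]
  · obtain ⟨k, rfl⟩ := Nat.exists_eq_add_of_le h
    rw [add_comm I k, iterate_verschiebung_coeff]
    rcases Nat.eq_zero_or_pos k with hk | hk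
    · subst hk; simp [teichmuller_coeff_zero]
    · rw [teichmuller_coeff_pos p x k hk, if_neg (by omega)]

/-- coefficients of the partial Teichmüller sums. -/
theorem coeff_sum_range (x : ℕ → R) (I j : ℕ) :
    (∑ i ∈ Finset.range I, (verschiebung : 𝕎 R →+ 𝕎 R)^[i] (teichmuller p (x i))).coeff j =
      if j < I then x j else 0 := by
  induction I generalizing j with
  | zero => simp
  | succ I ih =>
    rw [Finset.sum_range_succ, coeff_add_of_disjoint]
    · rw [ih, coeff_iterate_verschiebung_teichmuller]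
      by_cases h1 : j < I
      · rw [if_pos h1, if_neg (ne_of_lt h1), if_pos (by omega), add_zero]
      · by_cases h2 : j = I
        · rw [if_neg h1, if_pos h2, if_pos (by omega), zero_add, h2]
        · rw [if_neg h1, if_neg h2, if_neg (by omega), add_zero]
    · intro j'
      rw [ih, coeff_iterate_verschiebung_teichmuller]
      by_cases h1 : j' < I
      · right; rw [if_neg (ne_of_lt h1)]
      · left; rw [if_neg h1]

/-- Teichmüller expansion up to `V^I`. -/
theorem sub_sum_inV (X : 𝕎 R) (I : ℕ) :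
    InV I (X - ∑ i ∈ Finset.range I,
      (verschiebung : 𝕎 R →+ 𝕎 R)^[i] (teichmuller p (X.coeff i))) := by
  have : X = (∑ i ∈ Finset.range I,
      (verschiebung : 𝕎 R →+ 𝕎 R)^[i] (teichmuller p (X.coeff i))) +
      WittVector.mk p (fun j => if j < I then 0 else X.coeff j) := by
    ext j
    rw [coeff_add_of_disjoint]
    · rw [coeff_sum_range, coeff_mk]
      by_cases h : j < I
      · rw [if_pos h, if_pos h, add_zero]
      · rw [if_neg h, if_neg h, zero_add]
    · intro j'
      rw [coeff_sum_range, coeff_mk]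
      by_cases h : j' < I
      · right; rw [if_pos h]
      · left; rw [if_neg h]
  intro j hj
  have h2 : X - ∑ i ∈ Finset.range I,
      (verschiebung : 𝕎 R →+ 𝕎 R)^[i] (teichmuller p (X.coeff i)) =
      WittVector.mk p (fun j => if j < I then 0 else X.coeff j) := by
    rw [sub_eq_iff_eq_add, add_comm]; exact this
  rw [h2, coeff_mk, if_pos hj]

/-- Frobenius of a Teichmüller representative in characteristic `p`. -/
theorem frobenius_teichmuller [CharP R p] (x : R) :
    frobenius (teichmuller p x) = teichmuller p (x ^ p) := by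
  ext j
  rw [coeff_frobenius_charP]
  rcases Nat.eq_zero_or_pos j with hj | hj
  · subst hj; rw [teichmuller_coeff_zero, teichmuller_coeff_zero]
  · rw [teichmuller_coeff_pos p _ j hj, teichmuller_coeff_pos p _ j hj,
      zero_pow (Nat.Prime.ne_zero hp.out)]

theorem iterate_frobenius_teichmuller [CharP R p] (i : ℕ) (x : R) :
    (frobenius : 𝕎 R →+* 𝕎 R)^[i] (teichmuller p x) = teichmuller p (x ^ p ^ i) := by
  induction i generalizing x with
  | zero => simp
  | succ i ih =>
    rw [iterate_succ_apply, frobenius_teichmuller, ih, ← pow_mul, pow_succ, mul_comm]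

theorem map_iterate_verschiebung {S : Type*} [CommRing S] (f : R →+* S) (I : ℕ) (x : 𝕎 R) :
    WittVector.map f ((verschiebung : 𝕎 R →+ 𝕎 R)^[I] x) =
      (verschiebung : 𝕎 S →+ 𝕎 S)^[I] (WittVector.map f x) := by
  induction I with
  | zero => rfl
  | succ I ih => rw [iterate_succ_apply', iterate_succ_apply', map_verschiebung, ih]

end Groth.Agent.Lib.Helper8.Witt
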