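import Mathlib
set_option backward.isDefEq.respectTransparency.types false
set_option autoImplicit false
universe u
open AlgebraicGeometry

namespace Groth.Agent.Lib.Helper8.QcqsInduction
open AlgebraicGeometry CategoryTheory TopologicalSpace

variable {X : Scheme.{u}}

/-- compact open inside an affine open is a finite union of basic opens -/
lemma exists_finset_basicOpen {V : X.Opens} (hV : IsAffineOpen V) (W : X.Opens) (hWV : W ≤ V)
    (hW : IsCompact (W : Set X)) :
    ∃ s : Finset Γ(X, V), W = ⨆ f ∈ s, X.basicOpen f := by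
  classical
  have h1 : ∀ x : W, ∃ f : Γ(X, V), X.basicOpen f ≤ W ∧ ↑x ∈ X.basicOpen f :=
    fun x => hV.exists_basicOpen_le x (hWV x.2)
  choose f hf1 hf2 using h1
  obtain ⟨t, ht⟩ := hW.elim_finite_subcover (fun x : W => ((X.basicOpen (f x) : X.Opens) : Set X))
    (fun x => (X.basicOpen (f x)).isOpen) (fun x hx => Set.mem_iUnion.mpr ⟨⟨x, hx⟩, hf2 ⟨x, hx⟩⟩)
  refine ⟨t.image f, ?_⟩
  apply le_antisymm
  · intro x hx
    obtain ⟨y, hy⟩ := Set.mem_iUnion.mp (ht hx)
    obtain ⟨hy1, hy2⟩ := Set.mem_iUnion.mp hy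
    have : X.basicOpen (f y) ≤ ⨆ g ∈ t.image f, X.basicOpen g :=
      le_iSup₂_of_le (f y) (Finset.mem_image_of_mem f hy1) le_rfl
    exact this hy2
  · refine iSup₂_le fun g hg => ?_
    obtain ⟨y, _, rfl⟩ := Finset.mem_image.mp hg
    exact hf1 y

lemma isCompact_biSup_basicOpen {V : X.Opens} (hV : IsAffineOpen V) (s : Finset Γ(X, V)) :
    IsCompact ((⨆ f ∈ s, X.basicOpen f : X.Opens) : Set X) := by
  have : ((⨆ f ∈ s, X.basicOpen f : X.Opens) : Set X) = ⋃ f ∈ s, (X.basicOpen f : Set X) := by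
    simp
  rw [this]
  exact s.finite_toSet.isCompact_biUnion fun f _ => (hV.basicOpen f).isCompact

theorem inAffine (P : X.Opens → Prop) (h₁ : ∀ U : X.Opens, IsAffineOpen U → P U)
    (h₂ : ∀ U V : X.Opens, IsCompact (U : Set X) → IsAffineOpen V → P U → P V → P (U ⊓ V) →
      P (U ⊔ V)) {V : X.Opens} (hV : IsAffineOpen V) :
    ∀ (n : ℕ) (s : Finset Γ(X, V)), s.card ≤ n → P (⨆ f ∈ s, X.basicOpen f) := by
  classical
  intro n
  induction n with
  | zero =>
    intro s hs
    have : s = ∅ := Finset.card_eq_zero.mp (Nat.le_zero.mp hs)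
    subst this
    simp only [Finset.notMem_empty, iSup_false, iSup_bot]
    exact h₁ ⊥ (isAffineOpen_bot X)
  | succ n ih =>
    intro s hs
    rcases s.eq_empty_or_nonempty with rfl | ⟨f, hf⟩
    · simp only [Finset.notMem_empty, iSup_false, iSup_bot]
      exact h₁ ⊥ (isAffineOpen_bot X)
    · have hs' : s = insert f (s.erase f) := (Finset.insert_erase hf).symm
      have hcard : (s.erase f).card ≤ n := by
        rw [Finset.card_erase_of_mem hf]; omega
      rw [hs', Finset.iSup_insert, sup_comm]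
      apply h₂ _ _ (isCompact_biSup_basicOpen hV _) (hV.basicOpen f) (ih _ hcard)
        (h₁ _ (hV.basicOpen f))
      have : (⨆ g ∈ s.erase f, X.basicOpen g) ⊓ X.basicOpen f =
          ⨆ g ∈ (s.erase f).image (· * f), X.basicOpen g := by
        rw [iSup₂_inf_eq]  
        rw [Finset.iSup_finset_image]
        simp only [Scheme.basicOpen_mul]
      rw [this]
      exact ih _ (Finset.card_image_le.trans hcard)

theorem main (X : Scheme.{u}) [CompactSpace X] [QuasiSeparatedSpace X]
    (P : X.Opens → Prop) (h₁ : ∀ U : X.Opens, IsAffineOpen U → P U)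
    (h₂ : ∀ U V : X.Opens, IsCompact (U : Set X) → IsAffineOpen V → P U → P V → P (U ⊓ V) →
      P (U ⊔ V))
    (U : X.Opens) (hU : IsCompact (U : Set X)) : P U := by
  refine compact_open_induction_on U hU (h₁ ⊥ (isAffineOpen_bot X)) ?_
  intro S hS V hPS
  apply h₂ S V hS V.2 hPS (h₁ V V.2)
  have hc : IsCompact ((S ⊓ V : X.Opens) : Set X) :=
    QuasiSeparatedSpace.inter_isCompact S.1 V.1 S.2 hS V.1.2 V.2.isCompact
  obtain ⟨s, hs⟩ := exists_finset_basicOpen V.2 (S ⊓ V) inf_le_right hc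
  rw [hs]
  exact inAffine P h₁ h₂ V.2 s.card s le_rfl

end Groth.Agent.Lib.Helper8.QcqsInduction
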