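import Mathlib
import Groth.Prelude.Def_RelSpec2

set_option autoImplicit false
universe u
open CategoryTheory CategoryTheory.Limits AlgebraicGeometry Opposite TopologicalSpace

namespace Groth.Agent.Lib.Helper8.RelSpecUnit

open RelSpec

theorem ι_unit_π (Y : Scheme.{u}) (U : Y.Opens) (hU : IsAffineOpen U) :
    (QCAlg.unit Y).ι U hU ≫ (QCAlg.unit Y).π = hU.fromSpec := by
  rw [QCAlg.ι_π]
  change Spec.map (𝟙 _) ≫ _ = _
  rw [Spec.map_id, Category.id_comp]

instance isIso_π_unit (Y : Scheme.{u}) : IsIso (QCAlg.unit Y).π := by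
  change MorphismProperty.isomorphisms Scheme (QCAlg.unit Y).π
  apply IsZariskiLocalAtTarget.of_iSup_eq_top (fun U : Y.affineOpens => U.1)
    (iSup_affineOpens_eq_top Y)
  rintro ⟨U, hU'⟩
  have hU : IsAffineOpen U := hU'
  change IsIso ((QCAlg.unit Y).π ∣_ U)
  have hr : Set.range ((QCAlg.unit Y).ι U hU).base = Set.range ((QCAlg.unit Y).π ⁻¹ᵁ U).ι.base := by
    rw [Scheme.Opens.range_ι, (QCAlg.unit Y).π_preimage U hU]
    rfl
  let e := IsOpenImmersion.isoOfRangeEq ((QCAlg.unit Y).ι U hU) ((QCAlg.unit Y).π ⁻¹ᵁ U).ι hr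
  have he : e.hom ≫ ((QCAlg.unit Y).π ∣_ U) = hU.isoSpec.inv := by
    rw [← cancel_mono U.ι, Category.assoc, morphismRestrict_ι,
      IsOpenImmersion.isoOfRangeEq_hom_fac_assoc, ι_unit_π]
    exact (IsAffineOpen.isoSpec_inv_ι hU).symm
  have : (QCAlg.unit Y).π ∣_ U = e.inv ≫ hU.isoSpec.inv := by
    rw [← he, Iso.inv_hom_id_assoc]
  rw [this]
  infer_instance

theorem hom_ext_fromSpec {Y Z : Scheme.{u}} (f g : Y ⟶ Z)
    (h : ∀ (U : Y.Opens) (hU : IsAffineOpen U), hU.fromSpec ≫ f = hU.fromSpec ≫ g) : f = g := by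
  apply Scheme.Cover.hom_ext (Y.openCoverOfIsOpenCover (fun U : Y.affineOpens => U.1)
    (iSup_affineOpens_eq_top Y))
  rintro ⟨U, hU'⟩
  have hU : IsAffineOpen U := hU'
  change U.ι ≫ f = U.ι ≫ g
  have : U.ι = hU.isoSpec.hom ≫ hU.fromSpec := by
    rw [← IsAffineOpen.isoSpec_inv_ι hU, Iso.hom_inv_id_assoc]
  rw [this, Category.assoc, Category.assoc, h U hU]

/-- the vertex section attached to an algebra map `aug : A ⟶ O_Y`. -/
noncomputable def vertex {Y : Scheme.{u}} (A : QCAlg Y) (aug : A ⟶ QCAlg.unit Y) : Y ⟶ A.spec :=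
  inv (QCAlg.unit Y).π ≫ QCAlg.specMap aug

theorem vertex_π {Y : Scheme.{u}} (A : QCAlg Y) (aug : A ⟶ QCAlg.unit Y) :
    vertex A aug ≫ A.π = 𝟙 Y := by
  rw [vertex, Category.assoc, QCAlg.specMap_π, IsIso.inv_hom_id]

theorem fromSpec_vertex {Y : Scheme.{u}} (A : QCAlg Y) (aug : A ⟶ QCAlg.unit Y)
    (U : Y.Opens) (hU : IsAffineOpen U) :
    hU.fromSpec ≫ vertex A aug = Spec.map (aug.hom.app (op U)) ≫ A.ι U hU := by
  have h1 : hU.fromSpec ≫ inv (QCAlg.unit Y).π = (QCAlg.unit Y).ι U hU := by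
    rw [IsIso.comp_inv_eq]; exact (ι_unit_π Y U hU).symm
  rw [vertex, ← Category.assoc]
  exact (congrArg (· ≫ QCAlg.specMap aug) h1).trans (QCAlg.ι_specMap U hU aug)

theorem isClosedImmersion_of_section {Y : Scheme.{u}} (A : QCAlg Y) (ε : Y ⟶ A.spec)
    (h : ε ≫ A.π = 𝟙 Y) : IsClosedImmersion ε := by
  have : IsClosedImmersion (ε ≫ A.π) := by rw [h]; infer_instance
  exact IsClosedImmersion.of_comp ε A.π

end Groth.Agent.Lib.Helper8.RelSpecUnit
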