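import Mathlib
import Groth.Prelude.Def_RelSpec2
import Groth.Agent.Lib.Helper8.RelSpecUnit

set_option autoImplicit false
universe u
open CategoryTheory CategoryTheory.Limits AlgebraicGeometry Opposite TopologicalSpace
open scoped HomogeneousIdeal

namespace Groth.Agent.Lib.Helper8.RelCone

open RelSpec

variable {Y : Scheme.{u}} (𝒮 : RelProj.QCGrAlg Y)

theorem aug_str (aug : 𝒮.toQCAlg ⟶ QCAlg.unit Y) (U : Y.Opens) (r : Γ(Y, U)) :
    (aug.hom.app (op U)).hom ((𝒮.str.app (op U)).hom r) = r := by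
  have := aug.comm
  have h2 := congrArg (fun φ => (φ.app (op U)).hom r) this
  exact h2

theorem aug_eq_zero_of_mem_irrelevant (aug : 𝒮.toQCAlg ⟶ QCAlg.unit Y)
    (haug : RelCone.IsAugmentation 𝒮 aug) (U : Y.Opens) (hU : IsAffineOpen U)
    (x : 𝒮.presheaf.obj (op U)) (hx : x ∈ (𝒮.deg U hU)₊) :
    (aug.hom.app (op U)).hom x = 0 := by
  classical
  rw [HomogeneousIdeal.mem_irrelevant_iff] at hx
  rw [← DirectSum.sum_support_decompose (𝒮.deg U hU) x, map_sum]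
  apply Finset.sum_eq_zero
  intro i _
  rcases i with _ | d
  · have : ((DirectSum.decompose (𝒮.deg U hU) x 0 : 𝒮.deg U hU 0) : 𝒮.presheaf.obj (op U)) = 0 := hx
    rw [this, map_zero]
  · exact haug U hU d _ (SetLike.coe_mem _)

theorem ker_aug (h0 : RelCone.StrZeroBij 𝒮) (aug : 𝒮.toQCAlg ⟶ QCAlg.unit Y)
    (haug : RelCone.IsAugmentation 𝒮 aug) (U : Y.Opens) (hU : IsAffineOpen U) :
    RingHom.ker (aug.hom.app (op U)).hom = ((𝒮.deg U hU)₊).toIdeal := by
  classical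
  ext x
  rw [RingHom.mem_ker]
  constructor
  · intro hx
    set x0 : 𝒮.presheaf.obj (op U) := GradedRing.proj (𝒮.deg U hU) 0 x with hx0
    have hx' : x - x0 ∈ (𝒮.deg U hU)₊ := by
      rw [HomogeneousIdeal.mem_irrelevant_iff, map_sub, hx0]
      rw [sub_eq_zero]
      simp [GradedRing.proj_apply, DirectSum.decompose_coe]
    have h1 := aug_eq_zero_of_mem_irrelevant 𝒮 aug haug U hU _ hx'
    rw [map_sub, hx, zero_sub, neg_eq_zero] at h1
    obtain ⟨r, hr⟩ := (h0 U hU).2 ⟨x0, by rw [hx0, GradedRing.proj_apply]; exact SetLike.coe_mem _⟩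
    have hr' : (𝒮.str.app (op U)).hom r = x0 := congrArg Subtype.val hr
    rw [← hr', aug_str] at h1
    have hr0 : (r : Γ(Y, U)) = 0 := h1
    subst hr0
    rw [map_zero] at hr'
    have : x = x - x0 := by rw [← hr', sub_zero]
    rw [this]
    exact hx'
  · intro hx
    exact aug_eq_zero_of_mem_irrelevant 𝒮 aug haug U hU x hx

theorem ι_mem_range_vertex_iff (aug : 𝒮.toQCAlg ⟶ QCAlg.unit Y) (ε : Y ⟶ 𝒮.toQCAlg.spec)
    (hε : RelCone.IsVertex 𝒮 aug ε) (U : Y.Opens) (hU : IsAffineOpen U)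
    (p : Spec (𝒮.presheaf.obj (op U))) :
    (𝒮.toQCAlg.ι U hU).base p ∈ Set.range ε.base ↔
      p ∈ Set.range (Spec.map (aug.hom.app (op U))).base := by
  have hchart : ∀ q, ε.base (hU.fromSpec.base q) =
      (𝒮.toQCAlg.ι U hU).base ((Spec.map (aug.hom.app (op U))).base q) := fun q => by
    exact congrArg (fun f : Spec Γ(Y, U) ⟶ 𝒮.toQCAlg.spec => f.base q) (hε.chart U hU)
  constructor
  · rintro ⟨y, hy⟩
    have hyU : y ∈ U := by
      have h1 : (𝒮.toQCAlg.π).base (ε.base y) = y := by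
        have := congrArg (fun f => f.base y) hε.comp_π
        simpa using this
      rw [hy] at h1
      have : (𝒮.toQCAlg.ι U hU).base p ∈ 𝒮.toQCAlg.π ⁻¹ᵁ U := by
        rw [QCAlg.π_preimage _ U hU]; exact ⟨p, rfl⟩
      rw [← h1]; exact this
    obtain ⟨q, rfl⟩ : ∃ q, hU.fromSpec.base q = y := by
      have : y ∈ Set.range hU.fromSpec.base := by rw [hU.range_fromSpec]; exact hyU
      exact this
    rw [hchart] at hy
    exact ⟨q, (𝒮.toQCAlg.ι U hU).isOpenEmbedding.injective hy⟩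
  · rintro ⟨q, rfl⟩
    exact ⟨hU.fromSpec.base q, hchart q⟩

theorem pointedCone_eq (h0 : RelCone.StrZeroBij 𝒮) (aug : 𝒮.toQCAlg ⟶ QCAlg.unit Y)
    (haug : RelCone.IsAugmentation 𝒮 aug) (ε : Y ⟶ 𝒮.toQCAlg.spec)
    (hε : RelCone.IsVertex 𝒮 aug ε) :
    ((RelCone.pointedCone 𝒮 : 𝒮.toQCAlg.spec.Opens) : Set 𝒮.toQCAlg.spec) =
      (Set.range ε.base)ᶜ := by
  have hrange : ∀ (U : Y.Opens) (hU : IsAffineOpen U),
      Set.range (Spec.map (aug.hom.app (op U))).base =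
        PrimeSpectrum.zeroLocus (((𝒮.deg U hU)₊).toIdeal : Set (𝒮.presheaf.obj (op U))) := by
    intro U hU
    have hsurj : Function.Surjective (aug.hom.app (op U)).hom := fun r =>
      ⟨(𝒮.str.app (op U)).hom r, aug_str 𝒮 aug U r⟩
    rw [← ker_aug 𝒮 h0 aug haug U hU]
    exact _root_.range_comap_of_surjective _ (aug.hom.app (op U)).hom hsurj
  ext c
  simp only [RelCone.pointedCone, Opens.coe_iSup, Set.mem_iUnion, Set.mem_compl_iff]
  constructor
  · rintro ⟨⟨U, hU'⟩, hc⟩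
    have hU : IsAffineOpen U := hU'
    obtain ⟨p, hp, rfl⟩ := hc
    change (𝒮.toQCAlg.ι U hU).base p ∉ Set.range ε.base
    rw [ι_mem_range_vertex_iff 𝒮 aug ε hε U hU p, hrange U hU]
    exact hp
  · intro hc
    obtain ⟨U, hU, hcU⟩ : ∃ (U : Y.Opens) (hU : IsAffineOpen U), c ∈ 𝒮.toQCAlg.π ⁻¹ᵁ U := by
      obtain ⟨_, ⟨U, hU, rfl⟩, hx, -⟩ :=
        Y.isBasis_affineOpens.exists_subset_of_mem_open (Set.mem_univ (𝒮.toQCAlg.π.base c))
          isOpen_univ
      exact ⟨U, hU, hx⟩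
    rw [QCAlg.π_preimage _ U hU] at hcU
    obtain ⟨p, rfl⟩ := hcU
    rw [ι_mem_range_vertex_iff 𝒮 aug ε hε U hU p, hrange U hU] at hc
    exact ⟨⟨U, hU⟩, ⟨p, hc, rfl⟩⟩

end Groth.Agent.Lib.Helper8.RelCone
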