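import Mathlib

set_option backward.isDefEq.respectTransparency.types false
set_option autoImplicit false
set_option linter.unusedSectionVars false
set_option linter.style.haveILetI false

namespace Groth.Agent.Lib.Helper8.DN

open DualNumber TrivSqZeroExt

universe u v w

/-- A trivial relation indexed by an arbitrary finite type gives a trivial relation. -/
lemma isTrivialRelation_of_fintype {R : Type u} [CommRing R] {M : Type v} [AddCommGroup M]
    [Module R M] {ι : Type*} [Fintype ι] {f : ι → R} {x : ι → M}
    {κ : Type*} [Fintype κ] (a : ι → κ → R) (y : κ → M)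
    (h1 : ∀ i, x i = ∑ j, a i j • y j) (h2 : ∀ j, ∑ i, f i * a i j = 0) :
    Module.IsTrivialRelation f x := by
  let e := Fintype.equivFin κ
  refine ⟨Fintype.card κ, fun i j => a i (e.symm j), fun j => y (e.symm j), ?_, ?_⟩
  · intro i
    rw [h1 i]
    exact (Equiv.sum_comp e.symm (fun j => a i j • y j)).symm
  · intro j
    exact h2 (e.symm j)

variable {A : Type u} [CommRing A]

lemma eq_inl_add (z : DualNumber A) : z = inl z.fst + inl z.snd * ε := by
  ext <;> simp

lemma eps_mul_inl_eq (z : DualNumber A) : z * ε = ε * inl z.fst := by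
  ext <;> simp

/-- If `M` is flat over the dual numbers then the `ε`-torsion of `M` is `εM`. -/
theorem eps_torsion_of_flat {M : Type v} [AddCommGroup M] [Module (DualNumber A) M]
    [Module.Flat (DualNumber A) M] (m : M) (hm : (ε : DualNumber A) • m = 0) :
    ∃ m' : M, m = (ε : DualNumber A) • m' := by
  have hrel : ∑ i : Fin 1, (fun _ => (ε : DualNumber A)) i • (fun _ => m) i = 0 := by
    simpa using hm
  obtain ⟨k, a, y, hy, ha⟩ := Module.Flat.isTrivialRelation_of_sum_smul_eq_zero hrel
  refine ⟨∑ j, (inl (a 0 j).snd : DualNumber A) • y j, ?_⟩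
  have hy0 : m = ∑ j, a 0 j • y j := hy 0
  rw [Finset.smul_sum]
  conv_lhs => rw [hy0]
  refine Finset.sum_congr rfl fun j _ => ?_
  rw [← mul_smul]
  congr 1
  have h := ha j
  simp only [Finset.univ_unique, Fin.default_eq_zero, Fin.isValue, Finset.sum_singleton] at h
  have h1 : (a 0 j).fst = 0 := by
    have := congrArg TrivSqZeroExt.snd h
    simpa using this
  ext
  · simp [h1]
  · simp

end Groth.Agent.Lib.Helper8.DN

namespace Groth.Agent.Lib.Helper8.DN

open DualNumber TrivSqZeroExt

universe u v w

variable {A : Type u} [CommRing A]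

/-- Flatness criterion over the dual numbers: `M/εM` flat over `A` and `ε`-torsion equal to `εM`. -/
theorem flat_of_eps {M : Type v} [AddCommGroup M] [Module (DualNumber A) M]
    {N : Type w} [AddCommGroup N] [Module A N] [Module.Flat A N]
    (ρ : M →+ N) (hρs : ∀ (a : A) (m : M), ρ ((inl a : DualNumber A) • m) = a • ρ m)
    (hρsurj : Function.Surjective ρ)
    (hker : ∀ m, ρ m = 0 ↔ ∃ m', m = (ε : DualNumber A) • m')
    (h2 : ∀ m : M, (ε : DualNumber A) • m = 0 → ∃ m', m = (ε : DualNumber A) • m') :
    Module.Flat (DualNumber A) M := by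
  apply Module.Flat.of_forall_isTrivialRelation
  intro l f x hfx
  set p : Fin l → A := fun i => (f i).fst with hp
  set q : Fin l → A := fun i => (f i).snd with hq
  have hρε : ∀ m, ρ ((ε : DualNumber A) • m) = 0 := fun m => (hker _).2 ⟨m, rfl⟩
  have hεε : ∀ m : M, (ε : DualNumber A) • (ε : DualNumber A) • m = 0 := by
    intro m
    rw [← mul_smul, eps_mul_eps, zero_smul]
  have hρf : ∀ i m, ρ (f i • m) = p i • ρ m := by
    intro i m
    conv_lhs => rw [eq_inl_add (f i)]
    rw [add_smul, map_add, mul_smul, hρs, hρs, hρε, smul_zero, add_zero]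
  -- Step 1
  have r1 : ∑ i, p i • (ρ ∘ x) i = 0 := by
    have := congrArg ρ hfx
    rw [map_sum, map_zero] at this
    simp_rw [hρf] at this
    exact this
  obtain ⟨k₁, a, n, hn, ha⟩ := Module.Flat.isTrivialRelation_of_sum_smul_eq_zero r1
  choose y hy using fun j => hρsurj (n j)
  have hex : ∀ i, ∃ u, x i = ∑ j, (inl (a i j) : DualNumber A) • y j + (ε : DualNumber A) • u := by
    intro i
    have h0 : ρ (x i - ∑ j, (inl (a i j) : DualNumber A) • y j) = 0 := by
      rw [map_sub, map_sum]
      simp_rw [hρs, hy]
      have := hn i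
      simp only [Function.comp_apply] at this
      rw [this, sub_self]
    obtain ⟨u, hu⟩ := (hker _).1 h0
    exact ⟨u, by rw [← hu]; abel⟩
  choose u hu using hex
  -- Step 2
  set b : Fin k₁ → A := fun j => ∑ i, q i * a i j with hb
  set W : M := ∑ i, (inl (p i) : DualNumber A) • u i + ∑ j, (inl (b j) : DualNumber A) • y j with hW
  have hfa : ∀ j, ∑ i, f i * (inl (a i j) : DualNumber A) = ε * inl (b j) := by
    intro j
    ext
    · simp only [fst_sum, fst_mul, fst_inl, fst_eps, zero_mul]
      exact ha j
    · simp only [snd_sum, DualNumber.snd_mul, snd_inl, fst_inl, mul_zero, zero_add, snd_eps,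
        fst_eps, zero_mul, mul_one, one_mul, add_zero, hb, hq]
  have hεW : (ε : DualNumber A) • W = 0 := by
    rw [← hfx, hW, smul_add, Finset.smul_sum, Finset.smul_sum]
    have : ∀ i, f i • x i = ∑ j, (f i * (inl (a i j) : DualNumber A)) • y j +
        ((ε : DualNumber A) * inl (p i)) • u i := by
      intro i
      conv_lhs => rw [hu i]
      rw [smul_add, Finset.smul_sum, ← mul_smul, eps_mul_inl_eq]
      simp_rw [← mul_smul]
      rfl
    simp_rw [this]
    rw [Finset.sum_add_distrib, Finset.sum_comm]
    simp_rw [← Finset.sum_smul, hfa, mul_smul]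
    rw [add_comm]
  obtain ⟨m', hm'⟩ := h2 W hεW
  have hρW : ρ W = 0 := (hker W).2 ⟨m', hm'⟩
  have r2 : ∑ s : Fin l ⊕ Fin k₁, (Sum.elim p b s) • (Sum.elim (ρ ∘ u) (ρ ∘ y) s) = 0 := by
    rw [Fintype.sum_sum_type]
    simp only [Sum.elim_inl, Sum.elim_inr, Function.comp_apply]
    rw [hW, map_add, map_sum, map_sum] at hρW
    simp_rw [hρs] at hρW
    exact hρW
  obtain ⟨k₂, c, wbar, hwbar, hc⟩ := Module.Flat.isTrivialRelation_of_sum_smul_eq_zero r2
  choose w hw using fun t => hρsurj (wbar t)
  have hexy : ∀ j, ∃ v, y j = ∑ t, (inl (c (Sum.inr j) t) : DualNumber A) • w t +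
      (ε : DualNumber A) • v := by
    intro j
    have h0 : ρ (y j - ∑ t, (inl (c (Sum.inr j) t) : DualNumber A) • w t) = 0 := by
      rw [map_sub, map_sum]
      simp_rw [hρs, hw]
      have := hwbar (Sum.inr j)
      simp only [Sum.elim_inr, Function.comp_apply] at this
      rw [this, sub_self]
    obtain ⟨v, hv⟩ := (hker _).1 h0
    exact ⟨v, by rw [← hv]; abel⟩
  choose v hv using hexy
  have hexu : ∀ i, ∃ u', u i = ∑ t, (inl (c (Sum.inl i) t) : DualNumber A) • w t +
      (ε : DualNumber A) • u' := by
    intro i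
    have h0 : ρ (u i - ∑ t, (inl (c (Sum.inl i) t) : DualNumber A) • w t) = 0 := by
      rw [map_sub, map_sum]
      simp_rw [hρs, hw]
      have := hwbar (Sum.inl i)
      simp only [Sum.elim_inl, Function.comp_apply] at this
      rw [this, sub_self]
    obtain ⟨u', hu'⟩ := (hker _).1 h0
    exact ⟨u', by rw [← hu']; abel⟩
  choose u' hu' using hexu
  -- Step 3
  refine isTrivialRelation_of_fintype (κ := Fin k₂ ⊕ Fin k₁)
    (fun i s => Sum.elim
      (fun t => (inl (∑ j, a i j * c (Sum.inr j) t) : DualNumber A) + inl (c (Sum.inl i) t) * ε)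
      (fun j => (inl (a i j) : DualNumber A) * ε) s)
    (Sum.elim w v) ?_ ?_
  · intro i
    rw [Fintype.sum_sum_type]
    simp only [Sum.elim_inl, Sum.elim_inr]
    conv_lhs => rw [hu i]
    have e1 : ∑ j, (inl (a i j) : DualNumber A) • y j =
        ∑ t, (inl (∑ j, a i j * c (Sum.inr j) t) : DualNumber A) • w t +
          ∑ j, ((inl (a i j) : DualNumber A) * ε) • v j := by
      have : ∀ j, (inl (a i j) : DualNumber A) • y j =
          ∑ t, (inl (a i j * c (Sum.inr j) t) : DualNumber A) • w t +
            ((inl (a i j) : DualNumber A) * ε) • v j := by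
        intro j
        conv_lhs => rw [hv j]
        rw [smul_add, Finset.smul_sum, ← mul_smul]
        simp_rw [← mul_smul, ← inl_mul]
      simp_rw [this]
      rw [Finset.sum_add_distrib, Finset.sum_comm]
      simp_rw [← Finset.sum_smul, ← inl_sum]
    have e2 : (ε : DualNumber A) • u i =
        ∑ t, ((inl (c (Sum.inl i) t) : DualNumber A) * ε) • w t := by
      conv_lhs => rw [hu' i]
      rw [smul_add, hεε, add_zero, Finset.smul_sum]
      refine Finset.sum_congr rfl fun t _ => ?_
      rw [← mul_smul, mul_comm]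
    rw [e1, e2]
    simp_rw [add_smul]
    rw [Finset.sum_add_distrib]
    abel
  · intro s
    rcases s with t | j
    · simp only [Sum.elim_inl]
      have hct := hc t
      rw [Fintype.sum_sum_type] at hct
      simp only [Sum.elim_inl, Sum.elim_inr] at hct
      ext
      · simp only [fst_sum, fst_mul, fst_add, fst_inl, fst_eps, mul_zero, add_zero, fst_zero]
        have : ∑ i, (f i).fst * ∑ j, a i j * c (Sum.inr j) t =
            ∑ j, (∑ i, p i * a i j) * c (Sum.inr j) t := by
          simp_rw [Finset.mul_sum, Finset.sum_mul]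
          rw [Finset.sum_comm]
          refine Finset.sum_congr rfl fun j _ => Finset.sum_congr rfl fun i _ => ?_
          simp only [hp]; ring
        rw [this]
        simp_rw [ha, zero_mul]
        exact Finset.sum_const_zero
      · simp only [snd_sum, DualNumber.snd_mul, fst_add, fst_inl, fst_mul, fst_eps, mul_zero,
          add_zero, snd_add, snd_inl, snd_eps, mul_one, zero_add, snd_zero]
        have : ∑ i, ((f i).fst * c (Sum.inl i) t + (f i).snd * ∑ j, a i j * c (Sum.inr j) t) =
            ∑ i, p i * c (Sum.inl i) t + ∑ j, b j * c (Sum.inr j) t := by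
          rw [Finset.sum_add_distrib]
          congr 1
          simp_rw [hb, Finset.mul_sum, Finset.sum_mul]
          rw [Finset.sum_comm]
          refine Finset.sum_congr rfl fun j _ => Finset.sum_congr rfl fun i _ => ?_
          simp only [hq]; ring
        rw [this]
        exact hct
    · simp only [Sum.elim_inr]
      ext
      · simp only [fst_sum, fst_mul, fst_inl, fst_eps, mul_zero, fst_zero]
        exact Finset.sum_const_zero
      · simp only [snd_sum, DualNumber.snd_mul, fst_mul, fst_inl, fst_eps, mul_zero, snd_inl,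
          snd_eps, mul_one, zero_add, add_zero, snd_zero, zero_mul]
        exact ha j

end Groth.Agent.Lib.Helper8.DN
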