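import Mathlib.Topology.KrullDimension
import Mathlib.Topology.NoetherianSpace
import Mathlib.Topology.Sober
import Groth.Agent.Lib.Helper5.TopDim

/-!
# Spaces of Krull dimension at most one

Topological lemmas about Noetherian quasi-sober `T0` spaces of Krull dimension `≤ 1`.
-/

set_option autoImplicit false

namespace Groth.Agent.Lib.Helper8.DimOne

open TopologicalSpace Topology Order

variable {X : Type*} [TopologicalSpace X]

/-- In a quasi-sober `T0` space of dimension `≤ 1`, specialization chains `x ⤳ y ⤳ z` degenerate. -/
theorem eq_or_eq_of_specializes [QuasiSober X] [T0Space X] (h : topologicalKrullDim X ≤ 1)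
    {x y z : X} (hxy : x ⤳ y) (hyz : y ⤳ z) : x = y ∨ y = z := by
  let _ := specializationOrder X
  rw [Groth.Agent.Lib.Helper5.topologicalKrullDim_eq_krullDim, krullDim_le_one_iff] at h
  rcases h y with hy | hy
  · right
    have h1 : z ≤ y := hyz
    exact le_antisymm (hy h1) h1
  · left
    have h1 : y ≤ x := hxy
    exact le_antisymm (hy h1) h1

/-- A point all of whose specializations are trivial is closed. -/
theorem isClosed_singleton_of_forall_specializes {x : X} (hx : ∀ y, x ⤳ y → y = x) :
    IsClosed ({x} : Set X) := by
  rw [← closure_eq_iff_isClosed]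
  refine Set.Subset.antisymm (fun y hy => ?_) subset_closure
  exact hx y (specializes_iff_mem_closure.mpr hy)

/-- A closed point only specializes to itself. -/
theorem eq_of_specializes_of_isClosed {x y : X} (hx : IsClosed ({x} : Set X)) (h : x ⤳ y) :
    y = x := by
  have := specializes_iff_mem_closure.mp h
  rwa [hx.closure_eq] at this

/-- The set of points that are generizations of nothing else ("maximal points"). -/
def maxPoints (X : Type*) [TopologicalSpace X] : Set X := {x | ∀ y, y ⤳ x → y = x}

/-- In a Noetherian quasi-sober `T0` space there are finitely many maximal points. -/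
theorem finite_maxPoints [NoetherianSpace X] [QuasiSober X] [T0Space X] : (maxPoints X).Finite := by
  obtain ⟨S, hSf, hSc, hSi, hSU⟩ :=
    NoetherianSpace.exists_finite_set_isClosed_irreducible (isClosed_univ (X := X))
  have hsub : maxPoints X ⊆ ⋃ t ∈ S, {x | IsGenericPoint x t} := by
    intro x hx
    have hxU : x ∈ ⋃₀ S := hSU ▸ Set.mem_univ x
    obtain ⟨t, htS, hxt⟩ := hxU
    have hcl : closure ({(hSi t htS).genericPoint} : Set X) = t :=
      (hSi t htS).closure_genericPoint (hSc t htS)
    have hsp : (hSi t htS).genericPoint ⤳ x := by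
      rw [specializes_iff_mem_closure, hcl]; exact hxt
    have := hx _ hsp
    simp only [Set.mem_iUnion, Set.mem_ofPred_eq]
    exact ⟨t, htS, by rw [← this]; exact hcl⟩
  refine (hSf.biUnion fun t _ => ?_).subset hsub
  apply Set.Subsingleton.finite
  intro a ha b hb
  exact IsGenericPoint.eq ha hb

/-- In a quasi-sober `T0` space of dimension `≤ 1`, a non-maximal point is closed. -/
theorem isClosed_singleton_of_not_mem_maxPoints [QuasiSober X] [T0Space X]
    (h : topologicalKrullDim X ≤ 1) {x : X} (hx : x ∉ maxPoints X) : IsClosed ({x} : Set X) := by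
  simp only [maxPoints, Set.mem_ofPred_eq, not_forall] at hx
  obtain ⟨w, hwx, hne⟩ := hx
  apply isClosed_singleton_of_forall_specializes
  intro y hxy
  rcases eq_or_eq_of_specializes h hwx hxy with h1 | h1
  · exact absurd h1 hne
  · exact h1.symm

/-- The closure of a maximal point is an irreducible component. -/
theorem closure_mem_irreducibleComponents [QuasiSober X] {x : X} (hx : x ∈ maxPoints X) :
    closure ({x} : Set X) ∈ irreducibleComponents X := by
  refine ⟨isIrreducible_singleton.closure, fun T hT hle => ?_⟩
  have hT' : IsIrreducible (closure T) := hT.closure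
  have hcl : closure ({hT'.genericPoint} : Set X) = closure T :=
    hT'.closure_genericPoint isClosed_closure
  have hxT : x ∈ closure T := subset_closure (hle (subset_closure rfl))
  have hsp : hT'.genericPoint ⤳ x := by
    rw [specializes_iff_mem_closure, hcl]; exact hxT
  have := hx _ hsp
  calc T ⊆ closure T := subset_closure
    _ = closure {hT'.genericPoint} := hcl.symm
    _ = closure {x} := by rw [this]

/-- The closure of a non-closed point in a space of dimension `≤ 1` has dimension exactly one. -/
theorem topologicalKrullDim_closure_eq_one [T0Space X]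
    (h : topologicalKrullDim X ≤ 1) {x : X} (hx : ¬ IsClosed ({x} : Set X)) :
    topologicalKrullDim (closure ({x} : Set X)) = 1 := by
  apply le_antisymm ((topologicalKrullDim_subspace_le X _).trans h)
  -- find a proper specialization
  have : ∃ y, x ⤳ y ∧ y ≠ x := by
    by_contra hcon
    push Not at hcon
    exact hx (isClosed_singleton_of_forall_specializes hcon)
  obtain ⟨y, hxy, hne⟩ := this
  let Z : Set X := closure {x}
  have hxZ : x ∈ Z := subset_closure rfl
  have hyZ : y ∈ Z := specializes_iff_mem_closure.mp hxy
  let a : IrreducibleCloseds Z :=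
    ⟨closure {⟨y, hyZ⟩}, isIrreducible_singleton.closure, isClosed_closure⟩
  let b : IrreducibleCloseds Z :=
    ⟨closure {⟨x, hxZ⟩}, isIrreducible_singleton.closure, isClosed_closure⟩
  have hab : a < b := by
    have hle : a ≤ b := by
      change closure {(⟨y, hyZ⟩ : Z)} ⊆ closure {(⟨x, hxZ⟩ : Z)}
      rw [← specializes_iff_closure_subset]
      exact (subtype_specializes_iff _ _).mpr hxy
    refine lt_of_le_of_ne hle fun hEq => ?_
    have hba : b ≤ a := hEq.ge
    have : closure {(⟨x, hxZ⟩ : Z)} ⊆ closure {(⟨y, hyZ⟩ : Z)} := hba
    rw [← specializes_iff_closure_subset] at this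
    have this' : y ⤳ x := (subtype_specializes_iff _ _).mp this
    exact hne ((hxy.antisymm this').eq).symm
  exact one_le_krullDim_iff.mpr ⟨a, b, hab⟩

/-- **Finiteness of closed sets not containing one-dimensional components.**
In a Noetherian quasi-sober `T0` space of dimension `≤ 1`, a closed subset containing no
irreducible component of dimension one is finite. -/
theorem finite_of_isClosed [NoetherianSpace X] [QuasiSober X] [T0Space X]
    (h : topologicalKrullDim X ≤ 1) {C : Set X} (hC : IsClosed C)
    (hZ : ∀ Z ∈ irreducibleComponents X, topologicalKrullDim Z = 1 → ¬ Z ⊆ C) : C.Finite := by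
  obtain ⟨S, hSf, hSc, hSi, hSU⟩ := NoetherianSpace.exists_finite_set_isClosed_irreducible hC
  rw [hSU]
  refine hSf.sUnion fun t ht => ?_
  have htC : t ⊆ C := hSU ▸ Set.subset_sUnion_of_mem ht
  set w := (hSi t ht).genericPoint with hw
  have hcl : closure ({w} : Set X) = t := (hSi t ht).closure_genericPoint (hSc t ht)
  by_cases hwc : IsClosed ({w} : Set X)
  · rw [← hcl, hwc.closure_eq]; exact Set.finite_singleton _
  · exfalso
    have hmax : w ∈ maxPoints X := by
      by_contra hnm
      exact hwc (isClosed_singleton_of_not_mem_maxPoints h hnm)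
    have h1 := closure_mem_irreducibleComponents hmax
    have h2 := topologicalKrullDim_closure_eq_one h hwc
    exact hZ _ h1 h2 (hcl ▸ htC)

/-- **Finite fibres.** A continuous closed map out of a Noetherian quasi-sober `T0` space of
dimension `≤ 1` that contracts no one-dimensional irreducible component has finite fibres. -/
theorem finite_preimage_singleton [NoetherianSpace X] [QuasiSober X] [T0Space X]
    (h : topologicalKrullDim X ≤ 1) {Y : Type*} [TopologicalSpace Y] {f : X → Y}
    (hf : Continuous f) (hcl : IsClosedMap f)
    (hZ : ∀ Z ∈ irreducibleComponents X, topologicalKrullDim Z = 1 → (f '' Z).Nontrivial)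
    (y : Y) : (f ⁻¹' {y}).Finite := by
  by_cases hsub : f ⁻¹' {y} ⊆ maxPoints X
  · exact finite_maxPoints.subset hsub
  · rw [Set.not_subset] at hsub
    obtain ⟨x, hxy, hxm⟩ := hsub
    have hxc : IsClosed ({x} : Set X) := isClosed_singleton_of_not_mem_maxPoints h hxm
    have hyc : IsClosed ({y} : Set Y) := by
      have := hcl _ hxc
      rwa [Set.image_singleton, (hxy : f x = y)] at this
    apply finite_of_isClosed h (hyc.preimage hf)
    intro Z hZ1 hZ2 hsub
    have hnt := hZ Z hZ1 hZ2
    obtain ⟨a, ha, b, hb, hab⟩ := hnt
    obtain ⟨a', ha', rfl⟩ := ha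
    obtain ⟨b', hb', rfl⟩ := hb
    exact hab ((hsub ha' : f a' = y).trans (hsub hb' : f b' = y).symm)

end Groth.Agent.Lib.Helper8.DimOne
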