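import Mathlib

set_option autoImplicit false
set_option backward.isDefEq.respectTransparency.types false

/-!
# Matrix-tree development, part 1: pure algebra

* `det_add_vecMulVec`: the matrix determinant lemma without invertibility,
  `det (A + u vᵀ) = det A + Σ_{i,j} u i * v j * adjugate A j i`.
* `adjugate_of_mulVec_eq_zero`: if `A b = 0` over a domain then
  `b r * adjugate A w r = b w * adjugate A r r`.
* `card_quot_range_mulVecLin`: `|ℤ^n / M ℤ^n| = |det M|` (both sides `0` when `det M = 0`).
-/

namespace Groth.Agent.Lib.Helper8.MTree

open Matrix Finset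

section DetLemma

variable {n : Type*} [Fintype n] [DecidableEq n] {R : Type*} [CommRing R]

lemma det_addRows_aux (N : Matrix n n R) (i₀ : n) (u : n → R) (S : Finset n) (hS : i₀ ∉ S) :
    det (fun i => if i ∈ S then N i + u i • N i₀ else N i : Matrix n n R) = det N := by
  induction S using Finset.induction_on with
  | empty => simp
  | insert a S ha ih =>
    have ha0 : a ≠ i₀ := by
      rintro rfl; exact hS (Finset.mem_insert_self _ _)
    have hS' : i₀ ∉ S := fun h => hS (Finset.mem_insert_of_mem h)
    rw [← ih hS']
    set A : Matrix n n R := (fun i => if i ∈ S then N i + u i • N i₀ else N i) with hA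
    have : (fun i => if i ∈ insert a S then N i + u i • N i₀ else N i : Matrix n n R) =
        updateRow A a (A a + u a • A i₀) := by
      ext i j
      by_cases h : i = a
      · subst h
        simp [hA, ha, hS']
      · simp [updateRow_ne h, hA, Finset.mem_insert, h]
    rw [this, det_updateRow_add_smul_self _ ha0]

lemma det_addRows (A : Matrix n n R) (u v : n → R) (S : Finset n) :
    det (fun i => if i ∈ S then A i + u i • v else A i : Matrix n n R) =
      det A + ∑ i ∈ S, u i * det (A.updateRow i v) := by
  induction S using Finset.induction_on with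
  | empty => simp
  | insert a S ha ih =>
    set AS : Matrix n n R := (fun i => if i ∈ S then A i + u i • v else A i) with hAS
    have h1 : (fun i => if i ∈ insert a S then A i + u i • v else A i : Matrix n n R) =
        updateRow AS a (A a + u a • v) := by
      ext i j
      by_cases h : i = a
      · subst h
        simp
      · simp [updateRow_ne h, hAS, Finset.mem_insert, h]
    have h2 : updateRow AS a (A a) = AS := by
      ext i j
      by_cases h : i = a
      · subst h
        simp [hAS, ha]
      · simp [updateRow_ne h]
    have h3 : det (updateRow AS a v) = det (A.updateRow a v) := by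
      have : updateRow AS a v =
          (fun i => if i ∈ S then (A.updateRow a v) i + u i • (A.updateRow a v) a
            else (A.updateRow a v) i : Matrix n n R) := by
        ext i j
        by_cases h : i = a
        · subst h
          simp [ha]
        · by_cases hi : i ∈ S
          · simp [updateRow_ne h, hAS, hi]
          · simp [updateRow_ne h, hAS, hi]
      rw [this, det_addRows_aux _ a u S ha]
    rw [h1, det_updateRow_add, det_updateRow_smul, h2, h3, ih, Finset.sum_insert ha]
    ring

lemma det_updateRow_eq_sum_adjugate (A : Matrix n n R) (i : n) (v : n → R) :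
    det (A.updateRow i v) = ∑ j, v j * adjugate A j i := by
  rw [← cramer_transpose_apply, cramer_eq_adjugate_mulVec, ← adjugate_transpose]
  simp [mulVec, dotProduct, mul_comm]

/-- Matrix determinant lemma, no invertibility hypothesis. -/
theorem det_add_vecMulVec (A : Matrix n n R) (u v : n → R) :
    det (A + vecMulVec u v) = det A + ∑ i, ∑ j, u i * v j * adjugate A j i := by
  have h := det_addRows A u v Finset.univ
  have h1 : (fun i => if i ∈ (Finset.univ : Finset n) then A i + u i • v else A i : Matrix n n R) =
      A + vecMulVec u v := by
    ext i j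
    simp [vecMulVec_apply]
  rw [h1] at h
  rw [h]
  congr 1
  refine Finset.sum_congr rfl fun i _ => ?_
  rw [det_updateRow_eq_sum_adjugate, Finset.mul_sum]
  refine Finset.sum_congr rfl fun j _ => ?_
  ring

/-- If `A b = 0` over a domain, the `r`-th column of the adjugate is proportional to `b`. -/
theorem adjugate_of_mulVec_eq_zero [IsDomain R] (A : Matrix n n R) (b : n → R)
    (hb : A *ᵥ b = 0) (r w : n) :
    b r * adjugate A w r = b w * adjugate A r r := by
  by_cases hb0 : b = 0
  · simp [hb0]
  set A' : Matrix n n R := A.updateRow r (b r • Pi.single w 1 + (-(b w)) • Pi.single r 1) with hA'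
  have hk : A' *ᵥ b = 0 := by
    ext v
    by_cases hv : v = r
    · subst hv
      simp only [hA', mulVec, updateRow_self, Pi.zero_apply]
      rw [add_dotProduct, smul_dotProduct, smul_dotProduct, single_dotProduct,
        single_dotProduct]
      simp only [smul_eq_mul, one_mul]
      ring
    · have := congrFun hb v
      simp only [mulVec, Pi.zero_apply] at this ⊢
      rw [hA', updateRow_ne hv]
      exact this
  have hdet : det A' = 0 := (exists_mulVec_eq_zero_iff).1 ⟨b, hb0, hk⟩
  rw [hA', det_updateRow_add, det_updateRow_smul, det_updateRow_smul] at hdet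
  rw [adjugate_apply, adjugate_apply]
  linear_combination hdet

end DetLemma

section Card

variable {n : Type*} [Fintype n] [DecidableEq n]

theorem card_quot_range_mulVecLin (M : Matrix n n ℤ) :
    Nat.card ((n → ℤ) ⧸ LinearMap.range M.mulVecLin) = (det M).natAbs := by
  by_cases hd : det M = 0
  · rw [hd, Int.natAbs_zero]
    obtain ⟨y, hy0, hy⟩ := (exists_vecMul_eq_zero_iff).2 hd
    obtain ⟨i, hi⟩ : ∃ i, y i ≠ 0 := by
      by_contra h
      exact hy0 (funext fun i => by_contra fun hi => h ⟨i, hi⟩)
    -- the functional `x ↦ y ⬝ᵥ x` kills the range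
    let f : (n → ℤ) →ₗ[ℤ] ℤ :=
      { toFun := fun x => y ⬝ᵥ x
        map_add' := fun a b => dotProduct_add y a b
        map_smul' := fun c a => by
          change y ⬝ᵥ (c • a) = c • (y ⬝ᵥ a)
          rw [dotProduct_smul] }
    have hf : LinearMap.range M.mulVecLin ≤ LinearMap.ker f := by
      rintro _ ⟨x, rfl⟩
      change y ⬝ᵥ (M *ᵥ x) = 0
      rw [dotProduct_mulVec, hy, zero_dotProduct]
    let fbar := (LinearMap.range M.mulVecLin).liftQ f hf
    have : Infinite ((n → ℤ) ⧸ LinearMap.range M.mulVecLin) := by
      refine Infinite.of_injective
        (fun k : ℤ => Submodule.Quotient.mk (k • (Pi.single i 1 : n → ℤ))) ?_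
      intro k k' hk
      have := congrArg fbar hk
      simp only [fbar, Submodule.liftQ_apply] at this
      change y ⬝ᵥ (k • (Pi.single i 1 : n → ℤ)) = y ⬝ᵥ (k' • (Pi.single i 1 : n → ℤ)) at this
      rw [dotProduct_smul, dotProduct_smul, dotProduct_single] at this
      simp only [mul_one, smul_eq_mul] at this
      exact mul_right_cancel₀ hi this
    exact Nat.card_eq_zero_of_infinite
  · have hinj : Function.Injective M.mulVecLin := by
      rw [← LinearMap.ker_eq_bot, LinearMap.ker_eq_bot']
      intro x hx
      by_contra hx0
      exact hd ((exists_mulVec_eq_zero_iff).1 ⟨x, hx0, hx⟩)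
    let e : (n → ℤ) ≃ₗ[ℤ] LinearMap.range M.mulVecLin := LinearEquiv.ofInjective _ hinj
    have h := Submodule.natAbs_det_equiv (LinearMap.range M.mulVecLin) e
    rw [← h]
    congr 1
    have : (LinearMap.range M.mulVecLin).subtype ∘ₗ
        AddMonoidHom.toIntLinearMap ((e : (n → ℤ) →+ LinearMap.range M.mulVecLin)) =
        Matrix.toLin' M := by
      ext x j
      simp [e, Matrix.toLin'_apply]
    rw [this, LinearMap.det_toLin']

end Card

end Groth.Agent.Lib.Helper8.MTree
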