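import Mathlib
import Groth.Prelude.Def_W4c2conddiscmodels

set_option autoImplicit false
set_option linter.unusedSectionVars false
set_option backward.isDefEq.respectTransparency.types false

/-!
# Matrix-tree development, part 2: rooted spanning forests of a multigraph

Multigraphs in the prelude's `LabGraph` encoding (`ends : E → V × V`).  For an edge set `F`:
`Conn F` is connectivity along edges of `F`, `par F` the vector of vertex degrees mod 2,
`Acyc F` says that `F` has no nonempty subset with all degrees even, and `IsRF R F` says that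
`F` is a spanning forest each of whose components contains exactly one vertex of `R`.
-/

universe u

namespace Groth.Agent.Lib.Helper8.MTree

open Finset

section Basic

variable {V E : Type u} (ends : E → V × V)

/-- `e` joins `a` and `b` (in either order). -/
def Joins (e : E) (a b : V) : Prop := ends e = (a, b) ∨ ends e = (b, a)

variable {ends} in
lemma Joins.symm {e : E} {a b : V} (h : Joins ends e a b) : Joins ends e b a := Or.symm h

/-- adjacency along an edge of `F`. -/
def SAdj (F : Finset E) (a b : V) : Prop := ∃ e ∈ F, Joins ends e a b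

variable {ends} in
lemma SAdj.symm {F : Finset E} {a b : V} (h : SAdj ends F a b) : SAdj ends F b a := by
  obtain ⟨e, he, h⟩ := h
  exact ⟨e, he, h.symm⟩

/-- connectivity along edges of `F`. -/
def Conn (F : Finset E) : V → V → Prop := Relation.ReflTransGen (SAdj ends F)

variable {ends}

lemma Conn.refl (F : Finset E) (a : V) : Conn ends F a a := Relation.ReflTransGen.refl

lemma Conn.trans {F : Finset E} {a b c : V} (h1 : Conn ends F a b) (h2 : Conn ends F b c) :
    Conn ends F a c := Relation.ReflTransGen.trans h1 h2

lemma Conn.symm {F : Finset E} {a b : V} (h : Conn ends F a b) : Conn ends F b a := by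
  induction h with
  | refl => exact Relation.ReflTransGen.refl
  | tail _ h ih => exact Relation.ReflTransGen.head (SAdj.symm h) ih

lemma Conn.mono {F F' : Finset E} (hF : F ⊆ F') {a b : V} (h : Conn ends F a b) :
    Conn ends F' a b :=
  Relation.ReflTransGen.mono (fun _ _ ⟨e, he, h⟩ => ⟨e, hF he, h⟩) _ _ h

lemma Conn.of_joins {F : Finset E} {e : E} (he : e ∈ F) {a b : V} (h : Joins ends e a b) :
    Conn ends F a b := Relation.ReflTransGen.single ⟨e, he, h⟩

end Basic

variable {V E : Type u} [Fintype V] [Fintype E] [DecidableEq V] [DecidableEq E]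
variable (ends : E → V × V)

/-- the degree vector of a single edge mod 2 -/
def pe (e : E) : V → ZMod 2 := Pi.single (ends e).1 1 + Pi.single (ends e).2 1

/-- the degree vector of an edge set mod 2 -/
def par (C : Finset E) : V → ZMod 2 := fun v => (LabGraph.endCount ends C v : ZMod 2)

lemma par_eq_sum (C : Finset E) : par ends C = ∑ e ∈ C, pe ends e := by
  funext v
  simp only [par, LabGraph.endCount, pe, Finset.sum_apply, Pi.add_apply, Pi.single_apply]
  push_cast
  refine Finset.sum_congr rfl fun e _ => ?_
  congr 1
  · by_cases h : (ends e).1 = v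
    · simp [h]
    · simp [h, Ne.symm h]
  · by_cases h : (ends e).2 = v
    · simp [h]
    · simp [h, Ne.symm h]

lemma par_eq_zero_iff (C : Finset E) :
    par ends C = 0 ↔ ∀ v, Even (LabGraph.endCount ends C v) := by
  constructor
  · intro h v
    have := congrFun h v
    simpa [par, ZMod.natCast_eq_zero_iff_even] using this
  · intro h
    funext v
    simpa [par, ZMod.natCast_eq_zero_iff_even] using h v

lemma par_empty : par ends (∅ : Finset E) = 0 := by
  rw [par_eq_sum]; simp

lemma par_insert {C : Finset E} {e : E} (he : e ∉ C) :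
    par ends (insert e C) = pe ends e + par ends C := by
  rw [par_eq_sum, par_eq_sum, Finset.sum_insert he]

lemma zmod2_add_self (x : V → ZMod 2) : x + x = 0 := by
  funext v
  exact CharTwo.add_self_eq_zero (x v)

lemma par_erase {C : Finset E} {e : E} (he : e ∈ C) :
    par ends (C.erase e) = pe ends e + par ends C := by
  have h := par_insert ends (Finset.notMem_erase e C)
  rw [Finset.insert_erase he] at h
  rw [h, ← add_assoc, zmod2_add_self, zero_add]

lemma pe_of_joins {e : E} {a b : V} (h : Joins ends e a b) :
    pe ends e = Pi.single a 1 + Pi.single b 1 := by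
  rcases h with h | h
  · simp [pe, h]
  · simp [pe, h, add_comm]

/-- no nonempty subset with all degrees even -/
def Acyc (F : Finset E) : Prop := ∀ C ⊆ F, par ends C = 0 → C = ∅

lemma Acyc.mono {F F' : Finset E} (hF : F ⊆ F') (h : Acyc ends F') : Acyc ends F :=
  fun C hC => h C (hC.trans hF)

/-- a path from `a` to `x` inside `F` gives an edge set with odd degrees exactly at `a`, `x` -/
lemma exists_par_of_conn {F : Finset E} {a x : V} (h : Conn ends F a x) :
    ∃ P ⊆ F, par ends P = Pi.single a 1 + Pi.single x 1 := by
  induction h with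
  | refl => exact ⟨∅, Finset.empty_subset _, by rw [par_empty, zmod2_add_self]⟩
  | @tail x y _ hxy ih =>
    obtain ⟨P, hPF, hP⟩ := ih
    obtain ⟨e, heF, hj⟩ := hxy
    have hpe := pe_of_joins ends hj
    have key : pe ends e + par ends P = Pi.single a 1 + Pi.single y 1 := by
      rw [hpe, hP]
      have := zmod2_add_self (Pi.single x 1 : V → ZMod 2)
      calc (Pi.single x 1 + Pi.single y 1 : V → ZMod 2) + (Pi.single a 1 + Pi.single x 1)
          = (Pi.single x 1 + Pi.single x 1) + (Pi.single a 1 + Pi.single y 1) := by abel
        _ = _ := by rw [this, zero_add]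
    by_cases heP : e ∈ P
    · exact ⟨P.erase e, (Finset.erase_subset _ _).trans hPF, by rw [par_erase ends heP, key]⟩
    · refine ⟨insert e P, ?_, by rw [par_insert ends heP, key]⟩
      intro x hx
      rcases Finset.mem_insert.1 hx with rfl | hx
      · exact heF
      · exact hPF hx

/-- an edge set with odd degrees exactly at `a ≠ b` connects `a` and `b` -/
lemma conn_of_par {P : Finset E} {a b : V}
    (hP : par ends P = Pi.single a 1 + Pi.single b 1) : Conn ends P a b := by
  classical
  by_contra hcon
  set K : Finset V := Finset.univ.filter (fun v => Conn ends P a v) with hK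
  have haK : a ∈ K := by simp [hK, Conn.refl]
  have hbK : b ∉ K := by simp [hK, hcon]
  have h1 : ∑ v ∈ K, par ends P v = 1 := by
    rw [hP]
    simp only [Pi.add_apply, Finset.sum_add_distrib, Finset.sum_pi_single', haK, hbK, if_true,
      if_false, add_zero]
  have h2 : ∑ v ∈ K, par ends P v = 0 := by
    rw [par_eq_sum]
    simp only [Finset.sum_apply]
    rw [Finset.sum_comm]
    refine Finset.sum_eq_zero fun e he => ?_
    simp only [pe, Pi.add_apply, Finset.sum_add_distrib, Finset.sum_pi_single']
    have hiff : (ends e).1 ∈ K ↔ (ends e).2 ∈ K := by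
      simp only [hK, Finset.mem_filter, Finset.mem_univ, true_and]
      have hj : Joins ends e (ends e).1 (ends e).2 := Or.inl rfl
      constructor
      · intro h; exact h.trans (Conn.of_joins he hj)
      · intro h; exact h.trans (Conn.of_joins he hj.symm)
    by_cases h : (ends e).1 ∈ K
    · rw [if_pos h, if_pos (hiff.1 h)]
      exact CharTwo.add_self_eq_zero 1
    · rw [if_neg h, if_neg (fun h' => h (hiff.2 h'))]
      simp
  rw [h1] at h2
  exact one_ne_zero h2

/-- splitting a path at the first use of the edge `e` joining `r` and `b` -/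
lemma conn_split {F : Finset E} {e : E} {r b : V} (hj : Joins ends e r b) {v x : V}
    (h : Conn ends F v x) :
    Conn ends (F.erase e) v x ∨ Conn ends (F.erase e) v r ∨ Conn ends (F.erase e) v b := by
  induction h with
  | refl => exact Or.inl (Conn.refl _ _)
  | @tail x y _ hxy ih =>
    obtain ⟨e', he'F, hj'⟩ := hxy
    rcases ih with ih | ih | ih
    · by_cases hee : e' = e
      · subst hee
        -- `x ∈ {r, b}`
        have hx : x = r ∨ x = b := by
          rcases hj with hj | hj <;> rcases hj' with hj' | hj' <;>
            · rw [hj] at hj'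
              simp only [Prod.mk.injEq] at hj'
              tauto
        rcases hx with rfl | rfl
        · exact Or.inr (Or.inl ih)
        · exact Or.inr (Or.inr ih)
      · exact Or.inl (ih.trans (Conn.of_joins (Finset.mem_erase.2 ⟨hee, he'F⟩) hj'))
    · exact Or.inr (Or.inl ih)
    · exact Or.inr (Or.inr ih)

/-- `F` is a spanning forest in which every component contains exactly one vertex of `R`. -/
def IsRF (R : Finset V) (F : Finset E) : Prop :=
  Acyc ends F ∧ (∀ v, ∃ r ∈ R, Conn ends F v r) ∧
    ∀ r ∈ R, ∀ r' ∈ R, Conn ends F r r' → r = r'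

variable {ends}

/-- removing a root-to-nonroot edge from a rooted forest -/
lemma IsRF.eraseEdge {R : Finset V} {F : Finset E} (hF : IsRF ends R F) {e : E} {r b : V}
    (hj : Joins ends e r b) (hr : r ∈ R) (hb : b ∉ R) (he : e ∈ F) :
    IsRF ends (insert b R) (F.erase e) := by
  obtain ⟨hac, hex, huniq⟩ := hF
  have hrb : r ≠ b := fun h => hb (h ▸ hr)
  refine ⟨hac.mono ends (Finset.erase_subset _ _), ?_, ?_⟩
  · intro v
    obtain ⟨r₀, hr₀, hc⟩ := hex v
    rcases conn_split ends hj hc with h | h | h
    · exact ⟨r₀, Finset.mem_insert_of_mem hr₀, h⟩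
    · exact ⟨r, Finset.mem_insert_of_mem hr, h⟩
    · exact ⟨b, Finset.mem_insert_self _ _, h⟩
  · -- a path from `b` to a root inside `F.erase e` closes up a cycle with `e`
    have key : ∀ r₂ ∈ R, ¬ Conn ends (F.erase e) b r₂ := by
      intro r₂ hr₂ hc
      have h1 : Conn ends F r r₂ :=
        (Conn.of_joins he hj).trans (hc.mono (Finset.erase_subset _ _))
      have : r = r₂ := huniq r hr r₂ hr₂ h1
      subst this
      obtain ⟨P, hPF, hP⟩ := exists_par_of_conn ends hc
      have heP : e ∉ P := fun h => (Finset.mem_erase.1 (hPF h)).1 rfl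
      have hsub : insert e P ⊆ F := by
        intro x hx
        rcases Finset.mem_insert.1 hx with rfl | hx
        · exact he
        · exact Finset.mem_of_mem_erase (hPF hx)
      have hpar : par ends (insert e P) = 0 := by
        rw [par_insert ends heP, hP, pe_of_joins ends hj]
        calc (Pi.single r 1 + Pi.single b 1 : V → ZMod 2) + (Pi.single b 1 + Pi.single r 1)
            = (Pi.single r 1 + Pi.single r 1) + (Pi.single b 1 + Pi.single b 1) := by abel
          _ = 0 := by rw [zmod2_add_self, zmod2_add_self, add_zero]
      have := hac _ hsub hpar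
      exact Finset.insert_ne_empty _ _ this
    intro r₁ hr₁ r₂ hr₂ hc
    rcases Finset.mem_insert.1 hr₁ with rfl | hr₁' <;> rcases Finset.mem_insert.1 hr₂ with rfl | hr₂'
    · rfl
    · exact absurd hc (key r₂ hr₂')
    · exact absurd hc.symm (key r₁ hr₁')
    · exact huniq r₁ hr₁' r₂ hr₂' (hc.mono (Finset.erase_subset _ _))

/-- a forest rooted at `insert b R` does not contain an edge joining `r ∈ R` and `b`. -/
lemma IsRF.notMem {R : Finset V} {F : Finset E} {b : V} (hF : IsRF ends (insert b R) F)
    {e : E} {r : V} (hj : Joins ends e r b) (hr : r ∈ R) (hb : b ∉ R) : e ∉ F := by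
  intro he
  have := hF.2.2 r (Finset.mem_insert_of_mem hr) b (Finset.mem_insert_self _ _)
    (Conn.of_joins he hj)
  exact hb (this ▸ hr)

/-- adding a root-to-root edge to a rooted forest and dropping one of the two roots -/
lemma IsRF.insertEdge {R : Finset V} {F : Finset E} {b : V} (hF : IsRF ends (insert b R) F)
    {e : E} {r : V} (hj : Joins ends e r b) (hr : r ∈ R) (hb : b ∉ R) :
    IsRF ends R (insert e F) := by
  have heF : e ∉ F := hF.notMem hj hr hb
  obtain ⟨hac, hex, huniq⟩ := hF
  have hrb : r ≠ b := fun h => hb (h ▸ hr)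
  have hFsub : F ⊆ insert e F := Finset.subset_insert _ _
  have herase : (insert e F).erase e = F := Finset.erase_insert heF
  refine ⟨?_, ?_, ?_⟩
  · intro C hC hpar
    by_cases heC : e ∈ C
    · exfalso
      have hsub : C.erase e ⊆ F := by
        intro x hx
        obtain ⟨hxe, hxC⟩ := Finset.mem_erase.1 hx
        rcases Finset.mem_insert.1 (hC hxC) with h | h
        · exact absurd h hxe
        · exact h
      have hp : par ends (C.erase e) = Pi.single r 1 + Pi.single b 1 := by
        rw [par_erase ends heC, hpar, add_zero, pe_of_joins ends hj]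
      have hc := (conn_of_par ends hp).mono hsub
      exact hrb (huniq r (Finset.mem_insert_of_mem hr) b (Finset.mem_insert_self _ _) hc)
    · refine hac C ?_ hpar
      intro x hx
      rcases Finset.mem_insert.1 (hC hx) with h | h
      · exact absurd (h ▸ hx) heC
      · exact h
  · intro v
    obtain ⟨r', hr', hc⟩ := hex v
    rcases Finset.mem_insert.1 hr' with rfl | hr''
    · exact ⟨r, hr, (hc.mono hFsub).trans
        (Conn.of_joins (Finset.mem_insert_self _ _) hj.symm)⟩
    · exact ⟨r', hr'', hc.mono hFsub⟩
  · have key : ∀ r₁ ∈ R, ∀ r₂ ∈ R, Conn ends (insert e F) r₁ r₂ → r₁ = r₂ ∨ r₁ = r := by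
      intro r₁ hr₁ r₂ hr₂ hc
      have := conn_split ends hj hc
      rw [herase] at this
      rcases this with h | h | h
      · exact Or.inl (huniq r₁ (Finset.mem_insert_of_mem hr₁) r₂ (Finset.mem_insert_of_mem hr₂) h)
      · exact Or.inr (huniq r₁ (Finset.mem_insert_of_mem hr₁) r (Finset.mem_insert_of_mem hr) h)
      · have := huniq r₁ (Finset.mem_insert_of_mem hr₁) b (Finset.mem_insert_self _ _) h
        exact absurd (this ▸ hr₁) hb
    intro r₁ hr₁ r₂ hr₂ hc
    rcases key r₁ hr₁ r₂ hr₂ hc with h | h
    · exact h
    · rcases key r₂ hr₂ r₁ hr₁ hc.symm with h' | h'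
      · exact h'.symm
      · rw [h, h']

/-- every vertex is a root: only the empty forest -/
lemma isRF_univ_iff (F : Finset E) : IsRF ends (Finset.univ : Finset V) F ↔ F = ∅ := by
  constructor
  · rintro ⟨hac, _, huniq⟩
    by_contra hne
    obtain ⟨e, he⟩ := Finset.nonempty_iff_ne_empty.2 hne
    have hj : Joins ends e (ends e).1 (ends e).2 := Or.inl rfl
    have h := huniq _ (Finset.mem_univ _) _ (Finset.mem_univ _) (Conn.of_joins he hj)
    have hpar : par ends {e} = 0 := by
      have := par_insert ends (Finset.notMem_empty e)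
      rw [par_empty, add_zero] at this
      rw [show ({e} : Finset E) = insert e ∅ from rfl, this, pe, h, zmod2_add_self]
    have := hac {e} (Finset.singleton_subset_iff.2 he) hpar
    exact Finset.singleton_ne_empty _ this
  · rintro rfl
    refine ⟨fun C hC _ => Finset.subset_empty.1 hC, fun v => ⟨v, Finset.mem_univ _, Conn.refl _ _⟩, ?_⟩
    intro r _ r' _ hc
    induction hc with
    | refl => rfl
    | tail _ h _ => obtain ⟨e, he, _⟩ := h; exact absurd he (Finset.notMem_empty _)

/-- if no edge of `S` leaves `R` and `R` is not everything, there is no `R`-rooted forest in `S` -/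
lemma not_isRF_of_closed {R : Finset V} {S F : Finset E} (hFS : F ⊆ S)
    (hcl : ∀ e ∈ S, ∀ a b, Joins ends e a b → a ∈ R → b ∈ R) {v : V} (hv : v ∉ R) :
    ¬ IsRF ends R F := by
  rintro ⟨_, hex, _⟩
  obtain ⟨r, hr, hc⟩ := hex v
  have : ∀ x, Conn ends F r x → x ∈ R := by
    intro x hx
    induction hx with
    | refl => exact hr
    | tail _ h ih =>
      obtain ⟨e, he, hj⟩ := h
      exact hcl e (hFS he) _ _ hj ih
  exact hv (this v hc.symm)

section Sums

variable {K : Type*} [CommRing K] (w : E → K)

open Classical in
/-- the weighted count of `R`-rooted spanning forests inside `S` -/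
noncomputable def forestSum (R : Finset V) (S : Finset E) : K :=
  ∑ F ∈ S.powerset.filter (fun F => IsRF ends R F), ∏ e ∈ F, w e

open Classical in
lemma forestSum_rec {R : Finset V} {S : Finset E} {e : E} {r b : V} (heS : e ∈ S)
    (hj : Joins ends e r b) (hr : r ∈ R) (hb : b ∉ R) :
    forestSum (ends := ends) w R S =
      forestSum (ends := ends) w R (S.erase e) + w e * forestSum (ends := ends) w (insert b R) (S.erase e) := by
  unfold forestSum
  have hsplit : S.powerset.filter (fun F => IsRF ends R F) =
      ((S.erase e).powerset.filter (fun F => IsRF ends R F)) ∪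
        (((S.erase e).powerset.filter (fun F => IsRF ends (insert b R) F)).image (insert e)) := by
    ext F
    simp only [Finset.mem_filter, Finset.mem_powerset, Finset.mem_union, Finset.mem_image]
    constructor
    · rintro ⟨hFS, hF⟩
      by_cases heF : e ∈ F
      · right
        refine ⟨F.erase e, ⟨?_, hF.eraseEdge hj hr hb heF⟩, Finset.insert_erase heF⟩
        exact Finset.erase_subset_erase _ hFS
      · left
        refine ⟨?_, hF⟩
        intro x hx
        exact Finset.mem_erase.2 ⟨fun h => heF (h ▸ hx), hFS hx⟩
    · rintro (⟨hFS, hF⟩ | ⟨F', ⟨hF'S, hF'⟩, rfl⟩)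
      · exact ⟨hFS.trans (Finset.erase_subset _ _), hF⟩
      · refine ⟨?_, hF'.insertEdge hj hr hb⟩
        intro x hx
        rcases Finset.mem_insert.1 hx with rfl | hx
        · exact heS
        · exact Finset.mem_of_mem_erase (hF'S hx)
  have hdisj : Disjoint ((S.erase e).powerset.filter (fun F => IsRF ends R F))
      (((S.erase e).powerset.filter (fun F => IsRF ends (insert b R) F)).image (insert e)) := by
    rw [Finset.disjoint_left]
    intro F hF hF'
    simp only [Finset.mem_filter, Finset.mem_powerset, Finset.mem_image] at hF hF'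
    obtain ⟨F', _, rfl⟩ := hF'
    exact (Finset.mem_erase.1 (hF.1 (Finset.mem_insert_self e F'))).1 rfl
  rw [hsplit, Finset.sum_union hdisj]
  congr 1
  rw [Finset.sum_image, Finset.mul_sum]
  · refine Finset.sum_congr rfl fun F' hF' => ?_
    simp only [Finset.mem_filter, Finset.mem_powerset] at hF'
    have heF' : e ∉ F' := fun h => (Finset.mem_erase.1 (hF'.1 h)).1 rfl
    rw [Finset.prod_insert heF']
  · intro F₁ hF₁ F₂ hF₂ h
    simp only [Finset.coe_filter, Finset.mem_powerset, Set.mem_ofPred_eq] at hF₁ hF₂
    have h1 : e ∉ F₁ := fun h => (Finset.mem_erase.1 (hF₁.1 h)).1 rfl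
    have h2 : e ∉ F₂ := fun h => (Finset.mem_erase.1 (hF₂.1 h)).1 rfl
    rw [← Finset.erase_insert h1, ← Finset.erase_insert h2, h]

open Classical in
lemma forestSum_univ (S : Finset E) : forestSum (ends := ends) w (Finset.univ : Finset V) S = 1 := by
  unfold forestSum
  have : S.powerset.filter (fun F => IsRF ends (Finset.univ : Finset V) F) = {∅} := by
    ext F
    simp only [Finset.mem_filter, Finset.mem_powerset, isRF_univ_iff, Finset.mem_singleton]
    constructor
    · exact fun h => h.2
    · rintro rfl; exact ⟨Finset.empty_subset _, rfl⟩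
  rw [this]
  simp

open Classical in
lemma forestSum_closed {R : Finset V} {S : Finset E}
    (hcl : ∀ e ∈ S, ∀ a b, Joins ends e a b → a ∈ R → b ∈ R) {v : V} (hv : v ∉ R) :
    forestSum (ends := ends) w R S = 0 := by
  unfold forestSum
  rw [Finset.filter_eq_empty_iff.2, Finset.sum_empty]
  intro F hF
  exact not_isRF_of_closed (Finset.mem_powerset.1 hF) hcl hv

end Sums

end Groth.Agent.Lib.Helper8.MTree
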