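import Mathlib
import Groth.Agent.Lib.Helper8.MTree1
import Groth.Agent.Lib.Helper8.MTree2

set_option autoImplicit false
set_option linter.unusedSectionVars false
set_option backward.isDefEq.respectTransparency.types false

/-!
# Matrix-tree development, part 3: the matrix-forest theorem

For a multigraph `ends : E → V × V` with edge weights `w : E → K` and an edge set `S`, `Lap S`
is the weighted Laplacian and `LapR R S` the Laplacian with the rows of the vertices of `R`
replaced by unit rows.  `det (LapR R S)` is the weighted count of `R`-rooted spanning forests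
inside `S` (`det_LapR`).
-/

universe u

namespace Groth.Agent.Lib.Helper8.MTree

open Finset Matrix

variable {V E : Type u} [Fintype V] [Fintype E] [DecidableEq V] [DecidableEq E]
variable (ends : E → V × V) {K : Type*} [CommRing K] (w : E → K)

/-- the signed incidence vector of an edge -/
def dvec (e : E) : V → K := Pi.single (ends e).1 1 - Pi.single (ends e).2 1

/-- weighted Laplacian of the edge set `S` -/
def Lap (S : Finset E) : Matrix V V K :=
  ∑ e ∈ S, w e • Matrix.vecMulVec (dvec (K := K) ends e) (dvec ends e)

/-- Laplacian with the rows in `R` replaced by unit rows -/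
def LapR (R : Finset V) (S : Finset E) : Matrix V V K :=
  fun v => if v ∈ R then Pi.single v 1 else Lap ends w S v

lemma Lap_apply (S : Finset E) (v j : V) :
    Lap ends w S v j = ∑ e ∈ S, w e * (dvec (K := K) ends e v * dvec ends e j) := by
  simp [Lap, Matrix.sum_apply, Matrix.smul_apply, vecMulVec_apply]

variable {ends}

lemma dvec_eq_zero {e : E} {r b : V} (hj : Joins ends e r b) {v : V} (hvr : v ≠ r) (hvb : v ≠ b) :
    dvec (K := K) ends e v = 0 := by
  rcases hj with hj | hj <;> simp [dvec, hj, hvr, hvb]

lemma dvec_row {e : E} {r b : V} (hj : Joins ends e r b) (hrb : r ≠ b) (j : V) :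
    dvec (K := K) ends e b * dvec ends e j =
      (Pi.single b 1 - Pi.single r 1 : V → K) j := by
  rcases hj with hj | hj
  · simp [dvec, hj, hrb.symm, Pi.single_apply]
  · simp [dvec, hj, hrb.symm, hrb, Pi.single_apply]

lemma dvec_dot_eq_zero {e : E} (x : V → K) (hx : x (ends e).1 = x (ends e).2) :
    ∑ j, dvec (K := K) ends e j * x j = 0 := by
  simp [dvec, sub_mul, Finset.sum_sub_distrib, Pi.single_apply, hx]

lemma LapR_erase {R : Finset V} {S : Finset E} {e : E} {r b : V} (heS : e ∈ S)
    (hj : Joins ends e r b) (hr : r ∈ R) (hb : b ∉ R) :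
    LapR ends w R S = updateRow (LapR ends w R (S.erase e)) b
      (LapR ends w R (S.erase e) b + w e • (Pi.single b 1 - Pi.single r 1 : V → K)) := by
  have hrb : r ≠ b := fun h => hb (h ▸ hr)
  ext v j
  by_cases hv : v = b
  · subst hv
    simp only [updateRow_self, Pi.add_apply, Pi.smul_apply, smul_eq_mul, LapR, if_neg hb]
    rw [Lap_apply, Lap_apply, ← Finset.sum_erase_add _ _ heS, dvec_row hj hrb]
  · rw [updateRow_ne hv]
    by_cases hvR : v ∈ R
    · simp [LapR, hvR]
    · simp only [LapR, if_neg hvR]
      rw [Lap_apply, Lap_apply, ← Finset.sum_erase_add _ _ heS]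
      have hvr : v ≠ r := fun h => hvR (h ▸ hr)
      rw [dvec_eq_zero hj hvr hv]
      simp

lemma LapR_insert {R : Finset V} {S : Finset E} {b : V} :
    LapR ends w (insert b R) S = updateRow (LapR ends w R S) b (Pi.single b 1) := by
  ext v j
  by_cases hv : v = b
  · subst hv
    simp [LapR]
  · rw [updateRow_ne hv]
    simp [LapR, Finset.mem_insert, hv]

lemma det_LapR_rec {R : Finset V} {S : Finset E} {e : E} {r b : V} (heS : e ∈ S)
    (hj : Joins ends e r b) (hr : r ∈ R) (hb : b ∉ R) :
    det (LapR ends w R S) =
      det (LapR ends w R (S.erase e)) + w e * det (LapR ends w (insert b R) (S.erase e)) := by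
  have hrb : r ≠ b := fun h => hb (h ▸ hr)
  rw [LapR_erase w heS hj hr hb, det_updateRow_add, det_updateRow_smul, updateRow_eq_self]
  congr 2
  set M := LapR ends w R (S.erase e) with hM
  have hMr : M r = Pi.single r 1 := by
    funext j
    simp [hM, LapR, hr]
  have h := det_updateRow_add_smul_self (LapR ends w (insert b R) (S.erase e)) hrb.symm (-1 : K)
  rw [← h, LapR_insert (ends := ends) w, ← hM]
  congr 1
  ext v j
  by_cases hv : v = b
  · subst hv
    simp only [updateRow_self, Pi.add_apply, Pi.smul_apply, smul_eq_mul, Pi.sub_apply]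
    rw [updateRow_ne hrb, hMr]
    ring
  · rw [updateRow_ne hv, updateRow_ne hv, updateRow_ne hv]

lemma LapR_univ (S : Finset E) : LapR ends w (Finset.univ : Finset V) S = 1 := by
  ext v j
  simp [LapR, Matrix.one_apply, Pi.single_apply, eq_comm]

lemma Lap_mulVec_eq_zero (S : Finset E) (x : V → K)
    (hx : ∀ e ∈ S, x (ends e).1 = x (ends e).2) (v : V) :
    ∑ j, Lap ends w S v j * x j = 0 := by
  simp_rw [Lap_apply, Finset.sum_mul]
  rw [Finset.sum_comm]
  refine Finset.sum_eq_zero fun e he => ?_
  have := dvec_dot_eq_zero (K := K) x (hx e he)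
  calc ∑ j, w e * (dvec ends e v * dvec ends e j) * x j
      = w e * dvec ends e v * ∑ j, dvec (K := K) ends e j * x j := by
        rw [Finset.mul_sum]
        refine Finset.sum_congr rfl fun j _ => ?_
        ring
    _ = 0 := by rw [this, mul_zero]

variable [IsDomain K]

lemma det_LapR_closed {R : Finset V} {S : Finset E}
    (hcl : ∀ e ∈ S, ∀ a b, Joins ends e a b → a ∈ R → b ∈ R) {v₀ : V} (hv₀ : v₀ ∉ R) :
    det (LapR ends w R S) = 0 := by
  refine (exists_mulVec_eq_zero_iff).1 ⟨fun v => if v ∈ R then 0 else 1, ?_, ?_⟩
  · intro h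
    have := congrFun h v₀
    simp [hv₀] at this
  · funext v
    simp only [mulVec, dotProduct, Pi.zero_apply]
    by_cases hv : v ∈ R
    · simp only [LapR, if_pos hv, Pi.single_apply]
      refine Finset.sum_eq_zero fun x _ => ?_
      by_cases hx : x = v
      · subst hx; simp [hv]
      · simp [hx]
    · simp only [LapR, if_neg hv]
      refine Lap_mulVec_eq_zero w S _ ?_ v
      intro e he
      have h1 := hcl e he _ _ (Or.inl rfl : Joins ends e (ends e).1 (ends e).2)
      have h2 := hcl e he _ _ (Or.inr rfl : Joins ends e (ends e).2 (ends e).1)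
      by_cases h : (ends e).1 ∈ R
      · simp [h, h1 h]
      · have h' : (ends e).2 ∉ R := fun h' => h (h2 h')
        simp [h, h']

/-- **Matrix-forest theorem** (principal minors, stated with unit rows). -/
theorem det_LapR (S : Finset E) : ∀ R : Finset V,
    det (LapR ends w R S) = forestSum (ends := ends) w R S := by
  induction S using Finset.strongInduction with
  | H S ih =>
    intro R
    by_cases hcross : ∃ e ∈ S, ∃ r b, Joins ends e r b ∧ r ∈ R ∧ b ∉ R
    · obtain ⟨e, heS, r, b, hj, hr, hb⟩ := hcross
      rw [det_LapR_rec w heS hj hr hb, forestSum_rec w heS hj hr hb,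
        ih _ (Finset.erase_ssubset heS) R, ih _ (Finset.erase_ssubset heS) (insert b R)]
    · have hcl : ∀ e ∈ S, ∀ a b, Joins ends e a b → a ∈ R → b ∈ R := by
        intro e he a b hj ha
        by_contra hb
        exact hcross ⟨e, he, a, b, hj, ha, hb⟩
      by_cases hR : R = Finset.univ
      · subst hR
        rw [LapR_univ, det_one, forestSum_univ]
      · obtain ⟨v₀, hv₀⟩ : ∃ v₀, v₀ ∉ R := by
          by_contra h
          exact hR (Finset.eq_univ_iff_forall.2 fun v => by_contra fun hv => h ⟨v, hv⟩)
        rw [det_LapR_closed w hcl hv₀, forestSum_closed w hcl hv₀]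

lemma LapR_singleton (S : Finset E) (r : V) :
    LapR ends w {r} S = updateRow (Lap ends w S) r (Pi.single r 1) := by
  ext v j
  by_cases hv : v = r
  · subst hv
    simp [LapR]
  · rw [updateRow_ne hv]
    simp [LapR, hv]

/-- **Matrix-tree theorem**: every cofactor of the Laplacian is the weighted tree count. -/
theorem adjugate_Lap (S : Finset E) (i j : V) :
    adjugate (Lap ends w S) j i = forestSum (ends := ends) w {i} S := by
  have hk : Lap ends w S *ᵥ (fun _ => (1 : K)) = 0 := by
    funext v
    simp only [mulVec, dotProduct, Pi.zero_apply]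
    exact Lap_mulVec_eq_zero w S _ (fun _ _ => rfl) v
  have h := adjugate_of_mulVec_eq_zero (Lap ends w S) _ hk i j
  simp only [one_mul] at h
  rw [h, adjugate_apply, ← LapR_singleton, det_LapR]

theorem det_Lap [Nonempty V] (S : Finset E) : det (Lap ends w S) = 0 := by
  refine (exists_mulVec_eq_zero_iff).1 ⟨fun _ => (1 : K), ?_, ?_⟩
  · intro h
    have := congrFun h (Classical.arbitrary V)
    simp at this
  · funext v
    simp only [mulVec, dotProduct, Pi.zero_apply]
    exact Lap_mulVec_eq_zero w S _ (fun _ _ => rfl) v

/-- rank-one perturbation of the Laplacian -/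
theorem det_Lap_add [Nonempty V] (S : Finset E) (y : V → K) :
    det (Lap ends w S + vecMulVec y y) =
      ∑ i, ∑ j, y i * y j * forestSum (ends := ends) w {i} S := by
  rw [det_add_vecMulVec, det_Lap, zero_add]
  refine Finset.sum_congr rfl fun i _ => Finset.sum_congr rfl fun j _ => ?_
  rw [adjugate_Lap]

end Groth.Agent.Lib.Helper8.MTree
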