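import Mathlib
import Groth.Agent.Lib.Helper8.MTree3

set_option autoImplicit false
set_option linter.unusedSectionVars false
set_option backward.isDefEq.respectTransparency.types false

/-!
# Matrix-tree development, part 4: spanning trees in the prelude's sense

`LabGraph.IsSpanningTree ends T` (connected, no circuit, on the subtype `↥T`) agrees with
`IsRF ends {r} T`; for such `T` the neighbour count `LabGraph.nbrCount` is the degree.
-/

universe u

namespace Groth.Agent.Lib.Helper8.MTree

open Finset

section Forest

variable {V E : Type u} [Fintype V] [Fintype E] [DecidableEq V] [DecidableEq E]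
variable (ends : E → V × V)

/-- a multigraph is a forest iff it has no nonempty edge set with all degrees even -/
lemma isForest_iff : DualGr.IsForest ends ↔
    ∀ C : Finset E, (∀ v, Even (LabGraph.endCount ends C v)) → C = ∅ := by
  constructor
  · intro hF C
    induction C using Finset.strongInduction with
    | H C ih =>
      intro hev
      by_contra hne
      have hne' : C.Nonempty := Finset.nonempty_iff_ne_empty.2 hne
      have hnc := hF C
      unfold LabGraph.IsCircuit at hnc
      simp only [not_and, not_forall] at hnc
      obtain ⟨C', hC', hC'ne, hC'ev⟩ := hnc hne' hev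
      have hall : ∀ v, Even (LabGraph.endCount ends C' v) := by
        intro v
        by_contra hv
        exact hC'ev ⟨v, hv⟩
      exact (Finset.nonempty_iff_ne_empty.1 hC'ne) (ih C' hC' hall)
  · intro h C hC
    exact (Finset.nonempty_iff_ne_empty.1 hC.1) (h C hC.2.1)

lemma endCount_subtype (T : Finset E) (C : Finset T) (v : V) :
    LabGraph.endCount (fun e : T => ends e.1) C v =
      LabGraph.endCount ends (C.map (Function.Embedding.subtype _)) v := by
  unfold LabGraph.endCount
  rw [Finset.sum_map]
  rfl

lemma isForest_subtype_iff (T : Finset E) :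
    DualGr.IsForest (V := V) (fun e : T => ends e.1) ↔ Acyc ends T := by
  rw [isForest_iff]
  constructor
  · intro h C₀ hC₀ hpar
    have h1 := h (C₀.subtype (· ∈ T))
    have hmap : (C₀.subtype (· ∈ T)).map (Function.Embedding.subtype _) = C₀ := by
      rw [Finset.subtype_map]
      exact Finset.filter_true_of_mem fun x hx => hC₀ hx
    have h2 : C₀.subtype (· ∈ T) = ∅ := by
      apply h1
      intro v
      rw [endCount_subtype, hmap]
      exact (par_eq_zero_iff ends C₀).1 hpar v
    rw [← hmap, h2, Finset.map_empty]
  · intro h C hev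
    have hsub : C.map (Function.Embedding.subtype _) ⊆ T := by
      intro x hx
      obtain ⟨y, _, rfl⟩ := Finset.mem_map.1 hx
      exact y.2
    have := h _ hsub ((par_eq_zero_iff ends _).2 fun v => by rw [← endCount_subtype]; exact hev v)
    exact Finset.map_eq_empty.1 this

lemma isSpanningTree_iff (T : Finset E) (r : V) :
    LabGraph.IsSpanningTree ends T ↔ IsRF ends {r} T := by
  unfold LabGraph.IsSpanningTree DualGr.IsTree
  rw [isForest_subtype_iff]
  unfold IsRF
  constructor
  · rintro ⟨⟨_, hconn⟩, hac⟩
    refine ⟨hac, fun v => ⟨r, Finset.mem_singleton_self _, ?_⟩, ?_⟩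
    · refine Relation.ReflTransGen.mono ?_ _ _ (hconn v r)
      rintro a b ⟨e, he⟩
      exact ⟨e.1, e.2, he⟩
    · intro r₁ hr₁ r₂ hr₂ _
      rw [Finset.mem_singleton.1 hr₁, Finset.mem_singleton.1 hr₂]
  · rintro ⟨hac, hex, _⟩
    refine ⟨⟨⟨r⟩, fun v w => ?_⟩, hac⟩
    have hv : Conn ends T v r := by
      obtain ⟨r', hr', h⟩ := hex v
      rwa [Finset.mem_singleton.1 hr'] at h
    have hw : Conn ends T w r := by
      obtain ⟨r', hr', h⟩ := hex w
      rwa [Finset.mem_singleton.1 hr'] at h
    refine Relation.ReflTransGen.mono ?_ _ _ (hv.trans hw.symm)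
    rintro a b ⟨e, he, hj⟩
    exact ⟨⟨e, he⟩, hj⟩

variable {ends}

lemma Acyc.no_loop {T : Finset E} (h : Acyc ends T) {e : E} (he : e ∈ T) :
    (ends e).1 ≠ (ends e).2 := by
  intro hl
  have hpar : par ends {e} = 0 := by
    have := par_insert ends (Finset.notMem_empty e)
    rw [par_empty, add_zero] at this
    rw [show ({e} : Finset E) = insert e ∅ from rfl, this, pe, hl, zmod2_add_self]
  exact Finset.singleton_ne_empty _ (h {e} (Finset.singleton_subset_iff.2 he) hpar)

lemma Acyc.no_parallel {T : Finset E} (h : Acyc ends T) {e e' : E} (he : e ∈ T) (he' : e' ∈ T)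
    {a b : V} (hj : Joins ends e a b) (hj' : Joins ends e' a b) : e = e' := by
  by_contra hne
  have hpar : par ends {e, e'} = 0 := by
    have h1 : e ∉ ({e'} : Finset E) := by simpa using hne
    rw [par_insert ends h1]
    have := par_insert ends (Finset.notMem_empty e')
    rw [par_empty, add_zero] at this
    rw [show ({e'} : Finset E) = insert e' ∅ from rfl, this, pe_of_joins ends hj,
      pe_of_joins ends hj', zmod2_add_self]
  have hsub : ({e, e'} : Finset E) ⊆ T := by
    intro x hx
    rcases Finset.mem_insert.1 hx with rfl | hx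
    · exact he
    · rw [Finset.mem_singleton.1 hx]; exact he'
  exact Finset.insert_ne_empty _ _ (h _ hsub hpar)

/-- in a forest the neighbour count is the degree -/
lemma nbrCount_eq_endCount {T : Finset E} (h : Acyc ends T) (v : V) :
    LabGraph.nbrCount ends T v = LabGraph.endCount ends T v := by
  classical
  set Tv : Finset E := T.filter (fun e => (ends e).1 = v ∨ (ends e).2 = v) with hTv
  have h1 : LabGraph.endCount ends T v = Tv.card := by
    unfold LabGraph.endCount
    rw [hTv, Finset.card_filter]
    refine Finset.sum_congr rfl fun e he => ?_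
    have hl := h.no_loop he
    by_cases h1 : (ends e).1 = v
    · have h2 : (ends e).2 ≠ v := fun h2 => hl (h1.trans h2.symm)
      simp [h1, h2]
    · by_cases h2 : (ends e).2 = v
      · simp [h1, h2]
      · simp [h1, h2]
  rw [h1]
  unfold LabGraph.nbrCount
  set other : E → V := fun e => if (ends e).1 = v then (ends e).2 else (ends e).1 with hother
  have hjo : ∀ e ∈ Tv, Joins ends e v (other e) ∧ other e ≠ v := by
    intro e he
    obtain ⟨heT, hev⟩ := Finset.mem_filter.1 he
    have hl := h.no_loop heT
    by_cases h1 : (ends e).1 = v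
    · simp only [hother, if_pos h1]
      refine ⟨Or.inl (by rw [← h1]), fun h2 => hl (h1.trans h2.symm)⟩
    · have h2 : (ends e).2 = v := hev.resolve_left h1
      simp only [hother, if_neg h1]
      exact ⟨Or.inr (by rw [← h2]), h1⟩
  have himg : (Finset.univ.filter fun w : V => w ≠ v ∧ ∃ e ∈ T, ends e = (v, w) ∨ ends e = (w, v)) =
      Tv.image other := by
    ext w
    simp only [Finset.mem_filter, Finset.mem_univ, true_and, Finset.mem_image]
    constructor
    · rintro ⟨hwv, e, heT, hj⟩
      have heTv : e ∈ Tv := by
        rw [hTv, Finset.mem_filter]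
        refine ⟨heT, ?_⟩
        rcases hj with hj | hj <;> simp [hj]
      refine ⟨e, heTv, ?_⟩
      rcases hj with hj | hj
      · simp [hother, hj]
      · simp [hother, hj, hwv]
    · rintro ⟨e, heTv, rfl⟩
      obtain ⟨hj, hne⟩ := hjo e heTv
      exact ⟨hne, e, (Finset.mem_filter.1 heTv).1, hj⟩
  rw [himg, Finset.card_image_of_injOn]
  intro e he e' he' hoe
  have h1 := (hjo e he).1
  have h2 := (hjo e' he').1
  rw [← hoe] at h2
  exact h.no_parallel (Finset.mem_filter.1 he).1 (Finset.mem_filter.1 he').1 h1 h2

omit [Fintype E] in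
/-- product over the edges of the endpoint values = product over vertices of degree powers -/
lemma prod_edges_eq {M : Type*} [CommMonoid M] (f : V → M) (T : Finset E) :
    ∏ e ∈ T, (f (ends e).1 * f (ends e).2) = ∏ v, f v ^ LabGraph.endCount ends T v := by
  unfold LabGraph.endCount
  simp_rw [← Finset.prod_pow_eq_pow_sum, pow_add]
  rw [Finset.prod_comm]
  refine Finset.prod_congr rfl fun e _ => ?_
  rw [Finset.prod_mul_distrib, Finset.prod_pow_boole, Finset.prod_pow_boole]
  simp

end Forest

end Groth.Agent.Lib.Helper8.MTree
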