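import Mathlib
import Groth.Agent.Lib.Helper8.MTree4

set_option autoImplicit false
set_option linter.unusedSectionVars false
set_option backward.isDefEq.respectTransparency.types false

/-!
# Matrix-tree development, part 7: circuits and spanning trees avoiding an edge
-/

universe u

namespace Groth.Agent.Lib.Helper8.MTree

open Finset

variable {V E : Type u} [Fintype V] [Fintype E] [DecidableEq V] [DecidableEq E]
variable {ends : E → V × V}

/-- every nonempty even edge set contains a circuit -/
lemma exists_circuit_subset (C : Finset E) (hne : C.Nonempty) (hpar : par ends C = 0) :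
    ∃ C₀ ⊆ C, LabGraph.IsCircuit ends C₀ := by
  induction C using Finset.strongInduction with
  | H C ih =>
    by_cases hC : LabGraph.IsCircuit ends C
    · exact ⟨C, Finset.Subset.refl _, hC⟩
    · unfold LabGraph.IsCircuit at hC
      simp only [not_and, not_forall] at hC
      obtain ⟨C', hC', hC'ne, hC'ev⟩ := hC hne ((par_eq_zero_iff ends C).1 hpar)
      have hall : ∀ v, Even (LabGraph.endCount ends C' v) := by
        intro v
        by_contra hv
        exact hC'ev ⟨v, hv⟩
      obtain ⟨C₀, hC₀, hcirc⟩ := ih C' hC' hC'ne ((par_eq_zero_iff ends C').2 hall)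
      exact ⟨C₀, hC₀.trans hC'.subset, hcirc⟩

/-- adding an edge between two different components keeps a forest a forest -/
lemma Acyc.insert_of_not_conn {T : Finset E} (hT : Acyc ends T) {e : E} {a b : V}
    (hj : Joins ends e a b) (hab : ¬ Conn ends T a b) : Acyc ends (insert e T) := by
  intro C hC hpar
  by_cases heC : e ∈ C
  · exfalso
    have hsub : C.erase e ⊆ T := by
      intro x hx
      obtain ⟨hxe, hxC⟩ := Finset.mem_erase.1 hx
      rcases Finset.mem_insert.1 (hC hxC) with h | h
      · exact absurd h hxe
      · exact h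
    have hp : par ends (C.erase e) = Pi.single a 1 + Pi.single b 1 := by
      rw [par_erase ends heC, hpar, add_zero, pe_of_joins ends hj]
    exact hab ((conn_of_par ends hp).mono hsub)
  · refine hT C ?_ hpar
    intro x hx
    rcases Finset.mem_insert.1 (hC hx) with h | h
    · exact absurd (h ▸ hx) heC
    · exact h

/-- in an edge set `S` connecting everything, every forest inside `S` extends to a spanning tree
inside `S` -/
lemma exists_tree_extension {S F : Finset E} (hFS : F ⊆ S) (hF : Acyc ends F)
    (hS : ∀ v w : V, Conn ends S v w) :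
    ∃ T, F ⊆ T ∧ T ⊆ S ∧ Acyc ends T ∧ ∀ v w : V, Conn ends T v w := by
  classical
  set 𝒜 : Finset (Finset E) := S.powerset.filter (fun T => F ⊆ T ∧ Acyc ends T) with h𝒜
  have hne : 𝒜.Nonempty := ⟨F, by simp [h𝒜, hFS, hF]⟩
  obtain ⟨T, hT𝒜, hmax⟩ := 𝒜.exists_maximal hne
  simp only [h𝒜, Finset.mem_filter, Finset.mem_powerset] at hT𝒜
  obtain ⟨hTS, hFT, hTac⟩ := hT𝒜
  refine ⟨T, hFT, hTS, hTac, ?_⟩
  intro v w
  by_contra hvw
  -- find an edge of `S` leaving the `T`-component of `v`
  have : ∀ x, Conn ends S v x → ¬ Conn ends T v x →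
      ∃ e ∈ S, ∃ a b, Joins ends e a b ∧ Conn ends T v a ∧ ¬ Conn ends T v b := by
    intro x hx
    induction hx with
    | refl => intro h; exact absurd (Conn.refl _ _) h
    | @tail x y _ hxy ih =>
      intro hy
      by_cases hx : Conn ends T v x
      · obtain ⟨e, he, hj⟩ := hxy
        exact ⟨e, he, x, y, hj, hx, hy⟩
      · exact ih hx
  obtain ⟨e, heS, a, b, hj, hva, hvb⟩ := this w (hS v w) hvw
  have hab : ¬ Conn ends T a b := fun h => hvb (hva.trans h)
  have heT : e ∉ T := fun h => hab (Conn.of_joins h hj)
  have hins : insert e T ∈ 𝒜 := by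
    simp only [h𝒜, Finset.mem_filter, Finset.mem_powerset]
    refine ⟨?_, hFT.trans (Finset.subset_insert _ _), hTac.insert_of_not_conn hj hab⟩
    intro x hx
    rcases Finset.mem_insert.1 hx with rfl | hx
    · exact heS
    · exact hTS hx
  exact heT (hmax hins (Finset.subset_insert _ _) (Finset.mem_insert_self _ _))

lemma conn_univ_of_connected (hG : LabGraph.Connected ends) (v w : V) :
    Conn ends Finset.univ v w := by
  refine Relation.ReflTransGen.mono ?_ _ _ (hG.2 v w)
  rintro a b ⟨e, he⟩
  exact ⟨e, Finset.mem_univ _, he⟩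

/-- **Vertices on cycles**: in a connected multigraph, `v` lies on a circuit iff some spanning
tree misses an edge at `v`. -/
theorem mem_circuit_iff (hG : LabGraph.Connected ends) (v : V) :
    (∃ C : Finset E, LabGraph.IsCircuit ends C ∧ LabGraph.endCount ends C v ≠ 0) ↔
      ∃ T : Finset E, LabGraph.IsSpanningTree ends T ∧
        ∃ e : E, e ∉ T ∧ ((ends e).1 = v ∨ (ends e).2 = v) := by
  constructor
  · rintro ⟨C, hC, hv⟩
    obtain ⟨hCne, hCev, hCmin⟩ := hC
    -- an edge of `C` at `v`
    obtain ⟨e₀, he₀C, he₀v⟩ : ∃ e₀ ∈ C, (ends e₀).1 = v ∨ (ends e₀).2 = v := by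
      unfold LabGraph.endCount at hv
      obtain ⟨e₀, he₀, hne⟩ := Finset.exists_ne_zero_of_sum_ne_zero hv
      refine ⟨e₀, he₀, ?_⟩
      by_contra h
      push Not at h
      simp [h.1, h.2] at hne
    set a := (ends e₀).1 with ha
    set b := (ends e₀).2 with hb
    have hj : Joins ends e₀ a b := Or.inl rfl
    have hparC : par ends C = 0 := (par_eq_zero_iff ends C).2 hCev
    have hF : Acyc ends (C.erase e₀) := by
      intro C' hC' hpar'
      by_contra hne'
      have hss : C' ⊂ C := by
        refine Finset.ssubset_of_subset_of_ssubset hC' (Finset.erase_ssubset he₀C)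
      obtain ⟨x, hx⟩ := hCmin C' hss (Finset.nonempty_iff_ne_empty.2 hne')
      exact hx ((par_eq_zero_iff ends C').1 hpar' x)
    have hab : Conn ends (Finset.univ.erase e₀) a b := by
      have hp : par ends (C.erase e₀) = Pi.single a 1 + Pi.single b 1 := by
        rw [par_erase ends he₀C, hparC, add_zero, pe_of_joins ends hj]
      refine (conn_of_par ends hp).mono ?_
      exact Finset.erase_subset_erase _ (Finset.subset_univ _)
    have hS : ∀ x y : V, Conn ends (Finset.univ.erase e₀) x y := by
      intro x y
      have := conn_univ_of_connected hG x y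
      induction this with
      | refl => exact Conn.refl _ _
      | @tail y z _ hyz ih =>
        obtain ⟨e', _, hj'⟩ := hyz
        by_cases hee : e' = e₀
        · subst hee
          rcases hj' with h | h
          · have h1 : y = a := by rw [ha, h]
            have h2 : z = b := by rw [hb, h]
            rw [h1] at ih; rw [h2]
            exact ih.trans hab
          · have h1 : z = a := by rw [ha, h]
            have h2 : y = b := by rw [hb, h]
            rw [h2] at ih; rw [h1]
            exact ih.trans hab.symm
        · exact ih.trans (Conn.of_joins (Finset.mem_erase.2 ⟨hee, Finset.mem_univ _⟩) hj')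
    obtain ⟨T, _, hTS, hTac, hTconn⟩ := exists_tree_extension
      (Finset.erase_subset_erase _ (Finset.subset_univ C)) hF hS
    refine ⟨T, ?_, e₀, fun h => (Finset.mem_erase.1 (hTS h)).1 rfl, he₀v⟩
    rw [isSpanningTree_iff ends T v]
    refine ⟨hTac, fun x => ⟨v, Finset.mem_singleton_self _, hTconn x v⟩, ?_⟩
    intro r₁ hr₁ r₂ hr₂ _
    rw [Finset.mem_singleton.1 hr₁, Finset.mem_singleton.1 hr₂]
  · rintro ⟨T, hT, e, heT, hev⟩
    rw [isSpanningTree_iff ends T v] at hT
    obtain ⟨hTac, hTex, _⟩ := hT
    have hpos : 0 < (if (ends e).1 = v then 1 else 0) + (if (ends e).2 = v then 1 else 0) := by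
      rcases hev with h | h
      · simp [h]
      · simp [h]
    have hconn : ∀ x, Conn ends T x v := by
      intro x
      obtain ⟨r, hr, h⟩ := hTex x
      rwa [Finset.mem_singleton.1 hr] at h
    set a := (ends e).1 with ha
    set b := (ends e).2 with hb
    have hj : Joins ends e a b := Or.inl rfl
    obtain ⟨P, hPT, hP⟩ := exists_par_of_conn ends ((hconn a).trans (hconn b).symm)
    have heP : e ∉ P := fun h => heT (hPT h)
    have hpar : par ends (insert e P) = 0 := by
      rw [par_insert ends heP, hP, pe_of_joins ends hj, zmod2_add_self]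
    obtain ⟨C₀, hC₀, hcirc⟩ := exists_circuit_subset (insert e P) (Finset.insert_nonempty _ _) hpar
    have heC₀ : e ∈ C₀ := by
      by_contra h
      have hsub : C₀ ⊆ T := by
        intro x hx
        rcases Finset.mem_insert.1 (hC₀ hx) with rfl | hx'
        · exact absurd hx h
        · exact hPT hx'
      have := hTac C₀ hsub ((par_eq_zero_iff ends C₀).2 hcirc.2.1)
      exact (Finset.nonempty_iff_ne_empty.1 hcirc.1) this
    refine ⟨C₀, hcirc, ?_⟩
    unfold LabGraph.endCount
    have hle := Finset.single_le_sum (f := fun e' : E =>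
      (if (ends e').1 = v then 1 else 0) + (if (ends e').2 = v then 1 else 0))
      (fun _ _ => Nat.zero_le _) heC₀
    exact (lt_of_lt_of_le hpos hle).ne'

end Groth.Agent.Lib.Helper8.MTree
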