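import Mathlib

/-!
# Kernels of evaluation maps `S[X] → K`, `X ↦ ψ r / ψ w` (helper8 library)

If `(w, α) + ker ψ` is prime and does not contain `r`, where `α r = β w` modulo `ker ψ`, then the
kernel of the evaluation map is generated by `ker ψ` and the two linear forms `w X - r`, `α X - β`.
-/

set_option backward.isDefEq.respectTransparency.types false
set_option autoImplicit false

namespace Groth.Agent.Lib.Helper8.LinTower

open Polynomial

variable {S K : Type*} [CommRing S] [Field K] (ψ : S →+* K)

/-- evaluation `S[X] → K` at the point `ψ r / ψ w`. -/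
noncomputable def ev (w r : S) : S[X] →+* K := Polynomial.eval₂RingHom ψ (ψ r / ψ w)

@[simp] theorem ev_C (w r : S) (s : S) : ev ψ w r (C s) = ψ s := by simp [ev]

@[simp] theorem ev_X (w r : S) : ev ψ w r X = ψ r / ψ w := by simp [ev]

/-- homogenization identity -/
theorem map_pow_mul_ev (w r : S) (hw : ψ w ≠ 0) (P : S[X]) (N : ℕ) (hN : P.natDegree ≤ N) :
    ψ w ^ N * ev ψ w r P =
      ψ (∑ k ∈ Finset.range (N + 1), P.coeff k * r ^ k * w ^ (N - k)) := by
  have h1 : ev ψ w r P = ∑ k ∈ Finset.range (N + 1), ψ (P.coeff k) * (ψ r / ψ w) ^ k := by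
    simp only [ev, Polynomial.coe_eval₂RingHom]
    rw [Polynomial.eval₂_eq_sum_range' ψ (Nat.lt_succ_of_le hN)]
  rw [h1, Finset.mul_sum, map_sum]
  refine Finset.sum_congr rfl fun k hk => ?_
  have hk' : k ≤ N := Nat.lt_succ_iff.mp (Finset.mem_range.mp hk)
  rw [map_mul, map_mul, map_pow, map_pow, div_pow]
  have : ψ w ^ N = ψ w ^ k * ψ w ^ (N - k) := by rw [← pow_add, Nat.add_sub_cancel' hk']
  rw [this]
  field_simp

theorem ker_ev_le (w r α β : S) (hw : ψ w ≠ 0) (hαβ : ψ α * ψ r = ψ β * ψ w)
    (hprime : (Ideal.span {w, α} ⊔ RingHom.ker ψ).IsPrime)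
    (hr : r ∉ Ideal.span {w, α} ⊔ RingHom.ker ψ) :
    RingHom.ker (ev ψ w r) ≤
      (RingHom.ker ψ).map (C : S →+* S[X]) ⊔ Ideal.span {C w * X - C r, C α * X - C β} := by
  set 𝔎 : Ideal S[X] :=
    (RingHom.ker ψ).map (C : S →+* S[X]) ⊔ Ideal.span {C w * X - C r, C α * X - C β} with h𝔎
  have hg1 : C w * X - C r ∈ 𝔎 := Ideal.mem_sup_right (Ideal.subset_span (by simp))
  have hg2 : C α * X - C β ∈ 𝔎 := Ideal.mem_sup_right (Ideal.subset_span (by simp))
  have hg3 : ∀ k ∈ RingHom.ker ψ, C k ∈ 𝔎 := fun k hk =>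
    Ideal.mem_sup_left (Ideal.mem_map_of_mem _ hk)
  suffices H : ∀ (n : ℕ) (P : S[X]), P.natDegree ≤ n → ev ψ w r P = 0 → P ∈ 𝔎 by
    intro P hP
    exact H P.natDegree P le_rfl hP
  intro n
  induction n with
  | zero =>
    intro P hdeg hP
    rw [Polynomial.eq_C_of_natDegree_le_zero hdeg] at hP ⊢
    rw [ev_C] at hP
    exact hg3 _ hP
  | succ n ih =>
    intro P hdeg hP
    set x := P.coeff (n + 1) with hx
    have h1 := map_pow_mul_ev ψ w r hw P (n + 1) hdeg
    rw [hP, mul_zero] at h1
    rw [Finset.sum_range_succ] at h1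
    have h2 : ∑ k ∈ Finset.range (n + 1), P.coeff k * r ^ k * w ^ (n + 1 - k) =
        w * ∑ k ∈ Finset.range (n + 1), P.coeff k * r ^ k * w ^ (n - k) := by
      rw [Finset.mul_sum]
      refine Finset.sum_congr rfl fun k hk => ?_
      have hk' : k ≤ n := Nat.lt_succ_iff.mp (Finset.mem_range.mp hk)
      have : n + 1 - k = (n - k) + 1 := by omega
      rw [this, pow_succ]; ring
    rw [h2, Nat.sub_self, pow_zero, mul_one] at h1
    -- x * r^(n+1) ∈ 𝔫
    have h3 : x * r ^ (n + 1) ∈ Ideal.span {w, α} ⊔ RingHom.ker ψ := by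
      set y := ∑ k ∈ Finset.range (n + 1), P.coeff k * r ^ k * w ^ (n - k) with hy
      have : x * r ^ (n + 1) = (- y) * w + (w * y + x * r ^ (n + 1)) := by ring
      rw [this]
      refine Ideal.add_mem _ (Ideal.mem_sup_left ?_) (Ideal.mem_sup_right ?_)
      · exact Ideal.mul_mem_left _ _ (Ideal.subset_span (by simp))
      · rw [RingHom.mem_ker]; exact h1.symm
    have h4 : x ∈ Ideal.span {w, α} ⊔ RingHom.ker ψ := by
      rcases hprime.mem_or_mem h3 with h | h
      · exact h
      · exact absurd (hprime.mem_of_pow_mem _ h) hr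
    obtain ⟨y, hy, k, hk, hyk⟩ := Submodule.mem_sup.mp h4
    obtain ⟨a, b, hab⟩ := Ideal.mem_span_pair.mp hy
    set P' : S[X] := P - X ^ n * (C a * (C w * X - C r) + C b * (C α * X - C β)) - C k * X ^ (n + 1)
      with hP'
    have hP'mem : P - P' ∈ 𝔎 := by
      have : P - P' = X ^ n * (C a * (C w * X - C r) + C b * (C α * X - C β)) + C k * X ^ (n + 1) := by
        rw [hP']; ring
      rw [this]
      refine Ideal.add_mem _ (Ideal.mul_mem_left _ _ (Ideal.add_mem _ (Ideal.mul_mem_left _ _ hg1)
        (Ideal.mul_mem_left _ _ hg2))) (Ideal.mul_mem_right _ _ (hg3 k hk))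
    have hP'ev : ev ψ w r P' = 0 := by
      have e1 : ev ψ w r (C w * X - C r) = 0 := by
        rw [map_sub, map_mul, ev_C, ev_C, ev_X]; field_simp; ring
      have e2 : ev ψ w r (C α * X - C β) = 0 := by
        rw [map_sub, map_mul, ev_C, ev_C, ev_X]
        field_simp
        rw [hαβ]; ring
      have e3 : ev ψ w r (C k) = 0 := by rw [ev_C]; exact hk
      rw [hP', map_sub, map_sub, map_mul, map_mul, map_add, map_mul, map_mul, e1, e2, e3, hP]
      ring
    have hP'deg : P'.natDegree ≤ n := by
      have hdeg' : P'.natDegree ≤ n + 1 := by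
        rw [hP']
        refine (Polynomial.natDegree_sub_le _ _).trans (max_le ((Polynomial.natDegree_sub_le _ _).trans
          (max_le hdeg ?_)) ?_)
        · refine (Polynomial.natDegree_mul_le).trans ?_
          have : (C a * (C w * X - C r) + C b * (C α * X - C β)).natDegree ≤ 1 := by
            refine (Polynomial.natDegree_add_le _ _).trans (max_le ?_ ?_)
            · refine (Polynomial.natDegree_C_mul_le _ _).trans ?_
              refine (Polynomial.natDegree_sub_le _ _).trans (max_le ?_ (by rw [Polynomial.natDegree_C]; omega))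
              exact (Polynomial.natDegree_C_mul_le _ _).trans Polynomial.natDegree_X_le
            · refine (Polynomial.natDegree_C_mul_le _ _).trans ?_
              refine (Polynomial.natDegree_sub_le _ _).trans (max_le ?_ (by rw [Polynomial.natDegree_C]; omega))
              exact (Polynomial.natDegree_C_mul_le _ _).trans Polynomial.natDegree_X_le
          have h2 : (X ^ n : S[X]).natDegree ≤ n := Polynomial.natDegree_X_pow_le n
          omega
        · exact (Polynomial.natDegree_C_mul_le _ _).trans (Polynomial.natDegree_X_pow_le _)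
      have hcoeff : P'.coeff (n + 1) = 0 := by
        rw [hP']
        simp only [Polynomial.coeff_sub, Polynomial.coeff_C_mul, Polynomial.coeff_X_pow,
          if_true]
        have : (X ^ n * (C a * (C w * X - C r) + C b * (C α * X - C β)) : S[X]).coeff (n + 1) =
            a * w + b * α := by
          have e : (X ^ n * (C a * (C w * X - C r) + C b * (C α * X - C β)) : S[X]) =
              C (a * w + b * α) * X ^ (n + 1) - C (a * r + b * β) * X ^ n := by
            simp only [map_add, map_mul]; ring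
          rw [e, Polynomial.coeff_sub, Polynomial.coeff_C_mul, Polynomial.coeff_C_mul,
            Polynomial.coeff_X_pow, Polynomial.coeff_X_pow]
          simp
        rw [this, ← hx, ← hyk, ← hab]
        ring
      by_contra hlt
      rw [not_le] at hlt
      have : P'.natDegree = n + 1 := le_antisymm hdeg' hlt
      have hne : P' ≠ 0 := by
        intro h0; rw [h0] at this; simp at this
      have := Polynomial.leadingCoeff_ne_zero.mpr hne
      rw [Polynomial.leadingCoeff, ‹P'.natDegree = n + 1›] at this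
      exact this hcoeff
    have := ih P' hP'deg hP'ev
    have e : P = P' + (P - P') := by ring
    rw [e]
    exact Ideal.add_mem _ this hP'mem

theorem ker_ev (w r α β : S) (hw : ψ w ≠ 0) (hαβ : ψ α * ψ r = ψ β * ψ w)
    (hprime : (Ideal.span {w, α} ⊔ RingHom.ker ψ).IsPrime)
    (hr : r ∉ Ideal.span {w, α} ⊔ RingHom.ker ψ) :
    RingHom.ker (ev ψ w r) =
      (RingHom.ker ψ).map (C : S →+* S[X]) ⊔ Ideal.span {C w * X - C r, C α * X - C β} := by
  refine le_antisymm (ker_ev_le ψ w r α β hw hαβ hprime hr) ?_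
  refine sup_le ?_ ?_
  · rw [Ideal.map_le_iff_le_comap]
    intro k hk
    rw [Ideal.mem_comap, RingHom.mem_ker, ev_C]
    exact hk
  · rw [Ideal.span_le]
    intro P hP
    rcases hP with rfl | rfl
    · rw [SetLike.mem_coe, RingHom.mem_ker, map_sub, map_mul, ev_C, ev_C, ev_X]
      field_simp; ring
    · rw [SetLike.mem_coe, RingHom.mem_ker, map_sub, map_mul, ev_C, ev_C, ev_X]
      field_simp
      rw [hαβ]; ring


theorem ker_ev_isPrime (w r : S) : (RingHom.ker (ev ψ w r)).IsPrime := RingHom.ker_isPrime _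

/-- the version without the second linear form. -/
theorem ker_ev' (w r : S) (hw : ψ w ≠ 0)
    (hprime : (Ideal.span {w} ⊔ RingHom.ker ψ).IsPrime)
    (hr : r ∉ Ideal.span {w} ⊔ RingHom.ker ψ) :
    RingHom.ker (ev ψ w r) =
      (RingHom.ker ψ).map (C : S →+* S[X]) ⊔ Ideal.span {C w * X - C r} := by
  have e1 : (Ideal.span {w, 0} : Ideal S) = Ideal.span {w} := by
    rw [Ideal.span_insert, Ideal.span_singleton_eq_bot.mpr rfl, sup_bot_eq]
  have h := ker_ev ψ w r 0 0 hw (by simp) (by rwa [e1]) (by rwa [e1])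
  rw [h]
  congr 1
  rw [Ideal.span_insert]
  have : (C (0 : S) * X - C 0 : S[X]) = 0 := by simp
  rw [this, Ideal.span_singleton_eq_bot.mpr rfl, sup_bot_eq]

/-- kernel of evaluation at `0`. -/
theorem ker_eval₂_zero :
    RingHom.ker (Polynomial.eval₂RingHom ψ 0) =
      (RingHom.ker ψ).map (C : S →+* S[X]) ⊔ Ideal.span {(X : S[X])} := by
  apply le_antisymm
  · intro P hP
    rw [RingHom.mem_ker, Polynomial.coe_eval₂RingHom, Polynomial.eval₂_at_zero] at hP
    have : P = C (P.coeff 0) + X * P.divX := by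
      conv_lhs => rw [← Polynomial.divX_mul_X_add P]
      ring
    rw [this]
    refine Ideal.add_mem _ (Ideal.mem_sup_left (Ideal.mem_map_of_mem _ hP))
      (Ideal.mem_sup_right (Ideal.mul_mem_right _ _ (Ideal.subset_span rfl)))
  · refine sup_le ?_ ?_
    · rw [Ideal.map_le_iff_le_comap]
      intro k hk
      rw [Ideal.mem_comap, RingHom.mem_ker, Polynomial.coe_eval₂RingHom, Polynomial.eval₂_C]
      exact hk
    · rw [Ideal.span_le, Set.singleton_subset_iff, SetLike.mem_coe, RingHom.mem_ker,
        Polynomial.coe_eval₂RingHom, Polynomial.eval₂_X]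

end Groth.Agent.Lib.Helper8.LinTower
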