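import Mathlib
import Groth.Agent.Lib.Helper8.LinTower
import Groth.Prelude.Def_W4c1bouilletffgsL3

/-!
# The moduli of based three-dimensional Lie algebras: the ideal `J = (Q1,Q2,Q3,det M)` is prime
(helper8 library)
-/

set_option backward.isDefEq.respectTransparency.types false
set_option autoImplicit false
set_option maxSynthPendingDepth 4
set_option linter.unusedSectionVars false

universe u

namespace Groth.Agent.Lib.Helper8.Lie3

open Groth.Agent.Lib.Helper8.LinTower

variable (A : Type u) [CommRing A]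

/-- the base polynomial ring in `u, v, w, f, h, i`. -/
abbrev R0 : Type u := MvPolynomial (Fin 6) A

variable {A}

noncomputable abbrev xu : R0 A := MvPolynomial.X 0
noncomputable abbrev xv : R0 A := MvPolynomial.X 1
noncomputable abbrev xw : R0 A := MvPolynomial.X 2
noncomputable abbrev xf : R0 A := MvPolynomial.X 3
noncomputable abbrev xh : R0 A := MvPolynomial.X 4
noncomputable abbrev xi : R0 A := MvPolynomial.X 5

/-- `r1 = h u + i w`. -/
noncomputable def r1 : R0 A := xh * xu + xi * xw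
/-- `r2 = -h v + (v - f) w`. -/
noncomputable def r2 : R0 A := -(xh * xv) + (xv - xf) * xw
/-- `r3 = f u + i v`. -/
noncomputable def r3 : R0 A := xf * xu + xi * xv

/-- set the variables in `s` to zero. -/
noncomputable def kill (s : Finset (Fin 6)) : R0 A →ₐ[A] R0 A :=
  MvPolynomial.aeval (fun j => if j ∈ s then 0 else MvPolynomial.X j)

theorem kill_X (s : Finset (Fin 6)) (j : Fin 6) :
    kill (A := A) s (MvPolynomial.X j) = if j ∈ s then 0 else MvPolynomial.X j := by
  simp [kill]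

theorem sub_kill_mem (s : Finset (Fin 6)) (P : R0 A) :
    P - kill s P ∈ Ideal.span ((MvPolynomial.X : Fin 6 → R0 A) '' (s : Set (Fin 6))) := by
  induction P using MvPolynomial.induction_on with
  | C a => simp [kill]
  | add p q hp hq =>
    have : p + q - kill s (p + q) = (p - kill s p) + (q - kill s q) := by rw [map_add]; ring
    rw [this]; exact Ideal.add_mem _ hp hq
  | mul_X p j hp =>
    rw [map_mul, kill_X]
    by_cases hj : j ∈ s
    · rw [if_pos hj, mul_zero, sub_zero]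
      exact Ideal.mul_mem_left _ _ (Ideal.subset_span ⟨j, hj, rfl⟩)
    · rw [if_neg hj, ← sub_mul]
      exact Ideal.mul_mem_right _ _ hp

theorem ker_kill (s : Finset (Fin 6)) :
    RingHom.ker (kill (A := A) s).toRingHom =
      Ideal.span ((MvPolynomial.X : Fin 6 → R0 A) '' (s : Set (Fin 6))) := by
  apply le_antisymm
  · intro P hP
    have h := sub_kill_mem s P
    rw [RingHom.mem_ker] at hP
    change kill s P = 0 at hP
    rwa [hP, sub_zero] at h
  · rw [Ideal.span_le]
    rintro _ ⟨j, hj, rfl⟩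
    rw [SetLike.mem_coe, RingHom.mem_ker]
    change kill s (MvPolynomial.X j) = 0
    rw [kill_X, if_pos (Finset.mem_coe.mp hj)]

variable [IsDomain A]

/-- the fraction field of `R0`. -/
abbrev KK (A : Type u) [CommRing A] [IsDomain A] : Type u := FractionRing (R0 A)

/-- `R0 → K` killing the variables in `s`. -/
noncomputable def ψ0 (s : Finset (Fin 6)) : R0 A →+* KK A :=
  (algebraMap (R0 A) (KK A)).comp (kill s).toRingHom

theorem ψ0_apply (s : Finset (Fin 6)) (P : R0 A) :
    ψ0 s P = algebraMap (R0 A) (KK A) (kill s P) := rfl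

theorem ker_ψ0 (s : Finset (Fin 6)) :
    RingHom.ker (ψ0 (A := A) s) =
      Ideal.span ((MvPolynomial.X : Fin 6 → R0 A) '' (s : Set (Fin 6))) := by
  rw [← ker_kill]
  ext P
  rw [RingHom.mem_ker, RingHom.mem_ker, ψ0_apply]
  exact (map_eq_zero_iff _ (IsFractionRing.injective (R0 A) (KK A)))

theorem ψ0_ne_zero (s : Finset (Fin 6)) (P : R0 A) (pt : Fin 6 → A)
    (h : MvPolynomial.eval pt (kill s P) ≠ 0) : ψ0 s P ≠ 0 := by
  rw [ψ0_apply, Ne, map_eq_zero_iff _ (IsFractionRing.injective (R0 A) (KK A))]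
  intro h0
  rw [h0, map_zero] at h
  exact h rfl

theorem isPrime_span_X (s : Finset (Fin 6)) :
    (Ideal.span ((MvPolynomial.X : Fin 6 → R0 A) '' (s : Set (Fin 6)))).IsPrime := by
  rw [← ker_ψ0]
  exact RingHom.ker_isPrime _

local notation "PC" => Polynomial.C
local notation "PX" => Polynomial.X

section towers

variable {A : Type u} [CommRing A] [IsDomain A]

theorem ψ0_X_of_not_mem (s : Finset (Fin 6)) (j : Fin 6) (hj : j ∉ s) :
    ψ0 (A := A) s (MvPolynomial.X j) ≠ 0 := by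
  rw [ψ0_apply, kill_X, if_neg hj, Ne,
    map_eq_zero_iff _ (IsFractionRing.injective (R0 A) (KK A))]
  exact MvPolynomial.X_ne_zero j

theorem span_X_insert (s : Finset (Fin 6)) (j : Fin 6) :
    Ideal.span {(MvPolynomial.X j : R0 A)} ⊔
        Ideal.span ((MvPolynomial.X : Fin 6 → R0 A) '' (s : Set (Fin 6))) =
      Ideal.span ((MvPolynomial.X : Fin 6 → R0 A) '' ((insert j s : Finset (Fin 6)) : Set (Fin 6))) := by
  rw [Finset.coe_insert, Set.image_insert_eq, Ideal.span_insert]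

/-- the generator `v X - r1`. -/
noncomputable def g1 : Polynomial (R0 A) := PC xv * PX - PC r1

/-- first stage: `g ↦ r1 / v` (after killing the variables in `s`). -/
noncomputable def st1 (s : Finset (Fin 6)) : Polynomial (R0 A) →+* KK A := ev (ψ0 s) xv r1

theorem ker_st1 (s : Finset (Fin 6)) (h1 : (1 : Fin 6) ∉ s) (pt : Fin 6 → A)
    (hpt : MvPolynomial.eval pt (kill (insert 1 s) (r1 (A := A))) ≠ 0) :
    RingHom.ker (st1 (A := A) s) =
      (Ideal.span ((MvPolynomial.X : Fin 6 → R0 A) '' (s : Set (Fin 6)))).map PC ⊔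
        Ideal.span {g1} := by
  have hprime : (Ideal.span {(xv : R0 A)} ⊔ RingHom.ker (ψ0 (A := A) s)).IsPrime := by
    rw [ker_ψ0, span_X_insert]
    exact isPrime_span_X _
  have hr : (r1 : R0 A) ∉ Ideal.span {(xv : R0 A)} ⊔ RingHom.ker (ψ0 (A := A) s) := by
    rw [ker_ψ0, span_X_insert, ← ker_ψ0, RingHom.mem_ker]
    exact ψ0_ne_zero _ _ pt hpt
  have := ker_ev' (ψ0 (A := A) s) xv r1 (ψ0_X_of_not_mem s 1 h1) hprime hr
  rw [st1, this, ker_ψ0]
  rfl


@[simp] theorem st1_C (s : Finset (Fin 6)) (p : R0 A) : st1 s (PC p) = ψ0 s p := by simp [st1]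

theorem st1_X (s : Finset (Fin 6)) : st1 (A := A) s PX = ψ0 s r1 / ψ0 s xv := by simp [st1]

theorem eval_kill_r1_a : MvPolynomial.eval (fun j : Fin 6 => if j = 4 ∨ j = 0 then (1 : A) else 0)
    (kill {1} (r1 (A := A))) ≠ 0 := by
  simp [kill, r1]


theorem ker_st1_empty : RingHom.ker (st1 (A := A) ∅) = Ideal.span {g1} := by
  rw [ker_st1 ∅ (by simp) (fun j : Fin 6 => if j = 4 ∨ j = 0 then (1 : A) else 0)
    (by simp [kill, r1])]
  simp

theorem ker_st1_zero : RingHom.ker (st1 (A := A) {0}) = Ideal.span {PC xu} ⊔ Ideal.span {g1} := by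
  rw [ker_st1 {0} (by decide) (fun j : Fin 6 => if j = 5 ∨ j = 2 then (1 : A) else 0)
    (by simp [kill, r1])]
  simp [Ideal.map_span]

theorem ker_st1_two : RingHom.ker (st1 (A := A) {2}) = Ideal.span {PC xw} ⊔ Ideal.span {g1} := by
  rw [ker_st1 {2} (by decide) (fun j : Fin 6 => if j = 4 ∨ j = 0 then (1 : A) else 0)
    (by simp [kill, r1])]
  simp [Ideal.map_span]

/-- the generator `u Y - r2`. -/
noncomputable def g2 : Polynomial (Polynomial (R0 A)) := PC (PC xu) * PX - PC (PC r2)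

/-- second stage: `e ↦ r2 / u`. -/
noncomputable def st2 (s : Finset (Fin 6)) : Polynomial (Polynomial (R0 A)) →+* KK A :=
  ev (st1 s) (PC xu) (PC r2)

@[simp] theorem st2_C (s : Finset (Fin 6)) (p : Polynomial (R0 A)) : st2 s (PC p) = st1 s p := by
  simp [st2]

theorem st2_X (s : Finset (Fin 6)) : st2 (A := A) s PX = ψ0 s r2 / ψ0 s xu := by simp [st2]

theorem ker_st2_empty :
    RingHom.ker (st2 (A := A) ∅) = (Ideal.span {g1}).map PC ⊔ Ideal.span {g2} := by
  have hw : st1 (A := A) ∅ (PC xu) ≠ 0 := by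
    rw [st1_C]; exact ψ0_X_of_not_mem ∅ 0 (by simp)
  have hprime : (Ideal.span {PC (xu : R0 A)} ⊔ RingHom.ker (st1 (A := A) ∅)).IsPrime := by
    rw [ker_st1_empty, ← ker_st1_zero]
    exact RingHom.ker_isPrime _
  have hr : PC (r2 : R0 A) ∉ Ideal.span {PC (xu : R0 A)} ⊔ RingHom.ker (st1 (A := A) ∅) := by
    rw [ker_st1_empty, ← ker_st1_zero, RingHom.mem_ker, st1_C]
    exact ψ0_ne_zero _ _ (fun j : Fin 6 => if j = 4 ∨ j = 1 then (1 : A) else 0)
      (by simp [kill, r2])
  have := ker_ev' (st1 (A := A) ∅) (PC xu) (PC r2) hw hprime hr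
  rw [st2, this, ker_st1_empty]
  rfl


theorem algebraMap_X_ne_zero (j : Fin 6) :
    algebraMap (R0 A) (KK A) (MvPolynomial.X j) ≠ 0 := by
  rw [Ne, map_eq_zero_iff _ (IsFractionRing.injective (R0 A) (KK A))]
  exact MvPolynomial.X_ne_zero j

/-- `(u, g, w, v g - r1)` is prime in `R0[g]`. -/
theorem isPrime_aux :
    (Ideal.span {PC (xu : R0 A), PX} ⊔ RingHom.ker (st1 (A := A) {2})).IsPrime := by
  have h : Ideal.span {PC (xu : R0 A), PX} ⊔ RingHom.ker (st1 (A := A) {2}) =
      RingHom.ker (Polynomial.eval₂RingHom (ψ0 (A := A) {0, 2}) 0) := by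
    rw [ker_eval₂_zero, ker_ψ0, ker_st1_two, Ideal.map_span]
    have hr1 : PC (r1 : R0 A) = PC xh * PC xu + PC xi * PC xw := by
      rw [r1, map_add, map_mul, map_mul]
    apply le_antisymm
    · simp only [sup_le_iff, Ideal.span_le, Set.insert_subset_iff, Set.singleton_subset_iff,
        SetLike.mem_coe]
      refine ⟨⟨?_, ?_⟩, ?_, ?_⟩
      · exact Ideal.mem_sup_left (Ideal.subset_span ⟨xu, ⟨0, by simp, rfl⟩, rfl⟩)
      · exact Ideal.mem_sup_right (Ideal.subset_span rfl)
      · exact Ideal.mem_sup_left (Ideal.subset_span ⟨xw, ⟨2, by simp, rfl⟩, rfl⟩)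
      · rw [g1, hr1]
        refine Ideal.sub_mem _ (Ideal.mem_sup_right (Ideal.mul_mem_left _ _ (Ideal.subset_span rfl)))
          (Ideal.mem_sup_left (Ideal.add_mem _ (Ideal.mul_mem_left _ _ ?_)
            (Ideal.mul_mem_left _ _ ?_)))
        · exact Ideal.subset_span ⟨xu, ⟨0, by simp, rfl⟩, rfl⟩
        · exact Ideal.subset_span ⟨xw, ⟨2, by simp, rfl⟩, rfl⟩
    · simp only [sup_le_iff, Ideal.span_le, Set.singleton_subset_iff, SetLike.mem_coe]
      refine ⟨?_, ?_⟩
      · rintro _ ⟨_, ⟨j, hj, rfl⟩, rfl⟩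
        simp only [Finset.coe_insert, Finset.coe_singleton, Set.mem_insert_iff,
          Set.mem_singleton_iff] at hj
        rcases hj with rfl | rfl
        · exact Ideal.mem_sup_left (Ideal.subset_span (by simp))
        · exact Ideal.mem_sup_right (Ideal.mem_sup_left (Ideal.subset_span rfl))
      · exact Ideal.mem_sup_left (Ideal.subset_span (by simp))
  rw [h]
  exact RingHom.ker_isPrime _

theorem not_mem_aux :
    PC (r2 : R0 A) ∉ Ideal.span {PC (xu : R0 A), PX} ⊔ RingHom.ker (st1 (A := A) {2}) := by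
  have h : Ideal.span {PC (xu : R0 A), PX} ⊔ RingHom.ker (st1 (A := A) {2}) ≤
      RingHom.ker (Polynomial.eval₂RingHom (ψ0 (A := A) {0, 2}) 0) := by
    rw [ker_st1_two]
    simp only [sup_le_iff, Ideal.span_le, Set.insert_subset_iff, Set.singleton_subset_iff,
      SetLike.mem_coe, RingHom.mem_ker, Polynomial.coe_eval₂RingHom]
    refine ⟨⟨?_, ?_⟩, ?_, ?_⟩
    · simp [ψ0_apply, kill]
    · simp
    · simp [ψ0_apply, kill]
    · simp [g1, ψ0_apply, kill, r1]
  intro hmem
  have := h hmem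
  rw [RingHom.mem_ker, Polynomial.coe_eval₂RingHom, Polynomial.eval₂_C] at this
  exact ψ0_ne_zero _ _ (fun j : Fin 6 => if j = 4 ∨ j = 1 then (1 : A) else 0)
    (by simp [kill, r2]) this

/-- `α1 = g e + h²`. -/
noncomputable def α1 : Polynomial (Polynomial (R0 A)) := PC PX * PX + PC (PC (xh ^ 2))

theorem ker_st2_two :
    RingHom.ker (st2 (A := A) {2}) =
      (Ideal.span {PC (xw : R0 A)} ⊔ Ideal.span {g1}).map PC ⊔ Ideal.span {g2, α1} := by
  have hw : st1 (A := A) {2} (PC xu) ≠ 0 := by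
    rw [st1_C]; exact ψ0_X_of_not_mem {2} 0 (by decide)
  have hαβ : st1 (A := A) {2} PX * st1 {2} (PC r2) = st1 {2} (PC (-(xh ^ 2))) * st1 {2} (PC xu) := by
    rw [st1_X, st1_C, st1_C, st1_C]
    have hv := algebraMap_X_ne_zero (A := A) 1
    simp only [ψ0_apply, kill, r1, r2, xu, xv, xw, xf, xh, xi]
    simp
    field_simp
  have := ker_ev (st1 (A := A) {2}) (PC xu) (PC r2) PX (PC (-(xh ^ 2))) hw hαβ isPrime_aux
    not_mem_aux
  rw [st2, this, ker_st1_two]
  have e : (PC (PX : Polynomial (R0 A)) * PX - PC (PC (-(xh ^ 2) : R0 A))) = α1 := by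
    rw [α1, map_neg, map_neg, sub_neg_eq_add]
  rw [e]
  rfl


/-- `β1 = f (v - f) g + i² e + h i (v - 2 f)`. -/
noncomputable def β1 : Polynomial (Polynomial (R0 A)) :=
  PC (PC (xf * (xv - xf))) * PC PX + PC (PC (xi ^ 2)) * PX + PC (PC (xh * xi * (xv - 2 * xf)))

/-- `g3 = w Z - r3`. -/
noncomputable def g3 : Polynomial (Polynomial (Polynomial (R0 A))) :=
  PC (PC (PC (xw : R0 A))) * PX - PC (PC (PC (r3 : R0 A)))

/-- `g4 = α1 Z - β1` (this is `- det M`). -/
noncomputable def g4 : Polynomial (Polynomial (Polynomial (R0 A))) :=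
  PC (α1 (A := A)) * PX - PC (β1 (A := A))

/-- third stage: `c ↦ r3 / w`. -/
noncomputable def st3 : Polynomial (Polynomial (Polynomial (R0 A))) →+* KK A :=
  ev (st2 ∅) (PC (PC (xw : R0 A))) (PC (PC (r3 : R0 A)))

theorem aux3_eq :
    Ideal.span {PC (PC (xw : R0 A)), α1 (A := A)} ⊔ RingHom.ker (st2 (A := A) ∅) =
      RingHom.ker (st2 (A := A) {2}) := by
  rw [ker_st2_two, ker_st2_empty, Ideal.map_sup, Ideal.map_span, Ideal.map_span,
    Set.image_singleton, Set.image_singleton]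
  rw [Ideal.span_insert (PC (PC (xw : R0 A))), Ideal.span_insert (g2 (A := A))]
  simp only [sup_assoc, sup_comm, sup_left_comm]

theorem isPrime_aux3 :
    (Ideal.span {PC (PC (xw : R0 A)), α1 (A := A)} ⊔ RingHom.ker (st2 (A := A) ∅)).IsPrime := by
  have h : Ideal.span {PC (PC (xw : R0 A)), α1 (A := A)} ⊔ RingHom.ker (st2 (A := A) ∅) =
      RingHom.ker (st2 (A := A) {2}) := by
    exact aux3_eq
  rw [h]
  exact RingHom.ker_isPrime _

theorem not_mem_aux3 :
    PC (PC (r3 : R0 A)) ∉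
      Ideal.span {PC (PC (xw : R0 A)), α1 (A := A)} ⊔ RingHom.ker (st2 (A := A) ∅) := by
  have h : Ideal.span {PC (PC (xw : R0 A)), α1 (A := A)} ⊔ RingHom.ker (st2 (A := A) ∅) =
      RingHom.ker (st2 (A := A) {2}) := by
    exact aux3_eq
  rw [h, RingHom.mem_ker, st2_C, st1_C]
  exact ψ0_ne_zero _ _ (fun j : Fin 6 => if j = 3 ∨ j = 0 then (1 : A) else 0)
    (by simp [kill, r3])

theorem ker_st3 :
    RingHom.ker (st3 (A := A)) =
      ((Ideal.span {g1}).map PC ⊔ Ideal.span {g2}).map PC ⊔ Ideal.span {g3, g4} := by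
  have hw : st2 (A := A) ∅ (PC (PC xw)) ≠ 0 := by
    rw [st2_C, st1_C]; exact ψ0_X_of_not_mem ∅ 2 (by simp)
  have hαβ : st2 (A := A) ∅ α1 * st2 ∅ (PC (PC r3)) = st2 ∅ β1 * st2 ∅ (PC (PC xw)) := by
    have hu := algebraMap_X_ne_zero (A := A) 0
    have hv := algebraMap_X_ne_zero (A := A) 1
    simp only [α1, β1, map_add, map_mul, st2_C, st1_C, st2_X, st1_X]
    simp only [ψ0_apply, kill, r1, r2, r3, xu, xv, xw, xf, xh, xi]
    simp
    field_simp
    simp only [map_ofNat]
    ring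
  have := ker_ev (st2 (A := A) ∅) (PC (PC xw)) (PC (PC r3)) α1 β1 hw hαβ isPrime_aux3
    not_mem_aux3
  rw [st3, this, ker_st2_empty, g3, g4]

theorem ker_st3_isPrime : (((Ideal.span {g1 (A := A)}).map PC ⊔ Ideal.span {g2}).map PC ⊔
    Ideal.span {g3, g4}).IsPrime := by
  rw [← ker_st3]
  exact RingHom.ker_isPrime _

end towers

section iso

variable (A : Type u) [CommRing A]

/-- the triple polynomial ring `R0[g][e][c]`. -/
abbrev P3 : Type u := Polynomial (Polynomial (Polynomial (R0 A)))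

/-- the coefficient embedding `R0 → R0[g][e][c]`. -/
noncomputable def c3 : R0 A →+* P3 A :=
  (Polynomial.C : _ →+* P3 A).comp
    ((Polynomial.C : _ →+* Polynomial (Polynomial (R0 A))).comp (Polynomial.C : R0 A →+* _))

variable {A}

@[simp] theorem c3_apply (p : R0 A) : c3 A p = PC (PC (PC p)) := rfl

/-- images of the nine variables. -/
noncomputable def σv : Fin 9 → P3 A :=
  ![c3 A (xu + xi), c3 A (xv - xf), PX, c3 A (xw - xh), PC PX, c3 A xf, PC (PC PX), c3 A xh, c3 A xi]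

/-- `D → R0[g][e][c]`. -/
noncomputable def σ : Lie3Mod.D A →ₐ[A] P3 A := MvPolynomial.aeval σv

/-- images of the six variables `u v w f h i`. -/
noncomputable def τv : Fin 6 → Lie3Mod.D A :=
  ![MvPolynomial.X 0 - MvPolynomial.X 8, MvPolynomial.X 1 + MvPolynomial.X 5,
    MvPolynomial.X 3 + MvPolynomial.X 7, MvPolynomial.X 5, MvPolynomial.X 7, MvPolynomial.X 8]

noncomputable def τ0 : R0 A →ₐ[A] Lie3Mod.D A := MvPolynomial.aeval τv

/-- `R0[g][e][c] → D`. -/
noncomputable def τ : P3 A →+* Lie3Mod.D A :=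
  Polynomial.eval₂RingHom (Polynomial.eval₂RingHom (Polynomial.eval₂RingHom
    (τ0 (A := A)).toRingHom (MvPolynomial.X 6)) (MvPolynomial.X 4)) (MvPolynomial.X 2)

theorem τ_c3 (p : R0 A) : τ (c3 A p) = τ0 p := by
  simp [τ]

theorem τ_σ (P : Lie3Mod.D A) : τ (σ P) = P := by
  have : (τ (A := A)).comp (σ (A := A)).toRingHom = RingHom.id _ := by
    apply MvPolynomial.ringHom_ext
    · intro a
      simp [σ, τ, Polynomial.algebraMap_apply]
    · intro j
      fin_cases j <;> simp [σ, σv, τ, τ0, τv]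
  exact congrFun (congrArg DFunLike.coe this) P

theorem σ_τ (P : P3 A) : σ (τ P) = P := by
  have : (σ (A := A)).toRingHom.comp (τ (A := A)) = RingHom.id _ := by
    apply Polynomial.ringHom_ext
    · intro P2
      have : ((σ (A := A)).toRingHom.comp (τ (A := A))).comp PC = (RingHom.id _).comp PC := by
        apply Polynomial.ringHom_ext
        · intro P1
          have : (((σ (A := A)).toRingHom.comp (τ (A := A))).comp PC).comp PC =
              ((RingHom.id _).comp PC).comp PC := by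
            apply Polynomial.ringHom_ext
            · intro p
              have : ((((σ (A := A)).toRingHom.comp (τ (A := A))).comp PC).comp PC).comp PC =
                  (((RingHom.id _).comp PC).comp PC).comp PC := by
                apply MvPolynomial.ringHom_ext
                · intro a
                  simp [σ, τ, τ0, Polynomial.algebraMap_apply]
                · intro j
                  fin_cases j <;> simp [σ, σv, τ, τ0, τv]
              exact congrFun (congrArg DFunLike.coe this) p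
            · simp [σ, σv, τ]
          exact congrFun (congrArg DFunLike.coe this) P1
        · simp [σ, σv, τ]
      exact congrFun (congrArg DFunLike.coe this) P2
    · simp [σ, σv, τ]
  exact congrFun (congrArg DFunLike.coe this) P

/-- the ring isomorphism `D ≃ R0[g][e][c]`. -/
noncomputable def σe : Lie3Mod.D A ≃+* P3 A :=
  RingEquiv.ofRingHom (σ (A := A)).toRingHom (τ (A := A))
    (RingHom.ext fun P => σ_τ P) (RingHom.ext fun P => τ_σ P)

end iso


section transport

variable {A : Type u} [CommRing A]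

theorem σ_X0 : σ (A := A) (MvPolynomial.X 0) = c3 A (xu + xi) := by simp [σ, σv]
theorem σ_X1 : σ (A := A) (MvPolynomial.X 1) = c3 A (xv - xf) := by simp [σ, σv]
theorem σ_X2 : σ (A := A) (MvPolynomial.X 2) = PX := by simp [σ, σv]
theorem σ_X3 : σ (A := A) (MvPolynomial.X 3) = c3 A (xw - xh) := by simp [σ, σv]
theorem σ_X4 : σ (A := A) (MvPolynomial.X 4) = PC PX := by simp [σ, σv]
theorem σ_X5 : σ (A := A) (MvPolynomial.X 5) = c3 A xf := by simp [σ, σv]
theorem σ_X6 : σ (A := A) (MvPolynomial.X 6) = PC (PC PX) := by simp [σ, σv]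
theorem σ_X7 : σ (A := A) (MvPolynomial.X 7) = c3 A xh := by simp [σ, σv]
theorem σ_X8 : σ (A := A) (MvPolynomial.X 8) = c3 A xi := by simp [σ, σv]

theorem σ_Q1 : σ (Lie3Mod.Q1 A) = - PC (PC (g1 (A := A))) := by
  simp only [Lie3Mod.Q1, Lie3Mod.va, Lie3Mod.vb, Lie3Mod.vd, Lie3Mod.vf, Lie3Mod.vg, Lie3Mod.vh,
    Lie3Mod.vi, map_sub, map_add, map_mul, σ_X0, σ_X1, σ_X3, σ_X5, σ_X6, σ_X7, σ_X8, g1, r1,
    c3_apply]
  ring

theorem σ_Q2 : σ (Lie3Mod.Q2 A) = - PC (g2 (A := A)) := by
  simp only [Lie3Mod.Q2, Lie3Mod.va, Lie3Mod.vb, Lie3Mod.vd, Lie3Mod.ve, Lie3Mod.vf, Lie3Mod.vh,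
    Lie3Mod.vi, map_sub, map_add, map_mul, map_neg, σ_X0, σ_X1, σ_X3, σ_X4, σ_X5, σ_X7, σ_X8, g2,
    r2, c3_apply]
  ring

theorem σ_Q3 : σ (Lie3Mod.Q3 A) = g3 (A := A) := by
  simp only [Lie3Mod.Q3, Lie3Mod.va, Lie3Mod.vb, Lie3Mod.vc, Lie3Mod.vd, Lie3Mod.vf, Lie3Mod.vh,
    Lie3Mod.vi, map_sub, map_add, map_mul, σ_X0, σ_X1, σ_X2, σ_X3, σ_X5, σ_X7, σ_X8, g3, r3,
    c3_apply]
  ring

theorem σ_detM : σ (Lie3Mod.detM A) = - g4 (A := A) := by
  simp only [Lie3Mod.detM, Lie3Mod.vb, Lie3Mod.vc, Lie3Mod.ve, Lie3Mod.vf, Lie3Mod.vg,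
    Lie3Mod.vh, Lie3Mod.vi, map_sub, map_add, map_mul, map_neg, map_pow, σ_X1, σ_X2, σ_X4, σ_X5,
    σ_X6, σ_X7, σ_X8, g4, α1, β1, c3_apply, map_ofNat]
  ring

/-- the prime ideal `J'` of `R0[g][e][c]`. -/
noncomputable def J' (A : Type u) [CommRing A] : Ideal (P3 A) :=
  ((Ideal.span {g1 (A := A)}).map PC ⊔ Ideal.span {g2}).map PC ⊔ Ideal.span {g3, g4}

theorem J'_eq : J' A = Ideal.span {PC (PC (g1 (A := A))), PC g2, g3, g4} := by
  rw [J', Ideal.map_sup, Ideal.map_map, Ideal.map_span, Ideal.map_span, Set.image_singleton,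
    Set.image_singleton]
  rw [Ideal.span_insert (PC (PC (g1 (A := A)))), Ideal.span_insert (PC (g2 (A := A)))]
  simp only [sup_assoc]
  rfl

theorem map_σ_idJ : (Lie3Mod.idJ A).map (σ (A := A)).toRingHom = J' A := by
  rw [J'_eq, Lie3Mod.idJ, Ideal.map_span]
  have : (σ (A := A)).toRingHom '' {Lie3Mod.Q1 A, Lie3Mod.Q2 A, Lie3Mod.Q3 A, Lie3Mod.detM A} =
      {- PC (PC (g1 (A := A))), - PC g2, g3, - g4} := by
    simp only [Set.image_insert_eq, Set.image_singleton]
    change ({σ (Lie3Mod.Q1 A), σ (Lie3Mod.Q2 A), σ (Lie3Mod.Q3 A), σ (Lie3Mod.detM A)} : Set (P3 A)) = _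
    rw [σ_Q1, σ_Q2, σ_Q3, σ_detM]
  rw [this]
  apply le_antisymm
  · rw [Ideal.span_le]
    intro x hx
    simp only [Set.mem_insert_iff, Set.mem_singleton_iff] at hx
    rcases hx with rfl | rfl | rfl | rfl
    · exact (Ideal.neg_mem_iff _).mpr (Ideal.subset_span (by simp))
    · exact (Ideal.neg_mem_iff _).mpr (Ideal.subset_span (by simp))
    · exact Ideal.subset_span (by simp)
    · exact (Ideal.neg_mem_iff _).mpr (Ideal.subset_span (by simp))
  · rw [Ideal.span_le]
    intro x hx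
    simp only [Set.mem_insert_iff, Set.mem_singleton_iff] at hx
    rcases hx with rfl | rfl | rfl | rfl
    · exact (Ideal.neg_mem_iff _).mp (Ideal.subset_span (by simp))
    · exact (Ideal.neg_mem_iff _).mp (Ideal.subset_span (by simp))
    · exact Ideal.subset_span (by simp)
    · exact (Ideal.neg_mem_iff _).mp (Ideal.subset_span (by simp))

theorem idJ_eq_comap : Lie3Mod.idJ A = (J' A).comap (σ (A := A)).toRingHom := by
  rw [← map_σ_idJ]
  have hbij : Function.Bijective (σ (A := A)).toRingHom := (σe (A := A)).bijective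
  exact (Ideal.comap_map_of_bijective _ hbij).symm

/-- **`J` is prime over every domain.** -/
theorem idJ_isPrime [IsDomain A] : (Lie3Mod.idJ A).IsPrime := by
  rw [idJ_eq_comap]
  have : (J' A).IsPrime := ker_st3_isPrime
  exact Ideal.IsPrime.comap _

/-- `J` is the kernel of `D → K`. -/
theorem idJ_eq_ker [IsDomain A] :
    Lie3Mod.idJ A = RingHom.ker ((st3 (A := A)).comp (σ (A := A)).toRingHom) := by
  rw [idJ_eq_comap, ← RingHom.comap_ker, ker_st3]
  rfl

end transport

end Groth.Agent.Lib.Helper8.Lie3
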