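import Mathlib
import Groth.Prelude.Def_CAlg
import Groth.Prelude.Def_EGA4b
import Groth.Agent.Lib.Helper16.Depth
import Groth.Agent.Lib.Helper18.SerreNormal
import Groth.Agent.Lib.Helper18.CM1
import Groth.Agent.Lib.Helper9.FlatCrit

/-!
# Flatness over an Artinian local base from (S₁), (S₂) on the reduction and codimension-one data
(helper8 library; used for S14071 / S14072)
-/

set_option backward.isDefEq.respectTransparency.types false
set_option autoImplicit false
set_option linter.unusedSectionVars false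

universe u

namespace Groth.Agent.Lib.Helper8.FamCycFlat

open IsLocalRing RingTheory.Sequence Groth.Agent.Lib.Helper16.Depth Groth.Agent.Lib.Helper18.CM
open TensorProduct

section height

theorem height_comap_le_of_ker_le_nilradical {B C : Type*} [CommRing B] [CommRing C] (f : B →+* C)
    (hf : Function.Surjective f) (hker : RingHom.ker f ≤ nilradical B) :
    ∀ (P : Ideal C) [P.IsPrime], (P.comap f).height ≤ P.height := by
  suffices H : ∀ (n : ℕ) (P : Ideal C) [P.IsPrime], P.height ≤ n → (P.comap f).height ≤ n by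
    intro P _
    by_cases htop : P.height = ⊤
    · rw [htop]; exact le_top
    · obtain ⟨n, hn⟩ := ENat.ne_top_iff_exists.mp htop
      rw [← hn]; exact H n P hn.ge
  intro n
  induction n using Nat.strong_induction_on with
  | _ n ih =>
    intro P _ hP
    rw [Ideal.height_le_iff]
    intro q hq hlt
    have hkq : RingHom.ker f ≤ q := hker.trans (nilradical_le_prime q)
    have hqmap : (q.map f).IsPrime := Ideal.map_isPrime_of_surjective hf hkq
    have hcm : (q.map f).comap f = q := by
      rw [Ideal.comap_map_of_surjective f hf, ← RingHom.ker_eq_comap_bot]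
      exact sup_eq_left.mpr hkq
    have hlt' : q.map f < P := by
      refine lt_of_le_of_ne ?_ ?_
      · have := Ideal.map_mono (f := f) hlt.le
        rwa [Ideal.map_comap_of_surjective f hf] at this
      · intro heq
        rw [← heq, hcm] at hlt
        exact lt_irrefl _ hlt
    have h1 := (Ideal.height_le_iff.mp hP) (q.map f) hqmap hlt'
    obtain ⟨m, hm⟩ := ENat.ne_top_iff_exists.mp (ne_top_of_lt h1)
    have hmn : m < n := by rw [← hm] at h1; exact_mod_cast h1
    have := ih m hmn (q.map f) (by rw [← hm])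
    rw [hcm] at this
    exact lt_of_le_of_lt this (by exact_mod_cast hmn)

end height

section regular

variable {R : Type u} [CommRing R] (p : Ideal R) [p.IsPrime]

/-- `α` is a nonzerodivisor on `R_p` (elementwise form). -/
def RegAt (α : R) : Prop := ∀ n : R, α * n = 0 → ∃ s ∉ p, s * n = 0

/-- `β` is a nonzerodivisor on `R_p / α R_p` (elementwise form). -/
def RegAt2 (α β : R) : Prop := ∀ n n' : R, β * n = α * n' → ∃ s ∉ p, ∃ n'', s * n = α * n''

theorem exists_unit_mul_of_mem_maximalIdeal (x : Localization.AtPrime p)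
    (hx : x ∈ maximalIdeal (Localization.AtPrime p)) :
    ∃ a ∈ p, ∃ u : Localization.AtPrime p, IsUnit u ∧ algebraMap R _ a = u * x := by
  obtain ⟨⟨a, s⟩, rfl⟩ := IsLocalization.mk'_surjective p.primeCompl x
  have hs : IsUnit (algebraMap R (Localization.AtPrime p) s) := IsLocalization.map_units _ s
  refine ⟨a, ?_, algebraMap R _ s, hs, ?_⟩
  · have h1 : algebraMap R (Localization.AtPrime p) a ∈ maximalIdeal (Localization.AtPrime p) := by
      rw [← IsLocalization.mk'_spec (Localization.AtPrime p) a s]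
      exact Ideal.mul_mem_right _ _ hx
    exact (IsLocalization.AtPrime.to_map_mem_maximal_iff (Localization.AtPrime p) p a).mp h1
  · rw [mul_comm]; exact (IsLocalization.mk'_spec _ a s).symm

variable [IsNoetherianRing R]

theorem exists_regAt_of_le_depth
    (h : (1 : ℕ∞) ≤ LocCoh.depth (Localization.AtPrime p) (Localization.AtPrime p)) :
    ∃ α ∈ p, RegAt p α := by
  obtain ⟨x, hx, hreg⟩ := (one_le_depth_iff (Localization.AtPrime p)).mp h
  obtain ⟨a, hap, u, hu, hau⟩ := exists_unit_mul_of_mem_maximalIdeal p x hx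
  refine ⟨a, hap, fun n hn => ?_⟩
  have h1 : x • (u * algebraMap R (Localization.AtPrime p) n) = x • 0 := by
    rw [smul_eq_mul, smul_zero, ← mul_assoc, mul_comm x u, ← hau, ← map_mul, hn, map_zero]
  have h2 := hreg h1
  have h3 : algebraMap R (Localization.AtPrime p) n = 0 := (hu.mul_right_eq_zero).mp h2
  obtain ⟨m, hm⟩ := (IsLocalization.map_eq_zero_iff p.primeCompl _ n).mp h3
  exact ⟨m, m.2, hm⟩

theorem exists_regAt2_of_le_depth
    (h : (2 : ℕ∞) ≤ LocCoh.depth (Localization.AtPrime p) (Localization.AtPrime p)) :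
    ∃ α ∈ p, ∃ β ∈ p, RegAt p α ∧ RegAt2 p α β := by
  have h2 := (le_idealDepth_iff (I := maximalIdeal (Localization.AtPrime p))
    (M := Localization.AtPrime p) 2).mp (by exact_mod_cast h)
  rcases h2 with h2 | h2
  · exact absurd h2 (maximalIdeal_smul_top_ne_top _)
  obtain ⟨rs, hlen, hreg, hmem⟩ := h2
  match rs, hlen with
  | [x, y], _ =>
    rw [isWeaklyRegular_cons_iff, isWeaklyRegular_cons_iff] at hreg
    obtain ⟨hx, hy, -⟩ := hreg
    obtain ⟨a, hap, u, hu, hau⟩ := exists_unit_mul_of_mem_maximalIdeal p x (hmem x (by simp))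
    obtain ⟨b, hbp, v, hv, hbv⟩ := exists_unit_mul_of_mem_maximalIdeal p y (hmem y (by simp))
    refine ⟨a, hap, b, hbp, fun n hn => ?_, fun n n' hn => ?_⟩
    · have h1 : x • (u * algebraMap R (Localization.AtPrime p) n) = x • 0 := by
        rw [smul_eq_mul, smul_zero, ← mul_assoc, mul_comm x u, ← hau, ← map_mul, hn, map_zero]
      have h2 := hx h1
      have h3 : algebraMap R (Localization.AtPrime p) n = 0 := (hu.mul_right_eq_zero).mp h2
      obtain ⟨m, hm⟩ := (IsLocalization.map_eq_zero_iff p.primeCompl _ n).mp h3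
      exact ⟨m, m.2, hm⟩
    · have h1 : y • (Submodule.Quotient.mk (v * algebraMap R (Localization.AtPrime p) n) :
          QuotSMulTop x (Localization.AtPrime p)) = y • 0 := by
        rw [smul_zero, ← Submodule.Quotient.mk_smul, Submodule.Quotient.mk_eq_zero,
          Submodule.mem_smul_pointwise_iff_exists]
        refine ⟨u * algebraMap R _ n', Submodule.mem_top, ?_⟩
        rw [smul_eq_mul, smul_eq_mul, ← mul_assoc, mul_comm x u, ← hau, ← mul_assoc, mul_comm y v,
          ← hbv, ← map_mul, ← map_mul, hn]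
      have h2 := hy h1
      rw [Submodule.Quotient.mk_eq_zero, Submodule.mem_smul_pointwise_iff_exists] at h2
      obtain ⟨w, -, hw⟩ := h2
      obtain ⟨u', hu'⟩ := hu.exists_left_inv
      obtain ⟨v', hv'⟩ := hv.exists_left_inv
      -- algebraMap n = algebraMap a * (u' * v' * w)
      have h3 : algebraMap R (Localization.AtPrime p) n = algebraMap R _ a * (u' * v' * w) := by
        have : algebraMap R (Localization.AtPrime p) n = v' * (v * algebraMap R _ n) := by
          rw [← mul_assoc, hv', one_mul]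
        rw [this, ← hw, hau, smul_eq_mul]
        have : u * x * (u' * v' * w) = (u' * u) * (v' * (x * w)) := by ring
        rw [this, hu', one_mul]
      obtain ⟨⟨c, t⟩, hct⟩ := IsLocalization.mk'_surjective p.primeCompl (u' * v' * w)
      rw [← hct] at h3
      have h4 : algebraMap R (Localization.AtPrime p) (t * n) = algebraMap R _ (a * c) := by
        rw [map_mul, map_mul, h3]
        have := IsLocalization.mk'_spec (Localization.AtPrime p) c t
        rw [← this]; ring
      obtain ⟨c', hc'⟩ := (IsLocalization.eq_iff_exists p.primeCompl _).mp h4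
      refine ⟨c' * t, (c' * t).2, c' * c, ?_⟩
      rw [mul_assoc, hc']; ring

end regular

section closed

variable {B : Type u} [CommRing B]

/-- `K` has no embedded components of codimension `≥ 2` (elementwise form): an element lying in
`K` locally at every prime of height `≤ 1` lies in `K`. -/
def Closed1 (K : Ideal B) : Prop :=
  ∀ y : B, (∀ q : Ideal B, q.IsPrime → q.height ≤ 1 → ∃ s ∉ q, s * y ∈ K) → y ∈ K

/-- an associated prime of `B/K` containing `(K : y)`. -/
theorem exists_prime_colon [IsNoetherianRing B] (K : Ideal B) (y : B) (hy : y ∉ K) :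
    ∃ (P : Ideal B) (_ : P.IsPrime) (z : B), z ∉ K ∧ (∀ b, b ∈ P ↔ b * z ∈ K) ∧
      (∀ b, b * y ∈ K → b ∈ P) := by
  have hx : (Ideal.Quotient.mk K y) ≠ 0 := by
    rwa [Ne, Ideal.Quotient.eq_zero_iff_mem]
  obtain ⟨P, hP, hle⟩ := exists_le_isAssociatedPrime_of_isNoetherianRing B (M := B ⧸ K) _ hx
  rw [isAssociatedPrime_iff] at hP
  obtain ⟨hPp, zb, rfl⟩ := hP
  obtain ⟨z, rfl⟩ := Ideal.Quotient.mk_surjective zb
  have key : ∀ b, b ∈ (⊥ : Submodule B (B ⧸ K)).colon {Ideal.Quotient.mk K z} ↔ b * z ∈ K := by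
    intro b
    rw [Submodule.mem_colon_singleton, Submodule.mem_bot, ← Ideal.Quotient.eq_zero_iff_mem,
      map_mul]
    rfl
  refine ⟨_, hPp, z, ?_, key, ?_⟩
  · intro hz
    apply hPp.ne_top
    rw [Ideal.eq_top_iff_one, key, one_mul]
    exact hz
  · intro b hb
    apply hle
    rw [Submodule.mem_colon_singleton, Submodule.mem_bot]
    change b • (Ideal.Quotient.mk K y) = 0
    rw [← Ideal.Quotient.eq_zero_iff_mem, map_mul] at hb
    exact hb

theorem le_depth_of_hasSk [IsNoetherianRing B] (k : ℕ) (h : LocCoh.HasSk k B B)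
    (P : Ideal B) [P.IsPrime] (hk : (k : ℕ∞) ≤ P.height) :
    (k : ℕ∞) ≤ LocCoh.depth (Localization.AtPrime P) (Localization.AtPrime P) := by
  have h1 := (Groth.Agent.Lib.Helper18.Serre.hasSk_self_iff k).mp h P
  have h2 : (((k : ℕ∞)) : WithBot ℕ∞) ≤
      ((LocCoh.depth (Localization.AtPrime P) (Localization.AtPrime P) : ℕ∞) : WithBot ℕ∞) := by
    refine le_trans ?_ h1
    rw [le_min_iff]
    exact ⟨le_of_eq rfl, WithBot.coe_le_coe.mpr hk⟩
  exact WithBot.coe_le_coe.mp h2

theorem closed1_bot [IsNoetherianRing B] (h : LocCoh.HasSk 1 B B) : Closed1 (⊥ : Ideal B) := by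
  intro y hy
  by_contra hne
  obtain ⟨P, hP, z, hz, hPz, hPy⟩ := exists_prime_colon ⊥ y hne
  by_cases hht : P.height ≤ 1
  · obtain ⟨s, hs, hsy⟩ := hy P hP hht
    exact hs (hPy s hsy)
  · have h1 : ((1 : ℕ) : ℕ∞) ≤ P.height := by
      rw [not_le] at hht; exact_mod_cast hht.le
    have h2 := le_depth_of_hasSk 1 h P h1
    obtain ⟨α, hα, hreg⟩ := exists_regAt_of_le_depth P (by exact_mod_cast h2)
    have h3 : α * z = 0 := by
      have := (hPz α).mp hα
      simpa using this
    obtain ⟨s, hs, hsz⟩ := hreg z h3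
    exact hs ((hPz s).mpr (by rw [hsz]; exact Ideal.zero_mem _))

end closed

section flatcolon

variable {A : Type*} [CommRing A] {M : Type*} [AddCommGroup M] [Module A M]

theorem mk_one_tmul_eq_zero (I : Ideal A) (x : M) (hx : x ∈ I • (⊤ : Submodule A M)) :
    (Ideal.Quotient.mk I 1) ⊗ₜ[A] x = 0 := by
  refine Submodule.smul_induction_on hx ?_ ?_
  · intro r hr n _
    have e : r • (Ideal.Quotient.mk I 1) = 0 := by
      rw [Algebra.smul_def, map_one, mul_one]
      exact Ideal.Quotient.eq_zero_iff_mem.mpr hr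
    rw [← TensorProduct.smul_tmul, e, TensorProduct.zero_tmul]
  · intro x y hx hy
    rw [TensorProduct.tmul_add, hx, hy, add_zero]

theorem mem_colon_smul_of_flat [Module.Flat A M] (I : Ideal A) (a : A) (x : M)
    (h : a • x ∈ I • (⊤ : Submodule A M)) : x ∈ (I.colon {a}) • (⊤ : Submodule A M) := by
  set J : Ideal A := I.colon {a} with hJ
  have hle : J ≤ Submodule.comap (LinearMap.lsmul A A a) I := by
    intro r hr
    rw [hJ, Submodule.mem_colon_singleton] at hr
    rw [Submodule.mem_comap]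
    simpa [mul_comm] using hr
  let f : (A ⧸ J) →ₗ[A] (A ⧸ I) := Submodule.mapQ J I (LinearMap.lsmul A A a) hle
  have hf : Function.Injective f := by
    rw [injective_iff_map_eq_zero]
    intro xb hxb
    obtain ⟨r, rfl⟩ := Submodule.Quotient.mk_surjective _ xb
    rw [Submodule.mapQ_apply, Submodule.Quotient.mk_eq_zero] at hxb
    rw [Submodule.Quotient.mk_eq_zero, hJ, Submodule.mem_colon_singleton]
    simpa [mul_comm] using hxb
  have hg := Module.Flat.rTensor_preserves_injective_linearMap (M := M) f hf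
  have h1 : f.rTensor M ((Ideal.Quotient.mk J 1) ⊗ₜ[A] x) = 0 := by
    rw [LinearMap.rTensor_tmul]
    have : f (Ideal.Quotient.mk J 1) = a • (Ideal.Quotient.mk I 1) := by
      change f (Submodule.Quotient.mk 1) = _
      rw [Submodule.mapQ_apply]
      simp only [LinearMap.lsmul_apply, smul_eq_mul, mul_one]
      rw [Algebra.smul_def, map_one, mul_one]
      rfl
    rw [this, TensorProduct.smul_tmul]
    exact mk_one_tmul_eq_zero I _ h
  have h2 : (Ideal.Quotient.mk J 1) ⊗ₜ[A] x = 0 := hg (by rw [h1, map_zero])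
  have h3 := congrArg (TensorProduct.quotTensorEquivQuotSMul M J) h2
  rw [TensorProduct.quotTensorEquivQuotSMul_mk_tmul, map_zero, one_smul,
    Submodule.Quotient.mk_eq_zero] at h3
  exact h3

end flatcolon

section localdata

variable {A : Type u} [CommRing A] [IsLocalRing A] {B : Type u} [CommRing B] [Algebra A B]

theorem exists_mul_mem_of_algebraMap_mem (q : Ideal B) [q.IsPrime] (K : Ideal B) (y : B)
    (h : algebraMap B (Localization.AtPrime q) y ∈ K.map (algebraMap B (Localization.AtPrime q))) :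
    ∃ s ∉ q, s * y ∈ K := by
  rw [IsLocalization.mem_map_algebraMap_iff q.primeCompl] at h
  obtain ⟨⟨i, s⟩, hi⟩ := h
  rw [← map_mul] at hi
  obtain ⟨c, hc⟩ := (IsLocalization.eq_iff_exists q.primeCompl _).mp hi
  refine ⟨c * s, (c * s).2, ?_⟩
  have : (c : B) * (s : B) * y = c * (y * s) := by ring
  change (c : B) * (s : B) * y ∈ K
  rw [this]
  change (c : B) * (y * (s : B)) = (c : B) * (i : B) at hc
  rw [hc]
  exact Ideal.mul_mem_left _ _ i.2

/-- elementwise consequences of flatness of `B_q` over `A` and reducedness of the fibre at `q`. -/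
structure GoodAt (A : Type u) [CommRing A] [IsLocalRing A] {B : Type u} [CommRing B] [Algebra A B]
    (q : Ideal B) : Prop where
  flat : ∀ (I : Ideal A) (a : A) (y : B), a ∉ I → (∀ μ ∈ maximalIdeal A, μ * a ∈ I) →
      algebraMap A B a * y ∈ I.map (algebraMap A B) →
      ∃ s ∉ q, s * y ∈ (maximalIdeal A).map (algebraMap A B)
  red : ∀ x ∈ nilradical B, ∃ s ∉ q, s * x ∈ (maximalIdeal A).map (algebraMap A B)

theorem map_map_localization (q : Ideal B) [q.IsPrime] (I : Ideal A) :
    (I.map (algebraMap A B)).map (algebraMap B (Localization.AtPrime q)) =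
      I.map (algebraMap A (Localization.AtPrime q)) := by
  rw [Ideal.map_map, ← IsScalarTower.algebraMap_eq]

theorem goodAt_of (q : Ideal B) [q.IsPrime] (hflat : Module.Flat A (Localization.AtPrime q))
    (hred : IsReduced (EGA4.FibLocRing A B q)) : GoodAt A q := by
  constructor
  · intro I a y ha hma hy
    apply exists_mul_mem_of_algebraMap_mem
    rw [map_map_localization]
    have h1 : a • (algebraMap B (Localization.AtPrime q) y) ∈
        I • (⊤ : Submodule A (Localization.AtPrime q)) := by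
      rw [Ideal.smul_top_eq_map, Submodule.restrictScalars_mem, ← map_map_localization,
        Algebra.smul_def, IsScalarTower.algebraMap_apply A B (Localization.AtPrime q), ← map_mul]
      exact Ideal.mem_map_of_mem _ hy
    have h2 := mem_colon_smul_of_flat I a _ h1
    rw [Ideal.smul_top_eq_map, Submodule.restrictScalars_mem] at h2
    refine Ideal.map_mono ?_ h2
    intro r hr
    rw [Submodule.mem_colon_singleton] at hr
    by_contra hrm
    have hu : IsUnit r := by
      by_contra hnu
      exact hrm ((IsLocalRing.mem_maximalIdeal r).mpr hnu)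
    obtain ⟨r', hr'⟩ := hu.exists_left_inv
    apply ha
    have := I.mul_mem_left r' hr
    rwa [smul_eq_mul, ← mul_assoc, hr', one_mul] at this
  · intro x hx
    apply exists_mul_mem_of_algebraMap_mem
    rw [map_map_localization]
    obtain ⟨n, hn⟩ := hx
    have h1 : IsNilpotent (Ideal.Quotient.mk ((q.comap (algebraMap A B)).map
        (algebraMap A (Localization.AtPrime q))) (algebraMap B (Localization.AtPrime q) x)) := by
      refine ⟨n, ?_⟩
      rw [← map_pow, ← map_pow, hn, map_zero, map_zero]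
    have h2 := hred.eq_zero _ h1
    rw [Ideal.Quotient.eq_zero_iff_mem] at h2
    refine Ideal.map_mono ?_ h2
    apply IsLocalRing.le_maximalIdeal
    exact (Ideal.IsPrime.comap (algebraMap A B)).ne_top

end localdata

section kernel

variable {A : Type u} [CommRing A] [IsLocalRing A] {B : Type u} [CommRing B] [Algebra A B]

theorem map_maximalIdeal_le_nilradical (hm : IsNilpotent (maximalIdeal A)) :
    (maximalIdeal A).map (algebraMap A B) ≤ nilradical B := by
  obtain ⟨n, hn⟩ := hm
  intro x hx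
  refine ⟨n, ?_⟩
  have : x ^ n ∈ ((maximalIdeal A).map (algebraMap A B)) ^ n := Ideal.pow_mem_pow hx n
  rw [← Ideal.map_pow, hn, Ideal.zero_eq_bot, Ideal.map_bot] at this
  simpa using this

theorem algebraMap_mul_mem (I : Ideal A) (a : A) (hma : ∀ μ ∈ maximalIdeal A, μ * a ∈ I) (w : B)
    (hw : w ∈ (maximalIdeal A).map (algebraMap A B)) :
    algebraMap A B a * w ∈ I.map (algebraMap A B) := by
  refine Submodule.span_induction (p := fun w _ => algebraMap A B a * w ∈ I.map (algebraMap A B))
    ?_ ?_ ?_ ?_ hw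
  · rintro _ ⟨μ, hμ, rfl⟩
    rw [← map_mul, mul_comm]
    exact Ideal.mem_map_of_mem _ (hma μ hμ)
  · simp
  · intro x y _ _ hx hy
    rw [mul_add]; exact Ideal.add_mem _ hx hy
  · intro r x _ hx
    rw [smul_eq_mul, mul_left_comm]; exact Ideal.mul_mem_left _ _ hx

theorem mul_mem_iff (hm : IsNilpotent (maximalIdeal A))
    (hgood : ∀ q : Ideal B, q.IsPrime → q.height ≤ 1 → GoodAt A q)
    (I : Ideal A) (a : A) (ha : a ∉ I) (hma : ∀ μ ∈ maximalIdeal A, μ * a ∈ I)
    (hI : Closed1 (I.map (algebraMap A B))) (y : B) :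
    algebraMap A B a * y ∈ I.map (algebraMap A B) ↔ y ∈ nilradical B := by
  constructor
  · intro hy
    rw [nilradical_eq_sInf, Ideal.mem_sInf]
    intro q' hq'
    have hq'p : q'.IsPrime := hq'
    obtain ⟨q, hqmin, hle⟩ := Ideal.exists_minimalPrimes_le (bot_le : (⊥ : Ideal B) ≤ q')
    have hq : q.IsPrime := hqmin.1.1
    have hht : q.height ≤ 1 := by
      rw [Ideal.height_eq_zero_iff.mpr hqmin]; exact zero_le_one
    obtain ⟨s, hs, hsy⟩ := (hgood q hq hht).flat I a y ha hma hy
    have h1 : s * y ∈ q := nilradical_le_prime q (map_maximalIdeal_le_nilradical hm hsy)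
    exact hle ((hq.mem_or_mem h1).resolve_left hs)
  · intro hy
    apply hI
    intro q hq hht
    obtain ⟨s, hs, hsy⟩ := (hgood q hq hht).red y hy
    refine ⟨s, hs, ?_⟩
    rw [mul_left_comm]
    exact algebraMap_mul_mem I a hma _ hsy

theorem exists_uniform [IsNoetherianRing B] (P : Ideal B) [hP : P.IsPrime] (K : Ideal B) (w : B)
    (h : ∀ p ∈ P, ∃ s ∉ P, s * p * w ∈ K) : ∃ s ∉ P, ∀ p ∈ P, s * p * w ∈ K := by
  classical
  obtain ⟨G, hG⟩ := (IsNoetherian.noetherian P : P.FG)
  have key : ∀ G : Finset B, (∀ g ∈ G, g ∈ P) →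
      ∃ s ∉ P, ∀ p ∈ Ideal.span (G : Set B), s * p * w ∈ K := by
    intro G
    induction G using Finset.induction_on with
    | empty =>
      intro _
      refine ⟨1, (Ideal.ne_top_iff_one P).mp hP.ne_top, ?_⟩
      intro p hp
      simp only [Finset.coe_empty, Ideal.span_empty, Ideal.mem_bot] at hp
      simp [hp]
    | insert g G hg ih =>
      intro hmem
      obtain ⟨s₁, hs₁, h₁⟩ := ih (fun x hx => hmem x (Finset.mem_insert_of_mem hx))
      obtain ⟨s₂, hs₂, h₂⟩ := h g (hmem g (Finset.mem_insert_self _ _))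
      refine ⟨s₁ * s₂, ?_, ?_⟩
      · intro hmul
        rcases hP.mem_or_mem hmul with h | h
        exacts [hs₁ h, hs₂ h]
      · intro p hp
        rw [Finset.coe_insert, Ideal.mem_span_insert] at hp
        obtain ⟨r, p', hp', rfl⟩ := hp
        have e : s₁ * s₂ * (r * g + p') * w = s₁ * r * (s₂ * g * w) + s₂ * (s₁ * p' * w) := by ring
        rw [e]
        exact K.add_mem (K.mul_mem_left _ h₂) (K.mul_mem_left _ (h₁ p' hp'))
  obtain ⟨s, hs, hsp⟩ := key G (fun g hg => hG ▸ Ideal.subset_span hg)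
  exact ⟨s, hs, fun p hp => hsp p (by rw [Ideal.span, hG]; exact hp)⟩

theorem closed1_step [IsNoetherianRing B] (hm : IsNilpotent (maximalIdeal A))
    (hgood : ∀ q : Ideal B, q.IsPrime → q.height ≤ 1 → GoodAt A q)
    (hS2 : LocCoh.HasSk 2 (B ⧸ nilradical B) (B ⧸ nilradical B))
    (I : Ideal A) (a : A) (ha : a ∉ I) (hma : ∀ μ ∈ maximalIdeal A, μ * a ∈ I)
    (hI : Closed1 (I.map (algebraMap A B))) :
    Closed1 ((I ⊔ Ideal.span {a}).map (algebraMap A B)) := by
  have hker := mul_mem_iff hm hgood I a ha hma hI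
  set K := I.map (algebraMap A B) with hK
  set a' := algebraMap A B a with ha'
  have hK' : ∀ w : B, w ∈ (I ⊔ Ideal.span {a}).map (algebraMap A B) ↔
      ∃ k ∈ K, ∃ c, w = k + c * a' := by
    intro w
    rw [Ideal.map_sup, Ideal.map_span, Set.image_singleton, Submodule.mem_sup]
    constructor
    · rintro ⟨k, hk, x, hx, rfl⟩
      obtain ⟨c, rfl⟩ := Ideal.mem_span_singleton'.mp hx
      exact ⟨k, hk, c, rfl⟩
    · rintro ⟨k, hk, c, rfl⟩
      exact ⟨k, hk, c * a', Ideal.mem_span_singleton'.mpr ⟨c, rfl⟩, rfl⟩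
  intro y hy
  by_contra hne
  obtain ⟨P, hP, z, hz, hPz, hPy⟩ := exists_prime_colon _ y hne
  have hht : ¬ P.height ≤ 1 := fun h => by
    obtain ⟨s, hs, hsy⟩ := hy P hP h
    exact hs (hPy s hsy)
  have hht2 : (2 : ℕ∞) ≤ P.height := by
    rw [not_le] at hht
    have := Order.add_one_le_of_lt hht
    rwa [one_add_one_eq_two] at this
  -- regular sequence in the reduction
  let π := Ideal.Quotient.mk (nilradical B)
  have hπ : Function.Surjective π := Ideal.Quotient.mk_surjective
  have hkerπ : RingHom.ker π = nilradical B := Ideal.mk_ker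
  have hnilP : nilradical B ≤ P := nilradical_le_prime P
  have hPbar : (P.map π).IsPrime := Ideal.map_isPrime_of_surjective hπ (hkerπ.le.trans hnilP)
  have hcomap : (P.map π).comap π = P := by
    rw [Ideal.comap_map_of_surjective π hπ, ← RingHom.ker_eq_comap_bot, hkerπ]
    exact sup_eq_left.mpr hnilP
  have hhtbar : (2 : ℕ∞) ≤ (P.map π).height := by
    have := height_comap_le_of_ker_le_nilradical π hπ (hkerπ.le) (P.map π)
    rw [hcomap] at this
    exact hht2.trans this
  have hdepth := le_depth_of_hasSk 2 hS2 (P.map π) (by exact_mod_cast hhtbar)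
  obtain ⟨αb, hαb, βb, hβb, hr1, hr2⟩ :=
    exists_regAt2_of_le_depth (P.map π) (by exact_mod_cast hdepth)
  obtain ⟨α, rfl⟩ := hπ αb
  obtain ⟨β, rfl⟩ := hπ βb
  have hαP : α ∈ P := by rw [← hcomap]; exact hαb
  have hβP : β ∈ P := by rw [← hcomap]; exact hβb
  have nil_iff : ∀ x : B, x ∈ nilradical B ↔ π x = 0 :=
    fun x => (Ideal.Quotient.eq_zero_iff_mem).symm
  have notin : ∀ sb : B ⧸ nilradical B, sb ∉ P.map π → ∃ s ∉ P, π s = sb := by
    intro sb hsb
    obtain ⟨s, rfl⟩ := hπ sb
    exact ⟨s, fun hs => hsb (Ideal.mem_map_of_mem π hs), rfl⟩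
  have r1 : ∀ n : B, α * n ∈ nilradical B → ∃ s ∉ P, s * n ∈ nilradical B := by
    intro n hn
    obtain ⟨sb, hsb, hsn⟩ := hr1 (π n) (by rw [← map_mul]; exact (nil_iff _).mp hn)
    obtain ⟨s, hs, rfl⟩ := notin sb hsb
    exact ⟨s, hs, (nil_iff _).mpr (by rw [map_mul]; exact hsn)⟩
  have r2 : ∀ n n' : B, β * n - α * n' ∈ nilradical B →
      ∃ s ∉ P, ∃ n'', s * n - α * n'' ∈ nilradical B := by
    intro n n' hn
    obtain ⟨sb, hsb, nb, hsn⟩ := hr2 (π n) (π n') (by
      have := (nil_iff _).mp hn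
      rw [map_sub, map_mul, map_mul, sub_eq_zero] at this; exact this)
    obtain ⟨s, hs, rfl⟩ := notin sb hsb
    obtain ⟨n'', rfl⟩ := hπ nb
    exact ⟨s, hs, n'', (nil_iff _).mpr (by rw [map_sub, map_mul, map_mul, sub_eq_zero]; exact hsn)⟩
  -- decompositions
  have dec : ∀ p ∈ P, ∃ k ∈ K, ∃ c, p * z = k + c * a' :=
    fun p hp => (hK' _).mp ((hPz p).mp hp)
  obtain ⟨kα, hkα, cα, hα⟩ := dec α hαP
  obtain ⟨kβ, hkβ, cβ, hβ⟩ := dec β hβP
  have h1 : β * cα - α * cβ ∈ nilradical B := by
    rw [← hker]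
    have : a' * (β * cα - α * cβ) = α * kβ - β * kα := by
      have e1 : cα * a' = α * z - kα := by rw [hα]; ring
      have e2 : cβ * a' = β * z - kβ := by rw [hβ]; ring
      calc a' * (β * cα - α * cβ) = β * (cα * a') - α * (cβ * a') := by ring
        _ = _ := by rw [e1, e2]; ring
    rw [this]
    exact K.sub_mem (K.mul_mem_left _ hkβ) (K.mul_mem_left _ hkα)
  obtain ⟨s, hs, c, hsc⟩ := r2 cα cβ h1
  set w := s * z - c * a' with hw
  have hαw : α * w ∈ K := by
    have : α * w = s * kα + a' * (s * cα - α * c) := by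
      rw [hw]
      calc α * (s * z - c * a') = s * (α * z) - α * c * a' := by ring
        _ = _ := by rw [hα]; ring
    rw [this]
    exact K.add_mem (K.mul_mem_left _ hkα) ((hker _).mpr hsc)
  have hloc : ∀ p ∈ P, ∃ sp ∉ P, sp * p * w ∈ K := by
    intro p hp
    obtain ⟨kp, hkp, cp, hpz⟩ := dec p hp
    have h2 : α * (s * cp - p * c) ∈ nilradical B := by
      rw [← hker]
      have : a' * (α * (s * cp - p * c)) = p * (α * w) - s * α * kp := by
        have e1 : cp * a' = p * z - kp := by rw [hpz]; ring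
        calc a' * (α * (s * cp - p * c)) = s * α * (cp * a') - α * p * c * a' := by ring
          _ = _ := by rw [e1, hw]; ring
      rw [this]
      exact K.sub_mem (K.mul_mem_left _ hαw) (K.mul_mem_left _ hkp)
    obtain ⟨sp, hsp, hspn⟩ := r1 _ h2
    refine ⟨sp, hsp, ?_⟩
    have : sp * p * w = sp * s * kp + a' * (sp * (s * cp - p * c)) := by
      rw [hw]
      calc sp * p * (s * z - c * a') = sp * s * (p * z) - sp * p * c * a' := by ring
        _ = _ := by rw [hpz]; ring
    rw [this]
    exact K.add_mem (K.mul_mem_left _ hkp) ((hker _).mpr hspn)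
  obtain ⟨s', hs', hunif⟩ := exists_uniform P K w hloc
  have hw' : s' * w ∈ K := by
    apply hI
    intro q hq hqht
    have hPq : ¬ P ≤ q := fun hle => hht ((Ideal.height_mono hle).trans hqht)
    obtain ⟨p, hpP, hpq⟩ := SetLike.not_le_iff_exists.mp hPq
    refine ⟨p, hpq, ?_⟩
    have := hunif p hpP
    rwa [mul_comm s' p, mul_assoc] at this
  have hfin : s' * s ∈ P := by
    rw [hPz, hK']
    refine ⟨s' * w, hw', s' * c, ?_⟩
    rw [hw]; ring
  rcases hP.mem_or_mem hfin with h | h
  exacts [hs' h, hs h]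

end kernel

section induction

variable {A : Type u} [CommRing A] [IsLocalRing A] [IsArtinianRing A]

theorem isNilpotent_maximalIdeal : IsNilpotent (maximalIdeal A) := by
  have := IsArtinianRing.isNilpotent_jacobson_bot (R := A)
  rwa [IsLocalRing.jacobson_eq_maximalIdeal ⊥ bot_ne_top] at this

/-- induction along a composition series of the maximal ideal of an Artinian local ring. -/
theorem ideal_induction (Pr : Ideal A → Prop) (h0 : Pr ⊥)
    (hstep : ∀ (I : Ideal A) (a : A), I ≤ maximalIdeal A → a ∈ maximalIdeal A → a ∉ I →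
      (∀ μ ∈ maximalIdeal A, μ * a ∈ I) → Pr I → Pr (I ⊔ Ideal.span {a})) :
    Pr (maximalIdeal A) := by
  obtain ⟨I₀, ⟨hI₀m, hI₀⟩, hmax⟩ := set_has_maximal_iff_noetherian.mpr
    (inferInstance : IsNoetherian A A) {I : Ideal A | I ≤ maximalIdeal A ∧ Pr I}
    ⟨⊥, bot_le, h0⟩
  by_cases heq : I₀ = maximalIdeal A
  · rw [← heq]; exact hI₀
  exfalso
  obtain ⟨N, hN⟩ := isNilpotent_maximalIdeal (A := A)
  have hex : ∃ t, (maximalIdeal A) ^ t ≤ I₀ := ⟨N, by rw [hN]; exact bot_le⟩
  classical
  set t := Nat.find hex with ht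
  have htspec : (maximalIdeal A) ^ t ≤ I₀ := Nat.find_spec hex
  have ht0 : t ≠ 0 := by
    intro h0
    rw [h0, pow_zero, Ideal.one_eq_top, top_le_iff] at htspec
    exact (IsLocalRing.maximalIdeal.isMaximal A).ne_top (top_le_iff.mp (htspec ▸ hI₀m))
  obtain ⟨t', ht'⟩ := Nat.exists_eq_succ_of_ne_zero ht0
  have hnot : ¬ (maximalIdeal A) ^ t' ≤ I₀ := by
    intro hle
    have := Nat.find_min' hex hle
    omega
  have ht'0 : t' ≠ 0 := by
    intro h0
    apply heq
    apply le_antisymm hI₀m
    rw [ht', h0] at htspec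
    simpa using htspec
  obtain ⟨a, hat, haI⟩ := SetLike.not_le_iff_exists.mp hnot
  have ham : a ∈ maximalIdeal A := Ideal.pow_le_self ht'0 hat
  have hma : ∀ μ ∈ maximalIdeal A, μ * a ∈ I₀ := by
    intro μ hμ
    apply htspec
    rw [ht', pow_succ']
    exact Ideal.mul_mem_mul hμ hat
  have hnew := hstep I₀ a hI₀m ham haI hma hI₀
  have hle : I₀ ⊔ Ideal.span {a} ≤ maximalIdeal A :=
    sup_le hI₀m ((Ideal.span_singleton_le_iff_mem _).mpr ham)
  have hnlt := hmax (I₀ ⊔ Ideal.span {a}) ⟨hle, hnew⟩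
  apply haI
  have : I₀ ⊔ Ideal.span {a} = I₀ := by
    by_contra hne
    exact hnlt (lt_of_le_of_ne le_sup_left (Ne.symm hne))
  rw [← this]
  exact Ideal.mem_sup_right (Ideal.mem_span_singleton_self a)

end induction

section tensor

variable {A : Type u} [CommRing A] [IsLocalRing A] {B : Type u} [CommRing B] [Algebra A B]

theorem lid_rTensor_mem (I : Ideal A) (t : I ⊗[A] B) :
    TensorProduct.lid A B (I.subtype.rTensor B t) ∈ I.map (algebraMap A B) := by
  induction t using TensorProduct.induction_on with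
  | zero => simp
  | tmul i b =>
    rw [LinearMap.rTensor_tmul, TensorProduct.lid_tmul, Submodule.subtype_apply, Algebra.smul_def]
    exact Ideal.mul_mem_right _ _ (Ideal.mem_map_of_mem _ i.2)
  | add x y hx hy => rw [map_add, map_add]; exact Ideal.add_mem _ hx hy

theorem rTensor_injective_step (I : Ideal A) (a : A)
    (hI : Function.Injective (I.subtype.rTensor B))
    (hma : ∀ μ ∈ maximalIdeal A, μ * a ∈ I)
    (hker : ∀ y : B, algebraMap A B a * y ∈ I.map (algebraMap A B) →
      y ∈ (maximalIdeal A).map (algebraMap A B)) :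
    Function.Injective ((I ⊔ Ideal.span {a}).subtype.rTensor B) := by
  set I' := I ⊔ Ideal.span {a} with hI'
  let ι : I →ₗ[A] I' := Submodule.inclusion le_sup_left
  have haI' : a ∈ I' := Ideal.mem_sup_right (Ideal.mem_span_singleton_self a)
  let a₀ : I' := ⟨a, haI'⟩
  have hcomp : ∀ t₀ : I ⊗[A] B,
      I'.subtype.rTensor B (ι.rTensor B t₀) = I.subtype.rTensor B t₀ := by
    intro t₀
    rw [← LinearMap.rTensor_comp_apply]
    rfl
  have hdec : ∀ t : I' ⊗[A] B, ∃ (t₀ : I ⊗[A] B) (b : B),
      t = ι.rTensor B t₀ + a₀ ⊗ₜ[A] b := by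
    intro t
    induction t using TensorProduct.induction_on with
    | zero => exact ⟨0, 0, by simp⟩
    | tmul i' b' =>
      obtain ⟨i, hi, x, hx, hix⟩ := Submodule.mem_sup.mp i'.2
      obtain ⟨r, rfl⟩ := Ideal.mem_span_singleton'.mp hx
      refine ⟨(⟨i, hi⟩ : I) ⊗ₜ[A] b', r • b', ?_⟩
      rw [LinearMap.rTensor_tmul, ← TensorProduct.smul_tmul, ← TensorProduct.add_tmul]
      congr 1
      apply Subtype.ext
      simp [ι, a₀, ← hix]
    | add x y hx hy =>
      obtain ⟨t₀, b, rfl⟩ := hx
      obtain ⟨t₀', b', rfl⟩ := hy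
      exact ⟨t₀ + t₀', b + b', by rw [map_add, TensorProduct.tmul_add]; abel⟩
  have himg : ∀ b ∈ (maximalIdeal A) • (⊤ : Submodule A B),
      ∃ t₁ : I ⊗[A] B, ι.rTensor B t₁ = a₀ ⊗ₜ[A] b := by
    intro b hb
    refine Submodule.smul_induction_on hb ?_ ?_
    · intro μ hμ b' _
      refine ⟨(⟨μ * a, hma μ hμ⟩ : I) ⊗ₜ[A] b', ?_⟩
      rw [LinearMap.rTensor_tmul, ← TensorProduct.smul_tmul]
      congr 1
    · rintro x y ⟨t, ht⟩ ⟨t', ht'⟩
      exact ⟨t + t', by rw [map_add, ht, ht', TensorProduct.tmul_add]⟩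
  rw [injective_iff_map_eq_zero]
  intro t ht
  obtain ⟨t₀, b, rfl⟩ := hdec t
  have ht' := ht
  rw [map_add, hcomp, LinearMap.rTensor_tmul] at ht
  have h1 := congrArg (TensorProduct.lid A B) ht
  rw [map_add, map_zero, TensorProduct.lid_tmul] at h1
  have h2 : algebraMap A B a * b ∈ I.map (algebraMap A B) := by
    have : algebraMap A B a * b = - TensorProduct.lid A B (I.subtype.rTensor B t₀) := by
      rw [← Algebra.smul_def]; exact eq_neg_of_add_eq_zero_right h1
    rw [this]
    exact (Ideal.neg_mem_iff _).mpr (lid_rTensor_mem I t₀)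
  have h3 := hker b h2
  have h4 : b ∈ (maximalIdeal A) • (⊤ : Submodule A B) := by
    rw [Ideal.smul_top_eq_map]; exact h3
  obtain ⟨t₁, ht₁⟩ := himg b h4
  rw [← ht₁, ← map_add]
  have h5 : I.subtype.rTensor B (t₀ + t₁) = 0 := by
    rw [← hcomp, map_add, ht₁]
    exact ht'
  rw [hI (by rw [h5, map_zero] : I.subtype.rTensor B (t₀ + t₁) = I.subtype.rTensor B 0), map_zero]

end tensor

section main

variable {A : Type u} [CommRing A] [IsArtinianRing A] [IsLocalRing A]
  (B : Type u) [CommRing B] [Algebra A B] [IsNoetherianRing B]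

theorem goodAt_of_hcodim
    (hcodim : ∀ (q : Ideal B) [q.IsPrime], q.height ≤ 1 →
      Module.Flat A (Localization.AtPrime q) ∧ IsReduced (EGA4.FibLocRing A B q)) :
    ∀ q : Ideal B, q.IsPrime → q.height ≤ 1 → GoodAt A q := by
  intro q hq hht
  exact goodAt_of q (hcodim q hht).1 (hcodim q hht).2

theorem closed1_map_maximalIdeal
    (hS1 : LocCoh.HasSk 1 B B) (hS2 : LocCoh.HasSk 2 (B ⧸ nilradical B) (B ⧸ nilradical B))
    (hcodim : ∀ (q : Ideal B) [q.IsPrime], q.height ≤ 1 →
      Module.Flat A (Localization.AtPrime q) ∧ IsReduced (EGA4.FibLocRing A B q)) :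
    Closed1 ((maximalIdeal A).map (algebraMap A B)) := by
  refine ideal_induction (fun I => Closed1 (I.map (algebraMap A B))) ?_ ?_
  · rw [Ideal.map_bot]; exact closed1_bot hS1
  · intro I a _ _ ha hma hI
    exact closed1_step isNilpotent_maximalIdeal (goodAt_of_hcodim B hcodim) hS2 I a ha hma hI

theorem nilradical_eq_map_maximalIdeal
    (hS1 : LocCoh.HasSk 1 B B) (hS2 : LocCoh.HasSk 2 (B ⧸ nilradical B) (B ⧸ nilradical B))
    (hcodim : ∀ (q : Ideal B) [q.IsPrime], q.height ≤ 1 →
      Module.Flat A (Localization.AtPrime q) ∧ IsReduced (EGA4.FibLocRing A B q)) :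
    nilradical B = (maximalIdeal A).map (algebraMap A B) := by
  have hker := mul_mem_iff isNilpotent_maximalIdeal (goodAt_of_hcodim B hcodim) (maximalIdeal A) 1
    (fun h => (IsLocalRing.maximalIdeal.isMaximal A).ne_top ((Ideal.eq_top_iff_one _).mpr h))
    (fun μ hμ => by rwa [mul_one]) (closed1_map_maximalIdeal B hS1 hS2 hcodim)
  ext y
  rw [← hker y, map_one, one_mul]

theorem isReduced_quotient
    (hS1 : LocCoh.HasSk 1 B B) (hS2 : LocCoh.HasSk 2 (B ⧸ nilradical B) (B ⧸ nilradical B))
    (hcodim : ∀ (q : Ideal B) [q.IsPrime], q.height ≤ 1 →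
      Module.Flat A (Localization.AtPrime q) ∧ IsReduced (EGA4.FibLocRing A B q)) :
    IsReduced (B ⧸ (maximalIdeal A).map (algebraMap A B)) := by
  rw [← nilradical_eq_map_maximalIdeal B hS1 hS2 hcodim, ← Ideal.isRadical_iff_quotient_reduced]
  exact Ideal.radical_isRadical ⊥

theorem flat
    (hS1 : LocCoh.HasSk 1 B B) (hS2 : LocCoh.HasSk 2 (B ⧸ nilradical B) (B ⧸ nilradical B))
    (hcodim : ∀ (q : Ideal B) [q.IsPrime], q.height ≤ 1 →
      Module.Flat A (Localization.AtPrime q) ∧ IsReduced (EGA4.FibLocRing A B q)) :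
    Module.Flat A B := by
  have hnil := nilradical_eq_map_maximalIdeal B hS1 hS2 hcodim
  have hm := isNilpotent_maximalIdeal (A := A)
  have hgood := goodAt_of_hcodim B hcodim
  have hinj : Function.Injective ((maximalIdeal A).subtype.rTensor B) := by
    refine (ideal_induction (fun I => Closed1 (I.map (algebraMap A B)) ∧
      Function.Injective (I.subtype.rTensor B)) ⟨?_, ?_⟩ ?_).2
    · rw [Ideal.map_bot]; exact closed1_bot hS1
    · exact Function.injective_of_subsingleton _
    · rintro I a _ _ ha hma ⟨hI, hinj⟩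
      refine ⟨closed1_step hm hgood hS2 I a ha hma hI, rTensor_injective_step I a hinj hma ?_⟩
      intro y hy
      rw [← hnil]
      exact (mul_mem_iff hm hgood I a ha hma hI y).mp hy
  have : Module.Flat (A ⧸ maximalIdeal A) ((A ⧸ maximalIdeal A) ⊗[A] B) := by
    let : Field (A ⧸ maximalIdeal A) := Ideal.Quotient.field _
    infer_instance
  exact Groth.Agent.Lib.Helper9.flat_of_isNilpotent_of_rTensor_injective (maximalIdeal A) hm hinj

end main

end Groth.Agent.Lib.Helper8.FamCycFlat
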