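import Mathlib
import Groth.Prelude.Def_Smoothing
import Groth.Agent.Lib.Helper23.GRingPoly3
import Groth.Agent.Lib.Helper18.Exc

set_option backward.isDefEq.respectTransparency.types false
set_option autoImplicit false
set_option linter.unusedSectionVars false
set_option linter.style.haveILetI false

namespace Groth.Agent.Lib.Helper8.AA10

universe u

/-- Local rings of finite type algebras over a ring whose local ring below is a G-ring are
G-rings. -/
theorem isGRing_of_finiteType_atPrime {R A : Type u} [CommRing R] [CommRing A] [Algebra R A]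
    [Algebra.FiniteType R A] (𝔭 : Ideal A) [𝔭.IsPrime] (𝔭₀ : Ideal R) [𝔭₀.IsPrime]
    (h𝔭₀ : 𝔭.comap (algebraMap R A) = 𝔭₀)
    (OS : Type u) [CommRing OS] [Algebra R OS] [IsLocalization.AtPrime OS 𝔭₀]
    (OX : Type u) [CommRing OX] [Algebra A OX] [IsLocalization.AtPrime OX 𝔭]
    (hG : CAlg.IsGRing OS) : CAlg.IsGRing OX := by
  -- `OS → A₀` of finite type
  have hft : RingHom.FiniteType (algebraMap R A) := RingHom.finiteType_algebraMap.mpr inferInstance
  have h1 := RingHom.finiteType_localizationPreserves (algebraMap R A) 𝔭₀.primeCompl OS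
    (Localization (Submonoid.map (algebraMap R A) 𝔭₀.primeCompl)) hft
  letI : Algebra OS (Localization (Submonoid.map (algebraMap R A) 𝔭₀.primeCompl)) :=
    (IsLocalization.map (Localization (Submonoid.map (algebraMap R A) 𝔭₀.primeCompl))
      (algebraMap R A) (Submonoid.le_comap_map 𝔭₀.primeCompl) :
    OS →+* Localization (Submonoid.map (algebraMap R A) 𝔭₀.primeCompl)).toAlgebra
  haveI : Algebra.FiniteType OS (Localization (Submonoid.map (algebraMap R A) 𝔭₀.primeCompl)) :=
    RingHom.finiteType_algebraMap.mp h1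
  have hA₀ : CAlg.IsGRing (Localization (Submonoid.map (algebraMap R A) 𝔭₀.primeCompl)) :=
    Groth.Agent.Lib.Helper23.GRingPoly.isGRing_of_finiteType OS hG _
  -- `OX` is a localization of `A₀`
  have hle : Submonoid.map (algebraMap R A) 𝔭₀.primeCompl ≤ 𝔭.primeCompl := by
    rintro _ ⟨r, hr, rfl⟩
    intro h
    apply hr
    rw [← h𝔭₀]
    exact h
  letI : Algebra (Localization (Submonoid.map (algebraMap R A) 𝔭₀.primeCompl)) OX :=
    (IsLocalization.lift (M := Submonoid.map (algebraMap R A) 𝔭₀.primeCompl)
      (g := algebraMap A OX) (fun y =>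
    IsLocalization.map_units OX (⟨y.1, hle y.2⟩ : 𝔭.primeCompl))).toAlgebra
  haveI : IsScalarTower A (Localization (Submonoid.map (algebraMap R A) 𝔭₀.primeCompl)) OX :=
    IsScalarTower.of_algebraMap_eq (fun x => by
      rw [RingHom.algebraMap_toAlgebra, IsLocalization.lift_eq])
  haveI := IsLocalization.isLocalization_of_submonoid_le
    (Localization (Submonoid.map (algebraMap R A) 𝔭₀.primeCompl)) OX
    (Submonoid.map (algebraMap R A) 𝔭₀.primeCompl) 𝔭.primeCompl hle
  exact Groth.Agent.Lib.Helper18.Exc.isGRing_of_isLocalization _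
    (Submonoid.map (algebraMap A (Localization (Submonoid.map (algebraMap R A) 𝔭₀.primeCompl)))
      𝔭.primeCompl) OX hA₀

end Groth.Agent.Lib.Helper8.AA10
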