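import Mathlib

set_option backward.isDefEq.respectTransparency.types false
set_option autoImplicit false
set_option linter.unusedSectionVars false
set_option linter.style.haveILetI false

namespace Groth.Agent.Lib.Helper8.AA6

universe u

section Step

variable {R : Type u} [CommRing R] (M₀ M : Submonoid R) (hle : M₀ ≤ M)
  (R₁ W : Type u) [CommRing R₁] [CommRing W] [Algebra R R₁] [Algebra R W] [Algebra R₁ W]
  [IsScalarTower R R₁ W] [IsLocalization M₀ R₁] [IsLocalization M W]

include hle in
/-- an element of `R₁ = M₀⁻¹R` that lands in `I W` is, up to an element of `M`, in `I R₁`. -/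
theorem exists_mul_mem (I : Ideal R) (x : R₁)
    (hx : algebraMap R₁ W x ∈ I.map (algebraMap R W)) :
    ∃ m ∈ M, algebraMap R R₁ m * x ∈ I.map (algebraMap R R₁) := by
  haveI : IsLocalization (M.map (algebraMap R R₁)) W :=
    IsLocalization.isLocalization_of_submonoid_le R₁ W M₀ M hle
  have hI : I.map (algebraMap R W) = (I.map (algebraMap R R₁)).map (algebraMap R₁ W) := by
    rw [Ideal.map_map, ← IsScalarTower.algebraMap_eq]
  rw [hI, IsLocalization.mem_map_algebraMap_iff (M.map (algebraMap R R₁)) W] at hx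
  obtain ⟨⟨⟨a, ha⟩, ⟨s, hs⟩⟩, hxs⟩ := hx
  have h0 : algebraMap R₁ W (x * s - a) = 0 := by
    rw [map_sub, map_mul, sub_eq_zero]
    exact hxs
  obtain ⟨⟨s', hs'⟩, hs'0⟩ :=
    (IsLocalization.map_eq_zero_iff (M.map (algebraMap R R₁)) W _).mp h0
  obtain ⟨m, hm, rfl⟩ := hs
  obtain ⟨m', hm', rfl⟩ := hs'
  refine ⟨m' * m, M.mul_mem hm' hm, ?_⟩
  have h1 : algebraMap R R₁ (m' * m) * x = algebraMap R R₁ m' * a := by
    have : algebraMap R R₁ m' * (x * algebraMap R R₁ m - a) = 0 := hs'0
    rw [map_mul]
    linear_combination this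
  rw [h1]
  exact Ideal.mul_mem_left _ _ ha

end Step

section Main

variable {R : Type u} [CommRing R] (M : Submonoid R) (W : Type u) [CommRing W] [Algebra R W]
  [IsLocalization M W]

/-- the canonical map `R_f → W` for `f ∈ M`. -/
noncomputable def awayToW (f : R) (hf : f ∈ M) : Localization.Away f →ₐ[R] W :=
  IsLocalization.liftAlgHom (M := Submonoid.powers f) (f := Algebra.ofId R W) (by
    rintro ⟨_, n, rfl⟩
    change IsUnit (algebraMap R W (f ^ n))
    rw [map_pow]
    exact (IsLocalization.map_units W (⟨f, hf⟩ : M)).pow n)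

theorem awayToW_algebraMap (f : R) (hf : f ∈ M) (r : R) :
    awayToW M W f hf (algebraMap R _ r) = algebraMap R W r :=
  (awayToW M W f hf).commutes r

/-- transition map `R_{f₁} → R_f` when `f = f₁ * c`. -/
noncomputable def awayTrans (f₁ c : R) : Localization.Away f₁ →ₐ[R] Localization.Away (f₁ * c) :=
  IsLocalization.liftAlgHom (M := Submonoid.powers f₁)
    (f := Algebra.ofId R (Localization.Away (f₁ * c))) (by
    rintro ⟨_, n, rfl⟩
    change IsUnit (algebraMap R (Localization.Away (f₁ * c)) (f₁ ^ n))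
    rw [map_pow]
    refine IsUnit.pow n ?_
    have h := IsLocalization.Away.algebraMap_isUnit (S := Localization.Away (f₁ * c)) (f₁ * c)
    rw [map_mul] at h
    exact isUnit_of_mul_isUnit_left h)

theorem awayToW_comp_awayTrans (f₁ c : R) (hf₁ : f₁ ∈ M) (hc : c ∈ M) :
    (awayToW M W (f₁ * c) (M.mul_mem hf₁ hc)).comp (awayTrans f₁ c) = awayToW M W f₁ hf₁ := by
  apply AlgHom.coe_ringHom_injective
  apply IsLocalization.ringHom_ext (Submonoid.powers f₁)
  ext r
  have h1 : (awayTrans f₁ c) (algebraMap R _ r) = algebraMap R _ r := (awayTrans f₁ c).commutes r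
  have h2 := awayToW_algebraMap M W (f₁ * c) (M.mul_mem hf₁ hc) r
  have h3 := awayToW_algebraMap M W f₁ hf₁ r
  change (awayToW M W (f₁ * c) (M.mul_mem hf₁ hc)) ((awayTrans f₁ c) (algebraMap R _ r)) =
    awayToW M W f₁ hf₁ (algebraMap R _ r)
  rw [h1, h2, h3]

theorem exists_away_points (I : Ideal R) {n : ℕ} (S : Finset (MvPolynomial (Fin n) R))
    (w : Fin n → W) (hw : ∀ g ∈ S, MvPolynomial.aeval w g ∈ I.map (algebraMap R W)) :
    ∃ (f : R) (hf : f ∈ M) (z : Fin n → Localization.Away f),
      (∀ g ∈ S, MvPolynomial.aeval z g ∈ I.map (algebraMap R (Localization.Away f))) ∧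
      ∀ i, awayToW M W f hf (z i) = w i := by
  classical
  -- common denominator
  obtain ⟨⟨f₁, hf₁⟩, hint⟩ := IsLocalization.exist_integer_multiples M (Finset.univ : Finset (Fin n)) w
  choose r hr using fun i => hint i (Finset.mem_univ i)
  -- points in `R_{f₁}`
  let z₁ : Fin n → Localization.Away f₁ := fun i =>
    IsLocalization.mk' (Localization.Away f₁) (r i) (⟨f₁, Submonoid.mem_powers f₁⟩ : Submonoid.powers f₁)
  have hunit : IsUnit (algebraMap R W f₁) := IsLocalization.map_units W (⟨f₁, hf₁⟩ : M)
  have hz₁ : ∀ i, awayToW M W f₁ hf₁ (z₁ i) = w i := by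
    intro i
    have h1 : z₁ i * algebraMap R _ f₁ = algebraMap R _ (r i) :=
      IsLocalization.mk'_spec _ _ _
    have h2 := congrArg (awayToW M W f₁ hf₁) h1
    rw [map_mul, AlgHom.commutes, AlgHom.commutes, hr i, Algebra.smul_def] at h2
    have h3 : awayToW M W f₁ hf₁ (z₁ i) * algebraMap R W f₁ = w i * algebraMap R W f₁ := by
      rw [h2]
      change algebraMap R W f₁ * w i = _
      ring
    exact hunit.mul_right_cancel h3
  letI : Algebra (Localization.Away f₁) W := (awayToW M W f₁ hf₁).toRingHom.toAlgebra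
  haveI : IsScalarTower R (Localization.Away f₁) W := IsScalarTower.of_algebraMap_eq (fun r => by
    change algebraMap R W r = awayToW M W f₁ hf₁ (algebraMap R _ r)
    rw [AlgHom.commutes])
  have hpow : Submonoid.powers f₁ ≤ M := by
    rintro _ ⟨k, rfl⟩
    exact M.pow_mem hf₁ k
  have hstep : ∀ g ∈ S, ∃ m ∈ M, algebraMap R (Localization.Away f₁) m * MvPolynomial.aeval z₁ g ∈
      I.map (algebraMap R (Localization.Away f₁)) := by
    intro g hg
    apply exists_mul_mem (Submonoid.powers f₁) M hpow (Localization.Away f₁) W I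
    have : algebraMap (Localization.Away f₁) W (MvPolynomial.aeval z₁ g) =
        MvPolynomial.aeval w g := by
      change awayToW M W f₁ hf₁ (MvPolynomial.aeval z₁ g) = _
      rw [← AlgHom.comp_apply]
      have : (awayToW M W f₁ hf₁).comp (MvPolynomial.aeval z₁) = MvPolynomial.aeval w := by
        apply MvPolynomial.algHom_ext
        intro i
        rw [AlgHom.comp_apply, MvPolynomial.aeval_X, MvPolynomial.aeval_X, hz₁]
      rw [this]
    rw [this]
    exact hw g hg
  choose! mm hmmM hmm using hstep
  let c : R := ∏ g ∈ S, mm g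
  have hc : c ∈ M := Submonoid.prod_mem M (fun g hg => hmmM g hg)
  refine ⟨f₁ * c, M.mul_mem hf₁ hc, fun i => awayTrans f₁ c (z₁ i), ?_, ?_⟩
  · intro g hg
    have h1 : MvPolynomial.aeval (fun i => awayTrans f₁ c (z₁ i)) g =
        awayTrans f₁ c (MvPolynomial.aeval z₁ g) := by
      rw [← AlgHom.comp_apply]
      congr 1
      apply MvPolynomial.algHom_ext
      intro i
      rw [AlgHom.comp_apply, MvPolynomial.aeval_X, MvPolynomial.aeval_X]
    rw [h1]
    have h2 : awayTrans f₁ c (algebraMap R (Localization.Away f₁) (mm g) *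
        MvPolynomial.aeval z₁ g) ∈ I.map (algebraMap R (Localization.Away (f₁ * c))) := by
      have hle : I.map (algebraMap R (Localization.Away f₁)) ≤
          (I.map (algebraMap R (Localization.Away (f₁ * c)))).comap (awayTrans f₁ c).toRingHom := by
        rw [Ideal.map_le_iff_le_comap]
        intro a ha
        rw [Ideal.mem_comap, Ideal.mem_comap]
        change awayTrans f₁ c (algebraMap R _ a) ∈ _
        rw [AlgHom.commutes]
        exact Ideal.mem_map_of_mem _ ha
      exact hle (hmm g hg)
    rw [map_mul, AlgHom.commutes] at h2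
    have hu : IsUnit (algebraMap R (Localization.Away (f₁ * c)) (mm g)) := by
      have h := IsLocalization.Away.algebraMap_isUnit (S := Localization.Away (f₁ * c)) (f₁ * c)
      have hdvd : mm g ∣ f₁ * c := Dvd.dvd.mul_left (Finset.dvd_prod_of_mem mm hg) f₁
      obtain ⟨d, hd⟩ := hdvd
      have h' : algebraMap R (Localization.Away (f₁ * c)) (f₁ * c) =
          algebraMap R (Localization.Away (f₁ * c)) (mm g) *
            algebraMap R (Localization.Away (f₁ * c)) d := by
        rw [← map_mul, ← hd]
      rw [h'] at h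
      exact isUnit_of_mul_isUnit_left h
    exact (Ideal.unit_mul_mem_iff_mem _ hu).mp h2
  · intro i
    rw [← AlgHom.comp_apply, awayToW_comp_awayTrans M W f₁ c hf₁ hc, hz₁]

theorem map_le_comap_awayToW (I : Ideal R) (f : R) (hf : f ∈ M) :
    I.map (algebraMap R (Localization.Away f)) ≤
      (I.map (algebraMap R W)).comap (awayToW M W f hf) := by
  rw [Ideal.map_le_iff_le_comap]
  intro a ha
  rw [Ideal.mem_comap, Ideal.mem_comap, awayToW_algebraMap]
  exact Ideal.mem_map_of_mem _ ha

/-- comparison map on quotients. -/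
noncomputable def quotAwayToW (I : Ideal R) (f : R) (hf : f ∈ M) :
    (Localization.Away f ⧸ I.map (algebraMap R (Localization.Away f))) →ₐ[R]
      W ⧸ I.map (algebraMap R W) :=
  Ideal.quotientMapₐ (I.map (algebraMap R W)) (awayToW M W f hf) (map_le_comap_awayToW M W I f hf)

theorem quotAwayToW_mk (I : Ideal R) (f : R) (hf : f ∈ M) (x : Localization.Away f) :
    quotAwayToW M W I f hf (Ideal.Quotient.mk _ x) = Ideal.Quotient.mk _ (awayToW M W f hf x) :=
  rfl

/-- a section modulo `I` over the localization `W = M⁻¹R` of a finitely presented algebra descends to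
some `R_f`, `f ∈ M`. -/
theorem exists_away_section (I : Ideal R) (B : Type u) [CommRing B] [Algebra R B]
    [Algebra.FinitePresentation R B] (σ : B →ₐ[R] W ⧸ I.map (algebraMap R W)) :
    ∃ (f : R) (hf : f ∈ M)
      (σf : B →ₐ[R] Localization.Away f ⧸ I.map (algebraMap R (Localization.Away f))),
      ∀ b, quotAwayToW M W I f hf (σf b) = σ b := by
  classical
  obtain ⟨n, π, hπ, hker⟩ := Algebra.FinitePresentation.out (R := R) (A := B)
  obtain ⟨S, hS⟩ := hker
  choose w hw using fun i : Fin n => Ideal.Quotient.mk_surjective (σ (π (MvPolynomial.X i)))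
  have hcomp : (Ideal.Quotient.mkₐ R (I.map (algebraMap R W))).comp (MvPolynomial.aeval w) =
      σ.comp π := by
    apply MvPolynomial.algHom_ext
    intro i
    rw [AlgHom.comp_apply, AlgHom.comp_apply, MvPolynomial.aeval_X]
    exact hw i
  have hwS : ∀ g ∈ S, MvPolynomial.aeval w g ∈ I.map (algebraMap R W) := by
    intro g hg
    rw [← Ideal.Quotient.eq_zero_iff_mem]
    have h1 : Ideal.Quotient.mk (I.map (algebraMap R W)) (MvPolynomial.aeval w g) =
        σ (π g) := congrArg (fun φ => φ g) hcomp
    rw [h1]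
    have h2 : π g = 0 := by
      have : g ∈ RingHom.ker π.toRingHom := by
        rw [← hS]
        exact Ideal.subset_span hg
      exact this
    rw [h2, map_zero]
  obtain ⟨f, hf, z, hzS, hzw⟩ := exists_away_points M W I S w hwS
  let θ : MvPolynomial (Fin n) R →ₐ[R]
      Localization.Away f ⧸ I.map (algebraMap R (Localization.Away f)) :=
    (Ideal.Quotient.mkₐ R _).comp (MvPolynomial.aeval z)
  have hθ : ∀ x ∈ RingHom.ker π.toRingHom, θ x = 0 := by
    intro x hx
    have hle : RingHom.ker π.toRingHom ≤ RingHom.ker θ.toRingHom := by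
      rw [← hS, Ideal.span_le]
      intro g hg
      change θ g = 0
      change Ideal.Quotient.mk _ (MvPolynomial.aeval z g) = 0
      rw [Ideal.Quotient.eq_zero_iff_mem]
      exact hzS g hg
    exact hle hx
  let σf : B →ₐ[R] Localization.Away f ⧸ I.map (algebraMap R (Localization.Away f)) :=
    (Ideal.Quotient.liftₐ (RingHom.ker π.toRingHom) θ hθ).comp
      (Ideal.quotientKerAlgEquivOfSurjective hπ).symm.toAlgHom
  have hσf : ∀ p, σf (π p) = θ p := by
    intro p
    change (Ideal.Quotient.liftₐ (RingHom.ker π.toRingHom) θ hθ)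
      ((Ideal.quotientKerAlgEquivOfSurjective hπ).symm (π p)) = θ p
    have : (Ideal.quotientKerAlgEquivOfSurjective hπ).symm (π p) =
        Ideal.Quotient.mk _ p := by
      rw [AlgEquiv.symm_apply_eq]
      rfl
    rw [this]
    rfl
  refine ⟨f, hf, σf, ?_⟩
  intro b
  obtain ⟨p, rfl⟩ := hπ b
  rw [hσf]
  have h3 : (quotAwayToW M W I f hf).comp θ = σ.comp π := by
    apply MvPolynomial.algHom_ext
    intro i
    rw [AlgHom.comp_apply, AlgHom.comp_apply]
    change quotAwayToW M W I f hf (Ideal.Quotient.mk _ (MvPolynomial.aeval z (MvPolynomial.X i))) = _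
    rw [MvPolynomial.aeval_X, quotAwayToW_mk, hzw]
    exact hw i
  exact congrArg (fun φ => φ p) h3

end Main

end Groth.Agent.Lib.Helper8.AA6
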