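import Mathlib
import Groth.Prelude.Def_Smoothing
import Groth.Agent.Lib.Helper8.AA3
import Groth.Agent.Lib.Helper8.AA6
import Groth.Agent.Lib.Helper18.LocHom
import Groth.Agent.Lib.Helper18.PMor2

set_option backward.isDefEq.respectTransparency.types false
set_option autoImplicit false
set_option linter.unusedSectionVars false
set_option linter.style.haveILetI false

open TensorProduct

namespace Groth.Agent.Lib.Helper8.AA7

universe u

open Groth.Agent.Lib.Helper8.AA6

theorem mem_map_of_algEquiv {R P Q : Type*} [CommRing R] [CommRing P] [CommRing Q] [Algebra R P]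
    [Algebra R Q] (e : P ≃ₐ[R] Q) (K : Ideal R) (r : R)
    (h : algebraMap R P r ∈ K.map (algebraMap R P)) :
    algebraMap R Q r ∈ K.map (algebraMap R Q) := by
  have hmap : (K.map (algebraMap R P)).map e.toAlgHom.toRingHom = K.map (algebraMap R Q) := by
    rw [Ideal.map_map]
    congr 1
    ext x
    exact e.toAlgHom.commutes x
  rw [← hmap]
  have := Ideal.mem_map_of_mem e.toAlgHom.toRingHom h
  have h3 : e.toAlgHom.toRingHom (algebraMap R P r) = algebraMap R Q r := e.toAlgHom.commutes r
  rw [h3] at this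
  exact this

theorem map_quotient_eq {R A : Type*} [CommRing R] [CommRing A] [Algebra R A] (J : Ideal A)
    (K : Ideal R) :
    K.map (algebraMap R (A ⧸ J)) = (K.map (algebraMap R A)).map (Ideal.Quotient.mk J) := by
  rw [Ideal.map_map]
  rfl

theorem mem_of_mk_mem_map {A : Type*} [CommRing A] (J L : Ideal A) (hJL : J ≤ L) (x : A)
    (h : Ideal.Quotient.mk J x ∈ L.map (Ideal.Quotient.mk J)) : x ∈ L := by
  rw [Ideal.mem_map_iff_of_surjective _ Ideal.Quotient.mk_surjective] at h
  obtain ⟨v, hv, hvr⟩ := h
  have h6 : v - x ∈ J := Ideal.Quotient.eq.mp hvr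
  have := Ideal.sub_mem _ hv (hJL h6)
  rwa [sub_sub_cancel] at this

/-- the étale neighbourhood over a localization: core construction. -/
theorem core {R : Type u} [CommRing R] (M : Submonoid R) (W : Type u) [CommRing W] [Algebra R W]
    [IsLocalization M W] (I : Ideal R) (C : Type u) [CommRing C] [Algebra W C] [Algebra R C]
    [IsScalarTower R W C]
    (hH : HenselianRing C ((I.map (algebraMap R W)).map (algebraMap W C)))
    (ε : C →ₐ[W] W ⧸ I.map (algebraMap R W))
    (hε : ∀ y ∈ (I.map (algebraMap R W)).map (algebraMap W C), ε y = 0)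
    (B : Type u) [CommRing B] [Algebra R B] [Algebra.Smooth R B] (h : B →ₐ[R] C) :
    ∃ (f : R) (_ : f ∈ M) (R' : Type u) (_ : CommRing R') (_ : Algebra R R'), Algebra.Etale R R' ∧
      ∃ (ψ : R' →ₐ[R] C) (τ : B →ₐ[R] R'),
        (∀ y : B, ε (h y) = ε (ψ (τ y))) ∧
        (∀ x : R', ∃ (r : R) (k : ℕ), algebraMap R R' (f ^ k) * x - algebraMap R R' r ∈
          I.map (algebraMap R R')) ∧
        (∀ K : Ideal R, I ≤ K → ∀ r : R, algebraMap R R' r ∈ K.map (algebraMap R R') →
          ∃ k : ℕ, f ^ k * r ∈ K) ∧ IsUnit (algebraMap R R' f) := by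
  classical
  haveI := hH
  -- the section modulo `I` over `W`
  let σ₀ : B →ₐ[R] W ⧸ I.map (algebraMap R W) := (ε.restrictScalars R).comp h
  obtain ⟨f, hf, σf, hσf⟩ := exists_away_section M W I B σ₀
  -- base change to `R_f`
  let Rf := Localization.Away f
  let If : Ideal Rf := I.map (algebraMap R Rf)
  let σ₁ : Rf ⊗[R] B →ₐ[Rf] Rf ⧸ If :=
    Algebra.TensorProduct.lift (Algebra.ofId Rf (Rf ⧸ If)) σf (fun _ _ => Commute.all _ _)
  have hσ₁ : ∀ y : B, σ₁ (1 ⊗ₜ y) = σf y := by
    intro y
    simp [σ₁]
  obtain ⟨R', _, _, het, hbij, τ, hτ⟩ := Groth.Agent.S2043.result (A := Rf) (B := Rf ⊗[R] B) If σ₁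
  haveI := het
  letI : Algebra R R' := ((algebraMap Rf R').comp (algebraMap R Rf)).toAlgebra
  haveI : IsScalarTower R Rf R' := IsScalarTower.of_algebraMap_eq (fun _ => rfl)
  haveI : Algebra.Etale R Rf := Algebra.Etale.of_isLocalizationAway f
  haveI hetR : Algebra.Etale R R' := Algebra.Etale.comp R Rf R'
  let e : (Rf ⧸ If) ≃ₐ[Rf] (R' ⧸ If.map (algebraMap Rf R')) :=
    AlgEquiv.ofBijective (IsScalarTower.toAlgHom Rf (Rf ⧸ If) (R' ⧸ If.map (algebraMap Rf R'))) hbij
  have he : ∀ x, e x = algebraMap (Rf ⧸ If) (R' ⧸ If.map (algebraMap Rf R')) x := fun x => rfl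
  let eR : (Rf ⧸ If) ≃ₐ[R] (R' ⧸ If.map (algebraMap Rf R')) := e.restrictScalars R
  have heR : ∀ x, eR x = e x := fun x => rfl
  have hIR' : If.map (algebraMap Rf R') = I.map (algebraMap R R') := by
    rw [Ideal.map_map, ← IsScalarTower.algebraMap_eq]
  -- the map `R' → W/IW`
  let ρ : R' →ₐ[R] W ⧸ I.map (algebraMap R W) :=
    (quotAwayToW M W I f hf).comp (eR.symm.toAlgHom.comp (Ideal.Quotient.mkₐ R _))
  have hρ : ∀ x : R', ρ x = quotAwayToW M W I f hf (e.symm (Ideal.Quotient.mk _ x)) := fun x => rfl
  -- to the quotient of `C`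
  let q : (W ⧸ I.map (algebraMap R W)) →ₐ[R]
      C ⧸ (I.map (algebraMap R W)).map (algebraMap W C) :=
    Ideal.quotientMapₐ _ (IsScalarTower.toAlgHom R W C) Ideal.le_comap_map
  have hq : ∀ w : W, q (Ideal.Quotient.mk _ w) = Ideal.Quotient.mk _ (algebraMap W C w) :=
    fun w => rfl
  obtain ⟨ψ, hψ⟩ := Groth.Agent.Lib.Helper4.HenselPair.exists_lift_of_etale_algebra
    ((I.map (algebraMap R W)).map (algebraMap W C)) (q.comp ρ)
  have hψ' : ∀ x : R', Ideal.Quotient.mk _ (ψ x) = q (ρ x) := fun x => DFunLike.congr_fun hψ x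
  have hkey : ∀ x : R', ε (ψ x) = ρ x := by
    intro x
    obtain ⟨w, hw⟩ := Ideal.Quotient.mk_surjective (ρ x)
    have h1 : ψ x - algebraMap W C w ∈ (I.map (algebraMap R W)).map (algebraMap W C) := by
      rw [← Ideal.Quotient.eq, hψ', ← hw, hq]
    have h2 := hε _ h1
    rw [map_sub, sub_eq_zero] at h2
    rw [h2, ← hw, AlgHom.commutes]
    rfl
  let τR : B →ₐ[R] R' := (τ.restrictScalars R).comp Algebra.TensorProduct.includeRight
  have hτR : ∀ y : B, τR y = τ (1 ⊗ₜ y) := fun y => rfl
  refine ⟨f, hf, R', inferInstance, inferInstance, hetR, ψ, τR, ?_, ?_, ?_, ?_⟩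
  rotate_left 3
  · change IsUnit (algebraMap Rf R' (algebraMap R Rf f))
    exact (IsLocalization.Away.algebraMap_isUnit f).map (algebraMap Rf R')
  · intro y
    rw [hkey, hρ, hτR, hτ, ← he, e.symm_apply_apply, hσ₁, hσf]
    rfl
  · intro x
    obtain ⟨u, hu⟩ := Ideal.Quotient.mk_surjective (e.symm (Ideal.Quotient.mk _ x))
    obtain ⟨⟨r, ⟨_, k, rfl⟩⟩, hr⟩ := IsLocalization.surj (Submonoid.powers f) u
    refine ⟨r, k, ?_⟩
    have h1 : Ideal.Quotient.mk (If.map (algebraMap Rf R')) x =
        Ideal.Quotient.mk _ (algebraMap Rf R' u) := by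
      have : e (Ideal.Quotient.mk _ u) = Ideal.Quotient.mk _ x := by
        rw [hu, e.apply_symm_apply]
      rw [← this]
      rfl
    rw [← hIR', ← Ideal.Quotient.eq_zero_iff_mem, map_sub, map_mul, h1, ← map_mul, ← map_sub,
      Ideal.Quotient.eq_zero_iff_mem]
    have h2 : algebraMap R R' (f ^ k) * algebraMap Rf R' u - algebraMap R R' r = 0 := by
      rw [IsScalarTower.algebraMap_apply R Rf R', IsScalarTower.algebraMap_apply R Rf R' r,
        ← map_mul, ← map_sub]
      have : algebraMap R Rf (f ^ k) * u - algebraMap R Rf r = 0 := by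
        rw [sub_eq_zero, mul_comm]
        exact hr
      rw [this, map_zero]
    rw [h2]
    exact zero_mem _
  · intro K hIK r hr
    -- transport along `e`
    have h1 : algebraMap R (R' ⧸ If.map (algebraMap Rf R')) r ∈
        K.map (algebraMap R (R' ⧸ If.map (algebraMap Rf R'))) := by
      rw [map_quotient_eq]
      exact Ideal.mem_map_of_mem _ hr
    have h2 : algebraMap R (Rf ⧸ If) r ∈ K.map (algebraMap R (Rf ⧸ If)) :=
      mem_map_of_algEquiv eR.symm K r h1
    have h3 : algebraMap R Rf r ∈ K.map (algebraMap R Rf) := by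
      rw [map_quotient_eq] at h2
      exact mem_of_mk_mem_map If _ (Ideal.map_mono hIK) _ h2
    rw [IsLocalization.mem_map_algebraMap_iff (Submonoid.powers f) Rf] at h3
    obtain ⟨⟨⟨a, ha⟩, ⟨_, k₁, rfl⟩⟩, h8⟩ := h3
    have h9 : algebraMap R Rf (r * f ^ k₁ - a) = 0 := by
      rw [map_sub, map_mul, sub_eq_zero]
      exact h8
    obtain ⟨⟨_, k₂, rfl⟩, h10⟩ := (IsLocalization.map_eq_zero_iff (Submonoid.powers f) Rf _).mp h9
    refine ⟨k₂ + k₁, ?_⟩
    have h11 : f ^ (k₂ + k₁) * r = f ^ k₂ * a := by
      have : f ^ k₂ * (r * f ^ k₁ - a) = 0 := h10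
      rw [pow_add]
      linear_combination this
    rw [h11]
    exact Ideal.mul_mem_left _ _ ha

theorem main6843 {R : Type u} [CommRing R] [IsNoetherianRing R]
    (p : Ideal R) [p.IsPrime] (hG : CAlg.IsGRing (Localization.AtPrime p)) {n m : ℕ}
    (F : Fin m → MvPolynomial (Fin n) R)
    (a : Fin n → AdicCompletion (IsLocalRing.maximalIdeal (Localization.AtPrime p))
      (Localization.AtPrime p))
    (ha : ∀ j, MvPolynomial.aeval a
      (MvPolynomial.map (algebraMap R (Localization.AtPrime p)) (F j)) = 0) (N : ℕ) :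
    ∃ (R' : Type u) (_ : CommRing R') (_ : Algebra R R'), Algebra.Etale R R' ∧
      ∃ (ψ : R' →+* AdicCompletion (IsLocalRing.maximalIdeal (Localization.AtPrime p))
          (Localization.AtPrime p))
        (p' : Ideal R'), p'.IsPrime ∧
        (∀ r : R, ψ (algebraMap R R' r) =
          algebraMap (Localization.AtPrime p) _ (algebraMap R (Localization.AtPrime p) r)) ∧
        p'.comap (algebraMap R R') = p ∧
        (∀ x : R', ∃ r s : R, s ∉ p ∧ algebraMap R R' s * x - algebraMap R R' r ∈ p') ∧
        (∀ x ∈ p', ψ x ∈ (IsLocalRing.maximalIdeal (Localization.AtPrime p)).map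
          (algebraMap (Localization.AtPrime p)
            (AdicCompletion (IsLocalRing.maximalIdeal (Localization.AtPrime p))
              (Localization.AtPrime p)))) ∧
        ∃ b : Fin n → R', (∀ j, MvPolynomial.aeval b (F j) = 0) ∧
          ∀ i, a i - ψ (b i) ∈ (IsLocalRing.maximalIdeal (Localization.AtPrime p) ^ N).map
            (algebraMap (Localization.AtPrime p)
              (AdicCompletion (IsLocalRing.maximalIdeal (Localization.AtPrime p))
                (Localization.AtPrime p))) := by
  classical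
  haveI := hG.1
  have hmfg : (IsLocalRing.maximalIdeal (Localization.AtPrime p)).FG := IsNoetherian.noetherian _
  haveI : IsNoetherianRing (AdicCompletion (IsLocalRing.maximalIdeal (Localization.AtPrime p))
      (Localization.AtPrime p)) :=
    Groth.Agent.Lib.Helper21.isNoetherianRing_adicCompletion_of_fg _ hmfg
  have hregW := AA2.isRegularHom_cpl_of_isGRing (Localization.AtPrime p) hG
  haveI : IsScalarTower R (Localization.AtPrime p)
      (AdicCompletion (IsLocalRing.maximalIdeal (Localization.AtPrime p))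
        (Localization.AtPrime p)) := IsScalarTower.of_algebraMap_eq (fun _ => rfl)
  have hregRW : CAlg.IsRegularHom R (Localization.AtPrime p) :=
    Groth.Agent.Lib.Helper18.LocHom.isRegularHom_of_isLocalization R p.primeCompl
      (Localization.AtPrime p)
  have hregR := Groth.Agent.Lib.Helper18.PMor.isRegularHom_comp R (Localization.AtPrime p)
    (AdicCompletion (IsLocalRing.maximalIdeal (Localization.AtPrime p)) (Localization.AtPrime p))
    hregRW hregW
  -- the system
  have ha' : ∀ j, MvPolynomial.aeval a (F j) = 0 := by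
    intro j
    rw [← ha j, MvPolynomial.aeval_map_algebraMap]
  have hfg : (Ideal.span (Set.range F)).FG := ⟨Finset.univ.image F, by
    rw [Finset.coe_image, Finset.coe_univ, Set.image_univ]⟩
  haveI : Algebra.FinitePresentation R (MvPolynomial (Fin n) R ⧸ Ideal.span (Set.range F)) :=
    Algebra.FinitePresentation.quotient hfg
  let φ : (MvPolynomial (Fin n) R ⧸ Ideal.span (Set.range F)) →ₐ[R]
      AdicCompletion (IsLocalRing.maximalIdeal (Localization.AtPrime p)) (Localization.AtPrime p) :=
    Ideal.Quotient.liftₐ _ (MvPolynomial.aeval a) (by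
      intro x hx
      have hle : Ideal.span (Set.range F) ≤ RingHom.ker (MvPolynomial.aeval (R := R) a).toRingHom := by
        rw [Ideal.span_le]
        rintro _ ⟨j, rfl⟩
        exact ha' j
      exact hle hx)
  obtain ⟨B, _, _, hsm, g, h, hgh⟩ := PO5.popescu R _ hregR _ inferInstance φ
  haveI := hsm
  -- the ideal
  have hIW : (p ^ (N + 1)).map (algebraMap R (Localization.AtPrime p)) =
      IsLocalRing.maximalIdeal (Localization.AtPrime p) ^ (N + 1) := by
    rw [Ideal.map_pow, Localization.AtPrime.map_eq_maximalIdeal]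
  let ε : AdicCompletion (IsLocalRing.maximalIdeal (Localization.AtPrime p)) (Localization.AtPrime p)
      →ₐ[Localization.AtPrime p]
      Localization.AtPrime p ⧸ (p ^ (N + 1)).map (algebraMap R (Localization.AtPrime p)) :=
    (Ideal.quotientEquivAlgOfEq (Localization.AtPrime p) hIW.symm).toAlgHom.comp
      (AdicCompletion.evalₐ (IsLocalRing.maximalIdeal (Localization.AtPrime p)) (N + 1))
  have hε0 : ∀ y, ε y = 0 ↔
      AdicCompletion.evalₐ (IsLocalRing.maximalIdeal (Localization.AtPrime p)) (N + 1) y = 0 := by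
    intro y
    change (Ideal.quotientEquivAlgOfEq (Localization.AtPrime p) hIW.symm) _ = 0 ↔ _
    rw [map_eq_zero_iff _ (AlgEquiv.injective _)]
    exact Iff.rfl
  have hε : ∀ y ∈ ((p ^ (N + 1)).map (algebraMap R (Localization.AtPrime p))).map
      (algebraMap (Localization.AtPrime p) _), ε y = 0 := by
    intro y hy
    rw [hε0]
    rw [hIW] at hy
    exact AA3.evalₐ_eq_zero_of_mem_map _ _ y hy
  haveI hc : IsAdicComplete ((IsLocalRing.maximalIdeal (Localization.AtPrime p)).map
      (algebraMap (Localization.AtPrime p) _))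
      (AdicCompletion (IsLocalRing.maximalIdeal (Localization.AtPrime p)) (Localization.AtPrime p)) :=
    AdicCompletion.isAdicComplete_self _ hmfg
  have hH : HenselianRing (AdicCompletion (IsLocalRing.maximalIdeal (Localization.AtPrime p))
      (Localization.AtPrime p))
      (((p ^ (N + 1)).map (algebraMap R (Localization.AtPrime p))).map
        (algebraMap (Localization.AtPrime p) _)) := by
    rw [hIW, Ideal.map_pow]
    refine (Groth.Agent.Lib.Helper11.henselianRing_iff_of_radical_eq
      ((IsLocalRing.maximalIdeal (Localization.AtPrime p)).map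
        (algebraMap (Localization.AtPrime p) _)) _ ?_).mp inferInstance
    rw [Ideal.radical_pow _ (Nat.succ_ne_zero N)]
  obtain ⟨f, hf, R', _, _, het, ψ, τ, hA, hB, hC, hD⟩ :=
    core p.primeCompl (Localization.AtPrime p) (p ^ (N + 1)) _ hH ε hε B h
  have hIp : p ^ (N + 1) ≤ p := Ideal.pow_le_self (Nat.succ_ne_zero N)
  have hIp' : (p ^ (N + 1)).map (algebraMap R R') ≤ p.map (algebraMap R R') := Ideal.map_mono hIp
  have hfp : ∀ k : ℕ, f ^ k ∉ p := fun k hk => hf (Ideal.IsPrime.mem_of_pow_mem inferInstance k hk)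
  have hCp : ∀ r : R, algebraMap R R' r ∈ p.map (algebraMap R R') → r ∈ p := by
    intro r hr
    obtain ⟨k, hk⟩ := hC p hIp r hr
    rcases Ideal.IsPrime.mem_or_mem inferInstance hk with h1 | h1
    · exact absurd h1 (hfp k)
    · exact h1
  have hunit : ∀ k : ℕ, IsUnit (algebraMap R R' (f ^ k)) := fun k => by
    rw [map_pow]
    exact hD.pow k
  let y : Fin n → B := fun i => g (Ideal.Quotient.mk _ (MvPolynomial.X i))
  refine ⟨R', inferInstance, inferInstance, het, ψ.toRingHom, p.map (algebraMap R R'),
    ?_, ?_, ?_, ?_, ?_, fun i => τ (y i), ?_, ?_⟩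
  · -- prime
    rw [Ideal.isPrime_iff]
    constructor
    · intro htop
      have h1 : algebraMap R R' 1 ∈ p.map (algebraMap R R') := by
        rw [htop]
        exact Submodule.mem_top
      exact (Ideal.ne_top_iff_one p).mp (Ideal.IsPrime.ne_top inferInstance) (hCp 1 h1)
    · intro x x' hxx'
      obtain ⟨r, k, hr⟩ := hB x
      obtain ⟨r', k', hr'⟩ := hB x'
      have hr1 := hIp' hr
      have hr1' := hIp' hr'
      have h1 : algebraMap R R' (r * r') ∈ p.map (algebraMap R R') := by
        have h2 : algebraMap R R' (r * r') =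
            algebraMap R R' (f ^ k) * algebraMap R R' (f ^ k') * (x * x')
            - (algebraMap R R' (f ^ k) * x - algebraMap R R' r) * (algebraMap R R' (f ^ k') * x')
            - algebraMap R R' r * (algebraMap R R' (f ^ k') * x' - algebraMap R R' r') := by
          rw [map_mul]
          ring
        rw [h2]
        exact Ideal.sub_mem _ (Ideal.sub_mem _ (Ideal.mul_mem_left _ _ hxx')
          (Ideal.mul_mem_right _ _ hr1)) (Ideal.mul_mem_left _ _ hr1')
      rcases Ideal.IsPrime.mem_or_mem inferInstance (hCp _ h1) with h3 | h3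
      · left
        have h4 : algebraMap R R' (f ^ k) * x ∈ p.map (algebraMap R R') := by
          have := Ideal.add_mem _ hr1 (Ideal.mem_map_of_mem (algebraMap R R') h3)
          rwa [sub_add_cancel] at this
        exact (Ideal.unit_mul_mem_iff_mem _ (hunit k)).mp h4
      · right
        have h4 : algebraMap R R' (f ^ k') * x' ∈ p.map (algebraMap R R') := by
          have := Ideal.add_mem _ hr1' (Ideal.mem_map_of_mem (algebraMap R R') h3)
          rwa [sub_add_cancel] at this
        exact (Ideal.unit_mul_mem_iff_mem _ (hunit k')).mp h4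
  · intro r
    change ψ (algebraMap R R' r) = _
    rw [AlgHom.commutes]
    rfl
  · refine le_antisymm ?_ Ideal.le_comap_map
    intro r hr
    exact hCp r hr
  · intro x
    obtain ⟨r, k, hr⟩ := hB x
    exact ⟨r, f ^ k, hfp k, hIp' hr⟩
  · intro x hx
    have hle : p.map (algebraMap R R') ≤
        ((IsLocalRing.maximalIdeal (Localization.AtPrime p)).map
          (algebraMap (Localization.AtPrime p)
            (AdicCompletion (IsLocalRing.maximalIdeal (Localization.AtPrime p))
              (Localization.AtPrime p)))).comap ψ.toRingHom := by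
      rw [Ideal.map_le_iff_le_comap]
      intro r hr
      rw [Ideal.mem_comap, Ideal.mem_comap]
      change ψ (algebraMap R R' r) ∈ _
      rw [AlgHom.commutes]
      change algebraMap (Localization.AtPrime p) _ (algebraMap R (Localization.AtPrime p) r) ∈ _
      apply Ideal.mem_map_of_mem
      rw [← Localization.AtPrime.map_eq_maximalIdeal]
      exact Ideal.mem_map_of_mem _ hr
    exact hle hx
  · intro j
    have h1 : MvPolynomial.aeval (fun i => τ (y i)) =
        (τ.comp g).comp (Ideal.Quotient.mkₐ R (Ideal.span (Set.range F))) := by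
      apply MvPolynomial.algHom_ext
      intro i
      rw [MvPolynomial.aeval_X]
      rfl
    rw [h1]
    change τ (g (Ideal.Quotient.mk _ (F j))) = 0
    rw [Ideal.Quotient.eq_zero_iff_mem.mpr (Ideal.subset_span (Set.mem_range_self j)), map_zero,
      map_zero]
  · intro i
    have hai : a i = h (y i) := by
      have : h (g (Ideal.Quotient.mk _ (MvPolynomial.X i))) =
          φ (Ideal.Quotient.mk _ (MvPolynomial.X i)) := by
        rw [← hgh]
        rfl
      change a i = h (g (Ideal.Quotient.mk _ (MvPolynomial.X i)))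
      rw [this]
      change a i = MvPolynomial.aeval a (MvPolynomial.X i)
      rw [MvPolynomial.aeval_X]
    rw [hai]
    change h (y i) - ψ (τ (y i)) ∈ _
    have h1 : ε (h (y i) - ψ (τ (y i))) = 0 := by
      rw [map_sub, sub_eq_zero]
      exact hA (y i)
    rw [hε0] at h1
    have h2 := AA1.mem_map_pow_of_evalₐ_eq_zero _ hmfg _ (N + 1) h1
    exact Ideal.map_mono (Ideal.pow_le_pow_right (Nat.le_succ N)) h2

end Groth.Agent.Lib.Helper8.AA7
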