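import Mathlib
import Groth.Prelude.Def_Smoothing
import Groth.Agent.Lib.Helper8.AA7

set_option backward.isDefEq.respectTransparency.types false
set_option autoImplicit false
set_option linter.unusedSectionVars false
set_option linter.style.haveILetI false

open TensorProduct

namespace Groth.Agent.Lib.Helper8.AA9

universe u

open Groth.Agent.Lib.Helper8.AA6 Groth.Agent.Lib.Helper8.AA7 Groth.Agent.Lib.Helper8

theorem main6843' {R : Type u} [CommRing R] [IsNoetherianRing R]
    (p : Ideal R) [p.IsPrime] (O : Type u) [CommRing O] [IsLocalRing O] [Algebra R O]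
    [IsLocalization.AtPrime O p] (hG : CAlg.IsGRing O) {n m : ℕ}
    (F : Fin m → MvPolynomial (Fin n) R)
    (a : Fin n → AdicCompletion (IsLocalRing.maximalIdeal O)
      O)
    (ha : ∀ j, MvPolynomial.aeval a
      (MvPolynomial.map (algebraMap R O) (F j)) = 0) (N : ℕ) :
    ∃ (R' : Type u) (_ : CommRing R') (_ : Algebra R R'), Algebra.Etale R R' ∧
      ∃ (ψ : R' →+* AdicCompletion (IsLocalRing.maximalIdeal O)
          O)
        (p' : Ideal R'), p'.IsPrime ∧
        (∀ r : R, ψ (algebraMap R R' r) =
          algebraMap O _ (algebraMap R O r)) ∧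
        p'.comap (algebraMap R R') = p ∧
        (∀ x : R', ∃ r s : R, s ∉ p ∧ algebraMap R R' s * x - algebraMap R R' r ∈ p') ∧
        (∀ x ∈ p', ψ x ∈ (IsLocalRing.maximalIdeal O).map
          (algebraMap O
            (AdicCompletion (IsLocalRing.maximalIdeal O)
              O))) ∧
        ∃ b : Fin n → R', (∀ j, MvPolynomial.aeval b (F j) = 0) ∧
          ∀ i, a i - ψ (b i) ∈ (IsLocalRing.maximalIdeal O ^ N).map
            (algebraMap O
              (AdicCompletion (IsLocalRing.maximalIdeal O)
                O)) := by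
  classical
  haveI := hG.1
  have hmfg : (IsLocalRing.maximalIdeal O).FG := IsNoetherian.noetherian _
  haveI : IsNoetherianRing (AdicCompletion (IsLocalRing.maximalIdeal O)
      O) :=
    Groth.Agent.Lib.Helper21.isNoetherianRing_adicCompletion_of_fg _ hmfg
  have hregW := AA2.isRegularHom_cpl_of_isGRing O hG
  haveI : IsScalarTower R O
      (AdicCompletion (IsLocalRing.maximalIdeal O)
        O) := IsScalarTower.of_algebraMap_eq (fun _ => rfl)
  have hregRW : CAlg.IsRegularHom R O :=
    Groth.Agent.Lib.Helper18.LocHom.isRegularHom_of_isLocalization R p.primeCompl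
      O
  have hregR := Groth.Agent.Lib.Helper18.PMor.isRegularHom_comp R O
    (AdicCompletion (IsLocalRing.maximalIdeal O) O)
    hregRW hregW
  -- the system
  have ha' : ∀ j, MvPolynomial.aeval a (F j) = 0 := by
    intro j
    rw [← ha j, MvPolynomial.aeval_map_algebraMap]
  have hfg : (Ideal.span (Set.range F)).FG := ⟨Finset.univ.image F, by
    rw [Finset.coe_image, Finset.coe_univ, Set.image_univ]⟩
  haveI : Algebra.FinitePresentation R (MvPolynomial (Fin n) R ⧸ Ideal.span (Set.range F)) :=
    Algebra.FinitePresentation.quotient hfg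
  let φ : (MvPolynomial (Fin n) R ⧸ Ideal.span (Set.range F)) →ₐ[R]
      AdicCompletion (IsLocalRing.maximalIdeal O) O :=
    Ideal.Quotient.liftₐ _ (MvPolynomial.aeval a) (by
      intro x hx
      have hle : Ideal.span (Set.range F) ≤ RingHom.ker (MvPolynomial.aeval (R := R) a).toRingHom := by
        rw [Ideal.span_le]
        rintro _ ⟨j, rfl⟩
        exact ha' j
      exact hle hx)
  obtain ⟨B, _, _, hsm, g, h, hgh⟩ := PO5.popescu R _ hregR _ inferInstance φ
  haveI := hsm
  -- the ideal
  have hIW : (p ^ (N + 1)).map (algebraMap R O) =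
      IsLocalRing.maximalIdeal O ^ (N + 1) := by
    rw [Ideal.map_pow, IsLocalization.AtPrime.map_eq_maximalIdeal p O]
  let ε : AdicCompletion (IsLocalRing.maximalIdeal O) O
      →ₐ[O]
      O ⧸ (p ^ (N + 1)).map (algebraMap R O) :=
    (Ideal.quotientEquivAlgOfEq O hIW.symm).toAlgHom.comp
      (AdicCompletion.evalₐ (IsLocalRing.maximalIdeal O) (N + 1))
  have hε0 : ∀ y, ε y = 0 ↔
      AdicCompletion.evalₐ (IsLocalRing.maximalIdeal O) (N + 1) y = 0 := by
    intro y
    change (Ideal.quotientEquivAlgOfEq O hIW.symm) _ = 0 ↔ _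
    rw [map_eq_zero_iff _ (AlgEquiv.injective _)]
    exact Iff.rfl
  have hε : ∀ y ∈ ((p ^ (N + 1)).map (algebraMap R O)).map
      (algebraMap O _), ε y = 0 := by
    intro y hy
    rw [hε0]
    rw [hIW] at hy
    exact AA3.evalₐ_eq_zero_of_mem_map _ _ y hy
  haveI hc : IsAdicComplete ((IsLocalRing.maximalIdeal O).map
      (algebraMap O _))
      (AdicCompletion (IsLocalRing.maximalIdeal O) O) :=
    AdicCompletion.isAdicComplete_self _ hmfg
  have hH : HenselianRing (AdicCompletion (IsLocalRing.maximalIdeal O)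
      O)
      (((p ^ (N + 1)).map (algebraMap R O)).map
        (algebraMap O _)) := by
    rw [hIW, Ideal.map_pow]
    refine (Groth.Agent.Lib.Helper11.henselianRing_iff_of_radical_eq
      ((IsLocalRing.maximalIdeal O).map
        (algebraMap O _)) _ ?_).mp inferInstance
    rw [Ideal.radical_pow _ (Nat.succ_ne_zero N)]
  obtain ⟨f, hf, R', _, _, het, ψ, τ, hA, hB, hC, hD⟩ :=
    core p.primeCompl O (p ^ (N + 1)) _ hH ε hε B h
  have hIp : p ^ (N + 1) ≤ p := Ideal.pow_le_self (Nat.succ_ne_zero N)
  have hIp' : (p ^ (N + 1)).map (algebraMap R R') ≤ p.map (algebraMap R R') := Ideal.map_mono hIp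
  have hfp : ∀ k : ℕ, f ^ k ∉ p := fun k hk => hf (Ideal.IsPrime.mem_of_pow_mem inferInstance k hk)
  have hCp : ∀ r : R, algebraMap R R' r ∈ p.map (algebraMap R R') → r ∈ p := by
    intro r hr
    obtain ⟨k, hk⟩ := hC p hIp r hr
    rcases Ideal.IsPrime.mem_or_mem inferInstance hk with h1 | h1
    · exact absurd h1 (hfp k)
    · exact h1
  have hunit : ∀ k : ℕ, IsUnit (algebraMap R R' (f ^ k)) := fun k => by
    rw [map_pow]
    exact hD.pow k
  let y : Fin n → B := fun i => g (Ideal.Quotient.mk _ (MvPolynomial.X i))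
  refine ⟨R', inferInstance, inferInstance, het, ψ.toRingHom, p.map (algebraMap R R'),
    ?_, ?_, ?_, ?_, ?_, fun i => τ (y i), ?_, ?_⟩
  · -- prime
    rw [Ideal.isPrime_iff]
    constructor
    · intro htop
      have h1 : algebraMap R R' 1 ∈ p.map (algebraMap R R') := by
        rw [htop]
        exact Submodule.mem_top
      exact (Ideal.ne_top_iff_one p).mp (Ideal.IsPrime.ne_top inferInstance) (hCp 1 h1)
    · intro x x' hxx'
      obtain ⟨r, k, hr⟩ := hB x
      obtain ⟨r', k', hr'⟩ := hB x'
      have hr1 := hIp' hr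
      have hr1' := hIp' hr'
      have h1 : algebraMap R R' (r * r') ∈ p.map (algebraMap R R') := by
        have h2 : algebraMap R R' (r * r') =
            algebraMap R R' (f ^ k) * algebraMap R R' (f ^ k') * (x * x')
            - (algebraMap R R' (f ^ k) * x - algebraMap R R' r) * (algebraMap R R' (f ^ k') * x')
            - algebraMap R R' r * (algebraMap R R' (f ^ k') * x' - algebraMap R R' r') := by
          rw [map_mul]
          ring
        rw [h2]
        exact Ideal.sub_mem _ (Ideal.sub_mem _ (Ideal.mul_mem_left _ _ hxx')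
          (Ideal.mul_mem_right _ _ hr1)) (Ideal.mul_mem_left _ _ hr1')
      rcases Ideal.IsPrime.mem_or_mem inferInstance (hCp _ h1) with h3 | h3
      · left
        have h4 : algebraMap R R' (f ^ k) * x ∈ p.map (algebraMap R R') := by
          have := Ideal.add_mem _ hr1 (Ideal.mem_map_of_mem (algebraMap R R') h3)
          rwa [sub_add_cancel] at this
        exact (Ideal.unit_mul_mem_iff_mem _ (hunit k)).mp h4
      · right
        have h4 : algebraMap R R' (f ^ k') * x' ∈ p.map (algebraMap R R') := by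
          have := Ideal.add_mem _ hr1' (Ideal.mem_map_of_mem (algebraMap R R') h3)
          rwa [sub_add_cancel] at this
        exact (Ideal.unit_mul_mem_iff_mem _ (hunit k')).mp h4
  · intro r
    change ψ (algebraMap R R' r) = _
    rw [AlgHom.commutes]
    rfl
  · refine le_antisymm ?_ Ideal.le_comap_map
    intro r hr
    exact hCp r hr
  · intro x
    obtain ⟨r, k, hr⟩ := hB x
    exact ⟨r, f ^ k, hfp k, hIp' hr⟩
  · intro x hx
    have hle : p.map (algebraMap R R') ≤
        ((IsLocalRing.maximalIdeal O).map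
          (algebraMap O
            (AdicCompletion (IsLocalRing.maximalIdeal O)
              O))).comap ψ.toRingHom := by
      rw [Ideal.map_le_iff_le_comap]
      intro r hr
      rw [Ideal.mem_comap, Ideal.mem_comap]
      change ψ (algebraMap R R' r) ∈ _
      rw [AlgHom.commutes]
      change algebraMap O _ (algebraMap R O r) ∈ _
      apply Ideal.mem_map_of_mem
      rw [← IsLocalization.AtPrime.map_eq_maximalIdeal p O]
      exact Ideal.mem_map_of_mem _ hr
    exact hle hx
  · intro j
    have h1 : MvPolynomial.aeval (fun i => τ (y i)) =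
        (τ.comp g).comp (Ideal.Quotient.mkₐ R (Ideal.span (Set.range F))) := by
      apply MvPolynomial.algHom_ext
      intro i
      rw [MvPolynomial.aeval_X]
      rfl
    rw [h1]
    change τ (g (Ideal.Quotient.mk _ (F j))) = 0
    rw [Ideal.Quotient.eq_zero_iff_mem.mpr (Ideal.subset_span (Set.mem_range_self j)), map_zero,
      map_zero]
  · intro i
    have hai : a i = h (y i) := by
      have : h (g (Ideal.Quotient.mk _ (MvPolynomial.X i))) =
          φ (Ideal.Quotient.mk _ (MvPolynomial.X i)) := by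
        rw [← hgh]
        rfl
      change a i = h (g (Ideal.Quotient.mk _ (MvPolynomial.X i)))
      rw [this]
      change a i = MvPolynomial.aeval a (MvPolynomial.X i)
      rw [MvPolynomial.aeval_X]
    rw [hai]
    change h (y i) - ψ (τ (y i)) ∈ _
    have h1 : ε (h (y i) - ψ (τ (y i))) = 0 := by
      rw [map_sub, sub_eq_zero]
      exact hA (y i)
    rw [hε0] at h1
    have h2 := AA1.mem_map_pow_of_evalₐ_eq_zero _ hmfg _ (N + 1) h1
    exact Ideal.map_mono (Ideal.pow_le_pow_right (Nat.le_succ N)) h2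


open IsLocalRing in
/-- Algebraic core of the scheme statement S7202. -/
theorem alg7202 {R A C : Type u} [CommRing R] [CommRing A] [CommRing C] [IsNoetherianRing R]
    [IsNoetherianRing A] [Algebra R A] [Algebra R C] [Algebra.FiniteType R C]
    (𝔭 : Ideal A) [𝔭.IsPrime] (𝔮 : Ideal C) [𝔮.IsPrime]
    (OX : Type u) [CommRing OX] [IsLocalRing OX] [Algebra A OX] [IsLocalization.AtPrime OX 𝔭]
    (OY : Type u) [CommRing OY] [IsLocalRing OY] [Algebra C OY] [IsLocalization.AtPrime OY 𝔮]
    (hG : CAlg.IsGRing OX)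
    (φ : OY →+* AdicCompletion (maximalIdeal OX) OX)
    (hφ : ∀ r : R, φ (algebraMap C OY (algebraMap R C r)) =
      algebraMap OX (AdicCompletion (maximalIdeal OX) OX) (algebraMap A OX (algebraMap R A r)))
    (hloc : ∀ b ∈ maximalIdeal OY, φ b ∈ (maximalIdeal OX).map
      (algebraMap OX (AdicCompletion (maximalIdeal OX) OX)))
    (N : ℕ) (hN : 1 ≤ N) :
    ∃ (A' : Type u) (_ : CommRing A') (_ : Algebra A A'), Algebra.Etale A A' ∧
      ∃ (𝔭' : Ideal A') (_ : 𝔭'.IsPrime) (τ : C →+* A'),
        𝔭'.comap (algebraMap A A') = 𝔭 ∧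
        (∀ x : A', ∃ r s : A, s ∉ 𝔭 ∧ algebraMap A A' s * x - algebraMap A A' r ∈ 𝔭') ∧
        (∀ r : R, τ (algebraMap R C r) = algebraMap A A' (algebraMap R A r)) ∧
        𝔭'.comap τ = 𝔮 ∧
        ∀ (OU : Type u) [CommRing OU] [IsLocalRing OU] [Algebra A' OU]
          [IsLocalization.AtPrime OU 𝔭']
          (e' : OX →+* OU) (f' : OY →+* OU)
          (_ : ∀ a, e' (algebraMap A OX a) = algebraMap A' OU (algebraMap A A' a))
          (_ : ∀ c, f' (algebraMap C OY c) = algebraMap A' OU (τ c))
          (b : OY) (c : OX),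
          AdicCompletion.evalₐ (maximalIdeal OX) N (φ b) = Ideal.Quotient.mk _ c →
          Ideal.Quotient.mk (maximalIdeal OU ^ N) (f' b) =
            Ideal.Quotient.mk (maximalIdeal OU ^ N) (e' c) := by
  classical
  haveI hOXn : IsNoetherianRing OX := hG.1
  -- presentation of `C`
  obtain ⟨n, f, hf⟩ := Algebra.FiniteType.iff_quotient_mvPolynomial''.mp
    (inferInstance : Algebra.FiniteType R C)
  obtain ⟨m, F, hF⟩ := (Submodule.fg_iff_exists_fin_generating_family).mp
    (IsNoetherian.noetherian (RingHom.ker f.toRingHom))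
  -- the completion
  let can : A →+* AdicCompletion (maximalIdeal OX) OX :=
    (algebraMap OX (AdicCompletion (maximalIdeal OX) OX)).comp (algebraMap A OX)
  -- the system over `A` and its formal solution
  let FA : Fin m → MvPolynomial (Fin n) A := fun j => MvPolynomial.map (algebraMap R A) (F j)
  let a : Fin n → AdicCompletion (maximalIdeal OX) OX :=
    fun i => φ (algebraMap C OY (f (MvPolynomial.X i)))
  let Φ : MvPolynomial (Fin n) R →+* AdicCompletion (maximalIdeal OX) OX :=
    (φ.comp (algebraMap C OY)).comp f.toRingHom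
  have hΦ : ∀ P : MvPolynomial (Fin n) R,
      MvPolynomial.aeval a (MvPolynomial.map (algebraMap A OX)
        (MvPolynomial.map (algebraMap R A) P)) = Φ P := by
    intro P
    have : ((MvPolynomial.aeval a : MvPolynomial (Fin n) OX →ₐ[OX] _).toRingHom.comp
        (MvPolynomial.map (algebraMap A OX))).comp (MvPolynomial.map (algebraMap R A)) = Φ := by
      apply MvPolynomial.ringHom_ext
      · intro r
        simp only [RingHom.comp_apply, MvPolynomial.map_C, AlgHom.toRingHom_eq_coe,
          RingHom.coe_coe, MvPolynomial.aeval_C, Φ]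
        rw [← MvPolynomial.algebraMap_eq, AlgHom.commutes, hφ]
      · intro i
        simp only [RingHom.comp_apply, MvPolynomial.map_X, AlgHom.toRingHom_eq_coe,
          RingHom.coe_coe, MvPolynomial.aeval_X, Φ]
        rfl
    exact DFunLike.congr_fun this P
  have hFker : ∀ j, f (F j) = 0 := by
    intro j
    have : F j ∈ RingHom.ker f.toRingHom := by
      rw [← hF]
      exact Submodule.subset_span (Set.mem_range_self j)
    exact this
  have ha : ∀ j, MvPolynomial.aeval a (MvPolynomial.map (algebraMap A OX) (FA j)) = 0 := by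
    intro j
    rw [hΦ]
    change φ (algebraMap C OY (f (F j))) = 0
    rw [hFker, map_zero, map_zero]
  obtain ⟨A', _, _, het, ψ, 𝔭', h𝔭', hψA, hcomap, htriv, hψ𝔭', b, hb, hab⟩ :=
    main6843' 𝔭 OX hG FA a ha N
  haveI := h𝔭'
  -- the map `τ`
  let T₀ : MvPolynomial (Fin n) R →+* A' :=
    MvPolynomial.eval₂Hom ((algebraMap A A').comp (algebraMap R A)) b
  have hT₀ : ∀ P : MvPolynomial (Fin n) R,
      T₀ P = MvPolynomial.aeval b (MvPolynomial.map (algebraMap R A) P) := by
    intro P
    have : T₀ = (MvPolynomial.aeval b : MvPolynomial (Fin n) A →ₐ[A] A').toRingHom.comp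
        (MvPolynomial.map (algebraMap R A)) := by
      apply MvPolynomial.ringHom_ext
      · intro r
        simp [T₀]
      · intro i
        simp [T₀]
    rw [this]
    rfl
  have hker : RingHom.ker f.toRingHom ≤ RingHom.ker T₀ := by
    rw [← hF]
    change Ideal.span (Set.range F) ≤ _
    rw [Ideal.span_le]
    rintro _ ⟨j, rfl⟩
    change T₀ (F j) = 0
    rw [hT₀]
    exact hb j
  let τ : C →+* A' := (f.toRingHom.liftOfSurjective hf) ⟨T₀, hker⟩
  have hτ : ∀ P, τ (f P) = T₀ P := fun P =>
    RingHom.liftOfSurjective_comp_apply f.toRingHom hf ⟨T₀, hker⟩ P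
  have hτR : ∀ r : R, τ (algebraMap R C r) = algebraMap A A' (algebraMap R A r) := by
    intro r
    rw [← f.commutes r, hτ]
    simp [T₀, MvPolynomial.algebraMap_eq]
  -- the key congruence
  have hcong : ∀ c : C, AdicCompletion.evalₐ (maximalIdeal OX) N (ψ (τ c)) =
      AdicCompletion.evalₐ (maximalIdeal OX) N (φ (algebraMap C OY c)) := by
    intro c
    obtain ⟨P, rfl⟩ := hf c
    rw [hτ]
    have : ((AdicCompletion.evalₐ (maximalIdeal OX) N).toRingHom.comp ψ).comp T₀ =
        (AdicCompletion.evalₐ (maximalIdeal OX) N).toRingHom.comp Φ := by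
      apply MvPolynomial.ringHom_ext
      · intro r
        simp only [RingHom.comp_apply, T₀, MvPolynomial.coe_eval₂Hom, MvPolynomial.eval₂_C, Φ]
        rw [hψA]
        congr 1
        change _ = φ (algebraMap C OY (f (MvPolynomial.C r)))
        rw [← MvPolynomial.algebraMap_eq, AlgHom.commutes, hφ]
      · intro i
        simp only [RingHom.comp_apply, T₀, MvPolynomial.coe_eval₂Hom, MvPolynomial.eval₂_X, Φ]
        have h1 := AA3.evalₐ_eq_zero_of_mem_map _ N _ (hab i)
        rw [map_sub, sub_eq_zero] at h1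
        exact h1.symm
    exact DFunLike.congr_fun this P
  have hmfg : (maximalIdeal OX).FG := IsNoetherian.noetherian _
  have hmhat : maximalIdeal (AdicCompletion (maximalIdeal OX) OX) =
      (maximalIdeal OX).map (algebraMap OX (AdicCompletion (maximalIdeal OX) OX)) :=
    AdicCompletion.maximalIdeal_eq_map
  have hcan𝔭 : ∀ r : A, can r ∈ (maximalIdeal OX).map
      (algebraMap OX (AdicCompletion (maximalIdeal OX) OX)) → r ∈ 𝔭 := by
    intro r hr
    rw [← hmhat] at hr
    have h1 : algebraMap A OX r ∈ maximalIdeal OX := by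
      by_contra h
      have hu : IsUnit (algebraMap A OX r) := by
        rwa [mem_maximalIdeal, mem_nonunits_iff, not_not] at h
      exact (mem_maximalIdeal _).mp hr
        (hu.map (algebraMap OX (AdicCompletion (maximalIdeal OX) OX)))
    exact (IsLocalization.AtPrime.to_map_mem_maximal_iff OX 𝔭 r).mp h1
  have hψinv : ∀ z : A', ψ z ∈ (maximalIdeal OX).map
      (algebraMap OX (AdicCompletion (maximalIdeal OX) OX)) → z ∈ 𝔭' := by
    intro z hz
    obtain ⟨r, s, hs, hrs⟩ := htriv z
    have h1 := hψ𝔭' _ hrs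
    rw [map_sub, map_mul, hψA, hψA] at h1
    have h2 : can r ∈ (maximalIdeal OX).map
        (algebraMap OX (AdicCompletion (maximalIdeal OX) OX)) := by
      have := Ideal.sub_mem _ (Ideal.mul_mem_left _ (can s) hz) h1
      simpa [can] using this
    have hr : r ∈ 𝔭 := hcan𝔭 r h2
    have hr' : algebraMap A A' r ∈ 𝔭' := by
      rw [← hcomap] at hr
      exact hr
    have h3 : algebraMap A A' s * z ∈ 𝔭' := by
      have := Ideal.add_mem _ hrs hr'
      rwa [sub_add_cancel] at this
    rcases Ideal.IsPrime.mem_or_mem h𝔭' h3 with h4 | h4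
    · exact absurd (by rw [← hcomap]; exact h4) hs
    · exact h4
  have hdiff : ∀ c : C, ψ (τ c) - φ (algebraMap C OY c) ∈ (maximalIdeal OX).map
      (algebraMap OX (AdicCompletion (maximalIdeal OX) OX)) := by
    intro c
    have h1 : AdicCompletion.evalₐ (maximalIdeal OX) N
        (ψ (τ c) - φ (algebraMap C OY c)) = 0 := by
      rw [map_sub, hcong, sub_self]
    have h2 := AA1.mem_map_pow_of_evalₐ_eq_zero _ hmfg _ N h1
    exact Ideal.map_mono (Ideal.pow_le_self (by omega)) h2
  have hcomapτ : 𝔭'.comap τ = 𝔮 := by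
    ext c
    rw [Ideal.mem_comap]
    constructor
    · intro hc
      by_contra hcq
      have hu : IsUnit (algebraMap C OY c) :=
        IsLocalization.map_units OY (⟨c, hcq⟩ : 𝔮.primeCompl)
      have hu' : IsUnit (φ (algebraMap C OY c)) := hu.map φ
      have h3 := hψ𝔭' _ hc
      have h4 : φ (algebraMap C OY c) ∈ (maximalIdeal OX).map
          (algebraMap OX (AdicCompletion (maximalIdeal OX) OX)) := by
        have := Ideal.sub_mem _ h3 (hdiff c)
        simpa using this
      rw [← hmhat] at h4
      exact (mem_maximalIdeal _).mp h4 hu'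
    · intro hc
      apply hψinv
      have h1 : algebraMap C OY c ∈ maximalIdeal OY :=
        (IsLocalization.AtPrime.to_map_mem_maximal_iff OY 𝔮 c).mpr hc
      have h2 := hloc _ h1
      have := Ideal.add_mem _ (hdiff c) h2
      simpa using this
  refine ⟨A', inferInstance, inferInstance, het, 𝔭', h𝔭', τ, hcomap, htriv, hτR, hcomapτ, ?_⟩
  intro OU _ _ _ _ e' f' he' hf' b₀ c₀ hbc
  have he'm : (maximalIdeal OX).map e' ≤ maximalIdeal OU := by
    rw [← IsLocalization.AtPrime.map_eq_maximalIdeal 𝔭 OX, Ideal.map_map,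
      Ideal.map_le_iff_le_comap]
    intro x hx
    rw [Ideal.mem_comap, RingHom.comp_apply, he']
    apply (IsLocalization.AtPrime.to_map_mem_maximal_iff OU 𝔭' _).mpr
    rw [← hcomap] at hx
    exact hx
  have he'N : ∀ x ∈ maximalIdeal OX ^ N, e' x ∈ maximalIdeal OU ^ N := by
    intro x hx
    have : (maximalIdeal OX ^ N).map e' ≤ maximalIdeal OU ^ N := by
      rw [Ideal.map_pow]
      exact Ideal.pow_right_mono he'm N
    exact this (Ideal.mem_map_of_mem _ hx)
  let ebar : OX ⧸ maximalIdeal OX ^ N →+* OU ⧸ maximalIdeal OU ^ N :=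
    Ideal.Quotient.lift _ ((Ideal.Quotient.mk _).comp e') (fun x hx => by
      rw [RingHom.comp_apply, Ideal.Quotient.eq_zero_iff_mem]
      exact he'N x hx)
  have hebar : ∀ x : OX, ebar (Ideal.Quotient.mk _ x) = Ideal.Quotient.mk _ (e' x) := fun x => rfl
  have hevalof : ∀ x : OX, AdicCompletion.evalₐ (maximalIdeal OX) N
      (algebraMap OX (AdicCompletion (maximalIdeal OX) OX) x) = Ideal.Quotient.mk _ x := by
    intro x
    exact AdicCompletion.evalₐ_of _ N x
  let g₁r : A' →+* OU ⧸ maximalIdeal OU ^ N := (Ideal.Quotient.mk _).comp (algebraMap A' OU)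
  let g₂r : A' →+* OU ⧸ maximalIdeal OU ^ N :=
    (ebar.comp (AdicCompletion.evalₐ (maximalIdeal OX) N).toRingHom).comp ψ
  letI algT : Algebra A (OU ⧸ maximalIdeal OU ^ N) := (g₁r.comp (algebraMap A A')).toAlgebra
  have hg₂A : ∀ x : A, g₂r (algebraMap A A' x) = g₁r (algebraMap A A' x) := by
    intro x
    change ebar (AdicCompletion.evalₐ (maximalIdeal OX) N (ψ (algebraMap A A' x))) =
      Ideal.Quotient.mk _ (algebraMap A' OU (algebraMap A A' x))
    rw [hψA, hevalof, hebar, he']
  let g₁ : A' →ₐ[A] OU ⧸ maximalIdeal OU ^ N := { g₁r with commutes' := fun x => rfl }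
  let g₂ : A' →ₐ[A] OU ⧸ maximalIdeal OU ^ N := { g₂r with commutes' := fun x => hg₂A x }
  let nn : Ideal (OU ⧸ maximalIdeal OU ^ N) := (maximalIdeal OU).map (Ideal.Quotient.mk _)
  have hnn : IsNilpotent nn := ⟨N, by
    rw [← Ideal.map_pow, Ideal.zero_eq_bot]
    exact Ideal.map_quotient_self _⟩
  have hmhatn : ∀ y ∈ (maximalIdeal OX).map
      (algebraMap OX (AdicCompletion (maximalIdeal OX) OX)),
      ebar (AdicCompletion.evalₐ (maximalIdeal OX) N y) ∈ nn := by
    have : (maximalIdeal OX).map (algebraMap OX (AdicCompletion (maximalIdeal OX) OX)) ≤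
        nn.comap (ebar.comp (AdicCompletion.evalₐ (maximalIdeal OX) N).toRingHom) := by
      rw [Ideal.map_le_iff_le_comap]
      intro x hx
      rw [Ideal.mem_comap, Ideal.mem_comap]
      change ebar (AdicCompletion.evalₐ (maximalIdeal OX) N
        (algebraMap OX (AdicCompletion (maximalIdeal OX) OX) x)) ∈ nn
      rw [hevalof, hebar]
      exact Ideal.mem_map_of_mem _ (he'm (Ideal.mem_map_of_mem _ hx))
    intro y hy
    exact this hy
  have hg : g₁ = g₂ := by
    haveI : Algebra.FormallyUnramified A A' := inferInstance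
    apply Algebra.FormallyUnramified.ext nn hnn
    intro z
    rw [Ideal.Quotient.eq]
    obtain ⟨r, s, hs, hrs⟩ := htriv z
    have hs' : algebraMap A A' s ∉ 𝔭' := by
      intro h
      apply hs
      rw [← hcomap]
      exact h
    have hσ : IsUnit (g₁ (algebraMap A A' s)) :=
      (IsLocalization.map_units OU (⟨algebraMap A A' s, hs'⟩ : 𝔭'.primeCompl)).map
        (Ideal.Quotient.mk _)
    have h1 : g₁ (algebraMap A A' s * z - algebraMap A A' r) ∈ nn :=
      Ideal.mem_map_of_mem _ ((IsLocalization.AtPrime.to_map_mem_maximal_iff OU 𝔭' _).mpr hrs)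
    have h2 : g₂ (algebraMap A A' s * z - algebraMap A A' r) ∈ nn :=
      hmhatn _ (hψ𝔭' _ hrs)
    have h3 : g₁ (algebraMap A A' s) * (g₁ z - g₂ z) ∈ nn := by
      have h4 := Ideal.sub_mem _ h1 h2
      have h5 : g₁ (algebraMap A A' s * z - algebraMap A A' r) -
          g₂ (algebraMap A A' s * z - algebraMap A A' r) =
          g₁ (algebraMap A A' s) * (g₁ z - g₂ z) := by
        rw [map_sub, map_sub, map_mul, map_mul, AlgHom.commutes, AlgHom.commutes,
          AlgHom.commutes, AlgHom.commutes]
        ring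
      rwa [h5] at h4
    exact (Ideal.unit_mul_mem_iff_mem nn hσ).mp h3
  have hg' : ∀ z : A', Ideal.Quotient.mk (maximalIdeal OU ^ N) (algebraMap A' OU z) =
      ebar (AdicCompletion.evalₐ (maximalIdeal OX) N (ψ z)) := fun z => DFunLike.congr_fun hg z
  have hIII : (Ideal.Quotient.mk (maximalIdeal OU ^ N)).comp f' =
      (ebar.comp (AdicCompletion.evalₐ (maximalIdeal OX) N).toRingHom).comp φ := by
    apply IsLocalization.ringHom_ext 𝔮.primeCompl
    ext c
    simp only [RingHom.comp_apply]
    rw [hf', hg']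
    change ebar (AdicCompletion.evalₐ (maximalIdeal OX) N (ψ (τ c))) = _
    rw [hcong]
    rfl
  have h6 := DFunLike.congr_fun hIII b₀
  simp only [RingHom.comp_apply] at h6
  rw [h6]
  change ebar (AdicCompletion.evalₐ (maximalIdeal OX) N (φ b₀)) = _
  rw [hbc, hebar]


end Groth.Agent.Lib.Helper8.AA9
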