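import Mathlib
import Groth.Prelude.Def_Smoothing
import Groth.Agent.Lib.Helper8.AA9
import Groth.Agent.Lib.Helper8.AA10
import Groth.Agent.Lib.Helper6.EtLocScheme2

set_option backward.isDefEq.respectTransparency.types false
set_option autoImplicit false
set_option linter.unusedSectionVars false
set_option linter.style.haveILetI false

open AlgebraicGeometry CategoryTheory Limits

namespace Groth.Agent.Lib.Helper8.AA11

universe u

theorem appLE_chart {Z : Scheme.{u}} {V : Z.Opens} (hV : IsAffineOpen V) {A' : CommRingCat.{u}}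
    (β : Γ(Z, V) ⟶ A') (h : ⊤ ≤ (Spec.map β ≫ hV.fromSpec) ⁻¹ᵁ V) :
    (Spec.map β ≫ hV.fromSpec).appLE V ⊤ h = β ≫ (Scheme.ΓSpecIso A').inv := by
  rw [Scheme.Hom.comp_appLE, hV.fromSpec_app_self, Category.assoc, Scheme.Hom.map_appLE,
    Scheme.ΓSpecIso_inv_naturality, Scheme.Hom.appTop, Scheme.Hom.app_eq_appLE]
  rfl

/-- Stalk map of a chart-morphism `Spec A' ⟶ Z` on germs of sections over the chart. -/
theorem stalkMap_germ_chart {Z : Scheme.{u}} {V : Z.Opens} (hV : IsAffineOpen V)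
    {A' : CommRingCat.{u}} (β : Γ(Z, V) ⟶ A') (u : Spec A')
    (hz : (Spec.map β ≫ hV.fromSpec) u ∈ V) (a : Γ(Z, V)) :
    ((Spec.map β ≫ hV.fromSpec).stalkMap u).hom (Z.presheaf.germ V _ hz a) =
      (StructureSheaf.toStalk A' u).hom (β.hom a) := by
  have hle : ⊤ ≤ (Spec.map β ≫ hV.fromSpec) ⁻¹ᵁ V := by
    intro w _
    change (Spec.map β ≫ hV.fromSpec) w ∈ V
    rw [Scheme.Hom.comp_apply]
    have h2 : hV.fromSpec ((Spec.map β) w) ∈ Set.range hV.fromSpec := Set.mem_range_self _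
    rw [hV.range_fromSpec] at h2
    exact h2
  have h1 := appLE_chart hV β hle
  rw [Scheme.Hom.germ_stalkMap_apply]
  have h2 : (Spec A').presheaf.germ ((Spec.map β ≫ hV.fromSpec) ⁻¹ᵁ V) u hz
      ((Spec.map β ≫ hV.fromSpec).app V a) =
      (Spec A').presheaf.germ ⊤ u trivial
        (((Spec.map β ≫ hV.fromSpec).appLE V ⊤ hle).hom a) :=
    ((Spec A').presheaf.germ_res_apply (homOfLE hle) u trivial _).symm
  rw [h2, h1]
  rfl

theorem germ_appLE {X S : Scheme.{u}} (p : X ⟶ S) (W : S.Opens) (V : X.Opens)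
    (hVW : V ≤ p ⁻¹ᵁ W) (x : X) (hxV : x ∈ V) (r : Γ(S, W)) :
    (X.presheaf.germ V x hxV).hom ((p.appLE W V hVW).hom r) =
      (p.stalkMap x).hom ((S.presheaf.germ W (p x) (hVW hxV)).hom r) := by
  have h1 := Scheme.Hom.germ_stalkMap_apply p W x (hVW hxV) r
  have h2 := X.presheaf.germ_res_apply (homOfLE hVW) x hxV (p.app W r)
  exact h2.trans h1.symm

open IsLocalRing in
theorem main7202 {X Y S : Scheme.{u}} [IsLocallyNoetherian S]
    (p : X ⟶ S) (q : Y ⟶ S) [LocallyOfFiniteType p] [LocallyOfFiniteType q] (x : X) (y : Y)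
    (hxy : p x = q y)
    (hG : CAlg.IsGRing ↑(S.presheaf.stalk (p x)))
    (φ : ↑(Y.presheaf.stalk y) →+* (AdicCompletion (IsLocalRing.maximalIdeal ↑(X.presheaf.stalk x)) ↑(X.presheaf.stalk x)))
    (hφ : φ.comp ((q.stalkMap y).hom.comp (S.presheaf.stalkCongr (Inseparable.of_eq hxy)).hom.hom) =
      (algebraMap ↑(X.presheaf.stalk x) (AdicCompletion (IsLocalRing.maximalIdeal ↑(X.presheaf.stalk x)) ↑(X.presheaf.stalk x))).comp (p.stalkMap x).hom)
    (hloc : ∀ b ∈ IsLocalRing.maximalIdeal ↑(Y.presheaf.stalk y),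
      φ b ∈ (IsLocalRing.maximalIdeal ↑(X.presheaf.stalk x)).map (algebraMap ↑(X.presheaf.stalk x) (AdicCompletion (IsLocalRing.maximalIdeal ↑(X.presheaf.stalk x)) ↑(X.presheaf.stalk x))))
    (N : ℕ) (hN : 1 ≤ N) :
    ∃ (U : Scheme.{u}) (e : U ⟶ X) (u : U) (heu : e u = x) (f : U ⟶ Y) (hfu : f u = y),
      Etale e ∧ Function.Bijective (e.residueFieldMap u) ∧ f ≫ q = e ≫ p ∧
      ∀ (b : ↑(Y.presheaf.stalk y)) (c : ↑(X.presheaf.stalk x)),
        AdicCompletion.evalₐ (IsLocalRing.maximalIdeal ↑(X.presheaf.stalk x)) N (φ b) =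
          Ideal.Quotient.mk (IsLocalRing.maximalIdeal ↑(X.presheaf.stalk x) ^ N) c →
        Ideal.Quotient.mk (IsLocalRing.maximalIdeal ↑(U.presheaf.stalk u) ^ N)
            ((f.stalkMap u).hom ((Y.presheaf.stalkCongr (Inseparable.of_eq hfu)).inv.hom b)) =
          Ideal.Quotient.mk (IsLocalRing.maximalIdeal ↑(U.presheaf.stalk u) ^ N)
            ((e.stalkMap u).hom ((X.presheaf.stalkCongr (Inseparable.of_eq heu)).inv.hom c)) := by
  -- affine charts
  obtain ⟨W, hW, hsW, -⟩ := TopologicalSpace.Opens.isBasis_iff_nbhd.mp S.isBasis_affineOpens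
    (show p x ∈ (⊤ : S.Opens) from trivial)
  obtain ⟨V, hV, hxV, hVW⟩ := TopologicalSpace.Opens.isBasis_iff_nbhd.mp X.isBasis_affineOpens
    (show x ∈ p ⁻¹ᵁ W from hsW)
  have hyW : y ∈ q ⁻¹ᵁ W := by
    change q y ∈ W
    rw [← hxy]
    exact hsW
  obtain ⟨V', hV', hyV', hV'W⟩ := TopologicalSpace.Opens.isBasis_iff_nbhd.mp Y.isBasis_affineOpens hyW
  -- rings
  letI algRA : Algebra Γ(S, W) Γ(X, V) := (p.appLE W V hVW).hom.toAlgebra
  letI algRC : Algebra Γ(S, W) Γ(Y, V') := (q.appLE W V' hV'W).hom.toAlgebra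
  haveI : IsNoetherianRing Γ(S, W) := IsLocallyNoetherian.component_noetherian ⟨W, hW⟩
  haveI ftA : Algebra.FiniteType Γ(S, W) Γ(X, V) :=
    HasRingHomProperty.appLE (P := @LocallyOfFiniteType) p inferInstance ⟨W, hW⟩ ⟨V, hV⟩ hVW
  haveI ftC : Algebra.FiniteType Γ(S, W) Γ(Y, V') :=
    HasRingHomProperty.appLE (P := @LocallyOfFiniteType) q inferInstance ⟨W, hW⟩ ⟨V', hV'⟩ hV'W
  haveI : IsNoetherianRing Γ(X, V) := Algebra.FiniteType.isNoetherianRing Γ(S, W) Γ(X, V)
  -- stalk algebras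
  letI algOX : Algebra Γ(X, V) (X.presheaf.stalk x) :=
    TopCat.Presheaf.algebra_section_stalk X.presheaf ⟨x, hxV⟩
  letI algOY : Algebra Γ(Y, V') (Y.presheaf.stalk y) :=
    TopCat.Presheaf.algebra_section_stalk Y.presheaf ⟨y, hyV'⟩
  letI algOS : Algebra Γ(S, W) (S.presheaf.stalk (p x)) :=
    TopCat.Presheaf.algebra_section_stalk S.presheaf ⟨p x, hsW⟩
  haveI locX := hV.isLocalization_stalk ⟨x, hxV⟩
  haveI locY := hV'.isLocalization_stalk ⟨y, hyV'⟩
  haveI locS := hW.isLocalization_stalk ⟨p x, hsW⟩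
  have h𝔭₀ : (hV.primeIdealOf ⟨x, hxV⟩).asIdeal.comap (algebraMap Γ(S, W) Γ(X, V)) =
      (hW.primeIdealOf ⟨p x, hsW⟩).asIdeal :=
    congrArg PrimeSpectrum.asIdeal (IsAffineOpen.comap_primeIdealOf_appLE W hW V hV hVW hxV)
  have hGX : CAlg.IsGRing (X.presheaf.stalk x) :=
    AA10.isGRing_of_finiteType_atPrime (hV.primeIdealOf ⟨x, hxV⟩).asIdeal
      (hW.primeIdealOf ⟨p x, hsW⟩).asIdeal h𝔭₀ (S.presheaf.stalk (p x)) (X.presheaf.stalk x) hG
  have hφ' : ∀ r : Γ(S, W), φ (algebraMap Γ(Y, V') (Y.presheaf.stalk y)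
      (algebraMap Γ(S, W) Γ(Y, V') r)) =
      algebraMap (X.presheaf.stalk x) (AdicCompletion (maximalIdeal (X.presheaf.stalk x))
        (X.presheaf.stalk x)) (algebraMap Γ(X, V) (X.presheaf.stalk x)
          (algebraMap Γ(S, W) Γ(X, V) r)) := by
    intro r
    have h1 := DFunLike.congr_fun hφ ((S.presheaf.germ W (p x) hsW).hom r)
    simp only [RingHom.comp_apply] at h1
    have h2 : (S.presheaf.stalkCongr (Inseparable.of_eq hxy)).hom.hom
        ((S.presheaf.germ W (p x) hsW).hom r) = (S.presheaf.germ W (q y) hyW).hom r := by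
      exact TopCat.Presheaf.germ_stalkSpecializes_apply S.presheaf hsW
        (Inseparable.of_eq hxy).ge r
    rw [h2] at h1
    change φ ((Y.presheaf.germ V' y hyV').hom ((q.appLE W V' hV'W).hom r)) =
      algebraMap _ _ ((X.presheaf.germ V x hxV).hom ((p.appLE W V hVW).hom r))
    rw [germ_appLE q W V' hV'W y hyV' r, germ_appLE p W V hVW x hxV r]
    exact h1
  obtain ⟨A', _, _, het, 𝔭', h𝔭', τ, hcomap, htriv, hτR, hcomapτ, hfinal⟩ :=
    AA9.alg7202 (R := Γ(S, W)) (A := Γ(X, V)) (C := Γ(Y, V'))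
      (hV.primeIdealOf ⟨x, hxV⟩).asIdeal (hV'.primeIdealOf ⟨y, hyV'⟩).asIdeal
      (X.presheaf.stalk x) (Y.presheaf.stalk y) hGX φ hφ' hloc N hN
  let α₀ : Γ(X, V) ⟶ CommRingCat.of A' := CommRingCat.ofHom (algebraMap Γ(X, V) A')
  let τ₀ : Γ(Y, V') ⟶ CommRingCat.of A' := CommRingCat.ofHom τ
  let e : Spec (CommRingCat.of A') ⟶ X := Spec.map α₀ ≫ hV.fromSpec
  let f : Spec (CommRingCat.of A') ⟶ Y := Spec.map τ₀ ≫ hV'.fromSpec
  let u : Spec (CommRingCat.of A') := ⟨𝔭', h𝔭'⟩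
  have heu : e u = x := by
    change hV.fromSpec (Spec.map α₀ u) = x
    have : Spec.map α₀ u = hV.primeIdealOf ⟨x, hxV⟩ := PrimeSpectrum.ext hcomap
    rw [this]
    exact hV.fromSpec_primeIdealOf ⟨x, hxV⟩
  have hfu : f u = y := by
    change hV'.fromSpec (Spec.map τ₀ u) = y
    have : Spec.map τ₀ u = hV'.primeIdealOf ⟨y, hyV'⟩ := PrimeSpectrum.ext hcomapτ
    rw [this]
    exact hV'.fromSpec_primeIdealOf ⟨y, hyV'⟩
  refine ⟨Spec (CommRingCat.of A'), e, u, heu, f, hfu, ?_, ?_, ?_, ?_⟩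
  · -- étale
    haveI : Etale (Spec.map α₀) := by
      rw [HasRingHomProperty.Spec_iff (P := @Etale)]
      exact RingHom.etale_algebraMap.mpr het
    infer_instance
  · -- residue fields
    have hP : Groth.Agent.Lib.Helper6.EtLoc.TrivRes Γ(X, V) u.asIdeal := by
      intro c
      obtain ⟨r, s, hs, hrs⟩ := htriv c
      refine ⟨s, r, ?_, hrs⟩
      intro h
      apply hs
      rw [← hcomap]
      exact h
    exact Groth.Agent.Lib.Helper6.EtLoc.gMap_residueFieldMap_bijective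
      (R₀ := Γ(X, V)) (R' := A') hV.fromSpec u hP
  · -- commutativity
    change (Spec.map τ₀ ≫ hV'.fromSpec) ≫ q = (Spec.map α₀ ≫ hV.fromSpec) ≫ p
    rw [Category.assoc, Category.assoc, ← IsAffineOpen.SpecMap_appLE_fromSpec q hW hV' hV'W,
      ← IsAffineOpen.SpecMap_appLE_fromSpec p hW hV hVW, ← Spec.map_comp_assoc,
      ← Spec.map_comp_assoc]
    congr 2
    ext r
    exact hτR r
  · intro b c hbc
    letI algOU : Algebra A' ((Spec (CommRingCat.of A')).presheaf.stalk u) :=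
      (StructureSheaf.toStalk A' u).hom.toAlgebra
    haveI locU : IsLocalization.AtPrime ((Spec (CommRingCat.of A')).presheaf.stalk u) 𝔭' :=
      StructureSheaf.IsLocalization.to_stalk (R := A') u
    have hzX : e u ∈ V := by
      rw [heu]
      exact hxV
    have hzY : f u ∈ V' := by
      rw [hfu]
      exact hyV'
    have he' : ∀ a : Γ(X, V), ((e.stalkMap u).hom.comp
        (X.presheaf.stalkCongr (Inseparable.of_eq heu)).inv.hom)
        (algebraMap Γ(X, V) (X.presheaf.stalk x) a) =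
        algebraMap A' ((Spec (CommRingCat.of A')).presheaf.stalk u)
          (algebraMap Γ(X, V) A' a) := by
      intro a
      rw [RingHom.comp_apply]
      have h2 : (X.presheaf.stalkCongr (Inseparable.of_eq heu)).inv.hom
          ((X.presheaf.germ V x hxV).hom a) = (X.presheaf.germ V (e u) hzX).hom a :=
        TopCat.Presheaf.germ_stalkSpecializes_apply X.presheaf hxV
          (Inseparable.of_eq heu).le a
      change (e.stalkMap u).hom ((X.presheaf.stalkCongr (Inseparable.of_eq heu)).inv.hom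
          ((X.presheaf.germ V x hxV).hom a)) = _
      rw [h2]
      exact stalkMap_germ_chart hV α₀ u hzX a
    have hf' : ∀ c' : Γ(Y, V'), ((f.stalkMap u).hom.comp
        (Y.presheaf.stalkCongr (Inseparable.of_eq hfu)).inv.hom)
        (algebraMap Γ(Y, V') (Y.presheaf.stalk y) c') =
        algebraMap A' ((Spec (CommRingCat.of A')).presheaf.stalk u) (τ c') := by
      intro c'
      rw [RingHom.comp_apply]
      have h2 : (Y.presheaf.stalkCongr (Inseparable.of_eq hfu)).inv.hom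
          ((Y.presheaf.germ V' y hyV').hom c') = (Y.presheaf.germ V' (f u) hzY).hom c' :=
        TopCat.Presheaf.germ_stalkSpecializes_apply Y.presheaf hyV'
          (Inseparable.of_eq hfu).le c'
      change (f.stalkMap u).hom ((Y.presheaf.stalkCongr (Inseparable.of_eq hfu)).inv.hom
          ((Y.presheaf.germ V' y hyV').hom c')) = _
      rw [h2]
      exact stalkMap_germ_chart hV' τ₀ u hzY c'
    exact hfinal ((Spec (CommRingCat.of A')).presheaf.stalk u)
      ((e.stalkMap u).hom.comp (X.presheaf.stalkCongr (Inseparable.of_eq heu)).inv.hom)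
      ((f.stalkMap u).hom.comp (Y.presheaf.stalkCongr (Inseparable.of_eq hfu)).inv.hom)
      he' hf' b c hbc

end Groth.Agent.Lib.Helper8.AA11
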