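import Mathlib
import Groth.Prelude.Def_Smoothing
import Groth.Agent.Lib.Helper8.AA9

set_option backward.isDefEq.respectTransparency.types false
set_option autoImplicit false
set_option linter.unusedSectionVars false
set_option linter.style.haveILetI false

open TensorProduct

namespace Groth.Agent.Lib.Helper8.AA12

universe u

open Groth.Agent.Lib.Helper8.AA9 Groth.Agent.Lib.Helper8

open IsLocalRing in
/-- Algebraic core with the comparison map `ψ` exposed. -/
theorem core7202 {R A C : Type u} [CommRing R] [CommRing A] [CommRing C] [IsNoetherianRing R]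
    [IsNoetherianRing A] [Algebra R A] [Algebra R C] [Algebra.FiniteType R C]
    (𝔭 : Ideal A) [𝔭.IsPrime] (𝔮 : Ideal C) [𝔮.IsPrime]
    (OX : Type u) [CommRing OX] [IsLocalRing OX] [Algebra A OX] [IsLocalization.AtPrime OX 𝔭]
    (OY : Type u) [CommRing OY] [IsLocalRing OY] [Algebra C OY] [IsLocalization.AtPrime OY 𝔮]
    (hG : CAlg.IsGRing OX)
    (φ : OY →+* AdicCompletion (maximalIdeal OX) OX)
    (hφ : ∀ r : R, φ (algebraMap C OY (algebraMap R C r)) =
      algebraMap OX (AdicCompletion (maximalIdeal OX) OX) (algebraMap A OX (algebraMap R A r)))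
    (hloc : ∀ b ∈ maximalIdeal OY, φ b ∈ (maximalIdeal OX).map
      (algebraMap OX (AdicCompletion (maximalIdeal OX) OX)))
    (N : ℕ) (hN : 1 ≤ N) :
    ∃ (A' : Type u) (_ : CommRing A') (_ : Algebra A A'), Algebra.Etale A A' ∧
      ∃ (ψ : A' →+* AdicCompletion (maximalIdeal OX) OX)
        (𝔭' : Ideal A') (_ : 𝔭'.IsPrime) (τ : C →+* A'),
        (∀ a : A, ψ (algebraMap A A' a) =
          algebraMap OX (AdicCompletion (maximalIdeal OX) OX) (algebraMap A OX a)) ∧
        𝔭'.comap (algebraMap A A') = 𝔭 ∧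
        (∀ x : A', ∃ r s : A, s ∉ 𝔭 ∧ algebraMap A A' s * x - algebraMap A A' r ∈ 𝔭') ∧
        (∀ z ∈ 𝔭', ψ z ∈ (maximalIdeal OX).map
          (algebraMap OX (AdicCompletion (maximalIdeal OX) OX))) ∧
        (∀ z : A', ψ z ∈ (maximalIdeal OX).map
          (algebraMap OX (AdicCompletion (maximalIdeal OX) OX)) → z ∈ 𝔭') ∧
        (∀ r : R, τ (algebraMap R C r) = algebraMap A A' (algebraMap R A r)) ∧
        𝔭'.comap τ = 𝔮 ∧
        ∀ c : C, AdicCompletion.evalₐ (maximalIdeal OX) N (ψ (τ c)) =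
          AdicCompletion.evalₐ (maximalIdeal OX) N (φ (algebraMap C OY c)) := by
  classical
  haveI hOXn : IsNoetherianRing OX := hG.1
  -- presentation of `C`
  obtain ⟨n, f, hf⟩ := Algebra.FiniteType.iff_quotient_mvPolynomial''.mp
    (inferInstance : Algebra.FiniteType R C)
  obtain ⟨m, F, hF⟩ := (Submodule.fg_iff_exists_fin_generating_family).mp
    (IsNoetherian.noetherian (RingHom.ker f.toRingHom))
  -- the completion
  let can : A →+* AdicCompletion (maximalIdeal OX) OX :=
    (algebraMap OX (AdicCompletion (maximalIdeal OX) OX)).comp (algebraMap A OX)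
  -- the system over `A` and its formal solution
  let FA : Fin m → MvPolynomial (Fin n) A := fun j => MvPolynomial.map (algebraMap R A) (F j)
  let a : Fin n → AdicCompletion (maximalIdeal OX) OX :=
    fun i => φ (algebraMap C OY (f (MvPolynomial.X i)))
  let Φ : MvPolynomial (Fin n) R →+* AdicCompletion (maximalIdeal OX) OX :=
    (φ.comp (algebraMap C OY)).comp f.toRingHom
  have hΦ : ∀ P : MvPolynomial (Fin n) R,
      MvPolynomial.aeval a (MvPolynomial.map (algebraMap A OX)
        (MvPolynomial.map (algebraMap R A) P)) = Φ P := by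
    intro P
    have : ((MvPolynomial.aeval a : MvPolynomial (Fin n) OX →ₐ[OX] _).toRingHom.comp
        (MvPolynomial.map (algebraMap A OX))).comp (MvPolynomial.map (algebraMap R A)) = Φ := by
      apply MvPolynomial.ringHom_ext
      · intro r
        simp only [RingHom.comp_apply, MvPolynomial.map_C, AlgHom.toRingHom_eq_coe,
          RingHom.coe_coe, MvPolynomial.aeval_C, Φ]
        rw [← MvPolynomial.algebraMap_eq, AlgHom.commutes, hφ]
      · intro i
        simp only [RingHom.comp_apply, MvPolynomial.map_X, AlgHom.toRingHom_eq_coe,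
          RingHom.coe_coe, MvPolynomial.aeval_X, Φ]
        rfl
    exact DFunLike.congr_fun this P
  have hFker : ∀ j, f (F j) = 0 := by
    intro j
    have : F j ∈ RingHom.ker f.toRingHom := by
      rw [← hF]
      exact Submodule.subset_span (Set.mem_range_self j)
    exact this
  have ha : ∀ j, MvPolynomial.aeval a (MvPolynomial.map (algebraMap A OX) (FA j)) = 0 := by
    intro j
    rw [hΦ]
    change φ (algebraMap C OY (f (F j))) = 0
    rw [hFker, map_zero, map_zero]
  obtain ⟨A', _, _, het, ψ, 𝔭', h𝔭', hψA, hcomap, htriv, hψ𝔭', b, hb, hab⟩ :=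
    main6843' 𝔭 OX hG FA a ha N
  haveI := h𝔭'
  -- the map `τ`
  let T₀ : MvPolynomial (Fin n) R →+* A' :=
    MvPolynomial.eval₂Hom ((algebraMap A A').comp (algebraMap R A)) b
  have hT₀ : ∀ P : MvPolynomial (Fin n) R,
      T₀ P = MvPolynomial.aeval b (MvPolynomial.map (algebraMap R A) P) := by
    intro P
    have : T₀ = (MvPolynomial.aeval b : MvPolynomial (Fin n) A →ₐ[A] A').toRingHom.comp
        (MvPolynomial.map (algebraMap R A)) := by
      apply MvPolynomial.ringHom_ext
      · intro r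
        simp [T₀]
      · intro i
        simp [T₀]
    rw [this]
    rfl
  have hker : RingHom.ker f.toRingHom ≤ RingHom.ker T₀ := by
    rw [← hF]
    change Ideal.span (Set.range F) ≤ _
    rw [Ideal.span_le]
    rintro _ ⟨j, rfl⟩
    change T₀ (F j) = 0
    rw [hT₀]
    exact hb j
  let τ : C →+* A' := (f.toRingHom.liftOfSurjective hf) ⟨T₀, hker⟩
  have hτ : ∀ P, τ (f P) = T₀ P := fun P =>
    RingHom.liftOfSurjective_comp_apply f.toRingHom hf ⟨T₀, hker⟩ P
  have hτR : ∀ r : R, τ (algebraMap R C r) = algebraMap A A' (algebraMap R A r) := by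
    intro r
    rw [← f.commutes r, hτ]
    simp [T₀, MvPolynomial.algebraMap_eq]
  -- the key congruence
  have hcong : ∀ c : C, AdicCompletion.evalₐ (maximalIdeal OX) N (ψ (τ c)) =
      AdicCompletion.evalₐ (maximalIdeal OX) N (φ (algebraMap C OY c)) := by
    intro c
    obtain ⟨P, rfl⟩ := hf c
    rw [hτ]
    have : ((AdicCompletion.evalₐ (maximalIdeal OX) N).toRingHom.comp ψ).comp T₀ =
        (AdicCompletion.evalₐ (maximalIdeal OX) N).toRingHom.comp Φ := by
      apply MvPolynomial.ringHom_ext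
      · intro r
        simp only [RingHom.comp_apply, T₀, MvPolynomial.coe_eval₂Hom, MvPolynomial.eval₂_C, Φ]
        rw [hψA]
        congr 1
        change _ = φ (algebraMap C OY (f (MvPolynomial.C r)))
        rw [← MvPolynomial.algebraMap_eq, AlgHom.commutes, hφ]
      · intro i
        simp only [RingHom.comp_apply, T₀, MvPolynomial.coe_eval₂Hom, MvPolynomial.eval₂_X, Φ]
        have h1 := AA3.evalₐ_eq_zero_of_mem_map _ N _ (hab i)
        rw [map_sub, sub_eq_zero] at h1
        exact h1.symm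
    exact DFunLike.congr_fun this P
  have hmfg : (maximalIdeal OX).FG := IsNoetherian.noetherian _
  have hmhat : maximalIdeal (AdicCompletion (maximalIdeal OX) OX) =
      (maximalIdeal OX).map (algebraMap OX (AdicCompletion (maximalIdeal OX) OX)) :=
    AdicCompletion.maximalIdeal_eq_map
  have hcan𝔭 : ∀ r : A, can r ∈ (maximalIdeal OX).map
      (algebraMap OX (AdicCompletion (maximalIdeal OX) OX)) → r ∈ 𝔭 := by
    intro r hr
    rw [← hmhat] at hr
    have h1 : algebraMap A OX r ∈ maximalIdeal OX := by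
      by_contra h
      have hu : IsUnit (algebraMap A OX r) := by
        rwa [mem_maximalIdeal, mem_nonunits_iff, not_not] at h
      exact (mem_maximalIdeal _).mp hr
        (hu.map (algebraMap OX (AdicCompletion (maximalIdeal OX) OX)))
    exact (IsLocalization.AtPrime.to_map_mem_maximal_iff OX 𝔭 r).mp h1
  have hψinv : ∀ z : A', ψ z ∈ (maximalIdeal OX).map
      (algebraMap OX (AdicCompletion (maximalIdeal OX) OX)) → z ∈ 𝔭' := by
    intro z hz
    obtain ⟨r, s, hs, hrs⟩ := htriv z
    have h1 := hψ𝔭' _ hrs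
    rw [map_sub, map_mul, hψA, hψA] at h1
    have h2 : can r ∈ (maximalIdeal OX).map
        (algebraMap OX (AdicCompletion (maximalIdeal OX) OX)) := by
      have := Ideal.sub_mem _ (Ideal.mul_mem_left _ (can s) hz) h1
      simpa [can] using this
    have hr : r ∈ 𝔭 := hcan𝔭 r h2
    have hr' : algebraMap A A' r ∈ 𝔭' := by
      rw [← hcomap] at hr
      exact hr
    have h3 : algebraMap A A' s * z ∈ 𝔭' := by
      have := Ideal.add_mem _ hrs hr'
      rwa [sub_add_cancel] at this
    rcases Ideal.IsPrime.mem_or_mem h𝔭' h3 with h4 | h4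
    · exact absurd (by rw [← hcomap]; exact h4) hs
    · exact h4
  have hdiff : ∀ c : C, ψ (τ c) - φ (algebraMap C OY c) ∈ (maximalIdeal OX).map
      (algebraMap OX (AdicCompletion (maximalIdeal OX) OX)) := by
    intro c
    have h1 : AdicCompletion.evalₐ (maximalIdeal OX) N
        (ψ (τ c) - φ (algebraMap C OY c)) = 0 := by
      rw [map_sub, hcong, sub_self]
    have h2 := AA1.mem_map_pow_of_evalₐ_eq_zero _ hmfg _ N h1
    exact Ideal.map_mono (Ideal.pow_le_self (by omega)) h2
  have hcomapτ : 𝔭'.comap τ = 𝔮 := by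
    ext c
    rw [Ideal.mem_comap]
    constructor
    · intro hc
      by_contra hcq
      have hu : IsUnit (algebraMap C OY c) :=
        IsLocalization.map_units OY (⟨c, hcq⟩ : 𝔮.primeCompl)
      have hu' : IsUnit (φ (algebraMap C OY c)) := hu.map φ
      have h3 := hψ𝔭' _ hc
      have h4 : φ (algebraMap C OY c) ∈ (maximalIdeal OX).map
          (algebraMap OX (AdicCompletion (maximalIdeal OX) OX)) := by
        have := Ideal.sub_mem _ h3 (hdiff c)
        simpa using this
      rw [← hmhat] at h4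
      exact (mem_maximalIdeal _).mp h4 hu'
    · intro hc
      apply hψinv
      have h1 : algebraMap C OY c ∈ maximalIdeal OY :=
        (IsLocalization.AtPrime.to_map_mem_maximal_iff OY 𝔮 c).mpr hc
      have h2 := hloc _ h1
      have := Ideal.add_mem _ (hdiff c) h2
      simpa using this
  exact ⟨A', inferInstance, inferInstance, het, ψ, 𝔭', h𝔭', τ, hψA, hcomap, htriv, hψ𝔭', hψinv,
    hτR, hcomapτ, hcong⟩

open IsLocalRing in
/-- Comparison at every finite level: the canonical map `A' → O_U/m^k` is `ψ` followed by `e'`. -/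
theorem level_compare {A : Type u} [CommRing A] (𝔭 : Ideal A) [𝔭.IsPrime]
    (OX : Type u) [CommRing OX] [IsLocalRing OX] [Algebra A OX] [IsLocalization.AtPrime OX 𝔭]
    (A' : Type u) [CommRing A'] [Algebra A A'] [Algebra.FormallyUnramified A A']
    (ψ : A' →+* AdicCompletion (maximalIdeal OX) OX) (𝔭' : Ideal A') [h𝔭' : 𝔭'.IsPrime]
    (hψA : ∀ a : A, ψ (algebraMap A A' a) =
      algebraMap OX (AdicCompletion (maximalIdeal OX) OX) (algebraMap A OX a))
    (hcomap : 𝔭'.comap (algebraMap A A') = 𝔭)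
    (htriv : ∀ x : A', ∃ r s : A, s ∉ 𝔭 ∧ algebraMap A A' s * x - algebraMap A A' r ∈ 𝔭')
    (hψ𝔭' : ∀ z ∈ 𝔭', ψ z ∈ (maximalIdeal OX).map
      (algebraMap OX (AdicCompletion (maximalIdeal OX) OX)))
    (OU : Type u) [CommRing OU] [IsLocalRing OU] [Algebra A' OU] [IsLocalization.AtPrime OU 𝔭']
    (e' : OX →+* OU)
    (he' : ∀ a, e' (algebraMap A OX a) = algebraMap A' OU (algebraMap A A' a))
    (k : ℕ) (z₀ : A') (c₀ : OX)
    (hc : AdicCompletion.evalₐ (maximalIdeal OX) k (ψ z₀) = Ideal.Quotient.mk _ c₀) :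
    Ideal.Quotient.mk (maximalIdeal OU ^ k) (algebraMap A' OU z₀) =
      Ideal.Quotient.mk (maximalIdeal OU ^ k) (e' c₀) := by
  have he'm : (maximalIdeal OX).map e' ≤ maximalIdeal OU := by
    rw [← IsLocalization.AtPrime.map_eq_maximalIdeal 𝔭 OX, Ideal.map_map,
      Ideal.map_le_iff_le_comap]
    intro x hx
    rw [Ideal.mem_comap, RingHom.comp_apply, he']
    apply (IsLocalization.AtPrime.to_map_mem_maximal_iff OU 𝔭' _).mpr
    rw [← hcomap] at hx
    exact hx
  have he'k : ∀ x ∈ maximalIdeal OX ^ k, e' x ∈ maximalIdeal OU ^ k := by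
    intro x hx
    have : (maximalIdeal OX ^ k).map e' ≤ maximalIdeal OU ^ k := by
      rw [Ideal.map_pow]
      exact Ideal.pow_right_mono he'm k
    exact this (Ideal.mem_map_of_mem _ hx)
  let ebar : OX ⧸ maximalIdeal OX ^ k →+* OU ⧸ maximalIdeal OU ^ k :=
    Ideal.Quotient.lift _ ((Ideal.Quotient.mk _).comp e') (fun x hx => by
      rw [RingHom.comp_apply, Ideal.Quotient.eq_zero_iff_mem]
      exact he'k x hx)
  have hebar : ∀ x : OX, ebar (Ideal.Quotient.mk _ x) = Ideal.Quotient.mk _ (e' x) := fun x => rfl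
  have hevalof : ∀ x : OX, AdicCompletion.evalₐ (maximalIdeal OX) k
      (algebraMap OX (AdicCompletion (maximalIdeal OX) OX) x) = Ideal.Quotient.mk _ x := by
    intro x
    exact AdicCompletion.evalₐ_of _ k x
  let g₁r : A' →+* OU ⧸ maximalIdeal OU ^ k := (Ideal.Quotient.mk _).comp (algebraMap A' OU)
  let g₂r : A' →+* OU ⧸ maximalIdeal OU ^ k :=
    (ebar.comp (AdicCompletion.evalₐ (maximalIdeal OX) k).toRingHom).comp ψ
  letI algT : Algebra A (OU ⧸ maximalIdeal OU ^ k) := (g₁r.comp (algebraMap A A')).toAlgebra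
  have hg₂A : ∀ x : A, g₂r (algebraMap A A' x) = g₁r (algebraMap A A' x) := by
    intro x
    change ebar (AdicCompletion.evalₐ (maximalIdeal OX) k (ψ (algebraMap A A' x))) =
      Ideal.Quotient.mk _ (algebraMap A' OU (algebraMap A A' x))
    rw [hψA, hevalof, hebar, he']
  let g₁ : A' →ₐ[A] OU ⧸ maximalIdeal OU ^ k := { g₁r with commutes' := fun x => rfl }
  let g₂ : A' →ₐ[A] OU ⧸ maximalIdeal OU ^ k := { g₂r with commutes' := fun x => hg₂A x }
  let nn : Ideal (OU ⧸ maximalIdeal OU ^ k) := (maximalIdeal OU).map (Ideal.Quotient.mk _)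
  have hnn : IsNilpotent nn := ⟨k, by
    rw [← Ideal.map_pow, Ideal.zero_eq_bot]
    exact Ideal.map_quotient_self _⟩
  have hmhatn : ∀ y ∈ (maximalIdeal OX).map
      (algebraMap OX (AdicCompletion (maximalIdeal OX) OX)),
      ebar (AdicCompletion.evalₐ (maximalIdeal OX) k y) ∈ nn := by
    have : (maximalIdeal OX).map (algebraMap OX (AdicCompletion (maximalIdeal OX) OX)) ≤
        nn.comap (ebar.comp (AdicCompletion.evalₐ (maximalIdeal OX) k).toRingHom) := by
      rw [Ideal.map_le_iff_le_comap]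
      intro x hx
      rw [Ideal.mem_comap, Ideal.mem_comap]
      change ebar (AdicCompletion.evalₐ (maximalIdeal OX) k
        (algebraMap OX (AdicCompletion (maximalIdeal OX) OX) x)) ∈ nn
      rw [hevalof, hebar]
      exact Ideal.mem_map_of_mem _ (he'm (Ideal.mem_map_of_mem _ hx))
    intro y hy
    exact this hy
  have hg : g₁ = g₂ := by
    haveI : Algebra.FormallyUnramified A A' := inferInstance
    apply Algebra.FormallyUnramified.ext nn hnn
    intro z
    rw [Ideal.Quotient.eq]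
    obtain ⟨r, s, hs, hrs⟩ := htriv z
    have hs' : algebraMap A A' s ∉ 𝔭' := by
      intro h
      apply hs
      rw [← hcomap]
      exact h
    have hσ : IsUnit (g₁ (algebraMap A A' s)) :=
      (IsLocalization.map_units OU (⟨algebraMap A A' s, hs'⟩ : 𝔭'.primeCompl)).map
        (Ideal.Quotient.mk _)
    have h1 : g₁ (algebraMap A A' s * z - algebraMap A A' r) ∈ nn :=
      Ideal.mem_map_of_mem _ ((IsLocalization.AtPrime.to_map_mem_maximal_iff OU 𝔭' _).mpr hrs)
    have h2 : g₂ (algebraMap A A' s * z - algebraMap A A' r) ∈ nn :=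
      hmhatn _ (hψ𝔭' _ hrs)
    have h3 : g₁ (algebraMap A A' s) * (g₁ z - g₂ z) ∈ nn := by
      have h4 := Ideal.sub_mem _ h1 h2
      have h5 : g₁ (algebraMap A A' s * z - algebraMap A A' r) -
          g₂ (algebraMap A A' s * z - algebraMap A A' r) =
          g₁ (algebraMap A A' s) * (g₁ z - g₂ z) := by
        rw [map_sub, map_sub, map_mul, map_mul, AlgHom.commutes, AlgHom.commutes,
          AlgHom.commutes, AlgHom.commutes]
        ring
      rwa [h5] at h4
    exact (Ideal.unit_mul_mem_iff_mem nn hσ).mp h3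
  have hg' : ∀ z : A', Ideal.Quotient.mk (maximalIdeal OU ^ k) (algebraMap A' OU z) =
      ebar (AdicCompletion.evalₐ (maximalIdeal OX) k (ψ z)) := fun z => DFunLike.congr_fun hg z
  rw [hg' z₀, hc, hebar]

/-- `e'` is a local homomorphism. -/
theorem map_maximalIdeal_le {A : Type u} [CommRing A] (𝔭 : Ideal A) [𝔭.IsPrime]
    (OX : Type u) [CommRing OX] [IsLocalRing OX] [Algebra A OX] [IsLocalization.AtPrime OX 𝔭]
    (A' : Type u) [CommRing A'] [Algebra A A'] (𝔭' : Ideal A') [h𝔭' : 𝔭'.IsPrime]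
    (hcomap : 𝔭'.comap (algebraMap A A') = 𝔭)
    (OU : Type u) [CommRing OU] [IsLocalRing OU] [Algebra A' OU] [IsLocalization.AtPrime OU 𝔭']
    (e' : OX →+* OU)
    (he' : ∀ a, e' (algebraMap A OX a) = algebraMap A' OU (algebraMap A A' a)) :
    (IsLocalRing.maximalIdeal OX).map e' ≤ IsLocalRing.maximalIdeal OU := by
  rw [← IsLocalization.AtPrime.map_eq_maximalIdeal 𝔭 OX, Ideal.map_map,
    Ideal.map_le_iff_le_comap]
  intro x hx
  rw [Ideal.mem_comap, RingHom.comp_apply, he']
  apply (IsLocalization.AtPrime.to_map_mem_maximal_iff OU 𝔭' _).mpr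
  rw [← hcomap] at hx
  exact hx

section levels

open IsLocalRing

variable {A : Type u} [CommRing A] (𝔭 : Ideal A) [𝔭.IsPrime]
    (OX : Type u) [CommRing OX] [IsLocalRing OX] [IsNoetherianRing OX] [Algebra A OX]
    [IsLocalization.AtPrime OX 𝔭]
    (A' : Type u) [CommRing A'] [Algebra A A'] [Algebra.FormallyUnramified A A']
    (ψ : A' →+* AdicCompletion (maximalIdeal OX) OX) (𝔭' : Ideal A') [h𝔭' : 𝔭'.IsPrime]
    (hψA : ∀ a : A, ψ (algebraMap A A' a) =
      algebraMap OX (AdicCompletion (maximalIdeal OX) OX) (algebraMap A OX a))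
    (hcomap : 𝔭'.comap (algebraMap A A') = 𝔭)
    (htriv : ∀ x : A', ∃ r s : A, s ∉ 𝔭 ∧ algebraMap A A' s * x - algebraMap A A' r ∈ 𝔭')
    (hψ𝔭' : ∀ z ∈ 𝔭', ψ z ∈ (maximalIdeal OX).map
      (algebraMap OX (AdicCompletion (maximalIdeal OX) OX)))
    (hψinv : ∀ z : A', ψ z ∈ (maximalIdeal OX).map
      (algebraMap OX (AdicCompletion (maximalIdeal OX) OX)) → z ∈ 𝔭')
    (OU : Type u) [CommRing OU] [IsLocalRing OU] [Algebra A' OU] [IsLocalization.AtPrime OU 𝔭']
    (e' : OX →+* OU)
    (he' : ∀ a, e' (algebraMap A OX a) = algebraMap A' OU (algebraMap A A' a))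

include hψinv in
theorem isUnit_psi (t : A') (ht : t ∉ 𝔭') : IsUnit (ψ t) := by
  have hmhat : maximalIdeal (AdicCompletion (maximalIdeal OX) OX) =
      (maximalIdeal OX).map (algebraMap OX (AdicCompletion (maximalIdeal OX) OX)) :=
    AdicCompletion.maximalIdeal_eq_map
  by_contra h
  apply ht
  apply hψinv
  rw [← hmhat]
  exact (mem_maximalIdeal _).mpr h

include hψA hcomap htriv hψ𝔭' hψinv he' in
theorem etale_levels_surj (k : ℕ) (s : OU) : ∃ c : OX, s - e' c ∈ maximalIdeal OU ^ k := by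
  obtain ⟨z, t, rfl⟩ := IsLocalization.exists_mk'_eq 𝔭'.primeCompl s
  obtain ⟨cz, hcz⟩ := Ideal.Quotient.mk_surjective
    (AdicCompletion.evalₐ (maximalIdeal OX) k (ψ z))
  obtain ⟨ct, hct⟩ := Ideal.Quotient.mk_surjective
    (AdicCompletion.evalₐ (maximalIdeal OX) k (ψ (t : A')))
  have h1 := level_compare 𝔭 OX A' ψ 𝔭' hψA hcomap htriv hψ𝔭' OU e' he' k z cz hcz.symm
  have h2 := level_compare 𝔭 OX A' ψ 𝔭' hψA hcomap htriv hψ𝔭' OU e' he' k t ct hct.symm
  have hut : IsUnit (Ideal.Quotient.mk (maximalIdeal OX ^ k) ct) := by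
    rw [hct]
    exact (isUnit_psi OX A' ψ 𝔭' hψinv t t.2).map _
  obtain ⟨w, hw⟩ := Ideal.Quotient.mk_surjective (hut.unit⁻¹ : (OX ⧸ maximalIdeal OX ^ k)ˣ).1
  have hw' : Ideal.Quotient.mk (maximalIdeal OX ^ k) (ct * w) = 1 := by
    rw [map_mul, hw]
    exact hut.mul_val_inv
  refine ⟨cz * w, ?_⟩
  rw [← Ideal.Quotient.eq]
  -- multiply by the unit `ι t`
  have hunit : IsUnit (Ideal.Quotient.mk (maximalIdeal OU ^ k) (algebraMap A' OU t)) :=
    (IsLocalization.map_units OU t).map _
  apply hunit.mul_left_injective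
  change _ * _ = _ * _
  rw [← map_mul, IsLocalization.mk'_spec, h1, h2, ← map_mul, ← map_mul]
  -- `e' (cz * w) * e' ct ≡ e' cz`
  have h3 : ct * w - 1 ∈ maximalIdeal OX ^ k := by
    rw [← Ideal.Quotient.eq, hw', map_one]
  have h4 : e' (ct * w - 1) ∈ maximalIdeal OU ^ k := by
    have hle : (maximalIdeal OX ^ k).map e' ≤ maximalIdeal OU ^ k := by
      rw [Ideal.map_pow]
      exact Ideal.pow_right_mono (map_maximalIdeal_le 𝔭 OX A' 𝔭' hcomap OU e' he') k
    exact hle (Ideal.mem_map_of_mem _ h3)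
  rw [Ideal.Quotient.eq]
  have h5 : e' cz - e' (cz * w * ct) = - (e' cz * e' (ct * w - 1)) := by
    simp only [map_mul, map_sub, map_one]
    ring
  rw [h5]
  exact Ideal.neg_mem_iff _ |>.mpr (Ideal.mul_mem_left _ _ h4)

include hψA hcomap hψ𝔭' hψinv he' in
theorem etale_levels_inj (k : ℕ) (c : OX) (hc : e' c ∈ maximalIdeal OU ^ k) :
    c ∈ maximalIdeal OX ^ k := by
  have hunits : ∀ t : 𝔭'.primeCompl, IsUnit
      (((AdicCompletion.evalₐ (maximalIdeal OX) k).toRingHom.comp ψ) t) := fun t =>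
    (isUnit_psi OX A' ψ 𝔭' hψinv t t.2).map (AdicCompletion.evalₐ (maximalIdeal OX) k).toRingHom
  let lam : OU →+* OX ⧸ maximalIdeal OX ^ k := IsLocalization.lift (M := 𝔭'.primeCompl) hunits
  have hlam : ∀ z : A', lam (algebraMap A' OU z) =
      AdicCompletion.evalₐ (maximalIdeal OX) k (ψ z) := fun z => IsLocalization.lift_eq hunits z
  have hlame : lam.comp e' = Ideal.Quotient.mk (maximalIdeal OX ^ k) := by
    apply IsLocalization.ringHom_ext 𝔭.primeCompl
    ext a
    simp only [RingHom.comp_apply]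
    rw [he', hlam, hψA]
    exact AdicCompletion.evalₐ_of _ k _
  have hlamm : (maximalIdeal OU).map lam ≤
      (maximalIdeal OX).map (Ideal.Quotient.mk (maximalIdeal OX ^ k)) := by
    rw [← IsLocalization.AtPrime.map_eq_maximalIdeal 𝔭' OU, Ideal.map_map,
      Ideal.map_le_iff_le_comap]
    intro z hz
    rw [Ideal.mem_comap, RingHom.comp_apply, hlam]
    have h1 := hψ𝔭' z hz
    have h2 : (maximalIdeal OX).map (algebraMap OX (AdicCompletion (maximalIdeal OX) OX)) ≤
        ((maximalIdeal OX).map (Ideal.Quotient.mk (maximalIdeal OX ^ k))).comap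
          (AdicCompletion.evalₐ (maximalIdeal OX) k).toRingHom := by
      rw [Ideal.map_le_iff_le_comap]
      intro x hx
      rw [Ideal.mem_comap, Ideal.mem_comap]
      change AdicCompletion.evalₐ (maximalIdeal OX) k
        (algebraMap OX (AdicCompletion (maximalIdeal OX) OX) x) ∈ _
      have : AdicCompletion.evalₐ (maximalIdeal OX) k
          (algebraMap OX (AdicCompletion (maximalIdeal OX) OX) x) = Ideal.Quotient.mk _ x :=
        AdicCompletion.evalₐ_of _ k _
      rw [this]
      exact Ideal.mem_map_of_mem _ hx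
    exact h2 h1
  have hpow : (maximalIdeal OU ^ k).map lam ≤ ⊥ := by
    rw [Ideal.map_pow]
    refine (Ideal.pow_right_mono hlamm k).trans ?_
    rw [← Ideal.map_pow]
    exact le_of_eq (Ideal.map_quotient_self _)
  have h3 : lam (e' c) = 0 := by
    have := hpow (Ideal.mem_map_of_mem lam hc)
    simpa using this
  have h4 : Ideal.Quotient.mk (maximalIdeal OX ^ k) c = 0 := by
    rw [← hlame]
    exact h3
  exact Ideal.Quotient.eq_zero_iff_mem.mp h4

end levels

open IsLocalRing in
/-- The level-`k` comparison of `f'` with `e' ∘ φ`. -/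
theorem final_clause {A C : Type u} [CommRing A] [CommRing C] (𝔭 : Ideal A) [𝔭.IsPrime]
    (𝔮 : Ideal C) [𝔮.IsPrime]
    (OX : Type u) [CommRing OX] [IsLocalRing OX] [Algebra A OX] [IsLocalization.AtPrime OX 𝔭]
    (OY : Type u) [CommRing OY] [IsLocalRing OY] [Algebra C OY] [IsLocalization.AtPrime OY 𝔮]
    (φ : OY →+* AdicCompletion (maximalIdeal OX) OX)
    (A' : Type u) [CommRing A'] [Algebra A A'] [Algebra.FormallyUnramified A A']
    (ψ : A' →+* AdicCompletion (maximalIdeal OX) OX) (𝔭' : Ideal A') [h𝔭' : 𝔭'.IsPrime]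
    (τ : C →+* A')
    (hψA : ∀ a : A, ψ (algebraMap A A' a) =
      algebraMap OX (AdicCompletion (maximalIdeal OX) OX) (algebraMap A OX a))
    (hcomap : 𝔭'.comap (algebraMap A A') = 𝔭)
    (htriv : ∀ x : A', ∃ r s : A, s ∉ 𝔭 ∧ algebraMap A A' s * x - algebraMap A A' r ∈ 𝔭')
    (hψ𝔭' : ∀ z ∈ 𝔭', ψ z ∈ (maximalIdeal OX).map
      (algebraMap OX (AdicCompletion (maximalIdeal OX) OX)))
    (k : ℕ)
    (hcong : ∀ c : C, AdicCompletion.evalₐ (maximalIdeal OX) k (ψ (τ c)) =
      AdicCompletion.evalₐ (maximalIdeal OX) k (φ (algebraMap C OY c)))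
    (OU : Type u) [CommRing OU] [IsLocalRing OU] [Algebra A' OU] [IsLocalization.AtPrime OU 𝔭']
    (e' : OX →+* OU) (f' : OY →+* OU)
    (he' : ∀ a, e' (algebraMap A OX a) = algebraMap A' OU (algebraMap A A' a))
    (hf' : ∀ c, f' (algebraMap C OY c) = algebraMap A' OU (τ c))
    (b₀ : OY) (c₀ : OX)
    (hbc : AdicCompletion.evalₐ (maximalIdeal OX) k (φ b₀) = Ideal.Quotient.mk _ c₀) :
    Ideal.Quotient.mk (maximalIdeal OU ^ k) (f' b₀) =
      Ideal.Quotient.mk (maximalIdeal OU ^ k) (e' c₀) := by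
  have he'm := map_maximalIdeal_le 𝔭 OX A' 𝔭' hcomap OU e' he'
  have he'k : ∀ x ∈ maximalIdeal OX ^ k, e' x ∈ maximalIdeal OU ^ k := by
    intro x hx
    have : (maximalIdeal OX ^ k).map e' ≤ maximalIdeal OU ^ k := by
      rw [Ideal.map_pow]
      exact Ideal.pow_right_mono he'm k
    exact this (Ideal.mem_map_of_mem _ hx)
  let ebar : OX ⧸ maximalIdeal OX ^ k →+* OU ⧸ maximalIdeal OU ^ k :=
    Ideal.Quotient.lift _ ((Ideal.Quotient.mk _).comp e') (fun x hx => by
      rw [RingHom.comp_apply, Ideal.Quotient.eq_zero_iff_mem]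
      exact he'k x hx)
  have hebar : ∀ x : OX, ebar (Ideal.Quotient.mk _ x) = Ideal.Quotient.mk _ (e' x) := fun x => rfl
  have hIII : (Ideal.Quotient.mk (maximalIdeal OU ^ k)).comp f' =
      (ebar.comp (AdicCompletion.evalₐ (maximalIdeal OX) k).toRingHom).comp φ := by
    apply IsLocalization.ringHom_ext 𝔮.primeCompl
    ext c
    simp only [RingHom.comp_apply]
    rw [hf']
    obtain ⟨c₁, hc₁⟩ := Ideal.Quotient.mk_surjective
      (AdicCompletion.evalₐ (maximalIdeal OX) k (ψ (τ c)))
    rw [level_compare 𝔭 OX A' ψ 𝔭' hψA hcomap htriv hψ𝔭' OU e' he' k (τ c) c₁ hc₁.symm]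
    change _ = ebar (AdicCompletion.evalₐ (maximalIdeal OX) k (φ (algebraMap C OY c)))
    rw [← hcong, ← hc₁, hebar]
  have h6 := DFunLike.congr_fun hIII b₀
  simp only [RingHom.comp_apply] at h6
  rw [h6]
  change ebar (AdicCompletion.evalₐ (maximalIdeal OX) k (φ b₀)) = _
  rw [hbc, hebar]

end Groth.Agent.Lib.Helper8.AA12
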