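import Mathlib

set_option backward.isDefEq.respectTransparency.types false
set_option autoImplicit false
set_option linter.unusedSectionVars false
set_option linter.style.haveILetI false

namespace Groth.Agent.Lib.Helper8.AA14

universe u

open IsLocalRing TensorProduct

/-- The fibre of a local homomorphism with `m_R S = m_S` and trivial residue extension is
trivial. -/
theorem formallySmooth_fiber {R S : Type u} [CommRing R] [CommRing S] [IsLocalRing R]
    [IsLocalRing S] [Algebra R S] [Module.Flat R S]
    (hm : (maximalIdeal R).map (algebraMap R S) = maximalIdeal S)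
    (hres : ∀ s : S, ∃ r : R, s - algebraMap R S r ∈ maximalIdeal S) :
    Algebra.FormallySmooth (ResidueField R) (ResidueField R ⊗[R] S) := by
  haveI : IsLocalHom (algebraMap R S) :=
    ((IsLocalRing.local_hom_TFAE (algebraMap R S)).out 0 2 rfl rfl).mpr (le_of_eq hm)
  haveI : Module.FaithfullyFlat R S := Module.FaithfullyFlat.of_flat_of_isLocalHom
  haveI : Nontrivial (ResidueField R ⊗[R] S) :=
    Module.FaithfullyFlat.rTensor_nontrivial R S (ResidueField R)
  have hzero : ∀ w ∈ (maximalIdeal R).map (algebraMap R S), ∀ k : ResidueField R,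
      k ⊗ₜ[R] w = (0 : ResidueField R ⊗[R] S) := by
    intro w hw
    induction hw using Submodule.span_induction with
    | mem w hw =>
      obtain ⟨m, hm', rfl⟩ := hw
      intro k
      rw [Algebra.algebraMap_eq_smul_one, ← TensorProduct.smul_tmul]
      have : m • k = 0 := by
        rw [Algebra.smul_def]
        have : algebraMap R (ResidueField R) m = 0 := by
          change residue R m = 0
          rwa [residue_eq_zero_iff]
        rw [this, zero_mul]
      rw [this, zero_tmul]
    | zero => intro k; exact tmul_zero _ _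
    | add w₁ w₂ _ _ h₁ h₂ => intro k; rw [tmul_add, h₁, h₂, add_zero]
    | smul c w _ h =>
      intro k
      have := congrArg (LinearMap.lTensor (ResidueField R) (LinearMap.mulLeft R c)) (h k)
      simpa using this
  have hsurj : Function.Surjective (algebraMap (ResidueField R) (ResidueField R ⊗[R] S)) := by
    intro t
    induction t using TensorProduct.induction_on with
    | zero => exact ⟨0, map_zero _⟩
    | tmul k s =>
      obtain ⟨r, hr⟩ := hres s
      refine ⟨r • k, ?_⟩
      have h2 : k ⊗ₜ[R] s = (r • k) ⊗ₜ[R] (1 : S) := by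
        have h1 : s = algebraMap R S r + (s - algebraMap R S r) := by ring
        conv_lhs => rw [h1]
        rw [tmul_add, hzero (s - algebraMap R S r) (by rw [hm]; exact hr) k, add_zero,
          Algebra.algebraMap_eq_smul_one, ← TensorProduct.smul_tmul]
      rw [h2]
      rfl
    | add t₁ t₂ h₁ h₂ =>
      obtain ⟨a, rfl⟩ := h₁
      obtain ⟨b, rfl⟩ := h₂
      exact ⟨a + b, map_add _ _ _⟩
  have hinj : Function.Injective (algebraMap (ResidueField R) (ResidueField R ⊗[R] S)) :=
    (algebraMap (ResidueField R) (ResidueField R ⊗[R] S)).injective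
  exact Algebra.FormallySmooth.of_equiv
    (AlgEquiv.ofBijective (Algebra.ofId (ResidueField R) (ResidueField R ⊗[R] S)) ⟨hinj, hsurj⟩)

open Algebra in
/-- Flat, `m_Y O_U = m_U`, trivial residue field extension: étale at the prime. -/
theorem formallyEtale_of_flat {C A' : Type u} [CommRing C] [CommRing A'] [Algebra C A']
    [Algebra.FinitePresentation C A']
    (𝔮 : Ideal C) [𝔮.IsPrime] (𝔭' : Ideal A') [𝔭'.IsPrime] [𝔭'.LiesOver 𝔮]
    (OY : Type u) [CommRing OY] [IsLocalRing OY] [Algebra C OY] [IsLocalization.AtPrime OY 𝔮]
    (OU : Type u) [CommRing OU] [IsLocalRing OU] [Algebra A' OU] [IsLocalization.AtPrime OU 𝔭']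
    [Algebra C OU] [IsScalarTower C A' OU]
    [Algebra OY OU] [IsScalarTower C OY OU] [Module.Flat OY OU]
    (hm : (maximalIdeal OY).map (algebraMap OY OU) = maximalIdeal OU)
    (hres : ∀ s : OU, ∃ r : OY, s - algebraMap OY OU r ∈ maximalIdeal OU) :
    Algebra.FormallyEtale C OU := by
  haveI : IsLocalHom (algebraMap OY OU) :=
    ((IsLocalRing.local_hom_TFAE (algebraMap OY OU)).out 0 2 rfl rfl).mpr (le_of_eq hm)
  haveI := formallySmooth_fiber hm hres
  let Sp := Localization (algebraMapSubmonoid A' 𝔮.primeCompl)
  letI algOYSp : Algebra OY Sp :=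
    (IsLocalization.map (S := OY) Sp (algebraMap C A') (M := 𝔮.primeCompl)
      (T := algebraMapSubmonoid A' 𝔮.primeCompl) (Submonoid.le_comap_map _)).toAlgebra
  haveI : IsScalarTower C OY Sp := .of_algebraMap_eq (fun x => by
    change _ = IsLocalization.map (S := OY) Sp (algebraMap C A') (M := 𝔮.primeCompl)
      (T := algebraMapSubmonoid A' 𝔮.primeCompl) (Submonoid.le_comap_map _) (algebraMap C OY x)
    rw [IsLocalization.map_eq]
    exact IsScalarTower.algebraMap_apply C A' Sp x)
  let f : Sp →ₐ[A'] OU := IsLocalization.liftAlgHom (M := algebraMapSubmonoid A' 𝔮.primeCompl)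
        (f := Algebra.ofId _ _) (by
      rintro ⟨_, x, hx, rfl⟩
      have hx' : algebraMap C A' x ∈ 𝔭'.primeCompl := by
        intro h
        apply hx
        rw [𝔭'.over_def 𝔮]
        exact h
      exact IsLocalization.map_units (M := 𝔭'.primeCompl) OU ⟨algebraMap C A' x, hx'⟩)
  algebraize [f.toRingHom]
  have : IsScalarTower C Sp OU := .to₁₃₄ _ A' _ _
  have : IsScalarTower OY Sp OU := .of_algebraMap_eq' <| by
    apply IsLocalization.ringHom_ext 𝔮.primeCompl
    simp only [RingHom.comp_assoc, ← IsScalarTower.algebraMap_eq]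
  have : IsLocalization (algebraMapSubmonoid Sp 𝔭'.primeCompl) OU :=
    .isLocalization_of_submonoid_le _ _ (algebraMapSubmonoid A' 𝔮.primeCompl) _
    (by rintro _ ⟨x, hx, rfl⟩; simp_all [𝔭'.over_def 𝔮])
  have : FinitePresentation OY Sp := by
    have : Algebra.IsPushout C OY A' Sp :=
      .symm <| Algebra.isPushout_of_isLocalization 𝔮.primeCompl _ _ _
    exact .equiv (Algebra.IsPushout.equiv C OY A' Sp)
  have hsm : FormallySmooth OY OU := FormallySmooth.of_formallySmooth_residueField_tensor
    (R := OY) (S := OU) (P := Sp) (algebraMapSubmonoid _ 𝔭'.primeCompl)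
  -- unramified
  haveI : EssFiniteType A' OU := EssFiniteType.of_isLocalization OU 𝔭'.primeCompl
  haveI : EssFiniteType C OU := EssFiniteType.comp C A' OU
  haveI : EssFiniteType OY OU := EssFiniteType.of_comp C OY OU
  haveI : Algebra.IsSeparable (ResidueField OY) (ResidueField OU) := by
    refine ⟨fun x => ?_⟩
    obtain ⟨s, rfl⟩ := residue_surjective x
    obtain ⟨r, hr⟩ := hres s
    have : residue OU s = algebraMap (ResidueField OY) (ResidueField OU) (residue OY r) := by
      change _ = residue OU (algebraMap OY OU r)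
      rw [← sub_eq_zero, ← map_sub, residue_eq_zero_iff]
      exact hr
    rw [this]
    exact isSeparable_algebraMap _
  have hun : FormallyUnramified OY OU := FormallyUnramified.of_map_maximalIdeal hm
  haveI : FormallyEtale OY OU := FormallyEtale.of_formallyUnramified_and_formallySmooth
  haveI : FormallyEtale C OY := FormallyEtale.of_isLocalization 𝔮.primeCompl
  exact FormallyEtale.comp C OY OU

end Groth.Agent.Lib.Helper8.AA14
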