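import Mathlib
import Groth.Prelude.Def_Smoothing
import Groth.Agent.Lib.Helper8.AA12
import Groth.Agent.Lib.Helper8.AA13
import Groth.Agent.Lib.Helper8.AA14
import Groth.Agent.Lib.Helper13.CompletedLocal

set_option backward.isDefEq.respectTransparency.types false
set_option autoImplicit false
set_option linter.unusedSectionVars false
set_option linter.style.haveILetI false

namespace Groth.Agent.Lib.Helper8.AA15

universe u

open IsLocalRing Groth.Agent.Lib.Helper8

/-- Triviality of the residue field extension passes to a principal localization. -/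
theorem trivres_localize {B A' : Type u} [CommRing B] [CommRing A'] (σ : B →+* A')
    (𝔭' : Ideal A') [h𝔭' : 𝔭'.IsPrime] (g : A') (hg : g ∉ 𝔭')
    (htriv : ∀ x : A', ∃ r s : B, σ s ∉ 𝔭' ∧ σ s * x - σ r ∈ 𝔭')
    (x : Localization.Away g) :
    ∃ r s : B, σ s ∉ 𝔭' ∧
      algebraMap A' (Localization.Away g) (σ s) * x - algebraMap A' (Localization.Away g) (σ r) ∈
        𝔭'.map (algebraMap A' (Localization.Away g)) := by
  obtain ⟨x₀, ⟨s₀, hs₀⟩, rfl⟩ := IsLocalization.exists_mk'_eq (Submonoid.powers g) x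
  have hs₀' : s₀ ∉ 𝔭' := by
    obtain ⟨n, rfl⟩ := hs₀
    exact fun h => hg (h𝔭'.mem_of_pow_mem n h)
  obtain ⟨r, s, hs, hrs⟩ := htriv x₀
  obtain ⟨r', s', hs', hrs'⟩ := htriv s₀
  have hr' : σ r' ∉ 𝔭' := by
    intro h
    have h1 : σ s' * s₀ ∈ 𝔭' := by
      have := Ideal.add_mem _ hrs' h
      rwa [sub_add_cancel] at this
    rcases h𝔭'.mem_or_mem h1 with h2 | h2
    · exact hs' h2
    · exact hs₀' h2
  refine ⟨s' * r, r' * s, ?_, ?_⟩
  · rw [map_mul]
    intro h
    rcases h𝔭'.mem_or_mem h with h2 | h2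
    · exact hr' h2
    · exact hs h2
  · have hu : IsUnit (algebraMap A' (Localization.Away g) s₀) :=
      IsLocalization.map_units (Localization.Away g) (⟨s₀, hs₀⟩ : Submonoid.powers g)
    rw [← Ideal.mul_unit_mem_iff_mem _ hu]
    have h3 : σ (r' * s) * x₀ - σ (s' * r) * s₀ ∈ 𝔭' := by
      have h4 : σ (r' * s) * x₀ - σ (s' * r) * s₀ =
          σ r' * (σ s * x₀ - σ r) - σ r * (σ s' * s₀ - σ r') := by
        rw [map_mul, map_mul]
        ring
      rw [h4]
      exact Ideal.sub_mem _ (Ideal.mul_mem_left _ _ hrs) (Ideal.mul_mem_left _ _ hrs')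
    have h5 : (algebraMap A' (Localization.Away g) (σ (r' * s)) *
        IsLocalization.mk' (Localization.Away g) x₀ (⟨s₀, hs₀⟩ : Submonoid.powers g) -
        algebraMap A' (Localization.Away g) (σ (s' * r))) *
        algebraMap A' (Localization.Away g) s₀ =
        algebraMap A' (Localization.Away g) (σ (r' * s) * x₀ - σ (s' * r) * s₀) := by
      rw [sub_mul, mul_assoc]
      have := IsLocalization.mk'_spec (Localization.Away g) x₀ (⟨s₀, hs₀⟩ : Submonoid.powers g)
      simp only at this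
      rw [this]
      simp only [map_sub, map_mul]
    rw [h5]
    exact Ideal.mem_map_of_mem _ h3

/-- The data produced by `AA12.core7202`. -/
structure Pkg {R A C : Type u} [CommRing R] [CommRing A] [CommRing C] [Algebra R A] [Algebra R C]
    (𝔭 : Ideal A) (𝔮 : Ideal C)
    (OX : Type u) [CommRing OX] [IsLocalRing OX] [Algebra A OX]
    (OY : Type u) [CommRing OY] [Algebra C OY]
    (φ : OY →+* AdicCompletion (maximalIdeal OX) OX) (N : ℕ)
    (A' : Type u) [CommRing A'] [Algebra A A']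
    (ψ : A' →+* AdicCompletion (maximalIdeal OX) OX) (𝔭' : Ideal A') (τ : C →+* A') : Prop where
  hψA : ∀ a : A, ψ (algebraMap A A' a) =
      algebraMap OX (AdicCompletion (maximalIdeal OX) OX) (algebraMap A OX a)
  hcomap : 𝔭'.comap (algebraMap A A') = 𝔭
  htriv : ∀ x : A', ∃ r s : A, s ∉ 𝔭 ∧ algebraMap A A' s * x - algebraMap A A' r ∈ 𝔭'
  hψ𝔭' : ∀ z ∈ 𝔭', ψ z ∈ (maximalIdeal OX).map
      (algebraMap OX (AdicCompletion (maximalIdeal OX) OX))
  hψinv : ∀ z : A', ψ z ∈ (maximalIdeal OX).map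
      (algebraMap OX (AdicCompletion (maximalIdeal OX) OX)) → z ∈ 𝔭'
  hτR : ∀ r : R, τ (algebraMap R C r) = algebraMap A A' (algebraMap R A r)
  hcomapτ : 𝔭'.comap τ = 𝔮
  hcong : ∀ c : C, AdicCompletion.evalₐ (maximalIdeal OX) N (ψ (τ c)) =
      AdicCompletion.evalₐ (maximalIdeal OX) N (φ (algebraMap C OY c))

section localize

variable {R A C : Type u} [CommRing R] [CommRing A] [CommRing C] [Algebra R A] [Algebra R C]
    {𝔭 : Ideal A} {𝔮 : Ideal C}
    {OX : Type u} [CommRing OX] [IsLocalRing OX] [IsNoetherianRing OX] [Algebra A OX]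
    {OY : Type u} [CommRing OY] [Algebra C OY]
    {φ : OY →+* AdicCompletion (maximalIdeal OX) OX} {N : ℕ}
    {A' : Type u} [CommRing A'] [Algebra A A']
    {ψ : A' →+* AdicCompletion (maximalIdeal OX) OX} {𝔭' : Ideal A'} [h𝔭' : 𝔭'.IsPrime]
    {τ : C →+* A'}

theorem Pkg.isUnit_pow (P : Pkg (R := R) 𝔭 𝔮 OX OY φ N A' ψ 𝔭' τ) (g : A') (hg : g ∉ 𝔭')
    (y : Submonoid.powers g) : IsUnit (ψ y) := by
  apply AA12.isUnit_psi OX A' ψ 𝔭' P.hψinv
  obtain ⟨y, n, rfl⟩ := y
  exact fun h => hg (h𝔭'.mem_of_pow_mem n h)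

theorem Pkg.localize (P : Pkg (R := R) 𝔭 𝔮 OX OY φ N A' ψ 𝔭' τ) (g : A') (hg : g ∉ 𝔭') :
    (𝔭'.map (algebraMap A' (Localization.Away g))).IsPrime ∧
    (𝔭'.map (algebraMap A' (Localization.Away g))).comap (algebraMap A' (Localization.Away g)) =
      𝔭' ∧
    Pkg (R := R) 𝔭 𝔮 OX OY φ N (Localization.Away g)
      (IsLocalization.lift (M := Submonoid.powers g) (S := Localization.Away g)
        (P.isUnit_pow g hg))
      (𝔭'.map (algebraMap A' (Localization.Away g)))
      ((algebraMap A' (Localization.Away g)).comp τ) := by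
  have hdisj : Disjoint (Submonoid.powers g : Set A') (𝔭' : Set A') :=
    (Ideal.disjoint_powers_iff_notMem _ h𝔭'.isRadical).mpr hg
  have hprime := IsLocalization.isPrime_of_isPrime_disjoint (Submonoid.powers g)
    (Localization.Away g) 𝔭' h𝔭' hdisj
  have hcm : (𝔭'.map (algebraMap A' (Localization.Away g))).comap
      (algebraMap A' (Localization.Away g)) = 𝔭' :=
    IsLocalization.under_map_of_isPrime_disjoint (Submonoid.powers g)
      (Localization.Away g) h𝔭' hdisj
  have hlift : ∀ z : A', IsLocalization.lift (M := Submonoid.powers g) (S := Localization.Away g)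
      (P.isUnit_pow g hg) (algebraMap A' (Localization.Away g) z) = ψ z :=
    fun z => IsLocalization.lift_eq _ z
  refine ⟨hprime, hcm, ?_⟩
  refine ⟨?_, ?_, ?_, ?_, ?_, ?_, ?_, ?_⟩
  · intro a
    rw [IsScalarTower.algebraMap_apply A A' (Localization.Away g), hlift, P.hψA]
  · rw [IsScalarTower.algebraMap_eq A A' (Localization.Away g), ← Ideal.comap_comap, hcm, P.hcomap]
  · intro x
    have h1 : ∀ x : A', ∃ r s : A, algebraMap A A' s ∉ 𝔭' ∧
        algebraMap A A' s * x - algebraMap A A' r ∈ 𝔭' := by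
      intro x
      obtain ⟨r, s, hs, hrs⟩ := P.htriv x
      refine ⟨r, s, ?_, hrs⟩
      intro h
      apply hs
      rw [← P.hcomap]
      exact h
    obtain ⟨r, s, hs, hrs⟩ := trivres_localize (algebraMap A A') 𝔭' g hg h1 x
    refine ⟨r, s, ?_, ?_⟩
    · intro h
      apply hs
      rw [← P.hcomap] at h
      exact h
    · rw [IsScalarTower.algebraMap_apply A A' (Localization.Away g),
        IsScalarTower.algebraMap_apply A A' (Localization.Away g)]
      exact hrs
  · intro z hz
    obtain ⟨⟨x, s⟩, hxs⟩ := (IsLocalization.mem_map_algebraMap_iff (Submonoid.powers g)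
      (Localization.Away g)).mp hz
    have h1 := congrArg (IsLocalization.lift (M := Submonoid.powers g)
      (S := Localization.Away g) (P.isUnit_pow g hg)) hxs
    rw [map_mul, hlift, hlift] at h1
    have h2 := P.hψ𝔭' x.1 x.2
    rw [← h1] at h2
    exact (Ideal.mul_unit_mem_iff_mem _ (P.isUnit_pow g hg s)).mp h2
  · intro z hz
    obtain ⟨x, s, rfl⟩ := IsLocalization.exists_mk'_eq (Submonoid.powers g) z
    have h1 := congrArg (IsLocalization.lift (M := Submonoid.powers g)
      (S := Localization.Away g) (P.isUnit_pow g hg))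
      (IsLocalization.mk'_spec (Localization.Away g) x s)
    rw [map_mul, hlift, hlift] at h1
    have h2 : ψ x ∈ (maximalIdeal OX).map
        (algebraMap OX (AdicCompletion (maximalIdeal OX) OX)) := by
      rw [← h1]
      exact Ideal.mul_mem_right _ _ hz
    have h3 := P.hψinv x h2
    rw [IsLocalization.mem_map_algebraMap_iff (Submonoid.powers g) (Localization.Away g)]
    exact ⟨(⟨x, h3⟩, s), IsLocalization.mk'_spec (Localization.Away g) x s⟩
  · intro r
    rw [RingHom.comp_apply, P.hτR, ← IsScalarTower.algebraMap_apply A A' (Localization.Away g)]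
  · rw [← Ideal.comap_comap, hcm, P.hcomapτ]
  · intro c
    rw [RingHom.comp_apply, hlift]
    exact P.hcong c

end localize

open IsLocalRing in
/-- Algebraic core of S7203. -/
theorem alg7203 {R A C : Type u} [CommRing R] [CommRing A] [CommRing C] [IsNoetherianRing R]
    [Algebra R A] [Algebra R C] [Algebra.FiniteType R A] [Algebra.FiniteType R C]
    (𝔭 : Ideal A) [𝔭.IsPrime] (𝔮 : Ideal C) [𝔮.IsPrime]
    (OX : Type u) [CommRing OX] [IsLocalRing OX] [Algebra A OX] [IsLocalization.AtPrime OX 𝔭]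
    (OY : Type u) [CommRing OY] [IsLocalRing OY] [Algebra C OY] [IsLocalization.AtPrime OY 𝔮]
    (hG : CAlg.IsGRing OX)
    (φ : AdicCompletion (maximalIdeal OY) OY ≃+* AdicCompletion (maximalIdeal OX) OX)
    (hφ : ∀ r : R, φ (algebraMap OY (AdicCompletion (maximalIdeal OY) OY)
        (algebraMap C OY (algebraMap R C r))) =
      algebraMap OX (AdicCompletion (maximalIdeal OX) OX) (algebraMap A OX (algebraMap R A r)))
    (N : ℕ) (hN : 1 ≤ N) :
    ∃ (A' : Type u) (_ : CommRing A') (_ : Algebra A A'), Algebra.Etale A A' ∧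
      ∃ (𝔭' : Ideal A') (_ : 𝔭'.IsPrime) (τ : C →+* A'),
        𝔭'.comap (algebraMap A A') = 𝔭 ∧
        (∀ x : A', ∃ r s : A, s ∉ 𝔭 ∧ algebraMap A A' s * x - algebraMap A A' r ∈ 𝔭') ∧
        (∀ r : R, τ (algebraMap R C r) = algebraMap A A' (algebraMap R A r)) ∧
        𝔭'.comap τ = 𝔮 ∧ τ.Etale ∧
        (∀ x : A', ∃ r s : C, τ s ∉ 𝔭' ∧ τ s * x - τ r ∈ 𝔭') ∧
        ∀ (OU : Type u) [CommRing OU] [IsLocalRing OU] [Algebra A' OU]
          [IsLocalization.AtPrime OU 𝔭']
          (e' : OX →+* OU) (f' : OY →+* OU)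
          (_ : ∀ a, e' (algebraMap A OX a) = algebraMap A' OU (algebraMap A A' a))
          (_ : ∀ c, f' (algebraMap C OY c) = algebraMap A' OU (τ c))
          (b : AdicCompletion (maximalIdeal OY) OY) (cY : OY) (cX : OX),
          AdicCompletion.evalₐ (maximalIdeal OY) N b = Ideal.Quotient.mk _ cY →
          AdicCompletion.evalₐ (maximalIdeal OX) N (φ b) = Ideal.Quotient.mk _ cX →
          Ideal.Quotient.mk (maximalIdeal OU ^ N) (f' cY) =
            Ideal.Quotient.mk (maximalIdeal OU ^ N) (e' cX) := by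
  classical
  haveI hOXn : IsNoetherianRing OX := hG.1
  haveI hAn : IsNoetherianRing A := Algebra.FiniteType.isNoetherianRing R A
  haveI hCn : IsNoetherianRing C := Algebra.FiniteType.isNoetherianRing R C
  haveI hOYn : IsNoetherianRing OY := IsLocalization.isNoetherianRing 𝔮.primeCompl OY hCn
  -- the map `φ₀`
  let φ₀ : OY →+* AdicCompletion (maximalIdeal OX) OX :=
    φ.toRingHom.comp (algebraMap OY (AdicCompletion (maximalIdeal OY) OY))
  have hφ₀ : ∀ y : OY, φ₀ y = φ (algebraMap OY (AdicCompletion (maximalIdeal OY) OY) y) :=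
    fun y => rfl
  have hloc₀ : ∀ b ∈ maximalIdeal OY, φ₀ b ∈ (maximalIdeal OX).map
      (algebraMap OX (AdicCompletion (maximalIdeal OX) OX)) := by
    intro b hb
    have h1 := AA13.equiv_mem OX OY φ 1 (algebraMap OY (AdicCompletion (maximalIdeal OY) OY) b)
      (Ideal.mem_map_of_mem _ (by simpa using hb))
    rw [pow_one] at h1
    exact h1
  obtain ⟨A', _, _, het, ψ, 𝔭', h𝔭', τ, hψA, hcomap, htriv, hψ𝔭', hψinv, hτR, hcomapτ, hcong⟩ :=
    AA12.core7202 (R := R) 𝔭 𝔮 OX OY hG φ₀ hφ hloc₀ (N + 1) (by omega)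
  haveI := h𝔭'
  have P : Pkg (R := R) 𝔭 𝔮 OX OY φ₀ (N + 1) A' ψ 𝔭' τ :=
    ⟨hψA, hcomap, htriv, hψ𝔭', hψinv, hτR, hcomapτ, hcong⟩
  -- `A'` is finitely presented over `C`
  letI algCA' : Algebra C A' := τ.toAlgebra
  letI algRA' : Algebra R A' := ((algebraMap A A').comp (algebraMap R A)).toAlgebra
  haveI : IsScalarTower R A A' := .of_algebraMap_eq (fun _ => rfl)
  haveI : IsScalarTower R C A' := .of_algebraMap_eq (fun r => (hτR r).symm)
  haveI : Algebra.FiniteType R A' := Algebra.FiniteType.trans (S := A) inferInstance inferInstance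
  haveI : Algebra.FiniteType C A' := Algebra.FiniteType.of_restrictScalars_finiteType R C A'
  haveI : Algebra.FinitePresentation C A' := Algebra.FinitePresentation.of_finiteType.mp inferInstance
  haveI : 𝔭'.LiesOver 𝔮 := ⟨hcomapτ.symm⟩
  -- the local ring at `𝔭'`
  have hle𝔭 : 𝔭.primeCompl ≤ 𝔭'.primeCompl.comap (algebraMap A A') := by
    intro a ha
    rw [Submonoid.mem_comap]
    intro h
    apply ha
    rw [← hcomap]
    exact h
  have hle𝔮 : 𝔮.primeCompl ≤ 𝔭'.primeCompl.comap τ := by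
    intro a ha
    rw [Submonoid.mem_comap]
    intro h
    apply ha
    rw [← hcomapτ]
    exact h
  let e'₀ : OX →+* Localization.AtPrime 𝔭' :=
    IsLocalization.map (Localization.AtPrime 𝔭') (algebraMap A A') hle𝔭
  let f'₀ : OY →+* Localization.AtPrime 𝔭' :=
    IsLocalization.map (Localization.AtPrime 𝔭') τ hle𝔮
  have he'₀ : ∀ a, e'₀ (algebraMap A OX a) =
      algebraMap A' (Localization.AtPrime 𝔭') (algebraMap A A' a) :=
    fun a => IsLocalization.map_eq hle𝔭 a
  have hf'₀ : ∀ c, f'₀ (algebraMap C OY c) = algebraMap A' (Localization.AtPrime 𝔭') (τ c) :=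
    fun c => IsLocalization.map_eq hle𝔮 c
  haveI : IsNoetherianRing A' := Algebra.FiniteType.isNoetherianRing R A'
  haveI : IsNoetherianRing (Localization.AtPrime 𝔭') :=
    IsLocalization.isNoetherianRing 𝔭'.primeCompl _ inferInstance
  have he'loc := AA12.map_maximalIdeal_le 𝔭 OX A' 𝔭' hcomap (Localization.AtPrime 𝔭') e'₀ he'₀
  have X1 := AA12.etale_levels_surj 𝔭 OX A' ψ 𝔭' hψA hcomap htriv hψ𝔭' hψinv
    (Localization.AtPrime 𝔭') e'₀ he'₀
  have X2 := AA12.etale_levels_inj 𝔭 OX A' ψ 𝔭' hψA hcomap hψ𝔭' hψinv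
    (Localization.AtPrime 𝔭') e'₀ he'₀
  have H : ∀ (y : OY) (c : OX),
      AdicCompletion.evalₐ (maximalIdeal OX) (N + 1)
        (φ (algebraMap OY (AdicCompletion (maximalIdeal OY) OY) y)) = Ideal.Quotient.mk _ c →
      Ideal.Quotient.mk (maximalIdeal (Localization.AtPrime 𝔭') ^ (N + 1)) (f'₀ y) =
        Ideal.Quotient.mk (maximalIdeal (Localization.AtPrime 𝔭') ^ (N + 1)) (e'₀ c) := by
    intro y c hyc
    exact AA12.final_clause 𝔭 𝔮 OX OY φ₀ A' ψ 𝔭' τ hψA hcomap htriv hψ𝔭' (N + 1) hcong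
      (Localization.AtPrime 𝔭') e'₀ f'₀ he'₀ hf'₀ y c hyc
  obtain ⟨hmY, Y1, Y2⟩ := AA13.completed_of_cong OX OY (Localization.AtPrime 𝔭') φ e'₀ he'loc
    X1 X2 f'₀ (N + 1) (by omega) H
  -- flatness of `O_Y → O_U`
  letI algYU : Algebra OY (Localization.AtPrime 𝔭') := f'₀.toAlgebra
  haveI hlocf : IsLocalHom (algebraMap OY (Localization.AtPrime 𝔭')) :=
    ((IsLocalRing.local_hom_TFAE (algebraMap OY (Localization.AtPrime 𝔭'))).out 0 2 rfl rfl).mpr
      (le_of_eq hmY)
  have hCB : Groth.Agent.Lib.Helper13.CompletedBijective OY (Localization.AtPrime 𝔭') := by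
    intro k
    constructor
    · intro z
      obtain ⟨s, rfl⟩ := Ideal.Quotient.mk_surjective z
      obtain ⟨r, hr⟩ := Y1 k s
      refine ⟨r, ?_⟩
      rw [RingHom.comp_apply, eq_comm, Ideal.Quotient.eq]
      exact hr
    · ext r
      rw [RingHom.mem_ker, RingHom.comp_apply, Ideal.Quotient.eq_zero_iff_mem]
      constructor
      · exact Y2 k r
      · intro hr
        have hle : (maximalIdeal OY ^ k).map f'₀ ≤ maximalIdeal (Localization.AtPrime 𝔭') ^ k := by
          rw [Ideal.map_pow]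
          exact Ideal.pow_right_mono (le_of_eq hmY) k
        exact hle (Ideal.mem_map_of_mem _ hr)
  haveI hflat : Module.Flat OY (Localization.AtPrime 𝔭') :=
    Groth.Agent.Lib.Helper13.flat_of_completedBijective hCB
  haveI : IsScalarTower C OY (Localization.AtPrime 𝔭') := .of_algebraMap_eq (fun c => by
    rw [IsScalarTower.algebraMap_apply C A' (Localization.AtPrime 𝔭')]
    exact (hf'₀ c).symm)
  have hres : ∀ s : Localization.AtPrime 𝔭', ∃ r : OY,
      s - algebraMap OY (Localization.AtPrime 𝔭') r ∈ maximalIdeal (Localization.AtPrime 𝔭') := by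
    intro s
    obtain ⟨r, hr⟩ := Y1 1 s
    rw [pow_one] at hr
    exact ⟨r, hr⟩
  haveI hEt : Algebra.IsEtaleAt C 𝔭' :=
    AA14.formallyEtale_of_flat 𝔮 𝔭' OY (Localization.AtPrime 𝔭') hmY hres
  obtain ⟨g, hg, hgEt⟩ := Algebra.exists_etale_of_isEtaleAt (R := C) 𝔭'
  obtain ⟨hprime, hcm, P''⟩ := P.localize g hg
  -- triviality of the residue field extension over `C`
  have htrivC : ∀ x : A', ∃ r s : C, τ s ∉ 𝔭' ∧ τ s * x - τ r ∈ 𝔭' := by
    intro x
    obtain ⟨y, hy⟩ := Y1 1 (algebraMap A' (Localization.AtPrime 𝔭') x)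
    rw [pow_one] at hy
    obtain ⟨r, s, rfl⟩ := IsLocalization.exists_mk'_eq 𝔮.primeCompl y
    refine ⟨r, s, ?_, ?_⟩
    · intro h
      have h' : (s : C) ∈ 𝔮 := by
        have h'' : (s : C) ∈ 𝔭'.comap τ := h
        rwa [hcomapτ] at h''
      exact s.2 h'
    · apply (IsLocalization.AtPrime.to_map_mem_maximal_iff (Localization.AtPrime 𝔭') 𝔭' _).mp
      have h1 : f'₀ (IsLocalization.mk' OY r s) *
          algebraMap A' (Localization.AtPrime 𝔭') (τ s) =
          algebraMap A' (Localization.AtPrime 𝔭') (τ r) := by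
        rw [← hf'₀, ← hf'₀, ← map_mul, IsLocalization.mk'_spec]
      have h2 : algebraMap A' (Localization.AtPrime 𝔭') (τ s * x - τ r) =
          algebraMap A' (Localization.AtPrime 𝔭') (τ s) *
            (algebraMap A' (Localization.AtPrime 𝔭') x - f'₀ (IsLocalization.mk' OY r s)) := by
        rw [map_sub, map_mul, ← h1]
        ring
      rw [h2]
      exact Ideal.mul_mem_left _ _ hy
  haveI hEtA'' : Algebra.Etale A (Localization.Away g) :=
    Algebra.Etale.comp A A' (Localization.Away g)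
  refine ⟨Localization.Away g, inferInstance, inferInstance, hEtA'',
    𝔭'.map (algebraMap A' (Localization.Away g)), hprime,
    (algebraMap A' (Localization.Away g)).comp τ, P''.hcomap, P''.htriv, P''.hτR, P''.hcomapτ,
    ?_, ?_, ?_⟩
  · have h1 : (algebraMap C (Localization.Away g)).Etale := RingHom.etale_algebraMap.mpr hgEt
    rw [IsScalarTower.algebraMap_eq C A' (Localization.Away g)] at h1
    exact h1
  · intro x
    obtain ⟨r, s, hs, hrs⟩ := trivres_localize τ 𝔭' g hg htrivC x
    refine ⟨r, s, ?_, hrs⟩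
    intro h
    apply hs
    rw [← hcm]
    exact h
  · intro OU _ _ _ _ e' f' he' hf' b cY cX hb hbX
    have hbY : b - algebraMap OY (AdicCompletion (maximalIdeal OY) OY) cY ∈
        (maximalIdeal OY ^ N).map (algebraMap OY (AdicCompletion (maximalIdeal OY) OY)) := by
      rw [← AA13.ker_evalₐ, RingHom.mem_ker]
      change AdicCompletion.evalₐ (maximalIdeal OY) N (b - _) = 0
      rw [map_sub, hb]
      have : AdicCompletion.evalₐ (maximalIdeal OY) N
          (algebraMap OY (AdicCompletion (maximalIdeal OY) OY) cY) = Ideal.Quotient.mk _ cY :=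
        AdicCompletion.evalₐ_of _ N cY
      rw [this, sub_self]
    have h1 : AdicCompletion.evalₐ (maximalIdeal OX) N (φ₀ cY) = Ideal.Quotient.mk _ cX := by
      have h2 := AA13.equiv_mem OX OY φ N _ hbY
      rw [map_sub] at h2
      have h3 := AA3.evalₐ_eq_zero_of_mem_map _ N _ h2
      rw [map_sub, sub_eq_zero] at h3
      rw [hφ₀, ← h3, hbX]
    have hcongN : ∀ c : C, AdicCompletion.evalₐ (maximalIdeal OX) N
        ((IsLocalization.lift (M := Submonoid.powers g) (S := Localization.Away g)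
          (P.isUnit_pow g hg)) (((algebraMap A' (Localization.Away g)).comp τ) c)) =
        AdicCompletion.evalₐ (maximalIdeal OX) N (φ₀ (algebraMap C OY c)) := by
      intro c
      have h4 := P''.hcong c
      rw [← sub_eq_zero, ← map_sub] at h4 ⊢
      have h5 := AA1.mem_map_pow_of_evalₐ_eq_zero _ (IsNoetherian.noetherian _) _ _ h4
      have h6 := Ideal.map_mono (f := algebraMap OX (AdicCompletion (maximalIdeal OX) OX))
        (Ideal.pow_le_pow_right (I := maximalIdeal OX) (show N ≤ N + 1 by omega)) h5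
      exact AA3.evalₐ_eq_zero_of_mem_map _ N _ h6
    haveI : Algebra.FormallyUnramified A (Localization.Away g) := inferInstance
    exact AA12.final_clause 𝔭 𝔮 OX OY φ₀ (Localization.Away g) _
      (𝔭'.map (algebraMap A' (Localization.Away g))) ((algebraMap A' (Localization.Away g)).comp τ)
      P''.hψA P''.hcomap P''.htriv P''.hψ𝔭' N hcongN OU e' f' he' hf' cY cX h1

end Groth.Agent.Lib.Helper8.AA15
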