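import Mathlib
import Groth.Prelude.Def_Smoothing
import Groth.Agent.Lib.Helper8.AA4

set_option backward.isDefEq.respectTransparency.types false
set_option autoImplicit false
set_option linter.unusedSectionVars false
set_option linter.style.haveILetI false

open Smoothing TensorProduct CategoryTheory CategoryTheory.Limits

namespace Groth.Agent.Lib.Helper8.AA5

universe u

/-- Artin approximation for functors, étale neighbourhood version. -/
theorem functor_etale (A : Type u) [CommRing A] [IsNoetherianRing A] (I : Ideal A)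
    (hreg : CAlg.IsRegularHom A (AdicCompletion I A))
    (F : Under (CommRingCat.of A) ⥤ Type u)
    (hF : ∀ (J : Type u) [SmallCategory J] [IsFiltered J], PreservesColimitsOfShape J F)
    (n : ℕ)
    (π : Under.mk (CommRingCat.ofHom (algebraMap A (AdicCompletion I A))) ⟶
      Under.mk (CommRingCat.ofHom (algebraMap A (A ⧸ I ^ n))))
    (hπ : π.right = CommRingCat.ofHom
      (AdicCompletion.evalₐ I n : AdicCompletion I A →ₐ[A] A ⧸ I ^ n).toRingHom)
    (ξ : F.obj (Under.mk (CommRingCat.ofHom (algebraMap A (AdicCompletion I A))))) :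
    ∃ (A' : Type u) (_ : CommRing A') (_ : Algebra A A') (_ : Algebra.Etale A A')
      (φ : Under.mk (CommRingCat.ofHom (algebraMap A A')) ⟶
        Under.mk (CommRingCat.ofHom (algebraMap A (A ⧸ I ^ n))))
      (ξ' : F.obj (Under.mk (CommRingCat.ofHom (algebraMap A A')))),
      F.map φ ξ' = F.map π ξ := by
  obtain ⟨Z, hZ, ι, x, hx⟩ := AA4.exists_fp_stage A _ F hF ξ
  letI := Z.hom.hom.toAlgebra
  haveI : Algebra.FinitePresentation A Z.right := hZ
  let g : Z.right →ₐ[A] AdicCompletion I A :=
    { toRingHom := ι.right.hom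
      commutes' := fun a => by
        have := congrArg (fun φ => φ.hom a) (Under.w ι)
        exact this }
  haveI : IsNoetherianRing (AdicCompletion I A) :=
    Groth.Agent.Lib.Helper21.isNoetherianRing_adicCompletion_of_fg I (IsNoetherian.noetherian I)
  obtain ⟨B, _, _, hsm, u, h, huh⟩ := PO5.popescu A (AdicCompletion I A) hreg Z.right inferInstance g
  haveI := hsm
  let σ : B →ₐ[A] A ⧸ I ^ n := (AdicCompletion.evalₐ I n).comp h
  obtain ⟨A', _, _, het, hbij, τ, hτ⟩ := Groth.Agent.S2043.result (I ^ n) σ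
  let e : (A ⧸ I ^ n) ≃ₐ[A] (A' ⧸ (I ^ n).map (algebraMap A A')) :=
    AlgEquiv.ofBijective (IsScalarTower.toAlgHom A (A ⧸ I ^ n)
      (A' ⧸ (I ^ n).map (algebraMap A A'))) hbij
  have he : ∀ x, e x = algebraMap (A ⧸ I ^ n) (A' ⧸ (I ^ n).map (algebraMap A A')) x :=
    fun x => rfl
  let ρ : A' →ₐ[A] A ⧸ I ^ n := e.symm.toAlgHom.comp (Ideal.Quotient.mkₐ A _)
  let φ : Under.mk (CommRingCat.ofHom (algebraMap A A')) ⟶
      Under.mk (CommRingCat.ofHom (algebraMap A (A ⧸ I ^ n))) :=
    Under.homMk (CommRingCat.ofHom ρ.toRingHom) (by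
      ext a
      exact ρ.commutes a)
  let w : Z ⟶ Under.mk (CommRingCat.ofHom (algebraMap A A')) :=
    Under.homMk (CommRingCat.ofHom (τ.comp u).toRingHom) (by
      ext a
      exact (τ.comp u).commutes a)
  have hcomm : w ≫ φ = ι ≫ π := by
    ext z
    change ρ (τ (u z)) = π.right.hom (ι.right.hom z)
    rw [hπ]
    change e.symm (Ideal.Quotient.mk _ (τ (u z))) = AdicCompletion.evalₐ I n (g z)
    rw [hτ, ← he, e.symm_apply_apply, ← huh]
    rfl
  refine ⟨A', inferInstance, inferInstance, het, φ, F.map w x, ?_⟩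
  calc F.map φ (F.map w x) = F.map (w ≫ φ) x := by simp
    _ = F.map (ι ≫ π) x := by rw [hcomm]
    _ = F.map π (F.map ι x) := by simp
    _ = F.map π ξ := by rw [hx]

end Groth.Agent.Lib.Helper8.AA5
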