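import Mathlib
import Groth.Agent.Lib.Helper9.AdicProj

set_option backward.isDefEq.respectTransparency.types false
set_option autoImplicit false
set_option linter.unusedSectionVars false
set_option linter.style.haveILetI false

namespace Groth.Agent.Lib.Helper8.AA8

universe u

open AdicCompletion

/-- The transition maps are compatible with `evalₐ`. -/
theorem factor_evalₐ {R : Type*} [CommRing R] (I : Ideal R) {m n : ℕ} (hmn : m ≤ n)
    (x : AdicCompletion I R) :
    Ideal.Quotient.factor (Ideal.pow_le_pow_right hmn) (evalₐ I n x) = evalₐ I m x := by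
  obtain ⟨s, rfl⟩ := AdicCompletion.mk_surjective I R x
  rw [evalₐ_mk, evalₐ_mk, Ideal.Quotient.factor_mk]
  exact AdicCompletion.Ideal.mk_eq_mk I hmn s

/-- A `V`-algebra map from `A` into the `J`-adic completion of `C` extends to the `K`-adic
completion of `A`, when `K = IA`, `J = IC`. -/
theorem exists_completion_map' {V A C : Type*} [CommRing V] [CommRing A] [CommRing C]
    [Algebra V A] [Algebra V C] (I : Ideal V) (K : Ideal A) (J : Ideal C)
    (hK : K = I.map (algebraMap V A)) (hJ : J = I.map (algebraMap V C))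
    (ψ : A →ₐ[V] AdicCompletion J C) :
    ∃ φ : AdicCompletion K A →ₐ[V] AdicCompletion J C,
      ∀ (n : ℕ) (x : AdicCompletion K A) (a : A),
        evalₐ K n x = Ideal.Quotient.mk _ a →
        evalₐ J n (φ x) = evalₐ J n (ψ a) := by
  let g : ∀ n : ℕ, A →ₐ[V] C ⧸ J ^ n := fun n => ((evalₐ J n).restrictScalars V).comp ψ
  have hg : ∀ n : ℕ, ∀ a ∈ K ^ n, g n a = 0 := by
    intro n
    have : K ^ n ≤ RingHom.ker (g n).toRingHom := by
      rw [hK, ← Ideal.map_pow, Ideal.map_le_iff_le_comap]
      intro i hi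
      rw [Ideal.mem_comap, RingHom.mem_ker]
      change g n (algebraMap V A i) = 0
      rw [AlgHom.commutes]
      change Ideal.Quotient.mk _ (algebraMap V C i) = 0
      rw [Ideal.Quotient.eq_zero_iff_mem, hJ, ← Ideal.map_pow]
      exact Ideal.mem_map_of_mem _ hi
    intro a ha
    exact this ha
  let θ : ∀ n : ℕ, A ⧸ K ^ n →ₐ[V] C ⧸ J ^ n := fun n => Ideal.Quotient.liftₐ (K ^ n) (g n) (hg n)
  have hθ : ∀ n a, θ n (Ideal.Quotient.mk _ a) = evalₐ J n (ψ a) := fun n a => rfl
  let F : ∀ n : ℕ, AdicCompletion K A →ₐ[V] C ⧸ J ^ n :=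
    fun n => (θ n).comp ((evalₐ K n).restrictScalars V)
  have hF : ∀ {m n : ℕ} (hle : m ≤ n),
      (Ideal.Quotient.factorₐ V (Ideal.pow_le_pow_right hle)).comp (F n) = F m := by
    intro m n hle
    ext x
    obtain ⟨a, ha⟩ := Ideal.Quotient.mk_surjective (evalₐ K n x)
    have ha' : evalₐ K m x = Ideal.Quotient.mk _ a := by
      rw [← factor_evalₐ K hle, ← ha, Ideal.Quotient.factor_mk]
    change Ideal.Quotient.factor (Ideal.pow_le_pow_right hle) (θ n (evalₐ K n x)) =
      θ m (evalₐ K m x)
    rw [← ha, ha', hθ, hθ, factor_evalₐ J hle]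
  refine ⟨AdicCompletion.liftAlgHom J F hF, ?_⟩
  intro n x a hx
  rw [evalₐ_liftAlgHom]
  change θ n (evalₐ K n x) = _
  rw [hx, hθ]

/-- Main statement: lifting a finite map of the special fibres of (formally) smooth algebras to a
finite map of completions. -/
theorem main19376 (V : Type u) [CommRing V] (I : Ideal V) (hI : I.FG)
    (A C : Type u) [CommRing A] [Algebra V A] [Algebra.FormallySmooth V A]
    [CommRing C] [Algebra V C]
    (φ₀ : (A ⧸ I.map (algebraMap V A)) →ₐ[V] (C ⧸ I.map (algebraMap V C)))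
    (hφ₀ : φ₀.toRingHom.Finite) :
    ∃ φ : AdicCompletion (I.map (algebraMap V A)) A →ₐ[V]
        AdicCompletion (I.map (algebraMap V C)) C,
      φ.toRingHom.Finite ∧
      (AdicCompletion.evalOneₐ (I.map (algebraMap V C))).toRingHom.comp φ.toRingHom =
        φ₀.toRingHom.comp (AdicCompletion.evalOneₐ (I.map (algebraMap V A))).toRingHom := by
  obtain ⟨ψ, hψ⟩ := Algebra.FormallySmooth.exists_adicCompletionEvalOneₐ_comp_eq
    (I := I.map (algebraMap V C)) (φ₀.comp (Ideal.Quotient.mkₐ V (I.map (algebraMap V A))))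
  obtain ⟨φ, hφ⟩ := exists_completion_map' I _ _ rfl rfl ψ
  have hone : ∀ x, evalOneₐ (I.map (algebraMap V C)) (φ x) =
      φ₀ (evalOneₐ (I.map (algebraMap V A)) x) := by
    intro x
    obtain ⟨a, ha⟩ := Ideal.Quotient.mk_surjective (evalₐ (I.map (algebraMap V A)) 1 x)
    rw [← factorₐ_evalₐ_one, ← factorₐ_evalₐ_one, hφ 1 x a ha.symm, ← ha,
      Ideal.Quotient.factor_mk, factorₐ_evalₐ_one]
    exact congr($hψ a)
  refine ⟨φ, ?_, ?_⟩
  swap
  · ext x
    exact hone x
  -- finiteness
  have hKfg : (I.map (algebraMap V A)).FG := hI.map _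
  have hJfg : (I.map (algebraMap V C)).FG := hI.map _
  -- completeness as `V`-modules
  have hcA : IsAdicComplete I (AdicCompletion (I.map (algebraMap V A)) A) :=
    (IsAdicComplete.map_algebraMap_iff (S := A) I _).mp (AdicCompletion.isAdicComplete hKfg)
  have hcC : IsAdicComplete I (AdicCompletion (I.map (algebraMap V C)) C) :=
    (IsAdicComplete.map_algebraMap_iff (S := C) I _).mp (AdicCompletion.isAdicComplete hJfg)
  -- the ideal `I Ĉ` is the kernel of `evalOneₐ`
  have hker : ∀ z : AdicCompletion (I.map (algebraMap V C)) C,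
      evalOneₐ (I.map (algebraMap V C)) z = 0 →
      z ∈ (I • ⊤ : Submodule V (AdicCompletion (I.map (algebraMap V C)) C)) := by
    intro z hz
    rw [Ideal.smul_top_eq_map, Submodule.restrictScalars_mem]
    have h1 : z ∈ RingHom.ker (evalOneₐ (I.map (algebraMap V C))).toRingHom := hz
    rw [ker_evalOneₐ_eq_map _ hJfg, Ideal.map_map] at h1
    have h2 : (algebraMap C (AdicCompletion (I.map (algebraMap V C)) C)).comp (algebraMap V C) =
        algebraMap V (AdicCompletion (I.map (algebraMap V C)) C) := rfl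
    rwa [h2] at h1
  letI alg₀ : Algebra (A ⧸ I.map (algebraMap V A)) (C ⧸ I.map (algebraMap V C)) :=
    φ₀.toRingHom.toAlgebra
  have hfin : Module.Finite (A ⧸ I.map (algebraMap V A)) (C ⧸ I.map (algebraMap V C)) := hφ₀
  obtain ⟨k, s, hs⟩ := Module.Finite.exists_fin (R := A ⧸ I.map (algebraMap V A))
    (M := C ⧸ I.map (algebraMap V C))
  choose c hc using fun i => evalOneₐ_surjective (I.map (algebraMap V C)) (s i)
  let f : (Fin k → AdicCompletion (I.map (algebraMap V A)) A) →ₗ[V]
      AdicCompletion (I.map (algebraMap V C)) C :=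
    ∑ i, (LinearMap.mulRight V (c i)) ∘ₗ φ.toLinearMap ∘ₗ (LinearMap.proj i)
  have hf : ∀ x, f x = ∑ i, φ (x i) * c i := by
    intro x
    simp [f, LinearMap.sum_apply]
  have hsurj : Function.Surjective f := by
    haveI h1 : IsPrecomplete (I.map (algebraMap V (AdicCompletion (I.map (algebraMap V A)) A)))
        (AdicCompletion (I.map (algebraMap V A)) A) :=
      (IsPrecomplete.map_algebraMap_iff (S := AdicCompletion (I.map (algebraMap V A)) A)).mpr
        hcA.toIsPrecomplete
    haveI h2 : IsPrecomplete (I.map (algebraMap V (AdicCompletion (I.map (algebraMap V A)) A)))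
        (Fin k → AdicCompletion (I.map (algebraMap V A)) A) :=
      Groth.Agent.Lib.Helper9.isPrecomplete_pi _
    haveI h3 : IsPrecomplete I (Fin k → AdicCompletion (I.map (algebraMap V A)) A) :=
      (IsPrecomplete.map_algebraMap_iff (S := AdicCompletion (I.map (algebraMap V A)) A)).mp h2
    haveI h4 : IsHausdorff I (AdicCompletion (I.map (algebraMap V C)) C) := hcC.toIsHausdorff
    apply surjective_of_mkQ_comp_surjective (I := I)
    intro y'
    obtain ⟨y, rfl⟩ := Submodule.mkQ_surjective _ y'
    have hy : evalOneₐ (I.map (algebraMap V C)) y ∈ Submodule.span (A ⧸ I.map (algebraMap V A))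
        (Set.range s) := by
      rw [hs]
      exact Submodule.mem_top
    obtain ⟨ā, hā⟩ := (Submodule.mem_span_range_iff_exists_fun _).mp hy
    choose x hx using fun i => evalOneₐ_surjective (I.map (algebraMap V A)) (ā i)
    refine ⟨x, ?_⟩
    rw [LinearMap.comp_apply, Submodule.mkQ_apply, Submodule.mkQ_apply, Submodule.Quotient.eq]
    apply hker
    rw [map_sub, sub_eq_zero, hf, map_sum, ← hā]
    refine Finset.sum_congr rfl fun i _ => ?_
    rw [map_mul, hone, hx, hc, Algebra.smul_def]
    rfl
  letI algφ : Algebra (AdicCompletion (I.map (algebraMap V A)) A)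
      (AdicCompletion (I.map (algebraMap V C)) C) := φ.toRingHom.toAlgebra
  change Module.Finite (AdicCompletion (I.map (algebraMap V A)) A)
    (AdicCompletion (I.map (algebraMap V C)) C)
  let f' : (Fin k → AdicCompletion (I.map (algebraMap V A)) A) →ₗ[AdicCompletion (I.map (algebraMap V A)) A]
      AdicCompletion (I.map (algebraMap V C)) C :=
    Fintype.linearCombination (AdicCompletion (I.map (algebraMap V A)) A) c
  have hf' : ∀ x, f' x = f x := by
    intro x
    rw [hf, Fintype.linearCombination_apply]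
    refine Finset.sum_congr rfl fun i _ => ?_
    rw [Algebra.smul_def]
    rfl
  refine Module.Finite.of_surjective f' ?_
  intro y
  obtain ⟨x, hx⟩ := hsurj y
  exact ⟨x, (hf' x).trans hx⟩

end Groth.Agent.Lib.Helper8.AA8
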