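import Mathlib
import Groth.Agent.Lib.Helper11.Acyc
import Groth.Agent.Lib.Helper9.FinLenSupp

set_option backward.isDefEq.respectTransparency.types false
set_option autoImplicit false
set_option linter.unusedSectionVars false
set_option linter.style.haveILetI false

namespace Groth.Agent.Lib.Helper8.AC1

open Groth.Agent.Lib.Helper11.Acyc Groth.Agent.Lib.Helper16.Depth

universe u

variable {R : Type u} [CommRing R] [IsLocalRing R]

theorem exact_ker_rr {M N : Type*} [AddCommGroup M] [Module R M] [AddCommGroup N] [Module R N]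
    (f : M →ₗ[R] N) : Function.Exact (LinearMap.ker f).subtype f.rangeRestrict := by
  intro x
  constructor
  · intro hx
    refine ⟨⟨x, ?_⟩, rfl⟩
    rw [LinearMap.mem_ker]
    exact congrArg Subtype.val hx
  · rintro ⟨y, rfl⟩
    apply Subtype.ext
    exact y.2

section chain

variable (e' : ℕ) (Y : ℕ → Type u) [∀ i, AddCommGroup (Y i)] [∀ i, Module R (Y i)]
  (δ : ∀ i, Y (i + 1) →ₗ[R] Y i)
  (hδ : ∀ i, i < e' → ∀ x, δ i (δ (i + 1) x) = 0)
  (hY : ∀ i j, j < e' + 1 → EV R (Y i) j)
  (htop : IsFiniteLength R (LinearMap.ker (δ e')))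
  (hfl : ∀ i, i < e' → IsFiniteLength R
    (LinearMap.ker (δ i) ⧸ (LinearMap.range (δ (i + 1))).comap (LinearMap.ker (δ i)).subtype))

include hY htop in
theorem top_ker : LinearMap.ker (δ e') = ⊥ := by
  have e0 : EV R (LinearMap.ker (δ e')) 0 :=
    EV_left_zero (LinearMap.ker (δ e')).subtype (δ e').rangeRestrict
      (Submodule.subtype_injective _) (LinearMap.surjective_rangeRestrict _)
      (exact_ker_rr (δ e')) (hY (e' + 1) 0 (by omega))
  have hs := subsingleton_of_EV_zero _ htop e0
  exact Submodule.eq_bot_iff _ |>.mpr fun x hx => by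
    have := Subsingleton.elim (⟨x, hx⟩ : LinearMap.ker (δ e')) 0
    exact congrArg Subtype.val this

/-- depth bookkeeping: `Ext^j(k, range δ_i) = 0` for `j ≤ i` -/
def DD (i : ℕ) : Prop := ∀ j, j ≤ i → EV R (LinearMap.range (δ i)) j

include hY htop in
theorem DD_top : DD Y δ e' := by
  intro j hj
  have hk := top_ker e' Y δ hY htop
  have hinj : Function.Injective (δ e').rangeRestrict := by
    rw [← LinearMap.ker_eq_bot, LinearMap.ker_rangeRestrict, hk]
  let eqv : Y (e' + 1) ≃ₗ[R] LinearMap.range (δ e') :=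
    LinearEquiv.ofBijective (δ e').rangeRestrict ⟨hinj, LinearMap.surjective_rangeRestrict _⟩
  exact EV_congr eqv j (hY (e' + 1) j (by omega))

include hδ hY hfl in
theorem step (i : ℕ) (hi : i < e') (hD : DD Y δ (i + 1)) :
    LinearMap.ker (δ i) = LinearMap.range (δ (i + 1)) ∧ DD Y δ i := by
  have hle : LinearMap.range (δ (i + 1)) ≤ LinearMap.ker (δ i) := by
    rintro _ ⟨x, rfl⟩
    exact hδ i hi x
  set Z := LinearMap.ker (δ i) with hZ
  set B' := (LinearMap.range (δ (i + 1))).comap Z.subtype with hB'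
  have e0 : EV R Z 0 :=
    EV_left_zero Z.subtype (δ i).rangeRestrict
      (Submodule.subtype_injective _) (LinearMap.surjective_rangeRestrict _)
      (exact_ker_rr (δ i)) (hY (i + 1) 0 (by omega))
  have e1' : EV R B' 1 :=
    EV_congr (Submodule.comapSubtypeEquivOfLe hle).symm 1 (hD 1 (by omega))
  have e2 : EV R (Z ⧸ B') 0 :=
    EV_right B'.subtype B'.mkQ (Submodule.subtype_injective _) (Submodule.mkQ_surjective _)
      (LinearMap.exact_subtype_mkQ B') 0 e0 e1'
  have hsub := subsingleton_of_EV_zero (Z ⧸ B') (hfl i hi) e2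
  have htop' : B' = ⊤ := Submodule.Quotient.subsingleton_iff.1 hsub
  have hker : Z = LinearMap.range (δ (i + 1)) := by
    refine le_antisymm ?_ hle
    intro x hx
    have : (⟨x, hx⟩ : Z) ∈ B' := htop' ▸ Submodule.mem_top
    exact this
  refine ⟨hker, ?_⟩
  intro j hj
  have hZj : EV R Z (j + 1) := by
    rw [hker]
    exact hD (j + 1) (by omega)
  exact EV_right Z.subtype (δ i).rangeRestrict
    (Submodule.subtype_injective _) (LinearMap.surjective_rangeRestrict _)
    (exact_ker_rr (δ i)) j (hY (i + 1) j (by omega)) hZj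

include hδ hY htop hfl in
/-- acyclicity lemma in chain indexing -/
theorem acyclic : LinearMap.ker (δ e') = ⊥ ∧
    ∀ i, i < e' → LinearMap.ker (δ i) = LinearMap.range (δ (i + 1)) := by
  refine ⟨top_ker e' Y δ hY htop, ?_⟩
  have key : ∀ t i, i + t = e' →
      DD Y δ i ∧ (i < e' → LinearMap.ker (δ i) = LinearMap.range (δ (i + 1))) := by
    intro t
    induction t with
    | zero =>
      intro i hi
      have : i = e' := by omega
      subst this
      exact ⟨DD_top i Y δ hY htop, fun h => absurd h (lt_irrefl _)⟩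
    | succ t ih =>
      intro i hi
      have hlt : i < e' := by omega
      obtain ⟨hD, _⟩ := ih (i + 1) (by omega)
      obtain ⟨h1, h2⟩ := step e' Y δ hδ hY hfl i hlt hD
      exact ⟨h2, fun _ => h1⟩
  intro i hi
  exact (key (e' - i) i (by omega)).2 hi

end chain

end Groth.Agent.Lib.Helper8.AC1
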