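import Mathlib
import Groth.Agent.Lib.Helper8.AC1

set_option backward.isDefEq.respectTransparency.types false
set_option autoImplicit false
set_option linter.unusedSectionVars false
set_option linter.style.haveILetI false

namespace Groth.Agent.Lib.Helper8.AC2

open Groth.Agent.Lib.Helper11.Acyc Groth.Agent.Lib.Helper16.Depth Groth.Agent.Lib.Helper8.AC1
open Matrix

universe u

section loc

variable {R : Type u} [CommRing R] (p : Ideal R) [p.IsPrime]

/-- a vector vanishing in the localization is killed by an element outside `p` -/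
theorem exists_smul_eq_zero {k : ℕ} (x : Fin k → R)
    (hx : ∀ j, algebraMap R (Localization.AtPrime p) (x j) = 0) :
    ∃ s : R, s ∉ p ∧ s • x = 0 := by
  have h1 : ∀ j, ∃ m : p.primeCompl, (m : R) * x j = 0 := fun j =>
    (IsLocalization.map_eq_zero_iff p.primeCompl (Localization.AtPrime p) (x j)).mp (hx j)
  choose m hm using h1
  refine ⟨∏ j, (m j : R), ?_, ?_⟩
  · have : (∏ j, (m j : R)) ∈ p.primeCompl := Submonoid.prod_mem _ fun j _ => (m j).2
    exact this
  · funext j
    rw [Pi.smul_apply, smul_eq_mul, Pi.zero_apply]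
    rw [← Finset.mul_prod_erase Finset.univ _ (Finset.mem_univ j)]
    have := hm j
    linear_combination (∏ i ∈ Finset.univ.erase j, (m i : R)) * this

/-- clearing denominators of a vector -/
theorem exists_common_den {k : ℕ} (y : Fin k → Localization.AtPrime p) :
    ∃ s : R, s ∉ p ∧ ∃ y' : Fin k → R,
      ∀ j, algebraMap R (Localization.AtPrime p) s * y j =
        algebraMap R (Localization.AtPrime p) (y' j) := by
  obtain ⟨b, hb⟩ := IsLocalization.exist_integer_multiples_of_finite p.primeCompl y
  choose y' hy' using hb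
  refine ⟨b, b.2, y', fun j => ?_⟩
  rw [hy' j, Algebra.smul_def]

variable {a b c : ℕ} (M : Matrix (Fin a) (Fin b) R) (N : Matrix (Fin b) (Fin c) R)

theorem map_mulVec' (x : Fin b → R) :
    (M.map (algebraMap R (Localization.AtPrime p))) *ᵥ
      (fun j => algebraMap R (Localization.AtPrime p) (x j)) =
    fun i => algebraMap R (Localization.AtPrime p) ((M *ᵥ x) i) := by
  funext i
  exact (RingHom.map_mulVec (algebraMap R (Localization.AtPrime p)) M x i).symm

/-- injectivity after localization gives local vanishing of the kernel -/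
theorem ker_local_zero
    (h : LinearMap.ker (M.map (algebraMap R (Localization.AtPrime p))).mulVecLin = ⊥)
    (x : Fin b → R) (hx : M *ᵥ x = 0) : ∃ s : R, s ∉ p ∧ s • x = 0 := by
  apply exists_smul_eq_zero p x
  have h1 : (fun j => algebraMap R (Localization.AtPrime p) (x j)) ∈
      LinearMap.ker (M.map (algebraMap R (Localization.AtPrime p))).mulVecLin := by
    rw [LinearMap.mem_ker, Matrix.mulVecLin_apply, map_mulVec', hx]
    funext i
    simp
  rw [h] at h1
  intro j
  exact congrFun ((Submodule.mem_bot _).mp h1) j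

/-- exactness after localization gives local exactness -/
theorem ker_local_range
    (h : LinearMap.ker (M.map (algebraMap R (Localization.AtPrime p))).mulVecLin =
      LinearMap.range (N.map (algebraMap R (Localization.AtPrime p))).mulVecLin)
    (x : Fin b → R) (hx : M *ᵥ x = 0) : ∃ s : R, s ∉ p ∧ ∃ y : Fin c → R, s • x = N *ᵥ y := by
  have h1 : (fun j => algebraMap R (Localization.AtPrime p) (x j)) ∈
      LinearMap.ker (M.map (algebraMap R (Localization.AtPrime p))).mulVecLin := by
    rw [LinearMap.mem_ker, Matrix.mulVecLin_apply, map_mulVec', hx]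
    funext i
    simp
  rw [h] at h1
  obtain ⟨y, hy⟩ := h1
  rw [Matrix.mulVecLin_apply] at hy
  obtain ⟨s, hs, y', hy'⟩ := exists_common_den p y
  -- s • x - N *ᵥ y' vanishes in the localization
  have h2 : ∀ j, algebraMap R (Localization.AtPrime p) ((s • x - N *ᵥ y') j) = 0 := by
    intro j
    rw [Pi.sub_apply, map_sub, Pi.smul_apply, smul_eq_mul, map_mul]
    have e1 := congrFun hy j
    rw [← e1]
    have e2 := congrFun (map_mulVec' p N y') j
    rw [← e2]
    have e3 : (fun j => algebraMap R (Localization.AtPrime p) (y' j)) =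
        algebraMap R (Localization.AtPrime p) s • y := by
      funext l
      rw [Pi.smul_apply, smul_eq_mul, hy']
    rw [e3, Matrix.mulVec_smul, Pi.smul_apply, smul_eq_mul, sub_self]
  obtain ⟨s', hs', h3⟩ := exists_smul_eq_zero p _ h2
  refine ⟨s' * s, ?_, s' • y', ?_⟩
  · exact fun hmem => (Ideal.IsPrime.mem_or_mem ‹p.IsPrime› hmem).elim hs' hs
  · rw [smul_sub, sub_eq_zero] at h3
    rw [mul_smul, h3, Matrix.mulVec_smul]

end loc

section main

variable {R : Type u} [CommRing R] [IsLocalRing R] [IsNoetherianRing R]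

theorem main128' (e' : ℕ) (n : ℕ → ℕ) (A : (i : ℕ) → Matrix (Fin (n i)) (Fin (n (i + 1))) R)
    (hA : ∀ i, i < e' → A i * A (i + 1) = 0)
    (rs : List R) (hlen : rs.length = e' + 1) (hmem : ∀ x ∈ rs, x ∈ IsLocalRing.maximalIdeal R)
    (hreg : RingTheory.Sequence.IsRegular R rs)
    (hloc : ∀ (p : Ideal R) [p.IsPrime], p ≠ IsLocalRing.maximalIdeal R →
      LinearMap.ker ((A e').map (algebraMap R (Localization.AtPrime p))).mulVecLin = ⊥ ∧
        ∀ i, i < e' →
          LinearMap.ker ((A i).map (algebraMap R (Localization.AtPrime p))).mulVecLin =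
            LinearMap.range ((A (i + 1)).map (algebraMap R (Localization.AtPrime p))).mulVecLin) :
    LinearMap.ker (A e').mulVecLin = ⊥ ∧
      ∀ i, i < e' → LinearMap.ker (A i).mulVecLin = LinearMap.range (A (i + 1)).mulVecLin := by
  have hRS : HasRegSeq (IsLocalRing.maximalIdeal R) R (e' + 1) :=
    ⟨rs, hlen, hreg.toIsWeaklyRegular, hmem⟩
  refine acyclic e' (fun i => Fin (n i) → R) (fun i => (A i).mulVecLin) ?_ ?_ ?_ ?_
  · intro i hi x
    rw [Matrix.mulVecLin_apply, Matrix.mulVecLin_apply, Matrix.mulVec_mulVec, hA i hi,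
      Matrix.zero_mulVec]
  · intro i j hj
    exact EV_of_free (e' + 1) hRS _ j hj
  · apply Groth.Agent.Lib.Helper9.FinLenSupp.isFiniteLength_of_support_subset
    intro q hq
    by_contra hne
    revert hq
    rw [imp_false, Module.notMem_support_iff']
    rintro ⟨x, hx⟩
    rw [LinearMap.mem_ker, Matrix.mulVecLin_apply] at hx
    obtain ⟨s, hs, hsx⟩ := ker_local_zero q.asIdeal (A e') (hloc q.asIdeal hne).1 x hx
    exact ⟨s, hs, Subtype.ext hsx⟩
  · intro i hi
    apply Groth.Agent.Lib.Helper9.FinLenSupp.isFiniteLength_of_support_subset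
    intro q hq
    by_contra hne
    revert hq
    rw [imp_false, Module.notMem_support_iff']
    intro z
    obtain ⟨⟨x, hx⟩, rfl⟩ := Submodule.Quotient.mk_surjective _ z
    have hx' := hx
    rw [LinearMap.mem_ker, Matrix.mulVecLin_apply] at hx'
    obtain ⟨s, hs, y, hy⟩ := ker_local_range q.asIdeal (A i) (A (i + 1))
      ((hloc q.asIdeal hne).2 i hi) x hx'
    refine ⟨s, hs, ?_⟩
    rw [← Submodule.Quotient.mk_smul, Submodule.Quotient.mk_eq_zero, Submodule.mem_comap]
    show s • x ∈ LinearMap.range (A (i + 1)).mulVecLin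
    exact ⟨y, by rw [Matrix.mulVecLin_apply, hy]⟩

theorem main128
    (e : ℕ) (he : 1 ≤ e) (n : ℕ → ℕ) (A : (i : ℕ) → Matrix (Fin (n i)) (Fin (n (i + 1))) R)
    (hA : ∀ i, i + 2 ≤ e → A i * A (i + 1) = 0)
    (rs : List R) (hlen : rs.length = e) (hmem : ∀ x ∈ rs, x ∈ IsLocalRing.maximalIdeal R)
    (hreg : RingTheory.Sequence.IsRegular R rs)
    (hloc : ∀ (p : Ideal R) [p.IsPrime], p ≠ IsLocalRing.maximalIdeal R →
      LinearMap.ker ((A (e - 1)).map (algebraMap R (Localization.AtPrime p))).mulVecLin = ⊥ ∧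
        ∀ i, i + 2 ≤ e →
          LinearMap.ker ((A i).map (algebraMap R (Localization.AtPrime p))).mulVecLin =
            LinearMap.range ((A (i + 1)).map (algebraMap R (Localization.AtPrime p))).mulVecLin) :
    LinearMap.ker (A (e - 1)).mulVecLin = ⊥ ∧
      ∀ i, i + 2 ≤ e → LinearMap.ker (A i).mulVecLin = LinearMap.range (A (i + 1)).mulVecLin := by
  obtain ⟨e', rfl⟩ : ∃ e', e = e' + 1 := ⟨e - 1, by omega⟩
  have key := main128' e' n A (fun i hi => hA i (by omega)) rs hlen hmem hreg
    (fun p _ hp => ⟨(hloc p hp).1, fun i hi => (hloc p hp).2 i (by omega)⟩)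
  exact ⟨key.1, fun i hi => key.2 i (by omega)⟩

end main

end Groth.Agent.Lib.Helper8.AC2
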