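import Mathlib
import Groth.Prelude.Def_FrobAlg

set_option backward.isDefEq.respectTransparency.types false
set_option autoImplicit false
set_option linter.unusedSectionVars false
set_option linter.style.haveILetI false

universe u

open TensorProduct

namespace Groth.Agent.Lib.Helper8.AF

variable (p : ℕ) [Fact p.Prime] (A : Type u) [CommRing A] [CharP A p]

theorem smul_tw (a : A) (m : FrobAlg.Twist p A) :
    a • m = FrobAlg.toTwist p A (a ^ p) * m := by
  rw [Algebra.smul_def, FrobAlg.algebraMap_twist]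

/-- the identity as a Frobenius-semilinear map `Twist → A`. -/
noncomputable def psi0 : FrobAlg.Twist p A →ₛₗ[frobenius A p] A where
  toFun := (FrobAlg.toTwist p A).symm
  map_add' := map_add _
  map_smul' a m := by
    rw [smul_tw, map_mul, RingEquiv.symm_apply_apply, smul_eq_mul, frobenius_def]

theorem psi0_apply (m : FrobAlg.Twist p A) : psi0 p A m = (FrobAlg.toTwist p A).symm m := rfl

theorem symm_mem (J : Ideal A) (m : FrobAlg.Twist p A)
    (hm : m ∈ (J • ⊤ : Submodule A (FrobAlg.Twist p A))) : (FrobAlg.toTwist p A).symm m ∈ J := by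
  refine Submodule.smul_induction_on hm ?_ ?_
  · intro r hr n _
    rw [smul_tw, map_mul, RingEquiv.symm_apply_apply]
    exact J.mul_mem_right _ (J.pow_mem_of_mem hr p (Fact.out : p.Prime).pos)
  · intro x y hx hy
    rw [map_add]; exact J.add_mem hx hy

theorem tw_mem (J : Ideal A) (x : A) (hx : x ∈ Ideal.map (frobenius A p) J) :
    FrobAlg.toTwist p A x ∈ (J • ⊤ : Submodule A (FrobAlg.Twist p A)) := by
  have hmul : ∀ (m' m : FrobAlg.Twist p A), m ∈ (J • ⊤ : Submodule A (FrobAlg.Twist p A)) →
      m' * m ∈ (J • ⊤ : Submodule A (FrobAlg.Twist p A)) := by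
    intro m' m hm
    refine Submodule.smul_induction_on hm ?_ ?_
    · intro r hr n _
      rw [mul_smul_comm]; exact Submodule.smul_mem_smul hr trivial
    · intro x y hx hy
      rw [mul_add]; exact add_mem hx hy
  rw [Ideal.map] at hx
  induction hx using Submodule.span_induction with
  | mem y hy =>
    obtain ⟨j, hj, rfl⟩ := hy
    have : FrobAlg.toTwist p A (frobenius A p j) = j • (1 : FrobAlg.Twist p A) := by
      rw [smul_tw, mul_one, frobenius_def]
    rw [this]
    exact Submodule.smul_mem_smul hj trivial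
  | zero => rw [map_zero]; exact zero_mem _
  | add x y _ _ hx hy => rw [map_add]; exact add_mem hx hy
  | smul a x _ hx => rw [smul_eq_mul, map_mul]; exact hmul _ _ hx

variable (I : Ideal A)

theorem exists_c [IsNoetherianRing A] : ∃ c, 1 ≤ c ∧ ∀ n x, x ∈ I ^ (c * n) →
    FrobAlg.toTwist p A x ∈ (I ^ n • ⊤ : Submodule A (FrobAlg.Twist p A)) := by
  have hrad : I ≤ (Ideal.map (frobenius A p) I).radical := fun x hx =>
    ⟨p, by rw [← frobenius_def]; exact Ideal.mem_map_of_mem _ hx⟩
  obtain ⟨k, hk⟩ := Ideal.exists_pow_le_of_le_radical_of_fg hrad (IsNoetherian.noetherian I)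
  refine ⟨k + 1, by omega, fun n x hx => ?_⟩
  apply tw_mem
  rw [Ideal.map_pow]
  rw [pow_mul] at hx
  exact Ideal.pow_right_mono ((Ideal.pow_le_pow_right (Nat.le_succ k)).trans hk) n hx

theorem le_comap (n : ℕ) : (I ^ n • ⊤ : Submodule A (FrobAlg.Twist p A)) ≤
    Submodule.comap (psi0 p A) (I ^ n • ⊤ : Submodule A A) := by
  intro m hm
  rw [Submodule.mem_comap]
  have := symm_mem p A (I ^ n) m hm
  simpa [psi0_apply] using this

/-- the map `M/I^n M → A/I^n`. -/
noncomputable def piN (n : ℕ) :
    (FrobAlg.Twist p A ⧸ (I ^ n • ⊤ : Submodule A (FrobAlg.Twist p A))) →ₛₗ[frobenius A p]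
      (A ⧸ (I ^ n • ⊤ : Submodule A A)) :=
  Submodule.mapQ _ _ (psi0 p A) (le_comap p A I n)

theorem piN_mk (n : ℕ) (m : FrobAlg.Twist p A) :
    piN p A I n (Submodule.Quotient.mk m) = Submodule.Quotient.mk ((FrobAlg.toTwist p A).symm m) :=
  rfl

theorem relFrob_tmul (B : Type*) [CommRing B] [Algebra A B] [CharP B p] (b : B)
    (a : FrobAlg.Twist p A) :
    FrobAlg.relFrob p A B (b ⊗ₜ[A] a) =
      b ^ p * algebraMap A B ((FrobAlg.toTwist p A).symm a) := by
  rw [FrobAlg.relFrob]
  simp only [RingHom.comp_apply, AlgHom.toRingHom_eq_coe, RingHom.coe_coe,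
    Algebra.TensorProduct.lift_tmul]
  rfl

theorem val_pow (x : AdicCompletion I A) (k n : ℕ) : (x ^ k).val n = (x.val n) ^ k := rfl

theorem val_relFrob [CharP (AdicCompletion I A) p]
    (t : AdicCompletion I A ⊗[A] FrobAlg.Twist p A) (n : ℕ) :
    (FrobAlg.relFrob p A (AdicCompletion I A) t).val n =
      piN p A I n ((AdicCompletion.ofTensorProduct I (FrobAlg.Twist p A) t).val n) := by
  induction t using TensorProduct.induction_on with
  | zero => simp
  | add x y hx hy =>
    rw [map_add, map_add, AdicCompletion.val_add_apply, AdicCompletion.val_add_apply, map_add,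
      hx, hy]
  | tmul b a =>
    induction b using AdicCompletion.induction_on with
    | h g =>
    rw [relFrob_tmul, AdicCompletion.ofTensorProduct_tmul, AdicCompletion.val_mul, val_pow,
      AdicCompletion.smul_eval, AdicCompletion.algebraMap_apply, AdicCompletion.of_apply,
      AdicCompletion.of_apply, AdicCompletion.mk_apply_coe]
    change Ideal.Quotient.mk (I ^ n • ⊤ : Ideal A) (g n) ^ p *
        Ideal.Quotient.mk (I ^ n • ⊤ : Ideal A) ((FrobAlg.toTwist p A).symm a) =
      piN p A I n (Ideal.Quotient.mk (I ^ n • ⊤ : Ideal A) (g n) •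
        Submodule.Quotient.mk (p := (I ^ n • ⊤ : Submodule A (FrobAlg.Twist p A))) a)
    rw [AdicCompletion.mk_smul_mk, ← Submodule.Quotient.mk_smul, piN_mk, smul_tw, map_mul,
      RingEquiv.symm_apply_apply, ← map_pow, ← map_mul]
    rfl

theorem main [IsNoetherianRing A] [Module.Finite A (FrobAlg.Twist p A)]
    [CharP (AdicCompletion I A) p] :
    Function.Bijective (FrobAlg.relFrob p A (AdicCompletion I A)) := by
  obtain ⟨c, hc1, hc⟩ := exists_c p A I
  have hbij := AdicCompletion.ofTensorProduct_bijective_of_finite_of_isNoetherian I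
    (FrobAlg.Twist p A)
  constructor
  · rw [injective_iff_map_eq_zero]
    intro t ht
    apply hbij.1
    rw [map_zero]
    obtain ⟨h, hh⟩ := AdicCompletion.mk_surjective I (FrobAlg.Twist p A)
      (AdicCompletion.ofTensorProduct I (FrobAlg.Twist p A) t)
    rw [← hh]
    apply AdicCompletion.mk_zero_of
    refine ⟨0, fun n _ => ⟨c * n, Nat.le_mul_of_pos_left n hc1, n, le_rfl, ?_⟩⟩
    have h1 := val_relFrob p A I t (c * n)
    rw [ht, ← hh, AdicCompletion.mk_apply_coe, AdicCompletion.val_zero_apply] at h1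
    change (0 : A ⧸ (I ^ (c * n) • ⊤ : Submodule A A)) =
      piN p A I (c * n) (Submodule.Quotient.mk (h (c * n))) at h1
    rw [piN_mk, eq_comm, Submodule.Quotient.mk_eq_zero] at h1
    have h2 : (FrobAlg.toTwist p A).symm (h (c * n)) ∈ I ^ (c * n) := by simpa using h1
    have h3 := hc n _ h2
    rwa [RingEquiv.apply_symm_apply] at h3
  · intro b
    obtain ⟨g, rfl⟩ := AdicCompletion.mk_surjective I A b
    have hcau : AdicCompletion.IsAdicCauchy I (FrobAlg.Twist p A)
        (fun n => FrobAlg.toTwist p A (g (c * n))) := by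
      intro m n hmn
      rw [SModEq.sub_mem, ← map_sub]
      apply hc
      have h1 := g.property (Nat.mul_le_mul_left c hmn)
      rw [SModEq.sub_mem] at h1
      simpa using h1
    obtain ⟨t, ht⟩ := hbij.2 (AdicCompletion.mk I (FrobAlg.Twist p A) ⟨_, hcau⟩)
    refine ⟨t, ?_⟩
    apply AdicCompletion.ext
    intro n
    rw [val_relFrob, ht, AdicCompletion.mk_apply_coe, AdicCompletion.mk_apply_coe]
    change piN p A I n (Submodule.Quotient.mk (FrobAlg.toTwist p A (g (c * n)))) =
      Submodule.Quotient.mk (g n)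
    rw [piN_mk, RingEquiv.symm_apply_apply]
    exact AdicCompletion.AdicCauchySequence.mk_eq_mk (Nat.le_mul_of_pos_left n hc1) g

end Groth.Agent.Lib.Helper8.AF
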