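import Mathlib
set_option backward.isDefEq.respectTransparency.types false
set_option autoImplicit false
set_option linter.unusedSectionVars false
set_option linter.style.haveILetI false

universe u

namespace Groth.Agent.Lib.Helper8.AIC

open Polynomial

lemma adjoinRoot_of_injective {R : Type u} [CommRing R] [Nontrivial R] (f : R[X]) (hf : f.Monic)
    (hd : 0 < f.natDegree) : Function.Injective (AdjoinRoot.of f) := by
  rw [injective_iff_map_eq_zero]
  intro a ha
  by_contra hne
  have h1 : AdjoinRoot.mk f (C a) = 0 := ha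
  rw [AdjoinRoot.mk_eq_zero] at h1
  exact hf.not_dvd_of_natDegree_lt (by simpa using hne) (by simpa using hd) h1

/-- a ring extension in which a monic polynomial splits -/
theorem exists_split (d : ℕ) : ∀ (R : Type u) [CommRing R] [Nontrivial R] (f : R[X]), f.Monic →
    f.natDegree = d →
    ∃ (R' : Type u) (_ : CommRing R') (φ : R →+* R') (ρ : Fin d → R'),
      Function.Injective φ ∧ f.map φ = ∏ i, (X - C (ρ i)) := by
  induction d with
  | zero =>
    intro R _ _ f hf hd
    refine ⟨R, inferInstance, RingHom.id R, Fin.elim0, Function.injective_id, ?_⟩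
    rw [Polynomial.map_id, Polynomial.eq_one_of_monic_natDegree_zero hf hd]
    simp
  | succ d ih =>
    intro R _ _ f hf hd
    have hinj : Function.Injective (AdjoinRoot.of f) :=
      adjoinRoot_of_injective f hf (by omega)
    haveI : Nontrivial (AdjoinRoot f) := hinj.nontrivial
    set r := AdjoinRoot.root f with hr
    set f₁ := f.map (AdjoinRoot.of f) with hf₁
    have hf₁m : f₁.Monic := hf.map _
    have hroot : f₁.IsRoot r := AdjoinRoot.isRoot_root f
    set g := f₁ /ₘ (X - C r) with hg
    have hmul : (X - C r) * g = f₁ := Polynomial.mul_divByMonic_eq_iff_isRoot.mpr hroot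
    have hgm : g.Monic := by
      have : ((X - C r) * g).Monic := by rw [hmul]; exact hf₁m
      exact (monic_X_sub_C r).of_mul_monic_left this
    have hgd : g.natDegree = d := by
      have h1 : f₁.natDegree = d + 1 := by rw [hf₁, hf.natDegree_map, hd]
      rw [← hmul, (monic_X_sub_C r).natDegree_mul hgm, natDegree_X_sub_C] at h1
      omega
    obtain ⟨R', instR', ψ, ρ', hψ, hsplit⟩ := ih (AdjoinRoot f) g hgm hgd
    refine ⟨R', instR', ψ.comp (AdjoinRoot.of f), Fin.cons (ψ r) ρ', hψ.comp hinj, ?_⟩
    rw [← Polynomial.map_map, ← hf₁, ← hmul, Polynomial.map_mul, hsplit, Fin.prod_univ_succ]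
    simp

/-- simultaneous splitting of finitely many monic polynomials -/
theorem exists_split_finset {R : Type u} [CommRing R] [Nontrivial R]
    (fs : Finset {f : R[X] // f.Monic}) :
    ∃ (R' : Type u) (_ : CommRing R') (φ : R →+* R'), Function.Injective φ ∧
      ∀ f ∈ fs, ∃ ρ : Fin f.1.natDegree → R', f.1.map φ = ∏ i, (X - C (ρ i)) := by
  classical
  induction fs using Finset.induction_on with
  | empty => exact ⟨R, inferInstance, RingHom.id R, Function.injective_id, by simp⟩
  | insert f₀ fs _ ih =>
    obtain ⟨R', instR', φ, hφ, hs⟩ := ih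
    haveI : Nontrivial R' := hφ.nontrivial
    have hm : (f₀.1.map φ).Monic := f₀.2.map φ
    have hdeg : (f₀.1.map φ).natDegree = f₀.1.natDegree := f₀.2.natDegree_map φ
    obtain ⟨R'', instR'', ψ, ρ, hψ, hsplit⟩ := exists_split f₀.1.natDegree R' (f₀.1.map φ) hm hdeg
    refine ⟨R'', instR'', ψ.comp φ, hψ.comp hφ, ?_⟩
    intro f hf
    rw [Finset.mem_insert] at hf
    rcases hf with rfl | hf
    · exact ⟨ρ, by rw [← Polynomial.map_map, hsplit]⟩
    · obtain ⟨ρ₁, h1⟩ := hs f hf
      refine ⟨fun i => ψ (ρ₁ i), ?_⟩
      rw [← Polynomial.map_map, h1, Polynomial.map_prod]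
      simp

end Groth.Agent.Lib.Helper8.AIC
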