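import Mathlib
import Groth.Agent.Lib.Helper8.AIC1
set_option backward.isDefEq.respectTransparency.types false
set_option autoImplicit false
set_option linter.unusedSectionVars false
set_option linter.style.haveILetI false

universe u

namespace Groth.Agent.Lib.Helper8.AIC

open Polynomial

section OneStep

variable (R : Type u) [CommRing R]

/-- the index set of the adjoined roots -/
abbrev Idx : Type u := Σ f : {f : R[X] // f.Monic}, Fin f.1.natDegree

/-- the big polynomial ring -/
abbrev BigP : Type u := MvPolynomial (Idx R) R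

variable {R}

/-- the relation polynomial of `f` -/
noncomputable def rel (f : {f : R[X] // f.Monic}) : (BigP R)[X] :=
  f.1.map (MvPolynomial.C : R →+* BigP R) -
    ∏ i : Fin f.1.natDegree, (X - C (MvPolynomial.X (⟨f, i⟩ : Idx R) : BigP R))

variable (R)

/-- the set of relations -/
def relSet : Set (BigP R) := {p | ∃ (f : {f : R[X] // f.Monic}) (n : ℕ), p = (rel f).coeff n}

/-- the ideal of relations -/
noncomputable def relIdeal : Ideal (BigP R) := Ideal.span (relSet R)

/-- one step: adjoin roots of all monic polynomials -/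
abbrev OneStep : Type u := BigP R ⧸ relIdeal R

/-- the structure map -/
noncomputable def stepMap : R →+* OneStep R :=
  (Ideal.Quotient.mk (relIdeal R)).comp (MvPolynomial.C : R →+* BigP R)

variable {R}

lemma rel_map_mk (f : {f : R[X] // f.Monic}) :
    (rel f).map (Ideal.Quotient.mk (relIdeal R)) = 0 := by
  ext n
  rw [Polynomial.coeff_map, Polynomial.coeff_zero, Ideal.Quotient.eq_zero_iff_mem]
  exact Ideal.subset_span ⟨f, n, rfl⟩

theorem stepMap_splits (f : R[X]) (hf : f.Monic) :
    ∃ ρ : Fin f.natDegree → OneStep R, f.map (stepMap R) = ∏ i, (X - C (ρ i)) := by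
  refine ⟨fun i => Ideal.Quotient.mk (relIdeal R) (MvPolynomial.X (⟨⟨f, hf⟩, i⟩ : Idx R)), ?_⟩
  have h := rel_map_mk (⟨f, hf⟩ : {f : R[X] // f.Monic})
  rw [rel, Polynomial.map_sub, sub_eq_zero, Polynomial.map_map, Polynomial.map_prod] at h
  rw [stepMap, h]
  refine Finset.prod_congr rfl fun i _ => ?_
  simp

theorem stepMap_injective [Nontrivial R] : Function.Injective (stepMap R) := by
  classical
  rw [injective_iff_map_eq_zero]
  intro a ha
  have hmem : (MvPolynomial.C a : BigP R) ∈ relIdeal R := by
    rw [← Ideal.Quotient.eq_zero_iff_mem]; exact ha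
  obtain ⟨T, hT, haT⟩ := Submodule.mem_span_finite_of_mem_span hmem
  -- choose the polynomial of each generator
  have hch : ∀ t : T, ∃ (f : {f : R[X] // f.Monic}) (n : ℕ), (t : BigP R) = (rel f).coeff n :=
    fun t => hT t.2
  choose ft nt htn using hch
  set fs : Finset {f : R[X] // f.Monic} := Finset.univ.image ft with hfs
  obtain ⟨R', instR', φ, hφ, hs⟩ := exists_split_finset fs
  choose ρ hρ using hs
  let ev : Idx R → R' := fun x => if h : x.1 ∈ fs then ρ x.1 h x.2 else 0
  let ψ : BigP R →+* R' := MvPolynomial.eval₂Hom φ ev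
  have hψC : ∀ b : R, ψ (MvPolynomial.C b) = φ b := fun b => by simp [ψ]
  have hrel : ∀ f ∈ fs, (rel f).map ψ = 0 := by
    intro f hf
    rw [rel, Polynomial.map_sub, Polynomial.map_map, Polynomial.map_prod, sub_eq_zero]
    have h1 : ψ.comp (MvPolynomial.C : R →+* BigP R) = φ := by
      ext b; exact hψC b
    rw [h1, hρ f hf]
    refine Finset.prod_congr rfl fun i _ => ?_
    simp [ψ, ev, hf]
  have hkill : ∀ t ∈ T, ψ t = 0 := by
    intro t ht
    have h1 := htn ⟨t, ht⟩
    have hf : ft ⟨t, ht⟩ ∈ fs := Finset.mem_image_of_mem _ (Finset.mem_univ _)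
    have h2 := congrArg (fun p => p.coeff (nt ⟨t, ht⟩)) (hrel _ hf)
    simp only [Polynomial.coeff_map, Polynomial.coeff_zero] at h2
    simp only at h1
    rw [h1, h2]
  have hle : Submodule.span (BigP R) (T : Set (BigP R)) ≤ RingHom.ker ψ := by
    rw [Submodule.span_le]
    intro t ht
    exact hkill t ht
  have := hle haT
  rw [RingHom.mem_ker, hψC] at this
  exact hφ (by rw [this, map_zero])

end OneStep

end Groth.Agent.Lib.Helper8.AIC
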