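import Mathlib
import Groth.Agent.Lib.Helper8.AIC2
set_option backward.isDefEq.respectTransparency.types false
set_option autoImplicit false
set_option linter.unusedSectionVars false
set_option linter.style.haveILetI false

universe u

namespace Groth.Agent.Lib.Helper8.AIC

open Polynomial

section Tower

variable (A : Type u) [CommRing A]

/-- the tower of rings -/
noncomputable def Ob : ℕ → Σ R : Type u, CommRing R
  | 0 => ⟨A, inferInstance⟩
  | (n + 1) => letI := (Ob n).2; ⟨OneStep (Ob n).1, inferInstance⟩

/-- the `n`-th ring -/
abbrev G (n : ℕ) : Type u := (Ob A n).1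

noncomputable instance instG (n : ℕ) : CommRing (G A n) := (Ob A n).2

/-- the step maps -/
noncomputable def step (n : ℕ) : G A n →+* G A (n + 1) := stepMap (G A n)

lemma step_injective [Nontrivial A] : ∀ n, Nontrivial (G A n) ∧ Function.Injective (step A n) := by
  intro n
  induction n with
  | zero =>
    have h0 : Nontrivial (G A 0) := (inferInstance : Nontrivial A)
    exact ⟨h0, @stepMap_injective (G A 0) _ h0⟩
  | succ n ih =>
    haveI := ih.1
    have h1 : Nontrivial (G A (n + 1)) := ih.2.nontrivial
    exact ⟨h1, @stepMap_injective (G A (n + 1)) _ h1⟩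

/-- composite transition maps -/
noncomputable def trans (m n : ℕ) (h : m ≤ n) : G A m →+* G A n :=
  Nat.leRecOn h (fun {k} g => (step A k).comp g) (RingHom.id _)

lemma trans_self (m : ℕ) : trans A m m le_rfl = RingHom.id _ := by
  unfold trans
  exact Nat.leRecOn_self _

lemma trans_succ (m n : ℕ) (h : m ≤ n) :
    trans A m (n + 1) (Nat.le_succ_of_le h) = (step A n).comp (trans A m n h) := by
  unfold trans
  exact Nat.leRecOn_succ h _

lemma trans_trans (i j k : ℕ) (hij : i ≤ j) (hjk : j ≤ k) :
    (trans A j k hjk).comp (trans A i j hij) = trans A i k (hij.trans hjk) := by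
  induction k, hjk using Nat.le_induction with
  | base => rw [trans_self]; rfl
  | succ k hjk ih =>
    rw [trans_succ A j k hjk, RingHom.comp_assoc, ih, ← trans_succ]

instance instDS : DirectedSystem (G A) fun i j h => trans A i j h :=
  ⟨fun i x => by rw [trans_self]; rfl,
   fun k j i hij hjk x => by
    have := DFunLike.congr_fun (trans_trans A i j k hij hjk) x
    simpa using this⟩

lemma trans_injective [Nontrivial A] (i j : ℕ) (hij : i ≤ j) :
    Function.Injective (trans A i j hij) := by
  induction j, hij using Nat.le_induction with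
  | base => rw [trans_self]; exact Function.injective_id
  | succ j hij ih =>
    rw [trans_succ A i j hij]
    exact (step_injective A j).2.comp ih

/-- the colimit -/
abbrev Lim : Type u := Ring.DirectLimit (G A) fun i j h => trans A i j h

lemma of_step (n : ℕ) (x : G A n) :
    Ring.DirectLimit.of (G A) (fun i j h => trans A i j h) (n + 1) (step A n x) =
      Ring.DirectLimit.of (G A) (fun i j h => trans A i j h) n x := by
  have h1 : trans A n (n + 1) (Nat.le_succ n) = step A n := by
    rw [trans_succ A n n le_rfl, trans_self]; rfl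
  rw [← h1]
  exact Ring.DirectLimit.of_f (Nat.le_succ n) x

lemma step_splits (n : ℕ) (q : (G A n)[X]) (hq : q.Monic) :
    ∃ ρ : Fin q.natDegree → G A (n + 1), q.map (step A n) = ∏ i, (X - C (ρ i)) :=
  stepMap_splits q hq

theorem lim_splits (f : (Lim A)[X]) (hf : f.Monic) :
    ∃ s : Multiset (Lim A), f = (s.map fun b => X - C b).prod := by
  classical
  obtain ⟨n, p, hp⟩ := Ring.DirectLimit.Polynomial.exists_of (f' := trans A) f
  set d := f.natDegree with hd
  set p' : (G A n)[X] := X ^ d + ∑ i ∈ Finset.range d, C (p.coeff i) * X ^ i with hp'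
  have hdeg : (∑ i ∈ Finset.range d, C (p.coeff i) * X ^ i : (G A n)[X]).degree < d := by
    refine lt_of_le_of_lt (Polynomial.degree_sum_le _ _) ?_
    refine (Finset.sup_lt_iff (WithBot.bot_lt_coe d)).mpr ?_
    intro i hi
    refine lt_of_le_of_lt (Polynomial.degree_C_mul_X_pow_le _ _) ?_
    exact WithBot.coe_lt_coe.mpr (Finset.mem_range.mp hi)
  have hp'm : p'.Monic := Polynomial.monic_X_pow_add hdeg
  have hmap : p'.map (Ring.DirectLimit.of (G A) (fun i j h => trans A i j h) n) = f := by
    conv_rhs => rw [hf.as_sum]
    rw [hp', Polynomial.map_add, Polynomial.map_pow, Polynomial.map_X, Polynomial.map_sum]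
    congr 1
    refine Finset.sum_congr rfl fun i _ => ?_
    rw [Polynomial.map_mul, Polynomial.map_C, Polynomial.map_pow, Polynomial.map_X, ← hp,
      Polynomial.coeff_map]
  obtain ⟨ρ, hρ'⟩ := step_splits A n p' hp'm
  have hcomp : Ring.DirectLimit.of (G A) (fun i j h => trans A i j h) n =
      (Ring.DirectLimit.of (G A) (fun i j h => trans A i j h) (n + 1)).comp (step A n) := by
    ext x
    exact (of_step A n x).symm
  refine ⟨Finset.univ.val.map fun i =>
    Ring.DirectLimit.of (G A) (fun i j h => trans A i j h) (n + 1) (ρ i), ?_⟩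
  rw [← hmap, hcomp, ← Polynomial.map_map]
  rw [hρ', Polynomial.map_prod, Multiset.map_map, Finset.prod_eq_multiset_prod]
  congr 1
  refine Multiset.map_congr rfl fun i _ => ?_
  simp only [Function.comp_apply]
  rw [Polynomial.map_sub, Polynomial.map_X, Polynomial.map_C]

end Tower

theorem main077 (A : Type u) [CommRing A] :
    ∃ (B : Type u) (_ : CommRing B) (_ : Algebra A B), Function.Injective (algebraMap A B) ∧
      ∀ f : B[X], f.Monic → ∃ s : Multiset B, f = (s.map fun b => X - C b).prod := by
  rcases subsingleton_or_nontrivial A with hsub | hnt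
  · refine ⟨A, inferInstance, Algebra.id A, Function.injective_id, fun f _ => ⟨0, ?_⟩⟩
    exact Subsingleton.elim _ _
  · let φ : A →+* Lim A := Ring.DirectLimit.of (G A) (fun i j h => trans A i j h) 0
    refine ⟨Lim A, inferInstance, φ.toAlgebra, ?_, fun f hf => lim_splits A f hf⟩
    exact Ring.DirectLimit.of_injective (f' := trans A) (fun i j hij => trans_injective A i j hij) 0

end Groth.Agent.Lib.Helper8.AIC
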