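import Mathlib
import Groth.Prelude.Def_W4c1arstab1appArSing
set_option backward.isDefEq.respectTransparency.types false
set_option autoImplicit false
set_option linter.unusedSectionVars false
set_option linter.style.haveILetI false

namespace Groth.Agent.Lib.Helper8.AR

universe u

open MvPowerSeries

variable (k : Type u) [Field k] (r : ℕ)

/-- `k[[x,y]] ≃ k[[x]][[Y]]`, `x ↦ C x`, `y ↦ Y`. -/
noncomputable def Phi :
    MvPowerSeries (Fin 2) k ≃ₐ[k] PowerSeries (MvPowerSeries (Fin 1) k) :=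
  (MvPowerSeries.renameEquiv k (Equiv.swap (0 : Fin 2) 1)).trans (MvPowerSeries.finSuccEquiv k 1)

lemma Phi_X0 : Phi k (X 0) = PowerSeries.C (X 0 : MvPowerSeries (Fin 1) k) := by
  have h : (Equiv.swap (0 : Fin 2) 1) 0 = (0 : Fin 1).succ := by simp
  simp only [Phi, AlgEquiv.trans_apply]
  change (finSuccEquiv k 1) (rename (Equiv.swap (0 : Fin 2) 1) (X 0)) = _
  rw [rename_X, h, finSuccEquiv_X_succ]

lemma Phi_X1 : Phi k (X 1) = (PowerSeries.X : PowerSeries (MvPowerSeries (Fin 1) k)) := by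
  have h : (Equiv.swap (0 : Fin 2) 1) 1 = 0 := by simp
  simp only [Phi, AlgEquiv.trans_apply]
  change (finSuccEquiv k 1) (rename (Equiv.swap (0 : Fin 2) 1) (X 1)) = _
  rw [rename_X, h, finSuccEquiv_X_zero]

/-- the distinguished polynomial `Y^2 - x^(r+1)` -/
noncomputable def g0 : Polynomial (MvPowerSeries (Fin 1) k) :=
  Polynomial.X ^ 2 - Polynomial.C ((X 0 : MvPowerSeries (Fin 1) k) ^ (r + 1))

lemma Phi_eqn : Phi k (ArSing.eqn k r) = (g0 k r : PowerSeries (MvPowerSeries (Fin 1) k)) := by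
  simp only [ArSing.eqn, g0, map_sub, map_pow, Phi_X0, Phi_X1, Polynomial.coe_sub,
    Polynomial.coe_pow, Polynomial.coe_X, Polynomial.coe_C]

/-- the ideal of variables in `k[[x]]` -/
noncomputable abbrev I1 : Ideal (MvPowerSeries (Fin 1) k) :=
  Ideal.span (Set.range (X : Fin 1 → MvPowerSeries (Fin 1) k))

lemma I1_le_ker : I1 k ≤ RingHom.ker (constantCoeff (σ := Fin 1) (R := k)) := by
  rw [I1, Ideal.span_le]
  rintro _ ⟨i, rfl⟩
  simp [RingHom.mem_ker]

lemma one_notMem_I1 : (1 : MvPowerSeries (Fin 1) k) ∉ I1 k := by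
  intro h
  have := I1_le_ker k h
  simp [RingHom.mem_ker] at this

lemma g0_natDegree : (g0 k r).natDegree = 2 := by
  rw [g0, Polynomial.natDegree_X_pow_sub_C]

lemma g0_monic : (g0 k r).Monic := Polynomial.monic_X_pow_sub_C _ two_ne_zero

lemma g0_dist : (g0 k r).IsDistinguishedAt (I1 k) := by
  refine ⟨⟨?_⟩, g0_monic k r⟩
  intro n hn
  rw [g0_natDegree] at hn
  have hX : (X 0 : MvPowerSeries (Fin 1) k) ^ (r + 1) ∈ I1 k := by
    rw [pow_succ]; exact Ideal.mul_mem_left _ _ (Ideal.subset_span ⟨0, rfl⟩)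
  interval_cases n
  · simp only [g0, Polynomial.coeff_sub, Polynomial.coeff_X_pow, Polynomial.coeff_C_zero]
    simpa using hX
  · simp only [g0, Polynomial.coeff_sub, Polynomial.coeff_X_pow, Polynomial.coeff_C]
    simp

lemma g0_order : ((g0 k r : PowerSeries (MvPowerSeries (Fin 1) k)).map
    (Ideal.Quotient.mk (I1 k))).order.toNat = 2 := by
  have h := (g0_dist k r).coe_natDegree_eq_order_map
    (g0 k r : PowerSeries (MvPowerSeries (Fin 1) k)) 1
    (by simpa using one_notMem_I1 k) (by simp)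
  rw [← h, g0_natDegree]; rfl


/-- `C` as a `k`-algebra map -/
noncomputable def Ca : MvPowerSeries (Fin 1) k →ₐ[k] PowerSeries (MvPowerSeries (Fin 1) k) :=
  (Algebra.ofId (MvPowerSeries (Fin 1) k) (PowerSeries (MvPowerSeries (Fin 1) k))).restrictScalars k

lemma Ca_apply (c : MvPowerSeries (Fin 1) k) : Ca k c = PowerSeries.C c := rfl

/-- coordinate embedding `k[[x]] → k[[x,y]]` -/
noncomputable def iota2 : MvPowerSeries (Fin 1) k →ₐ[k] MvPowerSeries (Fin 2) k :=
  ((Phi k).symm : _ →ₐ[k] _).comp (Ca k)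

lemma iota2_apply (c : MvPowerSeries (Fin 1) k) : iota2 k c = (Phi k).symm (PowerSeries.C c) := rfl

lemma Phi_iota2 (c : MvPowerSeries (Fin 1) k) : Phi k (iota2 k c) = PowerSeries.C c := by
  rw [iota2_apply, AlgEquiv.apply_symm_apply]

lemma iota2_X : iota2 k (X 0) = X 0 := by
  rw [iota2_apply, ← Phi_X0, AlgEquiv.symm_apply_apply]

lemma exists_div (f : MvPowerSeries (Fin 2) k) :
    ∃ (h : MvPowerSeries (Fin 2) k) (c0 c1 : MvPowerSeries (Fin 1) k),
      f = ArSing.eqn k r * h + iota2 k c0 + iota2 k c1 * X 1 := by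
  have HD := (g0_dist k r).isWeierstrassDivisorAt'
  obtain ⟨hdeg, heq⟩ := HD.isWeierstrassDivisionAt_div_mod (Phi k f)
  rw [g0_order] at hdeg
  set R := HD.mod (Phi k f) with hRdef
  set Q := HD.div (Phi k f) with hQdef
  have hR : R = Polynomial.C (R.coeff 0) + Polynomial.C (R.coeff 1) * Polynomial.X := by
    ext n
    rcases n with _ | _ | n
    · simp
    · simp
    · have : R.coeff (n + 1 + 1) = 0 := by
        apply Polynomial.coeff_eq_zero_of_degree_lt
        refine lt_of_lt_of_le hdeg ?_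
        exact_mod_cast (by omega : 2 ≤ n + 1 + 1)
      rw [this]
      simp
  obtain ⟨a, b, hab⟩ : ∃ a b, R = Polynomial.C a + Polynomial.C b * Polynomial.X := ⟨_, _, hR⟩
  refine ⟨(Phi k).symm Q, a, b, ?_⟩
  apply (Phi k).injective
  rw [heq, hab]
  simp only [map_add, map_mul, Phi_eqn, AlgEquiv.apply_symm_apply, Phi_iota2, Phi_X1,
    Polynomial.coe_add, Polynomial.coe_mul, Polynomial.coe_C, Polynomial.coe_X]
  ring

lemma div_unique (h : MvPowerSeries (Fin 2) k) (c0 c1 : MvPowerSeries (Fin 1) k)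
    (H : ArSing.eqn k r * h + iota2 k c0 + iota2 k c1 * X 1 = 0) : c0 = 0 ∧ c1 = 0 := by
  have HD := (g0_dist k r).isWeierstrassDivisorAt'
  have H2 := congrArg (Phi k) H
  simp only [map_add, map_mul, Phi_eqn, Phi_iota2, Phi_X1, map_zero] at H2
  set R : Polynomial (MvPowerSeries (Fin 1) k) :=
    -(Polynomial.C c0 + Polynomial.C c1 * Polynomial.X) with hR
  have hdeg : R.degree < ((g0 k r : PowerSeries (MvPowerSeries (Fin 1) k)).map
      (Ideal.Quotient.mk (I1 k))).order.toNat := by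
    rw [g0_order, hR, Polynomial.degree_neg]
    refine lt_of_le_of_lt (Polynomial.degree_add_le _ _) ?_
    rw [max_lt_iff]
    constructor
    · exact lt_of_le_of_lt Polynomial.degree_C_le (by exact_mod_cast (by norm_num : (0:ℕ) < 2))
    · exact lt_of_le_of_lt (Polynomial.degree_C_mul_X_le _) (by exact_mod_cast (by norm_num : (1:ℕ) < 2))
  have heq : (g0 k r : PowerSeries (MvPowerSeries (Fin 1) k)) * Phi k h = (R : PowerSeries _) := by
    rw [hR]
    simp only [Polynomial.coe_neg, Polynomial.coe_add, Polynomial.coe_mul, Polynomial.coe_C,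
      Polynomial.coe_X]
    linear_combination H2
  obtain ⟨-, hR0⟩ := HD.eq_zero_of_mul_eq hdeg heq
  rw [hR, neg_eq_zero] at hR0
  constructor
  · have := congrArg (fun p => Polynomial.coeff p 0) hR0
    simpa using this
  · have := congrArg (fun p => Polynomial.coeff p 1) hR0
    simpa using this


/-- iso `k[[t]] ≃ k[[x]]` -/
noncomputable def iota1 : PowerSeries k ≃ₐ[k] MvPowerSeries (Fin 1) k :=
  MvPowerSeries.renameEquiv k (Equiv.ofUnique Unit (Fin 1))

lemma iota1_X : iota1 k (PowerSeries.X : PowerSeries k) = X 0 := by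
  change rename (Equiv.ofUnique Unit (Fin 1)) (X ()) = _
  rw [rename_X]
  congr 1

/-- the coordinate map `k[[t]] → A_r` (shown below to be `xMap`) -/
noncomputable def xm' : PowerSeries k →ₐ[k] ArSing.ring k r :=
  (Ideal.Quotient.mkₐ k (Ideal.span {ArSing.eqn k r})).comp
    ((iota2 k).comp (iota1 k : PowerSeries k →ₐ[k] MvPowerSeries (Fin 1) k))

lemma xm'_apply (p : PowerSeries k) :
    xm' k r p = Ideal.Quotient.mk _ (iota2 k (iota1 k p)) := rfl

lemma xm'_X : xm' k r PowerSeries.X = ArSing.x k r := by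
  rw [xm'_apply, iota1_X, iota2_X]

lemma repr' (a : ArSing.ring k r) :
    ∃ p q : PowerSeries k, a = xm' k r p + xm' k r q * ArSing.y k r := by
  obtain ⟨f, rfl⟩ := Ideal.Quotient.mk_surjective a
  obtain ⟨h, c0, c1, hf⟩ := exists_div k r f
  refine ⟨(iota1 k).symm c0, (iota1 k).symm c1, ?_⟩
  rw [xm'_apply, xm'_apply, AlgEquiv.apply_symm_apply, AlgEquiv.apply_symm_apply, hf]
  simp only [map_add, map_mul]
  have : Ideal.Quotient.mk (Ideal.span {ArSing.eqn k r}) (ArSing.eqn k r) = 0 :=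
    Ideal.Quotient.eq_zero_iff_mem.mpr (Ideal.subset_span rfl)
  rw [this, zero_mul, zero_add]

lemma uniq' (p q : PowerSeries k) (H : xm' k r p + xm' k r q * ArSing.y k r = 0) :
    p = 0 ∧ q = 0 := by
  rw [xm'_apply, xm'_apply] at H
  change Ideal.Quotient.mk _ _ + Ideal.Quotient.mk _ _ * Ideal.Quotient.mk _ (X 1) = 0 at H
  rw [← map_mul, ← map_add, Ideal.Quotient.eq_zero_iff_mem, Ideal.mem_span_singleton'] at H
  obtain ⟨h, hh⟩ := H
  have H2 : ArSing.eqn k r * (-h) + iota2 k (iota1 k p) + iota2 k (iota1 k q) * X 1 = 0 := by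
    linear_combination -hh
  obtain ⟨h1, h2⟩ := div_unique k r _ _ _ H2
  exact ⟨by simpa using h1, by simpa using h2⟩

lemma y_sq : ArSing.y k r * ArSing.y k r = ArSing.x k r ^ (r + 1) := by
  change Ideal.Quotient.mk _ (X 1) * Ideal.Quotient.mk _ (X 1) = (Ideal.Quotient.mk _ (X 0)) ^ (r + 1)
  rw [← map_mul, ← map_pow, Ideal.Quotient.mk_eq_mk_iff_sub_mem]
  apply Ideal.subset_span
  simp [ArSing.eqn, pow_two]


section U

variable {k}

theorem algHom_eq_of_X {C : Type*} [CommRing C] [Algebra k C] (τ₁ τ₂ : PowerSeries k →ₐ[k] C)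
    (c : C) (h1 : τ₁ PowerSeries.X = c) (h2 : τ₂ PowerSeries.X = c)
    (hsep : ∀ z : C, (∀ n : ℕ, c ^ n ∣ z) → z = 0) : τ₁ = τ₂ := by
  apply AlgHom.ext
  intro p
  rw [← sub_eq_zero]
  apply hsep
  intro n
  have hp := PowerSeries.eq_X_pow_mul_shift_add_trunc n p
  set s := PowerSeries.mk fun i => PowerSeries.coeff (i + n) p
  have hpoly : ∀ (q : Polynomial k), τ₁ (q : PowerSeries k) = τ₂ q := by
    intro q
    have h3 : τ₁.comp (Polynomial.coeToPowerSeries.algHom k) =
        τ₂.comp (Polynomial.coeToPowerSeries.algHom k) := by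
      apply Polynomial.algHom_ext
      simp [h1, h2]
    have h4 := congrArg (fun g => g q) h3
    simpa using h4
  refine ⟨τ₁ s - τ₂ s, ?_⟩
  conv_lhs => rw [hp]
  simp only [map_add, map_mul, map_pow, h1, h2, hpoly]
  ring

end U

lemma xm'_mul_form (p q p' q' : PowerSeries k) :
    (xm' k r p + xm' k r q * ArSing.y k r) * (xm' k r p' + xm' k r q' * ArSing.y k r) =
      xm' k r (p * p' + q * q' * PowerSeries.X ^ (r + 1)) +
        xm' k r (p * q' + q * p') * ArSing.y k r := by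
  simp only [map_add, map_mul, map_pow, xm'_X]
  linear_combination (xm' k r q * xm' k r q') * y_sq k r

lemma x_pow_mul_form (n : ℕ) (p q : PowerSeries k) :
    ArSing.x k r ^ n * (xm' k r p + xm' k r q * ArSing.y k r) =
      xm' k r (PowerSeries.X ^ n * p) + xm' k r (PowerSeries.X ^ n * q) * ArSing.y k r := by
  simp only [map_mul, map_pow, xm'_X]
  ring

lemma uniq'' (p q p' q' : PowerSeries k)
    (H : xm' k r p + xm' k r q * ArSing.y k r = xm' k r p' + xm' k r q' * ArSing.y k r) :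
    p = p' ∧ q = q' := by
  have H2 : xm' k r (p - p') + xm' k r (q - q') * ArSing.y k r = 0 := by
    simp only [map_sub]; linear_combination H
  obtain ⟨h1, h2⟩ := uniq' k r _ _ H2
  exact ⟨sub_eq_zero.mp h1, sub_eq_zero.mp h2⟩

lemma sepX (z : ArSing.ring k r) (hz : ∀ n : ℕ, ArSing.x k r ^ n ∣ z) : z = 0 := by
  obtain ⟨p, q, rfl⟩ := repr' k r z
  have hpq : ∀ n : ℕ, (PowerSeries.X : PowerSeries k) ^ n ∣ p ∧ (PowerSeries.X : PowerSeries k) ^ n ∣ q := by
    intro n
    obtain ⟨w, hw⟩ := hz n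
    obtain ⟨p', q', rfl⟩ := repr' k r w
    rw [x_pow_mul_form] at hw
    obtain ⟨h1, h2⟩ := uniq'' k r _ _ _ _ hw
    exact ⟨⟨p', h1⟩, ⟨q', h2⟩⟩
  have h0 : ∀ f : PowerSeries k, (∀ n : ℕ, (PowerSeries.X : PowerSeries k) ^ n ∣ f) → f = 0 := by
    intro f hf
    ext n
    have := (PowerSeries.X_pow_dvd_iff.mp (hf (n + 1))) n (Nat.lt_succ_self n)
    simpa using this
  rw [h0 p (fun n => (hpq n).1), h0 q (fun n => (hpq n).2)]
  simp

theorem xMap_eq : ArSing.xMap k r = xm' k r := by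
  apply algHom_eq_of_X _ _ (ArSing.x k r) ?_ (xm'_X k r) (sepX k r)
  simp only [ArSing.xMap, AlgHom.comp_apply, PowerSeries.coe_substAlgHom]
  rw [PowerSeries.subst_X]
  · rfl
  · exact PowerSeries.HasSubst.of_constantCoeff_zero (MvPowerSeries.constantCoeff_X (0 : Fin 2))


/-! ### API in terms of `ArSing.xMap` -/

lemma xMap_X : ArSing.xMap k r PowerSeries.X = ArSing.x k r := by
  rw [xMap_eq, xm'_X]

lemma repr (a : ArSing.ring k r) :
    ∃ p q : PowerSeries k, a = ArSing.xMap k r p + ArSing.xMap k r q * ArSing.y k r := by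
  rw [xMap_eq]; exact repr' k r a

lemma uniq (p q p' q' : PowerSeries k)
    (H : ArSing.xMap k r p + ArSing.xMap k r q * ArSing.y k r =
      ArSing.xMap k r p' + ArSing.xMap k r q' * ArSing.y k r) : p = p' ∧ q = q' := by
  rw [xMap_eq] at H; exact uniq'' k r _ _ _ _ H

lemma uniq0 (p q : PowerSeries k)
    (H : ArSing.xMap k r p + ArSing.xMap k r q * ArSing.y k r = 0) : p = 0 ∧ q = 0 := by
  rw [xMap_eq] at H; exact uniq' k r _ _ H

lemma xMap_injective : Function.Injective (ArSing.xMap k r) := by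
  intro p p' h
  have := uniq k r p 0 p' 0 (by simp [h])
  exact this.1

lemma mul_form (p q p' q' : PowerSeries k) :
    (ArSing.xMap k r p + ArSing.xMap k r q * ArSing.y k r) *
      (ArSing.xMap k r p' + ArSing.xMap k r q' * ArSing.y k r) =
      ArSing.xMap k r (p * p' + q * q' * PowerSeries.X ^ (r + 1)) +
        ArSing.xMap k r (p * q' + q * p') * ArSing.y k r := by
  rw [xMap_eq]; exact xm'_mul_form k r p q p' q'

lemma y_sq' : ArSing.y k r * ArSing.y k r = ArSing.xMap k r (PowerSeries.X ^ (r + 1)) := by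
  rw [map_pow, xMap_X, y_sq]

lemma sep_of_dvd_pow (c : ArSing.ring k r) (N : ℕ) (h : ArSing.x k r ∣ c ^ N)
    (z : ArSing.ring k r) (hz : ∀ n : ℕ, c ^ n ∣ z) : z = 0 := by
  apply sepX k r z
  intro n
  have h1 : ArSing.x k r ^ n ∣ c ^ (N * n) := by
    rw [pow_mul]; exact pow_dvd_pow_of_dvd h n
  exact h1.trans (hz _)

end Groth.Agent.Lib.Helper8.AR
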