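import Mathlib
import Groth.Agent.Lib.Helper8.AR1
set_option backward.isDefEq.respectTransparency.types false
set_option autoImplicit false
set_option linter.unusedSectionVars false
set_option linter.style.haveILetI false

namespace Groth.Agent.Lib.Helper8.AR

universe u

open ArSing

variable (k : Type u) [Field k] (r : ℕ)

lemma xMap_mul_form (t p q : PowerSeries k) :
    xMap k r t * (xMap k r p + xMap k r q * y k r) =
      xMap k r (t * p) + xMap k r (t * q) * y k r := by
  simp only [map_mul]; ring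

lemma y_mul_form (p q : PowerSeries k) :
    (xMap k r p + xMap k r q * y k r) * y k r =
      xMap k r (q * PowerSeries.X ^ (r + 1)) + xMap k r p * y k r := by
  rw [map_mul, ← y_sq']; ring

lemma two_ne_zero' (h2 : (2 : k) ≠ 0) : (2 : PowerSeries k) ≠ 0 := by
  intro h
  have := congrArg PowerSeries.constantCoeff h
  simp at this
  exact h2 this

lemma x_not_isUnit : ¬ IsUnit (x k r) := by
  intro h
  obtain ⟨w, hw⟩ := h.exists_right_inv
  obtain ⟨p, q, rfl⟩ := repr k r w
  rw [← xMap_X, xMap_mul_form] at hw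
  have h1 : xMap k r (PowerSeries.X * p) + xMap k r (PowerSeries.X * q) * y k r =
      xMap k r 1 + xMap k r 0 * y k r := by rw [hw]; simp
  obtain ⟨h2, -⟩ := uniq k r _ _ _ _ h1
  have := congrArg PowerSeries.constantCoeff h2
  simp at this

lemma y_mem_nonZeroDivisors : y k r ∈ nonZeroDivisors (ring k r) := by
  rw [mem_nonZeroDivisors_iff_right]
  intro z hz
  obtain ⟨p, q, rfl⟩ := repr k r z
  rw [y_mul_form] at hz
  obtain ⟨h1, h2⟩ := uniq0 k r _ _ hz
  have h3 : q = 0 := by
    rcases mul_eq_zero.mp h1 with h | h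
    · exact h
    · exact absurd h (pow_ne_zero _ PowerSeries.X_ne_zero)
  rw [h2, h3]; simp

/-- kernel of `k[[t]] → A_r/(y)` -/
lemma xMap_mem_span_y_iff (p : PowerSeries k) :
    xMap k r p ∈ Ideal.span {y k r} ↔ (PowerSeries.X : PowerSeries k) ^ (r + 1) ∣ p := by
  rw [Ideal.mem_span_singleton']
  constructor
  · rintro ⟨w, hw⟩
    obtain ⟨p', q', rfl⟩ := repr k r w
    rw [y_mul_form] at hw
    have h1 : xMap k r (q' * PowerSeries.X ^ (r + 1)) + xMap k r p' * y k r =
        xMap k r p + xMap k r 0 * y k r := by rw [hw]; simp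
    obtain ⟨h2, -⟩ := uniq k r _ _ _ _ h1
    exact ⟨q', by rw [← h2]; ring⟩
  · rintro ⟨q', rfl⟩
    refine ⟨xMap k r q' * y k r, ?_⟩
    rw [map_mul, ← y_sq']; ring

theorem xMap_flat : (xMap k r).toRingHom.Flat := by
  letI : Algebra (PowerSeries k) (ring k r) := (xMap k r).toRingHom.toAlgebra
  change Module.Flat (PowerSeries k) (ring k r)
  let L : (PowerSeries k × PowerSeries k) →ₗ[PowerSeries k] ring k r :=
    { toFun := fun pq => xMap k r pq.1 + xMap k r pq.2 * y k r
      map_add' := by intro a b; simp only [Prod.fst_add, Prod.snd_add, map_add]; ring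
      map_smul' := by
        intro t pq
        have hsm : ∀ (t : PowerSeries k) (a : ring k r), t • a = xMap k r t * a := fun t a => rfl
        simp only [Prod.smul_fst, Prod.smul_snd, smul_eq_mul, map_mul, RingHom.id_apply, hsm]
        ring }
  have hL : Function.Bijective L := by
    constructor
    · rintro ⟨p, q⟩ ⟨p', q'⟩ h
      obtain ⟨h1, h2⟩ := uniq k r _ _ _ _ h
      exact Prod.ext h1 h2
    · intro a
      obtain ⟨p, q, rfl⟩ := repr k r a
      exact ⟨(p, q), rfl⟩
  exact Module.Flat.of_linearEquiv (LinearEquiv.ofBijective L hL).symm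

theorem map_maximalIdeal_ne_top :
    Ideal.map (xMap k r) (IsLocalRing.maximalIdeal (PowerSeries k)) ≠ ⊤ := by
  rw [PowerSeries.maximalIdeal_eq_span_X, Ideal.map_span, Set.image_singleton, xMap_X]
  rw [Ne, Ideal.span_singleton_eq_top]
  exact x_not_isUnit k r

/-- general transport of length along a semilinear bijection over a surjective ring map -/
theorem length_eq_of_semilinear_bijective {R R' M M' : Type*} [Ring R] [Ring R']
    [AddCommGroup M] [AddCommGroup M'] [Module R M] [Module R' M'] (ρ : R →+* R')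
    (hρ : Function.Surjective ρ) (ψ : M →ₛₗ[ρ] M') (hψ : Function.Bijective ψ) :
    Module.length R M = Module.length R' M' := by
  haveI : RingHomSurjective ρ := ⟨hρ⟩
  rw [Module.length, Module.length, WithBot.unbot_inj,
    Order.krullDim_eq_of_orderIso (Submodule.orderIsoMapComapOfBijective ψ hψ)]

theorem length_quot_y :
    Module.length (ring k r) (ring k r ⧸ Ideal.span {y k r}) = r + 1 := by
  set Jy := Ideal.span {y k r} with hJy
  have h1 : Module.length (ring k r) (ring k r ⧸ Jy) =
      Module.length (ring k r ⧸ Jy) (ring k r ⧸ Jy) :=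
    Module.length_eq_of_surjective (S := ring k r) (R := ring k r ⧸ Jy) (M := ring k r ⧸ Jy)
      Ideal.Quotient.mk_surjective
  let ρ : PowerSeries k →+* (ring k r ⧸ Jy) := (Ideal.Quotient.mk Jy).comp (xMap k r).toRingHom
  have hρ : Function.Surjective ρ := by
    intro t
    obtain ⟨a, rfl⟩ := Ideal.Quotient.mk_surjective t
    obtain ⟨p, q, rfl⟩ := repr k r a
    refine ⟨p, ?_⟩
    change Ideal.Quotient.mk Jy (xMap k r p) = _
    rw [eq_comm, Ideal.Quotient.mk_eq_mk_iff_sub_mem]
    rw [add_sub_cancel_left]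
    exact Ideal.mul_mem_left _ _ (Ideal.subset_span rfl)
  let ψ₀ : PowerSeries k →ₛₗ[ρ] (ring k r ⧸ Jy) :=
    { toFun := ρ
      map_add' := map_add ρ
      map_smul' := fun t p => by simp [smul_eq_mul] }
  have hker : LinearMap.ker ψ₀ = IsLocalRing.maximalIdeal (PowerSeries k) ^ (r + 1) := by
    ext p
    rw [LinearMap.mem_ker, PowerSeries.maximalIdeal_eq_span_X, Ideal.span_singleton_pow,
      Ideal.mem_span_singleton]
    change Ideal.Quotient.mk Jy (xMap k r p) = 0 ↔ _
    rw [Ideal.Quotient.eq_zero_iff_mem]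
    exact xMap_mem_span_y_iff k r p
  let ψ : (PowerSeries k ⧸ IsLocalRing.maximalIdeal (PowerSeries k) ^ (r + 1)) →ₛₗ[ρ]
      (ring k r ⧸ Jy) :=
    Submodule.liftQ _ ψ₀ (le_of_eq hker.symm)
  have hψ : Function.Bijective ψ := by
    constructor
    · rw [← LinearMap.ker_eq_bot, Submodule.ker_liftQ, hker]
      simp
    · intro t
      obtain ⟨p, rfl⟩ := hρ t
      exact ⟨Submodule.Quotient.mk p, rfl⟩
  rw [h1, ← length_eq_of_semilinear_bijective ρ hρ ψ hψ,
    IsDiscreteValuationRing.length_quotient_pow_maximalIdeal]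
  rfl

section S93

variable {k r}
variable (σ : ring k r ≃ₐ[k] ring k r) (hx : σ (x k r) = x k r) (hy : σ (y k r) = - y k r)

include hx in
lemma sigma_xMap (p : PowerSeries k) : σ (xMap k r p) = xMap k r p := by
  have h := algHom_eq_of_X ((σ : ring k r →ₐ[k] ring k r).comp (xMap k r)) (xMap k r) (x k r)
    (by simp [xMap_X, hx]) (xMap_X k r) (sepX k r)
  exact DFunLike.congr_fun h p

include hx hy in
lemma sigma_form (p q : PowerSeries k) :
    σ (xMap k r p + xMap k r q * y k r) = xMap k r p + xMap k r (-q) * y k r := by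
  rw [map_add, map_mul, sigma_xMap σ hx, sigma_xMap σ hx, hy, map_neg]; ring

include hx hy in
theorem fixed_iff (h2 : (2 : k) ≠ 0) (a : ring k r) : σ a = a ↔ a ∈ (xMap k r).range := by
  constructor
  · intro h
    obtain ⟨p, q, rfl⟩ := repr k r a
    rw [sigma_form σ hx hy] at h
    obtain ⟨-, hq⟩ := uniq k r _ _ _ _ h
    have h4 : (2 : PowerSeries k) * q = 0 := by linear_combination -hq
    have h5 : q = 0 := (mul_eq_zero.mp h4).resolve_left (two_ne_zero' k h2)
    rw [h5]
    exact ⟨p, by simp⟩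
  · rintro ⟨p, rfl⟩
    exact sigma_xMap σ hx p

include hx hy in
theorem span_fixed (h2 : (2 : k) ≠ 0) :
    Ideal.span (Set.range fun a : ring k r => σ a - a) = Ideal.span {y k r} := by
  apply le_antisymm
  · rw [Ideal.span_le]
    rintro _ ⟨a, rfl⟩
    obtain ⟨p, q, rfl⟩ := repr k r a
    simp only
    rw [sigma_form σ hx hy]
    rw [SetLike.mem_coe, Ideal.mem_span_singleton']
    refine ⟨xMap k r (-2 * q), ?_⟩
    simp only [map_neg, map_mul, map_ofNat]; ring
  · rw [Ideal.span_le, Set.singleton_subset_iff]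
    apply Ideal.subset_span
    refine ⟨xMap k r (PowerSeries.C (-(2 : k)⁻¹)) * y k r, ?_⟩
    have h3 : xMap k r (PowerSeries.C (-(2 : k)⁻¹)) * y k r =
        xMap k r 0 + xMap k r (PowerSeries.C (-(2 : k)⁻¹)) * y k r := by simp
    simp only
    rw [h3, sigma_form σ hx hy]
    have h4 : (-PowerSeries.C (-(2 : k)⁻¹) - PowerSeries.C (-(2 : k)⁻¹) : PowerSeries k) = 1 := by
      rw [← map_neg, ← map_sub, ← map_one PowerSeries.C]
      congr 1
      field_simp
      ring
    have h5 : xMap k r (-PowerSeries.C (-(2 : k)⁻¹)) - xMap k r (PowerSeries.C (-(2 : k)⁻¹)) = 1 := by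
      rw [← map_sub, h4, map_one]
    linear_combination (y k r) * h5

include hx hy in
theorem main93 (h2 : (2 : k) ≠ 0) :
    (∀ a : ArSing.ring k r, σ a = a ↔ a ∈ (ArSing.xMap k r).range) ∧
    ((ArSing.xMap k r).toRingHom.Flat ∧
      Ideal.map (ArSing.xMap k r) (IsLocalRing.maximalIdeal (PowerSeries k)) ≠ ⊤) ∧
    (∃ g : ArSing.ring k r, g ∈ nonZeroDivisors (ArSing.ring k r) ∧
      Ideal.span (Set.range fun a : ArSing.ring k r => σ a - a) = Ideal.span {g}) ∧
    Module.length (ArSing.ring k r)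
      (ArSing.ring k r ⧸ Ideal.span (Set.range fun a : ArSing.ring k r => σ a - a)) = r + 1 := by
  refine ⟨fixed_iff σ hx hy h2, ⟨xMap_flat k r, map_maximalIdeal_ne_top k r⟩,
    ⟨y k r, y_mem_nonZeroDivisors k r, span_fixed σ hx hy h2⟩, ?_⟩
  rw [span_fixed σ hx hy h2]
  exact length_quot_y k r

end S93

end Groth.Agent.Lib.Helper8.AR
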