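import Mathlib
import Groth.Agent.Lib.Helper8.AR2
set_option backward.isDefEq.respectTransparency.types false
set_option autoImplicit false
set_option linter.unusedSectionVars false
set_option linter.style.haveILetI false

namespace Groth.Agent.Lib.Helper8.AR

universe u

open ArSing

section General

/-- non-flatness criterion from the equational criterion, two-term relations -/
theorem mem_smul_top_of_flat {R M : Type*} [CommRing R] [AddCommGroup M] [Module R M]
    [Module.Flat R M] (f₁ f₂ : R) (x₁ x₂ : M) (h : f₁ • x₁ + f₂ • x₂ = 0) (K : Ideal R)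
    (hK : ∀ a b : R, f₁ * a + f₂ * b = 0 → a ∈ K) : x₁ ∈ K • (⊤ : Submodule R M) := by
  have h' : ∑ i : Fin 2, (![f₁, f₂] i) • (![x₁, x₂] i) = 0 := by
    simpa [Fin.sum_univ_two] using h
  obtain ⟨n, a, y, hxy, hfa⟩ := Module.Flat.isTrivialRelation_of_sum_smul_eq_zero h'
  have h0 := hxy 0
  simp only [Matrix.cons_val_zero] at h0
  rw [h0]
  refine Submodule.sum_mem _ fun j _ => ?_
  refine Submodule.smul_mem_smul ?_ Submodule.mem_top
  apply hK (a 0 j) (a 1 j)
  have := hfa j
  simpa [Fin.sum_univ_two] using this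

/-- length of `R/J` from `R/J'` when `J' = J + (g)` and `(J : g)` is maximal -/
theorem length_quot_succ {R : Type*} [CommRing R] (J J' K : Ideal R) (g : R)
    (hJ' : J' = J ⊔ Ideal.span {g}) (hK : ∀ a : R, a ∈ K ↔ g * a ∈ J) (hKmax : K.IsMaximal) :
    Module.length R (R ⧸ J) = Module.length R (R ⧸ J') + 1 := by
  have hJJ' : J ≤ J' := by rw [hJ']; exact le_sup_left
  let f : (R ⧸ K) →ₗ[R] (R ⧸ J) :=
    Submodule.mapQ K J (LinearMap.mulLeft R g) (by
      intro a ha
      rw [Submodule.mem_comap, LinearMap.mulLeft_apply]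
      exact (hK a).mp ha)
  let p : (R ⧸ J) →ₗ[R] (R ⧸ J') := Submodule.factor hJJ'
  have hf : Function.Injective f := by
    rw [← LinearMap.ker_eq_bot, LinearMap.ker_eq_bot']
    intro t ht
    obtain ⟨a, rfl⟩ := Submodule.Quotient.mk_surjective _ t
    rw [Submodule.mapQ_apply, LinearMap.mulLeft_apply, Submodule.Quotient.mk_eq_zero] at ht
    rw [Submodule.Quotient.mk_eq_zero]
    exact (hK a).mpr ht
  have hp : Function.Surjective p := Submodule.factor_surjective hJJ'
  have hex : Function.Exact f p := by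
    intro t
    obtain ⟨b, rfl⟩ := Submodule.Quotient.mk_surjective _ t
    constructor
    · intro hb
      change (Submodule.Quotient.mk b : R ⧸ J') = 0 at hb
      rw [Submodule.Quotient.mk_eq_zero, hJ', Submodule.mem_sup] at hb
      obtain ⟨j, hj, c, hc, rfl⟩ := hb
      obtain ⟨a, rfl⟩ := Ideal.mem_span_singleton'.mp hc
      refine ⟨Submodule.Quotient.mk a, ?_⟩
      rw [Submodule.mapQ_apply, LinearMap.mulLeft_apply, eq_comm, Submodule.Quotient.eq]
      have : j + a * g - g * a = j := by ring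
      rw [this]; exact hj
    · rintro ⟨t', ht'⟩
      obtain ⟨a, rfl⟩ := Submodule.Quotient.mk_surjective _ t'
      rw [Submodule.mapQ_apply, LinearMap.mulLeft_apply] at ht'
      rw [← ht']
      change (Submodule.Quotient.mk (g * a) : R ⧸ J') = 0
      rw [Submodule.Quotient.mk_eq_zero, hJ']
      exact Ideal.mem_sup_right (Ideal.mul_mem_right _ _ (Ideal.subset_span rfl))
  have hsimple : Module.length R (R ⧸ K) = 1 := by
    rw [Module.length_eq_one_iff]
    exact isSimpleModule_iff_isCoatom.mpr (Ideal.isMaximal_def.mp hKmax)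
  rw [Module.length_eq_add_of_exact f p hf hp hex, hsimple, add_comm]

end General


section PS

variable (k : Type u) [Field k]

/-- `t ↦ t²` -/
noncomputable abbrev E2 : PowerSeries k →ₐ[k] PowerSeries k := PowerSeries.expand 2 two_ne_zero

/-- `t ↦ -t` -/
noncomputable abbrev Ng : PowerSeries k →ₐ[k] PowerSeries k := PowerSeries.rescaleAlgHom (-1)

variable {k}

lemma Ng_apply (p : PowerSeries k) : Ng k p = PowerSeries.rescale (-1) p := by
  exact DFunLike.congr_fun (PowerSeries.coe_rescaleAlgHom (-1 : k)) p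

lemma Ng_X : Ng k PowerSeries.X = -PowerSeries.X := by
  rw [Ng_apply, PowerSeries.rescale_neg_one_X]

lemma E2_X : E2 k PowerSeries.X = PowerSeries.X ^ 2 := PowerSeries.expand_X 2 two_ne_zero

lemma Ng_E2 (a : PowerSeries k) : Ng k (E2 k a) = E2 k a := by
  rw [Ng_apply]
  ext n
  rw [PowerSeries.coeff_rescale, PowerSeries.coeff_expand]
  split_ifs with h
  · obtain ⟨m, rfl⟩ := h
    rw [pow_mul]; simp
  · simp

lemma eo_decomp (p : PowerSeries k) :
    ∃ a b : PowerSeries k, p = E2 k a + PowerSeries.X * E2 k b := by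
  refine ⟨PowerSeries.mk fun n => PowerSeries.coeff (2 * n) p,
    PowerSeries.mk fun n => PowerSeries.coeff (2 * n + 1) p, ?_⟩
  ext n
  rw [map_add, PowerSeries.coeff_expand]
  rcases n with _ | n
  · simp
  · rw [PowerSeries.coeff_succ_X_mul, PowerSeries.coeff_expand]
    by_cases h : 2 ∣ n
    · obtain ⟨m, rfl⟩ := h
      have h1 : ¬ 2 ∣ 2 * m + 1 := by omega
      rw [if_neg h1, if_pos ⟨m, rfl⟩, zero_add, PowerSeries.coeff_mk]
      congr 2
      omega
    · have h1 : 2 ∣ n + 1 := by omega
      rw [if_pos h1, if_neg h, add_zero, PowerSeries.coeff_mk]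
      obtain ⟨m, hm⟩ := h1
      rw [hm, Nat.mul_div_cancel_left m (by norm_num : 0 < 2)]

lemma eo_uniq (a b : PowerSeries k) (h : E2 k a + PowerSeries.X * E2 k b = 0) :
    a = 0 ∧ b = 0 := by
  constructor
  · ext n
    have h1 := congrArg (PowerSeries.coeff (2 * n)) h
    rw [map_add, PowerSeries.coeff_expand_mul, map_zero] at h1
    rcases n with _ | n
    · simpa using h1
    · have h2 : PowerSeries.coeff (2 * (n + 1)) (PowerSeries.X * E2 k b) = 0 := by
        have h3 : 2 * (n + 1) = (2 * n + 1) + 1 := by ring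
        rw [h3, PowerSeries.coeff_succ_X_mul, PowerSeries.coeff_expand_of_not_dvd _ _ _ (by omega)]
      rw [h2, add_zero] at h1
      simpa using h1
  · ext n
    have h1 := congrArg (PowerSeries.coeff (2 * n + 1)) h
    rw [map_add, PowerSeries.coeff_expand_of_not_dvd _ _ _ (by omega), zero_add,
      PowerSeries.coeff_succ_X_mul, PowerSeries.coeff_expand_mul, map_zero] at h1
    simpa using h1

lemma eo_uniq' (a b a' b' : PowerSeries k)
    (h : E2 k a + PowerSeries.X * E2 k b = E2 k a' + PowerSeries.X * E2 k b') :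
    a = a' ∧ b = b' := by
  have h2 : E2 k (a - a') + PowerSeries.X * E2 k (b - b') = 0 := by
    simp only [map_sub]; linear_combination h
  obtain ⟨h3, h4⟩ := eo_uniq _ _ h2
  exact ⟨sub_eq_zero.mp h3, sub_eq_zero.mp h4⟩

lemma E2_injective : Function.Injective (E2 k) := by
  intro a a' h
  have := eo_uniq' a 0 a' 0 (by simp [h])
  exact this.1

lemma Ng_form (a b : PowerSeries k) :
    Ng k (E2 k a + PowerSeries.X * E2 k b) = E2 k a + PowerSeries.X * E2 k (-b) := by
  rw [map_add, map_mul, Ng_E2, Ng_E2, Ng_X, map_neg]; ring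

end PS


section Aug

variable (k : Type u) [Field k] (r : ℕ)

/-- constant coefficient as an algebra map -/
noncomputable def cc2 : MvPowerSeries (Fin 2) k →ₐ[k] k :=
  { (MvPowerSeries.constantCoeff (σ := Fin 2) (R := k)) with
    commutes' := fun c => by
      simp [MvPowerSeries.algebraMap_apply] }

lemma cc2_apply (f : MvPowerSeries (Fin 2) k) : cc2 k f = MvPowerSeries.constantCoeff f := rfl

/-- the augmentation `A_r → k` -/
noncomputable def aug : ring k r →ₐ[k] k :=
  Ideal.Quotient.liftₐ (Ideal.span {eqn k r}) (cc2 k) (by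
    intro a ha
    obtain ⟨b, rfl⟩ := Ideal.mem_span_singleton'.mp ha
    rw [map_mul, cc2_apply, cc2_apply]
    simp [eqn])

lemma aug_x : aug k r (x k r) = 0 := by
  change cc2 k (MvPowerSeries.X 0) = 0
  simp [cc2_apply]

lemma aug_y : aug k r (y k r) = 0 := by
  change cc2 k (MvPowerSeries.X 1) = 0
  simp [cc2_apply]

lemma aug_xMap (p : PowerSeries k) : aug k r (xMap k r p) = PowerSeries.constantCoeff p := by
  have h := algHom_eq_of_X ((aug k r).comp (xMap k r))
    ({ (PowerSeries.constantCoeff (R := k)) with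
        commutes' := fun c => by simp } : PowerSeries k →ₐ[k] k)
    0 (by simp [xMap_X, aug_x]) (by simp) (fun z hz => by simpa using hz 1)
  exact DFunLike.congr_fun h p

lemma aug_form (p q : PowerSeries k) :
    aug k r (xMap k r p + xMap k r q * y k r) = PowerSeries.constantCoeff p := by
  rw [map_add, map_mul, aug_y, mul_zero, add_zero, aug_xMap]

lemma aug_surjective : Function.Surjective (aug k r) := fun c =>
  ⟨algebraMap k _ c, by simp⟩

instance ker_aug_isMaximal : (RingHom.ker (aug k r)).IsMaximal :=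
  RingHom.ker_isMaximal_of_surjective (aug k r) (aug_surjective k r)

lemma x_mul_form (p q : PowerSeries k) :
    x k r * (xMap k r p + xMap k r q * y k r) =
      xMap k r (PowerSeries.X * p) + xMap k r (PowerSeries.X * q) * y k r := by
  rw [← xMap_X, xMap_mul_form]

lemma x_mem_nonZeroDivisors : x k r ∈ nonZeroDivisors (ring k r) := by
  rw [mem_nonZeroDivisors_iff_right]
  intro z hz
  obtain ⟨p, q, rfl⟩ := repr k r z
  rw [mul_comm, x_mul_form] at hz
  obtain ⟨h1, h2⟩ := uniq0 k r _ _ hz
  have h3 : p = 0 := (mul_eq_zero.mp h1).resolve_left PowerSeries.X_ne_zero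
  have h4 : q = 0 := (mul_eq_zero.mp h2).resolve_left PowerSeries.X_ne_zero
  rw [h3, h4]; simp

lemma mem_span_x_iff (p q : PowerSeries k) :
    xMap k r p + xMap k r q * y k r ∈ Ideal.span {x k r} ↔
      PowerSeries.X ∣ p ∧ PowerSeries.X ∣ q := by
  rw [Ideal.mem_span_singleton']
  constructor
  · rintro ⟨w, hw⟩
    obtain ⟨p', q', rfl⟩ := repr k r w
    rw [mul_comm, x_mul_form] at hw
    obtain ⟨h1, h2⟩ := uniq k r _ _ _ _ hw
    exact ⟨⟨p', h1.symm⟩, ⟨q', h2.symm⟩⟩
  · rintro ⟨⟨p', rfl⟩, ⟨q', rfl⟩⟩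
    exact ⟨xMap k r p' + xMap k r q' * y k r, by rw [mul_comm, x_mul_form]⟩

lemma y_not_mem_span_x : y k r ∉ Ideal.span {x k r} := by
  intro h
  have h1 : y k r = xMap k r 0 + xMap k r 1 * y k r := by simp
  rw [h1, mem_span_x_iff] at h
  have := PowerSeries.X_dvd_iff.mp h.2
  simp at this

lemma mem_ker_aug_iff (p q : PowerSeries k) :
    xMap k r p + xMap k r q * y k r ∈ RingHom.ker (aug k r) ↔ PowerSeries.X ∣ p := by
  rw [RingHom.mem_ker, aug_form, PowerSeries.X_dvd_iff]

lemma ker_aug_eq : RingHom.ker (aug k r) = Ideal.span {x k r, y k r} := by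
  apply le_antisymm
  · intro a ha
    obtain ⟨p, q, rfl⟩ := repr k r a
    rw [mem_ker_aug_iff] at ha
    obtain ⟨p', rfl⟩ := ha
    rw [Ideal.mem_span_pair]
    exact ⟨xMap k r p', xMap k r q, by rw [map_mul, xMap_X]; ring⟩
  · rw [Ideal.span_le]
    rintro a (rfl | rfl)
    · exact aug_x k r
    · exact aug_y k r

end Aug

section Homs

variable {k : Type u} [Field k] {r : ℕ}

/-- an automorphism with `x ↦ -x` acts on `k[[x]]` by `t ↦ -t` -/
lemma sigma_xMap_neg (σ : ring k r ≃ₐ[k] ring k r) (hx : σ (x k r) = -x k r) (p : PowerSeries k) :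
    σ (xMap k r p) = xMap k r (Ng k p) := by
  have h := algHom_eq_of_X ((σ : ring k r →ₐ[k] ring k r).comp (xMap k r))
    ((xMap k r).comp (Ng k)) (-x k r)
    (by simp [xMap_X, hx]) (by simp [Ng_X, xMap_X])
    (sep_of_dvd_pow k r (-x k r) 1 (by rw [pow_one]; exact ⟨-1, by ring⟩))
  exact DFunLike.congr_fun h p

/-- a homomorphism with `x ↦ x²` acts on `k[[x]]` by `t ↦ t²` -/
lemma phi_xMap_sq {s : ℕ} (φ : ring k s →ₐ[k] ring k r) (hx : φ (x k s) = x k r ^ 2)
    (p : PowerSeries k) : φ (xMap k s p) = xMap k r (E2 k p) := by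
  have h := algHom_eq_of_X (φ.comp (xMap k s)) ((xMap k r).comp (E2 k)) (x k r ^ 2)
    (by simp [xMap_X, hx]) (by simp [xMap_X])
    (sep_of_dvd_pow k r (x k r ^ 2) 1 (by simp [pow_two]))
  exact DFunLike.congr_fun h p

end Homs

end Groth.Agent.Lib.Helper8.AR
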