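import Mathlib
import Groth.Agent.Lib.Helper8.AR3
set_option backward.isDefEq.respectTransparency.types false
set_option autoImplicit false
set_option linter.unusedSectionVars false
set_option linter.style.haveILetI false

namespace Groth.Agent.Lib.Helper8.AR

universe u

open ArSing

section PS2

variable {k : Type u} [Field k]

lemma Ng_fixed_iff (h2 : (2 : k) ≠ 0) (p : PowerSeries k) :
    Ng k p = p ↔ ∃ a, p = E2 k a := by
  constructor
  · intro h
    obtain ⟨a, b, rfl⟩ := eo_decomp p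
    rw [Ng_form] at h
    obtain ⟨-, hb⟩ := eo_uniq' _ _ _ _ h
    have h4 : (2 : PowerSeries k) * b = 0 := by linear_combination -hb
    have h5 : b = 0 := (mul_eq_zero.mp h4).resolve_left (two_ne_zero' k h2)
    exact ⟨a, by rw [h5]; simp⟩
  · rintro ⟨a, rfl⟩
    exact Ng_E2 a

lemma Ng_anti_iff (h2 : (2 : k) ≠ 0) (p : PowerSeries k) :
    Ng k p = -p ↔ ∃ b, p = PowerSeries.X * E2 k b := by
  constructor
  · intro h
    obtain ⟨a, b, rfl⟩ := eo_decomp p
    rw [Ng_form] at h
    have h' : E2 k a + PowerSeries.X * E2 k (-b) = E2 k (-a) + PowerSeries.X * E2 k (-b) := by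
      rw [h]; simp only [map_neg]; ring
    obtain ⟨ha, -⟩ := eo_uniq' _ _ _ _ h'
    have h4 : (2 : PowerSeries k) * a = 0 := by linear_combination ha
    have h5 : a = 0 := (mul_eq_zero.mp h4).resolve_left (two_ne_zero' k h2)
    exact ⟨b, by rw [h5]; simp⟩
  · rintro ⟨b, rfl⟩
    have := Ng_form (0 : PowerSeries k) b
    simp only [map_zero, zero_add, map_neg, mul_neg] at this
    exact this

lemma X_dvd_Ng_sub (p : PowerSeries k) : PowerSeries.X ∣ Ng k p - p := by
  obtain ⟨a, b, rfl⟩ := eo_decomp p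
  rw [Ng_form]
  exact ⟨E2 k (-b) - E2 k b, by ring⟩

end PS2

section Misc

variable (k : Type u) [Field k] (r : ℕ)

instance ring_nontrivial : Nontrivial (ring k r) := by
  refine ⟨⟨0, 1, fun h => ?_⟩⟩
  have := congrArg (aug k r) h
  simp at this

theorem length_quot_maximal {R : Type*} [CommRing R] (K : Ideal R) (hK : K.IsMaximal) :
    Module.length R (R ⧸ K) = 1 := by
  rw [Module.length_eq_one_iff]
  exact isSimpleModule_iff_isCoatom.mpr (Ideal.isMaximal_def.mp hK)

theorem length_quot_x : Module.length (ring k r) (ring k r ⧸ Ideal.span {x k r}) = 2 := by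
  have h1 := length_quot_succ (Ideal.span {x k r}) (RingHom.ker (aug k r))
    (RingHom.ker (aug k r)) (y k r)
    (by rw [ker_aug_eq, ← Ideal.span_union]; congr 1)
    (by
      intro a
      obtain ⟨p, q, rfl⟩ := repr k r a
      rw [mem_ker_aug_iff, mul_comm, y_mul_form, mem_span_x_iff]
      constructor
      · intro h
        refine ⟨?_, h⟩
        exact ⟨q * PowerSeries.X ^ r, by ring⟩
      · exact fun h => h.2)
    (ker_aug_isMaximal k r)
  rw [h1, length_quot_maximal _ (ker_aug_isMaximal k r)]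
  rfl

end Misc


section S94

variable {k : Type u} [Field k] {r s : ℕ}
variable (σ : ring k r ≃ₐ[k] ring k r) (hx : σ (x k r) = -x k r) (hy : σ (y k r) = y k r)
variable (φ : ring k s →ₐ[k] ring k r) (hφx : φ (x k s) = x k r ^ 2) (hφy : φ (y k s) = y k r)

include hx hy in
lemma sigma_form94 (p q : PowerSeries k) :
    σ (xMap k r p + xMap k r q * y k r) = xMap k r (Ng k p) + xMap k r (Ng k q) * y k r := by
  rw [map_add, map_mul, sigma_xMap_neg σ hx, sigma_xMap_neg σ hx, hy]

include hφx hφy in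
lemma phi_form94 (p q : PowerSeries k) :
    φ (xMap k s p + xMap k s q * y k s) = xMap k r (E2 k p) + xMap k r (E2 k q) * y k r := by
  rw [map_add, map_mul, phi_xMap_sq φ hφx, phi_xMap_sq φ hφx, hφy]

include hx hy hφx hφy in
theorem fixed_iff94 (h2 : (2 : k) ≠ 0) (a : ring k r) : σ a = a ↔ a ∈ φ.range := by
  constructor
  · intro h
    obtain ⟨p, q, rfl⟩ := repr k r a
    rw [sigma_form94 σ hx hy] at h
    obtain ⟨hp, hq⟩ := uniq k r _ _ _ _ h
    obtain ⟨a₁, rfl⟩ := (Ng_fixed_iff h2 p).mp hp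
    obtain ⟨a₂, rfl⟩ := (Ng_fixed_iff h2 q).mp hq
    exact ⟨xMap k s a₁ + xMap k s a₂ * y k s, phi_form94 φ hφx hφy a₁ a₂⟩
  · rintro ⟨b, rfl⟩
    obtain ⟨p, q, rfl⟩ := repr k s b
    change σ (φ _) = φ _
    rw [phi_form94 φ hφx hφy, sigma_form94 σ hx hy, Ng_E2, Ng_E2]

include hφx hφy in
theorem phi_basis94 :
    (∀ a : ring k r, ∃ u v : ring k s, a = φ u + x k r * φ v) ∧
    (∀ u v : ring k s, φ u + x k r * φ v = 0 → u = 0 ∧ v = 0) := by
  constructor
  · intro a
    obtain ⟨p, q, rfl⟩ := repr k r a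
    obtain ⟨a₁, b₁, rfl⟩ := eo_decomp p
    obtain ⟨a₂, b₂, rfl⟩ := eo_decomp q
    refine ⟨xMap k s a₁ + xMap k s a₂ * y k s, xMap k s b₁ + xMap k s b₂ * y k s, ?_⟩
    rw [phi_form94 φ hφx hφy, phi_form94 φ hφx hφy, x_mul_form]
    simp only [map_add]
    ring
  · intro u v h
    obtain ⟨a₁, a₂, rfl⟩ := repr k s u
    obtain ⟨b₁, b₂, rfl⟩ := repr k s v
    rw [phi_form94 φ hφx hφy, phi_form94 φ hφx hφy, x_mul_form] at h
    have h' : xMap k r (E2 k a₁ + PowerSeries.X * E2 k b₁) +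
        xMap k r (E2 k a₂ + PowerSeries.X * E2 k b₂) * y k r = 0 := by
      rw [← h]; simp only [map_add]; ring
    obtain ⟨h1, h2⟩ := uniq0 k r _ _ h'
    obtain ⟨ha₁, hb₁⟩ := eo_uniq _ _ h1
    obtain ⟨ha₂, hb₂⟩ := eo_uniq _ _ h2
    rw [ha₁, hb₁, ha₂, hb₂]; simp

include hφx hφy in
theorem phi_ff94 : φ.toRingHom.Flat ∧
    ∀ I : Ideal (ring k s), I.IsMaximal → Ideal.map φ I ≠ ⊤ := by
  letI : Algebra (ring k s) (ring k r) := φ.toRingHom.toAlgebra
  obtain ⟨hsurj, hinj⟩ := phi_basis94 φ hφx hφy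
  have hsm : ∀ (t : ring k s) (a : ring k r), t • a = φ t * a := fun t a => rfl
  let L : (ring k s × ring k s) →ₗ[ring k s] ring k r :=
    { toFun := fun uv => φ uv.1 + x k r * φ uv.2
      map_add' := by intro a b; simp only [Prod.fst_add, Prod.snd_add, map_add]; ring
      map_smul' := by
        intro t uv
        simp only [Prod.smul_fst, Prod.smul_snd, smul_eq_mul, map_mul, RingHom.id_apply, hsm]
        ring }
  have hL : Function.Bijective L := by
    constructor
    · rw [← LinearMap.ker_eq_bot, LinearMap.ker_eq_bot']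
      rintro ⟨u, v⟩ h
      obtain ⟨h1, h2⟩ := hinj u v h
      rw [h1, h2]; rfl
    · intro a
      obtain ⟨u, v, rfl⟩ := hsurj a
      exact ⟨(u, v), rfl⟩
  have hff : Module.FaithfullyFlat (ring k s) (ring k r) :=
    Module.FaithfullyFlat.of_linearEquiv _ _ (LinearEquiv.ofBijective L hL).symm
  refine ⟨hff.toFlat, ?_⟩
  intro I hI hmap
  apply hff.submodule_ne_top hI
  rw [Ideal.smul_top_eq_map]
  have : Ideal.map (algebraMap (ring k s) (ring k r)) I = ⊤ := hmap
  rw [this]; rfl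

include hx hy in
theorem span_fixed94 (h2 : (2 : k) ≠ 0) :
    Ideal.span (Set.range fun a : ring k r => σ a - a) = Ideal.span {x k r} := by
  apply le_antisymm
  · rw [Ideal.span_le]
    rintro _ ⟨a, rfl⟩
    obtain ⟨p, q, rfl⟩ := repr k r a
    simp only
    rw [sigma_form94 σ hx hy]
    have h3 : xMap k r (Ng k p) + xMap k r (Ng k q) * y k r - (xMap k r p + xMap k r q * y k r)
        = xMap k r (Ng k p - p) + xMap k r (Ng k q - q) * y k r := by
      simp only [map_sub]; ring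
    rw [h3, SetLike.mem_coe, mem_span_x_iff]
    exact ⟨X_dvd_Ng_sub p, X_dvd_Ng_sub q⟩
  · rw [Ideal.span_le, Set.singleton_subset_iff]
    apply Ideal.subset_span
    refine ⟨xMap k r (PowerSeries.C (-(2 : k)⁻¹) * PowerSeries.X), ?_⟩
    simp only
    rw [sigma_xMap_neg σ hx, ← map_sub, ← xMap_X]
    congr 1
    rw [map_mul, Ng_X]
    have h4 : Ng k (PowerSeries.C (-(2 : k)⁻¹)) = PowerSeries.C (-(2 : k)⁻¹) := by
      have := (Ng k).commutes (-(2 : k)⁻¹)
      simpa [PowerSeries.algebraMap_apply] using this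
    rw [h4]
    have h5 : (-PowerSeries.C (-(2 : k)⁻¹) - PowerSeries.C (-(2 : k)⁻¹) : PowerSeries k) = 1 := by
      rw [← map_neg, ← map_sub, ← map_one PowerSeries.C]
      congr 1
      field_simp
      ring
    linear_combination (PowerSeries.X : PowerSeries k) * h5

include hx hy hφx hφy in
theorem main94 (h2 : (2 : k) ≠ 0) :
    (∀ a : ring k r, σ a = a ↔ a ∈ φ.range) ∧
    (φ.toRingHom.Flat ∧ ∀ I : Ideal (ring k s), I.IsMaximal → Ideal.map φ I ≠ ⊤) ∧
    (∃ g : ring k r, g ∈ nonZeroDivisors (ring k r) ∧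
      Ideal.span (Set.range fun a : ring k r => σ a - a) = Ideal.span {g}) ∧
    Module.length (ring k r)
      (ring k r ⧸ Ideal.span (Set.range fun a : ring k r => σ a - a)) = 2 := by
  refine ⟨fixed_iff94 σ hx hy φ hφx hφy h2, phi_ff94 φ hφx hφy,
    ⟨x k r, x_mem_nonZeroDivisors k r, span_fixed94 σ hx hy h2⟩, ?_⟩
  rw [span_fixed94 σ hx hy h2]
  exact length_quot_x k r

end S94

end Groth.Agent.Lib.Helper8.AR
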