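import Mathlib
import Groth.Agent.Lib.Helper8.AR4
set_option backward.isDefEq.respectTransparency.types false
set_option autoImplicit false
set_option linter.unusedSectionVars false
set_option linter.style.haveILetI false

namespace Groth.Agent.Lib.Helper8.AR

universe u

open ArSing

section S95

variable {k : Type u} [Field k] {r s : ℕ}
variable (σ : ring k r ≃ₐ[k] ring k r) (hx : σ (x k r) = -x k r) (hy : σ (y k r) = -y k r)
variable (φ : ring k s →ₐ[k] ring k r) (hφx : φ (x k s) = x k r ^ 2)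
  (hφy : φ (y k s) = x k r * y k r)

include hx hy in
lemma sigma_form95 (p q : PowerSeries k) :
    σ (xMap k r p + xMap k r q * y k r) =
      xMap k r (Ng k p) + xMap k r (-Ng k q) * y k r := by
  rw [map_add, map_mul, sigma_xMap_neg σ hx, sigma_xMap_neg σ hx, hy, map_neg]; ring

include hφx hφy in
lemma phi_form95 (p q : PowerSeries k) :
    φ (xMap k s p + xMap k s q * y k s) =
      xMap k r (E2 k p) + xMap k r (PowerSeries.X * E2 k q) * y k r := by
  rw [map_add, map_mul, phi_xMap_sq φ hφx, phi_xMap_sq φ hφx, hφy, map_mul, xMap_X]; ring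

include hx hy hφx hφy in
theorem fixed_iff95 (h2 : (2 : k) ≠ 0) (a : ring k r) : σ a = a ↔ a ∈ φ.range := by
  constructor
  · intro h
    obtain ⟨p, q, rfl⟩ := repr k r a
    rw [sigma_form95 σ hx hy] at h
    obtain ⟨hp, hq⟩ := uniq k r _ _ _ _ h
    obtain ⟨a₁, rfl⟩ := (Ng_fixed_iff h2 p).mp hp
    have hq' : Ng k q = -q := by linear_combination -hq
    obtain ⟨b₂, rfl⟩ := (Ng_anti_iff h2 q).mp hq'
    exact ⟨xMap k s a₁ + xMap k s b₂ * y k s, phi_form95 φ hφx hφy a₁ b₂⟩
  · rintro ⟨b, rfl⟩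
    obtain ⟨p, q, rfl⟩ := repr k s b
    change σ (φ _) = φ _
    rw [phi_form95 φ hφx hφy, sigma_form95 σ hx hy, Ng_E2]
    have : Ng k (PowerSeries.X * E2 k q) = -(PowerSeries.X * E2 k q) :=
      (Ng_anti_iff h2 _).mpr ⟨q, rfl⟩
    rw [this, neg_neg]

include hφx hφy in
theorem phi_injective95 : Function.Injective φ := by
  rw [injective_iff_map_eq_zero]
  intro b hb
  obtain ⟨p, q, rfl⟩ := repr k s b
  rw [phi_form95 φ hφx hφy] at hb
  obtain ⟨h1, h2⟩ := uniq0 k r _ _ hb
  have hp : p = 0 := E2_injective (by rw [h1, map_zero])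
  have hq : q = 0 := by
    have := (mul_eq_zero.mp h2).resolve_left PowerSeries.X_ne_zero
    exact E2_injective (by rw [this, map_zero])
  rw [hp, hq]; simp

include hφx hφy in
theorem phi_not_flat95 (hs : 1 ≤ s) : ¬ φ.toRingHom.Flat := by
  intro hflat
  letI : Algebra (ring k s) (ring k r) := φ.toRingHom.toAlgebra
  haveI : Module.Flat (ring k s) (ring k r) := hflat
  have hsm : ∀ (t : ring k s) (a : ring k r), t • a = φ t * a := fun t a => rfl
  have hrel : (x k s) • (y k r) + (-y k s) • (x k r) = 0 := by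
    rw [hsm, hsm, map_neg, hφx, hφy]; ring
  have hmem := mem_smul_top_of_flat (x k s) (-y k s) (y k r) (x k r) hrel
    (RingHom.ker (aug k s)) (by
      intro a b hab
      obtain ⟨p₁, q₁, rfl⟩ := repr k s a
      obtain ⟨p₂, q₂, rfl⟩ := repr k s b
      have e1 := x_mul_form k s p₁ q₁
      have e2 := y_mul_form k s p₂ q₂
      have hab' : xMap k s (PowerSeries.X * p₁) + xMap k s (PowerSeries.X * q₁) * y k s =
          xMap k s (q₂ * PowerSeries.X ^ (s + 1)) + xMap k s p₂ * y k s := by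
        linear_combination hab - e1 + e2
      obtain ⟨h1, -⟩ := uniq k s _ _ _ _ hab'
      rw [mem_ker_aug_iff]
      have h3 : PowerSeries.X * p₁ = PowerSeries.X * (q₂ * PowerSeries.X ^ s) := by
        rw [h1]; ring
      have h4 := mul_left_cancel₀ PowerSeries.X_ne_zero h3
      rw [h4]
      obtain ⟨s', rfl⟩ : ∃ s', s = s' + 1 := ⟨s - 1, by omega⟩
      exact ⟨q₂ * PowerSeries.X ^ s', by ring⟩)
  have hle : ∀ z ∈ (RingHom.ker (aug k s)) • (⊤ : Submodule (ring k s) (ring k r)),
      z ∈ Ideal.span {x k r} := by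
    intro z hz
    refine Submodule.smul_induction_on hz ?_ ?_
    · intro κ hκ a _
      rw [hsm]
      apply Ideal.mul_mem_right
      obtain ⟨p₁, q₁, rfl⟩ := repr k s κ
      rw [mem_ker_aug_iff] at hκ
      obtain ⟨p₁', rfl⟩ := hκ
      rw [phi_form95 φ hφx hφy, mem_span_x_iff]
      exact ⟨⟨PowerSeries.X * E2 k p₁', by rw [map_mul, E2_X]; ring⟩, ⟨E2 k q₁, rfl⟩⟩
    · intro a b ha hb
      exact Ideal.add_mem _ ha hb
  exact y_not_mem_span_x k r (hle _ hmem)

include hx hy in
theorem span_fixed95 (h2 : (2 : k) ≠ 0) :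
    Ideal.span (Set.range fun a : ring k r => σ a - a) = RingHom.ker (aug k r) := by
  apply le_antisymm
  · rw [Ideal.span_le]
    rintro _ ⟨a, rfl⟩
    obtain ⟨p, q, rfl⟩ := repr k r a
    simp only
    rw [sigma_form95 σ hx hy]
    have h3 : xMap k r (Ng k p) + xMap k r (-Ng k q) * y k r -
        (xMap k r p + xMap k r q * y k r)
        = xMap k r (Ng k p - p) + xMap k r (-Ng k q - q) * y k r := by
      simp only [map_sub, map_neg]; ring
    rw [h3, SetLike.mem_coe, mem_ker_aug_iff]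
    exact X_dvd_Ng_sub p
  · rw [ker_aug_eq, Ideal.span_le]
    have hC : Ng k (PowerSeries.C (-(2 : k)⁻¹)) = PowerSeries.C (-(2 : k)⁻¹) := by
      have := (Ng k).commutes (-(2 : k)⁻¹)
      simpa [PowerSeries.algebraMap_apply] using this
    have h5 : (-PowerSeries.C (-(2 : k)⁻¹) - PowerSeries.C (-(2 : k)⁻¹) : PowerSeries k) = 1 := by
      rw [← map_neg, ← map_sub, ← map_one PowerSeries.C]
      congr 1
      field_simp
      ring
    rintro a (rfl | rfl)
    · apply Ideal.subset_span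
      refine ⟨xMap k r (PowerSeries.C (-(2 : k)⁻¹) * PowerSeries.X), ?_⟩
      simp only
      rw [sigma_xMap_neg σ hx, ← map_sub, ← xMap_X]
      congr 1
      rw [map_mul, Ng_X, hC]
      linear_combination (PowerSeries.X : PowerSeries k) * h5
    · apply Ideal.subset_span
      refine ⟨xMap k r (PowerSeries.C (-(2 : k)⁻¹)) * y k r, ?_⟩
      simp only
      rw [map_mul, sigma_xMap_neg σ hx, hy, hC]
      have h6 : xMap k r (-PowerSeries.C (-(2 : k)⁻¹)) - xMap k r (PowerSeries.C (-(2 : k)⁻¹)) = 1 := by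
        rw [← map_sub, h5, map_one]
      rw [map_neg] at h6
      linear_combination (y k r) * h6

theorem ker_aug_not_principal (hr : 1 ≤ r) :
    ¬ ∃ g : ring k r, RingHom.ker (aug k r) = Ideal.span {g} := by
  rintro ⟨g, hg⟩
  have hgm : g ∈ RingHom.ker (aug k r) := by rw [hg]; exact Ideal.subset_span rfl
  have hxm : x k r ∈ Ideal.span {g} := by rw [← hg]; exact aug_x k r
  have hym : y k r ∈ Ideal.span {g} := by rw [← hg]; exact aug_y k r
  obtain ⟨u, hu⟩ := Ideal.mem_span_singleton'.mp hxm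
  obtain ⟨v, hv⟩ := Ideal.mem_span_singleton'.mp hym
  obtain ⟨p, q, rfl⟩ := repr k r g
  obtain ⟨pu, qu, rfl⟩ := repr k r u
  obtain ⟨pv, qv, rfl⟩ := repr k r v
  rw [mem_ker_aug_iff] at hgm
  obtain ⟨p', rfl⟩ := hgm
  rw [mul_form] at hu hv
  have hu' : xMap k r (pu * (PowerSeries.X * p') + qu * q * PowerSeries.X ^ (r + 1)) +
      xMap k r (pu * q + qu * (PowerSeries.X * p')) * y k r =
      xMap k r PowerSeries.X + xMap k r 0 * y k r := by rw [hu, xMap_X]; simp
  have hv' : xMap k r (pv * (PowerSeries.X * p') + qv * q * PowerSeries.X ^ (r + 1)) +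
      xMap k r (pv * q + qv * (PowerSeries.X * p')) * y k r =
      xMap k r 0 + xMap k r 1 * y k r := by rw [hv]; simp
  obtain ⟨hu1, hu2⟩ := uniq k r _ _ _ _ hu'
  obtain ⟨-, hv2⟩ := uniq k r _ _ _ _ hv'
  obtain ⟨r', rfl⟩ : ∃ r', r = r' + 1 := ⟨r - 1, by omega⟩
  have hu1' : pu * p' + qu * q * PowerSeries.X ^ (r' + 1) = 1 := by
    apply mul_left_cancel₀ (PowerSeries.X_ne_zero (R := k))
    linear_combination hu1
  have c1 := congrArg PowerSeries.constantCoeff hu1'
  have c2 := congrArg PowerSeries.constantCoeff hu2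
  have c3 := congrArg PowerSeries.constantCoeff hv2
  simp only [map_add, map_mul, map_pow, PowerSeries.constantCoeff_X, map_one, map_zero,
    mul_zero, add_zero, zero_mul] at c1 c2 c3
  simp only [ne_eq, Nat.add_eq_zero_iff, one_ne_zero, and_false, not_false_eq_true, zero_pow,
    mul_zero, add_zero] at c1
  have hq0 : PowerSeries.constantCoeff q ≠ 0 := by
    intro h; rw [h, mul_zero] at c3; exact zero_ne_one c3
  have hpu0 : PowerSeries.constantCoeff pu ≠ 0 := by
    intro h; rw [h, zero_mul] at c1; exact zero_ne_one c1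
  exact (mul_ne_zero hpu0 hq0) c2

include hx hy hφx hφy in
theorem main95 (h2 : (2 : k) ≠ 0) (hs : 1 ≤ s) (hr : 1 ≤ r) :
    (∀ a : ring k r, σ a = a ↔ a ∈ φ.range) ∧ Function.Injective φ ∧
    ¬ φ.toRingHom.Flat ∧
    Module.length (ring k r)
      (ring k r ⧸ Ideal.span (Set.range fun a : ring k r => σ a - a)) = 1 ∧
    ¬ (∃ g : ring k r, g ∈ nonZeroDivisors (ring k r) ∧
      Ideal.span (Set.range fun a : ring k r => σ a - a) = Ideal.span {g}) := by
  refine ⟨fixed_iff95 σ hx hy φ hφx hφy h2, phi_injective95 φ hφx hφy,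
    phi_not_flat95 φ hφx hφy hs, ?_, ?_⟩
  · rw [span_fixed95 σ hx hy h2]
    exact length_quot_maximal _ (ker_aug_isMaximal k r)
  · rintro ⟨g, -, hg⟩
    rw [span_fixed95 σ hx hy h2] at hg
    exact ker_aug_not_principal hr ⟨g, hg⟩

end S95

end Groth.Agent.Lib.Helper8.AR
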