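import Mathlib
import Groth.Agent.Lib.Helper8.AR5
set_option backward.isDefEq.respectTransparency.types false
set_option autoImplicit false
set_option linter.unusedSectionVars false
set_option linter.style.haveILetI false

namespace Groth.Agent.Lib.Helper8.AR

universe u

open ArSing

section NF

theorem mem_map_of_flat_ringHom {R S : Type*} [CommRing R] [CommRing S] (φ : R →+* S)
    (hflat : φ.Flat) (f₁ f₂ : R) (x₁ x₂ : S) (h : φ f₁ * x₁ + φ f₂ * x₂ = 0) (K : Ideal R)
    (hK : ∀ a b : R, f₁ * a + f₂ * b = 0 → a ∈ K) : x₁ ∈ Ideal.map φ K := by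
  letI : Algebra R S := φ.toAlgebra
  haveI : Module.Flat R S := hflat
  have hsm : ∀ (t : R) (a : S), t • a = φ t * a := fun t a => rfl
  have hmem := mem_smul_top_of_flat f₁ f₂ x₁ x₂ (by rw [hsm, hsm]; exact h) K hK
  rw [Ideal.smul_top_eq_map] at hmem
  exact hmem

end NF

section Beta

variable {k : Type u} [Field k]

lemma ps_sep (z : PowerSeries k) (hz : ∀ n : ℕ, (PowerSeries.X : PowerSeries k) ^ n ∣ z) : z = 0 := by
  ext n
  have := (PowerSeries.X_pow_dvd_iff.mp (hz (n + 1))) n (Nat.lt_succ_self n)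
  simpa using this

lemma ps_sep_of_dvd (c : PowerSeries k) (hc : PowerSeries.X ∣ c) (z : PowerSeries k)
    (hz : ∀ n : ℕ, c ^ n ∣ z) : z = 0 :=
  ps_sep z fun n => (pow_dvd_pow_of_dvd hc n).trans (hz n)

/-- two algebra maps out of `A_r` agreeing on `x`, `y` are equal (target separated) -/
theorem algHom_ext_xy {r : ℕ} {C : Type*} [CommRing C] [Algebra k C]
    (τ₁ τ₂ : ring k r →ₐ[k] C) (hx : τ₁ (x k r) = τ₂ (x k r)) (hy : τ₁ (y k r) = τ₂ (y k r))
    (hsep : ∀ z : C, (∀ n : ℕ, τ₂ (x k r) ^ n ∣ z) → z = 0) : τ₁ = τ₂ := by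
  have h := algHom_eq_of_X (τ₁.comp (xMap k r)) (τ₂.comp (xMap k r)) (τ₂ (x k r))
    (by simp [xMap_X, hx]) (by simp [xMap_X]) hsep
  apply AlgHom.ext
  intro a
  obtain ⟨p, q, rfl⟩ := repr k r a
  have hp := DFunLike.congr_fun h p
  have hq := DFunLike.congr_fun h q
  simp only [AlgHom.comp_apply] at hp hq
  rw [map_add, map_mul, map_add, map_mul, hp, hq, hy]

/-- substitution `x ↦ t`, `y ↦ c` on `k[[x,y]]` -/
noncomputable def betaPre (c : PowerSeries k) (hc : PowerSeries.constantCoeff c = 0) :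
    MvPowerSeries (Fin 2) k →ₐ[k] PowerSeries k :=
  MvPowerSeries.substAlgHom (R := k) (a := ![(PowerSeries.X : PowerSeries k), c])
    (MvPowerSeries.hasSubst_of_constantCoeff_zero (by
      intro s
      fin_cases s
      · exact PowerSeries.constantCoeff_X
      · exact hc))

lemma betaPre_X0 (c : PowerSeries k) (hc : PowerSeries.constantCoeff c = 0) :
    betaPre c hc (MvPowerSeries.X 0) = PowerSeries.X := by
  rw [betaPre, MvPowerSeries.substAlgHom_X]; rfl

lemma betaPre_X1 (c : PowerSeries k) (hc : PowerSeries.constantCoeff c = 0) :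
    betaPre c hc (MvPowerSeries.X 1) = c := by
  rw [betaPre, MvPowerSeries.substAlgHom_X]; rfl

/-- the branch map `A_1 → k[[t]]`, `x ↦ t`, `y ↦ c` where `c² = t²` -/
noncomputable def beta (c : PowerSeries k) (hc : PowerSeries.constantCoeff c = 0)
    (hsq : c ^ 2 = PowerSeries.X ^ 2) : ring k 1 →ₐ[k] PowerSeries k :=
  Ideal.Quotient.liftₐ (Ideal.span {eqn k 1}) (betaPre c hc) (by
    intro a ha
    obtain ⟨b, rfl⟩ := Ideal.mem_span_singleton'.mp ha
    rw [map_mul]
    have : betaPre c hc (eqn k 1) = 0 := by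
      simp only [eqn, map_sub, map_pow, betaPre_X0, betaPre_X1]
      rw [hsq]; ring
    rw [this, mul_zero])

variable (c : PowerSeries k) (hc : PowerSeries.constantCoeff c = 0)
  (hsq : c ^ 2 = PowerSeries.X ^ 2)

lemma beta_x : beta c hc hsq (x k 1) = PowerSeries.X := betaPre_X0 c hc

lemma beta_y : beta c hc hsq (y k 1) = c := betaPre_X1 c hc

lemma beta_xMap (p : PowerSeries k) : beta c hc hsq (xMap k 1 p) = p := by
  have h := algHom_eq_of_X ((beta c hc hsq).comp (xMap k 1)) (AlgHom.id k (PowerSeries k))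
    PowerSeries.X (by simp [xMap_X, beta_x]) (by simp) ps_sep
  exact DFunLike.congr_fun h p

lemma beta_form (p q : PowerSeries k) :
    beta c hc hsq (xMap k 1 p + xMap k 1 q * y k 1) = p + q * c := by
  rw [map_add, map_mul, beta_xMap, beta_xMap, beta_y]

end Beta


section Branch

variable (k : Type u) [Field k]

/-- branch `y = x` -/
noncomputable def bp : ring k 1 →ₐ[k] PowerSeries k :=
  beta PowerSeries.X PowerSeries.constantCoeff_X rfl

/-- branch `y = -x` -/
noncomputable def bm : ring k 1 →ₐ[k] PowerSeries k :=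
  beta (-PowerSeries.X) (by simp) (by ring)

variable {k}

lemma bp_form (p q : PowerSeries k) :
    bp k (xMap k 1 p + xMap k 1 q * y k 1) = p + q * PowerSeries.X := beta_form _ _ _ p q

lemma bm_form (p q : PowerSeries k) :
    bm k (xMap k 1 p + xMap k 1 q * y k 1) = p + q * -PowerSeries.X := beta_form _ _ _ p q

lemma bp_x : bp k (x k 1) = PowerSeries.X := beta_x _ _ _
lemma bp_y : bp k (y k 1) = PowerSeries.X := beta_y _ _ _
lemma bm_x : bm k (x k 1) = PowerSeries.X := beta_x _ _ _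
lemma bm_y : bm k (y k 1) = -PowerSeries.X := beta_y _ _ _

lemma joint_inj (h2 : (2 : k) ≠ 0) (a : ring k 1) (hp : bp k a = 0) (hm : bm k a = 0) : a = 0 := by
  obtain ⟨p, q, rfl⟩ := repr k 1 a
  rw [bp_form] at hp
  rw [bm_form] at hm
  have h1 : (2 : PowerSeries k) * p = 0 := by linear_combination hp + hm
  have h2' : (2 : PowerSeries k) * (q * PowerSeries.X) = 0 := by linear_combination hp - hm
  have hp0 : p = 0 := (mul_eq_zero.mp h1).resolve_left (two_ne_zero' k h2)
  have hq0 : q = 0 := by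
    have := (mul_eq_zero.mp h2').resolve_left (two_ne_zero' k h2)
    exact (mul_eq_zero.mp this).resolve_right PowerSeries.X_ne_zero
  rw [hp0, hq0]; simp

lemma joint_inj' (h2 : (2 : k) ≠ 0) (a b : ring k 1) (hp : bp k a = bp k b)
    (hm : bm k a = bm k b) : a = b := by
  rw [← sub_eq_zero]
  apply joint_inj h2 <;> rw [map_sub, sub_eq_zero] <;> assumption

lemma cc_bp_eq_cc_bm (a : ring k 1) :
    PowerSeries.constantCoeff (bp k a) = PowerSeries.constantCoeff (bm k a) := by
  obtain ⟨p, q, rfl⟩ := repr k 1 a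
  rw [bp_form, bm_form]; simp

lemma two_inv_mul (h2 : (2 : k) ≠ 0) : PowerSeries.C ((2 : k)⁻¹) * (2 : PowerSeries k) = 1 := by
  have : (2 : PowerSeries k) = PowerSeries.C (2 : k) := (map_ofNat PowerSeries.C 2).symm
  rw [this, ← map_mul, inv_mul_cancel₀ h2, map_one]

lemma exists_of_pair (h2 : (2 : k) ≠ 0) (f g : PowerSeries k)
    (h : PowerSeries.constantCoeff f = PowerSeries.constantCoeff g) :
    ∃ a : ring k 1, bp k a = f ∧ bm k a = g := by
  have hdvd : PowerSeries.X ∣ f - g := by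
    rw [PowerSeries.X_dvd_iff, map_sub, h, sub_self]
  obtain ⟨d, hd⟩ := hdvd
  have hc := two_inv_mul h2
  refine ⟨xMap k 1 (PowerSeries.C ((2 : k)⁻¹) * (f + g)) +
    xMap k 1 (PowerSeries.C ((2 : k)⁻¹) * d) * y k 1, ?_, ?_⟩
  · rw [bp_form]
    linear_combination (f) * hc - (PowerSeries.C ((2 : k)⁻¹)) * hd
  · rw [bm_form]
    linear_combination (g) * hc + (PowerSeries.C ((2 : k)⁻¹)) * hd

lemma ker_bp : RingHom.ker (bp k) = Ideal.span {y k 1 - x k 1} := by
  apply le_antisymm
  · intro a ha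
    obtain ⟨p, q, rfl⟩ := repr k 1 a
    rw [RingHom.mem_ker, bp_form] at ha
    have hp : p = -(q * PowerSeries.X) := by linear_combination ha
    rw [Ideal.mem_span_singleton']
    refine ⟨xMap k 1 q, ?_⟩
    rw [hp, map_neg, map_mul, xMap_X]; ring
  · rw [Ideal.span_le, Set.singleton_subset_iff, SetLike.mem_coe, RingHom.mem_ker, map_sub,
      bp_x, bp_y, sub_self]

end Branch


section S96

variable {k : Type u} [Field k]

/-- `t ↦ -2 t²` -/
noncomputable def Sq (k : Type u) [Field k] : PowerSeries k →ₐ[k] PowerSeries k :=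
  (E2 k).comp (PowerSeries.rescaleAlgHom (-2))

lemma Sq_apply (f : PowerSeries k) : Sq k f = E2 k (PowerSeries.rescale (-2) f) := by
  simp only [Sq, AlgHom.comp_apply]
  congr 1
  exact DFunLike.congr_fun (PowerSeries.coe_rescaleAlgHom (-2 : k)) f

lemma Sq_X : Sq k PowerSeries.X = -2 * PowerSeries.X ^ 2 := by
  rw [Sq_apply, PowerSeries.rescale_X, map_mul, E2_X]
  have : E2 k (PowerSeries.C (-2 : k)) = PowerSeries.C (-2 : k) := PowerSeries.expand_C 2 two_ne_zero _
  rw [this, map_neg, map_ofNat]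

lemma Sq_injective (h2 : (2 : k) ≠ 0) : Function.Injective (Sq k) := by
  intro f g h
  rw [Sq_apply, Sq_apply] at h
  exact PowerSeries.rescale_injective (neg_ne_zero.mpr h2) (E2_injective h)

lemma Sq_rescale (h2 : (2 : k) ≠ 0) (g : PowerSeries k) :
    Sq k (PowerSeries.rescale (-(2 : k)⁻¹) g) = E2 k g := by
  rw [Sq_apply, PowerSeries.rescale_rescale]
  have : (-(2 : k)⁻¹) * (-2) = 1 := by field_simp
  rw [this, PowerSeries.rescale_one]; rfl

variable (σ : ring k 1 ≃ₐ[k] ring k 1) (hx : σ (x k 1) = y k 1) (hy : σ (y k 1) = x k 1)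
variable (φ : ring k 1 →ₐ[k] ring k 1) (hφu : φ (x k 1 + y k 1) = x k 1 + y k 1)
  (hφv : φ (y k 1 - x k 1) = (y k 1 - x k 1) ^ 2)

include hx hy in
lemma bp_sigma (a : ring k 1) : bp k (σ a) = bp k a := by
  have h := algHom_ext_xy ((bp k).comp (σ : ring k 1 →ₐ[k] ring k 1)) (bp k)
    (by simp [hx, bp_x, bp_y]) (by simp [hy, bp_x, bp_y])
    (by rw [bp_x]; exact ps_sep)
  exact DFunLike.congr_fun h a

include hx hy in
lemma bm_sigma (a : ring k 1) : bm k (σ a) = Ng k (bm k a) := by
  have h := algHom_ext_xy ((bm k).comp (σ : ring k 1 →ₐ[k] ring k 1)) ((Ng k).comp (bm k))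
    (by simp [hx, bm_x, bm_y, Ng_X]) (by simp [hy, bm_x, bm_y, Ng_X])
    (by
      simp only [AlgHom.comp_apply, bm_x, Ng_X]
      exact ps_sep_of_dvd _ ⟨-1, by ring⟩)
  exact DFunLike.congr_fun h a

include hφu hφv in
lemma two_phi_x : 2 * φ (x k 1) = (x k 1 + y k 1) - (y k 1 - x k 1) ^ 2 := by
  rw [← hφu, ← hφv, ← map_sub]
  have : x k 1 + y k 1 - (y k 1 - x k 1) = 2 * x k 1 := by ring
  rw [this, map_mul, map_ofNat]

include hφu hφv in
lemma two_phi_y : 2 * φ (y k 1) = (x k 1 + y k 1) + (y k 1 - x k 1) ^ 2 := by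
  rw [← hφu, ← hφv, ← map_add]
  have : x k 1 + y k 1 + (y k 1 - x k 1) = 2 * y k 1 := by ring
  rw [this, map_mul, map_ofNat]

include hφu hφv in
lemma bp_phi (h2 : (2 : k) ≠ 0) (a : ring k 1) : bp k (φ a) = bp k a := by
  have hx' : bp k (φ (x k 1)) = PowerSeries.X := by
    have := congrArg (bp k) (two_phi_x φ hφu hφv)
    simp only [map_mul, map_ofNat, map_sub, map_add, map_pow, bp_x, bp_y] at this
    apply mul_left_cancel₀ (two_ne_zero' k h2)
    linear_combination this
  have hy' : bp k (φ (y k 1)) = PowerSeries.X := by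
    have := congrArg (bp k) (two_phi_y φ hφu hφv)
    simp only [map_mul, map_ofNat, map_sub, map_add, map_pow, bp_x, bp_y] at this
    apply mul_left_cancel₀ (two_ne_zero' k h2)
    linear_combination this
  have h := algHom_ext_xy ((bp k).comp φ) (bp k)
    (by simp [hx', bp_x]) (by simp [hy', bp_y])
    (by rw [bp_x]; exact ps_sep)
  exact DFunLike.congr_fun h a

include hφu hφv in
lemma bm_phi (h2 : (2 : k) ≠ 0) (a : ring k 1) : bm k (φ a) = Sq k (bm k a) := by
  have hx' : bm k (φ (x k 1)) = -2 * PowerSeries.X ^ 2 := by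
    have := congrArg (bm k) (two_phi_x φ hφu hφv)
    simp only [map_mul, map_ofNat, map_sub, map_add, map_pow, bm_x, bm_y] at this
    apply mul_left_cancel₀ (two_ne_zero' k h2)
    linear_combination this
  have hy' : bm k (φ (y k 1)) = 2 * PowerSeries.X ^ 2 := by
    have := congrArg (bm k) (two_phi_y φ hφu hφv)
    simp only [map_mul, map_ofNat, map_sub, map_add, map_pow, bm_x, bm_y] at this
    apply mul_left_cancel₀ (two_ne_zero' k h2)
    linear_combination this
  have h := algHom_ext_xy ((bm k).comp φ) ((Sq k).comp (bm k))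
    (by simp [hx', bm_x, Sq_X]) (by simp [hy', bm_y, Sq_X])
    (by
      simp only [AlgHom.comp_apply, bm_x, Sq_X]
      exact ps_sep_of_dvd _ ⟨-2 * PowerSeries.X, by ring⟩)
  exact DFunLike.congr_fun h a

include hx hy hφu hφv in
theorem fixed_iff96 (h2 : (2 : k) ≠ 0) (a : ring k 1) : σ a = a ↔ a ∈ φ.range := by
  constructor
  · intro h
    have h1 : Ng k (bm k a) = bm k a := by rw [← bm_sigma σ hx hy, h]
    obtain ⟨g', hg'⟩ := (Ng_fixed_iff h2 _).mp h1
    have hcc : PowerSeries.constantCoeff (bp k a) =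
        PowerSeries.constantCoeff (PowerSeries.rescale (-(2 : k)⁻¹) g') := by
      rw [cc_bp_eq_cc_bm, hg', PowerSeries.constantCoeff_expand]
      rw [← PowerSeries.coeff_zero_eq_constantCoeff_apply, ← PowerSeries.coeff_zero_eq_constantCoeff_apply,
        PowerSeries.coeff_rescale]
      simp
    obtain ⟨b, hb1, hb2⟩ := exists_of_pair h2 _ _ hcc
    refine ⟨b, ?_⟩
    apply joint_inj' h2
    · change bp k (φ b) = _
      rw [bp_phi φ hφu hφv h2, hb1]
    · change bm k (φ b) = _
      rw [bm_phi φ hφu hφv h2, hb2, Sq_rescale h2, hg']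
  · rintro ⟨b, rfl⟩
    change σ (φ b) = φ b
    apply joint_inj' h2
    · rw [bp_sigma σ hx hy]
    · rw [bm_sigma σ hx hy, bm_phi φ hφu hφv h2, Sq_apply, Ng_E2]

include hφu hφv in
theorem phi_injective96 (h2 : (2 : k) ≠ 0) : Function.Injective φ := by
  rw [injective_iff_map_eq_zero]
  intro b hb
  apply joint_inj h2
  · rw [← bp_phi φ hφu hφv h2, hb, map_zero]
  · have := bm_phi φ hφu hφv h2 b
    rw [hb, map_zero] at this
    exact Sq_injective h2 (by rw [← this, map_zero])

lemma uv_zero : (x k 1 + y k 1) * (y k 1 - x k 1) = 0 := by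
  have := y_sq k 1
  linear_combination this

lemma bp_u (h2 : (2 : k) ≠ 0) : bp k (x k 1 + y k 1) ≠ 0 := by
  rw [map_add, bp_x, bp_y, ← two_mul]
  exact mul_ne_zero (two_ne_zero' k h2) PowerSeries.X_ne_zero

include hx hy in
theorem span_fixed96 (h2 : (2 : k) ≠ 0) :
    Ideal.span (Set.range fun a : ring k 1 => σ a - a) = Ideal.span {y k 1 - x k 1} := by
  apply le_antisymm
  · rw [Ideal.span_le]
    rintro _ ⟨a, rfl⟩
    simp only
    rw [SetLike.mem_coe, ← ker_bp, RingHom.mem_ker, map_sub, bp_sigma σ hx hy, sub_self]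
  · rw [Ideal.span_le, Set.singleton_subset_iff]
    apply Ideal.subset_span
    refine ⟨algebraMap k (ring k 1) (-(2 : k)⁻¹) * (y k 1 - x k 1), ?_⟩
    simp only
    rw [map_mul, AlgEquiv.commutes, map_sub, hx, hy]
    have h5 : algebraMap k (ring k 1) (-(2 : k)⁻¹) * 2 = -1 := by
      rw [← map_ofNat (algebraMap k (ring k 1)) 2, ← map_mul, ← map_one (algebraMap k (ring k 1)),
        ← map_neg]
      congr 1
      field_simp
    linear_combination (-(y k 1 - x k 1)) * h5

theorem v_not_nzd (h2 : (2 : k) ≠ 0) : (y k 1 - x k 1) ∉ nonZeroDivisors (ring k 1) := by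
  intro h
  rw [mem_nonZeroDivisors_iff_right] at h
  have := h _ (uv_zero (k := k))
  exact bp_u h2 (by rw [this, map_zero])

theorem span_v_minimal (h2 : (2 : k) ≠ 0) :
    Ideal.span {y k 1 - x k 1} ∈ minimalPrimes (ring k 1) := by
  change Minimal (fun q : Ideal (ring k 1) => q.IsPrime ∧ ⊥ ≤ q) _
  refine ⟨⟨?_, bot_le⟩, ?_⟩
  · rw [← ker_bp]; exact RingHom.ker_isPrime _
  · rintro q ⟨hq, -⟩ hle
    rw [Ideal.span_le, Set.singleton_subset_iff]
    have h0 : (x k 1 + y k 1) * (y k 1 - x k 1) ∈ q := by rw [uv_zero]; exact q.zero_mem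
    rcases hq.mem_or_mem h0 with h | h
    · exfalso
      have := hle h
      rw [← ker_bp, RingHom.mem_ker] at this
      exact bp_u h2 this
    · exact h

include hφu hφv in
theorem phi_not_flat96 (h2 : (2 : k) ≠ 0) : ¬ φ.toRingHom.Flat := by
  intro hflat
  have hrel : φ.toRingHom (x k 1 + y k 1) * (y k 1 - x k 1) +
      φ.toRingHom (0 : ring k 1) * (0 : ring k 1) = 0 := by
    change φ (x k 1 + y k 1) * (y k 1 - x k 1) + φ 0 * 0 = 0
    rw [hφu, uv_zero]; simp
  have hmem := mem_map_of_flat_ringHom φ.toRingHom hflat (x k 1 + y k 1) 0 (y k 1 - x k 1) 0 hrel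
    (Ideal.span {y k 1 - x k 1}) (by
      intro a b hab
      rw [zero_mul, add_zero] at hab
      rw [← ker_bp, RingHom.mem_ker]
      have := congrArg (bp k) hab
      rw [map_mul, map_zero] at this
      exact (mul_eq_zero.mp this).resolve_left (bp_u h2))
  rw [Ideal.map_span, Set.image_singleton] at hmem
  change y k 1 - x k 1 ∈ Ideal.span {φ (y k 1 - x k 1)} at hmem
  rw [hφv] at hmem
  obtain ⟨c, hc⟩ := Ideal.mem_span_singleton'.mp hmem
  have h3 := congrArg (bm k) hc
  simp only [map_mul, map_pow, map_sub, bm_x, bm_y] at h3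
  have h4 : (PowerSeries.X : PowerSeries k) * (bm k c * (4 * PowerSeries.X) + 2) = 0 := by
    linear_combination h3
  have h5 := (mul_eq_zero.mp h4).resolve_left PowerSeries.X_ne_zero
  have h6 := congrArg PowerSeries.constantCoeff h5
  simp only [map_add, map_mul, PowerSeries.constantCoeff_X, mul_zero, zero_add, map_ofNat,
    map_zero] at h6
  exact h2 h6

include hx hy hφu hφv in
theorem main96 (h2 : (2 : k) ≠ 0) :
    (∀ a : ring k 1, σ a = a ↔ a ∈ φ.range) ∧ Function.Injective φ ∧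
    Ideal.span (Set.range fun a : ring k 1 => σ a - a) = Ideal.span {y k 1 - x k 1} ∧
    (y k 1 - x k 1) ∉ nonZeroDivisors (ring k 1) ∧
    Ideal.span {y k 1 - x k 1} ∈ minimalPrimes (ring k 1) ∧
    ¬ φ.toRingHom.Flat :=
  ⟨fixed_iff96 σ hx hy φ hφu hφv h2, phi_injective96 φ hφu hφv h2, span_fixed96 σ hx hy h2,
    v_not_nzd h2, span_v_minimal h2, phi_not_flat96 φ hφu hφv h2⟩

end S96

end Groth.Agent.Lib.Helper8.AR
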