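import Mathlib
import Groth.Agent.Lib.Helper8.AR6
set_option backward.isDefEq.respectTransparency.types false
set_option autoImplicit false
set_option linter.unusedSectionVars false
set_option linter.style.haveILetI false

namespace Groth.Agent.Lib.Helper8.AR

universe u

open PowerSeries

section Basis

variable {k : Type*} [Field k] {A : Type*} [CommRing A] [Algebra k A]

/-- `A = Ψ(k[[t]]) ⊕ Ψ(k[[t]]) · Y` -/
structure IsBasis (Ψ : PowerSeries k →ₐ[k] A) (Y : A) : Prop where
  gen : ∀ z : A, ∃ f g : PowerSeries k, z = Ψ f + Ψ g * Y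
  uniq : ∀ f g : PowerSeries k, Ψ f + Ψ g * Y = 0 → f = 0 ∧ g = 0

variable {Ψ : PowerSeries k →ₐ[k] A} {Y : A}

lemma IsBasis.uniq' (h : IsBasis Ψ Y) {f g f' g' : PowerSeries k}
    (H : Ψ f + Ψ g * Y = Ψ f' + Ψ g' * Y) : f = f' ∧ g = g' := by
  have H2 : Ψ (f - f') + Ψ (g - g') * Y = 0 := by
    simp only [map_sub]; linear_combination H
  obtain ⟨h1, h2⟩ := h.uniq _ _ H2
  exact ⟨sub_eq_zero.mp h1, sub_eq_zero.mp h2⟩

lemma IsBasis.injective (h : IsBasis Ψ Y) : Function.Injective Ψ := by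
  intro f f' hf
  exact (h.uniq' (f := f) (g := 0) (f' := f') (g' := 0) (by simp [hf])).1

lemma IsBasis.reg (h : IsBasis Ψ Y) (a : A) (ha : Ψ X * a = 0) : a = 0 := by
  obtain ⟨f, g, rfl⟩ := h.gen a
  have H : Ψ (X * f) + Ψ (X * g) * Y = 0 := by
    simp only [map_mul]; linear_combination ha
  obtain ⟨h1, h2⟩ := h.uniq _ _ H
  have hf : f = 0 := (mul_eq_zero.mp h1).resolve_left X_ne_zero
  have hg : g = 0 := (mul_eq_zero.mp h2).resolve_left X_ne_zero
  simp [hf, hg]

lemma IsBasis.dvd_iff (h : IsBasis Ψ Y) (n : ℕ) (f g : PowerSeries k) :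
    Ψ X ^ n ∣ Ψ f + Ψ g * Y ↔ (X : PowerSeries k) ^ n ∣ f ∧ (X : PowerSeries k) ^ n ∣ g := by
  constructor
  · rintro ⟨w, hw⟩
    obtain ⟨f', g', rfl⟩ := h.gen w
    have H : Ψ f + Ψ g * Y = Ψ (X ^ n * f') + Ψ (X ^ n * g') * Y := by
      simp only [map_mul, map_pow]; rw [hw]; ring
    obtain ⟨h1, h2⟩ := h.uniq' H
    exact ⟨⟨f', h1⟩, ⟨g', h2⟩⟩
  · rintro ⟨⟨f', rfl⟩, ⟨g', rfl⟩⟩
    refine ⟨Ψ f' + Ψ g' * Y, ?_⟩
    simp only [map_mul, map_pow]; ring

lemma IsBasis.sep (h : IsBasis Ψ Y) (z : A) (hz : ∀ n : ℕ, Ψ X ^ n ∣ z) : z = 0 := by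
  obtain ⟨f, g, rfl⟩ := h.gen z
  have hf : f = 0 := ps_sep f fun n => ((h.dvd_iff n f g).mp (hz n)).1
  have hg : g = 0 := ps_sep g fun n => ((h.dvd_iff n f g).mp (hz n)).2
  simp [hf, hg]

/-- shear: replace `Y` by `Y + Ψ h` -/
lemma IsBasis.shear (h : IsBasis Ψ Y) (s : PowerSeries k) : IsBasis Ψ (Y + Ψ s) := by
  constructor
  · intro z
    obtain ⟨f, g, rfl⟩ := h.gen z
    refine ⟨f - g * s, g, ?_⟩
    simp only [map_sub, map_mul]; ring
  · intro f g H
    have H2 : Ψ (f + g * s) + Ψ g * Y = 0 := by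
      simp only [map_add, map_mul]; linear_combination H
    obtain ⟨h1, h2⟩ := h.uniq _ _ H2
    subst h2
    simp at h1
    exact ⟨h1, rfl⟩

/-- splitting off the constant term -/
lemma ps_split (f : PowerSeries k) : ∃ f' : PowerSeries k,
    f = C (constantCoeff f) + X * f' :=
  ⟨_, by rw [add_comm]; exact f.eq_X_mul_shift_add_const⟩

lemma Psi_C (Ψ : PowerSeries k →ₐ[k] A) (a : k) : Ψ (C a) = algebraMap k A a := by
  have : (C a : PowerSeries k) = algebraMap k (PowerSeries k) a := rfl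
  rw [this, AlgHom.commutes]

/-- **Core lemma**: a basis modulo a regular, separated element is a basis. -/
theorem isBasis_of_quot (Ψ₁ : PowerSeries k →ₐ[k] A) (y₁ : A)
    (hreg : ∀ a : A, Ψ₁ X * a = 0 → a = 0)
    (hsep : ∀ z : A, (∀ n : ℕ, Ψ₁ X ^ n ∣ z) → z = 0)
    (hind : ∀ α β : k, Ψ₁ X ∣ algebraMap k A α + algebraMap k A β * y₁ → α = 0 ∧ β = 0)
    (hspan : ∀ z : A, ∃ α β : k, Ψ₁ X ∣ z - (algebraMap k A α + algebraMap k A β * y₁)) :
    IsBasis Ψ₁ y₁ := by
  constructor
  · intro z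
    have hsp : ∀ z : A, ∃ (α β : k) (w : A),
        z = algebraMap k A α + algebraMap k A β * y₁ + Ψ₁ X * w := by
      intro z
      obtain ⟨α, β, w, hw⟩ := hspan z
      exact ⟨α, β, w, by linear_combination hw⟩
    choose al be nx hnx using hsp
    let zs : ℕ → A := fun n => nx^[n] z
    have hzs : ∀ n, zs (n + 1) = nx (zs n) := fun n => Function.iterate_succ_apply' nx n z
    let F : ℕ → PowerSeries k := fun n => mk fun i => al (zs (i + n))
    let G : ℕ → PowerSeries k := fun n => mk fun i => be (zs (i + n))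
    have hF : ∀ n, F n = C (al (zs n)) + X * F (n + 1) := by
      intro n
      ext (_ | i)
      · simp [F]
      · simp only [F, coeff_mk, map_add, coeff_C, coeff_succ_X_mul, i.succ_ne_zero, if_false,
          zero_add]
        congr 2; omega
    have hG : ∀ n, G n = C (be (zs n)) + X * G (n + 1) := by
      intro n
      ext (_ | i)
      · simp [G]
      · simp only [G, coeff_mk, map_add, coeff_C, coeff_succ_X_mul, i.succ_ne_zero, if_false,
          zero_add]
        congr 2; omega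
    have key : ∀ n, Ψ₁ (F 0) + Ψ₁ (G 0) * y₁ - z =
        Ψ₁ X ^ n * (Ψ₁ (F n) + Ψ₁ (G n) * y₁ - zs n) := by
      intro n
      induction n with
      | zero => simp [zs]
      | succ n ih =>
        rw [ih]
        have e1 : Ψ₁ (F n) = algebraMap k A (al (zs n)) + Ψ₁ X * Ψ₁ (F (n + 1)) := by
          conv_lhs => rw [hF n]
          rw [map_add, map_mul, Psi_C]
        have e2 : Ψ₁ (G n) = algebraMap k A (be (zs n)) + Ψ₁ X * Ψ₁ (G (n + 1)) := by
          conv_lhs => rw [hG n]
          rw [map_add, map_mul, Psi_C]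
        have e3 := hnx (zs n)
        rw [← hzs] at e3
        rw [e1, e2, pow_succ]
        linear_combination (-(Ψ₁ X ^ n)) * e3
    refine ⟨F 0, G 0, ?_⟩
    have : Ψ₁ (F 0) + Ψ₁ (G 0) * y₁ - z = 0 := hsep _ fun n => ⟨_, key n⟩
    exact (sub_eq_zero.mp this).symm
  · have main : ∀ n : ℕ, ∀ f g : PowerSeries k, Ψ₁ f + Ψ₁ g * y₁ = 0 →
        (X : PowerSeries k) ^ n ∣ f ∧ (X : PowerSeries k) ^ n ∣ g := by
      intro n
      induction n with
      | zero => intro f g _; simp
      | succ n ih =>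
        intro f g H
        obtain ⟨f', hf'⟩ := ps_split f
        obtain ⟨g', hg'⟩ := ps_split g
        have e1 : Ψ₁ f = algebraMap k A (constantCoeff f) + Ψ₁ X * Ψ₁ f' := by
          conv_lhs => rw [hf']
          rw [map_add, map_mul, Psi_C]
        have e2 : Ψ₁ g = algebraMap k A (constantCoeff g) + Ψ₁ X * Ψ₁ g' := by
          conv_lhs => rw [hg']
          rw [map_add, map_mul, Psi_C]
        have hd : Ψ₁ X ∣ algebraMap k A (constantCoeff f) + algebraMap k A (constantCoeff g) * y₁ :=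
          ⟨-(Ψ₁ f' + Ψ₁ g' * y₁), by rw [e1, e2] at H; linear_combination H⟩
        obtain ⟨hf0, hg0⟩ := hind _ _ hd
        rw [hf0] at hf' e1
        rw [hg0] at hg' e2
        have H' : Ψ₁ f' + Ψ₁ g' * y₁ = 0 := by
          apply hreg
          rw [e1, e2] at H
          simp only [map_zero, zero_add] at H
          linear_combination H
        obtain ⟨⟨a, ha⟩, ⟨b, hb⟩⟩ := ih f' g' H'
        refine ⟨⟨a, ?_⟩, ⟨b, ?_⟩⟩
        · rw [hf', ha]; simp; ring
        · rw [hg', hb]; simp; ring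
    intro f g H
    exact ⟨ps_sep f fun n => (main n f g H).1, ps_sep g fun n => (main n f g H).2⟩

/-- rank-one version of the core lemma -/
theorem bijective_of_quot (Ψ₁ : PowerSeries k →ₐ[k] A)
    (hreg : ∀ a : A, Ψ₁ X * a = 0 → a = 0)
    (hsep : ∀ z : A, (∀ n : ℕ, Ψ₁ X ^ n ∣ z) → z = 0)
    (hind : ∀ α : k, Ψ₁ X ∣ algebraMap k A α → α = 0)
    (hspan : ∀ z : A, ∃ α : k, Ψ₁ X ∣ z - algebraMap k A α) :
    Function.Bijective Ψ₁ := by
  constructor
  · have main : ∀ n : ℕ, ∀ f : PowerSeries k, Ψ₁ f = 0 → (X : PowerSeries k) ^ n ∣ f := by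
      intro n
      induction n with
      | zero => intro f _; simp
      | succ n ih =>
        intro f H
        obtain ⟨f', hf'⟩ := ps_split f
        have e1 : Ψ₁ f = algebraMap k A (constantCoeff f) + Ψ₁ X * Ψ₁ f' := by
          conv_lhs => rw [hf']
          rw [map_add, map_mul, Psi_C]
        have hd : Ψ₁ X ∣ algebraMap k A (constantCoeff f) :=
          ⟨-(Ψ₁ f'), by rw [e1] at H; linear_combination H⟩
        have hf0 := hind _ hd
        rw [hf0] at hf' e1
        have H' : Ψ₁ f' = 0 := by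
          apply hreg
          rw [e1] at H
          simp only [map_zero, zero_add] at H
          exact H
        obtain ⟨a, ha⟩ := ih f' H'
        exact ⟨a, by rw [hf', ha]; simp; ring⟩
    rw [injective_iff_map_eq_zero]
    intro f H
    exact ps_sep f fun n => main n f H
  · intro z
    have hsp : ∀ z : A, ∃ (α : k) (w : A), z = algebraMap k A α + Ψ₁ X * w := by
      intro z
      obtain ⟨α, w, hw⟩ := hspan z
      exact ⟨α, w, by linear_combination hw⟩
    choose al nx hnx using hsp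
    let zs : ℕ → A := fun n => nx^[n] z
    have hzs : ∀ n, zs (n + 1) = nx (zs n) := fun n => Function.iterate_succ_apply' nx n z
    let F : ℕ → PowerSeries k := fun n => mk fun i => al (zs (i + n))
    have hF : ∀ n, F n = C (al (zs n)) + X * F (n + 1) := by
      intro n
      ext (_ | i)
      · simp [F]
      · simp only [F, coeff_mk, map_add, coeff_C, coeff_succ_X_mul, i.succ_ne_zero, if_false,
          zero_add]
        congr 2; omega
    have key : ∀ n, Ψ₁ (F 0) - z = Ψ₁ X ^ n * (Ψ₁ (F n) - zs n) := by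
      intro n
      induction n with
      | zero => simp [zs]
      | succ n ih =>
        rw [ih]
        have e1 : Ψ₁ (F n) = algebraMap k A (al (zs n)) + Ψ₁ X * Ψ₁ (F (n + 1)) := by
          conv_lhs => rw [hF n]
          rw [map_add, map_mul, Psi_C]
        have e3 := hnx (zs n)
        rw [← hzs] at e3
        rw [e1, pow_succ]
        linear_combination (-(Ψ₁ X ^ n)) * e3
    refine ⟨F 0, ?_⟩
    have : Ψ₁ (F 0) - z = 0 := hsep _ fun n => ⟨_, key n⟩
    exact sub_eq_zero.mp this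

end Basis

end Groth.Agent.Lib.Helper8.AR
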