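import Mathlib
import Groth.Agent.Lib.Helper8.AR7
set_option backward.isDefEq.respectTransparency.types false
set_option autoImplicit false
set_option linter.unusedSectionVars false
set_option linter.style.haveILetI false

namespace Groth.Agent.Lib.Helper8.AR

universe u

open PowerSeries

section Pres

variable {k : Type*} [Field k] {A : Type*} [CommRing A] [Algebra k A]
variable {Ψ : PowerSeries k →ₐ[k] A} {Y : A}

lemma ps_unit_inv (V : PowerSeries k) (hV : constantCoeff V ≠ 0) :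
    ∃ Vi : PowerSeries k, V * Vi = 1 := by
  have : IsUnit V := isUnit_iff_constantCoeff.mpr (isUnit_iff_ne_zero.mpr hV)
  obtain ⟨u, rfl⟩ := this
  exact ⟨((u⁻¹ : (PowerSeries k)ˣ) : PowerSeries k), by simp⟩

lemma mul_form' {Cc : PowerSeries k} (h : Y * Y = Ψ Cc) (f g f' g' : PowerSeries k) :
    (Ψ f + Ψ g * Y) * (Ψ f' + Ψ g' * Y) =
      Ψ (f * f' + g * g' * Cc) + Ψ (f * g' + g * f') * Y := by
  simp only [map_add, map_mul]
  linear_combination (Ψ g * Ψ g') * h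

/-- `z ∈ xⁿ · m` in coordinates -/
def InM (Ψ : PowerSeries k →ₐ[k] A) (Y : A) (n : ℕ) (z : A) : Prop :=
  ∃ f g : PowerSeries k, z = Ψ (X ^ (n + 1) * f) + Ψ (X ^ n * g) * Y

lemma InM.mul_right {C' : PowerSeries k} (hsq : Y * Y = Ψ (X ^ 2 * C')) (hb : IsBasis Ψ Y)
    {n : ℕ} {z : A} (hz : InM Ψ Y n z) (a : A) : InM Ψ Y n (z * a) := by
  obtain ⟨f, g, rfl⟩ := hz
  obtain ⟨a₁, a₂, rfl⟩ := hb.gen a
  refine ⟨f * a₁ + X * g * a₂ * C', X * f * a₂ + g * a₁, ?_⟩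
  simp only [map_add, map_mul, map_pow] at hsq ⊢
  linear_combination (Ψ X ^ n * Ψ g * Ψ a₂) * hsq

lemma InM.mul {C' : PowerSeries k} (hsq : Y * Y = Ψ (X ^ 2 * C'))
    {n : ℕ} {z w : A} (hz : InM Ψ Y n z) (hw : InM Ψ Y 0 w) : InM Ψ Y (n + 1) (z * w) := by
  obtain ⟨f, g, rfl⟩ := hz
  obtain ⟨f', g', rfl⟩ := hw
  refine ⟨f * f' + g * g' * C', f * g' + g * f', ?_⟩
  simp only [map_add, map_mul, map_pow, pow_zero, one_mul, zero_add, pow_one] at hsq ⊢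
  linear_combination (Ψ X ^ n * Ψ g * Ψ g') * hsq

lemma InM.pow {C' : PowerSeries k} (hsq : Y * Y = Ψ (X ^ 2 * C'))
    {w : A} (hw : InM Ψ Y 0 w) (n : ℕ) : InM Ψ Y n (w ^ (n + 1)) := by
  induction n with
  | zero => simpa using hw
  | succ n ih =>
    rw [pow_succ]
    exact ih.mul hsq hw

lemma InM.co (hb : IsBasis Ψ Y) {n : ℕ} {U V : PowerSeries k}
    (hz : InM Ψ Y n (Ψ U + Ψ V * Y)) :
    (X : PowerSeries k) ^ (n + 1) ∣ U ∧ (X : PowerSeries k) ^ n ∣ V := by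
  obtain ⟨f, g, h⟩ := hz
  obtain ⟨h1, h2⟩ := hb.uniq' h
  exact ⟨⟨f, h1⟩, ⟨g, h2⟩⟩

/-- Lemma (O): order bound. -/
theorem order_bound (hb : IsBasis Ψ Y) (h2 : (2 : k) ≠ 0) {Cc : PowerSeries k}
    (hsq : Y * Y = Ψ Cc)
    (U V : PowerSeries k) (hV : constantCoeff V ≠ 0) (m : ℕ)
    (hz : InM Ψ Y (m + 1) ((Ψ U + Ψ V * Y) * (Ψ U + Ψ V * Y))) :
    (X : PowerSeries k) ^ (m + 2) ∣ Cc := by
  have e : (Ψ U + Ψ V * Y) * (Ψ U + Ψ V * Y) = Ψ (U * U + V * V * Cc) + Ψ (2 * U * V) * Y := by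
    simp only [map_add, map_mul, map_ofNat]
    linear_combination (Ψ V * Ψ V) * hsq
  rw [e] at hz
  obtain ⟨⟨f, hf⟩, ⟨g, hg⟩⟩ := hz.co hb
  obtain ⟨Vi, hVi⟩ := ps_unit_inv V hV
  have h2i : (C (2⁻¹ : k) : PowerSeries k) * 2 = 1 := by
    rw [← map_ofNat (C (R := k)) 2, ← map_mul, inv_mul_cancel₀ h2, map_one]
  have hU : U = X ^ (m + 1) * (C (2⁻¹ : k) * Vi * g) := by
    linear_combination (C (2⁻¹ : k) * Vi) * hg - (C (2⁻¹ : k) * 2 * U) * hVi - U * h2i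
  refine ⟨Vi * Vi * (f - X ^ m * (C (2⁻¹ : k) * Vi * g) ^ 2), ?_⟩
  have hpow : (X : PowerSeries k) ^ (m + 1) * X ^ (m + 1) = X ^ (m + 2) * X ^ m := by
    rw [← pow_add, ← pow_add]; congr 1; omega
  have hU2 : U * U = X ^ (m + 2) * (X ^ m * (C (2⁻¹ : k) * Vi * g) ^ 2) := by
    conv_lhs => rw [hU]
    linear_combination ((C (2⁻¹ : k) * Vi * g) ^ 2) * hpow
  have hVi2 : V * V * (Vi * Vi) = 1 := by
    linear_combination (V * Vi + 1) * hVi
  linear_combination (Vi * Vi) * hf - (Vi * Vi) * hU2 - Cc * hVi2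

end Pres

section Change

variable {k : Type*} [Field k] {A : Type*} [CommRing A] [Algebra k A]
variable {Ψ : PowerSeries k →ₐ[k] A} {Y : A}

/-- data for a change of presentation of type `r ≥ 2` -/
structure ChangeData (Ψ : PowerSeries k →ₐ[k] A) (Y : A) (Ψ₁ : PowerSeries k →ₐ[k] A)
    (y₁ : A) where
  C' : PowerSeries k
  hsq : Y * Y = Ψ (X ^ 3 * C')
  P' : PowerSeries k
  Q : PowerSeries k
  U' : PowerSeries k
  V : PowerSeries k
  hP' : constantCoeff P' ≠ 0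
  hV : constantCoeff V ≠ 0
  hx₁ : Ψ₁ X = Ψ (X * P') + Ψ Q * Y
  hy₁ : y₁ = Ψ (X ^ 2 * U') + Ψ V * Y

variable {Ψ₁ : PowerSeries k →ₐ[k] A} {y₁ : A}

lemma ChangeData.dvd_xx (D : ChangeData Ψ Y Ψ₁ y₁) : Ψ₁ X ∣ Ψ X * Ψ X := by
  have hN : constantCoeff (D.P' * D.P' - D.Q * D.Q * X * D.C') ≠ 0 := by
    simp only [map_sub, map_mul, constantCoeff_X, mul_zero, zero_mul, sub_zero]
    exact mul_ne_zero D.hP' D.hP'
  obtain ⟨Ni, hNi⟩ := ps_unit_inv _ hN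
  refine ⟨(Ψ X * Ψ D.P' - Ψ D.Q * Y) * Ψ Ni, ?_⟩
  have e := congrArg Ψ hNi
  simp only [map_sub, map_mul, map_one] at e
  have hsq := D.hsq
  simp only [map_mul, map_pow] at hsq
  rw [D.hx₁]
  simp only [map_mul]
  linear_combination (-(Ψ X * Ψ X)) * e + (Ψ D.Q * Ψ D.Q * Ψ Ni) * hsq

lemma ChangeData.dvd_xY (D : ChangeData Ψ Y Ψ₁ y₁) : Ψ₁ X ∣ Ψ X * Y := by
  obtain ⟨Pi, hPi⟩ := ps_unit_inv _ D.hP'
  obtain ⟨w, hw⟩ := D.dvd_xx
  refine ⟨Ψ Pi * (Y - w * Ψ (D.Q * X * D.C')), ?_⟩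
  have e := congrArg Ψ hPi
  simp only [map_mul, map_one] at e
  have hsq := D.hsq
  simp only [map_mul, map_pow] at hsq
  have hx := D.hx₁
  simp only [map_mul] at hx
  simp only [map_mul]
  linear_combination (-(Ψ X * Y)) * e - (Ψ Pi * Ψ D.Q) * hsq - (Ψ Pi * (Ψ D.Q * Ψ X * Ψ D.C')) * hw
    - (Ψ Pi * Y) * hx

lemma ChangeData.dvd_m2 (D : ChangeData Ψ Y Ψ₁ y₁) (f g : PowerSeries k) :
    Ψ₁ X ∣ Ψ (X ^ 2 * f) + Ψ (X * g) * Y := by
  have e : Ψ (X ^ 2 * f) + Ψ (X * g) * Y = (Ψ X * Ψ X) * Ψ f + (Ψ X * Y) * Ψ g := by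
    simp only [map_mul, map_pow]; ring
  rw [e]
  exact dvd_add (Dvd.dvd.mul_right D.dvd_xx _) (Dvd.dvd.mul_right D.dvd_xY _)

lemma ChangeData.reg (D : ChangeData Ψ Y Ψ₁ y₁) (hb : IsBasis Ψ Y) (a : A)
    (ha : Ψ₁ X * a = 0) : a = 0 := by
  have hN : constantCoeff (D.P' * D.P' - D.Q * D.Q * X * D.C') ≠ 0 := by
    simp only [map_sub, map_mul, constantCoeff_X, mul_zero, zero_mul, sub_zero]
    exact mul_ne_zero D.hP' D.hP'
  obtain ⟨Ni, hNi⟩ := ps_unit_inv _ hN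
  have e := congrArg Ψ hNi
  simp only [map_sub, map_mul, map_one] at e
  have hsq := D.hsq
  simp only [map_mul, map_pow] at hsq
  have hx := D.hx₁
  simp only [map_mul] at hx
  have h1 : Ψ X * (Ψ X * a) = 0 := by
    have : Ψ X * (Ψ X * a) = (Ψ₁ X * a) * ((Ψ X * Ψ D.P' - Ψ D.Q * Y) * Ψ Ni) := by
      rw [hx]
      linear_combination (-(Ψ X * Ψ X * a)) * e + (Ψ D.Q * Ψ D.Q * Ψ Ni * a) * hsq
    rw [this, ha, zero_mul]
  exact hb.reg _ (hb.reg _ h1)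

lemma ChangeData.dvd_sq (D : ChangeData Ψ Y Ψ₁ y₁) : Ψ X ∣ Ψ₁ X * Ψ₁ X := by
  have hsq := D.hsq
  simp only [map_mul, map_pow] at hsq
  have hx := D.hx₁
  simp only [map_mul] at hx
  refine ⟨Ψ X * Ψ D.P' * Ψ D.P' + 2 * Ψ D.P' * Ψ D.Q * Y + Ψ D.Q * Ψ D.Q * Ψ X ^ 2 * Ψ D.C', ?_⟩
  rw [hx]
  linear_combination (Ψ D.Q * Ψ D.Q) * hsq

lemma ChangeData.sep (D : ChangeData Ψ Y Ψ₁ y₁) (hb : IsBasis Ψ Y) (z : A)
    (hz : ∀ n : ℕ, Ψ₁ X ^ n ∣ z) : z = 0 := by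
  apply hb.sep
  intro n
  have h1 : Ψ X ^ n ∣ Ψ₁ X ^ (2 * n) := by
    rw [pow_mul, pow_two]; exact pow_dvd_pow_of_dvd D.dvd_sq n
  exact h1.trans (hz _)

lemma ChangeData.ind (D : ChangeData Ψ Y Ψ₁ y₁) (hb : IsBasis Ψ Y) (α β : k)
    (hd : Ψ₁ X ∣ algebraMap k A α + algebraMap k A β * y₁) : α = 0 ∧ β = 0 := by
  obtain ⟨C', hsq, P', Q, U', V, hP', hV, hx₁, hy₁⟩ := D
  subst hy₁
  obtain ⟨a, ha⟩ := hd
  obtain ⟨a₁, a₂, rfl⟩ := hb.gen a
  have H : Ψ (C α + C β * (X ^ 2 * U')) + Ψ (C β * V) * Y =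
      Ψ (X * P' * a₁ + Q * a₂ * (X ^ 3 * C')) + Ψ (X * P' * a₂ + Q * a₁) * Y := by
    have e1 : Ψ (C α + C β * (X ^ 2 * U')) + Ψ (C β * V) * Y =
        algebraMap k A α + algebraMap k A β * (Ψ (X ^ 2 * U') + Ψ V * Y) := by
      simp only [map_add, map_mul, Psi_C]
      ring
    rw [e1, ha, hx₁]
    simp only [map_add, map_mul] at hsq ⊢
    linear_combination (Ψ Q * Ψ a₂) * hsq
  obtain ⟨E1, E2⟩ := hb.uniq' H
  have hα : α = 0 := by
    have := congrArg constantCoeff E1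
    simpa using this
  subst hα
  have E1' : X * (P' * a₁) = X * (X * (C β * U' - Q * a₂ * X * C')) := by
    simp only [map_zero, zero_add] at E1
    linear_combination -E1
  have E1'' := mul_left_cancel₀ X_ne_zero E1'
  have ha₁ : constantCoeff a₁ = 0 := by
    have := congrArg constantCoeff E1''
    simp only [map_mul, constantCoeff_X, zero_mul] at this
    exact (mul_eq_zero.mp this).resolve_left hP'
  have hβ : β = 0 := by
    have := congrArg constantCoeff E2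
    simp only [map_mul, map_add, constantCoeff_X, zero_mul, constantCoeff_C, ha₁, mul_zero,
      add_zero] at this
    exact (mul_eq_zero.mp this).resolve_right hV
  exact ⟨rfl, hβ⟩

lemma ps_split2 (f : PowerSeries k) : ∃ (f₁ : k) (f'' : PowerSeries k),
    f = C (constantCoeff f) + X * (C f₁ + X * f'') := by
  obtain ⟨f', hf'⟩ := ps_split f
  obtain ⟨f'', hf''⟩ := ps_split f'
  exact ⟨constantCoeff f', f'', by rw [← hf'']; exact hf'⟩

lemma ChangeData.span (D : ChangeData Ψ Y Ψ₁ y₁) (z : A) (hb : IsBasis Ψ Y) :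
    ∃ α β : k, Ψ₁ X ∣ z - (algebraMap k A α + algebraMap k A β * y₁) := by
  have hxx := D.dvd_xx
  have hxY := D.dvd_xY
  obtain ⟨C', hsq, P', Q, U', V, hP', hV, hx₁, hy₁⟩ := D
  subst hy₁
  obtain ⟨f, g, rfl⟩ := hb.gen z
  obtain ⟨f₁, f'', hf⟩ := ps_split2 f
  obtain ⟨g', hg⟩ := ps_split g
  obtain ⟨P'', hP⟩ := ps_split P'
  obtain ⟨Q', hQ⟩ := ps_split Q
  obtain ⟨V', hVs⟩ := ps_split V
  set f₀ := constantCoeff f
  set g₀ := constantCoeff g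
  set p₀ := constantCoeff P' with hp₀
  set q₀ := constantCoeff Q
  set v₀ := constantCoeff V with hv₀
  have hp₀ne : p₀ ≠ 0 := hP'
  have hv₀ne : v₀ ≠ 0 := hV
  set c := f₁ / p₀ with hc
  set β := (g₀ - c * q₀) / v₀ with hβ
  have hcp : algebraMap k A c * algebraMap k A p₀ = algebraMap k A f₁ := by
    rw [← map_mul, hc, div_mul_cancel₀ _ hp₀ne]
  have hβv : algebraMap k A β * algebraMap k A v₀ =
      algebraMap k A g₀ - algebraMap k A c * algebraMap k A q₀ := by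
    rw [← map_mul, ← map_mul, ← map_sub, hβ, div_mul_cancel₀ _ hv₀ne]
  have ef := congrArg Ψ hf
  have eg := congrArg Ψ hg
  have eP := congrArg Ψ hP
  have eQ := congrArg Ψ hQ
  have eV := congrArg Ψ hVs
  simp only [map_add, map_mul, Psi_C] at ef eg eP eQ eV
  have hx := hx₁
  simp only [map_mul] at hx
  refine ⟨f₀, β, ?_⟩
  have key : Ψ f + Ψ g * Y - (algebraMap k A f₀ + algebraMap k A β * (Ψ (X ^ 2 * U') + Ψ V * Y)) =
      algebraMap k A c * Ψ₁ X +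
        (Ψ X * Ψ X) * (Ψ f'' - algebraMap k A β * Ψ U' - algebraMap k A c * Ψ P'') +
        (Ψ X * Y) * (Ψ g' - algebraMap k A β * Ψ V' - algebraMap k A c * Ψ Q') := by
    simp only [map_mul, map_pow]
    rw [hx, ef, eg]
    rw [eP, eQ, eV]
    linear_combination (-(Ψ X)) * hcp - Y * hβv
  rw [key]
  exact dvd_add (dvd_add (Dvd.intro_left _ rfl) (Dvd.dvd.mul_right hxx _))
    (Dvd.dvd.mul_right hxY _)

/-- **Change of presentation (type `r ≥ 2`)**. -/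
theorem ChangeData.isBasis (D : ChangeData Ψ Y Ψ₁ y₁) (hb : IsBasis Ψ Y) : IsBasis Ψ₁ y₁ :=
  isBasis_of_quot Ψ₁ y₁ (D.reg hb) (D.sep hb) (D.ind hb) (fun z => D.span z hb)

end Change

section UnitMul

variable {k : Type*} [Field k] {A : Type*} [CommRing A] [Algebra k A]
variable {Ψ : PowerSeries k →ₐ[k] A} {Y : A}

/-- change of presentation of unit type -/
theorem IsBasis.of_unit_mul (hb : IsBasis Ψ Y) (e : A) (he : IsUnit e)
    (Ψ' : PowerSeries k →ₐ[k] A) (hΨ' : Ψ' X = Ψ X * e) (Y' : A) (α β : k) (hβ : β ≠ 0) (w : A)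
    (hY' : Y' = algebraMap k A α + algebraMap k A β * Y + Ψ X * w) : IsBasis Ψ' Y' := by
  obtain ⟨u, rfl⟩ := he
  have hdvd : ∀ (n : ℕ) (z : A), Ψ' X ^ n ∣ z ↔ Ψ X ^ n ∣ z := by
    intro n z
    rw [hΨ', mul_pow]
    constructor
    · rintro ⟨v, rfl⟩; exact ⟨(u : A) ^ n * v, by ring⟩
    · rintro ⟨v, rfl⟩
      refine ⟨((u⁻¹ : Aˣ) : A) ^ n * v, ?_⟩
      have : (u : A) ^ n * ((u⁻¹ : Aˣ) : A) ^ n = 1 := by rw [← mul_pow]; simp
      linear_combination (-(Ψ X ^ n * v)) * this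
  have hdvd1 : ∀ z : A, Ψ' X ∣ z ↔ Ψ X ∣ z := by
    intro z
    have := hdvd 1 z
    simpa using this
  apply isBasis_of_quot
  · intro a ha
    rw [hΨ', mul_assoc] at ha
    have := hb.reg _ ha
    exact (Units.mul_right_eq_zero u).mp this
  · intro z hz
    exact hb.sep z fun n => (hdvd n z).mp (hz n)
  · intro α' β' hd
    rw [hdvd1, hY'] at hd
    have e1 : algebraMap k A α' + algebraMap k A β' * (algebraMap k A α + algebraMap k A β * Y + Ψ X * w)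
        = (Ψ (C (α' + β' * α)) + Ψ (C (β' * β)) * Y) + Ψ X * (algebraMap k A β' * w) := by
      simp only [Psi_C, map_add, map_mul]; ring
    rw [e1] at hd
    have hd2 : Ψ X ^ 1 ∣ Ψ (C (α' + β' * α)) + Ψ (C (β' * β)) * Y := by
      rw [pow_one]
      exact (dvd_add_left (Dvd.intro _ rfl)).mp hd
    obtain ⟨h1, h2⟩ := (hb.dvd_iff 1 _ _).mp hd2
    rw [pow_one, X_dvd_iff, constantCoeff_C] at h1 h2
    have hβ' : β' = 0 := (mul_eq_zero.mp h2).resolve_right hβ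
    rw [hβ', zero_mul, add_zero] at h1
    exact ⟨h1, hβ'⟩
  · intro z
    obtain ⟨f, g, rfl⟩ := hb.gen z
    obtain ⟨f', hf⟩ := ps_split f
    obtain ⟨g', hg⟩ := ps_split g
    have ef := congrArg Ψ hf
    have eg := congrArg Ψ hg
    simp only [map_add, map_mul, Psi_C] at ef eg
    set f₀ := constantCoeff f
    set g₀ := constantCoeff g
    refine ⟨f₀ - g₀ / β * α, g₀ / β, ?_⟩
    rw [hdvd1]
    refine ⟨Ψ f' + Ψ g' * Y - algebraMap k A (g₀ / β) * w, ?_⟩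
    have hgb : algebraMap k A (g₀ / β) * algebraMap k A β = algebraMap k A g₀ := by
      rw [← map_mul, div_mul_cancel₀ _ hβ]
    rw [hY', ef, eg]
    simp only [map_sub, map_mul]
    linear_combination (-Y) * hgb

end UnitMul

end Groth.Agent.Lib.Helper8.AR
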