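import Mathlib
import Groth.Agent.Lib.Helper8.AR8
set_option backward.isDefEq.respectTransparency.types false
set_option autoImplicit false
set_option linter.unusedSectionVars false
set_option linter.style.haveILetI false

namespace Groth.Agent.Lib.Helper8.AR

universe u

open ArSing

section Conc

variable (k : Type u) [Field k] (r : ℕ)

theorem stdBasis : IsBasis (xMap k r) (y k r) :=
  ⟨repr k r, uniq0 k r⟩

lemma aug_mk (f : MvPowerSeries (Fin 2) k) :
    aug k r (Ideal.Quotient.mk _ f) = MvPowerSeries.constantCoeff f := rfl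

variable {k r}

lemma aug_comp (Ψ₁ : PowerSeries k →ₐ[k] ring k r) (h : aug k r (Ψ₁ PowerSeries.X) = 0)
    (f : PowerSeries k) : aug k r (Ψ₁ f) = PowerSeries.constantCoeff f := by
  have h := algHom_eq_of_X ((aug k r).comp Ψ₁)
    ({ (PowerSeries.constantCoeff (R := k)) with
        commutes' := fun c => by simp } : PowerSeries k →ₐ[k] k)
    0 (by simp [h]) (by simp) (fun z hz => by simpa using hz 1)
  exact DFunLike.congr_fun h f

theorem exists_psMap (x₁ : ring k r) (hx : aug k r x₁ = 0) :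
    ∃ Ψ₁ : PowerSeries k →ₐ[k] ring k r, Ψ₁ PowerSeries.X = x₁ := by
  obtain ⟨X', rfl⟩ := Ideal.Quotient.mk_surjective x₁
  have hX' : MvPowerSeries.constantCoeff X' = 0 := hx
  have hs : PowerSeries.HasSubst X' := PowerSeries.HasSubst.of_constantCoeff_zero hX'
  refine ⟨(Ideal.Quotient.mkₐ k (Ideal.span {eqn k r})).comp (PowerSeries.substAlgHom hs), ?_⟩
  simp only [AlgHom.comp_apply, PowerSeries.coe_substAlgHom]
  rw [PowerSeries.subst_X hs]
  rfl

theorem exists_algHom (x' y' : ring k r) (hx : aug k r x' = 0) (hy : aug k r y' = 0)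
    (hrel : y' * y' = x' ^ (r + 1)) :
    ∃ φ : ring k r →ₐ[k] ring k r, φ (x k r) = x' ∧ φ (y k r) = y' := by
  obtain ⟨X', rfl⟩ := Ideal.Quotient.mk_surjective x'
  obtain ⟨Y', rfl⟩ := Ideal.Quotient.mk_surjective y'
  have hX' : MvPowerSeries.constantCoeff X' = 0 := hx
  have hY' : MvPowerSeries.constantCoeff Y' = 0 := hy
  have hs : MvPowerSeries.HasSubst (![X', Y'] : Fin 2 → MvPowerSeries (Fin 2) k) :=
    MvPowerSeries.hasSubst_of_constantCoeff_zero (by
      intro s
      fin_cases s
      · exact hX'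
      · exact hY')
  let S : MvPowerSeries (Fin 2) k →ₐ[k] MvPowerSeries (Fin 2) k :=
    MvPowerSeries.substAlgHom (R := k) hs
  have hS0 : S (MvPowerSeries.X 0) = X' := by
    simp only [S]; rw [MvPowerSeries.substAlgHom_X]; rfl
  have hS1 : S (MvPowerSeries.X 1) = Y' := by
    simp only [S]; rw [MvPowerSeries.substAlgHom_X]; rfl
  let π : MvPowerSeries (Fin 2) k →ₐ[k] ring k r := Ideal.Quotient.mkₐ k (Ideal.span {eqn k r})
  have hker : ∀ a ∈ Ideal.span {eqn k r}, (π.comp S) a = 0 := by
    intro a ha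
    obtain ⟨b, rfl⟩ := Ideal.mem_span_singleton'.mp ha
    rw [map_mul]
    have : (π.comp S) (eqn k r) = 0 := by
      simp only [eqn, map_sub, map_pow, AlgHom.comp_apply, hS0, hS1]
      have h1 : π Y' = Ideal.Quotient.mk _ Y' := rfl
      have h2 : π X' = Ideal.Quotient.mk _ X' := rfl
      rw [h1, h2, pow_two, hrel, sub_self]
    rw [this, mul_zero]
  refine ⟨Ideal.Quotient.liftₐ (Ideal.span {eqn k r}) (π.comp S) hker, ?_, ?_⟩
  · change (π.comp S) (MvPowerSeries.X 0) = _
    rw [AlgHom.comp_apply, hS0]; rfl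
  · change (π.comp S) (MvPowerSeries.X 1) = _
    rw [AlgHom.comp_apply, hS1]; rfl

end Conc

section Unit

variable {k : Type*} [Field k] {A : Type*} [CommRing A] [Algebra k A]
variable {Ψ : PowerSeries k →ₐ[k] A} {Y : A}

open PowerSeries

lemma isUnit_Psi (Ψ : PowerSeries k →ₐ[k] A) (f : PowerSeries k) (hf : constantCoeff f ≠ 0) :
    IsUnit (Ψ f) := by
  have : IsUnit f := isUnit_iff_constantCoeff.mpr (isUnit_iff_ne_zero.mpr hf)
  exact this.map Ψ

lemma isUnit_form {C' : PowerSeries k} (hsq : Y * Y = Ψ (X * C')) (f g : PowerSeries k)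
    (hf : constantCoeff f ≠ 0) : IsUnit (Ψ f + Ψ g * Y) := by
  have hN : constantCoeff (f * f - g * g * (X * C')) ≠ 0 := by
    simp only [map_sub, map_mul, constantCoeff_X, mul_zero, zero_mul, sub_zero]
    exact mul_ne_zero hf hf
  have hu := isUnit_Psi Ψ _ hN
  have e : (Ψ f + Ψ g * Y) * (Ψ f - Ψ g * Y) = Ψ (f * f - g * g * (X * C')) := by
    simp only [map_sub, map_mul] at hsq ⊢
    linear_combination (-(Ψ g * Ψ g)) * hsq
  rw [← e] at hu
  exact isUnit_of_mul_isUnit_left hu

end Unit

section Root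

variable {k : Type*} [Field k]

open PowerSeries

theorem exists_root [IsAlgClosed k] (w : PowerSeries k) (hw : constantCoeff w ≠ 0) (n : ℕ)
    (hn : (n : k) ≠ 0) : ∃ ω : PowerSeries k, ω ^ n = w ∧ constantCoeff ω ≠ 0 := by
  have hn0 : n ≠ 0 := by
    rintro rfl; simp at hn
  obtain ⟨ω₀, hω₀⟩ := IsAlgClosed.exists_pow_nat_eq (constantCoeff w) (Nat.pos_of_ne_zero hn0)
  have hω₀ne : ω₀ ≠ 0 := by
    rintro rfl
    rw [zero_pow hn0] at hω₀
    exact hw hω₀.symm
  let I : Ideal (PowerSeries k) := Ideal.span {X}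
  let f : Polynomial (PowerSeries k) := Polynomial.X ^ n - Polynomial.C w
  have hmonic : f.Monic := Polynomial.monic_X_pow_sub_C w hn0
  have h1 : f.eval (C ω₀) ∈ I := by
    simp only [f, I, Polynomial.eval_sub, Polynomial.eval_pow, Polynomial.eval_X,
      Polynomial.eval_C, Ideal.mem_span_singleton, X_dvd_iff, map_sub, map_pow,
      constantCoeff_C]
    rw [hω₀, sub_self]
  have h2 : IsUnit (Ideal.Quotient.mk I (f.derivative.eval (C ω₀))) := by
    apply IsUnit.map
    simp only [f, Polynomial.derivative_sub, Polynomial.derivative_X_pow, Polynomial.derivative_C,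
      sub_zero, Polynomial.eval_mul, Polynomial.eval_pow, Polynomial.eval_X,
      Polynomial.eval_C, Polynomial.eval_natCast]
    rw [isUnit_iff_constantCoeff]
    simp only [map_mul, map_pow, constantCoeff_C, map_natCast]
    exact isUnit_iff_ne_zero.mpr (mul_ne_zero hn (pow_ne_zero _ hω₀ne))
  obtain ⟨ω, hroot, hω⟩ := HenselianRing.is_henselian (I := I) f hmonic (C ω₀) h1 h2
  refine ⟨ω, ?_, ?_⟩
  · have : f.eval ω = 0 := hroot
    simp only [f, Polynomial.eval_sub, Polynomial.eval_pow, Polynomial.eval_X,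
      Polynomial.eval_C] at this
    exact sub_eq_zero.mp this
  · have : constantCoeff (ω - C ω₀) = 0 := by
      rw [← X_dvd_iff, ← Ideal.mem_span_singleton]; exact hω
    simp only [map_sub, constantCoeff_C] at this
    rw [sub_eq_zero.mp this]
    exact hω₀ne

end Root

end Groth.Agent.Lib.Helper8.AR
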