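import Mathlib
import Groth.Agent.Lib.Helper8.AR9
set_option backward.isDefEq.respectTransparency.types false
set_option autoImplicit false
set_option linter.unusedSectionVars false
set_option linter.style.haveILetI false

namespace Groth.Agent.Lib.Helper8.AR

universe u

open ArSing

section Prep

variable {k : Type u} [Field k] {r : ℕ}

open PowerSeries in
lemma X_sq_dvd_of_cube_dvd_sq (u : PowerSeries k) (h : (X : PowerSeries k) ^ 3 ∣ u * u) :
    (X : PowerSeries k) ^ 2 ∣ u := by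
  have h1 : (X : PowerSeries k) ∣ u * u := (dvd_pow_self X three_ne_zero).trans h
  have h2 : (X : PowerSeries k) ∣ u := (X_prime.dvd_or_dvd h1).elim id id
  obtain ⟨u₁, rfl⟩ := h2
  have h3 : (X : PowerSeries k) ^ 2 * X ∣ X ^ 2 * (u₁ * u₁) := by
    have e : (X : PowerSeries k) * u₁ * (X * u₁) = X ^ 2 * (u₁ * u₁) := by ring
    rw [← e, ← pow_succ]; exact h
  have h4 : (X : PowerSeries k) ∣ u₁ * u₁ :=
    (mul_dvd_mul_iff_left (pow_ne_zero 2 X_ne_zero)).mp h3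
  have h5 : (X : PowerSeries k) ∣ u₁ := (X_prime.dvd_or_dvd h4).elim id id
  obtain ⟨u₂, rfl⟩ := h5
  exact ⟨u₂, by ring⟩

lemma std_sq (hr : 2 ≤ r) : y k r * y k r =
    xMap k r (PowerSeries.X ^ 2 * PowerSeries.X ^ (r - 1)) := by
  rw [y_sq', ← pow_add]; congr 2; omega

lemma std_sq3 (hr : 2 ≤ r) : y k r * y k r =
    xMap k r (PowerSeries.X ^ 3 * PowerSeries.X ^ (r - 2)) := by
  rw [y_sq', ← pow_add]; congr 2; omega

lemma std_sq1 : y k r * y k r =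
    xMap k r (PowerSeries.X * PowerSeries.X ^ r) := by
  rw [y_sq', ← pow_succ']

/-- elements of the maximal ideal in standard coordinates -/
lemma inM_of_aug (z : ring k r) (hz : aug k r z = 0) : InM (xMap k r) (y k r) 0 z := by
  obtain ⟨f, g, rfl⟩ := repr k r z
  rw [aug_form] at hz
  obtain ⟨f', hf'⟩ := PowerSeries.X_dvd_iff.mpr hz
  exact ⟨f', g, by rw [hf']; simp⟩

lemma inM_of_aug' {Ψ₁ : PowerSeries k →ₐ[k] ring k r} {y₂ : ring k r} (hb : IsBasis Ψ₁ y₂)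
    (hx₁ : aug k r (Ψ₁ PowerSeries.X) = 0) (hy₂ : aug k r y₂ = 0)
    (z : ring k r) (hz : aug k r z = 0) : InM Ψ₁ y₂ 0 z := by
  obtain ⟨f, g, rfl⟩ := hb.gen z
  rw [map_add, map_mul, hy₂, mul_zero, add_zero, aug_comp Ψ₁ hx₁] at hz
  obtain ⟨f', hf'⟩ := PowerSeries.X_dvd_iff.mpr hz
  exact ⟨f', g, by rw [hf']; simp⟩

/-- the `J`-lemma -/
theorem J_lemma (hr : 2 ≤ r) (z w : ring k r) (hw : aug k r w = 0)
    (hrel : z * z = w ^ (r + 1)) :
    ∃ U' V : PowerSeries k, z = xMap k r (PowerSeries.X ^ 2 * U') + xMap k r V * y k r := by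
  obtain ⟨u, v, rfl⟩ := repr k r z
  have h1 : InM (xMap k r) (y k r) 2 (w ^ 3) := InM.pow (std_sq hr) (inM_of_aug w hw) 2
  have h2 : InM (xMap k r) (y k r) 2 (w ^ (r + 1)) := by
    have e : w ^ (r + 1) = w ^ 3 * w ^ (r - 2) := by rw [← pow_add]; congr 1; omega
    rw [e]
    exact h1.mul_right (std_sq hr) (stdBasis k r) _
  rw [← hrel, mul_form] at h2
  obtain ⟨h3, -⟩ := h2.co (stdBasis k r)
  have h4 : (PowerSeries.X : PowerSeries k) ^ 3 ∣ u * u := by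
    have h5 : (PowerSeries.X : PowerSeries k) ^ 3 ∣ v * v * PowerSeries.X ^ (r + 1) :=
      Dvd.dvd.mul_left (pow_dvd_pow _ (by omega)) _
    exact (dvd_add_left h5).mp h3
  obtain ⟨U', rfl⟩ := X_sq_dvd_of_cube_dvd_sq u h4
  exact ⟨U', v, rfl⟩

lemma isUnit_of_aug (a : ring k r) (ha : aug k r a ≠ 0) : IsUnit a := by
  obtain ⟨f, g, rfl⟩ := repr k r a
  rw [aug_form] at ha
  exact isUnit_form (std_sq1 (k := k) (r := r)) f g ha

lemma y_not_isUnit : ¬ IsUnit (y k r) := by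
  intro h
  have h2 : IsUnit (y k r * y k r) := h.mul h
  rw [y_sq] at h2
  exact x_not_isUnit k r (isUnit_of_dvd_unit (dvd_pow_self _ (Nat.succ_ne_zero r)) h2)

lemma aug_eq_zero_of_not_isUnit (a : ring k r) (ha : ¬ IsUnit a) : aug k r a = 0 := by
  by_contra h
  exact ha (isUnit_of_aug a h)

variable (σ : ring k r ≃ₐ[k] ring k r)

lemma aug_sigma_x : aug k r (σ (x k r)) = 0 := by
  apply aug_eq_zero_of_not_isUnit
  intro h
  have := h.map σ.symm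
  simp only [AlgEquiv.symm_apply_apply] at this
  exact x_not_isUnit k r this

lemma aug_sigma_y : aug k r (σ (y k r)) = 0 := by
  apply aug_eq_zero_of_not_isUnit
  intro h
  have := h.map σ.symm
  simp only [AlgEquiv.symm_apply_apply] at this
  exact y_not_isUnit this

end Prep

section Eigen

variable {k : Type u} [Field k] {r : ℕ} (σ : ring k r ≃ₐ[k] ring k r)

/-- half of `z + s σ z` -/
noncomputable def avg (s : k) (z : ring k r) : ring k r :=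
  algebraMap k _ (2⁻¹ : k) * (z + algebraMap k _ s * σ z)

lemma sigma_avg (hσ : ∀ a, σ (σ a) = a) (s : k) (hs : s * s = 1) (z : ring k r) :
    σ (avg σ s z) = algebraMap k _ s * avg σ s z := by
  have e : algebraMap k (ring k r) s * algebraMap k (ring k r) s = 1 := by
    rw [← map_mul, hs, map_one]
  simp only [avg, map_mul, map_add, AlgEquiv.commutes, hσ]
  linear_combination (-(algebraMap k (ring k r) (2⁻¹ : k) * σ z)) * e

lemma aug_avg (s : k) (z : ring k r) (h1 : aug k r z = 0) (h2 : aug k r (σ z) = 0) :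
    aug k r (avg σ s z) = 0 := by
  simp [avg, h1, h2]

lemma exists_sign (h2 : (2 : k) ≠ 0) (c : k) :
    ∃ s : k, (s = 1 ∨ s = -1) ∧ s * s = 1 ∧ 2⁻¹ * (1 + s * c) ≠ 0 := by
  by_cases hc : 1 + c = 0
  · refine ⟨-1, Or.inr rfl, by ring, ?_⟩
    have : c = -1 := by linear_combination hc
    rw [this]
    have : (2 : k)⁻¹ * (1 + -1 * -1) = 1 := by
      field_simp; ring
    rw [this]; exact one_ne_zero
  · refine ⟨1, Or.inl rfl, by ring, ?_⟩
    rw [one_mul]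
    exact mul_ne_zero (inv_ne_zero h2) hc

open PowerSeries in
theorem exists_eigen (hσ : ∀ a, σ (σ a) = a) (h2 : (2 : k) ≠ 0) (hr : 2 ≤ r) :
    ∃ (ε δ : k) (P' Q U' V : PowerSeries k), (ε = 1 ∨ ε = -1) ∧ (δ = 1 ∨ δ = -1) ∧
      constantCoeff P' ≠ 0 ∧ constantCoeff V ≠ 0 ∧
      σ (xMap k r (X * P') + xMap k r Q * y k r) =
        algebraMap k _ ε * (xMap k r (X * P') + xMap k r Q * y k r) ∧
      σ (xMap k r (X ^ 2 * U') + xMap k r V * y k r) =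
        algebraMap k _ δ * (xMap k r (X ^ 2 * U') + xMap k r V * y k r) := by
  obtain ⟨p, q, hpq⟩ := repr k r (σ (x k r))
  have hp0 : constantCoeff p = 0 := by
    have := aug_sigma_x σ
    rwa [hpq, aug_form] at this
  obtain ⟨p', rfl⟩ := X_dvd_iff.mpr hp0
  have hrel : σ (y k r) * σ (y k r) = σ (x k r) ^ (r + 1) := by
    rw [← map_mul, ← map_pow, y_sq]
  obtain ⟨u', v, huv⟩ := J_lemma hr _ _ (aug_sigma_x σ) hrel
  obtain ⟨ε, hε, hεε, hεc⟩ := exists_sign h2 (constantCoeff p')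
  obtain ⟨δ, hδ, hδδ, hδc⟩ := exists_sign h2 (constantCoeff v)
  refine ⟨ε, δ, C (2⁻¹ : k) * (1 + C ε * p'), C (2⁻¹ : k) * C ε * q, C (2⁻¹ : k) * C δ * u',
    C (2⁻¹ : k) * (1 + C δ * v), hε, hδ, ?_, ?_, ?_, ?_⟩
  · simpa using hεc
  · simpa using hδc
  · have e : xMap k r (X * (C (2⁻¹ : k) * (1 + C ε * p'))) + xMap k r (C (2⁻¹ : k) * C ε * q) * y k r
        = avg σ ε (x k r) := by
      simp only [avg, hpq, map_add, map_mul, map_one, Psi_C, xMap_X]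
      ring
    rw [e]
    exact sigma_avg σ hσ ε hεε _
  · have e : xMap k r (X ^ 2 * (C (2⁻¹ : k) * C δ * u')) +
        xMap k r (C (2⁻¹ : k) * (1 + C δ * v)) * y k r = avg σ δ (y k r) := by
      simp only [avg, huv, map_add, map_mul, map_one, map_pow, Psi_C, xMap_X]
      ring
    rw [e]
    exact sigma_avg σ hσ δ hδδ _

end Eigen

section Square

variable {k : Type*} [Field k] {A : Type*} [CommRing A] [Algebra k A]

open PowerSeries in
lemma rescale_C' (a c : k) : rescale a (C c : PowerSeries k) = C c := by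
  ext n
  rw [coeff_rescale, coeff_C]
  split_ifs with h
  · subst h; simp
  · simp

open PowerSeries in
/-- coefficients of `y₁²` are compatible with the involution -/
theorem square_coeffs {Ψ₁ : PowerSeries k →ₐ[k] A} {y₁ : A} (hb₁ : IsBasis Ψ₁ y₁)
    (σ : A ≃ₐ[k] A) (ε δ : k) (hδ : δ * δ = 1)
    (hσΨ : ∀ f, σ (Ψ₁ f) = Ψ₁ (rescale ε f)) (hσy : σ y₁ = algebraMap k A δ * y₁) :
    ∃ c b : PowerSeries k, y₁ * y₁ = Ψ₁ c + Ψ₁ b * y₁ ∧ rescale ε c = c ∧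
      b = C δ * rescale ε b := by
  obtain ⟨c, b, hcb⟩ := hb₁.gen (y₁ * y₁)
  refine ⟨c, b, hcb, ?_, ?_⟩
  all_goals
    have e1 : σ (y₁ * y₁) = y₁ * y₁ := by
      rw [map_mul, hσy]
      have : algebraMap k A δ * algebraMap k A δ = 1 := by rw [← map_mul, hδ, map_one]
      linear_combination (y₁ * y₁) * this
    have e2 : σ (y₁ * y₁) = Ψ₁ (rescale ε c) + Ψ₁ (C δ * rescale ε b) * y₁ := by
      rw [hcb, map_add, map_mul, hσΨ, hσΨ, hσy, map_mul, Psi_C]; ring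
    rw [e1, hcb] at e2
    obtain ⟨h1, h2⟩ := hb₁.uniq' e2
  · exact h1.symm
  · exact h2

open PowerSeries in
/-- completing the square -/
theorem complete_square {Ψ₁ : PowerSeries k →ₐ[k] A} {y₁ : A} (hb₁ : IsBasis Ψ₁ y₁)
    (h2 : (2 : k) ≠ 0)
    (σ : A ≃ₐ[k] A) (ε δ : k) (hδ : δ * δ = 1)
    (hσΨ : ∀ f, σ (Ψ₁ f) = Ψ₁ (rescale ε f)) (hσy : σ y₁ = algebraMap k A δ * y₁)
    (c b : PowerSeries k) (hcb : y₁ * y₁ = Ψ₁ c + Ψ₁ b * y₁) (hc : rescale ε c = c)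
    (hbb : b = C δ * rescale ε b) :
    (y₁ - Ψ₁ (C (2⁻¹ : k) * b)) * (y₁ - Ψ₁ (C (2⁻¹ : k) * b)) =
        Ψ₁ (c + C (2⁻¹ : k) * C (2⁻¹ : k) * (b * b)) ∧
      σ (y₁ - Ψ₁ (C (2⁻¹ : k) * b)) = algebraMap k A δ * (y₁ - Ψ₁ (C (2⁻¹ : k) * b)) ∧
      rescale ε (c + C (2⁻¹ : k) * C (2⁻¹ : k) * (b * b)) =
        c + C (2⁻¹ : k) * C (2⁻¹ : k) * (b * b) := by
  have hh : algebraMap k A (2⁻¹ : k) * 2 = 1 := by
    rw [← map_ofNat (algebraMap k A) 2, ← map_mul, inv_mul_cancel₀ h2, map_one]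
  have hdd : (C δ : PowerSeries k) * C δ = 1 := by rw [← map_mul, hδ, map_one]
  have hbb2 : b * b = rescale ε b * rescale ε b := by
    conv_lhs => rw [hbb]
    linear_combination (rescale ε b * rescale ε b) * hdd
  refine ⟨?_, ?_, ?_⟩
  · simp only [map_add, map_mul, Psi_C]
    linear_combination hcb - (Ψ₁ b * y₁) * hh
  · rw [map_sub, hσy, hσΨ]
    have e : Ψ₁ (rescale ε (C (2⁻¹ : k) * b)) = algebraMap k A δ * Ψ₁ (C (2⁻¹ : k) * b) := by
      rw [← Psi_C Ψ₁ δ, ← map_mul]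
      congr 1
      rw [map_mul, rescale_C']
      conv_rhs => rw [hbb]
      linear_combination (-(C (2⁻¹ : k) * rescale ε b)) * hdd
    rw [e]; ring
  · rw [map_add, map_mul, map_mul, map_mul, hc, rescale_C', ← hbb2]

end Square

section Order

variable {k : Type u} [Field k] {r : ℕ}

open PowerSeries

/-- the trivial change data `(x₁, y)` -/
noncomputable def cdY (hr : 2 ≤ r) (Ψ₁ : PowerSeries k →ₐ[k] ring k r) (P' Q : PowerSeries k)
    (hP' : constantCoeff P' ≠ 0)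
    (hx₁ : Ψ₁ X = xMap k r (X * P') + xMap k r Q * y k r) :
    ChangeData (xMap k r) (y k r) Ψ₁ (y k r) where
  C' := X ^ (r - 2)
  hsq := std_sq3 hr
  P' := P'
  Q := Q
  U' := 0
  V := 1
  hP' := hP'
  hV := by simp
  hx₁ := hx₁
  hy₁ := by simp

theorem order_eq (h2 : (2 : k) ≠ 0) (hr : 2 ≤ r) (Ψ₁ : PowerSeries k →ₐ[k] ring k r)
    (y₂ : ring k r) (P' Q : PowerSeries k) (hP' : constantCoeff P' ≠ 0)
    (hx₁ : Ψ₁ X = xMap k r (X * P') + xMap k r Q * y k r)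
    (hb₂ : IsBasis Ψ₁ y₂) (haug : aug k r y₂ = 0) (C₁ : PowerSeries k)
    (hsq₂ : y₂ * y₂ = Ψ₁ C₁) :
    ∃ w : PowerSeries k, C₁ = X ^ (r + 1) * w ∧ constantCoeff w ≠ 0 := by
  have D := cdY hr Ψ₁ P' Q hP' hx₁
  have hstd := stdBasis k r
  have hx₁aug : aug k r (Ψ₁ X) = 0 := by rw [hx₁, aug_form]; simp
  have hx₁M : InM (xMap k r) (y k r) 0 (Ψ₁ X) := inM_of_aug _ hx₁aug
  -- (α)
  have hC0 : constantCoeff C₁ = 0 := by
    have := congrArg (aug k r) hsq₂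
    rw [map_mul, haug, mul_zero, aug_comp Ψ₁ hx₁aug] at this
    exact this.symm
  obtain ⟨c₁, C₁'', hC₁⟩ : ∃ (c₁ : k) (C₁'' : PowerSeries k), C₁ = X * (C c₁ + X * C₁'') := by
    obtain ⟨f₁, f'', hf⟩ := ps_split2 C₁
    rw [hC0] at hf
    exact ⟨f₁, f'', by simpa using hf⟩
  have hc₁ : c₁ = 0 := by
    have hy₂M := inM_of_aug y₂ haug
    have h1 : InM (xMap k r) (y k r) 1 (y₂ * y₂) := hy₂M.mul (std_sq hr) hy₂M
    have h2' : InM (xMap k r) (y k r) 1 (Ψ₁ X ^ 2 * Ψ₁ C₁'') :=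
      (InM.pow (std_sq hr) hx₁M 1).mul_right (std_sq hr) hstd _
    obtain ⟨f, g, hfg⟩ := h1
    obtain ⟨f', g', hfg'⟩ := h2'
    have e0 : algebraMap k (ring k r) c₁ * Ψ₁ X = y₂ * y₂ - Ψ₁ X ^ 2 * Ψ₁ C₁'' := by
      rw [hsq₂, hC₁]
      simp only [map_add, map_mul, Psi_C]
      ring
    have e : xMap k r (C c₁ * (X * P')) + xMap k r (C c₁ * Q) * y k r =
        xMap k r (X ^ 2 * (f - f')) + xMap k r (X ^ 1 * (g - g')) * y k r := by
      have e3 : xMap k r (C c₁ * (X * P')) + xMap k r (C c₁ * Q) * y k r =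
          algebraMap k (ring k r) c₁ * Ψ₁ X := by
        rw [hx₁]; simp only [map_mul, Psi_C]; ring
      rw [e3, e0, hfg, hfg']
      simp only [map_sub, map_mul, map_pow]
      ring
    obtain ⟨e1, -⟩ := hstd.uniq' e
    have e1' : X * (C c₁ * P') = X * (X * (f - f')) := by linear_combination e1
    have e1'' := mul_left_cancel₀ X_ne_zero e1'
    have := congrArg constantCoeff e1''
    simp only [map_mul, constantCoeff_C, constantCoeff_X, zero_mul] at this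
    exact (mul_eq_zero.mp this).resolve_right hP'
  have hsq₂' : y₂ * y₂ = Ψ₁ (X ^ 2 * C₁'') := by
    rw [hsq₂, hC₁, hc₁]; congr 1; simp; ring
  -- (γ)
  obtain ⟨f₂, g₂, hy⟩ := hb₂.gen (y k r)
  have hg₂ : constantCoeff g₂ ≠ 0 := by
    intro hg0
    obtain ⟨g', rfl⟩ := X_dvd_iff.mpr hg0
    have hf0 : constantCoeff f₂ = 0 := by
      have := congrArg (aug k r) hy
      rw [aug_y, map_add, map_mul, haug, mul_zero, add_zero, aug_comp Ψ₁ hx₁aug] at this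
      exact this.symm
    obtain ⟨f', rfl⟩ := X_dvd_iff.mpr hf0
    have hd : Ψ₁ X ∣ algebraMap k (ring k r) 0 + algebraMap k (ring k r) 1 * y k r := by
      refine ⟨Ψ₁ f' + Ψ₁ g' * y₂, ?_⟩
      rw [map_zero, map_one, zero_add, one_mul]
      conv_lhs => rw [hy]
      simp only [map_mul]; ring
    exact one_ne_zero (D.ind hstd 0 1 hd).2
  -- (app-2)
  have hxM : InM Ψ₁ y₂ 0 (x k r) := inM_of_aug' hb₂ hx₁aug haug _ (aug_x k r)
  have h3 : InM Ψ₁ y₂ r (x k r ^ (r + 1)) := InM.pow hsq₂' hxM r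
  have h4 : (X : PowerSeries k) ^ (r + 1) ∣ C₁ := by
    have hr1 : r - 1 + 1 = r := by omega
    have hr2 : r - 1 + 2 = r + 1 := by omega
    have h3' : InM Ψ₁ y₂ (r - 1 + 1) ((Ψ₁ f₂ + Ψ₁ g₂ * y₂) * (Ψ₁ f₂ + Ψ₁ g₂ * y₂)) := by
      rw [hr1, ← hy, y_sq]; exact h3
    have := order_bound hb₂ h2 hsq₂ f₂ g₂ hg₂ (r - 1) h3'
    rwa [hr2] at this
  obtain ⟨w, hw⟩ := h4
  -- (β)
  obtain ⟨U₂, V₂, hy₂⟩ := repr k r y₂
  have hV₂ : constantCoeff V₂ ≠ 0 := by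
    intro hV0
    obtain ⟨V', rfl⟩ := X_dvd_iff.mpr hV0
    have hU0 : constantCoeff U₂ = 0 := by rw [hy₂, aug_form] at haug; exact haug
    obtain ⟨U, rfl⟩ := X_dvd_iff.mpr hU0
    have h5 : InM (xMap k r) (y k r) 2 (y₂ * y₂) := by
      rw [hsq₂, hw]
      have e : Ψ₁ (X ^ (r + 1) * w) = Ψ₁ X ^ 3 * Ψ₁ (X ^ (r - 2) * w) := by
        rw [← map_pow, ← map_mul, ← mul_assoc, ← pow_add]
        congr 3; omega
      rw [e]
      exact (InM.pow (std_sq hr) hx₁M 2).mul_right (std_sq hr) hstd _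
    rw [hy₂, mul_form] at h5
    obtain ⟨h6, -⟩ := h5.co hstd
    have h7 : (X : PowerSeries k) ∣ U := by
      have h8 : (X : PowerSeries k) ^ 2 * X ∣ X ^ 2 * (U * U + V' * V' * X ^ (r + 1)) := by
        have e : X * U * (X * U) + X * V' * (X * V') * X ^ (r + 1) =
            X ^ 2 * (U * U + V' * V' * X ^ (r + 1)) := by ring
        rw [← e, ← pow_succ]; exact h6
      have h9 : (X : PowerSeries k) ∣ U * U + V' * V' * X ^ (r + 1) :=
        (mul_dvd_mul_iff_left (pow_ne_zero 2 X_ne_zero)).mp h8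
      have h10 : (X : PowerSeries k) ∣ V' * V' * X ^ (r + 1) :=
        Dvd.dvd.mul_left (dvd_pow_self X (Nat.succ_ne_zero r)) _
      have h11 : (X : PowerSeries k) ∣ U * U := (dvd_add_left h10).mp h9
      exact (X_prime.dvd_or_dvd h11).elim id id
    obtain ⟨U'', rfl⟩ := h7
    have hd : Ψ₁ X ∣ y₂ := by
      rw [hy₂]
      have := D.dvd_m2 U'' V'
      have e : (X : PowerSeries k) * (X * U'') = X ^ 2 * U'' := by ring
      rwa [e]
    have hd' : Ψ₁ X ^ 1 ∣ Ψ₁ 0 + Ψ₁ 1 * y₂ := by simpa using hd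
    have := ((hb₂.dvd_iff 1 0 1).mp hd').2
    rw [pow_one, X_dvd_iff] at this
    simp at this
  -- (app-1)
  refine ⟨w, hw, ?_⟩
  intro hw0
  obtain ⟨w', rfl⟩ := X_dvd_iff.mpr hw0
  have h8 : InM (xMap k r) (y k r) (r + 1) (y₂ * y₂) := by
    rw [hsq₂, hw]
    have e : Ψ₁ (X ^ (r + 1) * (X * w')) = Ψ₁ X ^ (r + 1 + 1) * Ψ₁ w' := by
      simp only [map_mul, map_pow]; ring
    rw [e]
    exact (InM.pow (std_sq hr) hx₁M (r + 1)).mul_right (std_sq hr) hstd _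
  rw [hy₂] at h8
  have h9 := order_bound hstd h2 (y_sq' k r) U₂ V₂ hV₂ r h8
  have := (pow_dvd_pow_iff X_ne_zero X_prime.not_isUnit).mp h9
  omega

end Order

section Final

variable {k : Type u} [Field k] {r : ℕ}

open PowerSeries

theorem exists_equiv_of_basis (Ψ₂ : PowerSeries k →ₐ[k] ring k r) (y₂ : ring k r)
    (hb : IsBasis Ψ₂ y₂) (hx : aug k r (Ψ₂ X) = 0) (hy : aug k r y₂ = 0)
    (hrel : y₂ * y₂ = Ψ₂ X ^ (r + 1)) :
    ∃ φ : ring k r ≃ₐ[k] ring k r, φ (x k r) = Ψ₂ X ∧ φ (y k r) = y₂ := by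
  obtain ⟨φ, hφx, hφy⟩ := exists_algHom _ _ hx hy hrel
  have hcomp : φ.comp (xMap k r) = Ψ₂ :=
    algHom_eq_of_X _ _ (Ψ₂ X) (by simp [xMap_X, hφx]) rfl hb.sep
  have hform : ∀ f g, φ (xMap k r f + xMap k r g * y k r) = Ψ₂ f + Ψ₂ g * y₂ := by
    intro f g
    rw [map_add, map_mul, hφy, ← hcomp]; rfl
  have hbij : Function.Bijective φ := by
    constructor
    · rw [injective_iff_map_eq_zero]
      intro a ha
      obtain ⟨f, g, rfl⟩ := repr k r a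
      rw [hform] at ha
      obtain ⟨rfl, rfl⟩ := hb.uniq _ _ ha
      simp
    · intro b
      obtain ⟨f, g, rfl⟩ := hb.gen b
      exact ⟨_, hform f g⟩
  exact ⟨AlgEquiv.ofBijective φ hbij, hφx, hφy⟩

/-- an involution fixing a basis presentation is the identity -/
lemma eq_refl_of_fix {Ψ₂ : PowerSeries k →ₐ[k] ring k r} {y₂ : ring k r} (hb : IsBasis Ψ₂ y₂)
    (σ : ring k r ≃ₐ[k] ring k r) (hx : σ (Ψ₂ X) = Ψ₂ X) (hy : σ y₂ = y₂) :
    σ = AlgEquiv.refl := by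
  have hcomp : (σ : ring k r →ₐ[k] ring k r).comp Ψ₂ = Ψ₂ :=
    algHom_eq_of_X _ _ (Ψ₂ X) (by simp [hx]) rfl hb.sep
  ext a
  obtain ⟨f, g, rfl⟩ := hb.gen a
  have h1 : σ (Ψ₂ f) = Ψ₂ f := DFunLike.congr_fun hcomp f
  have h2 : σ (Ψ₂ g) = Ψ₂ g := DFunLike.congr_fun hcomp g
  simp only [map_add, map_mul, h1, h2, hy, AlgEquiv.coe_refl, id_eq]

lemma rescaleAlgHom_apply (a : k) (p : PowerSeries k) : rescaleAlgHom a p = rescale a p :=
  DFunLike.congr_fun (coe_rescaleAlgHom a) p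

lemma neg_one_ne_one (h2 : (2 : k) ≠ 0) : (-1 : k) ≠ 1 := by
  intro h
  apply h2
  linear_combination -h

/-- existence of an invariant root -/
lemma exists_inv_root [IsAlgClosed k] (h2 : (2 : k) ≠ 0) (hr1 : ((r + 1 : ℕ) : k) ≠ 0)
    (ε : k) (hε : ε = 1 ∨ ε = -1) (w : PowerSeries k) (hw0 : constantCoeff w ≠ 0)
    (hinv : rescale ε (X ^ (r + 1) * w) = X ^ (r + 1) * w) :
    ∃ ω : PowerSeries k, ω ^ (r + 1) = w ∧ constantCoeff ω ≠ 0 ∧ rescale ε ω = ω ∧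
      (ε = -1 → Odd r) := by
  rcases hε with rfl | rfl
  · obtain ⟨ω, h1, h3⟩ := exists_root w hw0 (r + 1) hr1
    refine ⟨ω, h1, h3, by rw [rescale_one]; rfl, ?_⟩
    intro h
    exact absurd h.symm (neg_one_ne_one h2)
  · have e1 : rescale (-1 : k) (X ^ (r + 1) * w) =
        X ^ (r + 1) * (C ((-1 : k) ^ (r + 1)) * rescale (-1 : k) w) := by
      rw [map_mul, map_pow, rescale_X, mul_pow, ← map_pow]; ring
    rw [e1] at hinv
    have e2 := mul_left_cancel₀ (pow_ne_zero (r + 1) X_ne_zero) hinv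
    have e3 : (-1 : k) ^ (r + 1) = 1 := by
      have := congrArg constantCoeff e2
      simp only [map_mul, constantCoeff_C] at this
      have h0 : constantCoeff (rescale (-1 : k) w) = constantCoeff w := by
        rw [← coeff_zero_eq_constantCoeff_apply, coeff_rescale]; simp
      rw [h0] at this
      exact mul_right_cancel₀ hw0 (this.trans (one_mul _).symm)
    have hodd : Odd r := by
      rcases Nat.even_or_odd (r + 1) with he | ho
      · rcases Nat.even_or_odd r with he' | ho'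
        · exact absurd he (by rw [Nat.even_add_one]; exact not_not.mpr he')
        · exact ho'
      · rw [ho.neg_one_pow] at e3
        exact absurd e3 (neg_one_ne_one h2)
    rw [e3, map_one, one_mul] at e2
    have e4 : Ng k w = w := by rw [Ng_apply]; exact e2
    obtain ⟨w', rfl⟩ := (Ng_fixed_iff h2 w).mp e4
    have hw'0 : constantCoeff w' ≠ 0 := by
      rwa [constantCoeff_expand] at hw0
    obtain ⟨ω', h1, h3⟩ := exists_root w' hw'0 (r + 1) hr1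
    refine ⟨E2 k ω', by rw [← map_pow, h1], by rwa [constantCoeff_expand], ?_, fun _ => hodd⟩
    rw [← Ng_apply]; exact Ng_E2 ω'

theorem main_ge2 [IsAlgClosed k] (h2 : (2 : k) ≠ 0) (hr1 : ((r + 1 : ℕ) : k) ≠ 0) (hr : 2 ≤ r)
    (σ : ring k r ≃ₐ[k] ring k r) (hσ : ∀ a, σ (σ a) = a) (hne : σ ≠ AlgEquiv.refl) :
    ∃ (φ : ring k r ≃ₐ[k] ring k r) (ε δ : k), (ε = 1 ∨ ε = -1) ∧ (δ = 1 ∨ δ = -1) ∧
      ¬ (ε = 1 ∧ δ = 1) ∧ (ε = -1 → Odd r) ∧
      σ (φ (x k r)) = algebraMap k _ ε * φ (x k r) ∧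
      σ (φ (y k r)) = algebraMap k _ δ * φ (y k r) := by
  obtain ⟨ε, δ, P', Q, U', V, hε, hδ, hP', hV, hσx₁, hσy₁⟩ := exists_eigen σ hσ h2 hr
  have hstd := stdBasis k r
  have hδδ : δ * δ = 1 := by rcases hδ with rfl | rfl <;> ring
  set x₁ := xMap k r (X * P') + xMap k r Q * y k r with hx₁def
  set y₁ := xMap k r (X ^ 2 * U') + xMap k r V * y k r with hy₁def
  have hx₁aug : aug k r x₁ = 0 := by rw [hx₁def, aug_form]; simp
  have hy₁aug : aug k r y₁ = 0 := by rw [hy₁def, aug_form]; simp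
  obtain ⟨Ψ₁, hΨ₁⟩ := exists_psMap x₁ hx₁aug
  have hΨ₁aug : aug k r (Ψ₁ X) = 0 := by rw [hΨ₁]; exact hx₁aug
  let D : ChangeData (xMap k r) (y k r) Ψ₁ y₁ :=
    { C' := X ^ (r - 2), hsq := std_sq3 hr, P' := P', Q := Q, U' := U', V := V, hP' := hP',
      hV := hV, hx₁ := hΨ₁, hy₁ := rfl }
  have hb₁ : IsBasis Ψ₁ y₁ := D.isBasis hstd
  -- equivariance of `Ψ₁`
  have hσΨ : ∀ f, σ (Ψ₁ f) = Ψ₁ (rescale ε f) := by
    have hcomp : (σ : ring k r →ₐ[k] ring k r).comp Ψ₁ = Ψ₁.comp (rescaleAlgHom ε) := by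
      apply algHom_eq_of_X _ _ (algebraMap k _ ε * x₁)
      · simp only [AlgHom.comp_apply, hΨ₁]; exact hσx₁
      · simp only [AlgHom.comp_apply]
        rw [rescaleAlgHom_apply, rescale_X, map_mul, Psi_C, hΨ₁]
      · intro z hz
        apply hb₁.sep
        intro n
        rw [hΨ₁]
        exact (Dvd.intro_left _ (mul_pow _ _ n).symm).trans (hz n)
    intro f
    have h3 : σ (Ψ₁ f) = Ψ₁ (rescaleAlgHom ε f) := DFunLike.congr_fun hcomp f
    rw [h3, rescaleAlgHom_apply]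
  obtain ⟨c, b, hcb, hc, hbb⟩ := square_coeffs hb₁ σ ε δ hδδ hσΨ hσy₁
  -- `b(0) = 0`
  have hb0 : constantCoeff b = 0 := by
    have h1 : InM (xMap k r) (y k r) 1 (y₁ * y₁) :=
      (inM_of_aug y₁ hy₁aug).mul (std_sq hr) (inM_of_aug y₁ hy₁aug)
    obtain ⟨f, g, hfg⟩ := h1
    have hd1 : Ψ₁ X ∣ y₁ * y₁ := by
      rw [hfg, pow_one]; exact D.dvd_m2 f g
    obtain ⟨c', hc'⟩ := ps_split c
    obtain ⟨b', hb'⟩ := ps_split b
    have ec := congrArg Ψ₁ hc'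
    have eb := congrArg Ψ₁ hb'
    simp only [map_add, map_mul, Psi_C] at ec eb
    have hd2 : Ψ₁ X ∣ algebraMap k (ring k r) (constantCoeff c) +
        algebraMap k (ring k r) (constantCoeff b) * y₁ := by
      have e : algebraMap k (ring k r) (constantCoeff c) +
          algebraMap k (ring k r) (constantCoeff b) * y₁ =
          y₁ * y₁ - Ψ₁ X * (Ψ₁ c' + Ψ₁ b' * y₁) := by
        rw [hcb, ec, eb]; ring
      rw [e]
      exact dvd_sub hd1 (Dvd.intro _ rfl)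
    exact (D.ind hstd _ _ hd2).2
  set y₂ := y₁ - Ψ₁ (C (2⁻¹ : k) * b) with hy₂def
  have hy₂aug : aug k r y₂ = 0 := by
    rw [hy₂def, map_sub, hy₁aug, aug_comp Ψ₁ hΨ₁aug]
    simp [hb0]
  obtain ⟨hsq₂, hσy₂, hC₁inv⟩ := complete_square hb₁ h2 σ ε δ hδδ hσΨ hσy₁ c b hcb hc hbb
  have hb₂ : IsBasis Ψ₁ y₂ := by
    have := hb₁.shear (-(C (2⁻¹ : k) * b))
    rwa [map_neg, ← sub_eq_add_neg] at this
  obtain ⟨w, hw, hw0⟩ := order_eq h2 hr Ψ₁ y₂ P' Q hP' hΨ₁ hb₂ hy₂aug _ hsq₂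
  rw [hw] at hC₁inv hsq₂
  obtain ⟨ω, hω, hω0, hωinv, hodd⟩ := exists_inv_root h2 hr1 ε hε w hw0 hC₁inv
  -- the new `x`
  have hx₂aug : aug k r (Ψ₁ (X * ω)) = 0 := by
    rw [aug_comp Ψ₁ hΨ₁aug]; simp
  obtain ⟨Ψ₂, hΨ₂⟩ := exists_psMap (Ψ₁ (X * ω)) hx₂aug
  have hb₃ : IsBasis Ψ₂ y₂ :=
    hb₂.of_unit_mul (Ψ₁ ω) (isUnit_Psi Ψ₁ ω hω0) Ψ₂ (by rw [hΨ₂, map_mul]) y₂ 0 1 one_ne_zero 0
      (by simp)
  have hrel : y₂ * y₂ = Ψ₂ X ^ (r + 1) := by
    rw [hsq₂, hΨ₂, ← map_pow, mul_pow, hω]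
  obtain ⟨φ, hφx, hφy⟩ := exists_equiv_of_basis Ψ₂ y₂ hb₃ (by rw [hΨ₂]; exact hx₂aug) hy₂aug hrel
  have hσx₂ : σ (Ψ₂ X) = algebraMap k _ ε * Ψ₂ X := by
    rw [hΨ₂, hσΨ, map_mul, rescale_X, hωinv, ← Psi_C Ψ₁ ε, ← map_mul, mul_assoc]
  refine ⟨φ, ε, δ, hε, hδ, ?_, hodd, ?_, ?_⟩
  · rintro ⟨rfl, rfl⟩
    apply hne
    apply eq_refl_of_fix hb₃ σ
    · rw [hσx₂, map_one, one_mul]
    · rw [hσy₂, map_one, one_mul]
  · rw [hφx]; exact hσx₂
  · rw [hφy]; exact hσy₂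

end Final

end Groth.Agent.Lib.Helper8.AR
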