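import Mathlib
import Groth.Agent.Lib.Helper8.AR10
set_option backward.isDefEq.respectTransparency.types false
set_option autoImplicit false
set_option linter.unusedSectionVars false
set_option linter.style.haveILetI false

namespace Groth.Agent.Lib.Helper8.AR

universe u

open ArSing

section W

variable {k : Type u} [Field k] {r : ℕ}

theorem main82 [IsAlgClosed k] (h2 : (2 : k) ≠ 0) (hr : ((r + 1 : ℕ) : k) ≠ 0) (h3 : 3 ≤ r)
    (σ : ArSing.ring k r ≃ₐ[k] ArSing.ring k r) (hσ : ∀ a, σ (σ a) = a) (hne : σ ≠ AlgEquiv.refl) :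
    ∃ φ : ArSing.ring k r ≃ₐ[k] ArSing.ring k r,
      (φ.symm (σ (φ (ArSing.x k r))) = ArSing.x k r ∧ φ.symm (σ (φ (ArSing.y k r))) = -ArSing.y k r) ∨
      (φ.symm (σ (φ (ArSing.x k r))) = -ArSing.x k r ∧ φ.symm (σ (φ (ArSing.y k r))) = ArSing.y k r) ∨
      (φ.symm (σ (φ (ArSing.x k r))) = -ArSing.x k r ∧ φ.symm (σ (φ (ArSing.y k r))) = -ArSing.y k r) := by
  obtain ⟨φ, ε, δ, hε, hδ, hne', -, hx, hy⟩ := main_ge2 h2 hr (by omega) σ hσ hne
  refine ⟨φ, ?_⟩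
  have hx' : φ.symm (σ (φ (ArSing.x k r))) = algebraMap k _ ε * ArSing.x k r := by
    rw [hx, map_mul, AlgEquiv.commutes, AlgEquiv.symm_apply_apply]
  have hy' : φ.symm (σ (φ (ArSing.y k r))) = algebraMap k _ δ * ArSing.y k r := by
    rw [hy, map_mul, AlgEquiv.commutes, AlgEquiv.symm_apply_apply]
  rw [hx', hy']
  rcases hε with rfl | rfl <;> rcases hδ with rfl | rfl
  · exact absurd ⟨rfl, rfl⟩ hne'
  · left; exact ⟨by rw [map_one, one_mul], by rw [map_neg, map_one]; ring⟩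
  · right; left; exact ⟨by rw [map_neg, map_one]; ring, by rw [map_one, one_mul]⟩
  · right; right; exact ⟨by rw [map_neg, map_one]; ring, by rw [map_neg, map_one]; ring⟩

open PowerSeries in
/-- the smooth case `r = 0` -/
theorem main_zero (h2 : (2 : k) ≠ 0)
    (σ : ArSing.ring k 0 ≃ₐ[k] ArSing.ring k 0) (hσ : ∀ a, σ (σ a) = a) (hne : σ ≠ AlgEquiv.refl) :
    ∃ φ : ArSing.ring k 0 ≃ₐ[k] ArSing.ring k 0,
      φ.symm (σ (φ (ArSing.x k 0))) = ArSing.x k 0 ∧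
      φ.symm (σ (φ (ArSing.y k 0))) = -ArSing.y k 0 := by
  have hstd := stdBasis k 0
  have hsq0 : y k 0 * y k 0 = xMap k 0 (X * 1) := by rw [y_sq']; simp
  have hsqx : y k 0 * y k 0 = x k 0 := by rw [y_sq]; simp
  obtain ⟨u, v, huv⟩ := repr k 0 (σ (y k 0))
  have hu0 : constantCoeff u = 0 := by
    have := aug_sigma_y σ
    rwa [huv, aug_form] at this
  obtain ⟨u', rfl⟩ := X_dvd_iff.mpr hu0
  obtain ⟨s, hs, hss, hsc⟩ := exists_sign h2 (constantCoeff v)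
  set U : PowerSeries k := C (2⁻¹ : k) * C s * u' with hU
  set V : PowerSeries k := C (2⁻¹ : k) * (1 + C s * v) with hV
  have hV0 : constantCoeff V ≠ 0 := by simpa [hV] using hsc
  set y₁ := avg σ s (y k 0) with hy₁def
  have hy₁ : y₁ = xMap k 0 (X * U) + xMap k 0 V * y k 0 := by
    simp only [hy₁def, avg, huv, hU, hV, map_add, map_mul, map_one, Psi_C, xMap_X]
    ring
  have hσy₁ : σ y₁ = algebraMap k _ s * y₁ := sigma_avg σ hσ s hss _
  have hy₁aug : aug k 0 y₁ = 0 := aug_avg σ s _ (aug_y k 0) (aug_sigma_y σ)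
  set e := xMap k 0 V + xMap k 0 U * y k 0 with he
  have heu : IsUnit e := isUnit_form hsq0 V U hV0
  have hy₁e : y₁ = y k 0 * e := by
    rw [hy₁, he, map_mul, xMap_X]
    linear_combination (-(xMap k 0 U)) * hsqx
  have hx₁aug : aug k 0 (y₁ * y₁) = 0 := by rw [map_mul, hy₁aug, mul_zero]
  obtain ⟨Ψ₁, hΨ₁⟩ := exists_psMap (y₁ * y₁) hx₁aug
  obtain ⟨V', hV'⟩ := ps_split V
  have eV := congrArg (xMap k 0) hV'
  simp only [map_add, map_mul, Psi_C, xMap_X] at eV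
  have hb₁ : IsBasis Ψ₁ y₁ := by
    refine hstd.of_unit_mul (e * e) (heu.mul heu) Ψ₁ ?_ y₁ 0 (constantCoeff V) hV0
      (xMap k 0 V' * y k 0 + xMap k 0 U) ?_
    · rw [hΨ₁, hy₁e, xMap_X]
      linear_combination (e * e) * hsqx
    · rw [hy₁, map_mul, xMap_X, eV, map_zero, zero_add]
      ring
  have hrel : y₁ * y₁ = Ψ₁ X ^ (0 + 1) := by rw [hΨ₁]; simp
  obtain ⟨φ, hφx, hφy⟩ := exists_equiv_of_basis Ψ₁ y₁ hb₁ (by rw [hΨ₁]; exact hx₁aug) hy₁aug hrel
  have hσx₁ : σ (Ψ₁ X) = Ψ₁ X := by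
    rw [hΨ₁, map_mul, hσy₁]
    have : algebraMap k (ring k 0) s * algebraMap k (ring k 0) s = 1 := by
      rw [← map_mul, hss, map_one]
    linear_combination (y₁ * y₁) * this
  refine ⟨φ, ?_, ?_⟩
  · rw [hφx, hσx₁, ← hφx, AlgEquiv.symm_apply_apply]
  · rw [hφy, hσy₁]
    rcases hs with rfl | rfl
    · exfalso
      apply hne
      apply eq_refl_of_fix hb₁ σ hσx₁
      rw [hσy₁, map_one, one_mul]
    · rw [map_mul, AlgEquiv.commutes, ← hφy, AlgEquiv.symm_apply_apply, map_neg, map_one]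
      ring

theorem main81 [IsAlgClosed k] (h2 : (2 : k) ≠ 0) (hr : ((r + 1 : ℕ) : k) ≠ 0) (hev : Even r)
    (σ : ArSing.ring k r ≃ₐ[k] ArSing.ring k r) (hσ : ∀ a, σ (σ a) = a) (hne : σ ≠ AlgEquiv.refl) :
    ∃ φ : ArSing.ring k r ≃ₐ[k] ArSing.ring k r,
      φ.symm (σ (φ (ArSing.x k r))) = ArSing.x k r ∧
      φ.symm (σ (φ (ArSing.y k r))) = -ArSing.y k r := by
  rcases Nat.eq_zero_or_pos r with rfl | hpos
  · exact main_zero h2 σ hσ hne
  have hr2 : 2 ≤ r := by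
    rcases hev with ⟨m, rfl⟩
    omega
  obtain ⟨φ, ε, δ, hε, hδ, hne', hodd, hx, hy⟩ := main_ge2 h2 hr hr2 σ hσ hne
  refine ⟨φ, ?_⟩
  have hx' : φ.symm (σ (φ (ArSing.x k r))) = algebraMap k _ ε * ArSing.x k r := by
    rw [hx, map_mul, AlgEquiv.commutes, AlgEquiv.symm_apply_apply]
  have hy' : φ.symm (σ (φ (ArSing.y k r))) = algebraMap k _ δ * ArSing.y k r := by
    rw [hy, map_mul, AlgEquiv.commutes, AlgEquiv.symm_apply_apply]
  rw [hx', hy']
  rcases hε with rfl | rfl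
  · rcases hδ with rfl | rfl
    · exact absurd ⟨rfl, rfl⟩ hne'
    · exact ⟨by rw [map_one, one_mul], by rw [map_neg, map_one]; ring⟩
  · exact absurd hev (Nat.not_even_iff_odd.mpr (hodd rfl))

end W

end Groth.Agent.Lib.Helper8.AR
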