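import Mathlib
import Groth.Agent.Lib.Helper8.AR11
set_option backward.isDefEq.respectTransparency.types false
set_option autoImplicit false
set_option linter.unusedSectionVars false
set_option linter.style.haveILetI false

namespace Groth.Agent.Lib.Helper8.AR

universe u

open ArSing

section PS1

variable {k : Type u} [Field k]

open PowerSeries

lemma cc_X_algHom (τ : PowerSeries k →ₐ[k] PowerSeries k) : constantCoeff (τ X) = 0 := by
  by_contra hc
  set c := constantCoeff (τ X) with hcdef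
  have hu : IsUnit ((X : PowerSeries k) - C c) := by
    rw [isUnit_iff_constantCoeff]
    simp only [map_sub, constantCoeff_X, constantCoeff_C, zero_sub]
    exact isUnit_iff_ne_zero.mpr (neg_ne_zero.mpr hc)
  have hu2 := hu.map τ
  rw [map_sub, isUnit_iff_constantCoeff, map_sub] at hu2
  have e : τ (C c) = C c := by
    have : (C c : PowerSeries k) = algebraMap k (PowerSeries k) c := rfl
    rw [this, AlgHom.commutes]
  rw [e, constantCoeff_C, ← hcdef, sub_self] at hu2
  exact not_isUnit_zero hu2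

lemma cc_algHom (τ : PowerSeries k →ₐ[k] PowerSeries k) (f : PowerSeries k) :
    constantCoeff (τ f) = constantCoeff f := by
  let cc : PowerSeries k →ₐ[k] k :=
    { (PowerSeries.constantCoeff (R := k)) with commutes' := fun c => by simp }
  have h := algHom_eq_of_X (cc.comp τ) cc 0 (by simp [cc, cc_X_algHom]) (by simp [cc])
    (fun z hz => by simpa using hz 1)
  exact DFunLike.congr_fun h f

lemma ord_one_of_leftInv (τ₁ τ₂ : PowerSeries k →ₐ[k] PowerSeries k)
    (h : ∀ f, τ₁ (τ₂ f) = f) : ∃ e : PowerSeries k, τ₁ X = X * e ∧ constantCoeff e ≠ 0 := by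
  obtain ⟨e₁, he₁⟩ := X_dvd_iff.mpr (cc_X_algHom τ₁)
  obtain ⟨e₂, he₂⟩ := X_dvd_iff.mpr (cc_X_algHom τ₂)
  refine ⟨e₁, he₁, ?_⟩
  have h1 := h X
  rw [he₂, map_mul, he₁] at h1
  have h2 : (X : PowerSeries k) * (e₁ * τ₁ e₂) = X * 1 := by linear_combination h1
  have h3 := mul_left_cancel₀ X_ne_zero h2
  have h4 := congrArg constantCoeff h3
  simp only [map_mul, map_one] at h4
  intro h0
  rw [h0, zero_mul] at h4
  exact zero_ne_one h4

theorem ps_bijective (θ : PowerSeries k →ₐ[k] PowerSeries k) (e : PowerSeries k)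
    (he : constantCoeff e ≠ 0) (hθ : θ X = X * e) : Function.Bijective θ := by
  obtain ⟨ei, hei⟩ := ps_unit_inv e he
  have hne : θ X ≠ 0 := by
    rw [hθ]
    refine mul_ne_zero X_ne_zero ?_
    rintro rfl
    simp at he
  apply bijective_of_quot
  · intro a ha
    exact (mul_eq_zero.mp ha).resolve_left hne
  · intro z hz
    apply ps_sep_of_dvd (θ X) (by rw [hθ]; exact Dvd.intro _ rfl) z hz
  · intro α hα
    have h1 : (X : PowerSeries k) ∣ algebraMap k (PowerSeries k) α :=
      (show (X : PowerSeries k) ∣ θ X by rw [hθ]; exact Dvd.intro _ rfl).trans hα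
    rw [X_dvd_iff] at h1
    simpa using h1
  · intro z
    obtain ⟨z', hz'⟩ := ps_split z
    refine ⟨constantCoeff z, ei * z', ?_⟩
    rw [hθ]
    have : algebraMap k (PowerSeries k) (constantCoeff z) = C (constantCoeff z) := rfl
    rw [this]
    linear_combination hz' - (X * z') * hei

theorem exists_eigen1 (h2 : (2 : k) ≠ 0) (τ : PowerSeries k →ₐ[k] PowerSeries k)
    (hτ : ∀ f, τ (τ f) = f) :
    ∃ (s : k) (w' : PowerSeries k), (s = 1 ∨ s = -1) ∧ constantCoeff w' ≠ 0 ∧
      τ (X * w') = C s * (X * w') := by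
  obtain ⟨g', hg'⟩ := X_dvd_iff.mpr (cc_X_algHom τ)
  obtain ⟨s, hs, hss, hsc⟩ := exists_sign h2 (constantCoeff g')
  refine ⟨s, C (2⁻¹ : k) * (1 + C s * g'), hs, by simpa using hsc, ?_⟩
  have e : X * (C (2⁻¹ : k) * (1 + C s * g')) = C (2⁻¹ : k) * (X + C s * τ X) := by
    rw [hg']; ring
  have hC : ∀ c : k, τ (C c) = C c := by
    intro c
    have : (C c : PowerSeries k) = algebraMap k (PowerSeries k) c := rfl
    rw [this, AlgHom.commutes]
  have hss' : (C s : PowerSeries k) * C s = 1 := by rw [← map_mul, hss, map_one]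
  rw [e, map_mul, map_add, map_mul, hτ, hC, hC]
  linear_combination (-(C (2⁻¹ : k) * τ X)) * hss'

end PS1

section BranchHom

variable {k : Type u} [Field k]

open PowerSeries

lemma bp_xMap (p : PowerSeries k) : bp k (xMap k 1 p) = p := beta_xMap _ _ _ p
lemma bm_xMap (p : PowerSeries k) : bm k (xMap k 1 p) = p := beta_xMap _ _ _ p

lemma aug_eq_cc_bp (a : ring k 1) : aug k 1 a = constantCoeff (bp k a) := by
  obtain ⟨p, q, rfl⟩ := repr k 1 a
  rw [aug_form, bp_form]; simp

variable (ψ : ring k 1 →ₐ[k] ring k 1)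

/-- the induced map on the `+` branch -/
noncomputable def thP : PowerSeries k →ₐ[k] PowerSeries k := (bp k).comp (ψ.comp (xMap k 1))
/-- the induced map on the `-` branch -/
noncomputable def thM : PowerSeries k →ₐ[k] PowerSeries k := (bm k).comp (ψ.comp (xMap k 1))

lemma thP_apply (f : PowerSeries k) : thP ψ f = bp k (ψ (xMap k 1 f)) := rfl
lemma thM_apply (f : PowerSeries k) : thM ψ f = bm k (ψ (xMap k 1 f)) := rfl

lemma thP_X : thP ψ X = bp k (ψ (x k 1)) := by rw [thP_apply, xMap_X]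
lemma thM_X : thM ψ X = bm k (ψ (x k 1)) := by rw [thM_apply, xMap_X]

lemma bp_hom_pres (h : bp k (ψ (y k 1)) = bp k (ψ (x k 1))) (a : ring k 1) :
    bp k (ψ a) = thP ψ (bp k a) := by
  obtain ⟨p, q, rfl⟩ := repr k 1 a
  rw [bp_form]
  simp only [map_add, map_mul, thP_apply, xMap_X, h]

lemma bm_hom_pres (h : bm k (ψ (y k 1)) = -bm k (ψ (x k 1))) (a : ring k 1) :
    bm k (ψ a) = thM ψ (bm k a) := by
  obtain ⟨p, q, rfl⟩ := repr k 1 a
  rw [bm_form]
  simp only [map_add, map_mul, map_neg, thM_apply, xMap_X, h]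

lemma bp_hom_swap (h : bp k (ψ (y k 1)) = -bp k (ψ (x k 1))) (a : ring k 1) :
    bp k (ψ a) = thP ψ (bm k a) := by
  obtain ⟨p, q, rfl⟩ := repr k 1 a
  rw [bm_form]
  simp only [map_add, map_mul, map_neg, thP_apply, xMap_X, h]

lemma bm_hom_swap (h : bm k (ψ (y k 1)) = bm k (ψ (x k 1))) (a : ring k 1) :
    bm k (ψ a) = thM ψ (bp k a) := by
  obtain ⟨p, q, rfl⟩ := repr k 1 a
  rw [bp_form]
  simp only [map_add, map_mul, thM_apply, xMap_X, h]

theorem bijective_of_pres (h2 : (2 : k) ≠ 0)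
    (hp : bp k (ψ (y k 1)) = bp k (ψ (x k 1))) (hm : bm k (ψ (y k 1)) = -bm k (ψ (x k 1)))
    (e₁ e₂ : PowerSeries k) (he₁ : constantCoeff e₁ ≠ 0) (he₂ : constantCoeff e₂ ≠ 0)
    (h₁ : bp k (ψ (x k 1)) = X * e₁) (h₂ : bm k (ψ (x k 1)) = X * e₂) :
    Function.Bijective ψ := by
  have b₁ := ps_bijective (thP ψ) e₁ he₁ (by rw [thP_X, h₁])
  have b₂ := ps_bijective (thM ψ) e₂ he₂ (by rw [thM_X, h₂])
  constructor
  · rw [injective_iff_map_eq_zero]
    intro a ha
    apply joint_inj h2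
    · apply b₁.1
      rw [← bp_hom_pres ψ hp, ha, map_zero, map_zero]
    · apply b₂.1
      rw [← bm_hom_pres ψ hm, ha, map_zero, map_zero]
  · intro b
    obtain ⟨f, hf⟩ := b₁.2 (bp k b)
    obtain ⟨g, hg⟩ := b₂.2 (bm k b)
    have hfg : constantCoeff f = constantCoeff g := by
      rw [← cc_algHom (thP ψ) f, ← cc_algHom (thM ψ) g, hf, hg, cc_bp_eq_cc_bm]
    obtain ⟨a, ha₁, ha₂⟩ := exists_of_pair h2 f g hfg
    refine ⟨a, ?_⟩
    apply joint_inj' h2
    · rw [bp_hom_pres ψ hp, ha₁, hf]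
    · rw [bm_hom_pres ψ hm, ha₂, hg]

end BranchHom

section Node

variable {k : Type u} [Field k]

open PowerSeries

lemma bp_algebraMap (c : k) : bp k (algebraMap k (ring k 1) c) = C c := by
  rw [AlgHom.commutes]; rfl

lemma bm_algebraMap (c : k) : bm k (algebraMap k (ring k 1) c) = C c := by
  rw [AlgHom.commutes]; rfl

lemma uv0 : (y k 1 - x k 1) * (y k 1 + x k 1) = 0 := by
  have := y_sq k 1
  linear_combination this

/-- an automorphism commuting with `σ` on the images of `x`, `y` -/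
lemma eq_refl_of_fix_xy {r : ℕ} (φ σ : ring k r ≃ₐ[k] ring k r)
    (hx : σ (φ (x k r)) = φ (x k r)) (hy : σ (φ (y k r)) = φ (y k r)) : σ = AlgEquiv.refl := by
  have hcomp : (σ : ring k r →ₐ[k] ring k r).comp (φ : ring k r →ₐ[k] ring k r) =
      (φ : ring k r →ₐ[k] ring k r) := by
    apply algHom_ext_xy
    · exact hx
    · exact hy
    · intro z hz
      have h1 : φ.symm z = 0 := by
        apply sepX k r
        intro n
        obtain ⟨w, hw⟩ := hz n
        refine ⟨φ.symm w, ?_⟩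
        rw [hw, map_mul, map_pow]
        congr 2
        exact φ.symm_apply_apply _
      have := congrArg φ h1
      simpa using this
  ext a
  have h1 : σ (φ (φ.symm a)) = φ (φ.symm a) := DFunLike.congr_fun hcomp (φ.symm a)
  simpa using h1

theorem exists_flip : ∃ ψ : ring k 1 ≃ₐ[k] ring k 1,
    ψ (x k 1) = -x k 1 ∧ ψ (y k 1) = y k 1 := by
  obtain ⟨ψ₀, hx, hy⟩ := exists_algHom (-x k 1) (y k 1) (by simp [aug_x]) (aug_y k 1)
    (by rw [y_sq]; ring)
  have hinv : ψ₀.comp ψ₀ = AlgHom.id k (ring k 1) := by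
    apply algHom_ext_xy
    · simp [hx]
    · simp [hy]
    · intro z hz
      exact sepX k 1 z (by simpa using hz)
  exact ⟨AlgEquiv.ofAlgHom ψ₀ ψ₀ hinv hinv, hx, hy⟩

theorem main83 (h2 : (2 : k) ≠ 0)
    (σ : ArSing.ring k 1 ≃ₐ[k] ArSing.ring k 1) (hσ : ∀ a, σ (σ a) = a) (hne : σ ≠ AlgEquiv.refl) :
    ∃ φ : ArSing.ring k 1 ≃ₐ[k] ArSing.ring k 1,
      (φ.symm (σ (φ (ArSing.x k 1))) = ArSing.x k 1 ∧ φ.symm (σ (φ (ArSing.y k 1))) = -ArSing.y k 1) ∨
      (φ.symm (σ (φ (ArSing.x k 1))) = -ArSing.x k 1 ∧ φ.symm (σ (φ (ArSing.y k 1))) = -ArSing.y k 1) ∨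
      (φ.symm (σ (φ (ArSing.x k 1))) = ArSing.y k 1 ∧ φ.symm (σ (φ (ArSing.y k 1))) = ArSing.x k 1) := by
  set u := y k 1 - x k 1 with hu
  set v := y k 1 + x k 1 with hv
  have hbpu : bp k u = 0 := by rw [hu, map_sub, bp_y, bp_x, sub_self]
  have hbmu : bm k u = -X - X := by rw [hu, map_sub, bm_y, bm_x]
  have hbpv : bp k v = X + X := by rw [hv, map_add, bp_y, bp_x]
  have hbmv : bm k v = 0 := by rw [hv, map_add, bm_y, bm_x]; ring
  have hXX : (X : PowerSeries k) + X ≠ 0 := by
    intro h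
    have h3 : (2 : PowerSeries k) * X = 0 := by linear_combination h
    exact X_ne_zero ((mul_eq_zero.mp h3).resolve_left (two_ne_zero' k h2))
  have hu_ne : σ u ≠ 0 := by
    intro h
    have h3 : u = 0 := by simpa using congrArg σ.symm h
    rw [h3, map_zero] at hbmu
    apply hXX
    linear_combination hbmu
  have hv_ne : σ v ≠ 0 := by
    intro h
    have h3 : v = 0 := by simpa using congrArg σ.symm h
    rw [h3, map_zero] at hbpv
    exact hXX hbpv.symm
  have hp0 : bp k (σ u) * bp k (σ v) = 0 := by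
    rw [← map_mul, ← map_mul, uv0, map_zero, map_zero]
  have hm0 : bm k (σ u) * bm k (σ v) = 0 := by
    rw [← map_mul, ← map_mul, uv0, map_zero, map_zero]
  have hc := two_inv_mul (k := k) h2
  set h := algebraMap k (ring k 1) (2⁻¹ : k) with hh
  have hh2 : h * 2 = 1 := by
    rw [hh, ← map_ofNat (algebraMap k (ring k 1)) 2, ← map_mul, inv_mul_cancel₀ h2, map_one]
  let ψ : ring k 1 →ₐ[k] ring k 1 := (σ : ring k 1 →ₐ[k] ring k 1)
  have hψ : ∀ a, ψ a = σ a := fun a => rfl
  rcases mul_eq_zero.mp hp0 with hA | hB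
  · -- Case A: branches preserved
    have hmu : bm k (σ u) ≠ 0 := fun h0 => hu_ne (joint_inj h2 _ hA h0)
    have hmv : bm k (σ v) = 0 := (mul_eq_zero.mp hm0).resolve_left hmu
    have hp : bp k (ψ (y k 1)) = bp k (ψ (x k 1)) := by
      rw [hu, map_sub, map_sub, sub_eq_zero] at hA; exact hA
    have hm : bm k (ψ (y k 1)) = -bm k (ψ (x k 1)) := by
      rw [hv, map_add, map_add] at hmv
      exact eq_neg_of_add_eq_zero_left hmv
    have inv₁ : ∀ f, thP ψ (thP ψ f) = f := by
      intro f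
      rw [thP_apply ψ f, ← bp_hom_pres ψ hp, hψ, hψ, hσ, bp_xMap]
    have inv₂ : ∀ f, thM ψ (thM ψ f) = f := by
      intro f
      rw [thM_apply ψ f, ← bm_hom_pres ψ hm, hψ, hψ, hσ, bm_xMap]
    obtain ⟨s₁, w₁, hs₁, hw₁, hτ₁⟩ := exists_eigen1 h2 (thP ψ) inv₁
    obtain ⟨s₂, w₂, hs₂, hw₂, hτ₂⟩ := exists_eigen1 h2 (thM ψ) inv₂
    obtain ⟨v', hv'p, hv'm⟩ := exists_of_pair h2 (X * w₁) 0 (by simp)
    obtain ⟨u', hu'p, hu'm⟩ := exists_of_pair h2 0 (X * w₂) (by simp)
    have hσv' : σ v' = algebraMap k _ s₁ * v' := by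
      apply joint_inj' h2
      · rw [← hψ, bp_hom_pres ψ hp, hv'p, hτ₁, map_mul, bp_algebraMap, hv'p]
      · rw [← hψ, bm_hom_pres ψ hm, hv'm, map_zero, map_mul, hv'm, mul_zero]
    have hσu' : σ u' = algebraMap k _ s₂ * u' := by
      apply joint_inj' h2
      · rw [← hψ, bp_hom_pres ψ hp, hu'p, map_zero, map_mul, hu'p, mul_zero]
      · rw [← hψ, bm_hom_pres ψ hm, hu'm, hτ₂, map_mul, bm_algebraMap, hu'm]
    have hu'v' : u' * v' = 0 := by
      apply joint_inj h2
      · rw [map_mul, hu'p, zero_mul]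
      · rw [map_mul, hv'm, mul_zero]
    set x' := h * (v' - u') with hx'
    set y' := h * (v' + u') with hy'
    have hrel : y' * y' = x' ^ (1 + 1) := by
      rw [hx', hy']
      linear_combination (4 * h * h) * hu'v'
    have hbpx' : bp k x' = X * (C (2⁻¹ : k) * w₁) := by
      rw [hx', map_mul, map_sub, hv'p, hu'p, hh, bp_algebraMap]; ring
    have hbpy' : bp k y' = X * (C (2⁻¹ : k) * w₁) := by
      rw [hy', map_mul, map_add, hv'p, hu'p, hh, bp_algebraMap]; ring
    have hbmx' : bm k x' = X * (-(C (2⁻¹ : k) * w₂)) := by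
      rw [hx', map_mul, map_sub, hv'm, hu'm, hh, bm_algebraMap]; ring
    have hbmy' : bm k y' = X * (C (2⁻¹ : k) * w₂) := by
      rw [hy', map_mul, map_add, hv'm, hu'm, hh, bm_algebraMap]; ring
    have hx'aug : aug k 1 x' = 0 := by rw [aug_eq_cc_bp, hbpx']; simp
    have hy'aug : aug k 1 y' = 0 := by rw [aug_eq_cc_bp, hbpy']; simp
    obtain ⟨φ₀, hφx, hφy⟩ := exists_algHom x' y' hx'aug hy'aug hrel
    have hbij : Function.Bijective φ₀ := by
      apply bijective_of_pres φ₀ h2 (by rw [hφx, hφy, hbpx', hbpy'])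
        (by rw [hφx, hφy, hbmx', hbmy']; ring) (C (2⁻¹ : k) * w₁) (-(C (2⁻¹ : k) * w₂))
      · simpa using ⟨h2, hw₁⟩
      · simpa using ⟨h2, hw₂⟩
      · rw [hφx, hbpx']
      · rw [hφx, hbmx']
    let φ : ring k 1 ≃ₐ[k] ring k 1 := AlgEquiv.ofBijective φ₀ hbij
    have hφx' : φ (x k 1) = x' := hφx
    have hφy' : φ (y k 1) = y' := hφy
    have hσx' : σ x' = h * (algebraMap k _ s₁ * v' - algebraMap k _ s₂ * u') := by
      rw [hx', map_mul, map_sub, hσv', hσu', hh, AlgEquiv.commutes]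
    have hσy' : σ y' = h * (algebraMap k _ s₁ * v' + algebraMap k _ s₂ * u') := by
      rw [hy', map_mul, map_add, hσv', hσu', hh, AlgEquiv.commutes]
    rcases hs₁ with rfl | rfl <;> rcases hs₂ with rfl | rfl
    · exfalso
      apply hne
      apply eq_refl_of_fix_xy φ σ
      · rw [hφx', hσx', hx']; simp
      · rw [hφy', hσy', hy']; simp
    · -- (1,-1): swap
      refine ⟨φ, Or.inr (Or.inr ⟨?_, ?_⟩)⟩
      · rw [hφx', hσx']
        have : h * (algebraMap k _ 1 * v' - algebraMap k _ (-1) * u') = φ (y k 1) := by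
          rw [hφy', hy']; simp only [map_one, map_neg]; ring
        rw [this, AlgEquiv.symm_apply_apply]
      · rw [hφy', hσy']
        have : h * (algebraMap k _ 1 * v' + algebraMap k _ (-1) * u') = φ (x k 1) := by
          rw [hφx', hx']; simp only [map_one, map_neg]; ring
        rw [this, AlgEquiv.symm_apply_apply]
    · -- (-1,1): conjugate further by the flip
      obtain ⟨fl, hflx, hfly⟩ := exists_flip (k := k)
      refine ⟨fl.trans φ, Or.inr (Or.inr ⟨?_, ?_⟩)⟩
      · have e1 : (fl.trans φ) (x k 1) = -x' := by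
          rw [AlgEquiv.trans_apply, hflx, map_neg, hφx']
        have e2 : σ (-x') = (fl.trans φ) (y k 1) := by
          rw [AlgEquiv.trans_apply, hfly, hφy', map_neg, hσx', hy']
          simp only [map_one, map_neg]; ring
        rw [e1, e2, AlgEquiv.symm_apply_apply]
      · have e1 : (fl.trans φ) (y k 1) = y' := by
          rw [AlgEquiv.trans_apply, hfly, hφy']
        have e2 : σ y' = (fl.trans φ) (x k 1) := by
          rw [AlgEquiv.trans_apply, hflx, map_neg, hφx', hσy', hx']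
          simp only [map_one, map_neg]; ring
        rw [e1, e2, AlgEquiv.symm_apply_apply]
    · -- (-1,-1)
      refine ⟨φ, Or.inr (Or.inl ⟨?_, ?_⟩)⟩
      · rw [hφx', hσx']
        have e : φ (-x k 1) = -x' := by rw [map_neg, hφx']
        have : h * (algebraMap k _ (-1) * v' - algebraMap k _ (-1) * u') = φ (-x k 1) := by
          rw [e, hx']; simp only [map_one, map_neg]; ring
        rw [this, AlgEquiv.symm_apply_apply]
      · rw [hφy', hσy']
        have e : φ (-y k 1) = -y' := by rw [map_neg, hφy']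
        have : h * (algebraMap k _ (-1) * v' + algebraMap k _ (-1) * u') = φ (-y k 1) := by
          rw [e, hy']; simp only [map_one, map_neg]; ring
        rw [this, AlgEquiv.symm_apply_apply]
  · -- Case B: branches exchanged
    have hmv : bm k (σ v) ≠ 0 := fun h0 => hv_ne (joint_inj h2 _ hB h0)
    have hmu : bm k (σ u) = 0 := (mul_eq_zero.mp hm0).resolve_right hmv
    have hp : bp k (ψ (y k 1)) = -bp k (ψ (x k 1)) := by
      rw [hv, map_add, map_add] at hB
      exact eq_neg_of_add_eq_zero_left hB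
    have hm : bm k (ψ (y k 1)) = bm k (ψ (x k 1)) := by
      rw [hu, map_sub, map_sub, sub_eq_zero] at hmu; exact hmu
    have inv : ∀ f, thP ψ (thM ψ f) = f := by
      intro f
      rw [thM_apply ψ f, ← bp_hom_swap ψ hp, hψ, hψ, hσ, bp_xMap]
    obtain ⟨e, he, he0⟩ := ord_one_of_leftInv (thP ψ) (thM ψ) inv
    have hW : bp k (σ u) = -(X * e) - X * e := by
      rw [← hψ, bp_hom_swap ψ hp, hbmu, map_sub, map_neg, he]
    have huσu : u * σ u = 0 := by
      apply joint_inj h2
      · rw [map_mul, hbpu, zero_mul]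
      · rw [map_mul, hmu, mul_zero]
    set x' := h * (u + σ u) with hx'
    set y' := h * (σ u - u) with hy'
    have hrel : y' * y' = x' ^ (1 + 1) := by
      rw [hx', hy']
      linear_combination (-(4 * h * h)) * huσu
    have hbpx' : bp k x' = X * (-e) := by
      rw [hx', map_mul, map_add, hbpu, hW, hh, bp_algebraMap]
      linear_combination (-(X * e)) * hc
    have hbpy' : bp k y' = X * (-e) := by
      rw [hy', map_mul, map_sub, hbpu, hW, hh, bp_algebraMap]
      linear_combination (-(X * e)) * hc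
    have hbmx' : bm k x' = X * (-1) := by
      rw [hx', map_mul, map_add, hbmu, hmu, hh, bm_algebraMap]
      linear_combination (-X) * hc
    have hbmy' : bm k y' = X := by
      rw [hy', map_mul, map_sub, hbmu, hmu, hh, bm_algebraMap]
      linear_combination X * hc
    have hx'aug : aug k 1 x' = 0 := by rw [aug_eq_cc_bp, hbpx']; simp
    have hy'aug : aug k 1 y' = 0 := by rw [aug_eq_cc_bp, hbpy']; simp
    obtain ⟨φ₀, hφx, hφy⟩ := exists_algHom x' y' hx'aug hy'aug hrel
    have hbij : Function.Bijective φ₀ := by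
      apply bijective_of_pres φ₀ h2 (by rw [hφx, hφy, hbpx', hbpy'])
        (by rw [hφx, hφy, hbmx', hbmy']; ring) (-e) (-1)
      · simpa using he0
      · simp
      · rw [hφx, hbpx']
      · rw [hφx, hbmx']
    let φ : ring k 1 ≃ₐ[k] ring k 1 := AlgEquiv.ofBijective φ₀ hbij
    have hφx' : φ (x k 1) = x' := hφx
    have hφy' : φ (y k 1) = y' := hφy
    refine ⟨φ, Or.inl ⟨?_, ?_⟩⟩
    · have : σ x' = φ (x k 1) := by
        rw [hφx', hx', map_mul, map_add, hσ, hh, AlgEquiv.commutes]; ring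
      rw [hφx', this, AlgEquiv.symm_apply_apply]
    · have : σ y' = φ (-y k 1) := by
        rw [map_neg, hφy', hy', map_mul, map_sub, hσ, hh, AlgEquiv.commutes]; ring
      rw [hφy', this, AlgEquiv.symm_apply_apply]

end Node

end Groth.Agent.Lib.Helper8.AR
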