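import Mathlib
import Groth.Agent.Lib.Helper8.AR12
set_option backward.isDefEq.respectTransparency.types false
set_option autoImplicit false
set_option linter.unusedSectionVars false
set_option linter.style.haveILetI false

namespace Groth.Agent.Lib.Helper8.AR

universe u

section Taylor

open MvPolynomial

variable {k : Type*} [CommRing k] {σ : Type*} (a : σ → k)

/-- translation by `a` -/
noncomputable def Tr : MvPolynomial σ k →ₐ[k] MvPolynomial σ k :=
  MvPolynomial.aeval (fun i => MvPolynomial.X i + MvPolynomial.C (a i))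

lemma Tr_X (j : σ) : Tr a (X j) = X j + C (a j) := by simp [Tr]
lemma Tr_C (c : k) : Tr a (C c : MvPolynomial σ k) = C c := by simp [Tr]

lemma pderiv_Tr (i : σ) (f : MvPolynomial σ k) : pderiv i (Tr a f) = Tr a (pderiv i f) := by
  classical
  induction f using MvPolynomial.induction_on with
  | C c => simp [Tr_C]
  | add p q hp hq => simp [map_add, hp, hq]
  | mul_X p j hp =>
    rw [map_mul, Derivation.leibniz, Derivation.leibniz, hp, Tr_X, map_add, pderiv_C, add_zero,
      pderiv_X, map_add, smul_eq_mul, smul_eq_mul, smul_eq_mul, smul_eq_mul, map_mul, map_mul, Tr_X]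
    congr 2
    by_cases h : i = j
    · subst h; simp
    · simp [Pi.single_apply, h, Ne.symm h]

lemma constantCoeff_Tr (f : MvPolynomial σ k) : constantCoeff (Tr a f) = eval a f := by
  have h : (constantCoeff (σ := σ) (R := k)).comp (Tr a).toRingHom = (eval a : MvPolynomial σ k →+* k) := by
    apply MvPolynomial.ringHom_ext
    · intro c; simp [Tr_C]
    · intro i; simp [Tr_X]
  exact DFunLike.congr_fun h f

lemma coeff_zero_Tr (f : MvPolynomial σ k) :
    MvPowerSeries.coeff 0 ((Tr a f : MvPolynomial σ k) : MvPowerSeries σ k) = eval a f := by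
  rw [MvPolynomial.coeff_coe, ← constantCoeff_Tr, constantCoeff_eq]

lemma coeff_single_Tr (i : σ) (f : MvPolynomial σ k) :
    MvPowerSeries.coeff (Finsupp.single i 1) ((Tr a f : MvPolynomial σ k) : MvPowerSeries σ k) =
      eval a (pderiv i f) := by
  rw [MvPolynomial.coeff_coe, ← constantCoeff_Tr, ← pderiv_Tr, constantCoeff_eq, coeff_pderiv]
  simp

lemma coeff_single_add_single_Tr (i j : σ) (f : MvPolynomial σ k) :
    eval a (pderiv i (pderiv j f)) =
      MvPowerSeries.coeff (Finsupp.single i 1 + Finsupp.single j 1)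
        ((Tr a f : MvPolynomial σ k) : MvPowerSeries σ k) *
        ((Finsupp.single i 1 : σ →₀ ℕ) j + 1) := by
  rw [MvPolynomial.coeff_coe, ← constantCoeff_Tr, ← pderiv_Tr, ← pderiv_Tr, constantCoeff_eq,
    coeff_pderiv, coeff_pderiv]
  simp

end Taylor

end Groth.Agent.Lib.Helper8.AR
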