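import Mathlib
import Groth.Agent.Lib.Helper8.AR13
set_option backward.isDefEq.respectTransparency.types false
set_option autoImplicit false
set_option linter.unusedSectionVars false
set_option linter.style.haveILetI false

namespace Groth.Agent.Lib.Helper8.AR

universe u

open MvPowerSeries

variable (k : Type u) [Field k]

/-- `Fin 2 ≃ Option Unit`, `0 ↦ some ()`, `1 ↦ none` -/
def e2 : Fin 2 ≃ Option Unit where
  toFun i := if i = 0 then some () else none
  invFun o := match o with
    | some _ => 0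
    | none => 1
  left_inv := by intro i; fin_cases i <;> simp
  right_inv := by intro o; rcases o with _ | _ <;> simp

@[simp] lemma e2_zero : e2 0 = some () := rfl
@[simp] lemma e2_one : e2 1 = none := rfl

/-- `k[[x,y]] ≃ k[[x]][[Y]]`, `x ↦ C x`, `y ↦ Y`, with `k[[x]] = PowerSeries k`. -/
noncomputable def Psi : MvPowerSeries (Fin 2) k ≃ₐ[k] PowerSeries (PowerSeries k) :=
  (MvPowerSeries.renameEquiv k e2).trans (MvPowerSeries.optionEquivLeft Unit k)

lemma Psi_X0 : Psi k (X 0) = PowerSeries.C (PowerSeries.X : PowerSeries k) := by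
  simp only [Psi, AlgEquiv.trans_apply]
  change (optionEquivLeft Unit k) (rename e2 (X 0)) = _
  rw [rename_X, e2_zero, optionEquivLeft_X_some]
  rfl

lemma Psi_X1 : Psi k (X 1) = (PowerSeries.X : PowerSeries (PowerSeries k)) := by
  simp only [Psi, AlgEquiv.trans_apply]
  change (optionEquivLeft Unit k) (rename e2 (X 1)) = _
  rw [rename_X, e2_one, optionEquivLeft_X_none]

/-- the coefficient of `x^m y^n` -/
noncomputable def c2 (G : MvPowerSeries (Fin 2) k) (m n : ℕ) : k :=
  coeff (Finsupp.single 0 m + Finsupp.single 1 n) G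

lemma embDomain_e2 (m n : ℕ) :
    Finsupp.embDomain e2.toEmbedding (Finsupp.single 0 m + Finsupp.single 1 n) =
      (Finsupp.single () m).optionElim n := by
  ext o
  rcases o with _ | u
  · rw [Finsupp.optionElim_apply_none]
    have : (none : Option Unit) = e2.toEmbedding 1 := rfl
    rw [this, Finsupp.embDomain_apply_self]
    simp
  · rw [Finsupp.optionElim_apply_some]
    have : (some u : Option Unit) = e2.toEmbedding 0 := rfl
    rw [this, Finsupp.embDomain_apply_self]
    simp

lemma coeff_Psi (G : MvPowerSeries (Fin 2) k) (m n : ℕ) :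
    PowerSeries.coeff m (PowerSeries.coeff n (Psi k G)) = c2 k G m n := by
  simp only [Psi, AlgEquiv.trans_apply]
  change MvPowerSeries.coeff (Finsupp.single () m)
    (PowerSeries.coeff n ((optionEquivLeft Unit k) (rename e2 G))) = _
  rw [coeff_coeff_optionEquivLeft, ← embDomain_e2, c2]
  exact coeff_embDomain_rename e2.toEmbedding G _


lemma fin2_eq (m : Fin 2 →₀ ℕ) : m = Finsupp.single 0 (m 0) + Finsupp.single 1 (m 1) := by
  ext i
  fin_cases i <;> simp

lemma degree_fin2 (a b : ℕ) :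
    Finsupp.degree (Finsupp.single (0 : Fin 2) a + Finsupp.single 1 b) = a + b := by
  rw [map_add, Finsupp.degree_single, Finsupp.degree_single]

lemma coeff_eq_c2 (G : MvPowerSeries (Fin 2) k) (m : Fin 2 →₀ ℕ) :
    coeff m G = c2 k G (m 0) (m 1) := by
  rw [c2, ← fin2_eq]

/-- order bound from the vanishing of low coefficients -/
lemma le_order_of_c2 (G : MvPowerSeries (Fin 2) k) (n : ℕ)
    (h : ∀ a b : ℕ, a + b < n → c2 k G a b = 0) : (n : ℕ∞) ≤ G.order := by
  apply nat_le_order
  intro d hd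
  rw [coeff_eq_c2]
  apply h
  rw [fin2_eq d, degree_fin2] at hd
  exact hd

lemma c2_eq_zero_of_lt_order (G : MvPowerSeries (Fin 2) k) (a b : ℕ)
    (h : ((a + b : ℕ) : ℕ∞) < G.order) : c2 k G a b = 0 := by
  rw [c2]
  apply coeff_of_lt_order
  rw [degree_fin2]
  exact h

lemma c2_zero_zero (G : MvPowerSeries (Fin 2) k) : c2 k G 0 0 = constantCoeff G := by
  simp [c2]


lemma c2_X0 (m n : ℕ) : c2 k (X 0) m n = if m = 1 ∧ n = 0 then 1 else 0 := by
  rw [← coeff_Psi, Psi_X0, PowerSeries.coeff_C]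
  by_cases hn : n = 0
  · subst hn
    simp [PowerSeries.coeff_X]
  · simp [hn]

lemma c2_X1 (m n : ℕ) : c2 k (X 1) m n = if m = 0 ∧ n = 1 then 1 else 0 := by
  rw [← coeff_Psi, Psi_X1, PowerSeries.coeff_X]
  by_cases hn : n = 1
  · subst hn
    simp [PowerSeries.coeff_one]
  · simp [hn]

/-- decomposition of the maximal ideal -/
lemma exists_decomp (z : MvPowerSeries (Fin 2) k) (hz : constantCoeff z = 0) :
    ∃ a b : MvPowerSeries (Fin 2) k, z = X 0 * a + X 1 * b := by
  have h1 := PowerSeries.eq_X_mul_shift_add_const (Psi k z)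
  have h2 := PowerSeries.eq_X_mul_shift_add_const (PowerSeries.constantCoeff (Psi k z))
  have h3 : PowerSeries.constantCoeff (PowerSeries.constantCoeff (Psi k z)) = 0 := by
    rw [← PowerSeries.coeff_zero_eq_constantCoeff_apply,
      ← PowerSeries.coeff_zero_eq_constantCoeff_apply, coeff_Psi, c2_zero_zero, hz]
  rw [h3, map_zero, add_zero] at h2
  set g' := PowerSeries.mk fun p => PowerSeries.coeff (p + 1) (Psi k z) with hg'
  set g₀' := PowerSeries.mk fun p => PowerSeries.coeff (p + 1)
    (PowerSeries.constantCoeff (Psi k z)) with hg₀'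
  refine ⟨(Psi k).symm (PowerSeries.C g₀'), (Psi k).symm g', ?_⟩
  apply (Psi k).injective
  rw [map_add, map_mul, map_mul, AlgEquiv.apply_symm_apply, AlgEquiv.apply_symm_apply,
    Psi_X0, Psi_X1, ← map_mul, ← h2, add_comm]
  exact h1

lemma c2_mul_one_zero (z w : MvPowerSeries (Fin 2) k) (hz : constantCoeff z = 0) :
    c2 k (z * w) 1 0 = c2 k z 1 0 * constantCoeff w := by
  rw [← coeff_Psi, map_mul, PowerSeries.coeff_zero_eq_constantCoeff_apply, map_mul,
    PowerSeries.coeff_one_mul,
    ← PowerSeries.coeff_zero_eq_constantCoeff_apply (PowerSeries.constantCoeff (Psi k z)),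
    ← PowerSeries.coeff_zero_eq_constantCoeff_apply (PowerSeries.constantCoeff (Psi k w)),
    ← PowerSeries.coeff_zero_eq_constantCoeff_apply (Psi k z),
    ← PowerSeries.coeff_zero_eq_constantCoeff_apply (Psi k w),
    coeff_Psi, coeff_Psi, coeff_Psi, coeff_Psi, c2_zero_zero, c2_zero_zero, hz]
  ring

lemma c2_mul_zero_one (z w : MvPowerSeries (Fin 2) k) (hz : constantCoeff z = 0) :
    c2 k (z * w) 0 1 = c2 k z 0 1 * constantCoeff w := by
  have e1 : ∀ G : MvPowerSeries (Fin 2) k, PowerSeries.constantCoeff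
      (PowerSeries.coeff 1 (Psi k G)) = c2 k G 0 1 := by
    intro G
    rw [← PowerSeries.coeff_zero_eq_constantCoeff_apply, coeff_Psi]
  have e0 : ∀ G : MvPowerSeries (Fin 2) k, PowerSeries.constantCoeff
      (PowerSeries.constantCoeff (Psi k G)) = constantCoeff G := by
    intro G
    rw [← PowerSeries.coeff_zero_eq_constantCoeff_apply,
      ← PowerSeries.coeff_zero_eq_constantCoeff_apply, coeff_Psi, c2_zero_zero]
  rw [← coeff_Psi, map_mul, PowerSeries.coeff_one_mul,
    PowerSeries.coeff_zero_eq_constantCoeff_apply, map_add, map_mul, map_mul,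
    e1, e1, e0, e0, hz]
  ring


/-- the maximal ideal of `k[[x,y]]` -/
noncomputable def Mi : Ideal (MvPowerSeries (Fin 2) k) :=
  RingHom.ker (constantCoeff (σ := Fin 2) (R := k))

lemma mem_Mi (z : MvPowerSeries (Fin 2) k) : z ∈ Mi k ↔ constantCoeff z = 0 := RingHom.mem_ker

/-- the ideal of power series of order `≥ j` -/
noncomputable def Oj (j : ℕ) : Ideal (MvPowerSeries (Fin 2) k) where
  carrier := {z | (j : ℕ∞) ≤ z.order}
  add_mem' := fun {a b} ha hb => le_trans (le_min ha hb) min_order_le_add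
  zero_mem' := by simp [order_zero]
  smul_mem' := fun c z hz => by
    change (j : ℕ∞) ≤ (c * z).order
    exact le_trans (le_trans hz le_add_self) le_order_mul

lemma mem_Oj (j : ℕ) (z : MvPowerSeries (Fin 2) k) : z ∈ Oj k j ↔ (j : ℕ∞) ≤ z.order := Iff.rfl

lemma Mi_le_Oj : Mi k ≤ Oj k 1 := by
  intro z hz
  rw [mem_Mi] at hz
  rw [mem_Oj]
  exact_mod_cast one_le_order_iff_constCoeff_eq_zero.mpr hz

lemma Oj_mul_le (i j : ℕ) : Oj k i * Oj k j ≤ Oj k (i + j) := by
  rw [Ideal.mul_le]
  intro r hr s hs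
  rw [mem_Oj] at hr hs ⊢
  refine le_trans ?_ le_order_mul
  push_cast
  exact add_le_add hr hs

lemma Mi_pow_le (j : ℕ) : Mi k ^ j ≤ Oj k j := by
  induction j with
  | zero =>
    intro z _
    rw [mem_Oj]
    simp
  | succ j ih =>
    rw [pow_succ]
    exact le_trans (Ideal.mul_mono ih (Mi_le_Oj k)) (Oj_mul_le k j 1)

lemma X_mem_Mi (i : Fin 2) : (X i : MvPowerSeries (Fin 2) k) ∈ Mi k := by
  rw [mem_Mi]; simp

lemma constantCoeff_eq_zero_of_order (z : MvPowerSeries (Fin 2) k) (h : (1 : ℕ∞) ≤ z.order) :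
    constantCoeff z = 0 := one_le_order_iff_constCoeff_eq_zero.mp h

/-- order `≥ 2` implies membership in the square of the maximal ideal -/
lemma mem_Mi_sq (z : MvPowerSeries (Fin 2) k) (h : (2 : ℕ∞) ≤ z.order) : z ∈ Mi k ^ 2 := by
  have h0 : constantCoeff z = 0 :=
    constantCoeff_eq_zero_of_order k z (le_trans (by norm_num) h)
  obtain ⟨a, b, rfl⟩ := exists_decomp k z h0
  have h10 : c2 k (X 0 * a + X 1 * b) 1 0 = 0 :=
    c2_eq_zero_of_lt_order k _ 1 0 (lt_of_lt_of_le (by norm_num) h)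
  have h01 : c2 k (X 0 * a + X 1 * b) 0 1 = 0 :=
    c2_eq_zero_of_lt_order k _ 0 1 (lt_of_lt_of_le (by norm_num) h)
  have ca : constantCoeff a = 0 := by
    have : c2 k (X 0 * a + X 1 * b) 1 0 = constantCoeff a := by
      simp only [c2, map_add]
      change c2 k (X 0 * a) 1 0 + c2 k (X 1 * b) 1 0 = _
      rw [c2_mul_one_zero k _ _ (by simp), c2_mul_one_zero k _ _ (by simp), c2_X0, c2_X1]
      simp
    rw [← this, h10]
  have cb : constantCoeff b = 0 := by
    have : c2 k (X 0 * a + X 1 * b) 0 1 = constantCoeff b := by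
      simp only [c2, map_add]
      change c2 k (X 0 * a) 0 1 + c2 k (X 1 * b) 0 1 = _
      rw [c2_mul_zero_one k _ _ (by simp), c2_mul_zero_one k _ _ (by simp), c2_X0, c2_X1]
      simp
    rw [← this, h01]
  rw [pow_two]
  exact Ideal.add_mem _ (Ideal.mul_mem_mul (X_mem_Mi k 0) ((mem_Mi k a).mpr ca))
    (Ideal.mul_mem_mul (X_mem_Mi k 1) ((mem_Mi k b).mpr cb))

end Groth.Agent.Lib.Helper8.AR
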