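import Mathlib
import Groth.Agent.Lib.Helper8.AR14
set_option backward.isDefEq.respectTransparency.types false
set_option autoImplicit false
set_option linter.unusedSectionVars false
set_option linter.style.haveILetI false

namespace Groth.Agent.Lib.Helper8.AR

universe u

open MvPowerSeries

section Inv

variable (R : Type*) [CommRing R] {R' : Type*} [CommRing R']

/-- the ideal generated by the non-units -/
def NU : Ideal R := Ideal.span {z | ¬ IsUnit z}

/-- a first-order invariant distinguishing double points from higher multiplicity -/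
def QP : Prop :=
  (∃ z w : R, z ∈ NU R ∧ w ∈ NU R ∧ z ∉ NU R ^ 2 ∧ w ∉ NU R ^ 2 ∧ z * w ∈ NU R ^ 3) ∨
  (∃ t : R, t ∈ NU R ∧ NU R ≤ Ideal.span {t})

variable {R}

lemma NU_map (e : R ≃+* R') : (NU R).map (e : R →+* R') = NU R' := by
  rw [NU, Ideal.map_span, NU]
  congr 1
  ext w
  constructor
  · rintro ⟨z, hz, rfl⟩
    intro h
    apply hz
    have := h.map (e.symm : R' →+* R)
    simpa using this
  · intro hw
    refine ⟨e.symm w, ?_, by simp⟩
    intro h
    apply hw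
    have := h.map (e : R →+* R')
    simpa using this

lemma mem_NU_pow_iff (e : R ≃+* R') (j : ℕ) (z : R) : e z ∈ NU R' ^ j ↔ z ∈ NU R ^ j := by
  rw [← NU_map e, ← Ideal.map_pow]
  constructor
  · intro h
    obtain ⟨x, hx, hxe⟩ := (Ideal.mem_map_of_equiv e _).mp h
    rwa [← e.injective hxe]
  · intro h
    exact Ideal.mem_map_of_mem _ h

lemma QP_of_equiv (e : R ≃+* R') (h : QP R) : QP R' := by
  rcases h with ⟨z, w, hz, hw, hz2, hw2, hzw⟩ | ⟨t, ht, hle⟩
  · left
    refine ⟨e z, e w, ?_, ?_, ?_, ?_, ?_⟩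
    · have := (mem_NU_pow_iff e 1 z).mpr (by simpa using hz)
      simpa using this
    · have := (mem_NU_pow_iff e 1 w).mpr (by simpa using hw)
      simpa using this
    · rwa [mem_NU_pow_iff]
    · rwa [mem_NU_pow_iff]
    · rw [← map_mul, mem_NU_pow_iff]; exact hzw
  · right
    refine ⟨e t, ?_, ?_⟩
    · have := (mem_NU_pow_iff e 1 t).mpr (by simpa using ht)
      simpa using this
    · rw [← NU_map e]
      refine le_trans (Ideal.map_mono hle) ?_
      rw [Ideal.map_span, Set.image_singleton]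
      rfl

end Inv


section Quot

variable (k : Type u) [Field k] (G : MvPowerSeries (Fin 2) k)

/-- the augmentation of `k[[x,y]]/(G)` for `G(0) = 0` -/
noncomputable def augG (hG : constantCoeff G = 0) :
    (MvPowerSeries (Fin 2) k ⧸ Ideal.span {G}) →+* k :=
  Ideal.Quotient.lift _ (constantCoeff (σ := Fin 2) (R := k)) (by
    intro a ha
    obtain ⟨u, rfl⟩ := Ideal.mem_span_singleton'.mp ha
    simp [hG])

lemma augG_mk (hG : constantCoeff G = 0) (z : MvPowerSeries (Fin 2) k) :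
    augG k G hG (Ideal.Quotient.mk _ z) = constantCoeff z := rfl

variable {k G}

lemma c2_add (z w : MvPowerSeries (Fin 2) k) (m n : ℕ) :
    c2 k (z + w) m n = c2 k z m n + c2 k w m n := by
  simp only [c2, map_add]

lemma c2_sub (z w : MvPowerSeries (Fin 2) k) (m n : ℕ) :
    c2 k (z - w) m n = c2 k z m n - c2 k w m n := by
  simp only [c2, map_sub]

lemma c2_neg (z : MvPowerSeries (Fin 2) k) (m n : ℕ) :
    c2 k (-z) m n = - c2 k z m n := by
  simp only [c2, map_neg]

lemma not_isUnit_mk_iff (hG : constantCoeff G = 0) (z : MvPowerSeries (Fin 2) k) :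
    ¬ IsUnit (Ideal.Quotient.mk (Ideal.span {G}) z) ↔ constantCoeff z = 0 := by
  constructor
  · intro h
    by_contra hz
    apply h
    have : IsUnit z := MvPowerSeries.isUnit_iff_constantCoeff.mpr (isUnit_iff_ne_zero.mpr hz)
    exact this.map _
  · intro hz h
    have := h.map (augG k G hG)
    rw [augG_mk, hz] at this
    exact not_isUnit_zero this

lemma NU_quot (hG : constantCoeff G = 0) :
    NU (MvPowerSeries (Fin 2) k ⧸ Ideal.span {G}) =
      (Mi k).map (Ideal.Quotient.mk (Ideal.span {G})) := by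
  apply le_antisymm
  · rw [NU, Ideal.span_le]
    intro zb hzb
    obtain ⟨z, rfl⟩ := Ideal.Quotient.mk_surjective zb
    exact Ideal.mem_map_of_mem _ ((mem_Mi k z).mpr ((not_isUnit_mk_iff hG z).mp hzb))
  · rw [Ideal.map_le_iff_le_comap]
    intro z hz
    rw [Ideal.mem_comap]
    exact Ideal.subset_span ((not_isUnit_mk_iff hG z).mpr ((mem_Mi k z).mp hz))

lemma mk_mem_NU_pow_iff (hG : constantCoeff G = 0) (j : ℕ) (z : MvPowerSeries (Fin 2) k) :
    Ideal.Quotient.mk (Ideal.span {G}) z ∈ NU (MvPowerSeries (Fin 2) k ⧸ Ideal.span {G}) ^ j ↔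
      z ∈ Mi k ^ j ⊔ Ideal.span {G} := by
  rw [NU_quot hG, ← Ideal.map_pow, Ideal.mem_quotient_iff_mem_sup]

lemma mk_mem_NU_iff (hG : constantCoeff G = 0) (z : MvPowerSeries (Fin 2) k) :
    Ideal.Quotient.mk (Ideal.span {G}) z ∈ NU (MvPowerSeries (Fin 2) k ⧸ Ideal.span {G}) ↔
      constantCoeff z = 0 := by
  constructor
  · intro h
    have h1 : Ideal.Quotient.mk (Ideal.span {G}) z ∈
        NU (MvPowerSeries (Fin 2) k ⧸ Ideal.span {G}) ^ 1 := by simpa using h
    rw [mk_mem_NU_pow_iff hG, pow_one] at h1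
    have : Mi k ⊔ Ideal.span {G} ≤ Mi k := by
      refine sup_le le_rfl ?_
      rw [Ideal.span_le, Set.singleton_subset_iff]
      exact (mem_Mi k G).mpr hG
    exact (mem_Mi k z).mp (this h1)
  · intro hz
    exact Ideal.subset_span ((not_isUnit_mk_iff hG z).mpr hz)

lemma order_of_mk_mem (j : ℕ) (hj : (j : ℕ∞) ≤ G.order) (hG : constantCoeff G = 0)
    (z : MvPowerSeries (Fin 2) k)
    (h : Ideal.Quotient.mk (Ideal.span {G}) z ∈
      NU (MvPowerSeries (Fin 2) k ⧸ Ideal.span {G}) ^ j) : (j : ℕ∞) ≤ z.order := by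
  rw [mk_mem_NU_pow_iff hG] at h
  have : Mi k ^ j ⊔ Ideal.span {G} ≤ Oj k j := by
    refine sup_le (Mi_pow_le k j) ?_
    rw [Ideal.span_le, Set.singleton_subset_iff]
    exact (mem_Oj k j G).mpr hj
  exact (mem_Oj k j z).mp (this h)


lemma enat_le_one_of_not_two_le (a : ℕ∞) (h : ¬ (2 : ℕ∞) ≤ a) : a ≤ 1 := by
  have h1 : a < 1 + 1 := by
    have : (2 : ℕ∞) = 1 + 1 := by norm_num
    rw [← this]; exact not_le.mp h
  exact (ENat.lt_add_one_iff (by simp)).mp h1

theorem not_QP_of_order (hG : (3 : ℕ∞) ≤ G.order) :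
    ¬ QP (MvPowerSeries (Fin 2) k ⧸ Ideal.span {G}) := by
  have hG0 : constantCoeff G = 0 :=
    constantCoeff_eq_zero_of_order k G (le_trans (by norm_num) hG)
  have hG1 : ((1 : ℕ) : ℕ∞) ≤ G.order := le_trans (by norm_num) hG
  have hG2 : ((2 : ℕ) : ℕ∞) ≤ G.order := le_trans (by norm_num) hG
  have hG3 : ((3 : ℕ) : ℕ∞) ≤ G.order := by exact_mod_cast hG
  rintro (⟨zb, wb, hz, hw, hz2, hw2, hzw⟩ | ⟨tb, ht, hle⟩)
  · obtain ⟨z, rfl⟩ := Ideal.Quotient.mk_surjective zb
    obtain ⟨w, rfl⟩ := Ideal.Quotient.mk_surjective wb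
    have hz2' : ¬ (2 : ℕ∞) ≤ z.order := by
      intro h
      apply hz2
      rw [mk_mem_NU_pow_iff hG0]
      exact Ideal.mem_sup_left (mem_Mi_sq k z h)
    have hw2' : ¬ (2 : ℕ∞) ≤ w.order := by
      intro h
      apply hw2
      rw [mk_mem_NU_pow_iff hG0]
      exact Ideal.mem_sup_left (mem_Mi_sq k w h)
    rw [← map_mul] at hzw
    have h3 := order_of_mk_mem 3 hG3 hG0 _ hzw
    rw [order_mul] at h3
    have h4 : z.order + w.order ≤ 1 + 1 :=
      add_le_add (enat_le_one_of_not_two_le _ hz2') (enat_le_one_of_not_two_le _ hw2')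
    have h5 := le_trans h3 h4
    norm_num at h5
  · obtain ⟨t, rfl⟩ := Ideal.Quotient.mk_surjective tb
    have ht0 : constantCoeff t = 0 := (mk_mem_NU_iff hG0 t).mp ht
    have key : ∀ i : Fin 2, ∃ a u : MvPowerSeries (Fin 2) k, X i = t * a + G * u := by
      intro i
      have hX : Ideal.Quotient.mk (Ideal.span {G}) (X i) ∈
          NU (MvPowerSeries (Fin 2) k ⧸ Ideal.span {G}) :=
        (mk_mem_NU_iff hG0 _).mpr (by simp)
      obtain ⟨ab, hab⟩ := Ideal.mem_span_singleton'.mp (hle hX)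
      obtain ⟨a, rfl⟩ := Ideal.Quotient.mk_surjective ab
      rw [← map_mul, ← sub_eq_zero, ← map_sub, Ideal.Quotient.eq_zero_iff_mem] at hab
      obtain ⟨u, hu⟩ := Ideal.mem_span_singleton'.mp hab
      refine ⟨a, -u, ?_⟩
      linear_combination hu
    have hG10 : c2 k G 1 0 = 0 := c2_eq_zero_of_lt_order k G 1 0 (lt_of_lt_of_le (by norm_num) hG)
    have hG01 : c2 k G 0 1 = 0 := c2_eq_zero_of_lt_order k G 0 1 (lt_of_lt_of_le (by norm_num) hG)
    obtain ⟨a, u, h0⟩ := key 0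
    obtain ⟨b, v, h1⟩ := key 1
    have e1 : c2 k (t * a + G * u) 1 0 = c2 k t 1 0 * constantCoeff a := by
      rw [c2_add]
      rw [c2_mul_one_zero k _ _ ht0, c2_mul_one_zero k _ _ hG0, hG10]; ring
    have e2 : c2 k (t * a + G * u) 0 1 = c2 k t 0 1 * constantCoeff a := by
      rw [c2_add]
      rw [c2_mul_zero_one k _ _ ht0, c2_mul_zero_one k _ _ hG0, hG01]; ring
    have e3 : c2 k (t * b + G * v) 1 0 = c2 k t 1 0 * constantCoeff b := by
      rw [c2_add]
      rw [c2_mul_one_zero k _ _ ht0, c2_mul_one_zero k _ _ hG0, hG10]; ring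
    have e4 : c2 k (t * b + G * v) 0 1 = c2 k t 0 1 * constantCoeff b := by
      rw [c2_add]
      rw [c2_mul_zero_one k _ _ ht0, c2_mul_zero_one k _ _ hG0, hG01]; ring
    rw [← h0] at e1 e2
    rw [← h1] at e3 e4
    rw [c2_X0] at e1 e2
    rw [c2_X1] at e3 e4
    simp only [and_self, ↓reduceIte, one_ne_zero, zero_ne_one, and_false, false_and] at e1 e2 e3 e4
    have ha : constantCoeff a ≠ 0 := by
      intro h; rw [h, mul_zero] at e1; exact one_ne_zero e1
    have ht01 : c2 k t 0 1 = 0 := by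
      rcases mul_eq_zero.mp e2.symm with h | h
      · exact h
      · exact absurd h ha
    rw [ht01, zero_mul] at e4
    exact one_ne_zero e4


lemma not_two_le_order_of_c2 (z : MvPowerSeries (Fin 2) k) (h : c2 k z 0 1 ≠ 0) :
    ¬ (2 : ℕ∞) ≤ z.order := by
  intro h2
  exact h (c2_eq_zero_of_lt_order k z 0 1 (lt_of_lt_of_le (by norm_num) h2))

/-- criterion for `QP` via two "linear" elements with product in `m^3 + (G)` -/
lemma QP_of_pair (hG : (2 : ℕ∞) ≤ G.order) (z w : MvPowerSeries (Fin 2) k)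
    (hz0 : constantCoeff z = 0) (hw0 : constantCoeff w = 0)
    (hz : c2 k z 0 1 ≠ 0) (hw : c2 k w 0 1 ≠ 0)
    (hzw : z * w ∈ Mi k ^ 3 ⊔ Ideal.span {G}) :
    QP (MvPowerSeries (Fin 2) k ⧸ Ideal.span {G}) := by
  have hG0 : constantCoeff G = 0 :=
    constantCoeff_eq_zero_of_order k G (le_trans (by norm_num) hG)
  have hG2 : ((2 : ℕ) : ℕ∞) ≤ G.order := by exact_mod_cast hG
  left
  refine ⟨Ideal.Quotient.mk _ z, Ideal.Quotient.mk _ w, (mk_mem_NU_iff hG0 z).mpr hz0,
    (mk_mem_NU_iff hG0 w).mpr hw0, ?_, ?_, ?_⟩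
  · intro h
    have := order_of_mk_mem 2 hG2 hG0 z h
    exact not_two_le_order_of_c2 z hz (by exact_mod_cast this)
  · intro h
    have := order_of_mk_mem 2 hG2 hG0 w h
    exact not_two_le_order_of_c2 w hw (by exact_mod_cast this)
  · rw [← map_mul, mk_mem_NU_pow_iff hG0]
    exact hzw

lemma two_le_order_sq (z : MvPowerSeries (Fin 2) k) (hz : constantCoeff z = 0) (n : ℕ)
    (hn : 2 ≤ n) : (2 : ℕ∞) ≤ (z ^ n).order := by
  refine le_trans ?_ (le_order_pow_of_constantCoeff_eq_zero n hz)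
  exact_mod_cast hn

lemma two_le_order_eqn (n : ℕ) (hn : 1 ≤ n) : (2 : ℕ∞) ≤ (ArSing.eqn k n).order := by
  have h1 : (X 1 : MvPowerSeries (Fin 2) k) ^ 2 ∈ Oj k 2 :=
    (mem_Oj k 2 _).mpr (by exact_mod_cast two_le_order_sq (X 1) (by simp) 2 le_rfl)
  have h2 : (X 0 : MvPowerSeries (Fin 2) k) ^ (n + 1) ∈ Oj k 2 :=
    (mem_Oj k 2 _).mpr (by exact_mod_cast two_le_order_sq (X 0) (by simp) (n + 1) (by omega))
  have := (mem_Oj k 2 _).mp (Ideal.sub_mem _ h1 h2)
  exact_mod_cast this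

theorem QP_ring_ge2 (n : ℕ) (hn : 2 ≤ n) : QP (ArSing.ring k n) := by
  apply QP_of_pair (two_le_order_eqn n (by omega)) (X 1) (X 1) (by simp) (by simp)
  · rw [c2_X1]; simp
  · rw [c2_X1]; simp
  · have e : (X 1 : MvPowerSeries (Fin 2) k) * X 1 = X 0 ^ (n + 1) + ArSing.eqn k n := by
      rw [ArSing.eqn]; ring
    rw [e]
    refine Ideal.add_mem _ (Ideal.mem_sup_left ?_) (Ideal.mem_sup_right (Ideal.subset_span rfl))
    exact Ideal.pow_le_pow_right (by omega : 3 ≤ n + 1) (Ideal.pow_mem_pow (X_mem_Mi k 0) _)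

theorem QP_ring_one : QP (ArSing.ring k 1) := by
  apply QP_of_pair (two_le_order_eqn 1 le_rfl) (X 1 - X 0) (X 1 + X 0) (by simp) (by simp)
  · rw [c2_sub, c2_X1, c2_X0]; simp
  · rw [c2_add, c2_X1, c2_X0]; simp
  · have e : ((X 1 : MvPowerSeries (Fin 2) k) - X 0) * (X 1 + X 0) = ArSing.eqn k 1 := by
      rw [ArSing.eqn]; ring
    rw [e]
    exact Ideal.mem_sup_right (Ideal.subset_span rfl)

theorem QP_ysq : QP (MvPowerSeries (Fin 2) k ⧸
    Ideal.span ({X 1 ^ 2} : Set (MvPowerSeries (Fin 2) k))) := by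
  apply QP_of_pair (two_le_order_sq (X 1) (by simp) 2 le_rfl) (X 1) (X 1) (by simp) (by simp)
  · rw [c2_X1]; simp
  · rw [c2_X1]; simp
  · rw [← pow_two]
    exact Ideal.mem_sup_right (Ideal.subset_span rfl)

theorem QP_ring_zero : QP (ArSing.ring k 0) := by
  have hG0 : constantCoeff (ArSing.eqn k 0) = 0 := by simp [ArSing.eqn]
  right
  refine ⟨Ideal.Quotient.mk _ (X 1), (mk_mem_NU_iff hG0 _).mpr (by simp), ?_⟩
  rw [NU_quot hG0, Ideal.map_le_iff_le_comap]
  intro z hz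
  rw [Ideal.mem_comap]
  obtain ⟨a, b, rfl⟩ := exists_decomp k z ((mem_Mi k z).mp hz)
  have hx : Ideal.Quotient.mk (Ideal.span {ArSing.eqn k 0}) (X 0) =
      Ideal.Quotient.mk (Ideal.span {ArSing.eqn k 0}) (X 1 * X 1) := by
    rw [eq_comm, ← sub_eq_zero, ← map_sub, Ideal.Quotient.eq_zero_iff_mem]
    apply Ideal.subset_span
    rw [Set.mem_singleton_iff, ArSing.eqn]; ring
  rw [Ideal.mem_span_singleton']
  refine ⟨Ideal.Quotient.mk _ (X 1 * a + b), ?_⟩
  rw [map_add (Ideal.Quotient.mk (Ideal.span {ArSing.eqn k 0})) (X 0 * a), map_mul, hx]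
  simp only [map_add, map_mul]
  ring

theorem QP_ring (n : ℕ) : QP (ArSing.ring k n) := by
  rcases Nat.lt_or_ge n 2 with h | h
  · interval_cases n
    · exact QP_ring_zero
    · exact QP_ring_one
  · exact QP_ring_ge2 n h

end Quot

end Groth.Agent.Lib.Helper8.AR
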