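import Mathlib
import Groth.Agent.Lib.Helper8.AR15
set_option backward.isDefEq.respectTransparency.types false
set_option autoImplicit false
set_option linter.unusedSectionVars false
set_option linter.style.haveILetI false

namespace Groth.Agent.Lib.Helper8.AR

universe u

open MvPowerSeries

variable (k : Type u) [Field k]

lemma embDomain_swap_apply (v : Fin 2 →₀ ℕ) (j : Fin 2) :
    Finsupp.embDomain (Equiv.swap (0 : Fin 2) 1).toEmbedding v j = v (Equiv.swap 0 1 j) := by
  have := Finsupp.embDomain_apply_self (Equiv.swap (0 : Fin 2) 1).toEmbedding v (Equiv.swap 0 1 j)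
  simpa using this

lemma cons_eq_embDomain (m n : ℕ) :
    (Finsupp.single (0 : Fin 1) m).cons n =
      Finsupp.embDomain (Equiv.swap (0 : Fin 2) 1).toEmbedding
        (Finsupp.single 0 m + Finsupp.single 1 n) := by
  ext i
  rw [embDomain_swap_apply]
  fin_cases i
  · simp only [Fin.zero_eta]
    rw [Finsupp.cons_zero]
    simp
  · have h1 : (1 : Fin 2) = Fin.succ (0 : Fin 1) := rfl
    simp only [Fin.mk_one]
    rw [h1, Finsupp.cons_succ, ← h1]
    simp

lemma coeff_Phi (G : MvPowerSeries (Fin 2) k) (m n : ℕ) :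
    coeff (Finsupp.single (0 : Fin 1) m) (PowerSeries.coeff n (Phi k G)) = c2 k G m n := by
  simp only [Phi, AlgEquiv.trans_apply]
  change coeff (Finsupp.single (0 : Fin 1) m)
    (PowerSeries.coeff n ((finSuccEquiv k 1) (rename (Equiv.swap (0 : Fin 2) 1) G))) = _
  rw [coeff_coeff_finSuccEquiv, cons_eq_embDomain, c2]
  exact coeff_embDomain_rename (Equiv.swap (0 : Fin 2) 1).toEmbedding G _

lemma constantCoeff_coeff_Phi (G : MvPowerSeries (Fin 2) k) (n : ℕ) :
    constantCoeff (PowerSeries.coeff n (Phi k G)) = c2 k G 0 n := by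
  rw [← coeff_Phi, ← coeff_zero_eq_constantCoeff_apply]
  simp

lemma constantCoeff_iota1 (p : PowerSeries k) :
    constantCoeff (iota1 k p) = PowerSeries.constantCoeff p := by
  change constantCoeff (rename (Equiv.ofUnique Unit (Fin 1)) p) = _
  rw [constantCoeff_rename]
  rfl

lemma mem_I1_of_constantCoeff (z : MvPowerSeries (Fin 1) k) (hz : constantCoeff z = 0) :
    z ∈ I1 k := by
  obtain ⟨p, rfl⟩ := (iota1 k).surjective z
  rw [constantCoeff_iota1] at hz
  obtain ⟨q, rfl⟩ := PowerSeries.X_dvd_iff.mpr hz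
  rw [map_mul, iota1_X]
  exact Ideal.mul_mem_right _ _ (Ideal.subset_span ⟨0, rfl⟩)

lemma maxIdeal_eq : IsLocalRing.maximalIdeal (MvPowerSeries (Fin 1) k) = I1 k := by
  ext z
  rw [IsLocalRing.mem_maximalIdeal, mem_nonunits_iff, MvPowerSeries.isUnit_iff_constantCoeff,
    isUnit_iff_ne_zero, not_not]
  constructor
  · exact mem_I1_of_constantCoeff k z
  · intro h
    exact I1_le_ker k h

instance instAdicA1 : IsAdicComplete (IsLocalRing.maximalIdeal (MvPowerSeries (Fin 1) k))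
    (MvPowerSeries (Fin 1) k) := by
  rw [maxIdeal_eq]; infer_instance

lemma residue_eq_zero_iff' (a : MvPowerSeries (Fin 1) k) :
    IsLocalRing.residue (MvPowerSeries (Fin 1) k) a = 0 ↔ constantCoeff a = 0 := by
  rw [IsLocalRing.residue_eq_zero_iff, IsLocalRing.mem_maximalIdeal, mem_nonunits_iff,
    MvPowerSeries.isUnit_iff_constantCoeff, isUnit_iff_ne_zero, not_not]

/-- normal form of non-zero non-units of `k[[x]]` -/
lemma A1_normal_form [IsAlgClosed k] (h2 : (2 : k) ≠ 0) (c : MvPowerSeries (Fin 1) k)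
    (hc : c ≠ 0) (hc0 : constantCoeff c = 0) :
    ∃ (n : ℕ) (v vi : MvPowerSeries (Fin 1) k), c = X 0 ^ (n + 1) * v ^ 2 ∧ v * vi = 1 := by
  obtain ⟨c', rfl⟩ := (iota1 k).surjective c
  rw [constantCoeff_iota1] at hc0
  have hc' : c' ≠ 0 := by
    rintro rfl; exact hc (map_zero _)
  have hd : PowerSeries.constantCoeff (PowerSeries.divXPowOrder c') ≠ 0 := by
    rw [Ne, PowerSeries.constantCoeff_divXPowOrder_eq_zero_iff]; exact hc'
  have hfac := PowerSeries.X_pow_order_mul_divXPowOrder (f := c')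
  have hord : c'.order.toNat ≠ 0 := by
    intro h0
    rw [h0, pow_zero, one_mul] at hfac
    rw [hfac] at hd
    exact hd hc0
  obtain ⟨n, hn⟩ := Nat.exists_eq_succ_of_ne_zero hord
  obtain ⟨ω, hω, hω0⟩ := exists_root (PowerSeries.divXPowOrder c') hd 2 (by exact_mod_cast h2)
  obtain ⟨ωi, hωi⟩ := ps_unit_inv ω hω0
  refine ⟨n, iota1 k ω, iota1 k ωi, ?_, ?_⟩
  · rw [← iota1_X, ← map_pow, ← map_pow, ← map_mul, hω, ← Nat.succ_eq_add_one, ← hn, hfac]
  · rw [← map_mul, hωi, map_one]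


section Chain

open Polynomial

variable {k}

/-- quotient of `k[[x,y]]` by `G` versus quotient of `k[[x]][Y]` by a distinguished factor -/
theorem quot_equiv_of_factor (G : MvPowerSeries (Fin 2) k)
    (W : Polynomial (MvPowerSeries (Fin 1) k)) (hW : W.IsDistinguishedAt (I1 k))
    (h : PowerSeries (MvPowerSeries (Fin 1) k)) (hh : IsUnit h)
    (hG : Phi k G = (W : PowerSeries (MvPowerSeries (Fin 1) k)) * h) :
    Nonempty ((MvPowerSeries (Fin 2) k ⧸ Ideal.span {G}) ≃ₐ[k]
      (Polynomial (MvPowerSeries (Fin 1) k) ⧸ Ideal.span {W})) := by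
  have e1 : (MvPowerSeries (Fin 2) k ⧸ Ideal.span {G}) ≃ₐ[k]
      (PowerSeries (MvPowerSeries (Fin 1) k) ⧸ Ideal.span {Phi k G}) :=
    Ideal.quotientEquivAlg _ _ (Phi k) (by
      rw [Ideal.map_span, Set.image_singleton]; rfl)
  have e2 : (PowerSeries (MvPowerSeries (Fin 1) k) ⧸ Ideal.span {Phi k G}) ≃ₐ[k]
      (PowerSeries (MvPowerSeries (Fin 1) k) ⧸
        Ideal.span {(W : PowerSeries (MvPowerSeries (Fin 1) k))}) :=
    Ideal.quotientEquivAlgOfEq k (by rw [hG, Ideal.span_singleton_mul_right_unit hh])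
  have e3 : (Polynomial (MvPowerSeries (Fin 1) k) ⧸ Ideal.span {W}) ≃ₐ[k]
      (PowerSeries (MvPowerSeries (Fin 1) k) ⧸
        Ideal.span {(W : PowerSeries (MvPowerSeries (Fin 1) k))}) :=
    hW.algEquivQuotient.restrictScalars k
  exact ⟨e1.trans (e2.trans e3.symm)⟩

theorem poly_quot_equiv (W W' : Polynomial (MvPowerSeries (Fin 1) k))
    (φ : Polynomial (MvPowerSeries (Fin 1) k) ≃ₐ[MvPowerSeries (Fin 1) k]
      Polynomial (MvPowerSeries (Fin 1) k))
    (u : Polynomial (MvPowerSeries (Fin 1) k)) (hu : IsUnit u) (h : φ W = W' * u) :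
    Nonempty ((Polynomial (MvPowerSeries (Fin 1) k) ⧸ Ideal.span {W}) ≃ₐ[k]
      (Polynomial (MvPowerSeries (Fin 1) k) ⧸ Ideal.span {W'})) := by
  have e : (Polynomial (MvPowerSeries (Fin 1) k) ⧸ Ideal.span {W}) ≃ₐ[MvPowerSeries (Fin 1) k]
      (Polynomial (MvPowerSeries (Fin 1) k) ⧸ Ideal.span {W'}) :=
    Ideal.quotientEquivAlg _ _ φ (by
      rw [Ideal.map_span, Set.image_singleton]
      change _ = Ideal.span {φ W}
      rw [h, Ideal.span_singleton_mul_right_unit hu])
  exact ⟨e.restrictScalars k⟩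

theorem ps_quot_equiv (G G' : MvPowerSeries (Fin 2) k)
    (φ : MvPowerSeries (Fin 2) k ≃ₐ[k] MvPowerSeries (Fin 2) k) (h : φ G = G') :
    Nonempty ((MvPowerSeries (Fin 2) k ⧸ Ideal.span {G}) ≃ₐ[k]
      (MvPowerSeries (Fin 2) k ⧸ Ideal.span {G'})) := by
  refine ⟨Ideal.quotientEquivAlg _ _ φ ?_⟩
  rw [Ideal.map_span, Set.image_singleton, ← h]; rfl

lemma dist_sq (c : MvPowerSeries (Fin 1) k) (hc : constantCoeff c = 0) :
    (Polynomial.X ^ 2 - Polynomial.C c : Polynomial (MvPowerSeries (Fin 1) k)).IsDistinguishedAt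
      (I1 k) := by
  refine ⟨⟨?_⟩, Polynomial.monic_X_pow_sub_C _ two_ne_zero⟩
  intro n hn
  rw [Polynomial.natDegree_X_pow_sub_C] at hn
  interval_cases n
  · simp only [Polynomial.coeff_sub, Polynomial.coeff_X_pow, Polynomial.coeff_C_zero]
    simpa using mem_I1_of_constantCoeff k c hc
  · simp only [Polynomial.coeff_sub, Polynomial.coeff_X_pow, Polynomial.coeff_C]
    simp

lemma dist_lin (c : MvPowerSeries (Fin 1) k) (hc : constantCoeff c = 0) :
    (Polynomial.X - Polynomial.C c : Polynomial (MvPowerSeries (Fin 1) k)).IsDistinguishedAt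
      (I1 k) := by
  refine ⟨⟨?_⟩, Polynomial.monic_X_sub_C _⟩
  intro n hn
  rw [Polynomial.natDegree_X_sub_C] at hn
  interval_cases n
  simp only [Polynomial.coeff_sub, Polynomial.coeff_X_zero, Polynomial.coeff_C_zero]
  simpa using mem_I1_of_constantCoeff k c hc

variable (k)

theorem ring_equiv_poly (n : ℕ) :
    Nonempty (ArSing.ring k n ≃ₐ[k] (Polynomial (MvPowerSeries (Fin 1) k) ⧸
      Ideal.span {(Polynomial.X ^ 2 - Polynomial.C ((X 0 : MvPowerSeries (Fin 1) k) ^ (n + 1)) :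
        Polynomial (MvPowerSeries (Fin 1) k))})) :=
  quot_equiv_of_factor (ArSing.eqn k n) _ (g0_dist k n) 1 isUnit_one (by
    rw [Phi_eqn, mul_one]; rfl)

theorem ysq_equiv_poly :
    Nonempty ((MvPowerSeries (Fin 2) k ⧸ Ideal.span ({X 1 ^ 2} : Set (MvPowerSeries (Fin 2) k)))
      ≃ₐ[k] (Polynomial (MvPowerSeries (Fin 1) k) ⧸
      Ideal.span {(Polynomial.X ^ 2 - Polynomial.C (0 : MvPowerSeries (Fin 1) k) :
        Polynomial (MvPowerSeries (Fin 1) k))})) :=
  quot_equiv_of_factor (X 1 ^ 2) _ (dist_sq 0 (map_zero _)) 1 isUnit_one (by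
    rw [map_pow, Phi_X1, mul_one]
    simp)

/-- the swap of the two variables -/
noncomputable def sw : MvPowerSeries (Fin 2) k ≃ₐ[k] MvPowerSeries (Fin 2) k :=
  MvPowerSeries.renameEquiv k (Equiv.swap (0 : Fin 2) 1)

lemma sw_X0 : sw k (X 0) = X 1 := by
  change rename (Equiv.swap (0 : Fin 2) 1) (X 0) = _
  rw [rename_X]; simp

lemma sw_X1 : sw k (X 1) = X 0 := by
  change rename (Equiv.swap (0 : Fin 2) 1) (X 1) = _
  rw [rename_X]; simp

theorem ring_zero_equiv_poly :
    Nonempty (ArSing.ring k 0 ≃ₐ[k] (Polynomial (MvPowerSeries (Fin 1) k) ⧸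
      Ideal.span {(Polynomial.X - Polynomial.C ((X 0 : MvPowerSeries (Fin 1) k) ^ 2) :
        Polynomial (MvPowerSeries (Fin 1) k))})) := by
  obtain ⟨e1⟩ := ps_quot_equiv (ArSing.eqn k 0) (X 0 ^ 2 - X 1) (sw k) (by
    rw [ArSing.eqn, map_sub, map_pow, map_pow, sw_X0, sw_X1]; ring)
  obtain ⟨e2⟩ := quot_equiv_of_factor (X 0 ^ 2 - X 1 : MvPowerSeries (Fin 2) k)
    (Polynomial.X - Polynomial.C ((X 0 : MvPowerSeries (Fin 1) k) ^ 2))
    (dist_lin _ (by simp)) (-1) isUnit_one.neg (by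
      rw [map_sub, map_pow, Phi_X0, Phi_X1]
      simp)
  exact ⟨e1.trans e2⟩

end Chain


section Prep

open Polynomial

variable {k}

/-- Weierstrass preparation in the form needed here -/
theorem exists_weierstrass (G : MvPowerSeries (Fin 2) k) (d : ℕ) (hd : c2 k G 0 d ≠ 0)
    (hlt : ∀ i < d, c2 k G 0 i = 0) :
    ∃ (W : Polynomial (MvPowerSeries (Fin 1) k)) (h : PowerSeries (MvPowerSeries (Fin 1) k)),
      W.IsDistinguishedAt (I1 k) ∧ IsUnit h ∧
      Phi k G = (W : PowerSeries (MvPowerSeries (Fin 1) k)) * h ∧ W.natDegree = d := by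
  have hcoef : ∀ i, PowerSeries.coeff i ((Phi k G).map
      (IsLocalRing.residue (MvPowerSeries (Fin 1) k))) = 0 ↔ c2 k G 0 i = 0 := by
    intro i
    rw [PowerSeries.coeff_map, residue_eq_zero_iff', constantCoeff_coeff_Phi]
  have hg : (Phi k G).map (IsLocalRing.residue (MvPowerSeries (Fin 1) k)) ≠ 0 := by
    intro h0
    apply hd
    rw [← hcoef, h0]; simp
  have H := PowerSeries.isWeierstrassFactorization_weierstrassDistinguished_weierstrassUnit hg
  refine ⟨(Phi k G).weierstrassDistinguished hg, (Phi k G).weierstrassUnit hg, ?_,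
    PowerSeries.isUnit_weierstrassUnit hg,
    PowerSeries.eq_weierstrassDistinguished_mul_weierstrassUnit hg, ?_⟩
  · have := PowerSeries.isDistinguishedAt_weierstrassDistinguished hg
    rwa [maxIdeal_eq] at this
  · rw [H.natDegree_eq_toNat_order_map]
    have : ((Phi k G).map (IsLocalRing.residue (MvPowerSeries (Fin 1) k))).order = d := by
      rw [PowerSeries.order_eq_nat]
      refine ⟨fun h => hd ((hcoef d).mp h), fun i hi => (hcoef i).mpr (hlt i hi)⟩
    rw [this]; rfl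

lemma monic_deg_one (W : Polynomial (MvPowerSeries (Fin 1) k)) (hm : W.Monic)
    (hd : W.natDegree = 1) : W = Polynomial.X + Polynomial.C (W.coeff 0) := by
  conv_lhs => rw [hm.as_sum, hd]
  simp

lemma monic_deg_two (W : Polynomial (MvPowerSeries (Fin 1) k)) (hm : W.Monic)
    (hd : W.natDegree = 2) :
    W = Polynomial.X ^ 2 + Polynomial.C (W.coeff 1) * Polynomial.X + Polynomial.C (W.coeff 0) := by
  conv_lhs => rw [hm.as_sum, hd]
  simp [Finset.sum_range_succ]
  ring

theorem equiv_of_order_one (G : MvPowerSeries (Fin 2) k) (h00 : c2 k G 0 0 = 0)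
    (h01 : c2 k G 0 1 ≠ 0) :
    Nonempty ((MvPowerSeries (Fin 2) k ⧸ Ideal.span {G}) ≃ₐ[k] ArSing.ring k 0) := by
  obtain ⟨W, h, hW, hh, hG, hdeg⟩ := exists_weierstrass G 1 h01 (by
    intro i hi; interval_cases i; exact h00)
  obtain ⟨e1⟩ := quot_equiv_of_factor G W hW h hh hG
  have hWeq := monic_deg_one W hW.monic hdeg
  set b := W.coeff 0 with hb
  obtain ⟨e2⟩ := poly_quot_equiv W
    (Polynomial.X - Polynomial.C ((X 0 : MvPowerSeries (Fin 1) k) ^ 2))
    (Polynomial.algEquivAevalXAddC (-b - (X 0 : MvPowerSeries (Fin 1) k) ^ 2)) 1 isUnit_one (by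
      rw [hWeq, Polynomial.algEquivAevalXAddC_apply]
      simp only [map_add, Polynomial.aeval_X, Polynomial.aeval_C, map_sub, map_neg, map_pow,
        Polynomial.algebraMap_apply, Algebra.algebraMap_self, RingHom.id_apply, mul_one]
      ring)
  obtain ⟨e3⟩ := ring_zero_equiv_poly k
  exact ⟨e1.trans (e2.trans e3.symm)⟩


/-- scaling automorphism `Y ↦ v Y` of `k[[x]][Y]` -/
noncomputable def scaleY (v vi : MvPowerSeries (Fin 1) k) (hv : v * vi = 1) :
    Polynomial (MvPowerSeries (Fin 1) k) ≃ₐ[MvPowerSeries (Fin 1) k]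
      Polynomial (MvPowerSeries (Fin 1) k) :=
  Polynomial.algEquivOfCompEqX (Polynomial.C v * Polynomial.X) (Polynomial.C vi * Polynomial.X)
    (by simp [← mul_assoc, ← Polynomial.C_mul, hv])
    (by simp [← mul_assoc, ← Polynomial.C_mul, mul_comm vi v, hv])

lemma scaleY_apply (v vi : MvPowerSeries (Fin 1) k) (hv : v * vi = 1)
    (p : Polynomial (MvPowerSeries (Fin 1) k)) :
    scaleY v vi hv p = Polynomial.aeval (Polynomial.C v * Polynomial.X) p := rfl

theorem equiv_of_order_two [IsAlgClosed k] (h2 : (2 : k) ≠ 0) (G : MvPowerSeries (Fin 2) k)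
    (h00 : c2 k G 0 0 = 0) (h01 : c2 k G 0 1 = 0) (h02 : c2 k G 0 2 ≠ 0) :
    (∃ n : ℕ, Nonempty ((MvPowerSeries (Fin 2) k ⧸ Ideal.span {G}) ≃ₐ[k] ArSing.ring k n)) ∨
      Nonempty ((MvPowerSeries (Fin 2) k ⧸ Ideal.span {G}) ≃ₐ[k]
        (MvPowerSeries (Fin 2) k ⧸ Ideal.span ({X 1 ^ 2} : Set (MvPowerSeries (Fin 2) k)))) := by
  obtain ⟨W, h, hW, hh, hG, hdeg⟩ := exists_weierstrass G 2 h02 (by
    intro i hi; interval_cases i
    · exact h00
    · exact h01)
  obtain ⟨e1⟩ := quot_equiv_of_factor G W hW h hh hG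
  have hWeq := monic_deg_two W hW.monic hdeg
  have ha0 : constantCoeff (W.coeff 1) = 0 :=
    I1_le_ker k (hW.mem (by rw [hdeg]; norm_num))
  have hb0 : constantCoeff (W.coeff 0) = 0 :=
    I1_le_ker k (hW.mem (by rw [hdeg]; norm_num))
  set a := W.coeff 1 with ha
  set b := W.coeff 0 with hb
  set hi : MvPowerSeries (Fin 1) k := MvPowerSeries.C (2⁻¹ : k) with hhi
  have two_hi : hi + hi = 1 := by
    rw [hhi, ← map_add, ← two_mul, mul_inv_cancel₀ h2, map_one]
  set t : MvPowerSeries (Fin 1) k := -(hi * a) with ht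
  have hat : a = -(t + t) := by
    rw [ht]
    linear_combination (-a) * two_hi
  have ht0 : constantCoeff t = 0 := by
    rw [ht, map_neg, map_mul, ha0, mul_zero, neg_zero]
  set c : MvPowerSeries (Fin 1) k := t ^ 2 - b with hc
  have hc0 : constantCoeff c = 0 := by
    rw [hc, map_sub, map_pow, ht0, hb0]; simp
  obtain ⟨e2⟩ := poly_quot_equiv W (Polynomial.X ^ 2 - Polynomial.C c)
    (Polynomial.algEquivAevalXAddC t) 1 isUnit_one (by
      rw [hWeq, Polynomial.algEquivAevalXAddC_apply, hat, hc]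
      simp only [map_add, map_mul, Polynomial.aeval_X, Polynomial.aeval_C, map_sub, map_neg,
        map_pow, Polynomial.algebraMap_apply, Algebra.algebraMap_self, RingHom.id_apply, mul_one]
      ring)
  by_cases hcz : c = 0
  · right
    obtain ⟨e3⟩ := ysq_equiv_poly k
    rw [hcz] at e2
    exact ⟨e1.trans (e2.trans e3.symm)⟩
  · left
    obtain ⟨n, v, vi, hcv, hv⟩ := A1_normal_form k h2 c hcz hc0
    obtain ⟨e3⟩ := poly_quot_equiv (Polynomial.X ^ 2 - Polynomial.C c)
      (Polynomial.X ^ 2 - Polynomial.C ((X 0 : MvPowerSeries (Fin 1) k) ^ (n + 1)))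
      (scaleY v vi hv) (Polynomial.C (v ^ 2))
      (((IsUnit.of_mul_eq_one vi hv).pow 2).map Polynomial.C) (by
        rw [scaleY_apply, hcv]
        simp only [map_sub, map_pow, Polynomial.aeval_X, Polynomial.aeval_C, map_mul,
          Polynomial.algebraMap_apply, Algebra.algebraMap_self, RingHom.id_apply]
        ring)
    obtain ⟨e4⟩ := ring_equiv_poly k n
    exact ⟨n, ⟨e1.trans (e2.trans (e3.trans e4.symm))⟩⟩

end Prep

end Groth.Agent.Lib.Helper8.AR
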