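import Mathlib
import Groth.Agent.Lib.Helper8.AR16
set_option backward.isDefEq.respectTransparency.types false
set_option autoImplicit false
set_option linter.unusedSectionVars false
set_option linter.style.haveILetI false

namespace Groth.Agent.Lib.Helper8.AR

universe u

open MvPowerSeries

variable {k : Type u} [Field k]

lemma fin2_inj (a b a' b' : ℕ)
    (h : (Finsupp.single (0 : Fin 2) a + Finsupp.single 1 b) =
      Finsupp.single 0 a' + Finsupp.single 1 b') : a = a' ∧ b = b' := by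
  have h0 := DFunLike.congr_fun h 0
  have h1 := DFunLike.congr_fun h 1
  simp at h0 h1
  exact ⟨h0, h1⟩

lemma c2_monomial (a b m n : ℕ) (β : k) :
    c2 k (monomial (Finsupp.single 0 a + Finsupp.single 1 b) β) m n =
      if m = a ∧ n = b then β else 0 := by
  classical
  rw [c2, coeff_monomial]
  by_cases h : m = a ∧ n = b
  · obtain ⟨rfl, rfl⟩ := h
    simp
  · rw [if_neg h, if_neg]
    intro h'
    exact h (fin2_inj _ _ _ _ h')

lemma monomial_fin2 (a b : ℕ) (β : k) :
    monomial (Finsupp.single (0 : Fin 2) a + Finsupp.single 1 b) β =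
      C β * X 0 ^ a * X 1 ^ b := by
  rw [X_pow_eq, X_pow_eq, ← monomial_zero_eq_C_apply, monomial_mul_monomial,
    monomial_mul_monomial]
  simp

/-- coefficients after swapping the variables -/
lemma c2_sw (F : MvPowerSeries (Fin 2) k) (m n : ℕ) : c2 k (sw k F) m n = c2 k F n m := by
  have e : (Finsupp.single (0 : Fin 2) m + Finsupp.single 1 n) =
      Finsupp.embDomain (Equiv.swap (0 : Fin 2) 1).toEmbedding
        (Finsupp.single 0 n + Finsupp.single 1 m) := by
    ext i
    rw [embDomain_swap_apply]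
    fin_cases i <;> simp
  rw [c2, e]
  exact coeff_embDomain_rename (Equiv.swap (0 : Fin 2) 1).toEmbedding F _

section Shear

/-- the images of the variables under the shear and its inverse -/
noncomputable def shA (k : Type u) [Field k] : Fin 2 → MvPowerSeries (Fin 2) k := ![X 0 + X 1, X 1]
noncomputable def shB (k : Type u) [Field k] : Fin 2 → MvPowerSeries (Fin 2) k := ![X 0 - X 1, X 1]

lemma hasSubst_shA : HasSubst (shA k) :=
  hasSubst_of_constantCoeff_zero (by intro s; fin_cases s <;> simp [shA])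

lemma hasSubst_shB : HasSubst (shB k) :=
  hasSubst_of_constantCoeff_zero (by intro s; fin_cases s <;> simp [shB])

lemma substAlgHom_eq_self (a : Fin 2 → MvPowerSeries (Fin 2) k) (ha : HasSubst a)
    (h : a = X) (f : MvPowerSeries (Fin 2) k) : substAlgHom (R := k) ha f = f := by
  subst h
  rw [substAlgHom_apply, subst_self]
  rfl


lemma shB_comp_shA : (fun s => substAlgHom (R := k) hasSubst_shB (shA k s)) = (X : Fin 2 → MvPowerSeries (Fin 2) k) := by
  funext s
  fin_cases s
  · simp only [shA, Fin.zero_eta, Matrix.cons_val_zero, map_add, substAlgHom_X, shB,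
      Matrix.cons_val_one]
    ring
  · simp only [shA, Fin.mk_one, Matrix.cons_val_one, Matrix.cons_val_zero, substAlgHom_X, shB]

lemma shA_comp_shB : (fun s => substAlgHom (R := k) hasSubst_shA (shB k s)) = (X : Fin 2 → MvPowerSeries (Fin 2) k) := by
  funext s
  fin_cases s
  · simp only [shB, Fin.zero_eta, Matrix.cons_val_zero, map_sub, substAlgHom_X, shA,
      Matrix.cons_val_one]
    ring
  · simp only [shB, Fin.mk_one, Matrix.cons_val_one, Matrix.cons_val_zero, substAlgHom_X, shA]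

/-- the shear `x ↦ x + y`, `y ↦ y` -/
noncomputable def shear (k : Type u) [Field k] :
    MvPowerSeries (Fin 2) k ≃ₐ[k] MvPowerSeries (Fin 2) k :=
  AlgEquiv.ofAlgHom (substAlgHom (R := k) hasSubst_shA) (substAlgHom (R := k) hasSubst_shB)
    (by
      ext f : 1
      rw [AlgHom.comp_apply, substAlgHom_comp_substAlgHom_apply]
      exact substAlgHom_eq_self _ _ shA_comp_shB f)
    (by
      ext f : 1
      rw [AlgHom.comp_apply, substAlgHom_comp_substAlgHom_apply]
      exact substAlgHom_eq_self _ _ shB_comp_shA f)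

lemma shear_apply (f : MvPowerSeries (Fin 2) k) :
    shear k f = substAlgHom (R := k) hasSubst_shA f := rfl

lemma shear_X0 : shear k (X 0) = X 0 + X 1 := by
  rw [shear_apply, substAlgHom_X]; rfl

lemma shear_X1 : shear k (X 1) = X 1 := by
  rw [shear_apply, substAlgHom_X]; rfl

lemma order_shear (f : MvPowerSeries (Fin 2) k) : f.order ≤ (shear k f).order := by
  rw [shear_apply, substAlgHom_apply]
  refine le_trans ?_ (le_order_subst hasSubst_shA f)
  have h1 : (1 : ℕ∞) ≤ ⨅ i, (shA k i).order := by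
    refine le_iInf fun i => ?_
    apply one_le_order_iff_constCoeff_eq_zero.mpr
    fin_cases i <;> simp [shA]
  calc f.order = 1 * f.order := (one_mul _).symm
    _ ≤ (⨅ i, (shA k i).order) * f.order := mul_le_mul' h1 le_rfl

end Shear


lemma shear_C (β : k) : shear k (C β) = C β := by
  have : (C β : MvPowerSeries (Fin 2) k) = algebraMap k _ β := by
    rw [MvPowerSeries.algebraMap_apply]; rfl
  rw [this, AlgEquiv.commutes]

theorem equiv_of_c11 [IsAlgClosed k] (h2 : (2 : k) ≠ 0) (F : MvPowerSeries (Fin 2) k)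
    (h00 : c2 k F 0 0 = 0) (h10 : c2 k F 1 0 = 0) (h01 : c2 k F 0 1 = 0)
    (h20 : c2 k F 2 0 = 0) (h02 : c2 k F 0 2 = 0) (h11 : c2 k F 1 1 ≠ 0) :
    (∃ n : ℕ, Nonempty ((MvPowerSeries (Fin 2) k ⧸ Ideal.span {F}) ≃ₐ[k] ArSing.ring k n)) ∨
      Nonempty ((MvPowerSeries (Fin 2) k ⧸ Ideal.span {F}) ≃ₐ[k]
        (MvPowerSeries (Fin 2) k ⧸ Ideal.span ({X 1 ^ 2} : Set (MvPowerSeries (Fin 2) k)))) := by
  set β := c2 k F 1 1 with hβ
  set M : MvPowerSeries (Fin 2) k := monomial (Finsupp.single 0 1 + Finsupp.single 1 1) β with hM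
  set R := F - M with hR
  have hRord : (3 : ℕ∞) ≤ R.order := by
    have := le_order_of_c2 k R 3 (by
      intro a b hab
      rw [hR, c2_sub, hM, c2_monomial]
      have ha : a < 3 := by omega
      have hb : b < 3 := by omega
      interval_cases a <;> interval_cases b <;> first | omega | simp [h00, h10, h01, h20, h02, hβ])
    exact_mod_cast this
  have hTR : (3 : ℕ∞) ≤ (shear k R).order := le_trans hRord (order_shear R)
  have hTM : shear k M = monomial (Finsupp.single 0 1 + Finsupp.single 1 1) β +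
      monomial (Finsupp.single 0 0 + Finsupp.single 1 2) β := by
    rw [hM, monomial_fin2, monomial_fin2, map_mul, map_mul, map_pow, map_pow,
      shear_C, shear_X0, shear_X1]
    ring
  have hTF : shear k F = shear k R + shear k M := by
    rw [← map_add, hR]; congr 1; ring
  have hc : ∀ j : ℕ, j < 3 → c2 k (shear k F) 0 j = if j = 2 then β else 0 := by
    intro j hj
    rw [hTF, c2_add, hTM, c2_add, c2_monomial, c2_monomial,
      c2_eq_zero_of_lt_order k _ 0 j (lt_of_lt_of_le (by exact_mod_cast (by omega : 0 + j < 3)) hTR)]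
    simp
  obtain ⟨e0⟩ := ps_quot_equiv F (shear k F) (shear k) rfl
  have key := equiv_of_order_two h2 (shear k F) (by rw [hc 0 (by norm_num)]; simp)
    (by rw [hc 1 (by norm_num)]; simp) (by rw [hc 2 (by norm_num)]; simpa using h11)
  rcases key with ⟨n, ⟨e⟩⟩ | e
  · exact Or.inl ⟨n, ⟨e0.trans e⟩⟩
  · obtain ⟨e⟩ := e
    exact Or.inr ⟨e0.trans e⟩


theorem equiv_of_low_coeff [IsAlgClosed k] (h2 : (2 : k) ≠ 0) (F : MvPowerSeries (Fin 2) k)
    (h00 : c2 k F 0 0 = 0)
    (hne : ¬ (c2 k F 1 0 = 0 ∧ c2 k F 0 1 = 0 ∧ c2 k F 2 0 = 0 ∧ c2 k F 1 1 = 0 ∧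
      c2 k F 0 2 = 0)) :
    (∃ n : ℕ, Nonempty ((MvPowerSeries (Fin 2) k ⧸ Ideal.span {F}) ≃ₐ[k] ArSing.ring k n)) ∨
      Nonempty ((MvPowerSeries (Fin 2) k ⧸ Ideal.span {F}) ≃ₐ[k]
        (MvPowerSeries (Fin 2) k ⧸ Ideal.span ({X 1 ^ 2} : Set (MvPowerSeries (Fin 2) k)))) := by
  obtain ⟨esw⟩ := ps_quot_equiv F (sw k F) (sw k) rfl
  by_cases h01 : c2 k F 0 1 = 0
  swap
  · obtain ⟨e⟩ := equiv_of_order_one F h00 h01
    exact Or.inl ⟨0, ⟨e⟩⟩
  by_cases h10 : c2 k F 1 0 = 0
  swap
  · obtain ⟨e⟩ := equiv_of_order_one (sw k F) (by rw [c2_sw]; exact h00) (by rw [c2_sw]; exact h10)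
    exact Or.inl ⟨0, ⟨esw.trans e⟩⟩
  by_cases h02 : c2 k F 0 2 = 0
  swap
  · exact equiv_of_order_two h2 F h00 h01 h02
  by_cases h20 : c2 k F 2 0 = 0
  swap
  · have key := equiv_of_order_two h2 (sw k F) (by rw [c2_sw]; exact h00)
      (by rw [c2_sw]; exact h10) (by rw [c2_sw]; exact h20)
    rcases key with ⟨n, ⟨e⟩⟩ | e
    · exact Or.inl ⟨n, ⟨esw.trans e⟩⟩
    · obtain ⟨e⟩ := e
      exact Or.inr ⟨esw.trans e⟩
  by_cases h11 : c2 k F 1 1 = 0
  swap
  · exact equiv_of_c11 h2 F h00 h10 h01 h20 h02 h11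
  exact absurd ⟨h10, h01, h20, h11, h02⟩ hne

section Final

variable (a : Fin 2 → k) (f : MvPolynomial (Fin 2) k)

lemma c2_Tr_00 : c2 k ((Tr a f : MvPolynomial (Fin 2) k) : MvPowerSeries (Fin 2) k) 0 0 =
    MvPolynomial.eval a f := by
  rw [c2, ← coeff_zero_Tr]; simp

lemma c2_Tr_10 : c2 k ((Tr a f : MvPolynomial (Fin 2) k) : MvPowerSeries (Fin 2) k) 1 0 =
    MvPolynomial.eval a (MvPolynomial.pderiv 0 f) := by
  rw [c2, ← coeff_single_Tr]; simp

lemma c2_Tr_01 : c2 k ((Tr a f : MvPolynomial (Fin 2) k) : MvPowerSeries (Fin 2) k) 0 1 =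
    MvPolynomial.eval a (MvPolynomial.pderiv 1 f) := by
  rw [c2, ← coeff_single_Tr]; simp

lemma c2_Tr_20 : MvPolynomial.eval a (MvPolynomial.pderiv 0 (MvPolynomial.pderiv 0 f)) =
    c2 k ((Tr a f : MvPolynomial (Fin 2) k) : MvPowerSeries (Fin 2) k) 2 0 * 2 := by
  rw [coeff_single_add_single_Tr, c2]
  have e : (Finsupp.single (0 : Fin 2) 1 + Finsupp.single 0 1 : Fin 2 →₀ ℕ) =
      Finsupp.single 0 2 + Finsupp.single 1 0 := by
    rw [← Finsupp.single_add]; simp
  rw [e]
  norm_num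

lemma c2_Tr_02 : MvPolynomial.eval a (MvPolynomial.pderiv 1 (MvPolynomial.pderiv 1 f)) =
    c2 k ((Tr a f : MvPolynomial (Fin 2) k) : MvPowerSeries (Fin 2) k) 0 2 * 2 := by
  rw [coeff_single_add_single_Tr, c2]
  have e : (Finsupp.single (1 : Fin 2) 1 + Finsupp.single 1 1 : Fin 2 →₀ ℕ) =
      Finsupp.single 0 0 + Finsupp.single 1 2 := by
    rw [← Finsupp.single_add]; simp
  rw [e]
  norm_num

lemma c2_Tr_11 : MvPolynomial.eval a (MvPolynomial.pderiv 0 (MvPolynomial.pderiv 1 f)) =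
    c2 k ((Tr a f : MvPolynomial (Fin 2) k) : MvPowerSeries (Fin 2) k) 1 1 := by
  rw [coeff_single_add_single_Tr, c2]
  simp

lemma c2_Tr_11' : MvPolynomial.eval a (MvPolynomial.pderiv 1 (MvPolynomial.pderiv 0 f)) =
    c2 k ((Tr a f : MvPolynomial (Fin 2) k) : MvPowerSeries (Fin 2) k) 1 1 := by
  rw [coeff_single_add_single_Tr, c2, add_comm (Finsupp.single (1 : Fin 2) 1)]
  simp

end Final


theorem main311
    {k : Type u} [Field k] [IsAlgClosed k] (h2 : (2 : k) ≠ 0) (f : MvPolynomial (Fin 2) k) (a : Fin 2 → k)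
    (hfa : MvPolynomial.eval a f = 0) :
    ((∀ i : Fin 2, MvPolynomial.eval a (MvPolynomial.pderiv i f) = 0) ∧
      ∀ i j : Fin 2, MvPolynomial.eval a (MvPolynomial.pderiv i (MvPolynomial.pderiv j f)) = 0) ↔
    ¬ ((∃ n : ℕ, Nonempty ((MvPowerSeries (Fin 2) k ⧸ Ideal.span
        ({(MvPolynomial.aeval (fun i : Fin 2 => MvPolynomial.X i + MvPolynomial.C (a i)) f).toMvPowerSeries} :
          Set (MvPowerSeries (Fin 2) k))) ≃ₐ[k] ArSing.ring k n)) ∨
        Nonempty ((MvPowerSeries (Fin 2) k ⧸ Ideal.span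
        ({(MvPolynomial.aeval (fun i : Fin 2 => MvPolynomial.X i + MvPolynomial.C (a i)) f).toMvPowerSeries} :
          Set (MvPowerSeries (Fin 2) k))) ≃ₐ[k]
          (MvPowerSeries (Fin 2) k ⧸ Ideal.span ({MvPowerSeries.X 1 ^ 2} : Set (MvPowerSeries (Fin 2) k))))) := by
  change _ ↔ ¬ ((∃ n : ℕ, Nonempty ((MvPowerSeries (Fin 2) k ⧸ Ideal.span
        ({((Tr a f : MvPolynomial (Fin 2) k) : MvPowerSeries (Fin 2) k)} :
          Set (MvPowerSeries (Fin 2) k))) ≃ₐ[k] ArSing.ring k n)) ∨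
        Nonempty ((MvPowerSeries (Fin 2) k ⧸ Ideal.span
        ({((Tr a f : MvPolynomial (Fin 2) k) : MvPowerSeries (Fin 2) k)} :
          Set (MvPowerSeries (Fin 2) k))) ≃ₐ[k]
          (MvPowerSeries (Fin 2) k ⧸ Ideal.span ({MvPowerSeries.X 1 ^ 2} : Set (MvPowerSeries (Fin 2) k)))))
  set F : MvPowerSeries (Fin 2) k := ((Tr a f : MvPolynomial (Fin 2) k) : MvPowerSeries (Fin 2) k)
    with hF
  have h00 : c2 k F 0 0 = 0 := by rw [hF, c2_Tr_00, hfa]
  constructor
  · rintro ⟨hg, hh⟩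
    have h10 : c2 k F 1 0 = 0 := by rw [hF, c2_Tr_10, hg 0]
    have h01 : c2 k F 0 1 = 0 := by rw [hF, c2_Tr_01, hg 1]
    have h20 : c2 k F 2 0 = 0 := by
      have := hh 0 0
      rw [c2_Tr_20] at this
      exact (mul_eq_zero.mp this).resolve_right h2
    have h02 : c2 k F 0 2 = 0 := by
      have := hh 1 1
      rw [c2_Tr_02] at this
      exact (mul_eq_zero.mp this).resolve_right h2
    have h11 : c2 k F 1 1 = 0 := by
      have := hh 0 1
      rw [c2_Tr_11] at this
      exact this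
    have hord : (3 : ℕ∞) ≤ F.order := by
      have := le_order_of_c2 k F 3 (by
        intro a b hab
        have ha : a < 3 := by omega
        have hb : b < 3 := by omega
        interval_cases a <;> interval_cases b <;>
          first | omega | assumption)
      exact_mod_cast this
    have hnq := not_QP_of_order hord
    rintro (⟨n, ⟨e⟩⟩ | e)
    · exact hnq (QP_of_equiv e.symm.toRingEquiv (QP_ring n))
    · obtain ⟨e⟩ := e
      exact hnq (QP_of_equiv e.symm.toRingEquiv QP_ysq)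
  · intro hnot
    by_contra hcon
    apply hnot
    apply equiv_of_low_coeff h2 F h00
    rintro ⟨h10, h01, h20, h11, h02⟩
    apply hcon
    constructor
    · intro i
      fin_cases i
      · simpa [hF, c2_Tr_10] using h10
      · simpa [hF, c2_Tr_01] using h01
    · intro i j
      fin_cases i <;> fin_cases j
      · simp only [Fin.zero_eta]
        rw [c2_Tr_20, ← hF, h20, zero_mul]
      · simp only [Fin.zero_eta, Fin.mk_one]
        rw [c2_Tr_11, ← hF, h11]
      · simp only [Fin.zero_eta, Fin.mk_one]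
        rw [c2_Tr_11', ← hF, h11]
      · simp only [Fin.mk_one]
        rw [c2_Tr_02, ← hF, h02, zero_mul]

end Groth.Agent.Lib.Helper8.AR
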