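import Mathlib
import Groth.Agent.Lib.Helper8.AR17
set_option backward.isDefEq.respectTransparency.types false
set_option autoImplicit false
set_option linter.unusedSectionVars false
set_option linter.style.haveILetI false

namespace Groth.Agent.Lib.Helper8.AR

universe u

open MvPowerSeries

variable {k : Type u} [Field k]

/-- `G` with nonzero `y`-linear coefficient: `k[[x,y]]/(G²) ≅ k[[x,y]]/(y²)` -/
theorem sq_equiv_ysq_of_c01 (G : MvPowerSeries (Fin 2) k) (h00 : c2 k G 0 0 = 0)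
    (h01 : c2 k G 0 1 ≠ 0) :
    Nonempty ((MvPowerSeries (Fin 2) k ⧸ Ideal.span {G ^ 2}) ≃ₐ[k]
      (MvPowerSeries (Fin 2) k ⧸ Ideal.span ({X 1 ^ 2} : Set (MvPowerSeries (Fin 2) k)))) := by
  obtain ⟨W, h, hW, hh, hG, hdeg⟩ := exists_weierstrass G 1 h01 (by
    intro i hi; interval_cases i; exact h00)
  have hWeq := monic_deg_one W hW.monic hdeg
  set b := W.coeff 0 with hb
  obtain ⟨e1⟩ := quot_equiv_of_factor (G ^ 2) (W * W) (hW.mul hW) (h * h) (hh.mul hh) (by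
    rw [map_pow, hG, Polynomial.coe_mul]; ring)
  obtain ⟨e2⟩ := poly_quot_equiv (W * W)
    (Polynomial.X ^ 2 - Polynomial.C (0 : MvPowerSeries (Fin 1) k))
    (Polynomial.algEquivAevalXAddC (-b)) 1 isUnit_one (by
      rw [hWeq, map_mul, Polynomial.algEquivAevalXAddC_apply]
      simp only [map_add, Polynomial.aeval_X, Polynomial.aeval_C, map_neg,
        Polynomial.algebraMap_apply, Algebra.algebraMap_self, RingHom.id_apply, mul_one, map_zero,
        sub_zero]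
      ring)
  obtain ⟨e3⟩ := ysq_equiv_poly k
  exact ⟨e1.trans (e2.trans e3.symm)⟩

/-- `F = U G²` with `U` a unit and `G` a regular parameter: `k[[x,y]]/(F) ≅ k[[x,y]]/(y²)` -/
theorem equiv_ysq_of_unit_mul_sq (F U G : MvPowerSeries (Fin 2) k) (hU : IsUnit U)
    (hF : F = U * G ^ 2) (h00 : c2 k G 0 0 = 0) (hlin : c2 k G 0 1 ≠ 0 ∨ c2 k G 1 0 ≠ 0) :
    Nonempty ((MvPowerSeries (Fin 2) k ⧸ Ideal.span {F}) ≃ₐ[k]
      (MvPowerSeries (Fin 2) k ⧸ Ideal.span ({X 1 ^ 2} : Set (MvPowerSeries (Fin 2) k)))) := by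
  have e0 : (MvPowerSeries (Fin 2) k ⧸ Ideal.span {F}) ≃ₐ[k]
      (MvPowerSeries (Fin 2) k ⧸ Ideal.span {G ^ 2}) :=
    Ideal.quotientEquivAlgOfEq k (by rw [hF, Ideal.span_singleton_mul_left_unit hU])
  rcases hlin with h01 | h10
  · obtain ⟨e1⟩ := sq_equiv_ysq_of_c01 G h00 h01
    exact ⟨e0.trans e1⟩
  · obtain ⟨esw⟩ := ps_quot_equiv (G ^ 2) ((sw k G) ^ 2) (sw k) (map_pow _ _ _)
    obtain ⟨e1⟩ := sq_equiv_ysq_of_c01 (sw k G) (by rw [c2_sw]; exact h00)
      (by rw [c2_sw]; exact h10)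
    exact ⟨e0.trans (esw.trans e1)⟩

/-- the "if" direction of S14310 -/
theorem equiv_ysq_of_factorization (f g h : MvPolynomial (Fin 2) k) (a : Fin 2 → k)
    (hf : f = g ^ 2 * h) (hh : MvPolynomial.eval a h ≠ 0) (hg : MvPolynomial.eval a g = 0)
    (hd : ∃ i : Fin 2, MvPolynomial.eval a (MvPolynomial.pderiv i g) ≠ 0) :
    Nonempty ((MvPowerSeries (Fin 2) k ⧸ Ideal.span
        ({((Tr a f : MvPolynomial (Fin 2) k) : MvPowerSeries (Fin 2) k)} :
          Set (MvPowerSeries (Fin 2) k))) ≃ₐ[k]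
      (MvPowerSeries (Fin 2) k ⧸ Ideal.span ({X 1 ^ 2} : Set (MvPowerSeries (Fin 2) k)))) := by
  apply equiv_ysq_of_unit_mul_sq _ ((Tr a h : MvPolynomial (Fin 2) k) : MvPowerSeries (Fin 2) k)
    ((Tr a g : MvPolynomial (Fin 2) k) : MvPowerSeries (Fin 2) k)
  · rw [MvPowerSeries.isUnit_iff_constantCoeff, isUnit_iff_ne_zero, ← c2_zero_zero, c2_Tr_00]
    exact hh
  · rw [hf, map_mul, map_pow, MvPolynomial.coe_mul, MvPolynomial.coe_pow]
    ring
  · rw [c2_Tr_00]; exact hg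
  · obtain ⟨i, hi⟩ := hd
    fin_cases i
    · right; rw [c2_Tr_10]; exact hi
    · left; rw [c2_Tr_01]; exact hi

end Groth.Agent.Lib.Helper8.AR
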