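import Mathlib
import Groth.Agent.Lib.Helper8.AR18
set_option backward.isDefEq.respectTransparency.types false
set_option autoImplicit false
set_option linter.unusedSectionVars false
set_option linter.style.haveILetI false

namespace Groth.Agent.Lib.Helper8.AR

universe u

open MvPowerSeries

variable {k : Type u} [Field k]

/-- non-zero elements of `k[[x]]` are a power of `x` times a unit -/
lemma A1_order_form (c : MvPowerSeries (Fin 1) k) (hc : c ≠ 0) :
    ∃ (n : ℕ) (v vi : MvPowerSeries (Fin 1) k), c = X 0 ^ n * v ∧ v * vi = 1 := by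
  obtain ⟨c', rfl⟩ := (iota1 k).surjective c
  have hc' : c' ≠ 0 := by
    rintro rfl; exact hc (map_zero _)
  have hd : PowerSeries.constantCoeff (PowerSeries.divXPowOrder c') ≠ 0 := by
    rw [Ne, PowerSeries.constantCoeff_divXPowOrder_eq_zero_iff]; exact hc'
  have hfac := PowerSeries.X_pow_order_mul_divXPowOrder (f := c')
  obtain ⟨ωi, hωi⟩ := ps_unit_inv _ hd
  refine ⟨c'.order.toNat, iota1 k (PowerSeries.divXPowOrder c'), iota1 k ωi, ?_, ?_⟩
  · rw [← iota1_X, ← map_pow, ← map_mul, hfac]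
  · rw [← map_mul, hωi, map_one]

lemma iota2_mul (c d : MvPowerSeries (Fin 1) k) : iota2 k (c * d) = iota2 k c * iota2 k d :=
  map_mul _ _ _

lemma constantCoeff_iota2 (c : MvPowerSeries (Fin 1) k) :
    constantCoeff (iota2 k c) = constantCoeff c := by
  rw [← c2_zero_zero, ← coeff_Phi, Phi_iota2, PowerSeries.coeff_zero_C,
    ← coeff_zero_eq_constantCoeff_apply]
  simp

/-- every element of the maximal ideal lies in an ideal containing `x` and `y` -/
lemma mem_of_X_mem (I : Ideal (MvPowerSeries (Fin 2) k)) (h0 : X 0 ∈ I) (h1 : X 1 ∈ I)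
    (z : MvPowerSeries (Fin 2) k) (hz : constantCoeff z = 0) : z ∈ I := by
  obtain ⟨a, b, rfl⟩ := exists_decomp k z hz
  exact Ideal.add_mem _ (Ideal.mul_mem_right _ _ h0) (Ideal.mul_mem_right _ _ h1)

lemma order_toNat_of_deg_one (W : Polynomial (MvPowerSeries (Fin 1) k))
    (hW : W.IsDistinguishedAt (I1 k)) (hdeg : W.natDegree = 1) :
    ((W : PowerSeries (MvPowerSeries (Fin 1) k)).map
      (Ideal.Quotient.mk (I1 k))).order.toNat = 1 := by
  have h := hW.coe_natDegree_eq_order_map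
    (W : PowerSeries (MvPowerSeries (Fin 1) k)) 1
    (by simpa using one_notMem_I1 k) (by simp)
  rw [← h, hdeg]; rfl

/-- division by `G₁ = y + b(x)` -/
lemma exists_div_lin (b : MvPowerSeries (Fin 1) k) (hb : constantCoeff b = 0)
    (F : MvPowerSeries (Fin 2) k) :
    ∃ (Q : MvPowerSeries (Fin 2) k) (r : MvPowerSeries (Fin 1) k),
      F = (X 1 + iota2 k b) * Q + iota2 k r := by
  have hW : (Polynomial.X - Polynomial.C (-b) :
      Polynomial (MvPowerSeries (Fin 1) k)).IsDistinguishedAt (I1 k) :=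
    dist_lin (-b) (by simp [hb])
  have HD := hW.isWeierstrassDivisorAt'
  obtain ⟨hdeg, heq⟩ := HD.isWeierstrassDivisionAt_div_mod (Phi k F)
  rw [order_toNat_of_deg_one _ hW (Polynomial.natDegree_X_sub_C _)] at hdeg
  set R := HD.mod (Phi k F) with hRdef
  set Q := HD.div (Phi k F) with hQdef
  have hR : R = Polynomial.C (R.coeff 0) := by
    apply Polynomial.eq_C_of_degree_le_zero
    have : R.degree < ((1 : ℕ) : WithBot ℕ) := hdeg
    exact Nat.WithBot.lt_one_iff_le_zero.mp (by exact_mod_cast this)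
  refine ⟨(Phi k).symm Q, R.coeff 0, ?_⟩
  apply (Phi k).injective
  rw [heq, hR]
  simp only [map_add, map_mul, AlgEquiv.apply_symm_apply, Phi_iota2, Phi_X1,
    Polynomial.coe_sub, Polynomial.coe_C, Polynomial.coe_X, map_neg, Polynomial.coeff_C_zero,
    Polynomial.coe_neg]
  ring


lemma A1_X_dvd (b : MvPowerSeries (Fin 1) k) (hb : constantCoeff b = 0) :
    ∃ b' : MvPowerSeries (Fin 1) k, b = X 0 * b' := by
  obtain ⟨p, rfl⟩ := (iota1 k).surjective b
  rw [constantCoeff_iota1] at hb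
  obtain ⟨q, rfl⟩ := PowerSeries.X_dvd_iff.mpr hb
  exact ⟨iota1 k q, by rw [map_mul, iota1_X]⟩

lemma c2_iota2_zero_one (b : MvPowerSeries (Fin 1) k) : c2 k (iota2 k b) 0 1 = 0 := by
  rw [← coeff_Phi, Phi_iota2, PowerSeries.coeff_C]
  simp

lemma isUnit_of_order_eq_zero (Z : MvPowerSeries (Fin 2) k) (h : Z.order = 0) : IsUnit Z := by
  rw [MvPowerSeries.isUnit_iff_constantCoeff, isUnit_iff_ne_zero]
  intro h0
  have := one_le_order_iff_constCoeff_eq_zero.mpr h0
  rw [h] at this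
  norm_num at this

lemma enat_add_le_one (a b : ℕ∞) (h : a + b ≤ 1) : a = 0 ∨ b = 0 := by
  by_contra hcon
  push Not at hcon
  have ha : 1 ≤ a := Order.one_le_iff_ne_zero.mpr hcon.1
  have hb : 1 ≤ b := Order.one_le_iff_ne_zero.mpr hcon.2
  have := le_trans (add_le_add ha hb) h
  norm_num at this

theorem unit_mul_sq_of_data_lin (F : MvPowerSeries (Fin 2) k) (b : MvPowerSeries (Fin 1) k)
    (hb : constantCoeff b = 0)
    (h1 : (X 1 + iota2 k b) ^ 2 ∈ Ideal.span {F}) (h2 : (X 1 + iota2 k b) ∉ Ideal.span {F})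
    (hprime : (Ideal.span {X 1 + iota2 k b} ⊔ Ideal.span {F}).IsPrime)
    (hz : ∃ z : MvPowerSeries (Fin 2) k, constantCoeff z = 0 ∧
      z ∉ Ideal.span {X 1 + iota2 k b} ⊔ Ideal.span {F}) :
    ∃ U : MvPowerSeries (Fin 2) k, IsUnit U ∧ F = U * (X 1 + iota2 k b) ^ 2 := by
  set G₁ : MvPowerSeries (Fin 2) k := X 1 + iota2 k b with hG₁
  set I := Ideal.span {G₁} ⊔ Ideal.span {F} with hI
  have hGI : G₁ ∈ I := Ideal.mem_sup_left (Ideal.subset_span rfl)
  have hFI : F ∈ I := Ideal.mem_sup_right (Ideal.subset_span rfl)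
  obtain ⟨Q, r, hF⟩ := exists_div_lin b hb F
  have hc01 : c2 k G₁ 0 1 = 1 := by
    rw [hG₁, c2_add, c2_X1, c2_iota2_zero_one]; simp
  have hG₁ne : G₁ ≠ 0 := by
    intro h0
    rw [h0] at hc01
    simp [c2] at hc01
  have hr : r = 0 := by
    by_contra hr0
    obtain ⟨n, v, vi, hrv, hv⟩ := A1_order_form r hr0
    have hrI : iota2 k r ∈ I := by
      have : iota2 k r = F - G₁ * Q := by rw [hF]; ring
      rw [this]
      exact Ideal.sub_mem _ hFI (Ideal.mul_mem_right _ _ hGI)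
    have hXn : (X 0 : MvPowerSeries (Fin 2) k) ^ n ∈ I := by
      have : (X 0 : MvPowerSeries (Fin 2) k) ^ n = iota2 k r * iota2 k vi := by
        rw [hrv, map_mul, map_pow, iota2_X, mul_assoc, ← map_mul, hv, map_one, mul_one]
      rw [this]
      exact Ideal.mul_mem_right _ _ hrI
    have hX0 : (X 0 : MvPowerSeries (Fin 2) k) ∈ I := hprime.mem_of_pow_mem n hXn
    obtain ⟨b', hb'⟩ := A1_X_dvd b hb
    have hbI : iota2 k b ∈ I := by
      rw [hb', map_mul, iota2_X]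
      exact Ideal.mul_mem_right _ _ hX0
    have hX1 : (X 1 : MvPowerSeries (Fin 2) k) ∈ I := by
      have : (X 1 : MvPowerSeries (Fin 2) k) = G₁ - iota2 k b := by rw [hG₁]; ring
      rw [this]
      exact Ideal.sub_mem _ hGI hbI
    obtain ⟨z, hz0, hzI⟩ := hz
    exact hzI (mem_of_X_mem I hX0 hX1 z hz0)
  rw [hr, map_zero, add_zero] at hF
  obtain ⟨T, hT⟩ := Ideal.mem_span_singleton'.mp h1
  have hGQT : G₁ = Q * T := by
    apply mul_left_cancel₀ hG₁ne
    rw [← pow_two, ← hT, hF]; ring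
  have hord : G₁.order ≤ 1 := by
    have h := order_le (f := G₁) (d := Finsupp.single 0 0 + Finsupp.single 1 1) (by
      change c2 k G₁ 0 1 ≠ 0
      rw [hc01]; exact one_ne_zero)
    rw [degree_fin2] at h
    exact_mod_cast h
  rw [hGQT, order_mul] at hord
  rcases enat_add_le_one _ _ hord with hQ | hT0
  · exfalso
    obtain ⟨Qu, rfl⟩ := isUnit_of_order_eq_zero Q hQ
    apply h2
    rw [Ideal.mem_span_singleton']
    refine ⟨((Qu⁻¹ : (MvPowerSeries (Fin 2) k)ˣ) : MvPowerSeries (Fin 2) k), ?_⟩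
    rw [hF]
    calc ((Qu⁻¹ : (MvPowerSeries (Fin 2) k)ˣ) : MvPowerSeries (Fin 2) k) * (G₁ * ↑Qu)
        = G₁ * (↑Qu * ((Qu⁻¹ : (MvPowerSeries (Fin 2) k)ˣ) : MvPowerSeries (Fin 2) k)) := by ring
      _ = G₁ := by rw [Units.mul_inv, mul_one]
  · obtain ⟨Tu, rfl⟩ := isUnit_of_order_eq_zero T hT0
    refine ⟨((Tu⁻¹ : (MvPowerSeries (Fin 2) k)ˣ) : MvPowerSeries (Fin 2) k), Units.isUnit _, ?_⟩
    have hQ : Q = G₁ * ((Tu⁻¹ : (MvPowerSeries (Fin 2) k)ˣ) : MvPowerSeries (Fin 2) k) := by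
      rw [hGQT, mul_assoc, Units.mul_inv, mul_one]
    rw [hF]
    conv_lhs => rw [hQ]
    ring


theorem unit_mul_sq_of_data (F G : MvPowerSeries (Fin 2) k) (hG0 : c2 k G 0 0 = 0)
    (h01 : c2 k G 0 1 ≠ 0)
    (h1 : G ^ 2 ∈ Ideal.span {F}) (h2 : G ∉ Ideal.span {F})
    (hprime : (Ideal.span {G} ⊔ Ideal.span {F}).IsPrime)
    (hz : ∃ z : MvPowerSeries (Fin 2) k, constantCoeff z = 0 ∧
      z ∉ Ideal.span {G} ⊔ Ideal.span {F}) :
    ∃ U : MvPowerSeries (Fin 2) k, IsUnit U ∧ F = U * G ^ 2 := by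
  obtain ⟨W, h, hW, hh, hG, hdeg⟩ := exists_weierstrass G 1 h01 (by
    intro i hi; interval_cases i; exact hG0)
  have hWeq := monic_deg_one W hW.monic hdeg
  have hb0 : constantCoeff (W.coeff 0) = 0 :=
    I1_le_ker k (hW.mem (by rw [hdeg]; norm_num))
  set b := W.coeff 0 with hb
  set G₁ : MvPowerSeries (Fin 2) k := X 1 + iota2 k b with hG₁
  obtain ⟨hu, rfl⟩ := hh
  set H : MvPowerSeries (Fin 2) k := (Phi k).symm (hu : PowerSeries (MvPowerSeries (Fin 1) k))
    with hH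
  set Hi : MvPowerSeries (Fin 2) k :=
    (Phi k).symm ((hu⁻¹ : (PowerSeries (MvPowerSeries (Fin 1) k))ˣ) :
      PowerSeries (MvPowerSeries (Fin 1) k)) with hHi
  have hHHi : H * Hi = 1 := by
    rw [hH, hHi, ← map_mul, Units.mul_inv, map_one]
  have hGG : G = G₁ * H := by
    apply (Phi k).injective
    rw [hG, map_mul, hH, AlgEquiv.apply_symm_apply, hG₁, map_add, Phi_X1, Phi_iota2, hWeq]
    simp
  have hspan : Ideal.span {G} = Ideal.span {G₁} := by
    rw [hGG, Ideal.span_singleton_mul_right_unit (IsUnit.of_mul_eq_one Hi hHHi)]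
  have hG₁G : G₁ = G * Hi := by
    rw [hGG, mul_assoc, hHHi, mul_one]
  obtain ⟨U, hU, hFU⟩ := unit_mul_sq_of_data_lin F b hb0
    (by
      rw [← hG₁, hG₁G, mul_pow]
      exact Ideal.mul_mem_right _ _ h1)
    (by
      rw [← hG₁]
      intro hmem
      apply h2
      rw [hGG]
      exact Ideal.mul_mem_right _ _ hmem)
    (by rw [← hG₁, ← hspan]; exact hprime)
    (by rw [← hG₁, ← hspan]; exact hz)
  refine ⟨U * Hi ^ 2, hU.mul ((IsUnit.of_mul_eq_one H (by rw [mul_comm]; exact hHHi)).pow 2), ?_⟩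
  rw [hFU, ← hG₁, hG₁G]
  ring


section FromEquiv

lemma X1_prime : Prime (X 1 : MvPowerSeries (Fin 2) k) := by
  haveI : IsDomain (MvPowerSeries (Fin 1) k) := NoZeroDivisors.to_isDomain _
  rw [← MulEquiv.prime_iff (Phi k), Phi_X1]
  exact PowerSeries.X_prime

lemma X0_notMem_span_X1 : (X 0 : MvPowerSeries (Fin 2) k) ∉ Ideal.span {(X 1 : MvPowerSeries (Fin 2) k)} := by
  intro h
  obtain ⟨c, hc⟩ := Ideal.mem_span_singleton'.mp h
  have h1 : c2 k (X 1 * c) 1 0 = c2 k (X 0) 1 0 := by rw [mul_comm, hc]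
  rw [c2_mul_one_zero k _ _ (by simp), c2_X1, c2_X0] at h1
  simp at h1

lemma ysq_order : (2 : ℕ∞) ≤ ((X 1 : MvPowerSeries (Fin 2) k) ^ 2).order :=
  two_le_order_sq (X 1 : MvPowerSeries (Fin 2) k) (by simp) 2 le_rfl

lemma ysq_cc : constantCoeff ((X 1 : MvPowerSeries (Fin 2) k) ^ 2) = 0 := by simp

lemma X1_notMem_span_ysq :
    (X 1 : MvPowerSeries (Fin 2) k) ∉ Ideal.span {(X 1 : MvPowerSeries (Fin 2) k) ^ 2} := by
  intro h
  have hle : Ideal.span {(X 1 : MvPowerSeries (Fin 2) k) ^ 2} ≤ Oj k 2 := by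
    rw [Ideal.span_le, Set.singleton_subset_iff]
    exact (mem_Oj k 2 _).mpr (by exact_mod_cast ysq_order)
  have := (mem_Oj k 2 _).mp (hle h)
  exact not_two_le_order_of_c2 (X 1 : MvPowerSeries (Fin 2) k) (by rw [c2_X1]; simp) (by exact_mod_cast this)

theorem data_of_equiv (F : MvPowerSeries (Fin 2) k)
    (e : (MvPowerSeries (Fin 2) k ⧸ Ideal.span {F}) ≃ₐ[k]
      (MvPowerSeries (Fin 2) k ⧸ Ideal.span ({X 1 ^ 2} : Set (MvPowerSeries (Fin 2) k)))) :
    ∃ G : MvPowerSeries (Fin 2) k, c2 k G 0 0 = 0 ∧ (c2 k G 0 1 ≠ 0 ∨ c2 k G 1 0 ≠ 0) ∧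
      G ^ 2 ∈ Ideal.span {F} ∧ G ∉ Ideal.span {F} ∧
      (Ideal.span {G} ⊔ Ideal.span {F}).IsPrime ∧
      ∃ z : MvPowerSeries (Fin 2) k, constantCoeff z = 0 ∧ z ∉ Ideal.span {G} ⊔ Ideal.span {F} := by
  set Y2 : MvPowerSeries (Fin 2) k := X 1 ^ 2 with hY2
  set ψ : (MvPowerSeries (Fin 2) k ⧸ Ideal.span {Y2}) ≃+*
      (MvPowerSeries (Fin 2) k ⧸ Ideal.span {F}) := e.symm.toRingEquiv with hψ
  set yb : MvPowerSeries (Fin 2) k ⧸ Ideal.span {Y2} := Ideal.Quotient.mk _ (X 1) with hyb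
  set xb : MvPowerSeries (Fin 2) k ⧸ Ideal.span {Y2} := Ideal.Quotient.mk _ (X 0) with hxb
  have hyb2 : yb ^ 2 = 0 := by
    rw [hyb, ← map_pow, Ideal.Quotient.eq_zero_iff_mem]
    exact Ideal.subset_span rfl
  have hyb0 : yb ≠ 0 := by
    rw [hyb, Ne, Ideal.Quotient.eq_zero_iff_mem]
    exact X1_notMem_span_ysq
  have hybNU : yb ∈ NU (MvPowerSeries (Fin 2) k ⧸ Ideal.span {Y2}) :=
    (mk_mem_NU_iff ysq_cc _).mpr (by simp)
  have hxbNU : xb ∈ NU (MvPowerSeries (Fin 2) k ⧸ Ideal.span {Y2}) :=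
    (mk_mem_NU_iff ysq_cc _).mpr (by simp)
  have hybNU2 : yb ∉ NU (MvPowerSeries (Fin 2) k ⧸ Ideal.span {Y2}) ^ 2 := by
    intro h
    have := order_of_mk_mem 2 (by exact_mod_cast ysq_order) ysq_cc _ h
    exact not_two_le_order_of_c2 (X 1 : MvPowerSeries (Fin 2) k) (by rw [c2_X1]; simp) (by exact_mod_cast this)
  -- the prime ideal generated by the class of `y`
  have hker : RingHom.ker (Ideal.Quotient.mk (Ideal.span {Y2})) ≤
      Ideal.span {(X 1 : MvPowerSeries (Fin 2) k)} := by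
    rw [Ideal.mk_ker, Ideal.span_le, Set.singleton_subset_iff]
    exact Ideal.mem_span_singleton.mpr (dvd_pow_self _ two_ne_zero)
  haveI hX1p : (Ideal.span {(X 1 : MvPowerSeries (Fin 2) k)}).IsPrime :=
    (Ideal.span_singleton_prime X1_prime.ne_zero).mpr X1_prime
  have hPprime : (Ideal.span {yb}).IsPrime := by
    have := Ideal.map_isPrime_of_surjective (f := Ideal.Quotient.mk (Ideal.span {Y2}))
      Ideal.Quotient.mk_surjective hker
    rwa [Ideal.map_span, Set.image_singleton] at this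
  have hxbP : xb ∉ Ideal.span {yb} := by
    intro h
    have h' : xb ∈ Ideal.map (Ideal.Quotient.mk (Ideal.span {Y2}))
        (Ideal.span {(X 1 : MvPowerSeries (Fin 2) k)}) := by
      rwa [Ideal.map_span, Set.image_singleton]
    rw [hxb, Ideal.mem_quotient_iff_mem_sup] at h'
    have hle : Ideal.span {(X 1 : MvPowerSeries (Fin 2) k)} ⊔ Ideal.span {Y2} ≤
        Ideal.span {(X 1 : MvPowerSeries (Fin 2) k)} := by
      refine sup_le le_rfl ?_
      rw [← Ideal.mk_ker (I := Ideal.span {Y2})]; exact hker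
    exact X0_notMem_span_X1 (hle h')
  -- transport
  obtain ⟨G, hG⟩ := Ideal.Quotient.mk_surjective (ψ yb)
  obtain ⟨z, hz⟩ := Ideal.Quotient.mk_surjective (ψ xb)
  have hGne : Ideal.Quotient.mk (Ideal.span {F}) G ≠ 0 := by
    rw [hG]; exact (map_ne_zero_iff ψ ψ.injective).mpr hyb0
  have hGF : G ∉ Ideal.span {F} := by
    rwa [Ne, Ideal.Quotient.eq_zero_iff_mem] at hGne
  have hF0 : constantCoeff F = 0 := by
    by_contra hne
    have hu : IsUnit F := MvPowerSeries.isUnit_iff_constantCoeff.mpr (isUnit_iff_ne_zero.mpr hne)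
    apply hGF
    rw [Ideal.span_singleton_eq_top.mpr hu]
    trivial
  have hG2 : G ^ 2 ∈ Ideal.span {F} := by
    rw [← Ideal.Quotient.eq_zero_iff_mem, map_pow, hG, ← map_pow, hyb2, map_zero]
  have hGNU : Ideal.Quotient.mk (Ideal.span {F}) G ∈
      NU (MvPowerSeries (Fin 2) k ⧸ Ideal.span {F}) := by
    have := (mem_NU_pow_iff ψ 1 yb).mpr (by simpa using hybNU)
    rw [hG]; simpa using this
  have hzNU : Ideal.Quotient.mk (Ideal.span {F}) z ∈
      NU (MvPowerSeries (Fin 2) k ⧸ Ideal.span {F}) := by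
    have := (mem_NU_pow_iff ψ 1 xb).mpr (by simpa using hxbNU)
    rw [hz]; simpa using this
  have hGNU2 : Ideal.Quotient.mk (Ideal.span {F}) G ∉
      NU (MvPowerSeries (Fin 2) k ⧸ Ideal.span {F}) ^ 2 := by
    rw [hG, mem_NU_pow_iff ψ 2 yb]; exact hybNU2
  have hG0 : constantCoeff G = 0 := (mk_mem_NU_iff hF0 G).mp hGNU
  have hz0 : constantCoeff z = 0 := (mk_mem_NU_iff hF0 z).mp hzNU
  have hGord : ¬ (2 : ℕ∞) ≤ G.order := by
    intro h
    apply hGNU2
    rw [mk_mem_NU_pow_iff hF0]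
    exact Ideal.mem_sup_left (mem_Mi_sq k G h)
  have hlin : c2 k G 0 1 ≠ 0 ∨ c2 k G 1 0 ≠ 0 := by
    by_contra hcon
    push Not at hcon
    apply hGord
    have := le_order_of_c2 k G 2 (by
      intro a b hab
      have ha : a < 2 := by omega
      have hb : b < 2 := by omega
      interval_cases a <;> interval_cases b
      · rw [c2_zero_zero]; exact hG0
      · exact hcon.1
      · exact hcon.2
      · omega)
    exact_mod_cast this
  -- the prime ideal
  have hP' : (Ideal.span {Ideal.Quotient.mk (Ideal.span {F}) G}).IsPrime := by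
    have := Ideal.map_isPrime_of_equiv (I := Ideal.span {yb}) ψ
    rwa [Ideal.map_span, Set.image_singleton, ← hG] at this
  have hcomap : Ideal.comap (Ideal.Quotient.mk (Ideal.span {F}))
      (Ideal.span {Ideal.Quotient.mk (Ideal.span {F}) G}) = Ideal.span {G} ⊔ Ideal.span {F} := by
    have : Ideal.span {Ideal.Quotient.mk (Ideal.span {F}) G} =
        Ideal.map (Ideal.Quotient.mk (Ideal.span {F})) (Ideal.span {G}) := by
      rw [Ideal.map_span, Set.image_singleton]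
    rw [this, Ideal.comap_map_of_surjective _ Ideal.Quotient.mk_surjective,
      ← RingHom.ker_eq_comap_bot, Ideal.mk_ker]
  refine ⟨G, by rw [c2_zero_zero]; exact hG0, hlin, hG2, hGF, ?_, z, hz0, ?_⟩
  · rw [← hcomap]
    exact Ideal.comap_isPrime _ _
  · rw [← hcomap, Ideal.mem_comap, hz, hG]
    intro hmem
    apply hxbP
    have h2 : ψ xb ∈ Ideal.map ψ (Ideal.span {yb}) := by
      rwa [Ideal.map_span, Set.image_singleton]
    obtain ⟨w, hw, hwe⟩ := (Ideal.mem_map_of_equiv ψ _).mp h2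
    rwa [← ψ.injective hwe]

end FromEquiv

/-- Step A: a formal isomorphism with `k[[x,y]]/(y²)` forces `F = U·G²`. -/
theorem exists_unit_mul_sq_of_equiv (F : MvPowerSeries (Fin 2) k)
    (e : (MvPowerSeries (Fin 2) k ⧸ Ideal.span {F}) ≃ₐ[k]
      (MvPowerSeries (Fin 2) k ⧸ Ideal.span ({X 1 ^ 2} : Set (MvPowerSeries (Fin 2) k)))) :
    ∃ U G : MvPowerSeries (Fin 2) k, IsUnit U ∧ F = U * G ^ 2 ∧ c2 k G 0 0 = 0 ∧
      (c2 k G 0 1 ≠ 0 ∨ c2 k G 1 0 ≠ 0) := by
  obtain ⟨G, hG0, hlin, h1, h2, hprime, z, hz0, hz⟩ := data_of_equiv F e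
  by_cases h01 : c2 k G 0 1 ≠ 0
  · obtain ⟨U, hU, hF⟩ := unit_mul_sq_of_data F G hG0 h01 h1 h2 hprime ⟨z, hz0, hz⟩
    exact ⟨U, G, hU, hF, hG0, hlin⟩
  · have h10 : c2 k G 1 0 ≠ 0 := hlin.resolve_left h01
    -- apply the swap
    have hmapspan : ∀ Z : MvPowerSeries (Fin 2) k,
        Ideal.map (sw k : MvPowerSeries (Fin 2) k →+* MvPowerSeries (Fin 2) k) (Ideal.span {Z}) =
          Ideal.span {sw k Z} := by
      intro Z; rw [Ideal.map_span, Set.image_singleton]; rfl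
    have hmem : ∀ (Z : MvPowerSeries (Fin 2) k) (J : Ideal (MvPowerSeries (Fin 2) k)),
        sw k Z ∈ Ideal.map (sw k : MvPowerSeries (Fin 2) k →+* MvPowerSeries (Fin 2) k) J ↔
          Z ∈ J := by
      intro Z J
      constructor
      · intro h
        obtain ⟨w, hw, hwe⟩ := (Ideal.mem_map_of_equiv (sw k) _).mp h
        rwa [← (sw k).injective hwe]
      · exact fun h => Ideal.mem_map_of_mem _ h
    obtain ⟨U, hU, hF⟩ := unit_mul_sq_of_data (sw k F) (sw k G)
      (by rw [c2_sw]; exact hG0) (by rw [c2_sw]; exact h10)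
      (by rw [← map_pow, ← hmapspan, hmem]; exact h1)
      (by rw [← hmapspan, hmem]; exact h2)
      (by
        rw [← hmapspan, ← hmapspan, ← Ideal.map_sup]
        exact Ideal.map_isPrime_of_equiv (sw k))
      ⟨sw k z, by
        rw [← c2_zero_zero, c2_sw, c2_zero_zero]; exact hz0, by
        rw [← hmapspan, ← hmapspan, ← Ideal.map_sup, hmem]; exact hz⟩
    refine ⟨(sw k).symm U, G, hU.map (sw k).symm, ?_, hG0, hlin⟩
    apply (sw k).injective
    rw [hF, map_mul, map_pow, AlgEquiv.apply_symm_apply]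

end Groth.Agent.Lib.Helper8.AR
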