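import Mathlib
import Groth.Agent.Lib.Helper8.AR19
set_option backward.isDefEq.respectTransparency.types false
set_option autoImplicit false
set_option linter.unusedSectionVars false
set_option linter.style.haveILetI false

namespace Groth.Agent.Lib.Helper8.AR

universe u

open MvPowerSeries

variable {k : Type u} [Field k]

/-- the point `(x, -b(x))` -/
noncomputable def epsPt (b : MvPowerSeries (Fin 1) k) : Fin 2 → MvPowerSeries (Fin 1) k :=
  ![X 0, -b]

lemma hasSubst_epsPt (b : MvPowerSeries (Fin 1) k) (hb : constantCoeff b = 0) :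
    HasSubst (epsPt b) := by
  apply hasSubst_of_constantCoeff_zero
  intro i
  fin_cases i
  · simp [epsPt]
  · simp [epsPt, hb]

/-- substitution `y ↦ -b(x)` -/
noncomputable def eps (b : MvPowerSeries (Fin 1) k) (hb : constantCoeff b = 0) :
    MvPowerSeries (Fin 2) k →ₐ[k] MvPowerSeries (Fin 1) k :=
  substAlgHom (hasSubst_epsPt b hb)

variable (b : MvPowerSeries (Fin 1) k) (hb : constantCoeff b = 0)

lemma eps_X0 : eps b hb (X 0) = X 0 := by
  rw [eps, substAlgHom_X]; rfl

lemma eps_X1 : eps b hb (X 1) = -b := by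
  rw [eps, substAlgHom_X]; rfl

lemma A1_sep (z : MvPowerSeries (Fin 1) k)
    (h : ∀ n : ℕ, (X 0 : MvPowerSeries (Fin 1) k) ^ n ∣ z) : z = 0 := by
  by_contra hz
  obtain ⟨n, v, vi, hzv, hv⟩ := A1_order_form z hz
  obtain ⟨w, hw⟩ := h (n + 1)
  have hX0 : (X 0 : MvPowerSeries (Fin 1) k) ^ n ≠ 0 := by
    apply pow_ne_zero
    intro h0
    have := congrArg (MvPowerSeries.coeff (Finsupp.single 0 1)) h0
    simp [MvPowerSeries.coeff_X] at this
  have : v = X 0 * w := by
    apply mul_left_cancel₀ hX0
    rw [← hzv, hw]; ring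
  have h1 : constantCoeff (v * vi) = 1 := by rw [hv]; simp
  rw [this] at h1
  simp at h1

lemma eps_iota2 (c : MvPowerSeries (Fin 1) k) : eps b hb (iota2 k c) = c := by
  have h := algHom_eq_of_X
    ((((eps b hb).comp (iota2 k)).comp (iota1 k : PowerSeries k →ₐ[k] MvPowerSeries (Fin 1) k)))
    ((iota1 k : PowerSeries k →ₐ[k] MvPowerSeries (Fin 1) k)) (X 0)
    (by
      change eps b hb (iota2 k (iota1 k PowerSeries.X)) = X 0
      rw [iota1_X, iota2_X, eps_X0])
    (by change iota1 k PowerSeries.X = X 0; rw [iota1_X]) A1_sep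
  obtain ⟨c', rfl⟩ := (iota1 k).surjective c
  have := DFunLike.congr_fun h c'
  simpa using this

lemma eps_lin : eps b hb (X 1 + iota2 k b) = 0 := by
  rw [map_add, eps_X1, eps_iota2]; ring

lemma eps_eq_zero_iff (Z : MvPowerSeries (Fin 2) k) :
    eps b hb Z = 0 ↔ (X 1 + iota2 k b) ∣ Z := by
  constructor
  · intro h
    obtain ⟨Q, r, hZ⟩ := exists_div_lin b hb Z
    have h1 : eps b hb Z = r := by
      rw [hZ, map_add, map_mul, eps_lin, zero_mul, zero_add, eps_iota2]
    rw [h] at h1
    rw [hZ, ← h1, map_zero, add_zero]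
    exact dvd_mul_right _ _
  · rintro ⟨Q, rfl⟩
    rw [map_mul, eps_lin, zero_mul]

/-- evaluation of polynomials at `(x, -b(x))` -/
noncomputable def evp : MvPolynomial (Fin 2) k →ₐ[k] MvPowerSeries (Fin 1) k :=
  (eps b hb).comp (MvPolynomial.coeToMvPowerSeries.algHom k)

lemma evp_apply (q : MvPolynomial (Fin 2) k) :
    evp b hb q = eps b hb (q : MvPowerSeries (Fin 2) k) := rfl

/-- `k[x] → k[x,y]` -/
noncomputable def iotaD : MvPolynomial (Fin 1) k →ₐ[k] MvPolynomial (Fin 2) k :=
  MvPolynomial.rename (fun _ => (0 : Fin 2))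

lemma evp_iotaD (d : MvPolynomial (Fin 1) k) :
    evp b hb (iotaD d) = (d : MvPowerSeries (Fin 1) k) := by
  have h : (evp b hb).comp iotaD = MvPolynomial.coeToMvPowerSeries.algHom k := by
    apply MvPolynomial.algHom_ext
    intro i
    have hi : i = 0 := Subsingleton.elim _ _
    subst hi
    simp only [AlgHom.comp_apply, iotaD, MvPolynomial.rename_X, evp_apply,
      MvPolynomial.coe_X, eps_X0, MvPolynomial.coeToMvPowerSeries.algHom_apply]
    simp
  exact DFunLike.congr_fun h d

/-- `k[x,y] ≃ k[x][Y]` -/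
noncomputable def tau : MvPolynomial (Fin 2) k ≃ₐ[k] Polynomial (MvPolynomial (Fin 1) k) :=
  (MvPolynomial.renameEquiv k (Equiv.swap (0 : Fin 2) 1)).trans (MvPolynomial.finSuccEquiv k 1)

lemma tau_iotaD (d : MvPolynomial (Fin 1) k) : tau (iotaD d) = Polynomial.C d := by
  have h : ((tau : MvPolynomial (Fin 2) k ≃ₐ[k] Polynomial (MvPolynomial (Fin 1) k)) :
      MvPolynomial (Fin 2) k →ₐ[k] _).comp iotaD =
      (Algebra.ofId (MvPolynomial (Fin 1) k) (Polynomial (MvPolynomial (Fin 1) k))).restrictScalars k := by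
    apply MvPolynomial.algHom_ext
    intro i
    have hi : i = 0 := Subsingleton.elim _ _
    subst hi
    have h01 : (Equiv.swap (0 : Fin 2) 1) 0 = (0 : Fin 1).succ := by simp
    simp only [AlgHom.comp_apply, iotaD, MvPolynomial.rename_X, tau, AlgEquiv.coe_toAlgHom,
      AlgEquiv.trans_apply, MvPolynomial.renameEquiv_apply, h01,
      MvPolynomial.finSuccEquiv_X_succ]
    rfl
  exact DFunLike.congr_fun h d


lemma evp_tau_symm_C (d : MvPolynomial (Fin 1) k) :
    evp b hb (tau.symm (Polynomial.C d)) = (d : MvPowerSeries (Fin 1) k) := by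
  rw [← tau_iotaD, AlgEquiv.symm_apply_apply, evp_iotaD]

open Polynomial in
/-- Lemma K': the kernel of `evp` is generated by any irreducible element in it. -/
theorem dvd_of_evp (p q : MvPolynomial (Fin 2) k) (hp : Irreducible p)
    (hp0 : evp b hb p = 0) (hq0 : evp b hb q = 0) : p ∣ q := by
  set P := tau p with hP
  set Q := tau q with hQ
  have hPirr : Irreducible P := (MulEquiv.irreducible_iff tau).mpr hp
  have hdeg : P.natDegree ≠ 0 := by
    intro h
    have hPC : P = Polynomial.C (P.coeff 0) := Polynomial.eq_C_of_natDegree_eq_zero h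
    have hpd : p = tau.symm (Polynomial.C (P.coeff 0)) := by
      rw [← hPC, hP, AlgEquiv.symm_apply_apply]
    rw [hpd, evp_tau_symm_C] at hp0
    have hd0 : P.coeff 0 = 0 := by
      apply MvPolynomial.coe_injective
      rw [hp0]; simp
    rw [hd0, map_zero] at hPC
    exact hPirr.ne_zero hPC
  have hprim : P.IsPrimitive := hPirr.isPrimitive hdeg
  by_contra hnd
  have hnd' : ¬ P ∣ Q := fun h => hnd ((map_dvd_iff tau).mp h)
  set K := FractionRing (MvPolynomial (Fin 1) k) with hK
  have hPK : Irreducible (P.map (algebraMap (MvPolynomial (Fin 1) k) K)) :=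
    (hprim.irreducible_iff_irreducible_map_fraction_map).mp hPirr
  have hndK : ¬ P.map (algebraMap (MvPolynomial (Fin 1) k) K) ∣
      Q.map (algebraMap (MvPolynomial (Fin 1) k) K) :=
    fun h => hnd' (hprim.dvd_of_fraction_map_dvd_fraction_map h)
  obtain ⟨A, B, hAB⟩ := (hPK.isCoprime_or_dvd (Q.map (algebraMap _ K))).resolve_right hndK
  obtain ⟨a, ha⟩ := IsLocalization.integerNormalization_map_to_map
    (nonZeroDivisors (MvPolynomial (Fin 1) k)) A
  obtain ⟨c, hc⟩ := IsLocalization.integerNormalization_map_to_map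
    (nonZeroDivisors (MvPolynomial (Fin 1) k)) B
  set A' := IsLocalization.integerNormalization (nonZeroDivisors (MvPolynomial (Fin 1) k)) A
  set B' := IsLocalization.integerNormalization (nonZeroDivisors (MvPolynomial (Fin 1) k)) B
  have hinj : Function.Injective (Polynomial.map (algebraMap (MvPolynomial (Fin 1) k) K)) :=
    Polynomial.map_injective _ (IsFractionRing.injective _ _)
  have heq : Polynomial.C (c : MvPolynomial (Fin 1) k) * A' * P +
      Polynomial.C (a : MvPolynomial (Fin 1) k) * B' * Q =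
      Polynomial.C ((a : MvPolynomial (Fin 1) k) * c) := by
    apply hinj
    simp only [Polynomial.map_add, Polynomial.map_mul, Polynomial.map_C, ha, hc]
    rw [Algebra.smul_def, Algebra.smul_def]
    simp only [Polynomial.algebraMap_apply, Polynomial.map_C, map_mul]
    have : (Polynomial.C ((algebraMap (MvPolynomial (Fin 1) k) K) ↑c) *
        (Polynomial.C ((algebraMap (MvPolynomial (Fin 1) k) K) ↑a) * A) *
        Polynomial.map (algebraMap (MvPolynomial (Fin 1) k) K) P +
      Polynomial.C ((algebraMap (MvPolynomial (Fin 1) k) K) ↑a) *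
        (Polynomial.C ((algebraMap (MvPolynomial (Fin 1) k) K) ↑c) * B) *
        Polynomial.map (algebraMap (MvPolynomial (Fin 1) k) K) Q) =
      Polynomial.C ((algebraMap (MvPolynomial (Fin 1) k) K) ↑a) *
        Polynomial.C ((algebraMap (MvPolynomial (Fin 1) k) K) ↑c) *
        (A * Polynomial.map (algebraMap (MvPolynomial (Fin 1) k) K) P +
         B * Polynomial.map (algebraMap (MvPolynomial (Fin 1) k) K) Q) := by ring
    rw [this, hAB, mul_one]
  have h1 := congrArg (fun z => evp b hb (tau.symm z)) heq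
  simp only [map_add, map_mul, hP, hQ, AlgEquiv.symm_apply_apply, hp0, hq0, mul_zero,
    add_zero, evp_tau_symm_C] at h1
  have hac : (a : MvPolynomial (Fin 1) k) * c = 0 := by
    apply MvPolynomial.coe_injective
    rw [MvPolynomial.coe_mul]
    rw [← h1]; simp
  rcases mul_eq_zero.mp hac with h | h
  · exact nonZeroDivisors.coe_ne_zero a h
  · exact nonZeroDivisors.coe_ne_zero c h

end Groth.Agent.Lib.Helper8.AR
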