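import Mathlib
import Groth.Agent.Lib.Helper8.AR20
set_option backward.isDefEq.respectTransparency.types false
set_option autoImplicit false
set_option linter.unusedSectionVars false
set_option linter.style.haveILetI false

namespace Groth.Agent.Lib.Helper8.AR

universe u

open MvPowerSeries

variable {k : Type u} [Field k]

section Poly

open MvPolynomial

theorem pderiv_eq_zero_of_dvd {σ : Type*} (p : MvPolynomial σ k) (i : σ)
    (h : p ∣ MvPolynomial.pderiv i p) : MvPolynomial.pderiv i p = 0 := by
  classical
  by_contra hne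
  obtain ⟨c, hc⟩ := h
  have hp0 : p ≠ 0 := by
    rintro rfl; simp at hne
  have hc0 : c ≠ 0 := by
    rintro rfl; rw [mul_zero] at hc; exact hne hc
  have hdeg : degreeOf i (MvPolynomial.pderiv i p) = degreeOf i p + degreeOf i c := by
    rw [hc]; exact degreeOf_mul_eq hp0 hc0
  have hmem : ∀ m ∈ (MvPolynomial.pderiv i p).support, m + Finsupp.single i 1 ∈ p.support := by
    intro m hm
    rw [MvPolynomial.mem_support_iff, MvPolynomial.coeff_pderiv] at hm
    rw [MvPolynomial.mem_support_iff]
    intro h0
    rw [h0, zero_mul] at hm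
    exact hm rfl
  have hpos : 0 < degreeOf i p := by
    obtain ⟨m, hm⟩ := MvPolynomial.support_nonempty.mpr hne
    have := monomial_le_degreeOf i (hmem m hm)
    simp only [Finsupp.add_apply, Finsupp.single_eq_same] at this
    omega
  have hlt : degreeOf i (MvPolynomial.pderiv i p) < degreeOf i p := by
    rw [degreeOf_lt_iff hpos]
    intro m hm
    have := monomial_le_degreeOf i (hmem m hm)
    simp only [Finsupp.add_apply, Finsupp.single_eq_same] at this
    omega
  omega

theorem support_dvd_of_pderiv_eq_zero {σ : Type*} (ℓ : ℕ) [CharP k ℓ] (p : MvPolynomial σ k)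
    (h : ∀ i, MvPolynomial.pderiv i p = 0) (m : σ →₀ ℕ) (hm : m ∈ p.support) (i : σ) :
    ℓ ∣ m i := by
  classical
  by_cases hmi : m i = 0
  · rw [hmi]; exact dvd_zero _
  have hm' : m = (m - Finsupp.single i 1) + Finsupp.single i 1 := by
    ext j
    by_cases hj : j = i
    · subst hj
      simp only [Finsupp.add_apply, Finsupp.tsub_apply, Finsupp.single_eq_same]
      omega
    · simp [Finsupp.single_eq_of_ne hj]
  have h1 := congrArg (MvPolynomial.coeff (m - Finsupp.single i 1)) (h i)
  rw [MvPolynomial.coeff_pderiv, ← hm', MvPolynomial.coeff_zero] at h1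
  rw [MvPolynomial.mem_support_iff] at hm
  have h2 : ((((m - Finsupp.single i 1 : σ →₀ ℕ) i : ℕ)) : k) + 1 = 0 :=
    (mul_eq_zero.mp h1).resolve_left hm
  have h3 : ((m i : ℕ) : k) = 0 := by
    have : m i = (m - Finsupp.single i 1 : σ →₀ ℕ) i + 1 := by
      simp only [Finsupp.tsub_apply, Finsupp.single_eq_same]; omega
    rw [this]; push_cast; exact h2
  exact (CharP.cast_eq_zero_iff k ℓ _).mp h3

theorem not_irreducible_of_pderiv_eq_zero [IsAlgClosed k] {σ : Type*} (p : MvPolynomial σ k)
    (h : ∀ i, MvPolynomial.pderiv i p = 0) : ¬ Irreducible p := by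
  classical
  intro hirr
  set ℓ := ringChar k with hℓ
  haveI : CharP k ℓ := ringChar.charP k
  have hsupp := support_dvd_of_pderiv_eq_zero ℓ p h
  rcases CharP.char_is_prime_or_zero k ℓ with hprime | h0
  · haveI : ExpChar (MvPolynomial σ k) ℓ := by
      haveI : CharP (MvPolynomial σ k) ℓ := inferInstance
      exact ExpChar.prime hprime
    have hℓpos : 0 < ℓ := hprime.pos
    choose r hr using fun m : σ →₀ ℕ => IsAlgClosed.exists_pow_nat_eq (MvPolynomial.coeff m p) hℓpos
    set q : MvPolynomial σ k := ∑ m ∈ p.support,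
      MvPolynomial.monomial (m.mapRange (· / ℓ) (by simp)) (r m) with hq
    have hqp : q ^ ℓ = p := by
      rw [hq, sum_pow_char]
      conv_rhs => rw [← MvPolynomial.support_sum_monomial_coeff p]
      apply Finset.sum_congr rfl
      intro m hm
      rw [MvPolynomial.monomial_pow, hr]
      have hm2 : ℓ • Finsupp.mapRange (· / ℓ) (by simp) m = m := by
        ext i
        simp only [Finsupp.smul_apply, Finsupp.mapRange_apply, smul_eq_mul]
        exact Nat.mul_div_cancel' (hsupp m hm i)
      rw [hm2]
    rw [← hqp] at hirr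
    exact not_irreducible_pow hprime.ne_one hirr
  · have hC : p = MvPolynomial.C (MvPolynomial.coeff 0 p) := by
      ext m
      by_cases hm : m = 0
      · subst hm; simp
      · rw [MvPolynomial.coeff_C, if_neg (Ne.symm hm)]
        by_contra hne
        have hmem : m ∈ p.support := MvPolynomial.mem_support_iff.mpr hne
        apply hm
        ext i
        have := hsupp m hmem i
        rw [h0] at this
        simpa using this
    by_cases hc : MvPolynomial.coeff 0 p = 0
    · rw [hc, map_zero] at hC
      exact hirr.ne_zero hC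
    · apply hirr.not_isUnit
      rw [hC]
      exact (isUnit_iff_ne_zero.mpr hc).map MvPolynomial.C

end Poly

variable (b : MvPowerSeries (Fin 1) k) (hb : constantCoeff b = 0)

theorem not_sq_dvd_of_irreducible [IsAlgClosed k] (p : MvPolynomial (Fin 2) k)
    (hp : Irreducible p) (hp0 : evp b hb p = 0) (Q : MvPowerSeries (Fin 2) k)
    (hQ : (p : MvPowerSeries (Fin 2) k) = (X 1 + iota2 k b) ^ 2 * Q) : False := by
  apply not_irreducible_of_pderiv_eq_zero p _ hp
  intro i
  apply pderiv_eq_zero_of_dvd
  apply dvd_of_evp b hb p _ hp hp0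
  rw [evp_apply, ← MvPowerSeries.pderiv_coe, hQ, eps_eq_zero_iff]
  set G₁ : MvPowerSeries (Fin 2) k := X 1 + iota2 k b
  rw [pow_two, Derivation.leibniz, Derivation.leibniz]
  simp only [smul_eq_mul]
  refine ⟨G₁ * MvPowerSeries.pderiv k i Q + Q * (MvPowerSeries.pderiv k i G₁ +
    MvPowerSeries.pderiv k i G₁), ?_⟩
  ring

end Groth.Agent.Lib.Helper8.AR
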