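import Mathlib
import Groth.Agent.Lib.Helper8.AR21
set_option backward.isDefEq.respectTransparency.types false
set_option autoImplicit false
set_option linter.unusedSectionVars false
set_option linter.style.haveILetI false

namespace Groth.Agent.Lib.Helper8.AR

universe u

open MvPowerSeries

variable {k : Type u} [Field k]

/-- extraction of the linear Weierstrass factor -/
lemma exists_lin_of_c01 (G : MvPowerSeries (Fin 2) k) (hG0 : c2 k G 0 0 = 0)
    (h01 : c2 k G 0 1 ≠ 0) :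
    ∃ (b : MvPowerSeries (Fin 1) k) (H Hi : MvPowerSeries (Fin 2) k),
      constantCoeff b = 0 ∧ H * Hi = 1 ∧ G = (X 1 + iota2 k b) * H := by
  obtain ⟨W, h, hW, hh, hG, hdeg⟩ := exists_weierstrass G 1 h01 (by
    intro i hi; interval_cases i; exact hG0)
  have hWeq := monic_deg_one W hW.monic hdeg
  have hb0 : constantCoeff (W.coeff 0) = 0 :=
    I1_le_ker k (hW.mem (by rw [hdeg]; norm_num))
  obtain ⟨hu, rfl⟩ := hh
  refine ⟨W.coeff 0, (Phi k).symm (hu : PowerSeries (MvPowerSeries (Fin 1) k)),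
    (Phi k).symm ((hu⁻¹ : (PowerSeries (MvPowerSeries (Fin 1) k))ˣ) :
      PowerSeries (MvPowerSeries (Fin 1) k)), hb0, ?_, ?_⟩
  · rw [← map_mul, Units.mul_inv, map_one]
  · apply (Phi k).injective
    rw [hG, map_mul, AlgEquiv.apply_symm_apply, map_add, Phi_X1, Phi_iota2, hWeq]
    simp

lemma c2_coe (q : MvPolynomial (Fin 2) k) (m n : ℕ) :
    c2 k (q : MvPowerSeries (Fin 2) k) m n =
      MvPolynomial.coeff (Finsupp.single 0 m + Finsupp.single 1 n) q := by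
  rw [c2, MvPolynomial.coeff_coe]

theorem algebraize_c01 [IsAlgClosed k] (q₀ : MvPolynomial (Fin 2) k)
    (U G : MvPowerSeries (Fin 2) k) (hU : IsUnit U)
    (hF : (q₀ : MvPowerSeries (Fin 2) k) = U * G ^ 2) (hG0 : c2 k G 0 0 = 0)
    (h01 : c2 k G 0 1 ≠ 0) :
    ∃ p h : MvPolynomial (Fin 2) k, q₀ = p ^ 2 * h ∧
      c2 k (h : MvPowerSeries (Fin 2) k) 0 0 ≠ 0 ∧
      c2 k (p : MvPowerSeries (Fin 2) k) 0 0 = 0 ∧
      c2 k (p : MvPowerSeries (Fin 2) k) 0 1 ≠ 0 := by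
  obtain ⟨b, H, Hi, hb, hHHi, hGG⟩ := exists_lin_of_c01 G hG0 h01
  set G₁ : MvPowerSeries (Fin 2) k := X 1 + iota2 k b with hG₁
  have hHu : IsUnit H := IsUnit.of_mul_eq_one Hi hHHi
  set U' : MvPowerSeries (Fin 2) k := U * H ^ 2 with hU'
  have hU'u : IsUnit U' := hU.mul (hHu.pow 2)
  have hF' : (q₀ : MvPowerSeries (Fin 2) k) = U' * G₁ ^ 2 := by
    rw [hF, hGG, hU']; ring
  have hεU' : eps b hb U' ≠ 0 := (hU'u.map (eps b hb)).ne_zero
  have hc01 : c2 k G₁ 0 1 = 1 := by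
    rw [hG₁, c2_add, c2_X1, c2_iota2_zero_one]; simp
  have hG₁ne : G₁ ≠ 0 := by
    intro h0
    rw [h0] at hc01
    simp [c2] at hc01
  have hG₁cc : constantCoeff G₁ = 0 := by
    rw [hG₁, map_add, constantCoeff_iota2, hb]; simp
  have hq₀ne : q₀ ≠ 0 := by
    intro h0
    rw [h0, MvPolynomial.coe_zero] at hF'
    have := hF'.symm
    rw [mul_eq_zero] at this
    rcases this with h | h
    · exact hU'u.ne_zero h
    · exact hG₁ne (pow_eq_zero_iff (two_ne_zero)|>.mp h)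
  have hevq : evp b hb q₀ = 0 := by
    rw [evp_apply, hF', map_mul, map_pow, eps_lin]; ring
  -- an irreducible factor in the kernel
  obtain ⟨p, hpirr, hp0⟩ : ∃ p : MvPolynomial (Fin 2) k, Irreducible p ∧ evp b hb p = 0 := by
    obtain ⟨fs, hfs, hassoc⟩ := UniqueFactorizationMonoid.exists_prime_factors q₀ hq₀ne
    obtain ⟨c, hc⟩ := hassoc.dvd'
    have h1 : evp b hb fs.prod = 0 := by
      rw [hc, map_mul, hevq, zero_mul]
    rw [map_multiset_prod, Multiset.prod_eq_zero_iff] at h1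
    obtain ⟨p, hp, hp0⟩ := Multiset.mem_map.mp h1
    exact ⟨p, (hfs p hp).irreducible, hp0⟩
  obtain ⟨e, ht, hnd, hq₀eq⟩ := WfDvdMonoid.max_power_factor hq₀ne hpirr
  have hht : evp b hb ht ≠ 0 := fun h => hnd (dvd_of_evp b hb p ht hpirr hp0 h)
  have hp0' : eps b hb (p : MvPowerSeries (Fin 2) k) = 0 := hp0
  obtain ⟨V, hV⟩ := (eps_eq_zero_iff b hb _).mp hp0'
  rw [← hG₁] at hV
  have hεV : eps b hb V ≠ 0 := by
    intro h
    obtain ⟨V', hV'⟩ := (eps_eq_zero_iff b hb _).mp h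
    rw [← hG₁] at hV'
    exact not_sq_dvd_of_irreducible b hb p hpirr hp0 V' (by rw [hV, hV', ← hG₁]; ring)
  set W : MvPowerSeries (Fin 2) k := V ^ e * (ht : MvPowerSeries (Fin 2) k) with hW
  have hmain : G₁ ^ e * W = U' * G₁ ^ 2 := by
    rw [← hF', hq₀eq, MvPolynomial.coe_mul, MvPolynomial.coe_pow, hV, hW, mul_pow]; ring
  have hεW : eps b hb W ≠ 0 := by
    rw [hW, map_mul, map_pow]
    exact mul_ne_zero (pow_ne_zero _ hεV) hht
  have he : e = 2 := by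
    rcases lt_trichotomy e 2 with h | h | h
    · exfalso
      have h2 : G₁ ^ 2 = G₁ ^ e * G₁ ^ (2 - e) := by
        rw [← pow_add]; congr 1; omega
      have h3 : G₁ ^ e * W = G₁ ^ e * (U' * G₁ ^ (2 - e)) := by
        rw [hmain, h2]; ring
      have hWeq := mul_left_cancel₀ (pow_ne_zero e hG₁ne) h3
      apply hεW
      rw [hWeq, map_mul, map_pow, eps_lin, zero_pow (by omega), mul_zero]
    · exact h
    · exfalso
      have h2 : G₁ ^ e = G₁ ^ 2 * G₁ ^ (e - 2) := by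
        rw [← pow_add]; congr 1; omega
      have h3 : G₁ ^ 2 * (G₁ ^ (e - 2) * W) = G₁ ^ 2 * U' := by
        rw [← mul_assoc, ← h2, hmain]; ring
      have hUeq := mul_left_cancel₀ (pow_ne_zero 2 hG₁ne) h3
      apply hεU'
      rw [← hUeq, map_mul, map_pow, eps_lin, zero_pow (by omega), zero_mul]
  subst he
  have hWU : W = U' := mul_left_cancel₀ (pow_ne_zero 2 hG₁ne) (by rw [hmain]; ring)
  have hWu : IsUnit (V ^ 2 * (ht : MvPowerSeries (Fin 2) k)) := by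
    rw [← hW, hWU]; exact hU'u
  have hVu : IsUnit V := (isUnit_pow_iff two_ne_zero).mp (isUnit_of_mul_isUnit_left hWu)
  have htu : IsUnit (ht : MvPowerSeries (Fin 2) k) := isUnit_of_mul_isUnit_right hWu
  refine ⟨p, ht, hq₀eq, ?_, ?_, ?_⟩
  · rw [c2_zero_zero]
    exact isUnit_iff_ne_zero.mp (MvPowerSeries.isUnit_iff_constantCoeff.mp htu)
  · rw [c2_zero_zero, hV, map_mul, hG₁cc, zero_mul]
  · rw [hV, c2_mul_zero_one k _ _ hG₁cc, hc01, one_mul]
    exact isUnit_iff_ne_zero.mp (MvPowerSeries.isUnit_iff_constantCoeff.mp hVu)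


lemma sw_coe (q : MvPolynomial (Fin 2) k) :
    sw k (q : MvPowerSeries (Fin 2) k) =
      ((MvPolynomial.rename (Equiv.swap (0 : Fin 2) 1) q : MvPolynomial (Fin 2) k) :
        MvPowerSeries (Fin 2) k) := by
  change MvPowerSeries.rename (Equiv.swap (0 : Fin 2) 1) (q : MvPowerSeries (Fin 2) k) = _
  rw [MvPowerSeries.rename_coe]

lemma rename_swap_swap (q : MvPolynomial (Fin 2) k) :
    MvPolynomial.rename (Equiv.swap (0 : Fin 2) 1)
      (MvPolynomial.rename (Equiv.swap (0 : Fin 2) 1) q) = q := by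
  rw [MvPolynomial.rename_rename]
  have : (⇑(Equiv.swap (0 : Fin 2) 1) ∘ ⇑(Equiv.swap (0 : Fin 2) 1)) = id := by
    funext i; simp
  rw [this, MvPolynomial.rename_id_apply]

theorem algebraize [IsAlgClosed k] (q₀ : MvPolynomial (Fin 2) k)
    (U G : MvPowerSeries (Fin 2) k) (hU : IsUnit U)
    (hF : (q₀ : MvPowerSeries (Fin 2) k) = U * G ^ 2) (hG0 : c2 k G 0 0 = 0)
    (hlin : c2 k G 0 1 ≠ 0 ∨ c2 k G 1 0 ≠ 0) :
    ∃ p h : MvPolynomial (Fin 2) k, q₀ = p ^ 2 * h ∧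
      c2 k (h : MvPowerSeries (Fin 2) k) 0 0 ≠ 0 ∧
      c2 k (p : MvPowerSeries (Fin 2) k) 0 0 = 0 ∧
      (c2 k (p : MvPowerSeries (Fin 2) k) 0 1 ≠ 0 ∨
        c2 k (p : MvPowerSeries (Fin 2) k) 1 0 ≠ 0) := by
  by_cases h01 : c2 k G 0 1 ≠ 0
  · obtain ⟨p, h, h1, h2, h3, h4⟩ := algebraize_c01 q₀ U G hU hF hG0 h01
    exact ⟨p, h, h1, h2, h3, Or.inl h4⟩
  · have h10 : c2 k G 1 0 ≠ 0 := hlin.resolve_left h01
    obtain ⟨p, h, h1, h2, h3, h4⟩ := algebraize_c01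
      (MvPolynomial.rename (Equiv.swap (0 : Fin 2) 1) q₀) (sw k U) (sw k G)
      (hU.map (sw k)) (by rw [← sw_coe, hF, map_mul, map_pow])
      (by rw [c2_sw]; exact hG0) (by rw [c2_sw]; exact h10)
    refine ⟨MvPolynomial.rename (Equiv.swap (0 : Fin 2) 1) p,
      MvPolynomial.rename (Equiv.swap (0 : Fin 2) 1) h, ?_, ?_, ?_, Or.inr ?_⟩
    · rw [← map_pow, ← map_mul, ← h1, rename_swap_swap]
    · rw [← sw_coe, c2_sw]; exact h2
    · rw [← sw_coe, c2_sw]; exact h3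
    · rw [← sw_coe, c2_sw]; exact h4

lemma Tr_Tr_neg (a : Fin 2 → k) (p : MvPolynomial (Fin 2) k) : Tr a (Tr (-a) p) = p := by
  have h : (Tr a).comp (Tr (-a)) = AlgHom.id k (MvPolynomial (Fin 2) k) := by
    apply MvPolynomial.algHom_ext
    intro i
    simp only [AlgHom.comp_apply, Tr_X, map_add, Tr_C, AlgHom.id_apply, Pi.neg_apply, map_neg]
    ring
  exact DFunLike.congr_fun h p

lemma Tr_neg_Tr (a : Fin 2 → k) (p : MvPolynomial (Fin 2) k) : Tr (-a) (Tr a p) = p := by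
  have := Tr_Tr_neg (-a) p
  rwa [neg_neg] at this

theorem main310 {k : Type u} [Field k] [IsAlgClosed k] (f : MvPolynomial (Fin 2) k)
    (a : Fin 2 → k) :
    Nonempty ((MvPowerSeries (Fin 2) k ⧸ Ideal.span
        ({(MvPolynomial.aeval (fun i : Fin 2 => MvPolynomial.X i + MvPolynomial.C (a i)) f).toMvPowerSeries} :
          Set (MvPowerSeries (Fin 2) k))) ≃ₐ[k]
      (MvPowerSeries (Fin 2) k ⧸ Ideal.span ({MvPowerSeries.X 1 ^ 2} : Set (MvPowerSeries (Fin 2) k)))) ↔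
    ∃ g h : MvPolynomial (Fin 2) k, f = g ^ 2 * h ∧ MvPolynomial.eval a h ≠ 0 ∧ MvPolynomial.eval a g = 0 ∧
      ∃ i : Fin 2, MvPolynomial.eval a (MvPolynomial.pderiv i g) ≠ 0 := by
  change Nonempty ((MvPowerSeries (Fin 2) k ⧸ Ideal.span
        ({((Tr a f : MvPolynomial (Fin 2) k) : MvPowerSeries (Fin 2) k)} :
          Set (MvPowerSeries (Fin 2) k))) ≃ₐ[k]
      (MvPowerSeries (Fin 2) k ⧸ Ideal.span ({MvPowerSeries.X 1 ^ 2} : Set (MvPowerSeries (Fin 2) k)))) ↔ _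
  constructor
  · rintro ⟨e⟩
    obtain ⟨U, G, hU, hF, hG0, hlin⟩ := exists_unit_mul_sq_of_equiv _ e
    obtain ⟨p, h, hq, hh, hp0, hp1⟩ := algebraize (Tr a f) U G hU hF hG0 hlin
    refine ⟨Tr (-a) p, Tr (-a) h, ?_, ?_, ?_, ?_⟩
    · rw [← map_pow, ← map_mul, ← hq, Tr_neg_Tr]
    · rw [← c2_Tr_00, Tr_Tr_neg]; exact hh
    · rw [← c2_Tr_00, Tr_Tr_neg]; exact hp0
    · rcases hp1 with h1 | h1
      · refine ⟨1, ?_⟩
        rw [← c2_Tr_01, Tr_Tr_neg]; exact h1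
      · refine ⟨0, ?_⟩
        rw [← c2_Tr_10, Tr_Tr_neg]; exact h1
  · rintro ⟨g, h, hf, hh, hg, hd⟩
    exact equiv_ysq_of_factorization f g h a hf hh hg hd

end Groth.Agent.Lib.Helper8.AR
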