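import Groth.Agent.Lib.Helper8.WildPS2

set_option autoImplicit false
set_option backward.isDefEq.respectTransparency.types false
set_option linter.unusedSectionVars false

namespace Groth.Agent.Lib.Helper8.ASCov

open PowerSeries
open Groth.Agent.Lib.Helper8.WildPS

variable {k : Type*} [Field k]

/-- A power series `w` with `w^n = 1`, constant term `1` and `n` invertible is `1`. -/
theorem eq_one_of_pow_eq_one {w : PowerSeries k} {n : ℕ} (hn : ((n : ℕ) : k) ≠ 0)
    (hw0 : constantCoeff w = 1) (hwn : w ^ n = 1) : w = 1 := by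
  have h1 := geom_sum_mul w n
  rw [hwn, sub_self] at h1
  have hunit : IsUnit (∑ i ∈ Finset.range n, w ^ i) := by
    rw [isUnit_iff_constantCoeff, map_sum]
    simp only [map_pow, hw0, one_pow, Finset.sum_const, Finset.card_range, nsmul_eq_mul, mul_one]
    exact isUnit_iff_ne_zero.mpr hn
  have := (hunit.mul_right_eq_zero).mp h1
  exact sub_eq_zero.mp this

theorem constantCoeff_subst_of_zero {a : PowerSeries k} (ha : constantCoeff a = 0)
    (f : PowerSeries k) : constantCoeff (subst a f) = constantCoeff f := by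
  have hs : HasSubst a := HasSubst.of_constantCoeff_zero' ha
  have hf := eq_X_mul_shift_add_const f
  set f' : PowerSeries k := mk fun p => coeff (p + 1) f with hf'
  conv_lhs => rw [hf]
  rw [subst_add hs, subst_mul hs, subst_X hs]
  have hC : subst a (C (constantCoeff f) : PowerSeries k) = C (constantCoeff f) := by
    have := subst_C (a := a) (constantCoeff f)
    exact this
  rw [hC, map_add, map_mul, ha, zero_mul, zero_add, constantCoeff_C]

section Setup

variable (p : ℕ) [Fact p.Prime] [CharP k p] (n : ℕ) (u : PowerSeries k)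

/-- The standing hypotheses. -/
structure Hyp : Prop where
  hn : 0 < n
  hpn : ¬ p ∣ n
  hu1 : constantCoeff u = 1
  hun : u ^ n * (1 + X ^ n) = 1

variable {p n u}

theorem Hyp.n_ne_zero (H : Hyp p n u) : ((n : ℕ) : k) ≠ 0 := by
  intro h
  exact H.hpn ((CharP.cast_eq_zero_iff k p n).mp h)

theorem Hyp.constXu (H : Hyp p n u) : constantCoeff (X * u : PowerSeries k) = 0 := by
  rw [map_mul, constantCoeff_X, zero_mul]

theorem Hyp.hasSubst (H : Hyp p n u) : HasSubst (X * u : PowerSeries k) :=
  HasSubst.of_constantCoeff_zero' H.constXu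

theorem Hyp.isUnit_u (H : Hyp p n u) : IsUnit u := by
  rw [isUnit_iff_constantCoeff, H.hu1]; exact isUnit_one

/-- the substitution endomorphism `h ↦ h(t u)` -/
noncomputable def sig0 (H : Hyp p n u) : PowerSeries k →ₐ[k] PowerSeries k :=
  substAlgHom H.hasSubst

theorem sig0_apply (H : Hyp p n u) (f : PowerSeries k) : sig0 H f = subst (X * u) f := by
  unfold sig0
  rw [coe_substAlgHom]

theorem sig0_X (H : Hyp p n u) : sig0 H X = X * u := by
  rw [sig0_apply, subst_X H.hasSubst]

theorem constantCoeff_sig0 (H : Hyp p n u) (f : PowerSeries k) :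
    constantCoeff (sig0 H f) = constantCoeff f := by
  rw [sig0_apply]
  exact constantCoeff_subst_of_zero H.constXu f

theorem subst_X_self (f : PowerSeries k) : subst (X : PowerSeries k) f = f := by
  have h := map_algebraMap_eq_subst_X (R := k) (S := k) f
  rw [← h]
  simp

theorem sig0_iter (H : Hyp p n u) (i : ℕ) :
    ∃ w : PowerSeries k, constantCoeff w = 1 ∧ w ^ n * (1 + (i : PowerSeries k) * X ^ n) = 1 ∧
      ∀ f, (sig0 H)^[i] f = subst (X * w) f := by
  induction i with
  | zero =>
    refine ⟨1, by simp, by simp, ?_⟩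
    intro f
    simp [subst_X_self]
  | succ i ih =>
    obtain ⟨w, hw0, hwn, hw⟩ := ih
    have hXw : HasSubst (X * w : PowerSeries k) :=
      HasSubst.of_constantCoeff_zero' (by rw [map_mul, constantCoeff_X, zero_mul])
    refine ⟨u * sig0 H w, ?_, ?_, ?_⟩
    · rw [map_mul, H.hu1, constantCoeff_sig0, hw0, one_mul]
    · have h1 := congrArg (sig0 H) hwn
      rw [map_mul, map_pow, map_add, map_mul, map_pow, map_one, map_natCast, sig0_X] at h1
      have h2 := H.hun
      set A := sig0 H w with hA
      push_cast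
      calc (u * A) ^ n * (1 + ((i : PowerSeries k) + 1) * X ^ n)
          = A ^ n * (u ^ n * (1 + X ^ n) + (i : PowerSeries k) * (X ^ n * u ^ n)) := by ring
        _ = A ^ n * (1 + (i : PowerSeries k) * (X * u) ^ n) := by rw [h2, mul_pow]
        _ = 1 := h1
    · intro f
      rw [Function.iterate_succ', Function.comp_apply, hw f, sig0_apply,
        subst_comp_subst_apply hXw H.hasSubst]
      congr 1
      rw [subst_mul H.hasSubst, subst_X H.hasSubst, ← sig0_apply H w]
      ring

theorem sig0_iter_p (H : Hyp p n u) (f : PowerSeries k) : (sig0 H)^[p] f = f := by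
  obtain ⟨w, hw0, hwn, hw⟩ := sig0_iter H p
  have hp0 : ((p : ℕ) : PowerSeries k) = 0 := by
    have : ((p : ℕ) : PowerSeries k) = C ((p : ℕ) : k) := (map_natCast C p).symm
    rw [this, CharP.cast_eq_zero k p, map_zero]
  rw [hp0, zero_mul, add_zero, mul_one] at hwn
  have hw1 : w = 1 := eq_one_of_pow_eq_one H.n_ne_zero hw0 hwn
  rw [hw f, hw1, mul_one, subst_X_self]

theorem iter_pred {α : Type*} (g : α → α) (q : ℕ) (hq : 0 < q) (x : α) :
    g^[q] x = g^[q - 1] (g x) := by
  obtain ⟨r, rfl⟩ : ∃ r, q = r + 1 := ⟨q - 1, by omega⟩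
  rw [Function.iterate_succ_apply]
  rfl

theorem iter_pred' {α : Type*} (g : α → α) (q : ℕ) (hq : 0 < q) (x : α) :
    g^[q] x = g (g^[q - 1] x) := by
  obtain ⟨r, rfl⟩ : ∃ r, q = r + 1 := ⟨q - 1, by omega⟩
  rw [Function.iterate_succ_apply']
  rfl

/-- The automorphism `σ`. -/
noncomputable def sig (H : Hyp p n u) : PowerSeries k ≃ₐ[k] PowerSeries k :=
  AlgEquiv.ofBijective (sig0 H) (by
    have hp1 : 0 < p := (Fact.out : p.Prime).pos
    rw [Function.bijective_iff_has_inverse]
    refine ⟨(sig0 H)^[p - 1], ?_, ?_⟩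
    · intro f
      have := sig0_iter_p H f
      rw [iter_pred _ p hp1] at this
      exact this
    · intro f
      have := sig0_iter_p H f
      rw [iter_pred' _ p hp1] at this
      exact this)

theorem sig_apply (H : Hyp p n u) (f : PowerSeries k) : sig H f = subst (X * u) f := by
  unfold sig
  rw [AlgEquiv.ofBijective_apply, sig0_apply]

theorem sig_X (H : Hyp p n u) : sig H X = X * u := by
  rw [sig_apply, subst_X H.hasSubst]

theorem sig_pow_p (H : Hyp p n u) : (sig H) ^ p = 1 := by
  apply AlgEquiv.ext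
  intro f
  rw [AlgEquiv.coe_pow, AlgEquiv.one_apply]
  have h : ∀ i g, (sig H)^[i] g = (sig0 H)^[i] g := by
    intro i
    induction i with
    | zero => intro g; rfl
    | succ i ih =>
      intro g
      rw [Function.iterate_succ_apply, Function.iterate_succ_apply, ih]
      congr 1
  rw [h, sig0_iter_p]

/-- `u - 1 = X^n * s` with `s` a unit. -/
theorem Hyp.exists_u_sub_one (H : Hyp p n u) :
    ∃ s : PowerSeries k, IsUnit s ∧ u - 1 = X ^ n * s := by
  have h1 := geom_sum_mul u n
  have h2 : u ^ n - 1 = - (X ^ n * u ^ n) := by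
    have := H.hun
    linear_combination this
  have hunit : IsUnit (∑ i ∈ Finset.range n, u ^ i) := by
    rw [isUnit_iff_constantCoeff, map_sum]
    simp only [map_pow, H.hu1, one_pow, Finset.sum_const, Finset.card_range, nsmul_eq_mul, mul_one]
    exact isUnit_iff_ne_zero.mpr H.n_ne_zero
  obtain ⟨v, hv⟩ := hunit.exists_right_inv
  refine ⟨-(u ^ n * v), ?_, ?_⟩
  · have hv' : IsUnit v := IsUnit.of_mul_eq_one _ (by rw [mul_comm]; exact hv)
    exact ((H.isUnit_u.pow n).mul hv').neg
  · calc u - 1 = (u - 1) * ((∑ i ∈ Finset.range n, u ^ i) * v) := by rw [hv, mul_one]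
      _ = ((∑ i ∈ Finset.range n, u ^ i) * (u - 1)) * v := by ring
      _ = X ^ n * -(u ^ n * v) := by rw [h1, h2]; ring

theorem Hyp.order_sig_sub (H : Hyp p n u) :
    (sig H X - X : PowerSeries k).order = ((n + 1 : ℕ) : ℕ∞) := by
  obtain ⟨s, hs, hus⟩ := H.exists_u_sub_one
  rw [sig_X, order_eq_iff]
  refine ⟨s, hs, ?_⟩
  have : X * u - X = X * (u - 1) := by ring
  rw [this, hus]
  ring

end Setup

end Groth.Agent.Lib.Helper8.ASCov
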