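import Groth.Agent.Lib.Helper8.ASCov9

set_option autoImplicit false
set_option backward.isDefEq.respectTransparency.types false
set_option linter.unusedSectionVars false

namespace Groth.Agent.Lib.Helper8.ASCov

open PowerSeries
open Groth.Agent.Lib.Helper8.WildPS
open Groth.Agent.Lib.Helper8.CycH1

universe u

/-- index set for the image -/
def TT (p n : ℕ) : Finset ℕ :=
  (SS p ((n : ℤ) + 1) n).filter (fun m' : ℕ => ¬ (p : ℤ) ∣ (m' : ℤ) - 1)

theorem card_TT (p n : ℕ) (hp : 2 ≤ p) (hpn : ¬ p ∣ n) :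
    ((TT p n).card : ℤ) = (n : ℤ) - (n : ℤ) / (p : ℤ) + (-(n : ℤ)) / (p : ℤ) := by
  have hp0 : 0 < p := by omega
  have h1 := Finset.card_filter_add_card_filter_not (s := SS p ((n : ℤ) + 1) n)
    (fun m' : ℕ => (p : ℤ) ∣ (m' : ℤ) - 1)
  have h2 : (SS p ((n : ℤ) + 1) n).filter (fun m' : ℕ => (p : ℤ) ∣ (m' : ℤ) - 1) =
      (Finset.Icc 1 n).filter (fun m : ℕ => (p : ℤ) ∣ (1 : ℤ) - (m : ℤ)) := by
    ext m'
    rw [Finset.mem_filter, Finset.mem_filter, mem_SS, Finset.mem_Icc]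
    constructor
    · rintro ⟨⟨h1, h2, _⟩, h4⟩
      exact ⟨⟨h1, h2⟩, (dvd_sub_comm).mp h4⟩
    · rintro ⟨⟨h1, h2⟩, h4⟩
      have h4' : (p : ℤ) ∣ (m' : ℤ) - 1 := (dvd_sub_comm).mp h4
      refine ⟨⟨h1, h2, ?_⟩, h4'⟩
      intro h5
      apply hpn
      have : (p : ℤ) ∣ (n : ℤ) := by
        have e : (n : ℤ) = ((n : ℤ) + 1 - m') + ((m' : ℤ) - 1) := by ring
        rw [e]; exact dvd_add h5 h4'
      exact_mod_cast this
  rw [h2] at h1
  have h3 := card_D p hp0 1 n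
  have h4 := card_SS p hp0 ((n : ℤ) + 1) n
  have h5 : ((TT p n).card : ℤ) +
      (((Finset.Icc 1 n).filter (fun m : ℕ => (p : ℤ) ∣ (1 : ℤ) - (m : ℤ))).card : ℤ) =
      ((SS p ((n : ℤ) + 1) n).card : ℤ) := by
    unfold TT
    rw [add_comm]
    exact_mod_cast h1
  rw [h3, h4] at h5
  have e1 : ((n : ℤ) + 1 - 1) = n := by ring
  rw [e1] at h5
  simp only [sub_self, zero_sub, Int.zero_ediv] at h5
  linarith

section Main

variable {k : Type u} [Field k] {p : ℕ} [Fact p.Prime] [CharP k p] {n : ℕ} {u : PowerSeries k}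
  (H : Hyp p n u) (U : (PowerSeries k)ˣ) (hU : (U : PowerSeries k) = u)
  {G : Type u} [Group G] (g : G) (hG : Nat.card G = p)
  (hg : ∀ x : G, x ∈ Subgroup.zpowers g)
  (ρ₀ ρ₁ : Representation k G (PowerSeries k))
  (hρ₀ : ∀ h : PowerSeries k, ρ₀ g h = tw H U 0 h)
  (hρ₁ : ∀ h : PowerSeries k, ρ₁ g h = tw H U ((n : ℤ) + 1) h)
  (φ : Rep.of ρ₀ ⟶ Rep.of ρ₁) (hφ : ∀ h : PowerSeries k, φ.hom h = d⁄dX k h)
include H hU hG hg hρ₀ hρ₁ hφ

theorem mem_SS_of_mem_TT {m' : ℕ} (h : m' ∈ TT p n) : m' ∈ SS p ((n : ℤ) + 1) n :=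
  (Finset.mem_filter.mp h).1

omit hG hg hρ₀ hρ₁ hφ in
theorem natCast_ne_zero_of {m : ℕ} (hm : ¬ (p : ℤ) ∣ (m : ℤ)) : ((m : ℕ) : k) ≠ 0 := by
  intro h0
  apply hm
  have := (CharP.cast_eq_zero_iff k p m).mp h0
  exact_mod_cast this

omit hG hg hρ₀ hρ₁ hφ in
theorem deriv_cc0 (m : ℕ) (hm1 : 1 ≤ m) (hmn : m < n) :
    d⁄dX k (cc H U hU 0 m) = -((m : ℕ) : k) • cc H U hU ((n : ℤ) + 1) (m + 1) := by
  apply deriv_cc H U hU m hm1
  · exact cc_spec H U hU 0 m hmn.le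
  · have := cc_spec H U hU ((n : ℤ) + 1) (m + 1) (by omega)
    have e : ((n : ℤ) + 1) - ((m + 1 : ℕ) : ℤ) = (n : ℤ) - m := by push_cast; ring
    rw [e] at this
    exact this

omit hG hg hρ₀ hρ₁ hφ in
theorem deriv_cc0_top : d⁄dX k (cc H U hU 0 n) = 0 := by
  have h := deriv_cc H U hU n H.hn (cc H U hU 0 n) 0 (cc_spec H U hU 0 n le_rfl) (by simp)
  rw [h, smul_zero]

theorem range_main :
    Module.Finite k (LinearMap.range ((groupCohomology.functor k G 1).map φ).hom) ∧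
      (Module.finrank k (LinearMap.range ((groupCohomology.functor k G 1).map φ).hom) : ℤ) =
        (((n : ℤ) + 1) * ((p : ℤ) - 1)) / (p : ℤ) - 1 - ((n : ℤ) - 1) / (p : ℤ) := by
  classical
  have hd := orderOf_gen H U hU 0 g hG hg ρ₀ hρ₀
  have hp0 : 0 < p := (Fact.out : p.Prime).pos
  have hp2 : 2 ≤ p := (Fact.out : p.Prime).two_le
  -- the two families
  set cA := cker H U hU 0 g ρ₀ hρ₀ with hcA
  set cB : ↥(TT p n) → LinearMap.ker (F (Rep.of ρ₁) g p) := fun j =>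
    cker H U hU ((n : ℤ) + 1) g ρ₁ hρ₁ ⟨j.1, (Finset.mem_filter.mp j.2).1⟩ with hcB
  have hcBval : ∀ j, (cB j).1 = cc H U hU ((n : ℤ) + 1) j.1 := fun j => rfl
  have hcAval : ∀ i, (cA i).1 = cc H U hU 0 i.1 := fun i => rfl
  have hmain := finrank_range_map (Rep.of ρ₀) g hd hp0 hg φ cA
    (span_cker H U hU 0 g hG hg ρ₀ hρ₀) cB
    (fun coef b hb => indep_cker H U hU ((n : ℤ) + 1) g hG hg ρ₁ hρ₁ (TT p n)
      (Finset.filter_subset _ _) coef b hb)
    (by
      -- images of the basis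
      intro i
      obtain ⟨hm1, hmn, hmp⟩ := mem_SS.mp i.2
      have hmp' : ¬ (p : ℤ) ∣ ((i.1 : ℕ) : ℤ) := by
        intro h; apply hmp; rw [zero_sub]; exact (dvd_neg).mpr h
      rw [hcAval, hφ]
      by_cases hmn' : i.1 = n
      · refine ⟨0, 0, ?_⟩
        rw [hmn', deriv_cc0_top H U hU]
        simp
      · have hlt : i.1 < n := lt_of_le_of_ne hmn hmn'
        rw [deriv_cc0 H U hU i.1 hm1 hlt]
        by_cases hT : (i.1 + 1) ∈ TT p n
        · refine ⟨Pi.single ⟨i.1 + 1, hT⟩ (-((i.1 : ℕ) : k)), 0, ?_⟩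
          rw [map_zero, sub_zero, zero_add,
            Fintype.sum_eq_single (⟨i.1 + 1, hT⟩ : ↥(TT p n))
              (fun j hj => by rw [Pi.single_eq_of_ne hj, zero_smul]),
            Pi.single_eq_same, hcBval]
        · -- then the class is a coboundary
          have hd' : (p : ℤ) ∣ ((n : ℤ) + 1) - ((i.1 + 1 : ℕ) : ℤ) := by
            by_contra hnd
            apply hT
            unfold TT
            rw [Finset.mem_filter, mem_SS]
            refine ⟨⟨by omega, by omega, hnd⟩, ?_⟩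
            have : (((i.1 + 1 : ℕ) : ℤ)) - 1 = (i.1 : ℤ) := by push_cast; ring
            rw [this]; exact hmp'
          obtain ⟨h, hh⟩ := exists_twisted_coboundary H U hU ((n : ℤ) + 1) (i.1 + 1) (by omega)
            (by omega) hd' _ (cc_spec H U hU ((n : ℤ) + 1) (i.1 + 1) (by omega))
          refine ⟨0, -((i.1 : ℕ) : k) • h, ?_⟩
          rw [← hh]
          change _ = (ρ₁ g (-((i.1 : ℕ) : k) • h) - -((i.1 : ℕ) : k) • h) + _
          rw [hρ₁, tw_smul]
          simp [smul_sub])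
    (by
      -- every basis element of the target is hit
      intro j
      obtain ⟨hjS, hjp⟩ := Finset.mem_filter.mp j.2
      obtain ⟨hj1, hjn, _⟩ := mem_SS.mp hjS
      have hj2 : 2 ≤ j.1 := by
        by_contra hlt
        have : j.1 = 1 := by omega
        apply hjp
        rw [this]; simp
      have hmem : j.1 - 1 ∈ SS p 0 n := by
        rw [mem_SS]
        refine ⟨by omega, by omega, ?_⟩
        intro h
        apply hjp
        have : (0 : ℤ) - ((j.1 - 1 : ℕ) : ℤ) = -((j.1 : ℤ) - 1) := by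
          push_cast [(by omega : 1 ≤ j.1)]; ring
        rw [this] at h
        exact (dvd_neg).mp h
      have hmk : (((j.1 - 1 : ℕ) : ℕ) : k) ≠ 0 := by
        apply natCast_ne_zero_of H U hU
        intro h
        apply hjp
        have : (((j.1 - 1 : ℕ) : ℕ) : ℤ) = (j.1 : ℤ) - 1 := by
          push_cast [(by omega : 1 ≤ j.1)]; ring
        rwa [this] at h
      refine ⟨(-(((j.1 - 1 : ℕ) : ℕ) : k))⁻¹ • cA ⟨j.1 - 1, hmem⟩, 0, ?_⟩
      rw [map_zero, sub_zero, add_zero, hcBval, Submodule.coe_smul, hcAval, hφ, Derivation.map_smul,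
        deriv_cc0 H U hU (j.1 - 1) (by omega) (by omega), smul_smul,
        inv_mul_cancel₀ (neg_ne_zero.mpr hmk), one_smul]
      congr 1
      omega)
  refine ⟨hmain.1, ?_⟩
  rw [hmain.2, Fintype.card_coe, card_TT p n hp2 H.hpn, count_arith p n hp2 H.hpn]

end Main

end Groth.Agent.Lib.Helper8.ASCov
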