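import Groth.Agent.Lib.Helper8.ASCov1

set_option autoImplicit false
set_option backward.isDefEq.respectTransparency.types false
set_option linter.unusedSectionVars false

namespace Groth.Agent.Lib.Helper8.ASCov

open PowerSeries
open Groth.Agent.Lib.Helper8.WildPS

variable {k : Type*} [Field k]

/-- congruent to `1` modulo `X^n` -/
def Cong1 (n : ℕ) (f : PowerSeries k) : Prop := (X : PowerSeries k) ^ n ∣ f - 1

theorem Cong1.one (n : ℕ) : Cong1 n (1 : PowerSeries k) := by
  unfold Cong1; rw [sub_self]; exact dvd_zero _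

theorem Cong1.mul {n : ℕ} {f g : PowerSeries k} (hf : Cong1 n f) (hg : Cong1 n g) :
    Cong1 n (f * g) := by
  unfold Cong1 at *
  have : f * g - 1 = f * (g - 1) + (f - 1) := by ring
  rw [this]
  exact dvd_add (Dvd.dvd.mul_left hg f) hf

theorem Cong1.prod {n : ℕ} {ι : Type*} (s : Finset ι) (f : ι → PowerSeries k)
    (hf : ∀ i ∈ s, Cong1 n (f i)) : Cong1 n (∏ i ∈ s, f i) := by
  classical
  induction s using Finset.induction_on with
  | empty => simpa using Cong1.one n
  | insert a s ha ih =>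
    rw [Finset.prod_insert ha]
    exact Cong1.mul (hf a (Finset.mem_insert_self a s))
      (ih (fun i hi => hf i (Finset.mem_insert_of_mem hi)))

theorem Cong1.pow {n : ℕ} {f : PowerSeries k} (hf : Cong1 n f) (N : ℕ) : Cong1 n (f ^ N) := by
  induction N with
  | zero => simpa using Cong1.one n
  | succ N ih => rw [pow_succ]; exact ih.mul hf

theorem Cong1.inv {n : ℕ} (v : (PowerSeries k)ˣ) (hv : Cong1 n (v : PowerSeries k)) :
    Cong1 n ((v⁻¹ : (PowerSeries k)ˣ) : PowerSeries k) := by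
  unfold Cong1 at *
  have : ((v⁻¹ : (PowerSeries k)ˣ) : PowerSeries k) - 1 =
      -((v⁻¹ : (PowerSeries k)ˣ) : PowerSeries k) * ((v : PowerSeries k) - 1) := by
    have h1 : ((v⁻¹ : (PowerSeries k)ˣ) : PowerSeries k) * (v : PowerSeries k) = 1 := by
      rw [← Units.val_mul, inv_mul_cancel, Units.val_one]
    linear_combination h1
  rw [this]
  exact Dvd.dvd.mul_left hv _

theorem Cong1.zpow {n : ℕ} (v : (PowerSeries k)ˣ) (hv : Cong1 n (v : PowerSeries k)) (z : ℤ) :
    Cong1 n ((v ^ z : (PowerSeries k)ˣ) : PowerSeries k) := by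
  cases z with
  | ofNat N =>
    simp only [Int.ofNat_eq_natCast, zpow_natCast, Units.val_pow_eq_pow_val]
    exact hv.pow N
  | negSucc N =>
    rw [zpow_negSucc]
    apply Cong1.inv
    rw [Units.val_pow_eq_pow_val]
    exact hv.pow _

theorem Cong1.sigma {n : ℕ} (σ : PowerSeries k ≃ₐ[k] PowerSeries k) {f : PowerSeries k}
    (hf : Cong1 n f) : Cong1 n (σ f) := by
  unfold Cong1 at *
  obtain ⟨q, hq⟩ := hf
  obtain ⟨w, hw⟩ := X_dvd_sigma_X σ
  refine ⟨w ^ n * σ q, ?_⟩
  have : σ f - 1 = σ (f - 1) := by rw [map_sub, map_one]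
  rw [this, hq, map_mul, map_pow, hw]
  ring

section Setup

variable {p : ℕ} [Fact p.Prime] [CharP k p] {n : ℕ} {u : PowerSeries k} (H : Hyp p n u)
include H

theorem Hyp.cong1_u : Cong1 n u := by
  obtain ⟨s, _, hs⟩ := H.exists_u_sub_one
  exact ⟨s, hs⟩

/-- `e = x / X^p` where `x` is the norm of `X`. -/
noncomputable def ee : PowerSeries k :=
  ∏ i ∈ Finset.range p, ∏ j ∈ Finset.range i, ((sig H) ^ j) u

theorem nrm_eq : nrm (sig H) p = X ^ p * ee H := by
  unfold nrm ee
  have h : ∀ i ∈ Finset.range p, ((sig H) ^ i) (X : PowerSeries k) =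
      X * ∏ j ∈ Finset.range i, ((sig H) ^ j) u := fun i _ => sigma_pow_X (sig H) (sig_X H) i
  rw [Finset.prod_congr rfl h, Finset.prod_mul_distrib, Finset.prod_const, Finset.card_range]

theorem isUnit_ee : IsUnit (ee H) := by
  unfold ee
  rw [IsUnit.prod_iff]
  intro i _
  rw [IsUnit.prod_iff]
  intro j _
  exact H.isUnit_u.map ((sig H) ^ j)

theorem cong1_ee : Cong1 n (ee H) := by
  unfold ee
  apply Cong1.prod
  intro i _
  apply Cong1.prod
  intro j _
  exact Cong1.sigma _ H.cong1_u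

theorem sig_ee : u ^ p * sig H (ee H) = ee H := by
  have h1 := sigma_nrm (sig H) p (sig_pow_p H)
  rw [nrm_eq, map_mul, map_pow, sig_X] at h1
  have h2 : (X : PowerSeries k) ^ p * (u ^ p * sig H (ee H)) = X ^ p * ee H := by
    rw [← h1]; ring
  exact mul_left_cancel₀ (pow_ne_zero _ X_ne_zero) h2

/-- the twisted action -/
noncomputable def tw (U : (PowerSeries k)ˣ) (z : ℤ) (h : PowerSeries k) : PowerSeries k :=
  ((U ^ z : (PowerSeries k)ˣ) : PowerSeries k) * sig H h

theorem tw_add (U : (PowerSeries k)ˣ) (z : ℤ) (g h : PowerSeries k) :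
    tw H U z (g + h) = tw H U z g + tw H U z h := by
  unfold tw; rw [map_add]; ring

theorem tw_sub (U : (PowerSeries k)ˣ) (z : ℤ) (g h : PowerSeries k) :
    tw H U z (g - h) = tw H U z g - tw H U z h := by
  unfold tw; rw [map_sub]; ring

theorem tw_smul (U : (PowerSeries k)ˣ) (z : ℤ) (c : k) (h : PowerSeries k) :
    tw H U z (c • h) = c • tw H U z h := by
  unfold tw; rw [map_smul]; rw [mul_smul_comm]

theorem tw_sum (U : (PowerSeries k)ˣ) (z : ℤ) {ι : Type*} (s : Finset ι) (f : ι → PowerSeries k) :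
    tw H U z (∑ i ∈ s, f i) = ∑ i ∈ s, tw H U z (f i) := by
  unfold tw; rw [map_sum, Finset.mul_sum]

theorem tw_one (U : (PowerSeries k)ˣ) (z : ℤ) :
    tw H U z 1 = ((U ^ z : (PowerSeries k)ˣ) : PowerSeries k) := by
  unfold tw; rw [map_one, mul_one]

theorem tw_mul (U : (PowerSeries k)ˣ) (z₁ z₂ : ℤ) (g h : PowerSeries k) :
    tw H U (z₁ + z₂) (g * h) = tw H U z₁ g * tw H U z₂ h := by
  unfold tw
  rw [map_mul, zpow_add, Units.val_mul]
  ring

theorem tw_X_pow_mul (U : (PowerSeries k)ˣ) (hU : (U : PowerSeries k) = u) (z : ℤ) (j : ℕ)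
    (h : PowerSeries k) : tw H U z (X ^ j * h) = X ^ j * tw H U (z + j) h := by
  unfold tw
  rw [map_mul, map_pow, sig_X, zpow_add, Units.val_mul, zpow_natCast, Units.val_pow_eq_pow_val, hU]
  ring

/-- `e` as a unit -/
noncomputable def Eu : (PowerSeries k)ˣ := (isUnit_ee H).unit

theorem Eu_val : ((Eu H : (PowerSeries k)ˣ) : PowerSeries k) = ee H := IsUnit.unit_spec _

theorem Eu_rel (U : (PowerSeries k)ˣ) (hU : (U : PowerSeries k) = u) :
    U ^ p * Units.map ((sig H : PowerSeries k ≃ₐ[k] PowerSeries k) : PowerSeries k →* PowerSeries k)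
      (Eu H) = Eu H := by
  apply Units.ext
  rw [Units.val_mul, Units.val_pow_eq_pow_val, hU, Units.coe_map, Eu_val]
  exact sig_ee H

theorem tw_Eu_zpow (U : (PowerSeries k)ˣ) (hU : (U : PowerSeries k) = u) (N : ℤ) :
    tw H U (p * N) (((Eu H) ^ N : (PowerSeries k)ˣ) : PowerSeries k) =
      (((Eu H) ^ N : (PowerSeries k)ˣ) : PowerSeries k) := by
  unfold tw
  have h1 : sig H (((Eu H) ^ N : (PowerSeries k)ˣ) : PowerSeries k) =
      ((Units.map ((sig H : PowerSeries k ≃ₐ[k] PowerSeries k) : PowerSeries k →* PowerSeries k)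
        (Eu H) ^ N : (PowerSeries k)ˣ) : PowerSeries k) := by
    rw [← map_zpow, Units.coe_map]
    rfl
  rw [h1, ← Units.val_mul]
  congr 1
  rw [zpow_mul, zpow_natCast, ← mul_zpow, Eu_rel H U hU]

theorem cong1_Eu_zpow (N : ℤ) : Cong1 n (((Eu H) ^ N : (PowerSeries k)ˣ) : PowerSeries k) := by
  apply Cong1.zpow
  rw [Eu_val]
  exact cong1_ee H

/-- The twisted order rule. -/
theorem tw_rule (U : (PowerSeries k)ˣ) (hU : (U : PowerSeries k) = u) (z : ℤ)
    {h : PowerSeries k} {r : ℕ} (hr : h.order = (r : ℕ∞)) :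
    (¬ (p : ℤ) ∣ z + r → (tw H U z h - h).order = ((r + n : ℕ) : ℕ∞)) ∧
    ((p : ℤ) ∣ z + r → ((r + n + 1 : ℕ) : ℕ∞) ≤ (tw H U z h - h).order) := by
  have hp2 := (Fact.out : p.Prime).two_le
  -- choose N, M
  obtain ⟨N, M, hM⟩ : ∃ N M : ℕ, (M : ℤ) = p * N + z := by
    refine ⟨z.natAbs, (p * z.natAbs + z).toNat, ?_⟩
    have h1 : (0 : ℤ) ≤ p * z.natAbs + z := by
      have h2 : (z.natAbs : ℤ) ≤ p * z.natAbs := by
        have : (1 : ℤ) ≤ p := by exact_mod_cast (by omega : 1 ≤ p)
        nlinarith [Int.natCast_nonneg z.natAbs]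
      have h3 : -(z.natAbs : ℤ) ≤ z := by
        have := neg_abs_le z
        rwa [Int.abs_eq_natAbs] at this
      linarith
    rw [Int.toNat_of_nonneg h1]
  set e := ee H with he
  have heu : IsUnit e := isUnit_ee H
  set F : PowerSeries k := X ^ M * e ^ N * h with hF
  set y := tw H U z h - h with hy
  -- key identity
  have hunits : U ^ M * (Units.map ((sig H : PowerSeries k ≃ₐ[k] PowerSeries k) :
      PowerSeries k →* PowerSeries k) (Eu H)) ^ N = (Eu H) ^ N * U ^ z := by
    have h1 : U ^ M = (U ^ p) ^ N * U ^ z := by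
      rw [← zpow_natCast U M, hM, zpow_add, zpow_mul, zpow_natCast, zpow_natCast]
    rw [h1, mul_right_comm, ← mul_pow, Eu_rel H U hU]
  have hval : u ^ M * (sig H e) ^ N = e ^ N * ((U ^ z : (PowerSeries k)ˣ) : PowerSeries k) := by
    have := congrArg (fun v : (PowerSeries k)ˣ => (v : PowerSeries k)) hunits
    simp only [Units.val_mul, Units.val_pow_eq_pow_val, Units.coe_map, hU, Eu_val] at this
    exact this
  have key : sig H F - F = X ^ M * e ^ N * y := by
    rw [hF, hy, map_mul, map_mul, map_pow, map_pow, sig_X, mul_pow]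
    unfold tw
    calc X ^ M * u ^ M * (sig H e) ^ N * (sig H) h - X ^ M * e ^ N * h
        = X ^ M * (u ^ M * (sig H e) ^ N) * (sig H) h - X ^ M * e ^ N * h := by ring
      _ = X ^ M * e ^ N * (((U ^ z : (PowerSeries k)ˣ) : PowerSeries k) * (sig H) h - h) := by
        rw [hval]; ring
  have oF : F.order = ((M + r : ℕ) : ℕ∞) := by
    rw [hF, order_mul, order_mul, order_X_pow, order_zero_of_unit (heu.pow N), hr]
    push_cast; ring
  have okey : (sig H F - F).order = (M : ℕ∞) + y.order := by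
    rw [key, order_mul, order_mul, order_X_pow, order_zero_of_unit (heu.pow N), add_zero]
  have hrule := rule (sig H) H.order_sig_sub H.hn p oF
  have hdiv : p ∣ M + r ↔ (p : ℤ) ∣ z + r := by
    rw [← Int.natCast_dvd_natCast]
    push_cast
    rw [hM]
    have : (p : ℤ) * N + z + r = p * N + (z + r) := by ring
    rw [this]
    exact (dvd_add_right (dvd_mul_right _ _))
  constructor
  · intro hnd
    have h1 := hrule.1 (fun hd => hnd (hdiv.mp hd))
    rw [okey] at h1
    have hyne : y ≠ 0 := by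
      intro h0
      rw [h0, order_zero, add_top] at h1
      exact ENat.top_ne_natCast _ h1
    obtain ⟨r', hr'⟩ := exists_order_eq hyne
    rw [hr'] at h1 ⊢
    have : M + r' = M + r + n := by exact_mod_cast h1
    have : r' = r + n := by omega
    rw [this]
  · intro hd
    have h1 := hrule.2 (hdiv.mpr hd)
    rw [okey] at h1
    by_cases hyne : y = 0
    · rw [hyne, order_zero]; exact le_top
    · obtain ⟨r', hr'⟩ := exists_order_eq hyne
      rw [hr'] at h1 ⊢
      have : M + r + n + 1 ≤ M + r' := by exact_mod_cast h1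
      exact_mod_cast (by omega : r + n + 1 ≤ r')

theorem tw_fixed_dvd (U : (PowerSeries k)ˣ) (hU : (U : PowerSeries k) = u) (z : ℤ)
    {g : PowerSeries k} {r : ℕ} (hr : g.order = (r : ℕ∞)) (hfix : tw H U z g = g) :
    (p : ℤ) ∣ z + r := by
  by_contra hnd
  have h := (tw_rule H U hU z hr).1 hnd
  rw [hfix, sub_self, order_zero] at h
  exact ENat.top_ne_natCast _ h

/-- Core of `S13863`. -/
theorem exists_twisted_coboundary (U : (PowerSeries k)ˣ) (hU : (U : PowerSeries k) = u)
    (a : ℤ) (m : ℕ) (hm1 : 1 ≤ m) (hmn : m ≤ n) (hdvd : (p : ℤ) ∣ a - m) (c : PowerSeries k)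
    (hc : X ^ m * c = ((U ^ (a - m) : (PowerSeries k)ˣ) : PowerSeries k) - 1) :
    ∃ h : PowerSeries k, tw H U a h - h = c := by
  obtain ⟨i', hi'⟩ := hdvd
  set E : PowerSeries k := (((Eu H) ^ i' : (PowerSeries k)ˣ) : PowerSeries k) with hE
  have hEfix : tw H U (a - m) E = E := by
    rw [hi']; exact tw_Eu_zpow H U hU i'
  obtain ⟨q, hq⟩ := cong1_Eu_zpow H i'
  rw [← hE] at hq
  set g : PowerSeries k := -(X ^ (n - m) * q) with hg
  have hXg : X ^ m * g = 1 - E := by
    have : (X : PowerSeries k) ^ n = X ^ m * X ^ (n - m) := by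
      rw [← pow_add]; congr 1; omega
    rw [hg]
    have h2 : E = 1 + X ^ n * q := by rw [← hq]; ring
    rw [h2, this]; ring
  refine ⟨g, ?_⟩
  have h1 : X ^ m * tw H U a g = tw H U (a - m) (X ^ m * g) := by
    rw [tw_X_pow_mul H U hU (a - m) m g]
    congr 2
    ring
  have h2 : X ^ m * (tw H U a g - g) = X ^ m * c := by
    rw [mul_sub, h1, hXg, tw_sub, tw_one, hEfix, hc]
    ring
  exact mul_left_cancel₀ (pow_ne_zero _ X_ne_zero) h2

end Setup

end Groth.Agent.Lib.Helper8.ASCov
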