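import Groth.Agent.Lib.Helper8.ASCov2

set_option autoImplicit false
set_option backward.isDefEq.respectTransparency.types false
set_option linter.unusedSectionVars false

namespace Groth.Agent.Lib.Helper8.ASCov

open PowerSeries
open Groth.Agent.Lib.Helper8.WildPS

variable {k : Type*} [Field k]

section Setup

variable {p : ℕ} [Fact p.Prime] [CharP k p] {n : ℕ} {u : PowerSeries k} (H : Hyp p n u)
include H

theorem tw_X_pow (U : (PowerSeries k)ˣ) (hU : (U : PowerSeries k) = u) (z : ℤ) (j : ℕ) :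
    tw H U z (X ^ j) = X ^ j * ((U ^ (z + j) : (PowerSeries k)ˣ) : PowerSeries k) := by
  have := tw_X_pow_mul H U hU z j 1
  rw [mul_one, tw_one] at this
  exact this

/-- Core of `S13864`. -/
theorem coef_eq_zero (U : (PowerSeries k)ˣ) (hU : (U : PowerSeries k) = u) (a : ℤ)
    (c : ℕ → PowerSeries k)
    (hc : ∀ m : ℕ, 1 ≤ m → m ≤ n →
      X ^ m * c m = ((U ^ (a - m) : (PowerSeries k)ˣ) : PowerSeries k) - 1)
    (coef : ℕ → k) (h : PowerSeries k) (S : Finset ℕ)
    (hS : ∀ m ∈ S, 1 ≤ m ∧ m ≤ n ∧ ¬ (p : ℤ) ∣ a - (m : ℤ))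
    (hh : tw H U a h - h = ∑ m ∈ S, coef m • c m) : ∀ m ∈ S, coef m = 0 := by
  classical
  by_contra hcon
  push Not at hcon
  obtain ⟨m₁, hm₁S, hm₁⟩ := hcon
  set S' := S.filter (fun m => coef m ≠ 0) with hS'
  have hne : S'.Nonempty := ⟨m₁, by rw [hS']; exact Finset.mem_filter.mpr ⟨hm₁S, hm₁⟩⟩
  set m₀ := S'.max' hne with hm₀
  have hm₀S' : m₀ ∈ S' := Finset.max'_mem S' hne
  have hm₀S : m₀ ∈ S := (Finset.mem_filter.mp hm₀S').1
  have hm₀c : coef m₀ ≠ 0 := (Finset.mem_filter.mp hm₀S').2
  have hmax : ∀ m ∈ S, m₀ < m → coef m = 0 := by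
    intro m hm hlt
    by_contra hc0
    have : m ∈ S' := Finset.mem_filter.mpr ⟨hm, hc0⟩
    have := Finset.le_max' S' m this
    omega
  obtain ⟨hm₀1, hm₀n, hm₀p⟩ := hS m₀ hm₀S
  set g : PowerSeries k := ∑ m ∈ S, coef m • X ^ (n - m) - X ^ n * h with hg
  -- twisted invariance
  have htw : tw H U (a - n) g = g := by
    have h1 : tw H U (a - n) g =
        ∑ m ∈ S, coef m • (X ^ (n - m) * ((U ^ (a - m) : (PowerSeries k)ˣ) : PowerSeries k))
          - X ^ n * tw H U a h := by
      rw [hg, tw_sub, tw_sum, tw_X_pow_mul H U hU (a - n) n h]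
      congr 1
      · apply Finset.sum_congr rfl
        intro m hm
        obtain ⟨_, hmn, _⟩ := hS m hm
        rw [tw_smul, tw_X_pow H U hU]
        congr 4
        push_cast [hmn]
        ring
      · congr 2
        ring
    have h2 : tw H U (a - n) g - g = 0 := by
      rw [h1]
      conv_lhs => rw [hg]
      have h3 : X ^ n * tw H U a h = X ^ n * h + X ^ n * ∑ m ∈ S, coef m • c m := by
        rw [← hh]; ring
      rw [h3, Finset.mul_sum]
      have h4 : ∀ m ∈ S, coef m • (X ^ (n - m) * ((U ^ (a - m) : (PowerSeries k)ˣ) : PowerSeries k))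
          = coef m • X ^ (n - m) + X ^ n * coef m • c m := by
        intro m hm
        obtain ⟨hm1, hmn, _⟩ := hS m hm
        have h5 := hc m hm1 hmn
        have h6 : ((U ^ (a - m) : (PowerSeries k)ˣ) : PowerSeries k) = 1 + X ^ m * c m := by
          rw [h5]; ring
        have h7 : (X : PowerSeries k) ^ n = X ^ (n - m) * X ^ m := by
          rw [← pow_add]; congr 1; omega
        rw [h6, h7, mul_smul_comm, ← smul_add]
        congr 1
        ring
      rw [Finset.sum_congr rfl h4, Finset.sum_add_distrib]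
      ring
    exact sub_eq_zero.mp h2
  -- order of g
  have hcoeff : ∀ j, j < n → coeff j g = ∑ m ∈ S, coef m * (if j = n - m then 1 else 0) := by
    intro j hj
    rw [hg, map_sub, map_sum]
    have : coeff j ((X : PowerSeries k) ^ n * h) = 0 := by
      rw [coeff_X_pow_mul', if_neg (by omega)]
    rw [this, sub_zero]
    apply Finset.sum_congr rfl
    intro m _
    rw [coeff_smul, coeff_X_pow, smul_eq_mul]
  have og : g.order = ((n - m₀ : ℕ) : ℕ∞) := by
    rw [order_eq_nat]
    constructor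
    · rw [hcoeff (n - m₀) (by omega)]
      rw [Finset.sum_eq_single m₀]
      · simpa using hm₀c
      · intro m hm hne'
        obtain ⟨_, hmn, _⟩ := hS m hm
        rw [if_neg (by omega), mul_zero]
      · intro hnot; exact absurd hm₀S hnot
    · intro j hj
      rw [hcoeff j (by omega)]
      apply Finset.sum_eq_zero
      intro m hm
      obtain ⟨_, hmn, _⟩ := hS m hm
      by_cases hjm : j = n - m
      · rw [hmax m hm (by omega), zero_mul]
      · rw [if_neg hjm, mul_zero]
  have hd := tw_fixed_dvd H U hU (a - n) og htw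
  apply hm₀p
  have : a - n + ((n - m₀ : ℕ) : ℤ) = a - m₀ := by
    push_cast [hm₀n]; ring
  rwa [this] at hd

end Setup

end Groth.Agent.Lib.Helper8.ASCov
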