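import Groth.Agent.Lib.Helper8.ASCov3

set_option autoImplicit false
set_option backward.isDefEq.respectTransparency.types false
set_option linter.unusedSectionVars false

namespace Groth.Agent.Lib.Helper8.ASCov

open PowerSeries
open Groth.Agent.Lib.Helper8.WildPS

variable {k : Type*} [Field k]

/-! ### Successive approximation -/

section SA

variable (Ψ : PowerSeries k →ₗ[k] PowerSeries k) (z : PowerSeries k)

/-- the coefficients and partial sums of the successive approximation -/
noncomputable def saP : ℕ → PowerSeries k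
  | 0 => 0
  | r + 1 => saP r + (coeff r (z - Ψ (saP r)) / coeff r (Ψ (X ^ r))) • X ^ r

noncomputable def saK (r : ℕ) : k := coeff r (z - Ψ (saP Ψ z r)) / coeff r (Ψ (X ^ r))

theorem saP_succ (r : ℕ) : saP Ψ z (r + 1) = saP Ψ z r + saK Ψ z r • X ^ r := rfl

theorem saP_eq_sum (r : ℕ) : saP Ψ z r = ∑ s ∈ Finset.range r, saK Ψ z s • X ^ s := by
  induction r with
  | zero => simp [saP]
  | succ r ih => rw [saP_succ, ih, Finset.sum_range_succ]

theorem surjective_of_order_eq (hΨ : ∀ f, (Ψ f).order = f.order) : Function.Surjective Ψ := by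
  intro z
  have hc : ∀ r, coeff r (Ψ (X ^ r)) ≠ 0 ∧ ∀ s < r, coeff s (Ψ (X ^ r)) = 0 := by
    intro r
    have h1 : (Ψ ((X : PowerSeries k) ^ r)).order = (r : ℕ∞) := by rw [hΨ, order_X_pow]
    exact order_eq_nat.mp h1
  -- invariant 1
  have inv1 : ∀ r, ∀ s < r, coeff s (z - Ψ (saP Ψ z r)) = 0 := by
    intro r
    induction r with
    | zero => intro s hs; omega
    | succ r ih =>
      intro s hs
      rw [saP_succ, map_add, map_smul]
      have e : z - (Ψ (saP Ψ z r) + saK Ψ z r • Ψ (X ^ r)) =
          (z - Ψ (saP Ψ z r)) - saK Ψ z r • Ψ (X ^ r) := by ring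
      rw [e, map_sub, coeff_smul]
      rcases Nat.lt_succ_iff_lt_or_eq.mp hs with h | h
      · rw [ih s h, (hc r).2 s h, smul_zero, sub_zero]
      · subst h
        unfold saK
        rw [smul_eq_mul, div_mul_cancel₀ _ (hc s).1, sub_self]
  set f : PowerSeries k := mk (saK Ψ z) with hf
  have inv2 : ∀ r, ∀ s < r, coeff s (f - saP Ψ z r) = 0 := by
    intro r s hs
    rw [map_sub, hf, coeff_mk, saP_eq_sum, map_sum]
    have : ∑ x ∈ Finset.range r, coeff s (saK Ψ z x • (X : PowerSeries k) ^ x) = saK Ψ z s := by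
      rw [Finset.sum_eq_single s]
      · rw [coeff_smul, coeff_X_pow, if_pos rfl, smul_eq_mul, mul_one]
      · intro b _ hb
        rw [coeff_smul, coeff_X_pow, if_neg (Ne.symm hb), smul_zero]
      · intro hnot
        exact absurd (Finset.mem_range.mpr hs) hnot
    rw [this, sub_self]
  refine ⟨f, ?_⟩
  have h0 : z - Ψ f = 0 := by
    rw [← order_eq_top]
    apply le_antisymm le_top
    rw [← ENat.forall_natCast_le_iff_le]
    intro r _
    have e : z - Ψ f = (z - Ψ (saP Ψ z r)) - Ψ (f - saP Ψ z r) := by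
      rw [map_sub]; ring
    rw [e]
    have h1 : (r : ℕ∞) ≤ (z - Ψ (saP Ψ z r)).order := nat_le_order _ _ (inv1 r)
    have h2 : (r : ℕ∞) ≤ (Ψ (f - saP Ψ z r)).order := by
      rw [hΨ]; exact nat_le_order _ _ (inv2 r)
    have h3 := min_order_le_order_add (z - Ψ (saP Ψ z r)) (-(Ψ (f - saP Ψ z r)))
    rw [order_neg, ← sub_eq_add_neg] at h3
    exact le_trans (le_min h1 h2) h3
  exact (sub_eq_zero.mp h0).symm

end SA

/-! ### `T^(p-1)` is the trace -/

section Trace

variable (p : ℕ) [Fact p.Prime] [CharP k p]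

theorem poly_identity :
    ((Polynomial.X : Polynomial k) - 1) ^ (p - 1) = ∑ i ∈ Finset.range p, Polynomial.X ^ i := by
  have hp1 : p - 1 + 1 = p := by
    have := (Fact.out : p.Prime).two_le
    omega
  haveI : CharP (Polynomial k) p := inferInstance
  have h1 : ((Polynomial.X : Polynomial k) - 1) ^ p = Polynomial.X ^ p - 1 := by
    rw [sub_pow_char, one_pow]
  have h2 := geom_sum_mul (Polynomial.X : Polynomial k) p
  have hne : (Polynomial.X : Polynomial k) - 1 ≠ 0 := by
    have := Polynomial.X_sub_C_ne_zero (1 : k)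
    simpa using this
  have h3 : ((Polynomial.X : Polynomial k) - 1) ^ (p - 1) * (Polynomial.X - 1) =
      (∑ i ∈ Finset.range p, Polynomial.X ^ i) * (Polynomial.X - 1) := by
    rw [h2, ← pow_succ, hp1, h1]
  exact mul_right_cancel₀ hne h3

theorem T_pow_pred (σ : PowerSeries k ≃ₐ[k] PowerSeries k) (f : PowerSeries k) :
    ((T σ) ^ (p - 1)) f = ∑ i ∈ Finset.range p, (σ ^ i) f := by
  have h := congrArg (Polynomial.aeval (σ.toLinearMap : Module.End k (PowerSeries k)))
    (poly_identity (k := k) p)
  rw [map_pow, map_sub, Polynomial.aeval_X, map_one, map_sum] at h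
  simp only [map_pow, Polynomial.aeval_X] at h
  have h' := congrArg (fun L : Module.End k (PowerSeries k) => L f) h
  simp only [LinearMap.sum_apply] at h'
  unfold T
  rw [h']
  apply Finset.sum_congr rfl
  intro i _
  exact toLinearMap_pow σ i f

end Trace

end Groth.Agent.Lib.Helper8.ASCov
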