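import Groth.Agent.Lib.Helper8.ASCov4

set_option autoImplicit false
set_option backward.isDefEq.respectTransparency.types false
set_option linter.unusedSectionVars false

namespace Groth.Agent.Lib.Helper8.ASCov

open PowerSeries
open Groth.Agent.Lib.Helper8.WildPS

variable {k : Type*} [Field k]

section Setup

variable {p : ℕ} [Fact p.Prime] [CharP k p] {n : ℕ} {u : PowerSeries k} (H : Hyp p n u)
include H

theorem exists_NM (z : ℤ) : ∃ N M : ℕ, (M : ℤ) = p * N + z := by
  have hp2 := (Fact.out : p.Prime).two_le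
  refine ⟨z.natAbs, (p * z.natAbs + z).toNat, ?_⟩
  have h1 : (0 : ℤ) ≤ p * z.natAbs + z := by
    have h2 : (z.natAbs : ℤ) ≤ p * z.natAbs := by
      have : (1 : ℤ) ≤ p := by exact_mod_cast (by omega : 1 ≤ p)
      nlinarith [Int.natCast_nonneg z.natAbs]
    have h3 : -(z.natAbs : ℤ) ≤ z := by
      have := neg_abs_le z
      rwa [Int.abs_eq_natAbs] at this
    linarith
  rw [Int.toNat_of_nonneg h1]

/-- the lifting identity -/
theorem sig_lift (U : (PowerSeries k)ˣ) (hU : (U : PowerSeries k) = u) (z : ℤ) (N M : ℕ)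
    (hM : (M : ℤ) = p * N + z) (h : PowerSeries k) :
    sig H (X ^ M * (ee H) ^ N * h) = X ^ M * (ee H) ^ N * tw H U z h := by
  have hunits : U ^ M * (Units.map ((sig H : PowerSeries k ≃ₐ[k] PowerSeries k) :
      PowerSeries k →* PowerSeries k) (Eu H)) ^ N = (Eu H) ^ N * U ^ z := by
    have h1 : U ^ M = (U ^ p) ^ N * U ^ z := by
      rw [← zpow_natCast U M, hM, zpow_add, zpow_mul, zpow_natCast, zpow_natCast]
    rw [h1, mul_right_comm, ← mul_pow, Eu_rel H U hU]
  have hval : u ^ M * (sig H (ee H)) ^ N =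
      (ee H) ^ N * ((U ^ z : (PowerSeries k)ˣ) : PowerSeries k) := by
    have := congrArg (fun v : (PowerSeries k)ˣ => (v : PowerSeries k)) hunits
    simp only [Units.val_mul, Units.val_pow_eq_pow_val, Units.coe_map, hU, Eu_val] at this
    exact this
  rw [map_mul, map_mul, map_pow, map_pow, sig_X, mul_pow]
  unfold tw
  calc X ^ M * u ^ M * (sig H (ee H)) ^ N * (sig H) h
      = X ^ M * (u ^ M * (sig H (ee H)) ^ N) * (sig H) h := by ring
    _ = X ^ M * (ee H) ^ N * (((U ^ z : (PowerSeries k)ˣ) : PowerSeries k) * (sig H) h) := by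
      rw [hval]; ring

theorem sig_pow_lift (U : (PowerSeries k)ˣ) (hU : (U : PowerSeries k) = u) (z : ℤ) (N M : ℕ)
    (hM : (M : ℤ) = p * N + z) (i : ℕ) (h : PowerSeries k) :
    ((sig H) ^ i) (X ^ M * (ee H) ^ N * h) = X ^ M * (ee H) ^ N * (tw H U z)^[i] h := by
  induction i with
  | zero => simp
  | succ i ih =>
    rw [pow_succ', AlgEquiv.mul_apply, ih, sig_lift H U hU z N M hM, Function.iterate_succ_apply']

theorem lift_ne_zero (N M : ℕ) : (X : PowerSeries k) ^ M * (ee H) ^ N ≠ 0 :=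
  mul_ne_zero (pow_ne_zero _ X_ne_zero) (pow_ne_zero _ (isUnit_ee H).ne_zero)

theorem tw_iter_p (U : (PowerSeries k)ˣ) (hU : (U : PowerSeries k) = u) (z : ℤ)
    (h : PowerSeries k) : (tw H U z)^[p] h = h := by
  obtain ⟨N, M, hM⟩ := exists_NM H z
  have h1 := sig_pow_lift H U hU z N M hM p h
  rw [sig_pow_p H, AlgEquiv.one_apply] at h1
  exact (mul_left_cancel₀ (lift_ne_zero H N M) h1).symm

/-- the twisted norm -/
noncomputable def Nrm (U : (PowerSeries k)ˣ) (z : ℤ) (h : PowerSeries k) : PowerSeries k :=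
  ∑ i ∈ Finset.range p, (tw H U z)^[i] h

theorem tw_iter_sub (U : (PowerSeries k)ˣ) (z : ℤ) (i : ℕ) (g h : PowerSeries k) :
    (tw H U z)^[i] (g - h) = (tw H U z)^[i] g - (tw H U z)^[i] h := by
  induction i generalizing g h with
  | zero => rfl
  | succ i ih => rw [Function.iterate_succ_apply, Function.iterate_succ_apply,
      Function.iterate_succ_apply, tw_sub, ih]

theorem Nrm_tw_sub (U : (PowerSeries k)ˣ) (hU : (U : PowerSeries k) = u) (z : ℤ)
    (h : PowerSeries k) : Nrm H U z (tw H U z h - h) = 0 := by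
  unfold Nrm
  have h1 : ∀ i, (tw H U z)^[i] (tw H U z h - h) = (tw H U z)^[i + 1] h - (tw H U z)^[i] h := by
    intro i
    rw [tw_iter_sub, Function.iterate_succ_apply]
  simp_rw [h1]
  rw [Finset.sum_range_sub (fun i => (tw H U z)^[i] h)]
  rw [tw_iter_p H U hU, Function.iterate_zero_apply, sub_self]

theorem X_pow_mul_tw_iter (U : (PowerSeries k)ˣ) (hU : (U : PowerSeries k) = u) (z : ℤ) (j i : ℕ)
    (h : PowerSeries k) : X ^ j * (tw H U (z + j))^[i] h = (tw H U z)^[i] (X ^ j * h) := by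
  induction i generalizing h with
  | zero => rfl
  | succ i ih =>
    rw [Function.iterate_succ_apply, Function.iterate_succ_apply, ih,
      tw_X_pow_mul H U hU z j h]

theorem Nrm_c (U : (PowerSeries k)ˣ) (hU : (U : PowerSeries k) = u) (a : ℤ) (m : ℕ)
    (c : PowerSeries k)
    (hc : X ^ m * c = ((U ^ (a - m) : (PowerSeries k)ˣ) : PowerSeries k) - 1) :
    Nrm H U a c = 0 := by
  have h1 : X ^ m * Nrm H U a c = Nrm H U (a - m) (X ^ m * c) := by
    unfold Nrm
    rw [Finset.mul_sum]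
    apply Finset.sum_congr rfl
    intro i _
    have := X_pow_mul_tw_iter H U hU (a - m) m i c
    rw [← this]
    congr 3
    ring
  have h2 : Nrm H U (a - m) (X ^ m * c) = 0 := by
    rw [hc, ← tw_one H U (a - m)]
    exact Nrm_tw_sub H U hU (a - m) 1
  rw [h2] at h1
  exact (mul_eq_zero.mp h1).resolve_left (pow_ne_zero _ X_ne_zero)

theorem order_T_pow_gen {F : PowerSeries k} {ρ₀ : ℕ} (hF : F.order = (ρ₀ : ℕ∞))
    (hρ : (p : ℤ) ∣ (ρ₀ : ℤ) - n) (l : ℕ) (hl : l ≤ p - 1) :
    (((T (sig H)) ^ l) F).order = ((ρ₀ + l * n : ℕ) : ℕ∞) := by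
  have hp := (Fact.out : p.Prime)
  have hp2 := hp.two_le
  induction l with
  | zero => simpa using hF
  | succ l ih =>
    have ih' := ih (by omega)
    rw [T_pow_succ_apply]
    have hnd : ¬ p ∣ ρ₀ + l * n := by
      intro hd
      have hd' : (p : ℤ) ∣ ((ρ₀ + l * n : ℕ) : ℤ) := Int.natCast_dvd_natCast.mpr hd
      have e : ((ρ₀ + l * n : ℕ) : ℤ) = ((ρ₀ : ℤ) - n) + ((l + 1 : ℕ) : ℤ) * n := by
        push_cast; ring
      rw [e] at hd'
      have h2 : (p : ℤ) ∣ ((l + 1 : ℕ) : ℤ) * n := (dvd_add_right hρ).mp hd'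
      have h3 : p ∣ (l + 1) * n := by exact_mod_cast h2
      rcases (Nat.Prime.dvd_mul hp).mp h3 with h4 | h4
      · have := Nat.le_of_dvd (by omega) h4
        omega
      · exact H.hpn h4
    rw [order_sub_of_not_dvd (sig H) H.order_sig_sub H.hn p ih' hnd]
    congr 1
    ring

/-- Nonzero elements of the kernel of the twisted norm have order `r` with `p ∤ z + r - n`. -/
theorem not_dvd_of_Nrm_eq_zero (U : (PowerSeries k)ˣ) (hU : (U : PowerSeries k) = u) (z : ℤ)
    {h : PowerSeries k} {r : ℕ} (hr : h.order = (r : ℕ∞)) (hN : Nrm H U z h = 0) :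
    ¬ (p : ℤ) ∣ z + r - n := by
  intro hd
  obtain ⟨N, M, hM⟩ := exists_NM H z
  set F := X ^ M * (ee H) ^ N * h with hF
  have oF : F.order = ((M + r : ℕ) : ℕ∞) := by
    rw [hF, order_mul, order_mul, order_X_pow, order_zero_of_unit ((isUnit_ee H).pow N), hr]
    push_cast; ring
  have hρ : (p : ℤ) ∣ ((M + r : ℕ) : ℤ) - n := by
    push_cast
    rw [hM]
    have : (p : ℤ) * N + z + r - n = p * N + (z + r - n) := by ring
    rw [this]
    exact (dvd_add_right (dvd_mul_right _ _)).mpr hd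
  have h1 := order_T_pow_gen H oF hρ (p - 1) le_rfl
  rw [T_pow_pred] at h1
  have h2 : ∑ i ∈ Finset.range p, ((sig H) ^ i) F = X ^ M * (ee H) ^ N * Nrm H U z h := by
    unfold Nrm
    rw [Finset.mul_sum]
    apply Finset.sum_congr rfl
    intro i _
    exact sig_pow_lift H U hU z N M hM i h
  rw [h2, hN, mul_zero, order_zero] at h1
  exact ENat.top_ne_natCast _ h1

theorem le_order_tw_sub (U : (PowerSeries k)ˣ) (hU : (U : PowerSeries k) = u) (z : ℤ)
    {h : PowerSeries k} {r : ℕ} (hr : (X : PowerSeries k) ^ r ∣ h) :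
    (X : PowerSeries k) ^ (r + n) ∣ tw H U z h - h := by
  by_cases h0 : h = 0
  · have : tw H U z 0 = 0 := by unfold tw; rw [map_zero, mul_zero]
    rw [h0, this, sub_zero]; exact dvd_zero _
  · obtain ⟨r', hr'⟩ := exists_order_eq h0
    have hle : r ≤ r' := by
      have := X_pow_dvd_iff_le_order.mp hr
      rw [hr'] at this
      exact_mod_cast this
    rw [X_pow_dvd_iff_le_order]
    by_cases hd : (p : ℤ) ∣ z + r'
    · have := (tw_rule H U hU z hr').2 hd
      refine le_trans ?_ this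
      exact_mod_cast (by omega : r + n ≤ r' + n + 1)
    · rw [(tw_rule H U hU z hr').1 hd]
      exact_mod_cast (by omega : r + n ≤ r' + n)

end Setup

end Groth.Agent.Lib.Helper8.ASCov
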