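import Groth.Agent.Lib.Helper8.ASCov5

set_option autoImplicit false
set_option backward.isDefEq.respectTransparency.types false
set_option linter.unusedSectionVars false

namespace Groth.Agent.Lib.Helper8.ASCov

open PowerSeries
open Groth.Agent.Lib.Helper8.WildPS

variable {k : Type*} [Field k]

/-- shift down by `n` -/
noncomputable def shiftL (n : ℕ) : PowerSeries k →ₗ[k] PowerSeries k where
  toFun f := mk (fun r => coeff (r + n) f)
  map_add' := by intros; ext; simp
  map_smul' := by intros; ext; simp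

theorem coeff_shiftL (n r : ℕ) (f : PowerSeries k) : coeff r (shiftL n f) = coeff (r + n) f := by
  simp [shiftL]

/-- projection to indices `j` with `p ∣ a + j - n` -/
noncomputable def projL (p : ℕ) (a : ℤ) (n : ℕ) : PowerSeries k →ₗ[k] PowerSeries k where
  toFun f := mk (fun j => if (p : ℤ) ∣ a + j - n then coeff j f else 0)
  map_add' := by
    intros; ext j; simp only [coeff_mk, map_add]; split_ifs <;> simp
  map_smul' := by
    intros; ext j; simp only [coeff_mk, map_smul, RingHom.id_apply, smul_eq_mul]; split_ifs <;> simp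

theorem coeff_projL (p : ℕ) (a : ℤ) (n j : ℕ) (f : PowerSeries k) :
    coeff j (projL p a n f) = if (p : ℤ) ∣ a + j - n then coeff j f else 0 := by
  simp [projL]

/-- the index set of the basis -/
def SS (p : ℕ) (a : ℤ) (n : ℕ) : Finset ℕ :=
  (Finset.Icc 1 n).filter (fun m : ℕ => ¬ (p : ℤ) ∣ a - (m : ℤ))

theorem mem_SS {p : ℕ} {a : ℤ} {n m : ℕ} :
    m ∈ SS p a n ↔ 1 ≤ m ∧ m ≤ n ∧ ¬ (p : ℤ) ∣ a - (m : ℤ) := by
  unfold SS
  rw [Finset.mem_filter, Finset.mem_Icc, and_assoc]

noncomputable def QL (p : ℕ) (a : ℤ) (n : ℕ) (c : ℕ → PowerSeries k) :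
    PowerSeries k →ₗ[k] PowerSeries k :=
  ∑ m ∈ SS p a n, (coeff (R := k) (n - m)).smulRight (c m)

theorem QL_apply (p : ℕ) (a : ℤ) (n : ℕ) (c : ℕ → PowerSeries k) (f : PowerSeries k) :
    QL p a n c f = ∑ m ∈ SS p a n, coeff (n - m) f • c m := by
  simp [QL, LinearMap.sum_apply]

theorem order_smul_of_ne_zero {c : k} (hc : c ≠ 0) (f : PowerSeries k) :
    (c • f).order = f.order := by
  have : c • f = C c * f := by
    ext i; simp
  rw [this, order_mul]
  have : (C c : PowerSeries k).order = 0 := by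
    apply order_zero_of_unit
    rw [isUnit_iff_constantCoeff, constantCoeff_C]
    exact isUnit_iff_ne_zero.mpr hc
  rw [this, zero_add]

theorem order_add_of_lt {f g : PowerSeries k} {r : ℕ} (hf : f.order = (r : ℕ∞))
    (hg : (X : PowerSeries k) ^ (r + 1) ∣ g) : (f + g).order = (r : ℕ∞) := by
  have hg' : ((r + 1 : ℕ) : ℕ∞) ≤ g.order := X_pow_dvd_iff_le_order.mp hg
  have hne : f.order ≠ g.order := by
    rw [hf]
    intro h
    rw [← h] at hg'
    have : r + 1 ≤ r := by exact_mod_cast hg'
    omega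
  rw [order_add_of_order_ne _ _ hne, hf]
  apply min_eq_left
  refine le_trans ?_ hg'
  exact_mod_cast Nat.le_succ r

theorem shiftL_X_pow (n j : ℕ) :
    shiftL n ((X : PowerSeries k) ^ j) = if n ≤ j then X ^ (j - n) else 0 := by
  ext r
  rw [coeff_shiftL, coeff_X_pow]
  split_ifs with h1 h2 h2
  · rw [coeff_X_pow, if_pos (by omega)]
  · omega
  · rw [coeff_X_pow, if_neg (by omega)]
  · simp

theorem projL_X_pow (p : ℕ) (a : ℤ) (n j : ℕ) :
    projL p a n ((X : PowerSeries k) ^ j) = if (p : ℤ) ∣ a + j - n then X ^ j else 0 := by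
  ext r
  rw [coeff_projL, coeff_X_pow]
  by_cases hrj : r = j
  · subst hrj
    by_cases hd : (p : ℤ) ∣ a + r - n
    · rw [if_pos hd, if_pos hd, if_pos rfl, coeff_X_pow, if_pos rfl]
    · rw [if_neg hd, if_neg hd, map_zero]
  · rw [if_neg hrj]
    simp only [ite_self]
    by_cases hd : (p : ℤ) ∣ a + j - n
    · rw [if_pos hd, coeff_X_pow, if_neg hrj]
    · rw [if_neg hd, map_zero]

section Setup

variable {p : ℕ} [Fact p.Prime] [CharP k p] {n : ℕ} {u : PowerSeries k} (H : Hyp p n u)
include H

noncomputable def twL (U : (PowerSeries k)ˣ) (z : ℤ) : PowerSeries k →ₗ[k] PowerSeries k where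
  toFun := tw H U z
  map_add' := tw_add H U z
  map_smul' := fun c h => by simp [tw_smul H U z c h]

theorem twL_apply (U : (PowerSeries k)ˣ) (z : ℤ) (h : PowerSeries k) :
    twL H U z h = tw H U z h := rfl

/-- the order-preserving map -/
noncomputable def Psi (U : (PowerSeries k)ˣ) (a : ℤ) (c : ℕ → PowerSeries k) :
    PowerSeries k →ₗ[k] PowerSeries k :=
  (twL H U a - 1) ∘ₗ shiftL n + QL p a n c + projL p a n

theorem Psi_apply (U : (PowerSeries k)ˣ) (a : ℤ) (c : ℕ → PowerSeries k) (f : PowerSeries k) :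
    Psi H U a c f = (tw H U a (shiftL n f) - shiftL n f) + ∑ m ∈ SS p a n, coeff (n - m) f • c m
      + projL p a n f := by
  unfold Psi
  simp only [LinearMap.add_apply, LinearMap.comp_apply, LinearMap.sub_apply, twL_apply,
    Module.End.one_apply, QL_apply]

theorem tw_iter_smul (U : (PowerSeries k)ˣ) (z : ℤ) (i : ℕ) (κ : k) (h : PowerSeries k) :
    (tw H U z)^[i] (κ • h) = κ • (tw H U z)^[i] h := by
  induction i generalizing h with
  | zero => rfl
  | succ i ih => rw [Function.iterate_succ_apply, Function.iterate_succ_apply, tw_smul, ih]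

variable (U : (PowerSeries k)ˣ) (hU : (U : PowerSeries k) = u) (a : ℤ) (c : ℕ → PowerSeries k)
  (hc : ∀ m : ℕ, 1 ≤ m → m ≤ n →
      X ^ m * c m = ((U ^ (a - m) : (PowerSeries k)ˣ) : PowerSeries k) - 1)
include hU hc

theorem X_pow_dvd_c (m : ℕ) (hm1 : 1 ≤ m) (hmn : m ≤ n) : (X : PowerSeries k) ^ (n - m) ∣ c m := by
  have h1 : (X : PowerSeries k) ^ (0 + n) ∣ tw H U (a - m) 1 - 1 :=
    le_order_tw_sub H U hU (a - m) (by simp)
  rw [tw_one, ← hc m hm1 hmn, zero_add] at h1
  have : (X : PowerSeries k) ^ n = X ^ m * X ^ (n - m) := by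
    rw [← pow_add]; congr 1; omega
  rw [this] at h1
  exact (mul_dvd_mul_iff_left (pow_ne_zero _ X_ne_zero)).mp h1

theorem order_c (m : ℕ) (hm : m ∈ SS p a n) : (c m).order = ((n - m : ℕ) : ℕ∞) := by
  obtain ⟨hm1, hmn, hmp⟩ := mem_SS.mp hm
  have h0 : (1 : PowerSeries k).order = ((0 : ℕ) : ℕ∞) := by rw [order_one]; rfl
  have h1 := (tw_rule H U hU (a - m) h0).1 (by simpa using hmp)
  rw [tw_one, ← hc m hm1 hmn, order_mul, order_X_pow, zero_add] at h1
  have hne : c m ≠ 0 := by
    intro h
    rw [h, order_zero, add_top] at h1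
    exact ENat.top_ne_natCast _ h1
  obtain ⟨r, hr⟩ := exists_order_eq hne
  rw [hr] at h1 ⊢
  have : m + r = n := by exact_mod_cast h1
  congr 1
  omega

theorem Psi_dvd (r : ℕ) (g : PowerSeries k) (hg : (X : PowerSeries k) ^ r ∣ g) :
    (X : PowerSeries k) ^ r ∣ Psi H U a c g := by
  rw [Psi_apply]
  have hcoef : ∀ s < r, coeff s g = 0 := X_pow_dvd_iff.mp hg
  apply dvd_add (dvd_add ?_ ?_) ?_
  · have h1 : (X : PowerSeries k) ^ (r - n) ∣ shiftL n g := by
      rw [X_pow_dvd_iff]
      intro s hs
      rw [coeff_shiftL]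
      exact hcoef _ (by omega)
    have h2 := le_order_tw_sub H U hU a h1
    exact dvd_trans (pow_dvd_pow _ (by omega)) h2
  · apply Finset.dvd_sum
    intro m hm
    obtain ⟨hm1, hmn, _⟩ := mem_SS.mp hm
    by_cases hlt : n - m < r
    · rw [hcoef _ hlt, zero_smul]; exact dvd_zero _
    · have h3 := X_pow_dvd_c H U hU a c hc m hm1 hmn
      have h4 : (X : PowerSeries k) ^ r ∣ c m := dvd_trans (pow_dvd_pow _ (by omega)) h3
      obtain ⟨q, hq⟩ := h4
      exact ⟨coeff (n - m) g • q, by rw [hq, mul_smul_comm]⟩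
  · rw [X_pow_dvd_iff]
    intro s hs
    rw [coeff_projL, hcoef s hs]
    simp

theorem order_Psi_X_pow (j : ℕ) : (Psi H U a c (X ^ j)).order = (j : ℕ∞) := by
  rw [Psi_apply, shiftL_X_pow, projL_X_pow]
  have htw0 : tw H U a 0 = 0 := by unfold tw; rw [map_zero, mul_zero]
  have hQ : ∑ m ∈ SS p a n, coeff (n - m) ((X : PowerSeries k) ^ j) • c m =
      if (j < n ∧ (n - j) ∈ SS p a n) then c (n - j) else 0 := by
    split_ifs with hj
    · rw [Finset.sum_eq_single (n - j)]
      · rw [coeff_X_pow, if_pos (by omega), one_smul]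
      · intro m hm hne
        obtain ⟨hm1, hmn, _⟩ := mem_SS.mp hm
        rw [coeff_X_pow, if_neg (by omega), zero_smul]
      · intro hnot; exact absurd hj.2 hnot
    · apply Finset.sum_eq_zero
      intro m hm
      obtain ⟨hm1, hmn, _⟩ := mem_SS.mp hm
      rw [coeff_X_pow]
      split_ifs with h1
      · exfalso
        apply hj
        have : n - j = m := by omega
        exact ⟨by omega, by rw [this]; exact hm⟩
      · rw [zero_smul]
  rw [hQ]
  by_cases hd : (p : ℤ) ∣ a + j - n
  · -- projection part dominates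
    rw [if_pos hd]
    have hS : ¬ (j < n ∧ (n - j) ∈ SS p a n) := by
      rintro ⟨hjn, hmem⟩
      obtain ⟨_, _, hmp⟩ := mem_SS.mp hmem
      apply hmp
      have : a - ((n - j : ℕ) : ℤ) = a + j - n := by push_cast [hjn.le]; ring
      rwa [this]
    rw [if_neg hS, add_zero]
    by_cases hnj : n ≤ j
    · rw [if_pos hnj, add_comm]
      apply order_add_of_lt (order_X_pow j)
      have h0 : ((X : PowerSeries k) ^ (j - n)).order = ((j - n : ℕ) : ℕ∞) := order_X_pow _
      have h1 := (tw_rule H U hU a h0).2 (by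
        have : a + ((j - n : ℕ) : ℤ) = a + j - n := by push_cast [hnj]; ring
        rwa [this])
      rw [X_pow_dvd_iff_le_order]
      refine le_trans ?_ h1
      exact_mod_cast (by omega : j + 1 ≤ j - n + n + 1)
    · rw [if_neg hnj, htw0, sub_zero, zero_add, order_X_pow]
  · rw [if_neg hd, add_zero]
    by_cases hnj : n ≤ j
    · rw [if_pos hnj]
      have hS : ¬ (j < n ∧ (n - j) ∈ SS p a n) := by
        rintro ⟨hjn, _⟩; omega
      rw [if_neg hS, add_zero]
      have h0 : ((X : PowerSeries k) ^ (j - n)).order = ((j - n : ℕ) : ℕ∞) := order_X_pow _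
      have h1 := (tw_rule H U hU a h0).1 (by
        have : a + ((j - n : ℕ) : ℤ) = a + j - n := by push_cast [hnj]; ring
        rwa [this])
      rw [h1]
      congr 1
      omega
    · rw [if_neg hnj, htw0, sub_zero, zero_add]
      have hmem : (n - j) ∈ SS p a n := by
        rw [mem_SS]
        refine ⟨by omega, by omega, ?_⟩
        have : a - ((n - j : ℕ) : ℤ) = a + j - n := by push_cast [(by omega : j ≤ n)]; ring
        rwa [this]
      rw [if_pos ⟨by omega, hmem⟩, order_c H U hU a c hc _ hmem]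
      congr 1
      omega

theorem order_Psi (f : PowerSeries k) : (Psi H U a c f).order = f.order := by
  by_cases hf : f = 0
  · rw [hf, map_zero]
  · obtain ⟨r, hr⟩ := exists_order_eq hf
    obtain ⟨g, hg, rfl⟩ := order_eq_iff.mp hr
    have hg0 : constantCoeff g ≠ 0 := isUnit_iff_ne_zero.mp (isUnit_iff_constantCoeff.mp hg)
    have hdec := eq_X_mul_shift_add_const g
    set g' : PowerSeries k := mk fun q => coeff (q + 1) g with hg'
    have e : X ^ r * g = constantCoeff g • X ^ r + X ^ (r + 1) * g' := by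
      conv_lhs => rw [hdec]
      have : (C (constantCoeff g) : PowerSeries k) * X ^ r = constantCoeff g • X ^ r := by
        ext i; simp
      rw [mul_add, mul_comm (X ^ r) (C _), this, pow_succ]
      ring
    rw [hr, e, map_add, map_smul]
    apply order_add_of_lt
    · rw [order_smul_of_ne_zero hg0, order_Psi_X_pow H U hU a c hc]
    · exact Psi_dvd H U hU a c hc (r + 1) _ (Dvd.intro _ rfl)

/-- Spanning: every element of the kernel of the norm is a coboundary plus a combination
of the `c m`. -/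
theorem spanning (z : PowerSeries k) (hz : Nrm H U a z = 0) :
    ∃ (h : PowerSeries k) (coef : ℕ → k),
      z = (tw H U a h - h) + ∑ m ∈ SS p a n, coef m • c m := by
  obtain ⟨f, hf⟩ := surjective_of_order_eq (Psi H U a c) (order_Psi H U hU a c hc) z
  rw [Psi_apply] at hf
  set y := projL p a n f with hy
  refine ⟨shiftL n f, fun m => coeff (n - m) f, ?_⟩
  suffices hy0 : y = 0 by rw [← hf, hy0, add_zero]
  by_contra hne
  obtain ⟨r, hr⟩ := exists_order_eq hne
  -- y ∈ ker Nrm
  have hNy : Nrm H U a y = 0 := by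
    have e : y = z - (tw H U a (shiftL n f) - shiftL n f) -
        ∑ m ∈ SS p a n, coeff (n - m) f • c m := by rw [← hf]; ring
    have hlin : ∀ g h, Nrm H U a (g - h) = Nrm H U a g - Nrm H U a h := by
      intro g h
      unfold Nrm
      rw [← Finset.sum_sub_distrib]
      apply Finset.sum_congr rfl
      intro i _
      exact tw_iter_sub H U a i g h
    have hsmul : ∀ (κ : k) h, Nrm H U a (κ • h) = κ • Nrm H U a h := by
      intro κ h
      unfold Nrm
      rw [Finset.smul_sum]
      apply Finset.sum_congr rfl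
      intro i _
      exact tw_iter_smul H U a i κ h
    have hsum : Nrm H U a (∑ m ∈ SS p a n, coeff (n - m) f • c m) = 0 := by
      have hadd : ∀ g h, Nrm H U a (g + h) = Nrm H U a g + Nrm H U a h := by
        intro g h
        have := hlin g (-h)
        have hneg : Nrm H U a (-h) = - Nrm H U a h := by
          have := hsmul (-1 : k) h
          simpa using this
        rw [sub_neg_eq_add, hneg, sub_neg_eq_add] at this
        exact this
      have h0 : Nrm H U a 0 = 0 := by
        have := hsmul (0 : k) 0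
        simpa using this
      classical
      refine Finset.sum_induction _ (fun x => Nrm H U a x = 0) ?_ h0 ?_
      · intro x y hx hy
        rw [hadd, hx, hy, add_zero]
      · intro m hm
        obtain ⟨hm1, hmn, _⟩ := mem_SS.mp hm
        rw [hsmul, Nrm_c H U hU a m (c m) (hc m hm1 hmn), smul_zero]
    rw [e, hlin, hlin, hz, Nrm_tw_sub H U hU, hsum]
    simp
  have h1 := not_dvd_of_Nrm_eq_zero H U hU a hr hNy
  -- but the order of y is an index with p ∣ a + r - n
  have h2 : coeff r y ≠ 0 := (order_eq_nat.mp hr).1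
  rw [hy, coeff_projL] at h2
  by_cases hd : (p : ℤ) ∣ a + r - n
  · exact h1 hd
  · rw [if_neg hd] at h2
    exact h2 rfl

end Setup

end Groth.Agent.Lib.Helper8.ASCov
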