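import Groth.Agent.Lib.Helper8.CycH1

set_option autoImplicit false
set_option backward.isDefEq.respectTransparency.types false
set_option linter.unusedSectionVars false

namespace Groth.Agent.Lib.Helper8.CycH1

open groupCohomology CategoryTheory

universe u

variable {k G : Type u} [Field k] [Group G] (A : Rep.{u} k G) (g : G)
variable {d : ℕ} (hd : orderOf g = d) (hd0 : 0 < d) (hg : ∀ x : G, x ∈ Subgroup.zpowers g)
include hd hd0 hg

/-- the linear map from coefficient vectors to `H¹` -/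
noncomputable def LL {ι : Type} [Fintype ι] (c : ι → LinearMap.ker (F A g d)) :
    (ι → k) →ₗ[k] H1 A :=
  Theta A g hd hd0 hg ∘ₗ Fintype.linearCombination k c

theorem LL_apply {ι : Type} [Fintype ι] (c : ι → LinearMap.ker (F A g d)) (coef : ι → k) :
    LL A g hd hd0 hg c coef = Theta A g hd hd0 hg (∑ i, coef i • c i) := by
  unfold LL
  rw [LinearMap.comp_apply, Fintype.linearCombination_apply]

theorem LL_injective {ι : Type} [Fintype ι] (c : ι → LinearMap.ker (F A g d))
    (hindep : ∀ (coef : ι → k) (b : A.V), ∑ i, coef i • (c i).1 = A.ρ g b - b →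
      ∀ i, coef i = 0) : Function.Injective (LL A g hd hd0 hg c) := by
  rw [injective_iff_map_eq_zero]
  intro coef h0
  rw [LL_apply, Theta_eq_zero_iff] at h0
  obtain ⟨b, hb⟩ := h0
  funext i
  apply hindep coef b _ i
  rw [hb]
  simp

theorem Theta_coboundary (z : LinearMap.ker (F A g d)) (b : A.V) (hb : z.1 = A.ρ g b - b) :
    Theta A g hd hd0 hg z = 0 := by
  rw [Theta_eq_zero_iff]
  exact ⟨b, hb.symm⟩

theorem Theta_eq_LL {ι : Type} [Fintype ι] (c : ι → LinearMap.ker (F A g d))
    (z : LinearMap.ker (F A g d)) (b : A.V) (coef : ι → k)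
    (hz : z.1 = (A.ρ g b - b) + ∑ i, coef i • (c i).1) :
    Theta A g hd hd0 hg z = LL A g hd hd0 hg c coef := by
  rw [LL_apply]
  set s : LinearMap.ker (F A g d) := ∑ i, coef i • c i with hs
  have hs1 : s.1 = ∑ i, coef i • (c i).1 := by
    rw [hs]; simp
  have hw : (z - s).1 = A.ρ g b - b := by
    rw [Submodule.coe_sub, hz, hs1]; abel
  have h1 := Theta_coboundary A g hd hd0 hg (z - s) b hw
  rw [map_sub, sub_eq_zero] at h1
  exact h1

theorem finrank_H1 {ι : Type} [Fintype ι] (c : ι → LinearMap.ker (F A g d))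
    (hspan : ∀ z : LinearMap.ker (F A g d), ∃ (b : A.V) (coef : ι → k),
        z.1 = (A.ρ g b - b) + ∑ i, coef i • (c i).1)
    (hindep : ∀ (coef : ι → k) (b : A.V), ∑ i, coef i • (c i).1 = A.ρ g b - b →
      ∀ i, coef i = 0) :
    Module.Finite k (H1 A) ∧ Module.finrank k (H1 A) = Fintype.card ι := by
  have hinj := LL_injective A g hd hd0 hg c hindep
  have hsurj : Function.Surjective (LL A g hd hd0 hg c) := by
    intro x
    obtain ⟨z, rfl⟩ := Theta_surjective A g hd hd0 hg x
    obtain ⟨b, coef, hz⟩ := hspan z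
    exact ⟨coef, (Theta_eq_LL A g hd hd0 hg c z b coef hz).symm⟩
  set e := LinearEquiv.ofBijective (LL A g hd hd0 hg c) ⟨hinj, hsurj⟩ with he
  refine ⟨Module.Finite.equiv e, ?_⟩
  rw [← LinearEquiv.finrank_eq e, Module.finrank_fintype_fun_eq_card]

/-- naturality of the class map -/
theorem map_Theta {B : Rep.{u} k G} (φ : A ⟶ B) (z : LinearMap.ker (F A g d))
    (hz' : φ.hom z.1 ∈ LinearMap.ker (F B g d)) :
    ((groupCohomology.functor k G 1).map φ).hom (Theta A g hd hd0 hg z) =
      Theta B g hd hd0 hg ⟨φ.hom z.1, hz'⟩ := by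
  rw [Theta_apply, Theta_apply]
  have h1 := groupCohomology.H1π_comp_map_apply (MonoidHom.id G) φ (cocL A g hd hd0 hg z)
  change (groupCohomology.map (MonoidHom.id G) φ 1).hom _ = _
  rw [h1]
  congr 1
  rw [coc_eq B g hd hd0 hg (mapCocycles₁ (MonoidHom.id G) φ (cocL A g hd hd0 hg z))]
  congr 1
  apply Subtype.ext
  change φ.hom (cocL A g hd hd0 hg z g) = φ.hom z.1
  rw [cocL_gen]

theorem ker_map {B : Rep.{u} k G} (φ : A ⟶ B) (z : A.V) (hz : z ∈ LinearMap.ker (F A g d)) :
    φ.hom z ∈ LinearMap.ker (F B g d) := by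
  rw [LinearMap.mem_ker] at hz ⊢
  rw [F_apply] at hz ⊢
  have : ∀ l, B.ρ (g ^ l) (φ.hom z) = φ.hom (A.ρ (g ^ l) z) := fun l =>
    (Rep.hom_comm_apply φ (g ^ l) z).symm
  simp_rw [this]
  rw [← map_sum, hz, map_zero]

/-- the rank of the image of a map on `H¹` compatible with the class maps -/
theorem finrank_range_map_aux {B : Rep.{u} k G} (φ : A ⟶ B) {ι κ : Type} [Fintype ι] [Fintype κ]
    (Mφ : H1 A →ₗ[k] H1 B)
    (hM : ∀ (z : LinearMap.ker (F A g d)) (hz' : φ.hom z.1 ∈ LinearMap.ker (F B g d)),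
      Mφ (Theta A g hd hd0 hg z) = Theta B g hd hd0 hg ⟨φ.hom z.1, hz'⟩)
    (cA : ι → LinearMap.ker (F A g d))
    (hspanA : ∀ z : LinearMap.ker (F A g d), ∃ (b : A.V) (coef : ι → k),
        z.1 = (A.ρ g b - b) + ∑ i, coef i • (cA i).1)
    (cB : κ → LinearMap.ker (F B g d))
    (hindepB : ∀ (coef : κ → k) (b : B.V), ∑ j, coef j • (cB j).1 = B.ρ g b - b →
      ∀ j, coef j = 0)
    (hφ : ∀ i, ∃ (coef : κ → k) (b : B.V),
      φ.hom (cA i).1 = (B.ρ g b - b) + ∑ j, coef j • (cB j).1)
    (hhit : ∀ j, ∃ (z : LinearMap.ker (F A g d)) (b : B.V),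
      (cB j).1 = φ.hom z.1 + (B.ρ g b - b)) :
    Module.Finite k (LinearMap.range Mφ) ∧
      Module.finrank k (LinearMap.range Mφ) = Fintype.card κ := by
  have hinj := LL_injective B g hd hd0 hg cB hindepB
  have hrange : LinearMap.range Mφ = LinearMap.range (LL B g hd hd0 hg cB) := by
    apply le_antisymm
    · rintro _ ⟨x, rfl⟩
      obtain ⟨z, rfl⟩ := Theta_surjective A g hd hd0 hg x
      obtain ⟨b, coef, hz⟩ := hspanA z
      rw [Theta_eq_LL A g hd hd0 hg cA z b coef hz, LL_apply, map_sum, map_sum]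
      apply Submodule.sum_mem
      intro i _
      rw [map_smul, map_smul]
      apply Submodule.smul_mem
      rw [hM (cA i) (ker_map A g hd hd0 hg φ _ (cA i).2)]
      obtain ⟨coef', b', h'⟩ := hφ i
      rw [Theta_eq_LL B g hd hd0 hg cB _ b' coef' h']
      exact LinearMap.mem_range_self _ _
    · rintro _ ⟨coef, rfl⟩
      rw [LL_apply, map_sum]
      apply Submodule.sum_mem
      intro j _
      rw [map_smul]
      apply Submodule.smul_mem
      obtain ⟨z, b, hzb⟩ := hhit j
      have hz' := ker_map A g hd hd0 hg φ _ z.2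
      have h1 : Theta B g hd hd0 hg (cB j) = Theta B g hd hd0 hg ⟨φ.hom z.1, hz'⟩ := by
        have hw : (cB j - ⟨φ.hom z.1, hz'⟩ : LinearMap.ker (F B g d)).1 = B.ρ g b - b := by
          rw [Submodule.coe_sub, hzb]; abel
        have := Theta_coboundary B g hd hd0 hg _ b hw
        rw [map_sub, sub_eq_zero] at this
        exact this
      rw [h1, ← hM z hz']
      exact LinearMap.mem_range_self _ _
  rw [hrange]
  set e := LinearEquiv.ofInjective (LL B g hd hd0 hg cB) hinj with he
  refine ⟨Module.Finite.equiv e, ?_⟩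
  rw [← LinearEquiv.finrank_eq e, Module.finrank_fintype_fun_eq_card]

/-- the rank of the image of the map induced on `H¹` -/
theorem finrank_range_map {B : Rep.{u} k G} (φ : A ⟶ B) {ι κ : Type} [Fintype ι] [Fintype κ]
    (cA : ι → LinearMap.ker (F A g d))
    (hspanA : ∀ z : LinearMap.ker (F A g d), ∃ (b : A.V) (coef : ι → k),
        z.1 = (A.ρ g b - b) + ∑ i, coef i • (cA i).1)
    (cB : κ → LinearMap.ker (F B g d))
    (hindepB : ∀ (coef : κ → k) (b : B.V), ∑ j, coef j • (cB j).1 = B.ρ g b - b →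
      ∀ j, coef j = 0)
    (hφ : ∀ i, ∃ (coef : κ → k) (b : B.V),
      φ.hom (cA i).1 = (B.ρ g b - b) + ∑ j, coef j • (cB j).1)
    (hhit : ∀ j, ∃ (z : LinearMap.ker (F A g d)) (b : B.V),
      (cB j).1 = φ.hom z.1 + (B.ρ g b - b)) :
    Module.Finite k (LinearMap.range ((groupCohomology.functor k G 1).map φ).hom) ∧
      Module.finrank k (LinearMap.range ((groupCohomology.functor k G 1).map φ).hom) =
        Fintype.card κ :=
  finrank_range_map_aux A g hd hd0 hg φ ((groupCohomology.functor k G 1).map φ).hom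
    (fun z hz' => map_Theta A g hd hd0 hg φ z hz') cA hspanA cB hindepB hφ hhit

end Groth.Agent.Lib.Helper8.CycH1
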