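import Groth.Agent.Lib.Helper8.ASCov6
import Groth.Agent.Lib.Helper8.CycH1b

set_option autoImplicit false
set_option backward.isDefEq.respectTransparency.types false
set_option linter.unusedSectionVars false

namespace Groth.Agent.Lib.Helper8.ASCov

open PowerSeries
open Groth.Agent.Lib.Helper8.WildPS
open Groth.Agent.Lib.Helper8.CycH1

/-! ### counting -/

theorem card_D (p : ℕ) (hp : 0 < p) (a : ℤ) (n : ℕ) :
    (((Finset.Icc 1 n).filter (fun m : ℕ => (p : ℤ) ∣ a - (m : ℤ))).card : ℤ) =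
      (a - 1) / (p : ℤ) - (a - 1 - n) / (p : ℤ) := by
  have hp' : (0 : ℤ) < (p : ℤ) := by exact_mod_cast hp
  have h1 : ((Finset.Icc 1 n).filter (fun m : ℕ => (p : ℤ) ∣ a - (m : ℤ))).card =
      ((Finset.Ioc (a - 1 - n) (a - 1)).filter (fun x : ℤ => (p : ℤ) ∣ x)).card := by
    apply Finset.card_bij (fun (m : ℕ) _ => a - (m : ℤ))
    · intro m hm
      rw [Finset.mem_filter, Finset.mem_Icc] at hm
      rw [Finset.mem_filter, Finset.mem_Ioc]
      refine ⟨⟨?_, ?_⟩, hm.2⟩ <;> omega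
    · intro m₁ _ m₂ _ h
      have : (m₁ : ℤ) = m₂ := by linarith
      exact_mod_cast this
    · intro x hx
      rw [Finset.mem_filter, Finset.mem_Ioc] at hx
      refine ⟨(a - x).toNat, ?_, ?_⟩
      · rw [Finset.mem_filter, Finset.mem_Icc]
        have h0 : 0 ≤ a - x := by omega
        refine ⟨⟨?_, ?_⟩, ?_⟩
        · omega
        · omega
        · rw [Int.toNat_of_nonneg h0]
          have : a - (a - x) = x := by ring
          rw [this]; exact hx.2
      · have h0 : 0 ≤ a - x := by omega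
        rw [Int.toNat_of_nonneg h0]; ring
  rw [h1, Int.Ioc_filter_dvd_card _ _ hp']
  have e1 : ⌊((a - 1 : ℤ) : ℚ) / ((p : ℤ) : ℚ)⌋ = (a - 1) / (p : ℤ) := by
    rw [Int.cast_natCast]; exact Rat.floor_intCast_div_natCast _ _
  have e2 : ⌊((a - 1 - n : ℤ) : ℚ) / ((p : ℤ) : ℚ)⌋ = (a - 1 - n) / (p : ℤ) := by
    rw [Int.cast_natCast]; exact Rat.floor_intCast_div_natCast _ _
  rw [e1, e2]
  apply max_eq_left
  have : (a - 1 - n) / (p : ℤ) ≤ (a - 1) / (p : ℤ) :=
    Int.ediv_le_ediv hp' (by omega)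
  omega

theorem card_SS (p : ℕ) (hp : 0 < p) (a : ℤ) (n : ℕ) :
    ((SS p a n).card : ℤ) = n - (a - 1) / (p : ℤ) + (a - 1 - n) / (p : ℤ) := by
  have h1 := Finset.card_filter_add_card_filter_not (s := Finset.Icc 1 n)
    (fun m : ℕ => (p : ℤ) ∣ a - (m : ℤ))
  have h2 := card_D p hp a n
  have h3 : (Finset.Icc 1 n).card = n := by simp
  unfold SS
  have : (((Finset.Icc 1 n).filter (fun m : ℕ => (p : ℤ) ∣ a - (m : ℤ))).card : ℤ) +
      (((Finset.Icc 1 n).filter (fun m : ℕ => ¬ (p : ℤ) ∣ a - (m : ℤ))).card : ℤ) = n := by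
    rw [h3] at h1; exact_mod_cast h1
  linarith

variable {k : Type*} [Field k]

section Setup

variable {p : ℕ} [Fact p.Prime] [CharP k p] {n : ℕ} {u : PowerSeries k} (H : Hyp p n u)
include H

theorem exists_c (U : (PowerSeries k)ˣ) (hU : (U : PowerSeries k) = u) (a : ℤ) (m : ℕ)
    (hmn : m ≤ n) :
    ∃ c : PowerSeries k, X ^ m * c = ((U ^ (a - m) : (PowerSeries k)ˣ) : PowerSeries k) - 1 := by
  have h1 : (X : PowerSeries k) ^ (0 + n) ∣ tw H U (a - m) 1 - 1 :=
    le_order_tw_sub H U hU (a - m) (by simp)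
  rw [tw_one, zero_add] at h1
  have h2 : (X : PowerSeries k) ^ m ∣ X ^ n := pow_dvd_pow _ hmn
  obtain ⟨c, hc⟩ := dvd_trans h2 h1
  exact ⟨c, hc.symm⟩

/-- the cocycle representatives -/
noncomputable def cc (U : (PowerSeries k)ˣ) (hU : (U : PowerSeries k) = u) (a : ℤ) (m : ℕ) :
    PowerSeries k :=
  if hmn : m ≤ n then Classical.choose (exists_c H U hU a m hmn) else 0

theorem cc_spec (U : (PowerSeries k)ˣ) (hU : (U : PowerSeries k) = u) (a : ℤ) (m : ℕ)
    (hmn : m ≤ n) :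
    X ^ m * cc H U hU a m = ((U ^ (a - m) : (PowerSeries k)ˣ) : PowerSeries k) - 1 := by
  unfold cc
  rw [dif_pos hmn]
  exact Classical.choose_spec (exists_c H U hU a m hmn)

end Setup

end Groth.Agent.Lib.Helper8.ASCov
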