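import Groth.Agent.Lib.Helper8.ASCov7

set_option autoImplicit false
set_option backward.isDefEq.respectTransparency.types false
set_option linter.unusedSectionVars false

namespace Groth.Agent.Lib.Helper8.ASCov

open PowerSeries
open Groth.Agent.Lib.Helper8.WildPS
open Groth.Agent.Lib.Helper8.CycH1

universe u

section Main

variable {k : Type u} [Field k] {p : ℕ} [Fact p.Prime] [CharP k p] {n : ℕ} {u : PowerSeries k}
  (H : Hyp p n u) (U : (PowerSeries k)ˣ) (hU : (U : PowerSeries k) = u) (a : ℤ)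
  {G : Type u} [Group G] (g : G) (hG : Nat.card G = p)
  (hg : ∀ x : G, x ∈ Subgroup.zpowers g)
  (ρ : Representation k G (PowerSeries k))
  (hρ : ∀ h : PowerSeries k, ρ g h = tw H U a h)
include H hU hG hg hρ

theorem orderOf_gen : orderOf g = p := by
  rw [orderOf_eq_card_of_forall_mem_zpowers hg, hG]

omit hU hG hg in
theorem rho_pow (l : ℕ) (z : PowerSeries k) : ρ (g ^ l) z = (tw H U a)^[l] z := by
  induction l generalizing z with
  | zero => simp
  | succ l ih =>
    rw [pow_succ, map_mul, Module.End.mul_apply, ih, hρ, Function.iterate_succ_apply]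

omit hU hG hg in
theorem F_eq_Nrm (z : PowerSeries k) : F (Rep.of ρ) g p z = Nrm H U a z := by
  rw [F_apply]
  unfold Nrm
  apply Finset.sum_congr rfl
  intro l _
  exact rho_pow H U a g ρ hρ l z

/-- the representatives as elements of the kernel of the norm -/
noncomputable def cker (i : ↥(SS p a n)) : LinearMap.ker (F (Rep.of ρ) g p) :=
  ⟨cc H U hU a i.1, by
    rw [LinearMap.mem_ker, F_eq_Nrm H U a g ρ hρ]
    exact Nrm_c H U hU a i.1 _ (cc_spec H U hU a i.1 (mem_SS.mp i.2).2.1)⟩

theorem cker_val (i : ↥(SS p a n)) :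
    (cker H U hU a g ρ hρ i).1 = cc H U hU a i.1 := rfl

theorem span_cker (z : LinearMap.ker (F (Rep.of ρ) g p)) :
    ∃ (b : (Rep.of ρ).V) (coef : ↥(SS p a n) → k),
      z.1 = ((Rep.of ρ).ρ g b - b) + ∑ i, coef i • (cker H U hU a g ρ hρ i).1 := by
  have hz : Nrm H U a z.1 = 0 := by
    rw [← F_eq_Nrm H U a g ρ hρ]; exact LinearMap.mem_ker.mp z.2
  obtain ⟨h, coef, hh⟩ := spanning H U hU a (cc H U hU a)
    (fun m _ hmn => cc_spec H U hU a m hmn) z.1 hz
  refine ⟨h, fun i => coef i.1, ?_⟩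
  rw [hh]
  congr 1
  · change tw H U a h - h = ρ g h - h
    rw [hρ]
  · simp only [cker_val]
    exact (Finset.sum_coe_sort (SS p a n) (fun m => coef m • cc H U hU a m)).symm

theorem indep_cker (S : Finset ℕ) (hS : S ⊆ SS p a n) (coef : ↥S → k) (b : (Rep.of ρ).V)
    (hb : ∑ i : ↥S, coef i • cc H U hU a i.1 = (Rep.of ρ).ρ g b - b) : ∀ i, coef i = 0 := by
  classical
  set coef' : ℕ → k := fun m => if hm : m ∈ S then coef ⟨m, hm⟩ else 0 with hcoef'
  have h1 : tw H U a b - b = ∑ m ∈ S, coef' m • cc H U hU a m := by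
    have e : (Rep.of ρ).ρ g b - b = tw H U a b - b := by
      change ρ g b - b = _
      rw [hρ]
    rw [← e, ← hb, ← Finset.sum_coe_sort S (fun m => coef' m • cc H U hU a m)]
    apply Finset.sum_congr rfl
    intro i _
    rw [hcoef']
    simp only [dif_pos i.2]
  have h2 := coef_eq_zero H U hU a (cc H U hU a) (fun m _ hmn => cc_spec H U hU a m hmn)
    coef' b S (fun m hm => mem_SS.mp (hS hm)) h1
  intro i
  have := h2 i.1 i.2
  rw [hcoef'] at this
  simpa [dif_pos i.2] using this

theorem H1_main :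
    Module.Finite k (groupCohomology.H1 (Rep.of ρ)) ∧
      (Module.finrank k (groupCohomology.H1 (Rep.of ρ)) : ℤ) =
        n - (a - 1) / (p : ℤ) + (a - 1 - n) / (p : ℤ) := by
  have hd := orderOf_gen H U hU a g hG hg ρ hρ
  have hp0 : 0 < p := (Fact.out : p.Prime).pos
  have hmain := finrank_H1 (Rep.of ρ) g hd hp0 hg (cker H U hU a g ρ hρ)
    (span_cker H U hU a g hG hg ρ hρ)
    (fun coef b hb => indep_cker H U hU a g hG hg ρ hρ (SS p a n) (Finset.Subset.refl _) coef b
      hb)
  refine ⟨hmain.1, ?_⟩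
  rw [hmain.2, Fintype.card_coe, card_SS p hp0 a n]

end Main

end Groth.Agent.Lib.Helper8.ASCov
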