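import Groth.Agent.Lib.Helper8.ASCov8

set_option autoImplicit false
set_option backward.isDefEq.respectTransparency.types false
set_option linter.unusedSectionVars false

namespace Groth.Agent.Lib.Helper8.ASCov

open PowerSeries
open Groth.Agent.Lib.Helper8.WildPS
open Groth.Agent.Lib.Helper8.CycH1

universe u

theorem count_arith (p n : ℕ) (hp : 2 ≤ p) (hpn : ¬ p ∣ n) :
    (n : ℤ) - (n : ℤ) / (p : ℤ) + (-(n : ℤ)) / (p : ℤ) =
      (((n : ℤ) + 1) * ((p : ℤ) - 1)) / (p : ℤ) - 1 - ((n : ℤ) - 1) / (p : ℤ) := by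
  have hp' : (0 : ℤ) < (p : ℤ) := by exact_mod_cast (by omega : 0 < p)
  set q : ℤ := ((n / p : ℕ) : ℤ) with hq
  set r : ℤ := ((n % p : ℕ) : ℤ) with hr
  have hn : (n : ℤ) = p * q + r := by
    rw [hq, hr]; exact_mod_cast (Nat.div_add_mod n p).symm
  have hr1 : 1 ≤ r := by
    rw [hr]
    have : n % p ≠ 0 := fun h => hpn (Nat.dvd_of_mod_eq_zero h)
    exact_mod_cast Nat.one_le_iff_ne_zero.mpr this
  have hr2 : r < p := by rw [hr]; exact_mod_cast Nat.mod_lt n (by omega)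
  have d1 : (n : ℤ) / (p : ℤ) = q :=
    (Int.ediv_emod_unique hp').mpr ⟨by rw [hn]; ring, by omega, hr2⟩ |>.1
  have d2 : (-(n : ℤ)) / (p : ℤ) = -q - 1 :=
    ((Int.ediv_emod_unique hp' (r := p - r)).mpr ⟨by rw [hn]; ring, by omega, by omega⟩).1
  have d3 : ((n : ℤ) - 1) / (p : ℤ) = q :=
    ((Int.ediv_emod_unique hp' (r := r - 1)).mpr ⟨by rw [hn]; ring, by omega, by omega⟩).1
  have d4 : (((n : ℤ) + 1) * ((p : ℤ) - 1)) / (p : ℤ) = n - q :=
    ((Int.ediv_emod_unique hp' (r := p - 1 - r)).mpr ⟨by rw [hn]; ring, by omega, by omega⟩).1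
  rw [d1, d2, d3, d4]; ring

section Deriv

variable {k : Type u} [Field k] {p : ℕ} [Fact p.Prime] [CharP k p] {n : ℕ} {u : PowerSeries k}
  (H : Hyp p n u)
include H

theorem X_mul_deriv_u : X * d⁄dX k u = u ^ (n + 1) - u := by
  obtain ⟨n', rfl⟩ : ∃ n', n = n' + 1 := ⟨n - 1, by have := H.hn; omega⟩
  have hun := H.hun
  have hD := congrArg (d⁄dX k) hun
  rw [Derivation.leibniz, map_add, derivative_pow, derivative_pow, derivative_X,
    Derivation.map_one_eq_zero, smul_eq_mul, smul_eq_mul] at hD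
  simp only [Nat.add_sub_cancel, zero_add, mul_one] at hD
  set Du := d⁄dX k u with hDu
  set N : PowerSeries k := ((n' + 1 : ℕ) : PowerSeries k) with hN
  have hNne : N ≠ 0 := by
    have : N = C (((n' + 1 : ℕ) : ℕ) : k) := (map_natCast C (n' + 1)).symm
    rw [this]
    intro h0
    have : ((n' + 1 : ℕ) : k) = 0 := by
      have := congrArg constantCoeff h0
      simpa using this
    exact H.n_ne_zero this
  have key : N * (X * Du - (u ^ (n' + 1 + 1) - u)) = 0 := by
    linear_combination (X * u) * hD - (N * (u + X * Du)) * hun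
  have := (mul_eq_zero.mp key).resolve_left hNne
  exact sub_eq_zero.mp this

theorem deriv_cc (U : (PowerSeries k)ˣ) (hU : (U : PowerSeries k) = u) (m : ℕ) (hm1 : 1 ≤ m)
    (c c' : PowerSeries k)
    (hc : X ^ m * c = ((U ^ ((0 : ℤ) - m) : (PowerSeries k)ˣ) : PowerSeries k) - 1)
    (hc' : X ^ (m + 1) * c' = ((U ^ ((n : ℤ) - m) : (PowerSeries k)ˣ) : PowerSeries k) - 1) :
    d⁄dX k c = -((m : ℕ) : k) • c' := by
  obtain ⟨m₀, rfl⟩ : ∃ m₀, m = m₀ + 1 := ⟨m - 1, by omega⟩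
  set v : PowerSeries k := ((U ^ ((0 : ℤ) - (m₀ + 1 : ℕ)) : (PowerSeries k)ˣ) : PowerSeries k)
    with hv
  have hvu : v * u ^ (m₀ + 1) = 1 := by
    rw [hv, ← hU, ← Units.val_pow_eq_pow_val, ← Units.val_mul, ← zpow_natCast, ← zpow_add]
    simp
  have hv2 : ((U ^ ((n : ℤ) - (m₀ + 1 : ℕ)) : (PowerSeries k)ˣ) : PowerSeries k) = u ^ n * v := by
    rw [hv, ← hU, ← Units.val_pow_eq_pow_val, ← Units.val_mul, ← zpow_natCast, ← zpow_add]
    congr 2
  rw [hv2] at hc'
  have e3 := X_mul_deriv_u H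
  set Du := d⁄dX k u with hDu
  set Dc := d⁄dX k c with hDc
  set Dv := d⁄dX k v with hDv
  set M : PowerSeries k := ((m₀ + 1 : ℕ) : PowerSeries k) with hM
  have e1 : X ^ (m₀ + 1) * Dc + c * (M * X ^ m₀) = Dv := by
    have := congrArg (d⁄dX k) hc
    rw [Derivation.leibniz, derivative_pow, derivative_X, map_sub, Derivation.map_one_eq_zero,
      smul_eq_mul, smul_eq_mul] at this
    simp only [Nat.add_sub_cancel, mul_one, sub_zero] at this
    exact this
  have e2 : v * (M * u ^ m₀ * Du) + u ^ (m₀ + 1) * Dv = 0 := by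
    have := congrArg (d⁄dX k) hvu
    rw [Derivation.leibniz, derivative_pow, Derivation.map_one_eq_zero, smul_eq_mul,
      smul_eq_mul] at this
    simp only [Nat.add_sub_cancel] at this
    exact this
  have e4 : X * Dv = -(M * (u ^ n * v - v)) := by
    linear_combination (X * v) * e2 - (X * Dv) * hvu - (v ^ 2 * M * u ^ m₀) * e3
      - (v * M * (u ^ n - 1)) * hvu
  have e5 : X ^ (m₀ + 1 + 1) * (Dc + M * c') = 0 := by
    linear_combination X * e1 + e4 - M * hc + M * hc'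
  have e6 := (mul_eq_zero.mp e5).resolve_left (pow_ne_zero _ X_ne_zero)
  have e7 : Dc = -(M * c') := by linear_combination e6
  rw [e7, hM, neg_smul]
  congr 1
  rw [Nat.cast_smul_eq_nsmul k, nsmul_eq_mul]

end Deriv

end Groth.Agent.Lib.Helper8.ASCov
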