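import Mathlib
import Groth.Prelude.Def_Neron
import Groth.Agent.Lib.Helper18.TopDim
import Groth.Agent.Lib.Helper29.VA7

/-!
# One-dimensional closed irreducible subsets of a fibered surface are vertical or horizontal (helper8)
-/

set_option autoImplicit false
set_option linter.unusedSectionVars false
set_option linter.unusedVariables false
set_option linter.style.haveILetI false
universe u
open CategoryTheory CategoryTheory.Limits AlgebraicGeometry TopologicalSpace

namespace Groth.Agent.Lib.Helper8.ASa

section Top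

variable {T : Type u} [TopologicalSpace T]

/-- a chain of three irreducible closed sets inside `Y` forces `2 ≤ dim Y` -/
theorem two_le_dim_of_chain_subset (Y : Set T) (C0 C1 C2 : Set T)
    (h0 : IsIrreducible C0) (h0c : IsClosed C0) (h1 : IsIrreducible C1) (h1c : IsClosed C1)
    (h2 : IsIrreducible C2) (h2c : IsClosed C2) (h01 : C0 ⊂ C1) (h12 : C1 ⊂ C2) (h2Y : C2 ⊆ Y) :
    (2 : WithBot ℕ∞) ≤ topologicalKrullDim Y := by
  let a0 : IrreducibleCloseds T := ⟨C0, h0, h0c⟩
  let a1 : IrreducibleCloseds T := ⟨C1, h1, h1c⟩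
  let a2 : IrreducibleCloseds T := ⟨C2, h2, h2c⟩
  have l01 : a0 < a1 := by rw [← SetLike.coe_ssubset_coe]; exact h01
  have l12 : a1 < a2 := by rw [← SetLike.coe_ssubset_coe]; exact h12
  let s : LTSeries (IrreducibleCloseds T) :=
    ((RelSeries.singleton _ a0).snoc a1 (by simpa using l01)).snoc a2 (by simpa using l12)
  have hlast : (s.last : Set T) ⊆ Y := by
    have : s.last = a2 := by simp [s]
    rw [this]; exact h2Y
  have h := Groth.Agent.Lib.Helper18.TopDim.length_le_topologicalKrullDim_of_subset s Y hlast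
  have hlen : s.length = 2 := by simp [s]
  rw [hlen] at h
  exact_mod_cast h

/-- a chain of four irreducible closed sets forces `3 ≤ dim T` -/
theorem three_le_dim_of_chain (C0 C1 C2 C3 : Set T)
    (h0 : IsIrreducible C0) (h0c : IsClosed C0) (h1 : IsIrreducible C1) (h1c : IsClosed C1)
    (h2 : IsIrreducible C2) (h2c : IsClosed C2) (h3 : IsIrreducible C3) (h3c : IsClosed C3)
    (h01 : C0 ⊂ C1) (h12 : C1 ⊂ C2) (h23 : C2 ⊂ C3) :
    (3 : WithBot ℕ∞) ≤ topologicalKrullDim T := by
  let a0 : IrreducibleCloseds T := ⟨C0, h0, h0c⟩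
  let a1 : IrreducibleCloseds T := ⟨C1, h1, h1c⟩
  let a2 : IrreducibleCloseds T := ⟨C2, h2, h2c⟩
  let a3 : IrreducibleCloseds T := ⟨C3, h3, h3c⟩
  have l01 : a0 < a1 := by rw [← SetLike.coe_ssubset_coe]; exact h01
  have l12 : a1 < a2 := by rw [← SetLike.coe_ssubset_coe]; exact h12
  have l23 : a2 < a3 := by rw [← SetLike.coe_ssubset_coe]; exact h23
  let s : LTSeries (IrreducibleCloseds T) :=
    (((RelSeries.singleton _ a0).snoc a1 (by simpa using l01)).snoc a2 (by simpa using l12)).snoc a3
      (by simpa using l23)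
  have h := Order.LTSeries.length_le_krullDim s
  have hlen : s.length = 3 := by simp [s]
  rw [hlen] at h
  exact_mod_cast h

/-- a closed irreducible subset of positive dimension contains a strictly smaller closed
irreducible subset -/
theorem exists_ssubset_of_one_le_dim (D : Set T) (hD : IsClosed D)
    (h1 : (1 : WithBot ℕ∞) ≤ topologicalKrullDim D) :
    ∃ C : Set T, IsIrreducible C ∧ IsClosed C ∧ C ⊂ D := by
  obtain ⟨s, hs⟩ := Order.le_krullDim_iff.1 (show ((1 : ℕ) : WithBot ℕ∞) ≤ _ from h1)
  have hlt : s.head < s.last := by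
    apply LTSeries.strictMono s
    rw [Fin.lt_def]
    simp [hs]
  have hemb : Topology.IsClosedEmbedding (Subtype.val : D → T) := hD.isClosedEmbedding_subtypeVal
  refine ⟨Subtype.val '' (s.head : Set D), s.head.isIrreducible.image _ continuous_subtype_val.continuousOn,
    hemb.isClosedMap _ s.head.isClosed, ?_⟩
  rw [← SetLike.coe_ssubset_coe] at hlt
  refine ⟨?_, ?_⟩
  · rintro _ ⟨y, _, rfl⟩; exact y.2
  · intro hsub
    apply hlt.2
    intro y hy
    have hyD : (y : T) ∈ D := y.2
    obtain ⟨y', hy', hyy⟩ := hsub hyD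
    have : y' = y := Subtype.ext hyy
    rw [← this]; exact hy'

end Top

section Main

theorem main {R : Type u} [CommRing R] [IsDedekindDomain R]
    (hR : ¬ IsField R) (X : Over (Spec (CommRingCat.of R))) [IsIntegral X.left]
    (hdim : topologicalKrullDim X.left = 2) [Flat X.hom] (hproj : Neron.IsProjectiveOver R X)
    (D : Set X.left) (hD : IsClosed D) (hirr : IsIrreducible D) (hD1 : topologicalKrullDim D = 1) :
    (∃ s : (Spec (CommRingCat.of R) : Scheme.{u}), s.asIdeal.IsMaximal ∧ D ⊆ X.hom.base ⁻¹' {s} ∧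
        ∀ D' : Set X.left, IsIrreducible D' → D' ⊆ X.hom.base ⁻¹' {s} → D ⊆ D' → D' = D) ∨
      (∃ x : X.left, (X.hom.base x).asIdeal = ⊥ ∧
        (∀ z : X.left, (X.hom.base z).asIdeal = ⊥ → x ⤳ z → z = x) ∧ D = closure {x}) := by
  classical
  haveI : IsProper X.hom := by
    obtain ⟨n, i, hi, hcomp⟩ := hproj
    rw [← hcomp]
    haveI := Groth.Agent.Lib.Helper29.QCoh.isProper_toBase n (Spec (CommRingCat.of R))
    infer_instance
  have hclosedmap : IsClosedMap X.hom.base := X.hom.isClosedMap
  have hcont : Continuous X.hom.base := X.hom.continuous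
  obtain ⟨ξ, hξ⟩ := QuasiSober.sober hirr hD
  have hDξ : D = closure {ξ} := hξ.def.symm
  have hξD : ξ ∈ D := hξ.mem
  have hx0 : ∃ x0 : X.left, (X.hom.base x0).asIdeal = ⊥ := by
    have hgen := (Flat.generalizingMap (f := X.hom)).stableUnderGeneralization_range
    obtain ⟨x1⟩ : Nonempty X.left := inferInstance
    have hsp : (⟨⊥, Ideal.isPrime_bot⟩ : PrimeSpectrum R) ⤳ X.hom.base x1 :=
      (PrimeSpectrum.le_iff_specializes _ _).mp bot_le
    obtain ⟨x0, hx0⟩ := hgen hsp ⟨x1, rfl⟩
    refine ⟨x0, ?_⟩
    have : X.hom.base x0 = (⟨⊥, Ideal.isPrime_bot⟩ : PrimeSpectrum R) := hx0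
    rw [this]
  by_cases hbot : (X.hom.base ξ).asIdeal = ⊥
  · right
    refine ⟨ξ, hbot, ?_, hDξ⟩
    intro z hz hsp
    by_contra hne
    have hzD : z ∈ D := by
      rw [hDξ]; exact specializes_iff_mem_closure.mp hsp
    have hzcl : IsClosed ({z} : Set X.left) := by
      by_contra hnc
      have hne' : closure ({z} : Set X.left) ≠ {z} := fun h => hnc (h ▸ isClosed_closure)
      obtain ⟨w, hw, hwz⟩ : ∃ w ∈ closure ({z} : Set X.left), w ≠ z := by
        by_contra hcon
        push Not at hcon
        apply hne'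
        refine Set.Subset.antisymm (fun w hw => ?_) subset_closure
        rw [Set.mem_singleton_iff]; exact hcon w hw
      have h01 : closure ({w} : Set X.left) ⊂ closure {z} := by
        refine ⟨closure_minimal (Set.singleton_subset_iff.mpr hw) isClosed_closure, fun hsub => ?_⟩
        have hzw : z ∈ closure ({w} : Set X.left) := hsub (subset_closure rfl)
        have hinsep : Inseparable z w :=
          (specializes_iff_mem_closure.mpr hw).antisymm (specializes_iff_mem_closure.mpr hzw)
        exact hwz hinsep.eq.symm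
      have h12 : closure ({z} : Set X.left) ⊂ D := by
        refine ⟨closure_minimal (Set.singleton_subset_iff.mpr hzD) hD, fun hsub => ?_⟩
        have hgz : IsGenericPoint z D :=
          Set.Subset.antisymm (closure_minimal (Set.singleton_subset_iff.mpr hzD) hD) hsub
        exact hne (hgz.eq hξ)
      have := two_le_dim_of_chain_subset D (closure {w}) (closure {z}) D
        isIrreducible_singleton.closure isClosed_closure isIrreducible_singleton.closure
        isClosed_closure hirr hD h01 h12 subset_rfl
      rw [hD1] at this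
      exact absurd this (by decide)
    have hfz := hclosedmap _ hzcl
    rw [Set.image_singleton] at hfz
    have hmax := (PrimeSpectrum.isClosed_singleton_iff_isMaximal _).mp hfz
    rw [hz] at hmax
    exact hR (Ring.isField_iff_maximal_bot.mpr hmax)
  · left
    have smax : (X.hom.base ξ).asIdeal.IsMaximal :=
      Ideal.IsPrime.isMaximal (X.hom.base ξ).isPrime hbot
    have hFcl : IsClosed (X.hom.base ⁻¹' {X.hom.base ξ}) :=
      ((PrimeSpectrum.isClosed_singleton_iff_isMaximal _).mpr smax).preimage hcont
    have hDF : D ⊆ X.hom.base ⁻¹' {X.hom.base ξ} := by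
      rw [hDξ]
      exact closure_minimal (Set.singleton_subset_iff.mpr rfl) hFcl
    refine ⟨X.hom.base ξ, smax, hDF, ?_⟩
    intro D' hD' hD'F hDD'
    by_contra hne
    have hCF : closure D' ⊆ X.hom.base ⁻¹' {X.hom.base ξ} := closure_minimal hD'F hFcl
    have h12 : D ⊂ closure D' := by
      refine ⟨hDD'.trans subset_closure, fun hsub => ?_⟩
      exact hne (Set.Subset.antisymm (subset_closure.trans hsub) hDD')
    obtain ⟨x0, hx0⟩ := hx0
    have h23 : closure D' ⊂ (Set.univ : Set X.left) := by
      refine ⟨Set.subset_univ _, fun hsub => ?_⟩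
      have : x0 ∈ X.hom.base ⁻¹' {X.hom.base ξ} := hCF (hsub (Set.mem_univ x0))
      have h1 : X.hom.base x0 = X.hom.base ξ := this
      rw [h1] at hx0
      exact hbot hx0
    obtain ⟨C0, hC0irr, hC0cl, hC0D⟩ := exists_ssubset_of_one_le_dim D hD (by rw [hD1])
    have := three_le_dim_of_chain C0 D (closure D') Set.univ hC0irr hC0cl hirr hD hD'.closure
      isClosed_closure (IrreducibleSpace.isIrreducible_univ _) isClosed_univ hC0D h12 h23
    rw [hdim] at this
    exact absurd this (by decide)

end Main

end Groth.Agent.Lib.Helper8.ASa
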