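import Mathlib
import Groth.Prelude.Def_Neron
import Groth.Prelude.Def_ModelsG
import Groth.Agent.Lib.Helper23.FibCompGD
import Groth.Agent.Lib.Helper29.VA7

/-!
# Counting fibre components through a point along a finite surjective morphism onto a normal
fibered surface (helper8)
-/

set_option autoImplicit false
set_option linter.unusedSectionVars false
set_option linter.unusedVariables false
set_option linter.style.haveILetI false
universe u
open CategoryTheory CategoryTheory.Limits AlgebraicGeometry TopologicalSpace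

namespace Groth.Agent.Lib.Helper8.ASb

/-- in a noetherian space, the maximal irreducible subsets of a closed set are finitely many -/
theorem finite_maximal_irreducible {α : Type*} [TopologicalSpace α] [NoetherianSpace α]
    (F : Set α) (hF : IsClosed F) :
    {Γ : Set α | Maximal (fun S : Set α => IsIrreducible S ∧ S ⊆ F) Γ}.Finite := by
  obtain ⟨S, hSf, hSc, hSi, hS⟩ := NoetherianSpace.exists_finite_set_isClosed_irreducible hF
  refine hSf.subset fun Γ hΓ => ?_
  have hΓ' : Maximal (fun S : Set α => IsIrreducible S ∧ S ⊆ F) Γ := hΓ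
  lift S to Finset (Set α) using hSf
  have hsub : Γ ⊆ ⋃₀ (S : Set (Set α)) := by rw [← hS]; exact hΓ'.prop.2
  obtain ⟨t, htS, ht⟩ := isIrreducible_iff_sUnion_isClosed.1 hΓ'.prop.1 S hSc hsub
  have htF : t ⊆ F := by rw [hS]; exact Set.subset_sUnion_of_mem htS
  have : Γ = t := Set.Subset.antisymm ht (hΓ'.le_of_ge ⟨hSi t htS, htF⟩ ht)
  rw [this]; exact htS

theorem noetherianSpace_of_projective {R : Type u} [CommRing R] [IsNoetherianRing R]
    (X : Over (Spec (CommRingCat.of R))) (hproj : Neron.IsProjectiveOver R X) :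
    NoetherianSpace X.left := by
  haveI : IsProper X.hom := by
    obtain ⟨n, i, hi, hcomp⟩ := hproj
    rw [← hcomp]
    haveI := Groth.Agent.Lib.Helper29.QCoh.isProper_toBase n (Spec (CommRingCat.of R))
    infer_instance
  haveI : IsNoetherianRing (CommRingCat.of R) := (inferInstance : IsNoetherianRing R)
  haveI : IsLocallyNoetherian X.left := LocallyOfFiniteType.isLocallyNoetherian X.hom
  haveI : CompactSpace X.left := QuasiCompact.compactSpace_of_compactSpace X.hom
  haveI : IsNoetherian X.left := { }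
  infer_instance

theorem main (R : Type u) [CommRing R] [IsDomain R] [IsDiscreteValuationRing R]
    (X Y : Over (Spec (CommRingCat.of R))) [IsIntegral X.left] [IsIntegral Y.left]
    (hpX : Neron.IsProjectiveOver R X)
    (hnor : ∀ q : Y.left, IsIntegrallyClosed (Y.left.presheaf.stalk q))
    (f : X ⟶ Y) [IsFinite f.left] [Surjective f.left]
    (y : Y.left)
    (x : X.left) (hx : f.left.base x = y) :
    {Z : Set Y.left | Z ∈ Models.fibreComponents R Y ∧ y ∈ Z}.ncard ≤
      {Z : Set X.left | Z ∈ Models.fibreComponents R X ∧ x ∈ Z}.ncard := by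
  classical
  haveI := noetherianSpace_of_projective X hpX
  have hFX : Models.specialFibreSet R X = f.left.base ⁻¹' (Models.specialFibreSet R Y) := by
    unfold Models.specialFibreSet
    rw [← Set.preimage_comp, ← Over.w f]
    rfl
  have hZn : ∀ z : Y.left, IsDomain (Y.left.presheaf.stalk z) ∧
      IsIntegrallyClosed (Y.left.presheaf.stalk z) := fun z => ⟨inferInstance, hnor z⟩
  have key : ∀ Δ : Set Y.left, Δ ∈ Models.fibreComponents R Y → y ∈ Δ →
      ∃ Γ ∈ Models.fibreComponents R X, x ∈ Γ ∧ f.left.base '' Γ = Δ := by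
    intro Δ hΔ hyΔ
    obtain ⟨Γ, hΓ, hxΓ, hΓΔ⟩ := Groth.Agent.Lib.Helper23.FibCompGD.topo (f.left.base)
      f.left.continuous f.left.isClosedMap
      (Models.specialFibreSet R Y) (Models.isClosed_specialFibreSet R Y)
      (Groth.Agent.Lib.Helper23.FibCompGD.exists_generization f.left hZn) Δ hΔ x
      (by rw [hx]; exact hyΔ)
    refine ⟨Γ, ?_, hxΓ, hΓΔ⟩
    change Maximal (fun S : Set X.left => IsIrreducible S ∧ S ⊆ Models.specialFibreSet R X) Γ
    rw [hFX]
    exact hΓ
  have hfin : {Z : Set X.left | Z ∈ Models.fibreComponents R X ∧ x ∈ Z}.Finite :=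
    (finite_maximal_irreducible (Models.specialFibreSet R X)
      (Models.isClosed_specialFibreSet R X)).subset fun Z hZ => hZ.1
  let g : Set Y.left → Set X.left := fun Δ =>
    if h : Δ ∈ Models.fibreComponents R Y ∧ y ∈ Δ then (key Δ h.1 h.2).choose else ∅
  refine Set.ncard_le_ncard_of_injOn g ?_ ?_ hfin
  · intro Δ hΔ
    have hΔ' : Δ ∈ Models.fibreComponents R Y ∧ y ∈ Δ := hΔ
    have hs := (key Δ hΔ'.1 hΔ'.2).choose_spec
    simp only [g, dif_pos hΔ']
    exact ⟨hs.1, hs.2.1⟩
  · intro Δ₁ h₁ Δ₂ h₂ h12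
    have h₁' : Δ₁ ∈ Models.fibreComponents R Y ∧ y ∈ Δ₁ := h₁
    have h₂' : Δ₂ ∈ Models.fibreComponents R Y ∧ y ∈ Δ₂ := h₂
    have hs1 := (key Δ₁ h₁'.1 h₁'.2).choose_spec
    have hs2 := (key Δ₂ h₂'.1 h₂'.2).choose_spec
    simp only [g, dif_pos h₁', dif_pos h₂'] at h12
    rw [← hs1.2.2, ← hs2.2.2, h12]

end Groth.Agent.Lib.Helper8.ASb
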