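import Mathlib.AlgebraicGeometry.AffineScheme
import Mathlib.AlgebraicGeometry.Morphisms.Immersion
import Mathlib.AlgebraicGeometry.Morphisms.ClosedImmersion
import Mathlib.AlgebraicGeometry.Morphisms.Affine
import Mathlib.RingTheory.Ideal.Operations

set_option autoImplicit false
universe u

namespace Groth.Agent.Lib.Helper8

open AlgebraicGeometry CategoryTheory

/-- A finite subset of an open subset of a prime spectrum lies in a basic open inside it
(prime avoidance). -/
lemma exists_basicOpen_of_finite {R : Type*} [CommRing R]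
    (U : TopologicalSpace.Opens (PrimeSpectrum R)) (s : Set (PrimeSpectrum R)) (hs : s.Finite)
    (hsU : s ⊆ U) :
    ∃ f : R, s ⊆ PrimeSpectrum.basicOpen f ∧ PrimeSpectrum.basicOpen f ≤ U := by
  classical
  obtain ⟨I, hI⟩ := (PrimeSpectrum.isClosed_iff_zeroLocus_ideal _).mp U.isOpen.isClosed_compl
  rcases s.eq_empty_or_nonempty with rfl | ⟨x₀, hx₀⟩
  · refine ⟨0, Set.empty_subset _, ?_⟩
    intro x hx
    exact absurd (Submodule.zero_mem _) hx
  have hnot : ¬ ((I : Set R) ⊆ ⋃ x ∈ (hs.toFinset : Set (PrimeSpectrum R)), (x.asIdeal : Set R)) := by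
    rw [Ideal.subset_union_prime (f := fun x : PrimeSpectrum R => x.asIdeal) x₀ x₀
      (fun x _ _ _ => x.isPrime)]
    rintro ⟨x, hx, hIx⟩
    have hxs : x ∈ s := by simpa using hx
    have hxU : x ∈ (U : Set (PrimeSpectrum R)) := hsU hxs
    have : x ∈ (U : Set (PrimeSpectrum R))ᶜ := by
      rw [hI]
      exact hIx
    exact this hxU
  obtain ⟨f, hfI, hf⟩ := Set.not_subset.mp hnot
  refine ⟨f, ?_, ?_⟩
  · intro x hx hfx
    apply hf
    simp only [Set.mem_iUnion]
    exact ⟨x, by simpa using hx, hfx⟩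
  · intro x hx
    by_contra hxU
    have : x ∈ (U : Set (PrimeSpectrum R))ᶜ := hxU
    rw [hI] at this
    exact hx (this hfI)

/-- A finite set of points of a scheme immersed in `Spec R` lies in an affine open. -/
lemma exists_affineOpen_of_finite_of_isImmersion_Spec {X : Scheme.{u}} {R : CommRingCat.{u}}
    (ι : X ⟶ Spec R) [IsImmersion ι] (E : Set X) (hE : E.Finite) :
    ∃ U : X.Opens, IsAffineOpen U ∧ E ⊆ U := by
  obtain ⟨f, hf1, hf2⟩ := exists_basicOpen_of_finite (R := R) ι.coborderRange (ι '' E)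
    (hE.image _) (by rintro _ ⟨e, _, rfl⟩; exact subset_coborder ⟨e, rfl⟩)
  have hD : IsAffineOpen (X := Spec R) (PrimeSpectrum.basicOpen f) := IsAffineOpen.Spec_basicOpen f
  have h1 : IsAffineOpen (ι.coborderRange.ι ⁻¹ᵁ (PrimeSpectrum.basicOpen f)) :=
    hD.preimage_of_isOpenImmersion ι.coborderRange.ι (by rw [Scheme.Opens.opensRange_ι]; exact hf2)
  have h2 := h1.preimage ι.liftCoborder
  refine ⟨ι ⁻¹ᵁ (PrimeSpectrum.basicOpen f), ?_, ?_⟩
  · rw [← Scheme.Hom.comp_preimage, ι.liftCoborder_ι] at h2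
    exact h2
  · intro e he
    exact hf1 ⟨e, he, rfl⟩

/-- A finite set of points of a scheme immersed in an affine scheme lies in an affine open. -/
lemma exists_affineOpen_of_finite_of_isImmersion_affine {X Y : Scheme.{u}} [IsAffine Y]
    (ι : X ⟶ Y) [IsImmersion ι] (E : Set X) (hE : E.Finite) :
    ∃ U : X.Opens, IsAffineOpen U ∧ E ⊆ U :=
  exists_affineOpen_of_finite_of_isImmersion_Spec (ι ≫ Y.isoSpec.hom) E hE

end Groth.Agent.Lib.Helper8
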