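import Mathlib

set_option autoImplicit false
set_option linter.unusedSectionVars false
set_option backward.isDefEq.respectTransparency.types false

/-!
# Characters of the additive group in characteristic `p`: coefficient analysis

`Star q c` is the multiplicativity relation `C(i+j,i) c(i+j) = c i c j` for `i, j < q`.
`PP p n a = ∏_{k<n} Ep (a k) k` is the product of truncated exponentials.  Main results:
`coeff_eq_of_star` (a sequence with `Star (p^n)` has the coefficients of `PP p n a`, `a k = c (p^k)`),
`pow_eq_zero_of_star`, and `aeval_PP_add` (`PP` is a character when `a k ^ p = 0`).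
-/

universe u

namespace Groth.Agent.Lib.Helper8.GaCh

open Polynomial

variable (p : ℕ) [hp : Fact p.Prime] {A : Type u} [CommRing A] [CharP A p]

/-- truncated exponential `Σ_{j<p} a^j/j! X^(j p^n)` -/
noncomputable def Ep (a : A) (n : ℕ) : A[X] :=
  ∑ j ∈ Finset.range p, C (Ring.inverse (j.factorial : A) * a ^ j) * X ^ (j * p ^ n)

/-- product of truncated exponentials -/
noncomputable def PP (n : ℕ) (a : ℕ → A) : A[X] := ∏ k ∈ Finset.range n, Ep p (a k) k

/-- bounded multiplicativity relation on a coefficient sequence -/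
def Star (q : ℕ) (c : ℕ → A) : Prop :=
  ∀ i j, i < q → j < q → (((i + j).choose i : ℕ) : A) * c (i + j) = c i * c j

lemma isUnit_factorial {j : ℕ} (hj : j < p) : IsUnit ((j.factorial : ℕ) : A) := by
  rw [CharP.isUnit_natCast_iff hp.out]
  rw [hp.out.dvd_factorial]
  omega

lemma Ep_expand (a : A) (n : ℕ) : expand A p (Ep p a n) = Ep p a (n + 1) := by
  unfold Ep
  rw [map_sum]
  refine Finset.sum_congr rfl fun j _ => ?_
  rw [map_mul, expand_C, map_pow, expand_X, ← pow_mul]
  congr 2
  rw [pow_succ]; ring

lemma PP_succ (n : ℕ) (a : ℕ → A) :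
    PP p (n + 1) a = Ep p (a 0) 0 * expand A p (PP p n (fun k => a (k + 1))) := by
  unfold PP
  rw [Finset.prod_range_succ', mul_comm, map_prod]
  congr 1
  refine Finset.prod_congr rfl fun k _ => ?_
  rw [Ep_expand]

lemma coeff_Ep_zero (a : A) (m : ℕ) :
    (Ep p a 0).coeff m = if m < p then Ring.inverse (m.factorial : A) * a ^ m else 0 := by
  unfold Ep
  simp only [pow_zero, mul_one, finset_sum_coeff, coeff_C_mul, coeff_X_pow]
  split_ifs with hm
  · rw [Finset.sum_eq_single m]
    · simp
    · intro j _ hjm
      simp [hjm.symm]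
    · intro h; exact absurd (Finset.mem_range.2 hm) h
  · refine Finset.sum_eq_zero fun j hj => ?_
    have : m ≠ j := by
      have := Finset.mem_range.1 hj
      omega
    simp [this]

lemma natDegree_Ep_zero_lt (a : A) : (Ep p a 0).natDegree < p := by
  have hp0 : 0 < p := hp.out.pos
  rw [Nat.lt_iff_le_pred hp0]
  rw [natDegree_le_iff_coeff_eq_zero]
  intro m hm
  rw [coeff_Ep_zero, if_neg]
  omega

/-- coefficient of `E * Q(X^p)` for `deg E < p` -/
lemma coeff_mul_expand (E Q : A[X]) (hE : E.natDegree < p) (m : ℕ) :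
    (E * expand A p Q).coeff m = E.coeff (m % p) * Q.coeff (m / p) := by
  have hp0 : 0 < p := hp.out.pos
  rw [coeff_mul]
  rw [Finset.sum_eq_single (m % p, m - m % p)]
  · simp only
    rw [coeff_expand hp0, if_pos (Nat.dvd_sub_mod m)]
    congr 2
    have h1 : m - m % p = p * (m / p) := by
      have := Nat.mod_add_div m p
      omega
    rw [h1, Nat.mul_div_cancel_left _ hp0]
  · rintro ⟨x, y⟩ hxy hne
    have hxy := Finset.HasAntidiagonal.mem_antidiagonal.1 hxy
    simp only at hxy
    simp only
    by_cases hx : x < p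
    · rw [coeff_expand hp0]
      split_ifs with hdvd
      · exfalso
        apply hne
        have hxm : x = m % p := by
          obtain ⟨t, ht⟩ := hdvd
          rw [← hxy, ht, Nat.add_mul_mod_self_left, Nat.mod_eq_of_lt hx]
        rw [Prod.mk.injEq]
        refine ⟨hxm, ?_⟩
        omega
      · rw [mul_zero]
    · rw [coeff_eq_zero_of_natDegree_lt (by omega), zero_mul]
  · intro h
    exfalso
    apply h
    apply Finset.HasAntidiagonal.mem_antidiagonal.2
    simp only
    have := Nat.mod_le m p
    omega

lemma natDegree_PP_lt (n : ℕ) (a : ℕ → A) : (PP p n a).natDegree < p ^ n := by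
  have hp0 : 0 < p := hp.out.pos
  induction n generalizing a with
  | zero => simp [PP]
  | succ n ih =>
    rw [PP_succ]
    have h1 := natDegree_Ep_zero_lt p (a 0)
    have h2 := ih (fun k => a (k + 1))
    have h3 : (expand A p (PP p n fun k => a (k + 1))).natDegree =
        (PP p n fun k => a (k + 1)).natDegree * p := natDegree_expand p _
    have h4 := natDegree_mul_le (p := Ep p (a 0) 0) (q := expand A p (PP p n fun k => a (k + 1)))
    rw [h3] at h4
    have h5 : (PP p n fun k => a (k + 1)).natDegree * p + p ≤ p ^ n * p := by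
      have : (PP p n fun k => a (k + 1)).natDegree + 1 ≤ p ^ n := h2
      calc (PP p n fun k => a (k + 1)).natDegree * p + p
          = ((PP p n fun k => a (k + 1)).natDegree + 1) * p := by ring
        _ ≤ p ^ n * p := Nat.mul_le_mul_right p this
    rw [pow_succ]
    omega

lemma coeff_PP_succ (n : ℕ) (a : ℕ → A) (m : ℕ) :
    (PP p (n + 1) a).coeff m =
      (Ep p (a 0) 0).coeff (m % p) * (PP p n (fun k => a (k + 1))).coeff (m / p) := by
  rw [PP_succ, coeff_mul_expand p _ _ (natDegree_Ep_zero_lt p _)]

section Core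

variable {p}
variable {c : ℕ → A} {n : ℕ}

lemma star_mono {q q' : ℕ} (h : q ≤ q') (hc : Star q' c) : Star q c :=
  fun i j hi hj => hc i j (lt_of_lt_of_le hi h) (lt_of_lt_of_le hj h)

lemma lt_pow_succ : p ≤ p ^ (n + 1) := by
  have hp1 : 1 ≤ p := hp.out.one_lt.le
  calc p = p ^ 1 := (pow_one p).symm
    _ ≤ p ^ (n + 1) := Nat.pow_le_pow_right hp1 (by omega)

/-- `j! c(j) = c(1)^j` for `j < p` -/
lemma factorial_mul (hc0 : c 0 = 1) (hc : Star (p ^ (n + 1)) c) :
    ∀ j, j < p → ((j.factorial : ℕ) : A) * c j = c 1 ^ j := by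
  have hpp := lt_pow_succ (p := p) (n := n)
  have hp2 := hp.out.two_le
  intro j
  induction j with
  | zero => intro _; simp [hc0]
  | succ j ih =>
    intro hj
    have h := hc 1 j (by omega) (by omega)
    rw [Nat.add_comm 1 j, Nat.choose_one_right] at h
    rw [Nat.factorial_succ, Nat.cast_mul, pow_succ, ← ih (by omega)]
    linear_combination ((j.factorial : ℕ) : A) * h

lemma coeff_small (hc0 : c 0 = 1) (hc : Star (p ^ (n + 1)) c) {j : ℕ} (hj : j < p) :
    c j = Ring.inverse ((j.factorial : ℕ) : A) * c 1 ^ j := by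
  rw [← factorial_mul hc0 hc j hj, ← mul_assoc, Ring.inverse_mul_cancel _ (isUnit_factorial p hj),
    one_mul]

/-- `c(1)^p = 0` -/
lemma pow_one_eq_zero (hc0 : c 0 = 1) (hc : Star (p ^ (n + 1)) c) : c 1 ^ p = 0 := by
  have hpp := lt_pow_succ (p := p) (n := n)
  have hp2 := hp.out.two_le
  have h := hc 1 (p - 1) (by omega) (by omega)
  have hp1 : 1 + (p - 1) = p := by omega
  rw [hp1, Nat.choose_one_right, CharP.cast_eq_zero, zero_mul] at h
  have h2 := factorial_mul hc0 hc (p - 1) (by omega)
  have : c 1 ^ p = c 1 * c 1 ^ (p - 1) := by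
    rw [← pow_succ']; congr 1; omega
  rw [this, ← h2]
  linear_combination (-((p - 1).factorial : ℕ) : A) * h

/-- `c(j + p i) = c(j) c(p i)` for `j < p` -/
lemma coeff_split (hc : Star (p ^ (n + 1)) c) {j i : ℕ} (hj : j < p) (hi : i < p ^ n) :
    c (j + p * i) = c j * c (p * i) := by
  have hpp := lt_pow_succ (p := p) (n := n)
  have hpi : p * i < p ^ (n + 1) := by
    rw [pow_succ, mul_comm]
    exact Nat.mul_lt_mul_of_pos_right hi hp.out.pos
  have h := hc j (p * i) (by omega) hpi
  have hch : (((j + p * i).choose j : ℕ) : A) = 1 := by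
    have hl := Choose.choose_modEq_choose_mod_mul_choose_div_nat (p := p) (n := j + p * i) (k := j)
    rw [Nat.add_mul_mod_self_left, Nat.mod_eq_of_lt hj, Nat.choose_self, one_mul,
      Nat.div_eq_of_lt hj, Nat.choose_zero_right] at hl
    have := CharP.natCast_eq_natCast' A p hl
    rw [this, Nat.cast_one]
  rw [hch, one_mul] at h
  exact h

/-- the contracted sequence again satisfies the relation -/
lemma star_contract (hc : Star (p ^ (n + 1)) c) : Star (p ^ n) (fun i => c (p * i)) := by
  intro i j hi hj
  have hpi : ∀ i, i < p ^ n → p * i < p ^ (n + 1) := by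
    intro i hi
    rw [pow_succ, mul_comm]
    exact Nat.mul_lt_mul_of_pos_right hi hp.out.pos
  have h := hc (p * i) (p * j) (hpi i hi) (hpi j hj)
  have hch : (((p * i + p * j).choose (p * i) : ℕ) : A) = (((i + j).choose i : ℕ) : A) := by
    have hl := Choose.choose_modEq_choose_mod_mul_choose_div_nat (p := p) (n := p * i + p * j)
      (k := p * i)
    rw [← Nat.mul_add, Nat.mul_mod_right, Nat.mul_mod_right, Nat.choose_self, one_mul,
      Nat.mul_div_cancel_left _ hp.out.pos, Nat.mul_div_cancel_left _ hp.out.pos] at hl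
    rw [← Nat.mul_add]
    exact CharP.natCast_eq_natCast' A p hl
  rw [hch] at h
  simp only
  rw [Nat.mul_add]
  exact h

/-- **Core lemma**: a sequence with the bounded relation has the coefficients of `PP`. -/
theorem coeff_eq_of_star : ∀ (n : ℕ) (c : ℕ → A), c 0 = 1 → Star (p ^ n) c →
    ∀ m, m < p ^ n → c m = (PP p n (fun k => c (p ^ k))).coeff m := by
  intro n
  induction n with
  | zero =>
    intro c hc0 _ m hm
    have : m = 0 := by simpa using hm
    subst this
    simp [PP, hc0]
  | succ n ih =>
    intro c hc0 hc m hm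
    have hp0 : 0 < p := hp.out.pos
    have hmp : m % p < p := Nat.mod_lt _ hp0
    have hmd : m / p < p ^ n := by
      rw [Nat.div_lt_iff_lt_mul hp0, ← pow_succ]; exact hm
    rw [coeff_PP_succ, coeff_Ep_zero, if_pos hmp]
    have hc' := star_contract hc
    have hc0' : (fun i => c (p * i)) 0 = 1 := by simp [hc0]
    have h1 := ih (fun i => c (p * i)) hc0' hc' (m / p) hmd
    have h2 : (fun k => (fun i => c (p * i)) (p ^ k)) = fun k => c (p ^ (k + 1)) := by
      funext k
      simp only
      rw [pow_succ, mul_comm]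
    rw [h2] at h1
    rw [← h1]
    simp only [pow_zero]
    rw [← coeff_small hc0 hc hmp]
    have := coeff_split hc hmp hmd
    rw [Nat.mod_add_div] at this
    exact this

/-- `c (p^k) ^ p = 0` for `k < n` -/
theorem pow_eq_zero_of_star : ∀ (n : ℕ) (c : ℕ → A), c 0 = 1 → Star (p ^ n) c →
    ∀ k, k < n → c (p ^ k) ^ p = 0 := by
  intro n
  induction n with
  | zero => intro c _ _ k hk; omega
  | succ n ih =>
    intro c hc0 hc k hk
    rcases Nat.eq_zero_or_pos k with rfl | hkpos
    · rw [pow_zero]; exact pow_one_eq_zero hc0 hc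
    · have hc' := star_contract hc
      have hc0' : (fun i => c (p * i)) 0 = 1 := by simp [hc0]
      have := ih (fun i => c (p * i)) hc0' hc' (k - 1) (by omega)
      rw [← pow_succ'] at this
      rwa [show k - 1 + 1 = k by omega] at this

end Core

end Groth.Agent.Lib.Helper8.GaCh
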