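import Mathlib
import Groth.Agent.Lib.Helper8.GaCh1
import Groth.Agent.Lib.Helper29.GaChar

set_option autoImplicit false
set_option linter.unusedSectionVars false
set_option backward.isDefEq.respectTransparency.types false

/-!
# Characters of the additive group in characteristic `p`: polynomial side
-/

universe u

namespace Groth.Agent.Lib.Helper8.GaCh

open Polynomial

section Coeff

variable {A : Type u} [CommRing A]

/-- coercion of two-variable polynomials to power series as an algebra hom
(as in `Groth.Agent.S13356`, helper29) -/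
noncomputable def coeAlgHom (A : Type u) [CommRing A] :
    MvPolynomial (Fin 2) A →ₐ[A] MvPowerSeries (Fin 2) A :=
  { MvPolynomial.coeToMvPowerSeries.ringHom with
    commutes' := fun r => by
      change ((MvPolynomial.C r : MvPolynomial (Fin 2) A) : MvPowerSeries (Fin 2) A) = _
      rw [MvPolynomial.coe_C]
      rfl }

lemma coeAlgHom_apply (φ : MvPolynomial (Fin 2) A) :
    coeAlgHom A φ = (φ : MvPowerSeries (Fin 2) A) := rfl

lemma coe_aeval_add (f : A[X]) :
    ((Polynomial.aeval (MvPolynomial.X 0 + MvPolynomial.X 1 : MvPolynomial (Fin 2) A) f :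
      MvPolynomial (Fin 2) A) : MvPowerSeries (Fin 2) A) =
    PowerSeries.subst (MvPowerSeries.X 0 + MvPowerSeries.X 1 : MvPowerSeries (Fin 2) A)
      (f : PowerSeries A) := by
  rw [PowerSeries.subst_coe ((PowerSeries.HasSubst.X 0).add (PowerSeries.HasSubst.X 1))]
  rw [← coeAlgHom_apply, ← Polynomial.aeval_algHom_apply, map_add, coeAlgHom_apply,
    coeAlgHom_apply, MvPolynomial.coe_X, MvPolynomial.coe_X]

lemma coe_aeval_X (f : A[X]) (s : Fin 2) :
    ((Polynomial.aeval (MvPolynomial.X s : MvPolynomial (Fin 2) A) f :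
      MvPolynomial (Fin 2) A) : MvPowerSeries (Fin 2) A) =
    PowerSeries.subst (MvPowerSeries.X s : MvPowerSeries (Fin 2) A) (f : PowerSeries A) := by
  rw [PowerSeries.subst_coe (PowerSeries.HasSubst.X s)]
  rw [← coeAlgHom_apply, ← Polynomial.aeval_algHom_apply, coeAlgHom_apply, MvPolynomial.coe_X]

lemma coeff_aeval_add (f : A[X]) (e : Fin 2 →₀ ℕ) :
    MvPolynomial.coeff e
      (Polynomial.aeval (MvPolynomial.X 0 + MvPolynomial.X 1 : MvPolynomial (Fin 2) A) f) =
    (((e 0 + e 1).choose (e 0) : ℕ) : A) * f.coeff (e 0 + e 1) := by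
  rw [← MvPolynomial.coeff_coe, coe_aeval_add,
    Groth.Agent.Lib.Helper29.GaChar.coeff_subst_add, Polynomial.coeff_coe]

lemma coeff_aeval_mul (f : A[X]) (e : Fin 2 →₀ ℕ) :
    MvPolynomial.coeff e
      (Polynomial.aeval (MvPolynomial.X 0 : MvPolynomial (Fin 2) A) f *
        Polynomial.aeval (MvPolynomial.X 1 : MvPolynomial (Fin 2) A) f) =
    f.coeff (e 0) * f.coeff (e 1) := by
  rw [← MvPolynomial.coeff_coe, MvPolynomial.coe_mul, coe_aeval_X, coe_aeval_X,
    Groth.Agent.Lib.Helper29.GaChar.coeff_subst_mul, Polynomial.coeff_coe, Polynomial.coeff_coe]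

/-- the polynomial `f` is a character of the additive group -/
def IsChar (f : A[X]) : Prop :=
  Polynomial.aeval (MvPolynomial.X 0 + MvPolynomial.X 1 : MvPolynomial (Fin 2) A) f =
    Polynomial.aeval (MvPolynomial.X 0 : MvPolynomial (Fin 2) A) f *
      Polynomial.aeval (MvPolynomial.X 1 : MvPolynomial (Fin 2) A) f

lemma isChar_iff (f : A[X]) : IsChar f ↔
    ∀ i j : ℕ, (((i + j).choose i : ℕ) : A) * f.coeff (i + j) = f.coeff i * f.coeff j := by
  unfold IsChar
  constructor
  · intro h i j
    have := congrArg (MvPolynomial.coeff (Finsupp.single 0 i + Finsupp.single 1 j)) h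
    rw [coeff_aeval_add, coeff_aeval_mul] at this
    simpa using this
  · intro h
    ext e
    rw [coeff_aeval_add, coeff_aeval_mul]
    exact h (e 0) (e 1)

lemma IsChar.one : IsChar (1 : A[X]) := by
  unfold IsChar; simp

lemma IsChar.mul {f g : A[X]} (hf : IsChar f) (hg : IsChar g) : IsChar (f * g) := by
  unfold IsChar at *
  rw [map_mul, map_mul, map_mul, hf, hg]
  ring

lemma IsChar.prod {ι : Type*} (s : Finset ι) (f : ι → A[X]) (h : ∀ i ∈ s, IsChar (f i)) :
    IsChar (∏ i ∈ s, f i) := by
  classical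
  induction s using Finset.induction_on with
  | empty => simpa using IsChar.one
  | insert a s ha ih =>
    rw [Finset.prod_insert ha]
    exact (h a (Finset.mem_insert_self _ _)).mul
      (ih fun i hi => h i (Finset.mem_insert_of_mem hi))

end Coeff

variable (p : ℕ) [hp : Fact p.Prime] {A : Type u} [CommRing A] [CharP A p]

lemma IsChar.expand_pow {f : A[X]} (hf : IsChar f) (n : ℕ) : IsChar (expand A (p ^ n) f) := by
  unfold IsChar at *
  haveI : CharP (MvPolynomial (Fin 2) A) p := inferInstance
  rw [expand_aeval, expand_aeval, expand_aeval, add_pow_char_pow]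
  let φ : MvPolynomial (Fin 2) A →ₐ[A] MvPolynomial (Fin 2) A :=
    MvPolynomial.aeval (fun i => (MvPolynomial.X i : MvPolynomial (Fin 2) A) ^ p ^ n)
  have h0 : φ (MvPolynomial.X 0) = MvPolynomial.X 0 ^ p ^ n := by simp [φ]
  have h1 : φ (MvPolynomial.X 1) = MvPolynomial.X 1 ^ p ^ n := by simp [φ]
  have := congrArg φ hf
  rw [map_mul, ← Polynomial.aeval_algHom_apply, ← Polynomial.aeval_algHom_apply,
    ← Polynomial.aeval_algHom_apply, map_add, h0, h1] at this
  exact this

lemma Ep_eq_expand (a : A) (n : ℕ) : Ep p a n = expand A (p ^ n) (Ep p a 0) := by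
  induction n with
  | zero => rw [pow_zero, expand_one]
  | succ n ih =>
    rw [← Ep_expand, ih, expand_expand, pow_succ']

lemma isChar_Ep_zero (a : A) (ha : a ^ p = 0) : IsChar (Ep p a 0) := by
  rw [isChar_iff]
  intro i j
  rw [coeff_Ep_zero, coeff_Ep_zero, coeff_Ep_zero]
  by_cases hij : i + j < p
  · have hi : i < p := by omega
    have hj : j < p := by omega
    rw [if_pos hij, if_pos hi, if_pos hj]
    have hu := isUnit_factorial (A := A) p hij
    have hui := isUnit_factorial (A := A) p hi
    have huj := isUnit_factorial (A := A) p hj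
    have hfac : ((((i + j).choose i : ℕ) : A)) * ((i.factorial : ℕ) : A) * ((j.factorial : ℕ) : A) =
        (((i + j).factorial : ℕ) : A) := by
      have := Nat.add_choose_mul_factorial_mul_factorial i j
      rw [← this, Nat.choose_symm_add]; push_cast; ring
    apply hu.mul_left_cancel
    have e1 : (((i + j).factorial : ℕ) : A) * Ring.inverse (((i + j).factorial : ℕ) : A) = 1 :=
      Ring.mul_inverse_cancel _ hu
    have e2 : ((i.factorial : ℕ) : A) * Ring.inverse ((i.factorial : ℕ) : A) = 1 :=
      Ring.mul_inverse_cancel _ hui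
    have e3 : ((j.factorial : ℕ) : A) * Ring.inverse ((j.factorial : ℕ) : A) = 1 :=
      Ring.mul_inverse_cancel _ huj
    calc (((i + j).factorial : ℕ) : A) * ((((i + j).choose i : ℕ) : A) *
          (Ring.inverse (((i + j).factorial : ℕ) : A) * a ^ (i + j)))
        = (((i + j).factorial : ℕ) : A) * Ring.inverse (((i + j).factorial : ℕ) : A) *
            ((((i + j).choose i : ℕ) : A)) * a ^ (i + j) := by ring
      _ = ((((i + j).choose i : ℕ) : A)) * a ^ (i + j) := by rw [e1, one_mul]
      _ = ((((i + j).choose i : ℕ) : A)) *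
            (((i.factorial : ℕ) : A) * Ring.inverse ((i.factorial : ℕ) : A)) *
            (((j.factorial : ℕ) : A) * Ring.inverse ((j.factorial : ℕ) : A)) * a ^ (i + j) := by
          rw [e2, e3, mul_one, mul_one]
      _ = (((((i + j).choose i : ℕ) : A)) * ((i.factorial : ℕ) : A) * ((j.factorial : ℕ) : A)) *
            (Ring.inverse ((i.factorial : ℕ) : A) * a ^ i *
              (Ring.inverse ((j.factorial : ℕ) : A) * a ^ j)) := by
          rw [pow_add]; ring
      _ = _ := by rw [hfac]
  · rw [if_neg hij, mul_zero]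
    by_cases hi : i < p
    · by_cases hj : j < p
      · rw [if_pos hi, if_pos hj]
        have : a ^ i * a ^ j = 0 := by
          rw [← pow_add, show i + j = p + (i + j - p) by omega, pow_add, ha, zero_mul]
        symm
        calc _ = Ring.inverse ((i.factorial : ℕ) : A) * Ring.inverse ((j.factorial : ℕ) : A) *
              (a ^ i * a ^ j) := by ring
          _ = 0 := by rw [this, mul_zero]
      · rw [if_neg hj, mul_zero]
    · rw [if_neg hi, zero_mul]

lemma isChar_PP (n : ℕ) (a : ℕ → A) (ha : ∀ k, a k ^ p = 0) : IsChar (PP p n a) := by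
  unfold PP
  refine IsChar.prod _ _ fun k _ => ?_
  rw [Ep_eq_expand]
  exact (isChar_Ep_zero p (a k) (ha k)).expand_pow p k

lemma coeff_zero_Ep (a : A) (n : ℕ) : (Ep p a n).coeff 0 = 1 := by
  have h := coeff_expand_mul' (pow_pos hp.out.pos n) (Ep p a 0) 0
  rw [mul_zero] at h
  rw [Ep_eq_expand, h, coeff_Ep_zero, if_pos hp.out.pos]
  simp

lemma coeff_zero_PP (n : ℕ) (a : ℕ → A) : (PP p n a).coeff 0 = 1 := by
  unfold PP
  induction n with
  | zero => simp
  | succ n ih =>
    rw [Finset.prod_range_succ, mul_coeff_zero, ih, coeff_zero_Ep, mul_one]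

/-- the coefficients of a character of degree `< p^n` are those of `PP` -/
theorem eq_PP_of_star (n : ℕ) (f : A[X]) (hdeg : f.natDegree < p ^ n) (h0 : f.coeff 0 = 1)
    (hstar : Star (p ^ n) f.coeff) :
    ∃ a : ℕ → A, (∀ k, a k ^ p = 0) ∧ f = PP p n a := by
  refine ⟨fun k => if k < n then f.coeff (p ^ k) else 0, ?_, ?_⟩
  · intro k
    by_cases hk : k < n
    · simp only [if_pos hk]
      exact pow_eq_zero_of_star n f.coeff h0 hstar k hk
    · simp only [if_neg hk]
      exact zero_pow hp.out.ne_zero
  · have hPP : PP p n (fun k => if k < n then f.coeff (p ^ k) else 0) =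
        PP p n (fun k => f.coeff (p ^ k)) := by
      unfold PP
      refine Finset.prod_congr rfl fun k hk => ?_
      simp only [if_pos (Finset.mem_range.1 hk)]
    rw [hPP]
    ext m
    by_cases hm : m < p ^ n
    · exact coeff_eq_of_star n f.coeff h0 hstar m hm
    · rw [coeff_eq_zero_of_natDegree_lt (by omega),
        coeff_eq_zero_of_natDegree_lt (lt_of_lt_of_le (natDegree_PP_lt p n _) (by omega))]


omit hp [CharP A p] in
lemma coeff_eq_zero_of_mem_span (q : ℕ) (g : MvPolynomial (Fin 2) A)
    (hg : g ∈ Ideal.span {(MvPolynomial.X 0 ^ q : MvPolynomial (Fin 2) A), MvPolynomial.X 1 ^ q})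
    (e : Fin 2 →₀ ℕ) (h0 : e 0 < q) (h1 : e 1 < q) : MvPolynomial.coeff e g = 0 := by
  classical
  obtain ⟨u, v, rfl⟩ := Ideal.mem_span_pair.1 hg
  rw [MvPolynomial.coeff_add, MvPolynomial.X_pow_eq_monomial, MvPolynomial.X_pow_eq_monomial,
    MvPolynomial.coeff_mul_monomial', MvPolynomial.coeff_mul_monomial', if_neg, if_neg, add_zero]
  · intro h
    have := h 1
    simp at this
    omega
  · intro h
    have := h 0
    simp at this
    omega

omit hp [CharP A p] in
/-- the relation `Star q` from multiplicativity modulo `(X₀^q, X₁^q)` -/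
lemma star_of_quotient (q : ℕ) (f : A[X])
    (hmul : Ideal.Quotient.mk
        (Ideal.span {(MvPolynomial.X 0 ^ q : MvPolynomial (Fin 2) A), MvPolynomial.X 1 ^ q})
        (Polynomial.aeval (MvPolynomial.X 0 + MvPolynomial.X 1 : MvPolynomial (Fin 2) A) f) =
      Ideal.Quotient.mk
        (Ideal.span {(MvPolynomial.X 0 ^ q : MvPolynomial (Fin 2) A), MvPolynomial.X 1 ^ q})
        (Polynomial.aeval (MvPolynomial.X 0 : MvPolynomial (Fin 2) A) f *
          Polynomial.aeval (MvPolynomial.X 1 : MvPolynomial (Fin 2) A) f)) :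
    Star q f.coeff := by
  intro i j hi hj
  have hmem := Ideal.Quotient.eq.1 hmul
  have := coeff_eq_zero_of_mem_span q _ hmem (Finsupp.single 0 i + Finsupp.single 1 j)
    (by simpa using hi) (by simpa using hj)
  rw [MvPolynomial.coeff_sub, coeff_aeval_add, coeff_aeval_mul, sub_eq_zero] at this
  simpa using this

end Groth.Agent.Lib.Helper8.GaCh
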