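import Mathlib
import Groth.Agent.Lib.Helper8.GaCh2
import Groth.Agent.Lib.Helper8.Lazard2
import Groth.Prelude.Def_AlphaPn
import Groth.Prelude.Def_SekSuwa

set_option autoImplicit false
set_option linter.unusedSectionVars false
set_option backward.isDefEq.respectTransparency.types false

/-!
# Group-like elements of `A[x]/(x^(p^n))` lift to `A[t]`
-/

universe u

namespace Groth.Agent.Lib.Helper8.AlphaLift

open Polynomial TensorProduct
open Groth.Agent.Lib.Helper8.GaCh

section General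

variable {A : Type u} [CommRing A] {B : Type u} [CommRing B] [Algebra A B]

/-- the algebra map `A[X₀,X₁] → B ⊗ B`, `X₀ ↦ b ⊗ 1`, `X₁ ↦ 1 ⊗ b` -/
noncomputable def psi (b : B) : MvPolynomial (Fin 2) A →ₐ[A] B ⊗[A] B :=
  MvPolynomial.aeval ![b ⊗ₜ[A] (1 : B), (1 : B) ⊗ₜ[A] b]

lemma psi_X0 (b : B) : psi (A := A) b (MvPolynomial.X 0) = b ⊗ₜ[A] (1 : B) := by
  simp [psi]

lemma psi_X1 (b : B) : psi (A := A) b (MvPolynomial.X 1) = (1 : B) ⊗ₜ[A] b := by
  simp [psi]

lemma psi_aeval_add (b : B) (f : A[X]) :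
    psi (A := A) b (Polynomial.aeval (MvPolynomial.X 0 + MvPolynomial.X 1 :
      MvPolynomial (Fin 2) A) f) = Polynomial.aeval (b ⊗ₜ[A] (1 : B) + (1 : B) ⊗ₜ[A] b) f := by
  rw [← Polynomial.aeval_algHom_apply, map_add, psi_X0, psi_X1]

lemma psi_aeval_mul (b : B) (f : A[X]) :
    psi (A := A) b (Polynomial.aeval (MvPolynomial.X 0 : MvPolynomial (Fin 2) A) f *
      Polynomial.aeval (MvPolynomial.X 1 : MvPolynomial (Fin 2) A) f) =
      (Polynomial.aeval b f) ⊗ₜ[A] (Polynomial.aeval b f) := by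
  rw [map_mul, ← Polynomial.aeval_algHom_apply, ← Polynomial.aeval_algHom_apply, psi_X0, psi_X1]
  have h1 : Polynomial.aeval (b ⊗ₜ[A] (1 : B)) f = (Polynomial.aeval b f) ⊗ₜ[A] (1 : B) := by
    have := Polynomial.aeval_algHom_apply (Algebra.TensorProduct.includeLeft : B →ₐ[A] B ⊗[A] B) b f
    simpa using this
  have h2 : Polynomial.aeval ((1 : B) ⊗ₜ[A] b) f = (1 : B) ⊗ₜ[A] (Polynomial.aeval b f) := by
    have := Polynomial.aeval_algHom_apply (Algebra.TensorProduct.includeRight : B →ₐ[A] B ⊗[A] B) b f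
    simpa using this
  rw [h1, h2, Algebra.TensorProduct.tmul_mul_tmul, mul_one, one_mul]

lemma psi_monomial (b : B) (e : Fin 2 →₀ ℕ) (c : A) :
    psi (A := A) b (MvPolynomial.monomial e c) = c • ((b ^ e 0) ⊗ₜ[A] (b ^ e 1)) := by
  unfold psi
  rw [MvPolynomial.aeval_monomial, Finsupp.prod_fintype _ _ (fun i => by simp), Fin.prod_univ_two,
    Algebra.smul_def]
  simp [Algebra.TensorProduct.tmul_pow]

/-- the functional `c₁ ⊗ c₂` on the tensor product -/
noncomputable def ell (c₁ c₂ : B →ₗ[A] A) : B ⊗[A] B →ₗ[A] A :=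
  (TensorProduct.lid A A).toLinearMap ∘ₗ TensorProduct.map c₁ c₂

lemma ell_tmul (c₁ c₂ : B →ₗ[A] A) (x y : B) : ell c₁ c₂ (x ⊗ₜ[A] y) = c₁ x * c₂ y := by
  simp [ell]

/-- if `c₁ (b^a) = [a = i]` and `c₂ (b^a) = [a = j]` then `ell ∘ psi` is the `(i,j)` coefficient -/
lemma ell_psi (b : B) (c₁ c₂ : B →ₗ[A] A) (i j : ℕ)
    (h1 : ∀ a, c₁ (b ^ a) = if a = i then 1 else 0)
    (h2 : ∀ a, c₂ (b ^ a) = if a = j then 1 else 0) (P : MvPolynomial (Fin 2) A) :
    ell c₁ c₂ (psi (A := A) b P) =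
      MvPolynomial.coeff (Finsupp.single 0 i + Finsupp.single 1 j) P := by
  classical
  induction P using MvPolynomial.induction_on' with
  | add P Q hP hQ => rw [map_add, map_add, hP, hQ, MvPolynomial.coeff_add]
  | monomial e c =>
    rw [psi_monomial, map_smul, ell_tmul, h1, h2, MvPolynomial.coeff_monomial, smul_eq_mul]
    have key : e = Finsupp.single 0 i + Finsupp.single 1 j ↔ e 0 = i ∧ e 1 = j :=
      Groth.Agent.Lib.Helper8.Lazard.eq_e2_iff e i j
    simp only [key]
    by_cases h0 : e 0 = i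
    · by_cases h1' : e 1 = j
      · simp [h0, h1']
      · simp [h1']
    · simp [h0]

end General

variable (p : ℕ) [hp : Fact p.Prime] (A : Type u) [CommRing A] [CharP A p] (n : ℕ)

/-- coordinate functionals on `A[x]/(x^(p^n))` -/
lemma exists_coord (i : ℕ) (hi : i < p ^ n) :
    ∃ c : AlphaPn.A p n A →ₗ[A] A, ∀ a, c (AlphaPn.x p n A ^ a) = if a = i then 1 else 0 := by
  classical
  haveI : Nontrivial A := CharP.nontrivial_of_char_ne_one (R := A) hp.out.ne_one
  refine ⟨(AlphaPn.basis p n A).coord ⟨i, hi⟩, fun a => ?_⟩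
  by_cases ha : a < p ^ n
  · have : AlphaPn.x p n A ^ a = AlphaPn.basis p n A ⟨a, ha⟩ := by rw [AlphaPn.basis_apply]
    rw [this, Module.Basis.coord_apply, Module.Basis.repr_self, Finsupp.single_apply]
    by_cases hai : a = i
    · subst hai; simp
    · rw [if_neg hai, if_neg]
      intro h
      exact hai (congrArg Fin.val h)
  · rw [AlphaPn.x_pow_of_le p n A (not_lt.1 ha), map_zero, if_neg]
    omega

/-- a group-like element of `A[x]/(x^(p^n))` is the class of a polynomial of degree `< p^n`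
satisfying the bounded multiplicativity relation -/
lemma exists_poly_of_groupLike (u : AlphaPn.A p n A) (hu : IsGroupLikeElem A u) :
    ∃ f : A[X], f.natDegree < p ^ n ∧ f.coeff 0 = 1 ∧ Star (p ^ n) f.coeff ∧
      Polynomial.aeval (AlphaPn.x p n A) f = u := by
  classical
  haveI : Nontrivial A := CharP.nontrivial_of_char_ne_one (R := A) hp.out.ne_one
  obtain ⟨f₀, hf₀⟩ := AlphaPn.mk_surjective p n A u
  have hmonic : ((X : A[X]) ^ (p ^ n)).Monic := monic_X_pow _
  set f := f₀ %ₘ (X : A[X]) ^ (p ^ n) with hf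
  have hfu : Polynomial.aeval (AlphaPn.x p n A) f = u := by
    rw [AlphaPn.aeval_x, ← hf₀]
    have h1 := Polynomial.modByMonic_add_div f₀ ((X : A[X]) ^ (p ^ n))
    have h2 : AlphaPn.mk p n A ((X : A[X]) ^ (p ^ n)) = 0 := by
      rw [map_pow, AlphaPn.mk_X, AlphaPn.x_pow]
    conv_rhs => rw [← h1]
    rw [map_add, map_mul, h2, zero_mul, add_zero]
  have hdeg : f.natDegree < p ^ n := by
    have h1 : ((X : A[X]) ^ (p ^ n)) ≠ 1 := by
      intro h
      have := congrArg Polynomial.natDegree h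
      rw [natDegree_X_pow, natDegree_one] at this
      exact (pow_pos hp.out.pos n).ne' this
    have := Polynomial.natDegree_modByMonic_lt f₀ hmonic h1
    rwa [natDegree_X_pow] at this
  refine ⟨f, hdeg, ?_, ?_, hfu⟩
  · -- counit
    have h1 := hu.counit_eq_one
    rw [← hfu] at h1
    have h2 : Coalgebra.counit (R := A) (Polynomial.aeval (AlphaPn.x p n A) f) =
        Polynomial.aeval (Coalgebra.counit (R := A) (AlphaPn.x p n A)) f :=
      (Polynomial.aeval_algHom_apply (Bialgebra.counitAlgHom A (AlphaPn.A p n A))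
        (AlphaPn.x p n A) f).symm
    rw [h2, AlphaPn.counit_x, ← Polynomial.coeff_zero_eq_aeval_zero] at h1
    exact h1
  · -- comultiplication
    intro i j hi hj
    obtain ⟨c₁, hc₁⟩ := exists_coord p A n i hi
    obtain ⟨c₂, hc₂⟩ := exists_coord p A n j hj
    have h1 := hu.comul_eq_tmul_self
    rw [← hfu] at h1
    have h2 : Coalgebra.comul (R := A) (Polynomial.aeval (AlphaPn.x p n A) f) =
        Polynomial.aeval (Coalgebra.comul (R := A) (AlphaPn.x p n A)) f :=
      (Polynomial.aeval_algHom_apply (Bialgebra.comulAlgHom A (AlphaPn.A p n A))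
        (AlphaPn.x p n A) f).symm
    rw [h2, AlphaPn.comul_x, ← psi_aeval_add, ← psi_aeval_mul] at h1
    have h3 := congrArg (ell c₁ c₂) h1
    rw [ell_psi _ _ _ i j hc₁ hc₂, ell_psi _ _ _ i j hc₁ hc₂, coeff_aeval_add, coeff_aeval_mul] at h3
    simpa using h3

/-- **Lifting of group-like elements.** -/
theorem exists_lift (φ : SekSuwa.A A 0 →ₐc[A] AlphaPn.A p n A)
    (hφ : φ SekSuwa.A.t = AlphaPn.x p n A)
    (u : AlphaPn.A p n A) (hu : IsGroupLikeElem A u) :
    ∃ g : SekSuwa.A A 0, IsGroupLikeElem A g ∧ φ g = u := by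
  obtain ⟨f, hdeg, h0, hstar, hfu⟩ := exists_poly_of_groupLike p A n u hu
  obtain ⟨a, ha, rfl⟩ := eq_PP_of_star p n f hdeg h0 hstar
  have hchar : IsChar (PP p n a) := isChar_PP p n a ha
  set f := PP p n a with hf
  set t : SekSuwa.A A 0 := SekSuwa.A.t with ht
  refine ⟨Polynomial.aeval t f, ⟨?_, ?_⟩, ?_⟩
  · have h2 : Coalgebra.counit (R := A) (Polynomial.aeval t f) =
        Polynomial.aeval (Coalgebra.counit (R := A) t) f :=
      (Polynomial.aeval_algHom_apply (Bialgebra.counitAlgHom A (SekSuwa.A A 0)) t f).symm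
    rw [h2, ht, SekSuwa.A.counit_t, ← Polynomial.coeff_zero_eq_aeval_zero, h0]
  · have h2 : Coalgebra.comul (R := A) (Polynomial.aeval t f) =
        Polynomial.aeval (Coalgebra.comul (R := A) t) f :=
      (Polynomial.aeval_algHom_apply (Bialgebra.comulAlgHom A (SekSuwa.A A 0)) t f).symm
    rw [h2, ht, SekSuwa.A.comul_t, zero_smul, add_zero, ← psi_aeval_add, ← psi_aeval_mul]
    exact congrArg _ hchar
  · have h2 : φ (Polynomial.aeval t f) = Polynomial.aeval (φ t) f :=
      (Polynomial.aeval_algHom_apply (φ : SekSuwa.A A 0 →ₐ[A] AlphaPn.A p n A) t f).symm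
    rw [h2, ht, hφ, hfu]

end Groth.Agent.Lib.Helper8.AlphaLift
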