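import Mathlib

set_option backward.isDefEq.respectTransparency.types false
set_option autoImplicit false
universe u v w
open TensorProduct

namespace Groth.Agent.Lib.Helper8.AntiComul

open Algebra Coalgebra Bialgebra HopfAlgebra TensorProduct WithConv

variable {k : Type u} [CommRing k] {A : Type v} [CommRing A] [HopfAlgebra k A]

/-- the comultiplication is the convolution product of the two inclusions -/
lemma comul_eq_mul :
    (toConv (comulAlgHom k A) : WithConv (A →ₐ[k] A ⊗[k] A)) =
      toConv (Algebra.TensorProduct.includeLeft : A →ₐ[k] A ⊗[k] A) *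
        toConv (Algebra.TensorProduct.includeRight : A →ₐ[k] A ⊗[k] A) := by
  rw [AlgHom.convMul_def]
  congr 1
  have : (Algebra.TensorProduct.lmul' k).comp (Algebra.TensorProduct.map
      (Algebra.TensorProduct.includeLeft : A →ₐ[k] A ⊗[k] A)
      (Algebra.TensorProduct.includeRight : A →ₐ[k] A ⊗[k] A)) = AlgHom.id k _ := by
    ext <;> simp
  rw [← AlgHom.comp_assoc]
  simp only
  rw [this, AlgHom.id_comp]

/-- The antipode of a commutative Hopf algebra reverses the comultiplication. -/
theorem comul_antipode :
    (CoalgebraStruct.comul (R := k) (A := A)) ∘ₗ (HopfAlgebraStruct.antipode (R := k) (A := A)) =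
      TensorProduct.map (HopfAlgebraStruct.antipode (R := k) (A := A))
        (HopfAlgebraStruct.antipode (R := k) (A := A))
        ∘ₗ (TensorProduct.comm k A A).toLinearMap ∘ₗ CoalgebraStruct.comul := by
  have h1 : (toConv (comulAlgHom k A) : WithConv (A →ₐ[k] A ⊗[k] A))⁻¹ =
      (toConv (Algebra.TensorProduct.includeRight : A →ₐ[k] A ⊗[k] A))⁻¹ *
        (toConv (Algebra.TensorProduct.includeLeft : A →ₐ[k] A ⊗[k] A))⁻¹ := by
    rw [comul_eq_mul]
    exact mul_inv_rev (G := WithConv (A →ₐ[k] A ⊗[k] A)) _ _
  have h2 := congrArg (fun x => (ofConv x).toLinearMap) h1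
  have h3 : (toConv (comulAlgHom k A) : WithConv (A →ₐ[k] A ⊗[k] A))⁻¹ =
      toConv ((comulAlgHom k A).comp (HopfAlgebra.antipodeAlgHom k A)) := rfl
  have h4 : (toConv (Algebra.TensorProduct.includeRight : A →ₐ[k] A ⊗[k] A))⁻¹ =
      toConv ((Algebra.TensorProduct.includeRight : A →ₐ[k] A ⊗[k] A).comp
        (HopfAlgebra.antipodeAlgHom k A)) := rfl
  have h5 : (toConv (Algebra.TensorProduct.includeLeft : A →ₐ[k] A ⊗[k] A))⁻¹ =
      toConv ((Algebra.TensorProduct.includeLeft : A →ₐ[k] A ⊗[k] A).comp
        (HopfAlgebra.antipodeAlgHom k A)) := rfl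
  rw [h3, h4, h5, AlgHom.convMul_def] at h2
  simp only at h2
  apply LinearMap.ext
  intro a
  have h6 := LinearMap.congr_fun h2 a
  simp only [AlgHom.toLinearMap_apply, AlgHom.comp_apply, Bialgebra.comulAlgHom_apply] at h6
  rw [LinearMap.comp_apply]
  erw [h6]
  simp only [LinearMap.comp_apply]
  generalize CoalgebraStruct.comul (R := k) a = x
  induction x using TensorProduct.induction_on with
  | zero => simp
  | tmul a b => simp
  | add x y hx hy => simp only [map_add, hx, hy]

theorem comul_antipode_apply (a : A) :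
    CoalgebraStruct.comul (R := k) (HopfAlgebraStruct.antipode (R := k) a) =
      TensorProduct.map (HopfAlgebraStruct.antipode (R := k) (A := A))
        (HopfAlgebraStruct.antipode (R := k) (A := A))
        ((TensorProduct.comm k A A) (CoalgebraStruct.comul (R := k) a)) :=
  LinearMap.congr_fun comul_antipode a

end Groth.Agent.Lib.Helper8.AntiComul
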