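import Mathlib

set_option backward.isDefEq.respectTransparency.types false
set_option autoImplicit false
set_option linter.unusedSectionVars false
set_option linter.style.haveILetI false

namespace Groth.Agent.Lib.Helper8.Art1

open Polynomial

universe u

/-- staircase exponent vectors: `d i < n - i` -/
def Stair (n : ℕ) : Type := {d : Fin n → ℕ // ∀ i : Fin n, d i < n - (i : ℕ)}

/-- `Stair (n+1) ≃ Fin (n+1) × Stair n` -/
def stairEquiv (n : ℕ) : Stair (n + 1) ≃ Fin (n + 1) × Stair n where
  toFun d := (⟨d.1 0, by have := d.2 0; simpa using this⟩,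
    ⟨fun i => d.1 i.succ, fun i => by have := d.2 i.succ; simp at this ⊢; omega⟩)
  invFun p := ⟨Fin.cons (p.1 : ℕ) p.2.1, fun i => by
    refine Fin.cases ?_ (fun j => ?_) i
    · have := p.1.2
      simp only [Fin.cons_zero, Fin.val_zero]
      omega
    · have := p.2.2 j
      simp only [Fin.cons_succ, Fin.val_succ]
      omega⟩
  left_inv d := by
    apply Subtype.ext
    funext i
    refine Fin.cases ?_ (fun j => ?_) i <;> simp
  right_inv p := by
    rcases p with ⟨j, d⟩
    simp only [Fin.cons_zero, Fin.eta, Fin.cons_succ, Prod.mk.injEq, true_and]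
    rfl

/-- monomial attached to a staircase vector -/
def smon {S : Type*} [CommRing S] {n : ℕ} (τ : Fin n → S) (d : Stair n) : S :=
  ∏ i, τ i ^ d.1 i

theorem smon_cons {S : Type*} [CommRing S] {n : ℕ} (t₀ : S) (τ : Fin n → S) (d : Stair (n + 1)) :
    smon (Fin.cons t₀ τ : Fin (n + 1) → S) d =
      t₀ ^ ((stairEquiv n d).1 : ℕ) * smon τ (stairEquiv n d).2 := by
  rw [smon, Fin.prod_univ_succ]
  simp [smon, stairEquiv]

theorem exists_tower (n : ℕ) : ∀ (R : Type u) [CommRing R] (f : R[X]), f.Monic → f.natDegree = n →
    ∃ (S : Type u) (_ : CommRing S) (_ : Algebra R S) (τ : Fin n → S),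
      f.map (algebraMap R S) = ∏ i, (X - C (τ i)) ∧
      LinearIndependent R (smon τ) := by
  induction n with
  | zero =>
    intro R _ f hf hdeg
    refine ⟨R, inferInstance, inferInstance, Fin.elim0, ?_, ?_⟩
    · have : f = 1 := eq_one_of_monic_natDegree_zero hf hdeg
      rw [this]; simp
    · have : Unique (Stair 0) :=
        { default := ⟨Fin.elim0, fun i => i.elim0⟩
          uniq := fun d => Subtype.ext (funext fun i => i.elim0) }
      rw [Fintype.linearIndependent_iff]
      intro c hc d
      rw [Fintype.sum_unique] at hc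
      have hd : d = default := Subsingleton.elim _ _
      rw [hd]
      simpa [smon] using hc
  | succ n ih =>
    intro R _ f hf hdeg
    rcases subsingleton_or_nontrivial R with hR | hR
    · refine ⟨R, inferInstance, inferInstance, fun _ => 0, Subsingleton.elim _ _,
        linearIndependent_of_subsingleton⟩
    let R' := AdjoinRoot f
    haveI : Nontrivial R' := by
      have hdim : (AdjoinRoot.powerBasis' hf).dim = n + 1 := hdeg
      exact nontrivial_of_ne _ _ ((AdjoinRoot.powerBasis' hf).basis.ne_zero ⟨0, by omega⟩)
    let τ₀ : R' := AdjoinRoot.root f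
    let f' : R'[X] := f.map (AdjoinRoot.of f)
    let g : R'[X] := f' /ₘ (X - C τ₀)
    have hf' : f'.Monic := hf.map _
    have hfg : (X - C τ₀) * g = f' := mul_divByMonic_eq_iff_isRoot.mpr (AdjoinRoot.isRoot_root f)
    have hg : g.Monic := by
      have h1 : ((X - C τ₀) * g).Monic := by rw [hfg]; exact hf'
      exact (monic_X_sub_C τ₀).of_mul_monic_left h1
    have hgdeg : g.natDegree = n := by
      rw [natDegree_divByMonic _ (monic_X_sub_C τ₀), natDegree_X_sub_C, hf.natDegree_map, hdeg]
      rfl
    obtain ⟨S, instS, instA, τ', hsplit, hind⟩ := ih R' g hg hgdeg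
    letI : Algebra R S := ((algebraMap R' S).comp (AdjoinRoot.of f)).toAlgebra
    haveI : IsScalarTower R R' S := IsScalarTower.of_algebraMap_eq fun _ => rfl
    refine ⟨S, instS, inferInstance, Fin.cons (algebraMap R' S τ₀) τ', ?_, ?_⟩
    · have h1 : f.map (algebraMap R S) = f'.map (algebraMap R' S) := by
        rw [Polynomial.map_map]; rfl
      rw [h1, ← hfg, Polynomial.map_mul, hsplit, Fin.prod_univ_succ]
      simp
    · have hpb : LinearIndependent R (fun j : Fin (n + 1) => τ₀ ^ (j : ℕ)) := by
        have hb := (AdjoinRoot.powerBasis' hf).basis.linearIndependent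
        have hdim : (AdjoinRoot.powerBasis' hf).dim = n + 1 := hdeg
        have := hb.comp (Fin.cast hdim.symm) (Fin.cast_injective _)
        convert this using 1
        funext j
        simp [τ₀]
      have hprod := linearIndependent_smul hpb hind
      have := hprod.comp (stairEquiv n) (stairEquiv n).injective
      convert this using 1
      funext d
      rw [smon_cons, Function.comp_apply, Algebra.smul_def, map_pow]

end Groth.Agent.Lib.Helper8.Art1
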