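import Mathlib
import Groth.Agent.Lib.Helper8.Art1

set_option backward.isDefEq.respectTransparency.types false
set_option autoImplicit false
set_option linter.unusedSectionVars false
set_option linter.style.haveILetI false

namespace Groth.Agent.Lib.Helper8.Art2

open Polynomial Groth.Agent.Lib.Helper8.Art1

universe u

theorem smon_symm {S : Type*} [CommRing S] {n : ℕ} (t : Fin (n + 1) → S) (j : Fin (n + 1))
    (d' : Stair n) :
    smon t ((stairEquiv n).symm (j, d')) = t 0 ^ (j : ℕ) * smon (Fin.tail t) d' := by
  have h := smon_cons (t 0) (Fin.tail t) ((stairEquiv n).symm (j, d'))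
  rw [Fin.cons_self_tail, Equiv.apply_symm_apply] at h
  exact h

theorem span_tower (n : ℕ) : ∀ (R Q : Type u) [CommRing R] [CommRing Q] [Algebra R Q] (F : R[X])
    (t : Fin n → Q), F.Monic → F.natDegree = n →
    F.map (algebraMap R Q) = ∏ i, (X - C (t i)) →
    ∀ q ∈ Algebra.adjoin R (Set.range t), q ∈ Submodule.span R (Set.range (smon t)) := by
  induction n with
  | zero =>
    intro R Q _ _ _ F t _ _ _ q hq
    have h0 : Set.range t = ∅ := Set.range_eq_empty t
    rw [h0, Algebra.adjoin_empty] at hq
    obtain ⟨r, rfl⟩ := Algebra.mem_bot.mp hq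
    have d0 : Stair 0 := ⟨Fin.elim0, fun i => i.elim0⟩
    have : algebraMap R Q r = r • smon t d0 := by
      rw [Algebra.algebraMap_eq_smul_one]; simp [smon]
    rw [this]
    exact Submodule.smul_mem _ _ (Submodule.subset_span ⟨d0, rfl⟩)
  | succ n ih =>
    intro R Q _ _ _ F t hF hdeg hsplit q hq
    rcases subsingleton_or_nontrivial Q with hQ | hQ
    · rw [Subsingleton.elim q 0]; exact Submodule.zero_mem _
    set t₀ : Q := t 0 with ht₀
    set t' : Fin n → Q := Fin.tail t with ht'
    let R' : Subalgebra R Q := Algebra.adjoin R {t₀}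
    let t₀' : R' := ⟨t₀, Algebra.subset_adjoin rfl⟩
    let F' : (↥R')[X] := F.map (algebraMap R ↥R')
    have hinj : Function.Injective (algebraMap (↥R') Q) := Subtype.val_injective
    haveI : Nontrivial (↥R') := by
      refine ⟨⟨0, 1, fun h => ?_⟩⟩
      have := congrArg (algebraMap (↥R') Q) h
      rw [map_zero, map_one] at this
      exact zero_ne_one this
    have hFmap : F'.map (algebraMap (↥R') Q) = F.map (algebraMap R Q) := by
      rw [Polynomial.map_map, ← IsScalarTower.algebraMap_eq]
    have hroot : F'.IsRoot t₀' := by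
      rw [IsRoot]
      apply hinj
      rw [map_zero, ← Polynomial.eval_map_apply, hFmap, hsplit, eval_prod]
      exact Finset.prod_eq_zero (Finset.mem_univ 0) (by simp [t₀', t₀])
    set g : (↥R')[X] := F' /ₘ (X - C t₀') with hgdef
    have hfg : (X - C t₀') * g = F' := mul_divByMonic_eq_iff_isRoot.mpr hroot
    have hF' : F'.Monic := hF.map _
    have hg : g.Monic := by
      have h1 : ((X - C t₀') * g).Monic := by rw [hfg]; exact hF'
      exact (monic_X_sub_C t₀').of_mul_monic_left h1
    have hgdeg : g.natDegree = n := by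
      rw [hgdef, natDegree_divByMonic _ (monic_X_sub_C t₀'), natDegree_X_sub_C, hF.natDegree_map,
        hdeg]
      rfl
    have hgsplit : g.map (algebraMap (↥R') Q) = ∏ i, (X - C (t' i)) := by
      have h1 : (X - C t₀) * g.map (algebraMap (↥R') Q) = (X - C t₀) * ∏ i, (X - C (t' i)) := by
        have h2 : (X - C t₀ : Q[X]) = (X - C t₀').map (algebraMap (↥R') Q) := by simp [t₀']
        rw [h2, ← Polynomial.map_mul, hfg, hFmap, hsplit, Fin.prod_univ_succ]
        simp [t₀', t₀, t', Fin.tail]
      exact (monic_X_sub_C t₀).isRegular.left h1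
    have IH := ih (↥R') Q g t' hg hgdeg hgsplit
    -- step 1: q lies in the R'-subalgebra generated by t'
    have hq' : q ∈ Algebra.adjoin (↥R') (Set.range t') := by
      induction hq using Algebra.adjoin_induction with
      | mem x hx =>
        obtain ⟨i, rfl⟩ := hx
        refine Fin.cases ?_ (fun j => ?_) i
        · exact Subalgebra.algebraMap_mem _ t₀'
        · exact Algebra.subset_adjoin ⟨j, rfl⟩
      | algebraMap r =>
        rw [IsScalarTower.algebraMap_apply R (↥R') Q]
        exact Subalgebra.algebraMap_mem _ _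
      | add x y _ _ hx hy => exact add_mem hx hy
      | mul x y _ _ hx hy => exact mul_mem hx hy
    have hq'' := IH q hq'
    -- step 2: R'-multiples of staircase monomials in t' are R-combinations of those in t
    have hF0 : aeval t₀ F = 0 := by
      rw [aeval_def, ← eval_map, hsplit, eval_prod]
      exact Finset.prod_eq_zero (Finset.mem_univ 0) (by simp [t₀])
    have hF1 : F ≠ 1 := by
      intro h; rw [h, natDegree_one] at hdeg; omega
    have key : ∀ (ρ : ↥R') (d' : Stair n),
        ρ • smon t' d' ∈ Submodule.span R (Set.range (smon t)) := by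
      intro ρ d'
      have hρ : (ρ : Q) ∈ (aeval t₀ : R[X] →ₐ[R] Q).range := by
        rw [← Algebra.adjoin_singleton_eq_range_aeval]; exact ρ.2
      obtain ⟨u, hu⟩ := hρ
      have h1 : aeval t₀ u = aeval t₀ (u %ₘ F) := by
        conv_lhs => rw [← modByMonic_add_div u F]
        rw [map_add, map_mul, hF0, zero_mul, add_zero]
      have h2 : (u %ₘ F).natDegree < n + 1 := by
        have := natDegree_modByMonic_lt u hF hF1
        omega
      have h3 : ρ • smon t' d' = ∑ j ∈ Finset.range (n + 1),
          (u %ₘ F).coeff j • (t₀ ^ j * smon t' d') := by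
        have : ρ • smon t' d' = (ρ : Q) * smon t' d' := rfl
        have hu' : aeval t₀ u = (ρ : Q) := hu
        rw [this, ← hu', h1, aeval_eq_sum_range' h2, Finset.sum_mul]
        refine Finset.sum_congr rfl fun j _ => ?_
        rw [smul_mul_assoc]
      rw [h3]
      refine Submodule.sum_mem _ fun j hj => Submodule.smul_mem _ _ ?_
      have hj' : j < n + 1 := Finset.mem_range.mp hj
      have := smon_symm t ⟨j, hj'⟩ d'
      rw [← ht₀, ← ht'] at this
      rw [← this]
      exact Submodule.subset_span ⟨_, rfl⟩
    have hall : ∀ q ∈ Submodule.span (↥R') (Set.range (smon t')),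
        ∀ ρ : ↥R', ρ • q ∈ Submodule.span R (Set.range (smon t)) := by
      intro q hq
      induction hq using Submodule.span_induction with
      | mem x hx =>
        obtain ⟨d', rfl⟩ := hx
        exact fun ρ => key ρ d'
      | zero => intro ρ; rw [smul_zero]; exact Submodule.zero_mem _
      | add x y _ _ hx hy => intro ρ; rw [smul_add]; exact Submodule.add_mem _ (hx ρ) (hy ρ)
      | smul ρ' x _ hx => intro ρ; rw [smul_smul]; exact hx _
    have := hall q hq'' 1
    rwa [one_smul] at this

end Groth.Agent.Lib.Helper8.Art2
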