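import Mathlib
import Groth.Agent.Lib.Helper8.Art1
import Groth.Agent.Lib.Helper8.Art2

set_option backward.isDefEq.respectTransparency.types false
set_option autoImplicit false
set_option linter.unusedSectionVars false
set_option linter.style.haveILetI false

namespace Groth.Agent.Lib.Helper8.Art3

open Groth.Agent.Lib.Helper8.Art1 Groth.Agent.Lib.Helper8.Art2

universe u

section alt
open Polynomial

/-- alternating sum `Σ_j (-1)^j c_j X^(n-j)` -/
noncomputable def altSum {S : Type*} [CommRing S] (n : ℕ) (c : ℕ → S) : S[X] :=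
  ∑ j ∈ Finset.range (n + 1), (-1) ^ j * (C (c j) * X ^ (n - j))

theorem altSum_coeff {S : Type*} [CommRing S] (n : ℕ) (c : ℕ → S) (k : ℕ) (hk : k ≤ n) :
    (altSum n c).coeff (n - k) = (-1) ^ k * c k := by
  rw [altSum, finsetSum_coeff]
  rw [Finset.sum_eq_single k]
  · have : ((-1 : S[X]) ^ k * (C (c k) * X ^ (n - k))) = C ((-1) ^ k * c k) * X ^ (n - k) := by
      simp [mul_assoc]
    rw [this, coeff_C_mul_X_pow, if_pos rfl]
  · intro j hj hjk
    have hj' : j < n + 1 := Finset.mem_range.mp hj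
    have : ((-1 : S[X]) ^ j * (C (c j) * X ^ (n - j))) = C ((-1) ^ j * c j) * X ^ (n - j) := by
      simp [mul_assoc]
    rw [this, coeff_C_mul_X_pow, if_neg]
    omega
  · intro h
    exact absurd (Finset.mem_range.mpr (by omega)) h

theorem altSum_natDegree_le {S : Type*} [CommRing S] (n : ℕ) (c : ℕ → S) :
    (altSum n c).natDegree ≤ n := by
  rw [altSum]
  refine natDegree_sum_le_of_forall_le _ _ fun j _ => ?_
  have : ((-1 : S[X]) ^ j * (C (c j) * X ^ (n - j))) = C ((-1) ^ j * c j) * X ^ (n - j) := by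
    simp [mul_assoc]
  rw [this]
  exact (natDegree_C_mul_X_pow_le _ _).trans (Nat.sub_le _ _)

theorem altSum_monic {S : Type*} [CommRing S] (n : ℕ) (c : ℕ → S) (h0 : c 0 = 1) :
    (altSum n c).Monic := by
  refine monic_of_natDegree_le_of_coeff_eq_one n (altSum_natDegree_le n c) ?_
  have := altSum_coeff n c 0 (Nat.zero_le _)
  rw [Nat.sub_zero] at this
  rw [this, h0]; simp

theorem altSum_natDegree {S : Type*} [CommRing S] [Nontrivial S] (n : ℕ) (c : ℕ → S)
    (h0 : c 0 = 1) : (altSum n c).natDegree = n := by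
  refine le_antisymm (altSum_natDegree_le n c) (le_natDegree_of_ne_zero ?_)
  have := altSum_coeff n c 0 (Nat.zero_le _)
  rw [Nat.sub_zero] at this
  rw [this, h0]; simp

theorem altSum_map {S T : Type*} [CommRing S] [CommRing T] (f : S →+* T) (n : ℕ) (c : ℕ → S) :
    (altSum n c).map f = altSum n (fun j => f (c j)) := by
  simp [altSum, Polynomial.map_sum]

theorem altSum_inj {S : Type*} [CommRing S] (n : ℕ) (c c' : ℕ → S)
    (h : altSum n c = altSum n c') (k : ℕ) (hk : k ≤ n) : c k = c' k := by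
  have h1 := altSum_coeff n c k hk
  have h2 := altSum_coeff n c' k hk
  rw [h] at h1
  have h3 : (-1 : S) ^ k * c k = (-1) ^ k * c' k := h1.symm.trans h2
  have h4 : (-1 : S) ^ k * ((-1) ^ k * c k) = (-1) ^ k * ((-1) ^ k * c' k) := by rw [h3]
  rw [← mul_assoc, ← mul_assoc, ← pow_add, ← two_mul, pow_mul] at h4
  simpa using h4

theorem altSum_congr {S : Type*} [CommRing S] (n : ℕ) (c c' : ℕ → S)
    (h : ∀ k, k ≤ n → c k = c' k) : altSum n c = altSum n c' := by
  rw [altSum, altSum]
  refine Finset.sum_congr rfl fun j hj => ?_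
  rw [h j (by have := Finset.mem_range.mp hj; omega)]

theorem vieta {R S : Type*} [CommRing R] [CommRing S] [Algebra R S] (n : ℕ) (τ : Fin n → S) :
    ∏ i, (X - C (τ i)) =
      altSum n (fun j => MvPolynomial.aeval τ (MvPolynomial.esymm (Fin n) R j)) := by
  have h := Multiset.prod_X_sub_X_eq_sum_esymm (Finset.univ.val.map τ)
  rw [Multiset.map_map, Multiset.card_map] at h
  have hc : Multiset.card (Finset.univ : Finset (Fin n)).val = n := by simp
  rw [hc] at h
  rw [altSum, Finset.prod_eq_multiset_prod]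
  rw [show (fun i => X - C (τ i)) = ((fun t => X - C t) ∘ τ) from rfl, h]
  refine Finset.sum_congr rfl fun j _ => ?_
  rw [MvPolynomial.aeval_esymm_eq_multiset_esymm]

end alt

variable {R : Type u} [CommRing R] {n : ℕ}

/-- coefficient sequence: `ext a 0 = 1`, `ext a (i+1) = a i` -/
def ext (a : Fin n → R) (j : ℕ) : R :=
  if j = 0 then 1 else if h : j - 1 < n then a ⟨j - 1, h⟩ else 0

theorem ext_zero (a : Fin n → R) : ext a 0 = 1 := by simp [ext]

theorem ext_succ (a : Fin n → R) (i : Fin n) : ext a ((i : ℕ) + 1) = a i := by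
  simp [ext, i.2]

/-- the general monic polynomial with prescribed signed coefficients -/
noncomputable def Fa (a : Fin n → R) : Polynomial R := altSum n (ext a)

theorem Fa_monic (a : Fin n → R) : (Fa a).Monic := altSum_monic n _ (ext_zero a)

theorem Fa_natDegree [Nontrivial R] (a : Fin n → R) : (Fa a).natDegree = n :=
  altSum_natDegree n _ (ext_zero a)

theorem Fa_map_eq_iff {S : Type*} [CommRing S] [Algebra R S] (a : Fin n → R) (τ : Fin n → S) :
    (Fa a).map (algebraMap R S) = ∏ i, (Polynomial.X - Polynomial.C (τ i)) ↔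
      ∀ i : Fin n, MvPolynomial.aeval τ (MvPolynomial.esymm (Fin n) R ((i : ℕ) + 1)) =
        algebraMap R S (a i) := by
  rw [Fa, altSum_map, vieta (R := R)]
  constructor
  · intro h i
    have := altSum_inj n _ _ h ((i : ℕ) + 1) (by have := i.2; omega)
    rw [ext_succ] at this
    exact this.symm
  · intro h
    refine altSum_congr n _ _ fun k hk => ?_
    rcases Nat.eq_zero_or_pos k with rfl | hk0
    · rw [ext_zero, MvPolynomial.esymm_zero]; simp
    · have hk' : k - 1 < n := by omega
      have := h ⟨k - 1, hk'⟩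
      have e : (k - 1) + 1 = k := by omega
      simp only [e] at this
      rw [this]
      congr 1
      have := ext_succ a ⟨k - 1, hk'⟩
      simp only [e] at this
      exact this

/-- index type of staircase exponents as a Pi type -/
abbrev D (n : ℕ) : Type := (i : Fin n) → Fin (n - (i : ℕ))

def stairPi (n : ℕ) : D n ≃ Stair n where
  toFun p := ⟨fun i => (p i : ℕ), fun i => (p i).2⟩
  invFun d := fun i => ⟨d.1 i, d.2 i⟩
  left_inv _ := rfl
  right_inv _ := rfl

/-- staircase monomials in `R[t]` -/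
noncomputable def mon (R : Type u) [CommRing R] {n : ℕ} (d : D n) : MvPolynomial (Fin n) R :=
  ∏ i : Fin n, MvPolynomial.X i ^ ((d i : ℕ))

/-- the ideal generated by `e_i(t) - a_i` -/
noncomputable def II (a : Fin n → R) : Ideal (MvPolynomial (Fin n) R) :=
  Ideal.span (Set.range fun i : Fin n =>
    MvPolynomial.esymm (Fin n) R ((i : ℕ) + 1) - MvPolynomial.C (a i))

theorem aeval_mk (I : Ideal (MvPolynomial (Fin n) R)) (p : MvPolynomial (Fin n) R) :
    MvPolynomial.aeval (fun i => Ideal.Quotient.mk I (MvPolynomial.X i)) p =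
      Ideal.Quotient.mk I p := by
  have : (MvPolynomial.aeval (fun i => Ideal.Quotient.mk I (MvPolynomial.X i)) :
      MvPolynomial (Fin n) R →ₐ[R] MvPolynomial (Fin n) R ⧸ I) = Ideal.Quotient.mkₐ R I := by
    apply MvPolynomial.algHom_ext; intro i; simp
  rw [this]; rfl

theorem smon_stairPi {S : Type*} [CommRing S] (τ : Fin n → S) (d : D n) :
    smon τ (stairPi n d) = ∏ i, τ i ^ ((d i : ℕ)) := rfl

theorem goalA (a : Fin n → R) (x : MvPolynomial (Fin n) R) :
    ∃ c : D n → R, x - ∑ d, MvPolynomial.C (c d) * mon R d ∈ II a := by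
  rcases subsingleton_or_nontrivial R with hR | hR
  · refine ⟨fun _ => 0, ?_⟩
    rw [Subsingleton.elim (x - _) 0]; exact Ideal.zero_mem _
  set τ : Fin n → MvPolynomial (Fin n) R ⧸ II a :=
    fun i => Ideal.Quotient.mk (II a) (MvPolynomial.X i) with hτ
  have hsplit : (Fa a).map (algebraMap R (MvPolynomial (Fin n) R ⧸ II a)) =
      ∏ i, (Polynomial.X - Polynomial.C (τ i)) := by
    rw [Fa_map_eq_iff]
    intro i
    rw [hτ, aeval_mk]
    have : MvPolynomial.esymm (Fin n) R ((i : ℕ) + 1) - MvPolynomial.C (a i) ∈ II a :=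
      Ideal.subset_span ⟨i, rfl⟩
    rw [Ideal.Quotient.eq.mpr this]
    rfl
  have hx : Ideal.Quotient.mk (II a) x ∈ Algebra.adjoin R (Set.range τ) := by
    rw [Algebra.adjoin_range_eq_range_aeval]
    exact ⟨x, aeval_mk (II a) x⟩
  have hspan := span_tower n R _ (Fa a) τ (Fa_monic a) (Fa_natDegree a) hsplit _ hx
  have hrange : Set.range (smon τ) = Set.range (fun d : D n => ∏ i, τ i ^ ((d i : ℕ))) := by
    ext y; constructor
    · rintro ⟨d, rfl⟩; exact ⟨(stairPi n).symm d, rfl⟩
    · rintro ⟨d, rfl⟩; exact ⟨stairPi n d, rfl⟩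
  rw [hrange, Submodule.mem_span_range_iff_exists_fun] at hspan
  obtain ⟨c, hc⟩ := hspan
  refine ⟨c, ?_⟩
  rw [← Ideal.Quotient.eq, ← hc, map_sum]
  refine Finset.sum_congr rfl fun d _ => ?_
  rw [map_mul, mon, map_prod, Algebra.smul_def]
  simp only [map_pow]
  rfl

theorem goalB (a : Fin n → R) (c : D n → R)
    (hc : ∑ d, MvPolynomial.C (c d) * mon R d ∈ II a) : ∀ d, c d = 0 := by
  rcases subsingleton_or_nontrivial R with hR | hR
  · intro d; exact Subsingleton.elim _ _
  obtain ⟨S, instS, instA, τ, hsplit, hind⟩ :=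
    exists_tower n R (Fa a) (Fa_monic a) (Fa_natDegree a)
  rw [Fa_map_eq_iff] at hsplit
  have hle : II a ≤ RingHom.ker (MvPolynomial.aeval τ : MvPolynomial (Fin n) R →ₐ[R] S) := by
    rw [II, Ideal.span_le]
    rintro _ ⟨i, rfl⟩
    rw [SetLike.mem_coe, RingHom.mem_ker, map_sub, hsplit i, MvPolynomial.aeval_C, sub_self]
  have h0 := hle hc
  rw [RingHom.mem_ker, map_sum] at h0
  have hind' : LinearIndependent R (fun d : D n => ∏ i, τ i ^ ((d i : ℕ))) :=
    hind.comp (stairPi n) (stairPi n).injective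
  rw [Fintype.linearIndependent_iff] at hind'
  apply hind' c
  rw [← h0]
  refine Finset.sum_congr rfl fun d _ => ?_
  rw [map_mul, mon, map_prod, Algebra.smul_def, MvPolynomial.aeval_C]
  simp only [map_pow, MvPolynomial.aeval_X]

end Groth.Agent.Lib.Helper8.Art3
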