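import Mathlib
import Groth.Agent.Lib.Helper8.Art3

set_option backward.isDefEq.respectTransparency.types false
set_option autoImplicit false
set_option linter.unusedSectionVars false
set_option linter.style.haveILetI false

namespace Groth.Agent.Lib.Helper8.Art4

open Groth.Agent.Lib.Helper8.Art1 Groth.Agent.Lib.Helper8.Art2 Groth.Agent.Lib.Helper8.Art3

universe u

section general

variable {R : Type u} [CommRing R] {n : ℕ}

theorem map_rep (a : Fin n → R) (J : Ideal R) (z : MvPolynomial (Fin n) R)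
    (hz : z ∈ Ideal.map (MvPolynomial.C : R →+* MvPolynomial (Fin n) R) J) :
    ∃ j : D n → R, (∀ d, j d ∈ J) ∧ z - ∑ d, MvPolynomial.C (j d) * mon R d ∈ II a := by
  rw [Ideal.map] at hz
  induction hz using Submodule.span_induction with
  | mem z hz =>
    obtain ⟨r, hr, rfl⟩ := hz
    obtain ⟨c, hc⟩ := goalA a 1
    refine ⟨fun d => r * c d, fun d => J.mul_mem_right _ hr, ?_⟩
    have : MvPolynomial.C r - ∑ d, MvPolynomial.C (r * c d) * mon R d =
        MvPolynomial.C r * (1 - ∑ d, MvPolynomial.C (c d) * mon R d) := by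
      rw [mul_sub, mul_one, Finset.mul_sum]
      congr 1
      refine Finset.sum_congr rfl fun d _ => ?_
      rw [map_mul, mul_assoc]
    rw [this]
    exact Ideal.mul_mem_left _ _ hc
  | zero => exact ⟨fun _ => 0, fun _ => J.zero_mem, by simp⟩
  | add x y _ _ hx hy =>
    obtain ⟨j, hj, hjx⟩ := hx
    obtain ⟨j', hj', hjy⟩ := hy
    refine ⟨fun d => j d + j' d, fun d => J.add_mem (hj d) (hj' d), ?_⟩
    have : x + y - ∑ d, MvPolynomial.C (j d + j' d) * mon R d =
        (x - ∑ d, MvPolynomial.C (j d) * mon R d) +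
          (y - ∑ d, MvPolynomial.C (j' d) * mon R d) := by
      simp only [map_add, add_mul, Finset.sum_add_distrib]; ring
    rw [this]
    exact Ideal.add_mem _ hjx hjy
  | smul p z _ hz =>
    obtain ⟨j, hj, hjz⟩ := hz
    choose c hc using fun d => goalA a (p * mon R d)
    refine ⟨fun e => ∑ d, j d * c d e,
      fun e => J.sum_mem fun d _ => J.mul_mem_right _ (hj d), ?_⟩
    have h1 : ∑ e, MvPolynomial.C (∑ d, j d * c d e) * mon R e =
        ∑ d, MvPolynomial.C (j d) * ∑ e, MvPolynomial.C (c d e) * mon R e := by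
      simp only [map_sum, map_mul, Finset.sum_mul, Finset.mul_sum]
      rw [Finset.sum_comm]
      refine Finset.sum_congr rfl fun d _ => Finset.sum_congr rfl fun e _ => ?_
      rw [mul_assoc]
    have h2 : p • z - ∑ e, MvPolynomial.C (∑ d, j d * c d e) * mon R e =
        p * (z - ∑ d, MvPolynomial.C (j d) * mon R d) +
          ∑ d, MvPolynomial.C (j d) *
            (p * mon R d - ∑ e, MvPolynomial.C (c d e) * mon R e) := by
      rw [h1, smul_eq_mul, mul_sub, Finset.mul_sum]
      simp only [mul_sub, Finset.sum_sub_distrib]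
      have h3 : ∑ d, p * (MvPolynomial.C (j d) * mon R d) =
          ∑ d, MvPolynomial.C (j d) * (p * mon R d) :=
        Finset.sum_congr rfl fun d _ => by ring
      rw [h3]; ring
    rw [h2]
    exact Ideal.add_mem _ (Ideal.mul_mem_left _ _ hjz)
      (Ideal.sum_mem _ fun d _ => Ideal.mul_mem_left _ _ (hc d))

theorem C_mul_mon_mem (J : Ideal R) (r : R) (hr : r ∈ J) (d : D n) :
    MvPolynomial.C r * mon R d ∈
      Ideal.map (MvPolynomial.C : R →+* MvPolynomial (Fin n) R) J :=
  Ideal.mul_mem_right _ _ (Ideal.mem_map_of_mem _ hr)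

theorem main404' (a : Fin n → R) (J : Ideal R) (x : MvPolynomial (Fin n) R) :
    x ∈ II a ⊔ Ideal.map (MvPolynomial.C : R →+* MvPolynomial (Fin n) R) J
    ↔ ∃ j : D n → R, (∀ d, j d ∈ J) ∧
        x - (∑ d, MvPolynomial.C (j d) * mon R d) ∈ II a := by
  constructor
  · intro hx
    obtain ⟨y, hy, z, hz, rfl⟩ := Submodule.mem_sup.mp hx
    obtain ⟨j, hj, hjz⟩ := map_rep a J z hz
    refine ⟨j, hj, ?_⟩
    have : y + z - ∑ d, MvPolynomial.C (j d) * mon R d =
        y + (z - ∑ d, MvPolynomial.C (j d) * mon R d) := by ring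
    rw [this]
    exact Ideal.add_mem _ hy hjz
  · rintro ⟨j, hj, hx⟩
    have : x = (x - ∑ d, MvPolynomial.C (j d) * mon R d) +
        ∑ d, MvPolynomial.C (j d) * mon R d := by ring
    rw [this]
    exact Submodule.add_mem_sup hx (Ideal.sum_mem _ fun d _ => C_mul_mon_mem J _ (hj d) d)

theorem main404 (n : ℕ)
    (a : Fin n → R) (J : Ideal R) (x : MvPolynomial (Fin n) R) :
    x ∈ Ideal.span (Set.range fun i : Fin n => MvPolynomial.esymm (Fin n) R ((i : ℕ) + 1) - MvPolynomial.C (a i))
        ⊔ Ideal.map (MvPolynomial.C : R →+* MvPolynomial (Fin n) R) J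
    ↔ ∃ j : (Π i : Fin n, Fin (n - (i : ℕ))) → R, (∀ d : (Π i : Fin n, Fin (n - (i : ℕ))), j d ∈ J) ∧
        x - (∑ d : (Π i : Fin n, Fin (n - (i : ℕ))), MvPolynomial.C (j d) * ∏ i : Fin n, MvPolynomial.X i ^ ((d i : ℕ)))
          ∈ Ideal.span (Set.range fun i : Fin n => MvPolynomial.esymm (Fin n) R ((i : ℕ) + 1) - MvPolynomial.C (a i)) :=
  main404' a J x

theorem main403' (a : Fin n → R) (J : Ideal R) (γ : D n → R) :
    (∑ d, MvPolynomial.C (γ d) * mon R d) ∈
      II a ⊔ Ideal.map (MvPolynomial.C : R →+* MvPolynomial (Fin n) R) J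
    ↔ ∀ d, γ d ∈ J := by
  constructor
  · intro h
    let π : R →+* R ⧸ J := Ideal.Quotient.mk J
    let Φ : MvPolynomial (Fin n) R →+* MvPolynomial (Fin n) (R ⧸ J) := MvPolynomial.map π
    have hle : II a ⊔ Ideal.map (MvPolynomial.C : R →+* MvPolynomial (Fin n) R) J ≤
        (II (fun i => π (a i))).comap Φ := by
      refine sup_le ?_ ?_
      · rw [II, Ideal.span_le]
        rintro _ ⟨i, rfl⟩
        rw [SetLike.mem_coe, Ideal.mem_comap, map_sub]
        have h1 : Φ (MvPolynomial.esymm (Fin n) R ((i : ℕ) + 1)) =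
            MvPolynomial.esymm (Fin n) (R ⧸ J) ((i : ℕ) + 1) := MvPolynomial.map_esymm _ _ _ _
        have h2 : Φ (MvPolynomial.C (a i)) = MvPolynomial.C (π (a i)) := MvPolynomial.map_C _ _
        rw [h1, h2]
        exact Ideal.subset_span ⟨i, rfl⟩
      · rw [Ideal.map_le_iff_le_comap]
        intro r hr
        rw [Ideal.mem_comap, Ideal.mem_comap]
        have h2 : Φ (MvPolynomial.C r) = MvPolynomial.C (π r) := MvPolynomial.map_C _ _
        rw [h2, (Ideal.Quotient.eq_zero_iff_mem.mpr hr : π r = 0), map_zero]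
        exact Ideal.zero_mem _
    have h' := hle h
    rw [Ideal.mem_comap, map_sum] at h'
    have h3 : ∑ d, Φ (MvPolynomial.C (γ d) * mon R d) =
        ∑ d, MvPolynomial.C (π (γ d)) * mon (R ⧸ J) d := by
      refine Finset.sum_congr rfl fun d _ => ?_
      rw [map_mul, mon, mon, map_prod]
      simp only [map_pow]
      congr 1
      · exact MvPolynomial.map_C _ _
      · refine Finset.prod_congr rfl fun i _ => ?_
        congr 1
        exact MvPolynomial.map_X _ _
    rw [h3] at h'
    intro d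
    exact Ideal.Quotient.eq_zero_iff_mem.mp (goalB _ _ h' d)
  · intro h
    exact Ideal.mem_sup_right (Ideal.sum_mem _ fun d _ => C_mul_mon_mem J _ (h d) d)

theorem main403 (n : ℕ)
    (a : Fin n → R) (J : Ideal R) (α β : (Π i : Fin n, Fin (n - (i : ℕ))) → R) :
    (∑ d : (Π i : Fin n, Fin (n - (i : ℕ))), MvPolynomial.C (α d) * ∏ i : Fin n, MvPolynomial.X i ^ ((d i : ℕ))) -
        (∑ d : (Π i : Fin n, Fin (n - (i : ℕ))), MvPolynomial.C (β d) * ∏ i : Fin n, MvPolynomial.X i ^ ((d i : ℕ)))
      ∈ Ideal.span (Set.range fun i : Fin n => MvPolynomial.esymm (Fin n) R ((i : ℕ) + 1) - MvPolynomial.C (a i))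
        ⊔ Ideal.map (MvPolynomial.C : R →+* MvPolynomial (Fin n) R) J
    ↔ ∀ d : (Π i : Fin n, Fin (n - (i : ℕ))), α d - β d ∈ J := by
  have h := main403' a J (fun d => α d - β d)
  have e : (∑ d : D n, MvPolynomial.C (α d - β d) * mon R d) =
      (∑ d : D n, MvPolynomial.C (α d) * mon R d) - (∑ d : D n, MvPolynomial.C (β d) * mon R d) := by
    rw [← Finset.sum_sub_distrib]
    refine Finset.sum_congr rfl fun d _ => ?_
    rw [map_sub, sub_mul]
  rw [e] at h
  exact h

end general

section universal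

variable (n : ℕ)

/-- `c_i ↦ e_{i+1}(t)` -/
noncomputable def ev : MvPolynomial (Fin n) ℤ →ₐ[ℤ] MvPolynomial (Fin n) ℤ :=
  MvPolynomial.aeval (fun i : Fin n => MvPolynomial.esymm (Fin n) ℤ ((i : ℕ) + 1))

/-- `ℤ[c][t] → ℤ[t]` -/
noncomputable def eps : MvPolynomial (Fin n) (MvPolynomial (Fin n) ℤ) →+* MvPolynomial (Fin n) ℤ :=
  MvPolynomial.eval₂Hom (ev n : MvPolynomial (Fin n) ℤ →+* MvPolynomial (Fin n) ℤ) MvPolynomial.X

/-- `ℤ[t] → ℤ[c][t]` -/
noncomputable def iota : MvPolynomial (Fin n) ℤ →+* MvPolynomial (Fin n) (MvPolynomial (Fin n) ℤ) :=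
  MvPolynomial.map (MvPolynomial.C : ℤ →+* MvPolynomial (Fin n) ℤ)

theorem eps_C (r : MvPolynomial (Fin n) ℤ) : eps n (MvPolynomial.C r) = ev n r := by
  simp [eps]

theorem eps_X (i : Fin n) : eps n (MvPolynomial.X i) = MvPolynomial.X i := by
  simp [eps]

theorem eps_iota (y : MvPolynomial (Fin n) ℤ) : eps n (iota n y) = y := by
  have : (eps n).comp (iota n) = RingHom.id _ := by
    apply MvPolynomial.ringHom_ext
    · intro m
      simp [eps, iota, ev]
    · intro i
      simp [eps, iota]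
  exact RingHom.congr_fun this y

theorem eps_mon (d : D n) : eps n (mon (MvPolynomial (Fin n) ℤ) d) = mon ℤ d := by
  simp [mon, eps_X]

theorem eps_esymm (k : ℕ) :
    eps n (MvPolynomial.esymm (Fin n) (MvPolynomial (Fin n) ℤ) k) = MvPolynomial.esymm (Fin n) ℤ k := by
  simp [MvPolynomial.esymm, eps_X, map_sum, map_prod]

theorem iota_esymm (k : ℕ) :
    iota n (MvPolynomial.esymm (Fin n) ℤ k) = MvPolynomial.esymm (Fin n) (MvPolynomial (Fin n) ℤ) k :=
  MvPolynomial.map_esymm _ _ _ _

/-- the universal coefficients -/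
noncomputable def ua : Fin n → MvPolynomial (Fin n) ℤ := fun i => MvPolynomial.X i

theorem II_le_ker : II (ua n) ≤ RingHom.ker (eps n) := by
  rw [II, Ideal.span_le]
  rintro _ ⟨i, rfl⟩
  rw [SetLike.mem_coe, RingHom.mem_ker, map_sub, eps_esymm, eps_C, ev, ua, MvPolynomial.aeval_X,
    sub_self]

theorem sub_theta_mem (x : MvPolynomial (Fin n) (MvPolynomial (Fin n) ℤ)) :
    x - iota n (eps n x) ∈ II (ua n) := by
  have hmul : ∀ x y : MvPolynomial (Fin n) (MvPolynomial (Fin n) ℤ),
      x - iota n (eps n x) ∈ II (ua n) → y - iota n (eps n y) ∈ II (ua n) →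
      x * y - iota n (eps n (x * y)) ∈ II (ua n) := by
    intro x y hx hy
    have : x * y - iota n (eps n (x * y)) =
        x * (y - iota n (eps n y)) + iota n (eps n y) * (x - iota n (eps n x)) := by
      rw [map_mul, map_mul]; ring
    rw [this]
    exact Ideal.add_mem _ (Ideal.mul_mem_left _ _ hy) (Ideal.mul_mem_left _ _ hx)
  have hadd : ∀ x y : MvPolynomial (Fin n) (MvPolynomial (Fin n) ℤ),
      x - iota n (eps n x) ∈ II (ua n) → y - iota n (eps n y) ∈ II (ua n) →
      x + y - iota n (eps n (x + y)) ∈ II (ua n) := by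
    intro x y hx hy
    have : x + y - iota n (eps n (x + y)) =
        (x - iota n (eps n x)) + (y - iota n (eps n y)) := by
      rw [map_add, map_add]; ring
    rw [this]
    exact Ideal.add_mem _ hx hy
  have hX : ∀ i : Fin n, (MvPolynomial.X i : MvPolynomial (Fin n) (MvPolynomial (Fin n) ℤ)) -
      iota n (eps n (MvPolynomial.X i)) ∈ II (ua n) := by
    intro i
    rw [eps_X, iota, MvPolynomial.map_X, sub_self]
    exact Ideal.zero_mem _
  have hC : ∀ r : MvPolynomial (Fin n) ℤ,
      (MvPolynomial.C r : MvPolynomial (Fin n) (MvPolynomial (Fin n) ℤ)) -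
        iota n (eps n (MvPolynomial.C r)) ∈ II (ua n) := by
    intro r
    induction r using MvPolynomial.induction_on with
    | C m =>
      rw [eps_C, ev, MvPolynomial.aeval_C, iota]
      have : (algebraMap ℤ (MvPolynomial (Fin n) ℤ)) m = MvPolynomial.C m := rfl
      rw [this, MvPolynomial.map_C, sub_self]
      exact Ideal.zero_mem _
    | add p q hp hq =>
      rw [map_add]
      exact hadd _ _ hp hq
    | mul_X p i hp =>
      rw [map_mul]
      refine hmul _ _ hp ?_
      rw [eps_C, ev, MvPolynomial.aeval_X, iota_esymm]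
      have : MvPolynomial.esymm (Fin n) (MvPolynomial (Fin n) ℤ) ((i : ℕ) + 1) -
          MvPolynomial.C (ua n i) ∈ II (ua n) := Ideal.subset_span ⟨i, rfl⟩
      have h2 := Ideal.neg_mem_iff _ |>.mpr this
      rw [neg_sub] at h2
      exact h2
  induction x using MvPolynomial.induction_on with
  | C r => exact hC r
  | add p q hp hq => exact hadd _ _ hp hq
  | mul_X p i hp => exact hmul _ _ hp (hX i)

theorem ker_le_II : RingHom.ker (eps n) ≤ II (ua n) := by
  intro x hx
  have := sub_theta_mem n x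
  rw [RingHom.mem_ker.mp hx, map_zero, sub_zero] at this
  exact this

/-- the map of the statement, as `ε ∘ g` -/
theorem f_eq (p : D n → MvPolynomial (Fin n) ℤ) :
    ∑ d : D n, ev n (p d) * mon ℤ d =
      eps n (∑ d : D n, MvPolynomial.C (p d) * mon (MvPolynomial (Fin n) ℤ) d) := by
  rw [map_sum]
  refine Finset.sum_congr rfl fun d _ => ?_
  rw [map_mul, eps_C, eps_mon]

theorem main402' : Function.Bijective (fun p : D n → MvPolynomial (Fin n) ℤ =>
      ∑ d : D n, ev n (p d) * mon ℤ d) := by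
  constructor
  · intro p q hpq
    simp only at hpq
    rw [f_eq, f_eq] at hpq
    have h1 : (∑ d : D n, MvPolynomial.C (p d) * mon (MvPolynomial (Fin n) ℤ) d) -
        (∑ d : D n, MvPolynomial.C (q d) * mon (MvPolynomial (Fin n) ℤ) d) ∈ RingHom.ker (eps n) := by
      rw [RingHom.mem_ker, map_sub, hpq, sub_self]
    have h2 := ker_le_II n h1
    have e : (∑ d : D n, MvPolynomial.C (p d - q d) * mon (MvPolynomial (Fin n) ℤ) d) =
        (∑ d : D n, MvPolynomial.C (p d) * mon (MvPolynomial (Fin n) ℤ) d) -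
        (∑ d : D n, MvPolynomial.C (q d) * mon (MvPolynomial (Fin n) ℤ) d) := by
      rw [← Finset.sum_sub_distrib]
      refine Finset.sum_congr rfl fun d _ => ?_
      rw [map_sub, sub_mul]
    rw [← e] at h2
    have h3 := goalB (ua n) _ h2
    funext d
    exact sub_eq_zero.mp (h3 d)
  · intro y
    obtain ⟨c, hc⟩ := goalA (ua n) (iota n y)
    refine ⟨c, ?_⟩
    simp only
    rw [f_eq]
    have := II_le_ker n hc
    rw [RingHom.mem_ker, map_sub, eps_iota, sub_eq_zero] at this
    exact this.symm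

theorem main402 (n : ℕ) :
    Function.Bijective (fun p : (Π i : Fin n, Fin (n - (i : ℕ))) → MvPolynomial (Fin n) ℤ =>
      ∑ d : (Π i : Fin n, Fin (n - (i : ℕ))),
        (MvPolynomial.aeval (fun i : Fin n => MvPolynomial.esymm (Fin n) ℤ ((i : ℕ) + 1))) (p d) *
          ∏ i : Fin n, MvPolynomial.X i ^ ((d i : ℕ))) :=
  main402' n

end universal

end Groth.Agent.Lib.Helper8.Art4
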