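import Mathlib

set_option backward.isDefEq.respectTransparency.types false
set_option autoImplicit false
set_option linter.unusedSectionVars false
set_option linter.style.haveILetI false

namespace Groth.Agent.Lib.Helper8.BE1

open Matrix

universe u

variable {S : Type u} [CommRing S]

/-- a unit minor gives a splitting of the matrix -/
theorem exists_split {a b r : ℕ} (M : Matrix (Fin b) (Fin a) S) (f : Fin r → Fin b)
    (g : Fin r → Fin a) (hu : IsUnit (M.submatrix f g).det) :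
    ∃ (ι : (Fin r → S) →ₗ[S] (Fin a → S)) (τ : (Fin b → S) →ₗ[S] (Fin r → S)),
      ∀ c, τ (M.mulVecLin (ι c)) = c := by
  classical
  let E : Matrix (Fin a) (Fin r) S := (1 : Matrix (Fin a) (Fin a) S).submatrix id g
  let B := M.submatrix f g
  refine ⟨E.mulVecLin, (B⁻¹).mulVecLin ∘ₗ LinearMap.funLeft S S f, fun c => ?_⟩
  have h1 : M * E = M.submatrix id g := by
    ext i l
    simp [E, Matrix.mul_apply, Matrix.one_apply]
  show B⁻¹ *ᵥ ((M *ᵥ (E *ᵥ c)) ∘ f) = c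
  have h2 : (M *ᵥ (E *ᵥ c)) ∘ f = B *ᵥ c := by
    rw [Matrix.mulVec_mulVec, h1]
    ext l
    simp [Matrix.mulVec, dotProduct, B]
  rw [h2, Matrix.mulVec_mulVec, Matrix.nonsing_inv_mul _ hu, Matrix.one_mulVec]

/-- top rank: the map is injective -/
theorem injective_of_split {a b : ℕ} (M : (Fin a → S) →ₗ[S] (Fin b → S))
    (ι : (Fin a → S) →ₗ[S] (Fin a → S)) (τ : (Fin b → S) →ₗ[S] (Fin a → S))
    (h : ∀ c, τ (M (ι c)) = c) : Function.Injective (τ ∘ₗ M) := by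
  apply OrzechProperty.injective_of_surjective_endomorphism
  intro c
  exact ⟨ι c, h c⟩

/-- middle exactness from two splittings with complementary ranks -/
theorem eq_of_split {a b c r₁ r₂ : ℕ} (M₁ : (Fin b → S) →ₗ[S] (Fin c → S))
    (M₂ : (Fin a → S) →ₗ[S] (Fin b → S)) (h0 : ∀ x, M₁ (M₂ x) = 0)
    (ι₁ : (Fin r₁ → S) →ₗ[S] (Fin b → S)) (τ₁ : (Fin c → S) →ₗ[S] (Fin r₁ → S))
    (h₁ : ∀ c, τ₁ (M₁ (ι₁ c)) = c)
    (ι₂ : (Fin r₂ → S) →ₗ[S] (Fin a → S)) (τ₂ : (Fin b → S) →ₗ[S] (Fin r₂ → S))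
    (h₂ : ∀ c, τ₂ (M₂ (ι₂ c)) = c)
    (hr : r₁ + r₂ = b) (y : Fin b → S) (hy : τ₁ (M₁ y) = 0) : y = M₂ (ι₂ (τ₂ y)) := by
  subst hr
  let Θ : (Fin (r₁ + r₂) → S) →ₗ[S] (Fin r₁ → S) × (Fin r₂ → S) := (τ₁ ∘ₗ M₁).prod τ₂
  have hsurj : Function.Surjective Θ := by
    rintro ⟨c, c'⟩
    refine ⟨ι₁ c + M₂ (ι₂ (c' - τ₂ (ι₁ c))), ?_⟩
    show ((τ₁ ∘ₗ M₁) _, τ₂ _) = _
    rw [LinearMap.comp_apply, map_add, map_add, h0, map_zero, add_zero, h₁, map_add, h₂]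
    congr 1
    abel
  let i : (Fin (r₁ + r₂) → S) ≃ₗ[S] (Fin r₁ → S) × (Fin r₂ → S) :=
    (LinearEquiv.funCongrLeft S S finSumFinEquiv).trans
      (LinearEquiv.sumArrowLequivProdArrow (Fin r₁) (Fin r₂) S S)
  have hinj : Function.Injective Θ :=
    OrzechProperty.injective_of_surjective_of_injective i.toLinearMap Θ i.injective hsurj
  apply hinj
  show ((τ₁ ∘ₗ M₁) _, τ₂ _) = ((τ₁ ∘ₗ M₁) _, τ₂ _)
  rw [LinearMap.comp_apply, LinearMap.comp_apply, hy, h0, map_zero, h₂]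

/-- a projector onto the range -/
theorem exists_projector {a b r₂ : ℕ} (M₂ : (Fin a → S) →ₗ[S] (Fin b → S))
    (ι₂ : (Fin r₂ → S) →ₗ[S] (Fin a → S)) (τ₂ : (Fin b → S) →ₗ[S] (Fin r₂ → S))
    (h₂ : ∀ c, τ₂ (M₂ (ι₂ c)) = c) (hk : ∀ y, τ₂ (M₂ y) = 0 → M₂ y = 0) :
    ∃ ρ : (Fin b → S) →ₗ[S] (Fin b → S), (∀ w, ρ w ∈ LinearMap.range M₂) ∧
      ∀ x ∈ LinearMap.range M₂, ρ x = x := by
  refine ⟨M₂ ∘ₗ ι₂ ∘ₗ τ₂, fun w => ⟨ι₂ (τ₂ w), rfl⟩, ?_⟩
  rintro _ ⟨x, rfl⟩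
  show M₂ (ι₂ (τ₂ (M₂ x))) = M₂ x
  have := hk (x - ι₂ (τ₂ (M₂ x))) (by rw [map_sub, map_sub, h₂, sub_self])
  rw [map_sub, sub_eq_zero] at this
  exact this.symm

/-- quotient by a retract is projective -/
theorem projective_quotient {F : Type u} [AddCommGroup F] [Module S F] [Module.Projective S F]
    (N : Submodule S F) (ρ : F →ₗ[S] F) (h1 : ∀ w, ρ w ∈ N) (h2 : ∀ x ∈ N, ρ x = x) :
    Module.Projective S (F ⧸ N) := by
  let i : (F ⧸ N) →ₗ[S] F := N.liftQ (LinearMap.id - ρ) (fun x hx => by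
    rw [LinearMap.mem_ker, LinearMap.sub_apply, LinearMap.id_apply, h2 x hx, sub_self])
  refine Module.Projective.of_split i N.mkQ ?_
  apply LinearMap.ext
  intro z
  obtain ⟨w, rfl⟩ := Submodule.Quotient.mk_surjective N z
  show N.mkQ (i (Submodule.Quotient.mk w)) = Submodule.Quotient.mk w
  have : i (Submodule.Quotient.mk w) = w - ρ w := rfl
  rw [this, map_sub, Submodule.mkQ_apply, Submodule.mkQ_apply,
    (Submodule.Quotient.mk_eq_zero N).2 (h1 w), sub_zero]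

end Groth.Agent.Lib.Helper8.BE1
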