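import Mathlib
import Groth.Prelude.Def_CAlgX
import Groth.Agent.Lib.Helper8.AC2

set_option backward.isDefEq.respectTransparency.types false
set_option autoImplicit false
set_option linter.unusedSectionVars false
set_option linter.style.haveILetI false

namespace Groth.Agent.Lib.Helper8.BE2

open Matrix Groth.Agent.Lib.Helper8.AC2

universe u

/-- generalized Buchsbaum–Eisenbud hypotheses: `r i` is the expected rank of `A i` -/
structure Hyp (R : Type u) [CommRing R] (e : ℕ) (n : ℕ → ℕ)
    (A : (i : ℕ) → Matrix (Fin (n i)) (Fin (n (i + 1))) R) (r : ℕ → ℕ) : Prop where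
  cplx : ∀ i, i + 2 ≤ e → A i * A (i + 1) = 0
  rtop : r (e - 1) = n e
  radd : ∀ i, i + 2 ≤ e → r i + r (i + 1) = n (i + 1)
  grade : ∀ i, i < e → CAlgX.minorIdeal (A i) (r i) = ⊤ ∨
    ∃ rs : List R, rs.length = i + 1 ∧ (∀ x ∈ rs, x ∈ CAlgX.minorIdeal (A i) (r i)) ∧
      RingTheory.Sequence.IsRegular R rs

/-- exactness in positive degrees -/
def Exact (R : Type u) [CommRing R] (e : ℕ) (n : ℕ → ℕ)
    (A : (i : ℕ) → Matrix (Fin (n i)) (Fin (n (i + 1))) R) : Prop :=
  LinearMap.ker (A (e - 1)).mulVecLin = ⊥ ∧
    ∀ i, i + 2 ≤ e → LinearMap.ker (A i).mulVecLin = LinearMap.range (A (i + 1)).mulVecLin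

theorem minorIdeal_map {R S : Type u} [CommRing R] [CommRing S] (φ : R →+* S)
    {m n : Type} [Fintype m] [Fintype n] (A : Matrix m n R) (r : ℕ) :
    CAlgX.minorIdeal (A.map φ) r = (CAlgX.minorIdeal A r).map φ := by
  unfold CAlgX.minorIdeal
  rw [Ideal.map_span, ← Set.range_comp]
  congr 1
  ext x
  constructor
  · rintro ⟨fg, rfl⟩
    refine ⟨fg, ?_⟩
    show φ ((A.submatrix fg.1 fg.2).det) = ((A.map φ).submatrix fg.1 fg.2).det
    rw [RingHom.map_det]
    rfl
  · rintro ⟨fg, rfl⟩
    refine ⟨fg, ?_⟩
    show ((A.map φ).submatrix fg.1 fg.2).det = φ ((A.submatrix fg.1 fg.2).det)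
    rw [RingHom.map_det]
    rfl

variable {R : Type u} [CommRing R]

/-- the hypotheses pass to the localization at a prime -/
theorem Hyp.localize {e : ℕ} {n : ℕ → ℕ} {A : (i : ℕ) → Matrix (Fin (n i)) (Fin (n (i + 1))) R}
    {r : ℕ → ℕ} (h : Hyp R e n A r) (p : Ideal R) [p.IsPrime] :
    Hyp (Localization.AtPrime p) e n
      (fun i => (A i).map (algebraMap R (Localization.AtPrime p))) r := by
  refine ⟨?_, h.rtop, h.radd, ?_⟩
  · intro i hi
    show (A i).map _ * (A (i + 1)).map _ = 0
    rw [← Matrix.map_mul, h.cplx i hi]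
    exact Matrix.map_zero _ (map_zero _)
  · intro i hi
    show CAlgX.minorIdeal ((A i).map (algebraMap R (Localization.AtPrime p))) (r i) = ⊤ ∨ _
    rw [minorIdeal_map]
    rcases h.grade i hi with h1 | ⟨rs, hlen, hmem, hreg⟩
    · left
      rw [h1, Ideal.map_top]
    · by_cases hall : ∀ x ∈ rs, x ∈ p
      · right
        refine ⟨rs.map (algebraMap R (Localization.AtPrime p)), by rw [List.length_map, hlen], ?_,
          hreg.toIsWeaklyRegular.isRegular_of_isLocalization_of_mem _ p hall⟩
        intro y hy
        obtain ⟨x, hx, rfl⟩ := List.mem_map.mp hy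
        exact Ideal.mem_map_of_mem _ (hmem x hx)
      · left
        push Not at hall
        obtain ⟨x, hx, hxp⟩ := hall
        apply Ideal.eq_top_of_isUnit_mem _ (Ideal.mem_map_of_mem _ (hmem x hx))
        exact IsLocalization.map_units (Localization.AtPrime p) (⟨x, hxp⟩ : p.primeCompl)

/-- exactness is local -/
theorem exact_of_localize {e : ℕ} {n : ℕ → ℕ}
    {A : (i : ℕ) → Matrix (Fin (n i)) (Fin (n (i + 1))) R}
    (h : ∀ (p : Ideal R) [p.IsPrime], Exact (Localization.AtPrime p) e n
      (fun i => (A i).map (algebraMap R (Localization.AtPrime p)))) : Exact R e n A := by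
  constructor
  · rw [Submodule.eq_bot_iff]
    intro x hx
    rw [LinearMap.mem_ker, Matrix.mulVecLin_apply] at hx
    let I : Ideal R := LinearMap.ker (LinearMap.toSpanSingleton R (Fin (n (e - 1 + 1)) → R) x)
    have hI : I = ⊤ := by
      by_contra hne
      obtain ⟨m, hm, hle⟩ := Ideal.exists_le_maximal I hne
      haveI := hm.isPrime
      obtain ⟨s, hs, hsx⟩ := ker_local_zero m (A (e - 1)) (h m).1 x hx
      exact hs (hle (by
        show LinearMap.toSpanSingleton R _ x s = 0
        rw [LinearMap.toSpanSingleton_apply, hsx]))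
    have h1 : (1 : R) ∈ I := hI ▸ Submodule.mem_top
    have h2 : LinearMap.toSpanSingleton R _ x 1 = 0 := h1
    rw [LinearMap.toSpanSingleton_apply, one_smul] at h2
    exact h2
  · intro i hi
    apply le_antisymm
    · intro x hx
      rw [LinearMap.mem_ker, Matrix.mulVecLin_apply] at hx
      let I : Ideal R := (LinearMap.range (A (i + 1)).mulVecLin).colon {x}
      have hI : I = ⊤ := by
        by_contra hne
        obtain ⟨m, hm, hle⟩ := Ideal.exists_le_maximal I hne
        haveI := hm.isPrime
        obtain ⟨s, hs, y, hy⟩ := ker_local_range m (A i) (A (i + 1)) ((h m).2 i hi) x hx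
        apply hs
        apply hle
        rw [Submodule.mem_colon_singleton]
        exact ⟨y, by rw [Matrix.mulVecLin_apply, hy]⟩
      have h1 : (1 : R) ∈ I := hI ▸ Submodule.mem_top
      rw [Submodule.mem_colon_singleton, one_smul] at h1
      exact h1
    · rintro _ ⟨y, rfl⟩
      rw [LinearMap.mem_ker, Matrix.mulVecLin_apply, Matrix.mulVecLin_apply,
        Matrix.mulVec_mulVec]
      -- A i * A (i+1) = 0 follows from local vanishing
      by_contra hne
      let z := (A i * A (i + 1)) *ᵥ y
      let I : Ideal R := LinearMap.ker (LinearMap.toSpanSingleton R (Fin (n i) → R) z)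
      have hI : I = ⊤ := by
        by_contra hne'
        obtain ⟨m, hm, hle⟩ := Ideal.exists_le_maximal I hne'
        haveI := hm.isPrime
        -- localized: A i (A (i+1) y) = 0
        have hz : ∀ j, algebraMap R (Localization.AtPrime m) (z j) = 0 := by
          intro j
          have e1 := congrFun (map_mulVec' m (A i * A (i + 1)) y) j
          rw [← e1, Matrix.map_mul, ← Matrix.mulVec_mulVec]
          have hmem : ((A (i + 1)).map (algebraMap R (Localization.AtPrime m))) *ᵥ
              (fun j => algebraMap R (Localization.AtPrime m) (y j)) ∈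
              LinearMap.ker ((A i).map (algebraMap R (Localization.AtPrime m))).mulVecLin := by
            rw [(h m).2 i hi]
            exact ⟨_, rfl⟩
          rw [LinearMap.mem_ker, Matrix.mulVecLin_apply] at hmem
          rw [hmem]
          rfl
        obtain ⟨s, hs, hsz⟩ := exists_smul_eq_zero m z hz
        exact hs (hle (by
          show LinearMap.toSpanSingleton R _ z s = 0
          rw [LinearMap.toSpanSingleton_apply, hsz]))
      have h1 : (1 : R) ∈ I := hI ▸ Submodule.mem_top
      have h2 : LinearMap.toSpanSingleton R _ z 1 = 0 := h1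
      rw [LinearMap.toSpanSingleton_apply, one_smul] at h2
      exact hne h2

end Groth.Agent.Lib.Helper8.BE2
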