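import Mathlib
import Groth.Prelude.Def_CAlgX
import Groth.Agent.Lib.Helper8.BE1
import Groth.Agent.Lib.Helper8.BE2

set_option backward.isDefEq.respectTransparency.types false
set_option autoImplicit false
set_option linter.unusedSectionVars false
set_option linter.style.haveILetI false

namespace Groth.Agent.Lib.Helper8.BE3

open Matrix Groth.Agent.Lib.Helper8.AC1 Groth.Agent.Lib.Helper8.AC2 Groth.Agent.Lib.Helper8.BE1
  Groth.Agent.Lib.Helper8.BE2
open Groth.Agent.Lib.Helper11.Acyc Groth.Agent.Lib.Helper16.Depth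

universe u

section chain

variable {R : Type u} [CommRing R] [IsLocalRing R]
variable (e' : ℕ) (Y : ℕ → Type u) [∀ i, AddCommGroup (Y i)] [∀ i, Module R (Y i)]
  (δ : ∀ i, Y (i + 1) →ₗ[R] Y i)
  (hδ : ∀ i, i < e' → ∀ x, δ i (δ (i + 1) x) = 0)
  (hY : ∀ i j, j < e' + 1 → EV R (Y i) j)
  (hfl : ∀ i, i < e' → IsFiniteLength R
    (LinearMap.ker (δ i) ⧸ (LinearMap.range (δ (i + 1))).comap (LinearMap.ker (δ i)).subtype))

include hδ hY hfl in
theorem acyclic_of_DD (hD : DD Y δ e') :
    ∀ i, i < e' → LinearMap.ker (δ i) = LinearMap.range (δ (i + 1)) := by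
  have key : ∀ t i, i + t = e' →
      DD Y δ i ∧ (i < e' → LinearMap.ker (δ i) = LinearMap.range (δ (i + 1))) := by
    intro t
    induction t with
    | zero =>
      intro i hi
      have : i = e' := by omega
      subst this
      exact ⟨hD, fun h => absurd h (lt_irrefl _)⟩
    | succ t ih =>
      intro i hi
      have hlt : i < e' := by omega
      obtain ⟨hD', _⟩ := ih (i + 1) (by omega)
      obtain ⟨h1, h2⟩ := step e' Y δ hδ hY hfl i hlt hD'
      exact ⟨h2, fun _ => h1⟩
  intro i hi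
  exact (key (e' - i) i (by omega)).2 hi

end chain

section local_step

variable {S : Type u} [CommRing S] [IsLocalRing S]

theorem split_of_top {a b : ℕ} (M : Matrix (Fin b) (Fin a) S) (k : ℕ)
    (htop : CAlgX.minorIdeal M k = ⊤) :
    ∃ (ι : (Fin k → S) →ₗ[S] (Fin a → S)) (τ : (Fin b → S) →ₗ[S] (Fin k → S)),
      ∀ c, τ (M.mulVecLin (ι c)) = c := by
  obtain ⟨fg, hfg⟩ : ∃ fg : (Fin k → Fin b) × (Fin k → Fin a),
      IsUnit (M.submatrix fg.1 fg.2).det := by
    by_contra hno
    push Not at hno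
    have hle : CAlgX.minorIdeal M k ≤ IsLocalRing.maximalIdeal S := by
      unfold CAlgX.minorIdeal
      rw [Ideal.span_le]
      rintro _ ⟨fg, rfl⟩
      exact (IsLocalRing.mem_maximalIdeal _).2 (hno fg)
    rw [htop] at hle
    exact (IsLocalRing.maximalIdeal.isMaximal S).ne_top (top_le_iff.1 hle)
  exact exists_split M fg.1 fg.2 hfg

theorem injective_of_split' {a b k : ℕ} (hk : k = a) (M : (Fin a → S) →ₗ[S] (Fin b → S))
    (ι : (Fin k → S) →ₗ[S] (Fin a → S)) (τ : (Fin b → S) →ₗ[S] (Fin k → S))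
    (h : ∀ c, τ (M (ι c)) = c) : Function.Injective (τ ∘ₗ M) := by
  subst hk
  exact injective_of_split M ι τ h

variable {e : ℕ} {n : ℕ → ℕ} {A : (i : ℕ) → Matrix (Fin (n i)) (Fin (n (i + 1))) S} {r : ℕ → ℕ}

theorem cplx_apply (h : Hyp S e n A r) (i : ℕ) (hi : i + 2 ≤ e) (x : Fin (n (i + 1 + 1)) → S) :
    (A i).mulVecLin ((A (i + 1)).mulVecLin x) = 0 := by
  rw [Matrix.mulVecLin_apply, Matrix.mulVecLin_apply, Matrix.mulVec_mulVec, h.cplx i hi,
    Matrix.zero_mulVec]

theorem exists_split_strong (h : Hyp S e n A r) (i : ℕ) (hi : i < e)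
    (htop : ∀ k, i ≤ k → k < e → CAlgX.minorIdeal (A k) (r k) = ⊤) :
    ∃ (ι : (Fin (r i) → S) →ₗ[S] (Fin (n (i + 1)) → S))
      (τ : (Fin (n i) → S) →ₗ[S] (Fin (r i) → S)),
      (∀ c, τ ((A i).mulVecLin (ι c)) = c) ∧
      ∀ y, τ ((A i).mulVecLin y) = 0 →
        (i + 2 ≤ e → y ∈ LinearMap.range (A (i + 1)).mulVecLin) ∧ (i + 1 = e → y = 0) := by
  obtain ⟨ι, τ, hsp⟩ := split_of_top (A i) (r i) (htop i le_rfl hi)
  refine ⟨ι, τ, hsp, fun y hy => ⟨fun hi2 => ?_, fun hie => ?_⟩⟩
  · obtain ⟨ι₂, τ₂, hsp₂⟩ := split_of_top (A (i + 1)) (r (i + 1)) (htop (i + 1) (by omega) (by omega))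
    have := eq_of_split (A i).mulVecLin (A (i + 1)).mulVecLin (cplx_apply h i hi2) ι τ hsp ι₂ τ₂ hsp₂
      (h.radd i hi2) y hy
    exact ⟨_, this.symm⟩
  · have hr : r i = n (i + 1) := by
      have := h.rtop
      subst hie
      simpa using this
    have hinj := injective_of_split' hr (A i).mulVecLin ι τ hsp
    apply hinj
    rw [LinearMap.comp_apply, hy, map_zero]

theorem local_step [IsNoetherianRing S] (he : 1 ≤ e) (h : Hyp S e n A r)
    (IH : ∀ (q : Ideal S) [q.IsPrime], q ≠ IsLocalRing.maximalIdeal S →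
      Exact (Localization.AtPrime q) e n
        (fun i => (A i).map (algebraMap S (Localization.AtPrime q)))) :
    Exact S e n A := by
  classical
  let P : ℕ → Prop := fun j => 1 ≤ j ∧ CAlgX.minorIdeal (A (j - 1)) (r (j - 1)) ≠ ⊤
  obtain ⟨s, hs⟩ : ∃ s, s = Nat.findGreatest P e := ⟨_, rfl⟩
  have hse : s ≤ e := hs ▸ Nat.findGreatest_le e
  have htop : ∀ k, s ≤ k → k < e → CAlgX.minorIdeal (A k) (r k) = ⊤ := by
    intro k hk hke
    by_contra hne
    have hlt : Nat.findGreatest P e < k + 1 := by rw [← hs]; omega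
    exact Nat.findGreatest_is_greatest hlt (by omega) ⟨by omega, by simpa using hne⟩
  have tailE2 : ∀ i, s ≤ i → i + 2 ≤ e →
      LinearMap.ker (A i).mulVecLin = LinearMap.range (A (i + 1)).mulVecLin := by
    intro i hsi hi
    obtain ⟨ι, τ, hsp, hstr⟩ := exists_split_strong h i (by omega)
      (fun k hk hke => htop k (by omega) hke)
    apply le_antisymm
    · intro y hy
      rw [LinearMap.mem_ker] at hy
      exact (hstr y (by rw [hy, map_zero])).1 hi
    · rintro _ ⟨x, rfl⟩
      rw [LinearMap.mem_ker]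
      exact cplx_apply h i hi x
  have tailE1 : s < e → LinearMap.ker (A (e - 1)).mulVecLin = ⊥ := by
    intro hlt
    obtain ⟨ι, τ, hsp, hstr⟩ := exists_split_strong h (e - 1) (by omega)
      (fun k hk hke => htop k (by omega) hke)
    rw [Submodule.eq_bot_iff]
    intro y hy
    rw [LinearMap.mem_ker] at hy
    exact (hstr y (by rw [hy, map_zero])).2 (by omega)
  rcases s with _ | s'
  · exact ⟨tailE1 (by omega), fun i hi => tailE2 i (by omega) hi⟩
  -- now `s = s' + 1`
  have hPs : P (s' + 1) := Nat.findGreatest_of_ne_zero hs.symm (by omega)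
  have hne : CAlgX.minorIdeal (A s') (r s') ≠ ⊤ := by simpa using hPs.2
  have hs'e : s' < e := by omega
  obtain ⟨rs, hlen, hmem, hreg⟩ : ∃ rs : List S, rs.length = s' + 1 ∧
      (∀ x ∈ rs, x ∈ CAlgX.minorIdeal (A s') (r s')) ∧ RingTheory.Sequence.IsRegular S rs := by
    rcases h.grade s' hs'e with h1 | h1
    · exact absurd h1 hne
    · exact h1
  have hRS : HasRegSeq (IsLocalRing.maximalIdeal S) S (s' + 1) :=
    ⟨rs, hlen, hreg.toIsWeaklyRegular, fun x hx => IsLocalRing.le_maximalIdeal hne (hmem x hx)⟩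
  -- the submodule killed at the top
  let N : Submodule S (Fin (n (s' + 1)) → S) :=
    if s' + 1 < e then LinearMap.range (A (s' + 1)).mulVecLin else ⊥
  have hNpos : s' + 1 < e → N = LinearMap.range (A (s' + 1)).mulVecLin := fun hlt => if_pos hlt
  have hNneg : ¬ s' + 1 < e → N = ⊥ := fun hlt => if_neg hlt
  have N1 : N ≤ LinearMap.ker (A s').mulVecLin := by
    by_cases hlt : s' + 1 < e
    · rw [hNpos hlt]
      rintro _ ⟨x, rfl⟩
      rw [LinearMap.mem_ker]
      exact cplx_apply h s' (by omega) x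
    · rw [hNneg hlt]
      exact bot_le
  have N2 : ∃ ρ : (Fin (n (s' + 1)) → S) →ₗ[S] (Fin (n (s' + 1)) → S),
      (∀ w, ρ w ∈ N) ∧ ∀ x ∈ N, ρ x = x := by
    by_cases hlt : s' + 1 < e
    · rw [hNpos hlt]
      obtain ⟨ι, τ, hsp, hstr⟩ := exists_split_strong h (s' + 1) hlt
        (fun k hk hke => htop k hk hke)
      apply exists_projector (A (s' + 1)).mulVecLin ι τ hsp
      intro y hy
      by_cases h2 : s' + 1 + 2 ≤ e
      · obtain ⟨z, rfl⟩ := (hstr y hy).1 h2
        exact cplx_apply h (s' + 1) h2 z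
      · rw [(hstr y hy).2 (by omega), map_zero]
    · rw [hNneg hlt]
      refine ⟨0, fun w => by simp, fun x hx => ?_⟩
      rw [Submodule.mem_bot] at hx
      rw [hx, map_zero]
  obtain ⟨ρ, hρ1, hρ2⟩ := N2
  haveI : Module.Projective S ((Fin (n (s' + 1)) → S) ⧸ N) := projective_quotient N ρ hρ1 hρ2
  haveI : Module.Free S ((Fin (n (s' + 1)) → S) ⧸ N) := Module.free_of_flat_of_isLocalRing
  have hEVC : ∀ j, j < s' + 1 → EV S ((Fin (n (s' + 1)) → S) ⧸ N) j := fun j hj =>
    EV_of_free (s' + 1) hRS _ j hj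
  let δC : ((Fin (n (s' + 1)) → S) ⧸ N) →ₗ[S] (Fin (n s') → S) := N.liftQ (A s').mulVecLin N1
  have hδC : ∀ x, δC (Submodule.Quotient.mk x) = (A s') *ᵥ x := fun x => rfl
  -- finite length of the kernel
  have N4 : IsFiniteLength S (LinearMap.ker δC) := by
    apply Groth.Agent.Lib.Helper9.FinLenSupp.isFiniteLength_of_support_subset
    intro q hq
    by_contra hneq
    revert hq
    rw [imp_false, Module.notMem_support_iff']
    rintro ⟨z, hz⟩
    obtain ⟨x, rfl⟩ := Submodule.Quotient.mk_surjective N z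
    rw [LinearMap.mem_ker, hδC] at hz
    by_cases hlt : s' + 1 < e
    · obtain ⟨t, ht, y, hy⟩ := ker_local_range q.asIdeal (A s') (A (s' + 1))
        ((IH q.asIdeal hneq).2 s' (by omega)) x hz
      refine ⟨t, ht, Subtype.ext ?_⟩
      show t • (Submodule.Quotient.mk x : (Fin (n (s' + 1)) → S) ⧸ N) = 0
      rw [← Submodule.Quotient.mk_smul, Submodule.Quotient.mk_eq_zero, hNpos hlt]
      exact ⟨y, by rw [Matrix.mulVecLin_apply, hy]⟩
    · have hes : e - 1 = s' := by omega
      have hE1 := (IH q.asIdeal hneq).1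
      rw [hes] at hE1
      obtain ⟨t, ht, htx⟩ := ker_local_zero q.asIdeal (A s') hE1 x hz
      refine ⟨t, ht, Subtype.ext ?_⟩
      show t • (Submodule.Quotient.mk x : (Fin (n (s' + 1)) → S) ⧸ N) = 0
      rw [← Submodule.Quotient.mk_smul, htx, Submodule.Quotient.mk_zero]
  have N5 : LinearMap.ker δC = ⊥ := by
    have e0 : EV S (LinearMap.ker δC) 0 :=
      EV_left_zero (LinearMap.ker δC).subtype δC.rangeRestrict
        (Submodule.subtype_injective _) (LinearMap.surjective_rangeRestrict _)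
        (exact_ker_rr δC) (hEVC 0 (by omega))
    have hsub := subsingleton_of_EV_zero _ N4 e0
    exact Submodule.eq_bot_iff _ |>.mpr fun x hx => by
      have := Subsingleton.elim (⟨x, hx⟩ : LinearMap.ker δC) 0
      exact congrArg Subtype.val this
  have N6 : LinearMap.ker (A s').mulVecLin ≤ N := by
    intro x hx
    rw [LinearMap.mem_ker, Matrix.mulVecLin_apply] at hx
    have h1 : (Submodule.Quotient.mk x : (Fin (n (s' + 1)) → S) ⧸ N) ∈ LinearMap.ker δC := by
      rw [LinearMap.mem_ker, hδC, hx]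
    rw [N5, Submodule.mem_bot, Submodule.Quotient.mk_eq_zero] at h1
    exact h1
  -- the lower part via the acyclicity lemma
  have hD : DD (fun i => Fin (n i) → S) (fun i => (A i).mulVecLin) s' := by
    intro j hj
    have hinj : Function.Injective δC := LinearMap.ker_eq_bot.mp N5
    have hrange : LinearMap.range δC = LinearMap.range (A s').mulVecLin :=
      Submodule.range_liftQ N _ N1
    have e1 : EV S (LinearMap.range δC) j :=
      EV_congr (LinearEquiv.ofInjective δC hinj) j (hEVC j (by omega))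
    exact EV_congr (LinearEquiv.ofEq _ _ hrange) j e1
  have low : ∀ i, i < s' →
      LinearMap.ker (A i).mulVecLin = LinearMap.range (A (i + 1)).mulVecLin := by
    refine acyclic_of_DD s' (fun i => Fin (n i) → S) (fun i => (A i).mulVecLin) ?_ ?_ ?_ hD
    · intro i hi x
      exact cplx_apply h i (by omega) x
    · intro i j hj
      exact EV_of_free (s' + 1) hRS _ j hj
    · intro i hi
      apply Groth.Agent.Lib.Helper9.FinLenSupp.isFiniteLength_of_support_subset
      intro q hq
      by_contra hneq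
      revert hq
      rw [imp_false, Module.notMem_support_iff']
      intro z
      obtain ⟨⟨x, hx⟩, rfl⟩ := Submodule.Quotient.mk_surjective _ z
      have hx' := hx
      rw [LinearMap.mem_ker, Matrix.mulVecLin_apply] at hx'
      obtain ⟨t, ht, y, hy⟩ := ker_local_range q.asIdeal (A i) (A (i + 1))
        ((IH q.asIdeal hneq).2 i (by omega)) x hx'
      refine ⟨t, ht, ?_⟩
      rw [← Submodule.Quotient.mk_smul, Submodule.Quotient.mk_eq_zero, Submodule.mem_comap]
      show t • x ∈ LinearMap.range (A (i + 1)).mulVecLin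
      exact ⟨y, by rw [Matrix.mulVecLin_apply, hy]⟩
  constructor
  · by_cases hlt : s' + 1 < e
    · exact tailE1 hlt
    · have hes : e - 1 = s' := by omega
      rw [hes, eq_bot_iff, ← hNneg hlt]
      exact N6
  · intro i hi
    rcases lt_trichotomy i s' with hlt | heq | hgt
    · exact low i hlt
    · subst heq
      have hlt : i + 1 < e := by omega
      apply le_antisymm
      · rw [← hNpos hlt]; exact N6
      · rw [← hNpos hlt]; exact N1
    · exact tailE2 i (by omega) hi

end local_step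

end Groth.Agent.Lib.Helper8.BE3
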