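import Mathlib
import Groth.Prelude.Def_CAlgX
import Groth.Agent.Lib.Helper8.BE3

set_option backward.isDefEq.respectTransparency.types false
set_option autoImplicit false
set_option linter.unusedSectionVars false
set_option linter.style.haveILetI false

namespace Groth.Agent.Lib.Helper8.BE4

open Matrix Groth.Agent.Lib.Helper8.BE2 Groth.Agent.Lib.Helper8.BE3

universe u

theorem exact_of_hyp_local : ∀ (N : ℕ) (S : Type u) [CommRing S] [IsLocalRing S]
    [IsNoetherianRing S], (IsLocalRing.maximalIdeal S).height ≤ (N : ℕ∞) →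
    ∀ (e : ℕ) (_ : 1 ≤ e) (n : ℕ → ℕ) (A : (i : ℕ) → Matrix (Fin (n i)) (Fin (n (i + 1))) S)
      (r : ℕ → ℕ), Hyp S e n A r → Exact S e n A := by
  intro N
  induction N with
  | zero =>
    intro S _ _ _ hN e he n A r h
    apply local_step he h
    intro q _ hq
    exfalso
    have hlt : q < IsLocalRing.maximalIdeal S :=
      lt_of_le_of_ne (IsLocalRing.le_maximalIdeal (Ideal.IsPrime.ne_top ‹_›)) hq
    have := Ideal.height_strict_mono_of_isPrime hlt
    have h2 := this.trans_le hN
    simp at h2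
  | succ N ih =>
    intro S _ _ _ hN e he n A r h
    apply local_step he h
    intro q _ hq
    have hlt : q < IsLocalRing.maximalIdeal S :=
      lt_of_le_of_ne (IsLocalRing.le_maximalIdeal (Ideal.IsPrime.ne_top ‹_›)) hq
    have h1 := Ideal.height_strict_mono_of_isPrime hlt
    have h2 : q.height < ((N + 1 : ℕ) : ℕ∞) := h1.trans_le hN
    have h3 : q.height ≤ (N : ℕ∞) := by
      rw [Nat.cast_add, Nat.cast_one] at h2
      exact Order.le_of_lt_add_one h2
    have h4 : (IsLocalRing.maximalIdeal (Localization.AtPrime q)).height = q.height := by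
      have e1 := IsLocalization.AtPrime.ringKrullDim_eq_height q (Localization.AtPrime q)
      rw [← IsLocalRing.maximalIdeal_height_eq_ringKrullDim] at e1
      exact_mod_cast e1
    exact ih (Localization.AtPrime q) (h4 ▸ h3) e he n _ r (h.localize q)

theorem exact_of_hyp {R : Type u} [CommRing R] [IsNoetherianRing R] {e : ℕ} (he : 1 ≤ e)
    {n : ℕ → ℕ} {A : (i : ℕ) → Matrix (Fin (n i)) (Fin (n (i + 1))) R} {r : ℕ → ℕ}
    (h : Hyp R e n A r) : Exact R e n A := by
  apply exact_of_localize
  intro p _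
  have hfin : (IsLocalRing.maximalIdeal (Localization.AtPrime p)).height ≠ ⊤ :=
    Ideal.height_ne_top (Ideal.IsPrime.ne_top inferInstance)
  obtain ⟨N, hN⟩ := ENat.ne_top_iff_exists.mp hfin
  exact exact_of_hyp_local N (Localization.AtPrime p) (hN ▸ le_rfl) e he n _ r (h.localize p)

theorem main962 {R : Type u} [CommRing R] [IsNoetherianRing R]
    (e : ℕ) (he : 1 ≤ e) (n : ℕ → ℕ) (A : (i : ℕ) → Matrix (Fin (n i)) (Fin (n (i + 1))) R)
    (hA : ∀ i, i + 2 ≤ e → A i * A (i + 1) = 0)
    (hrank : ∀ j, 1 ≤ j → j ≤ e →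
      (CAlgX.matrixRank (A (j - 1)) : ℤ) = ∑ t ∈ Finset.Icc j e, (-1 : ℤ) ^ (t - j) * (n t : ℤ))
    (hdet : ∀ j, 1 ≤ j → j ≤ e →
      CAlgX.detIdeal (A (j - 1)) = ⊤ ∨
        ∃ rs : List R, rs.length = j ∧ (∀ r ∈ rs, r ∈ CAlgX.detIdeal (A (j - 1))) ∧
          RingTheory.Sequence.IsRegular R rs) :
    LinearMap.ker (A (e - 1)).mulVecLin = ⊥ ∧
      ∀ i, i + 2 ≤ e → LinearMap.ker (A i).mulVecLin = LinearMap.range (A (i + 1)).mulVecLin := by
  have hyp : Hyp R e n A (fun i => CAlgX.matrixRank (A i)) := by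
    refine ⟨hA, ?_, ?_, ?_⟩
    · have h1 := hrank e he le_rfl
      rw [Finset.Icc_self, Finset.sum_singleton, Nat.sub_self, pow_zero, one_mul] at h1
      exact_mod_cast h1
    · intro i hi
      have h1 := hrank (i + 1) (by omega) (by omega)
      have h2 := hrank (i + 2) (by omega) (by omega)
      rw [Nat.add_sub_cancel] at h1
      have e2 : i + 2 - 1 = i + 1 := by omega
      rw [e2] at h2
      have h3 : ∑ t ∈ Finset.Icc (i + 1) e, (-1 : ℤ) ^ (t - (i + 1)) * (n t : ℤ) =
          (n (i + 1) : ℤ) - ∑ t ∈ Finset.Icc (i + 2) e, (-1 : ℤ) ^ (t - (i + 2)) * (n t : ℤ) := by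
        have hsplit : Finset.Icc (i + 1) e = insert (i + 1) (Finset.Icc (i + 2) e) := by
          ext t
          simp only [Finset.mem_Icc, Finset.mem_insert]
          omega
        rw [hsplit, Finset.sum_insert (by simp), Nat.sub_self, pow_zero, one_mul,
          sub_eq_add_neg, ← Finset.sum_neg_distrib]
        congr 1
        apply Finset.sum_congr rfl
        intro t ht
        rw [Finset.mem_Icc] at ht
        have e3 : t - (i + 1) = (t - (i + 2)) + 1 := by omega
        rw [e3, pow_succ]
        ring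
      rw [h3, ← h2] at h1
      have h4 : (CAlgX.matrixRank (A i) : ℤ) + (CAlgX.matrixRank (A (i + 1)) : ℤ) =
          (n (i + 1) : ℤ) := by linarith
      exact_mod_cast h4
    · intro i hi
      have := hdet (i + 1) (by omega) (by omega)
      rw [Nat.add_sub_cancel] at this
      exact this
  exact exact_of_hyp he hyp

end Groth.Agent.Lib.Helper8.BE4
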