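import Mathlib

set_option backward.isDefEq.respectTransparency.types false
set_option autoImplicit false
set_option linter.unusedSectionVars false
set_option linter.style.haveILetI false

namespace Groth.Agent.Lib.Helper8.BF1

/-- membership in the cyclic subgroup generated by `a` in `ZMod n` -/
theorem mem_zmultiples_iff (n : ℕ) (a z : ℤ) :
    ((z : ZMod n)) ∈ AddSubgroup.zmultiples ((a : ZMod n)) ↔ ((Int.gcd n a : ℕ) : ℤ) ∣ z := by
  rw [AddSubgroup.mem_zmultiples_iff]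
  constructor
  · rintro ⟨k, hk⟩
    have h1 : ((k * a : ℤ) : ZMod n) = (z : ZMod n) := by
      rw [← hk]; push_cast; rw [zsmul_eq_mul]
    rw [ZMod.intCast_eq_intCast_iff_dvd_sub] at h1
    have h2 : ((Int.gcd n a : ℕ) : ℤ) ∣ (n : ℤ) := Int.gcd_dvd_left _ _
    have h3 : ((Int.gcd n a : ℕ) : ℤ) ∣ a := Int.gcd_dvd_right _ _
    have h4 : ((Int.gcd n a : ℕ) : ℤ) ∣ z - k * a := h2.trans h1
    have h5 : ((Int.gcd n a : ℕ) : ℤ) ∣ k * a := h3.mul_left k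
    have := dvd_add h4 h5
    simpa using this
  · rintro ⟨c, hc⟩
    have hb := Int.gcd_eq_gcd_ab (n : ℤ) a
    refine ⟨c * Int.gcdB n a, ?_⟩
    rw [zsmul_eq_mul]
    have : (z : ZMod n) = ((c * Int.gcdB n a * a : ℤ) : ZMod n) := by
      rw [ZMod.intCast_eq_intCast_iff_dvd_sub]
      refine ⟨-(c * Int.gcdA n a), ?_⟩
      rw [hc, hb]; ring
    rw [this]; push_cast; ring

/-- the projection `ZMod n → ZMod (gcd n a)` -/
noncomputable def proj (n : ℕ) (a : ℤ) : ZMod n →+ ZMod (Int.gcd n a) :=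
  (ZMod.castHom (Int.natCast_dvd_natCast.mp (Int.gcd_dvd_left (n : ℤ) a))
    (ZMod (Int.gcd n a))).toAddMonoidHom

theorem proj_intCast (n : ℕ) (a z : ℤ) : proj n a (z : ZMod n) = (z : ZMod (Int.gcd n a)) := by
  simp [proj]

theorem proj_surjective (n : ℕ) (a : ℤ) : Function.Surjective (proj n a) :=
  ZMod.ringHom_surjective _

theorem proj_eq_zero_iff (n : ℕ) (a : ℤ) (x : ZMod n) :
    proj n a x = 0 ↔ x ∈ AddSubgroup.zmultiples ((a : ZMod n)) := by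
  obtain ⟨z, rfl⟩ := ZMod.intCast_surjective x
  rw [proj_intCast, ZMod.intCast_zmod_eq_zero_iff_dvd, mem_zmultiples_iff]

/-- arithmetic facts on `m = n / gcd n a` -/
theorem gcd_facts (n : ℕ) (a : ℤ) : ∃ (m : ℕ) (c : ℤ), n / Int.gcd n a = m ∧
    (n : ℤ) = (m : ℤ) * ((Int.gcd n a : ℕ) : ℤ) ∧ a = ((Int.gcd n a : ℕ) : ℤ) * c ∧
    (0 < n → IsCoprime (m : ℤ) c) := by
  have hG : (Int.gcd n a : ℕ) ∣ n := Int.natCast_dvd_natCast.mp (Int.gcd_dvd_left (n : ℤ) a)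
  obtain ⟨c, hc⟩ : ((Int.gcd n a : ℕ) : ℤ) ∣ a := Int.gcd_dvd_right _ _
  have hb := Int.gcd_eq_gcd_ab (n : ℤ) a
  refine ⟨n / Int.gcd n a, c, rfl, ?_, hc, ?_⟩
  · have := Nat.div_mul_cancel hG
    exact_mod_cast this.symm
  · intro hn
    have hGpos : 0 < Int.gcd n a := Int.gcd_pos_of_ne_zero_left _ (by exact_mod_cast hn.ne')
    have hGne : ((Int.gcd n a : ℕ) : ℤ) ≠ 0 := by exact_mod_cast hGpos.ne'
    have hn' : (n : ℤ) = ((n / Int.gcd n a : ℕ) : ℤ) * ((Int.gcd n a : ℕ) : ℤ) := by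
      have := Nat.div_mul_cancel hG
      exact_mod_cast this.symm
    refine ⟨Int.gcdA n a, Int.gcdB n a, ?_⟩
    have h1 : ((Int.gcd n a : ℕ) : ℤ) *
        (Int.gcdA n a * ((n / Int.gcd n a : ℕ) : ℤ) + Int.gcdB n a * c) =
        ((Int.gcd n a : ℕ) : ℤ) * 1 := by
      rw [mul_one]
      have e1 : ((Int.gcd n a : ℕ) : ℤ) *
          (Int.gcdA n a * ((n / Int.gcd n a : ℕ) : ℤ) + Int.gcdB n a * c) =
          (((n / Int.gcd n a : ℕ) : ℤ) * ((Int.gcd n a : ℕ) : ℤ)) * Int.gcdA n a +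
            (((Int.gcd n a : ℕ) : ℤ) * c) * Int.gcdB n a := by ring
      rw [e1, ← hn', ← hc]
      exact hb.symm
    exact mul_left_cancel₀ hGne h1

/-- multiplication by `a`: `ZMod (n / gcd n a) → ZMod n` -/
noncomputable def mulA (n : ℕ) (a : ℤ) : ZMod (n / Int.gcd n a) →+ ZMod n :=
  ZMod.lift (n / Int.gcd n a) ⟨(AddMonoidHom.mulRight ((a : ZMod n))).comp (Int.castAddHom (ZMod n)), by
    show ((((n / Int.gcd n a : ℕ) : ℤ) : ZMod n)) * (a : ZMod n) = 0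
    obtain ⟨m, c, hm, hn, hc, _⟩ := gcd_facts n a
    rw [hm]
    have h3 : ((m : ℤ)) * a = (n : ℤ) * c := by
      have e0 : (m : ℤ) * a = ((m : ℤ) * ((Int.gcd n a : ℕ) : ℤ)) * c := by
        conv_lhs => rw [hc]
        ring
      rw [e0, ← hn]
    have h4 := congrArg (Int.cast : ℤ → ZMod n) h3
    push_cast at h4 ⊢
    rw [h4]; simp⟩

theorem mulA_intCast (n : ℕ) (a z : ℤ) :
    mulA n a (z : ZMod (n / Int.gcd n a)) = (z : ZMod n) * (a : ZMod n) := by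
  rw [mulA, ZMod.lift_coe]
  rfl

theorem mulA_injective (n : ℕ) (hn : 0 < n) (a : ℤ) : Function.Injective (mulA n a) := by
  rw [injective_iff_map_eq_zero]
  intro x hx
  obtain ⟨z, rfl⟩ := ZMod.intCast_surjective x
  rw [mulA_intCast] at hx
  have h0 : ((z * a : ℤ) : ZMod n) = 0 := by push_cast; exact hx
  rw [ZMod.intCast_zmod_eq_zero_iff_dvd] at h0
  rw [ZMod.intCast_zmod_eq_zero_iff_dvd]
  obtain ⟨m, c, hm, hn', hc, hcop⟩ := gcd_facts n a
  rw [hm]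
  have hGpos : 0 < Int.gcd n a := Int.gcd_pos_of_ne_zero_left _ (by exact_mod_cast hn.ne')
  have hGne : ((Int.gcd n a : ℕ) : ℤ) ≠ 0 := by exact_mod_cast hGpos.ne'
  have h2 : (m : ℤ) ∣ z * c := by
    have : ((Int.gcd n a : ℕ) : ℤ) * (m : ℤ) ∣ ((Int.gcd n a : ℕ) : ℤ) * (z * c) := by
      have e1 : ((Int.gcd n a : ℕ) : ℤ) * (m : ℤ) = (n : ℤ) := (mul_comm _ _).trans hn'.symm
      have e2 : ((Int.gcd n a : ℕ) : ℤ) * (z * c) = z * a := by
        conv_rhs => rw [hc]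
        ring
      rw [e1, e2]
      exact h0
    exact (mul_dvd_mul_iff_left hGne).mp this
  exact (hcop hn).dvd_of_dvd_mul_right h2

theorem range_mulA (n : ℕ) (a : ℤ) :
    (mulA n a).range = AddSubgroup.zmultiples ((a : ZMod n)) := by
  ext y
  rw [AddMonoidHom.mem_range, AddSubgroup.mem_zmultiples_iff]
  constructor
  · rintro ⟨x, rfl⟩
    obtain ⟨z, rfl⟩ := ZMod.intCast_surjective x
    exact ⟨z, by rw [mulA_intCast, zsmul_eq_mul]⟩
  · rintro ⟨k, rfl⟩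
    exact ⟨(k : ZMod _), by rw [mulA_intCast, zsmul_eq_mul]⟩

end Groth.Agent.Lib.Helper8.BF1
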