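import Mathlib

set_option backward.isDefEq.respectTransparency.types false
set_option autoImplicit false
set_option linter.unusedSectionVars false
set_option linter.style.haveILetI false

namespace Groth.Agent.Lib.Helper8.BF2

open Module

/-- a vector of `ℤ^r` is `gcd` times a member of a basis: there is an automorphism `T` of `ℤ^r`
with `T (D e₀) = d`. -/
theorem exists_T (r : ℕ) (hr : 0 < r) (d : Fin r → ℤ) :
    ∃ T : (Fin r → ℤ) ≃ₗ[ℤ] (Fin r → ℤ),
      T ((Finset.univ.gcd d) • Pi.single (⟨0, hr⟩ : Fin r) (1 : ℤ)) = d := by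
  classical
  by_cases hd : d = 0
  · refine ⟨LinearEquiv.refl ℤ _, ?_⟩
    have : Finset.univ.gcd d = 0 := by
      rw [Finset.gcd_eq_zero_iff]
      intro i _
      rw [hd]; rfl
    rw [this, zero_smul, map_zero, hd]
  set D := Finset.univ.gcd d with hD
  let N : Submodule ℤ (Fin r → ℤ) := ℤ ∙ d
  obtain ⟨n, snf⟩ := N.smithNormalForm (Pi.basisFun ℤ (Fin r))
  have hn : n = 1 := by
    have h1 : Module.finrank ℤ N = n := by
      rw [Module.finrank_eq_card_basis snf.bN, Fintype.card_fin]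
    have h2 : Module.finrank ℤ N = 1 := by
      rw [← (LinearEquiv.toSpanNonzeroSingleton ℤ (Fin r → ℤ) d hd).finrank_eq]
      exact Module.finrank_self ℤ
    omega
  subst hn
  set k := snf.f 0 with hk
  set a := snf.a 0 with ha
  have hsnf : (snf.bN 0 : Fin r → ℤ) = a • snf.bM k := snf.snf 0
  have hdN : d ∈ N := Submodule.mem_span_singleton_self d
  have hrepr := snf.bN.sum_repr ⟨d, hdN⟩
  rw [Fin.sum_univ_one] at hrepr
  set c := snf.bN.repr ⟨d, hdN⟩ 0 with hc
  have hd' : d = (c * a) • snf.bM k := by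
    have := congrArg Subtype.val hrepr
    rw [Submodule.coe_smul, hsnf, smul_smul] at this
    exact this.symm
  set A' := c * a with hA'
  have h1 : A' ∣ D := by
    apply Finset.dvd_gcd
    intro i _
    rw [hd']
    exact ⟨snf.bM k i, by simp⟩
  have h2 : D ∣ A' := by
    have hdiv : ∀ i, D ∣ d i := fun i => Finset.gcd_dvd (Finset.mem_univ i)
    let d₀ : Fin r → ℤ := fun i => d i / D
    have hd₀ : d = D • d₀ := by
      funext i
      rw [Pi.smul_apply, smul_eq_mul, Int.mul_ediv_cancel' (hdiv i)]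
    have e1 : snf.bM.repr d k = A' := by
      rw [hd', map_smul, Basis.repr_self, Finsupp.smul_apply, Finsupp.single_eq_same, smul_eq_mul,
        mul_one]
    have e2 : snf.bM.repr d k = D * snf.bM.repr d₀ k := by
      conv_lhs => rw [hd₀]
      rw [map_smul, Finsupp.smul_apply, smul_eq_mul]
    exact ⟨_, e1.symm.trans e2⟩
  have hassoc : Associated D A' := associated_of_dvd_dvd h2 h1
  rw [Int.associated_iff] at hassoc
  -- sign
  obtain ⟨ε, hε⟩ : ∃ ε : ℤˣ, A' = D * (ε : ℤ) := by
    rcases hassoc with h | h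
    · exact ⟨1, by rw [h]; simp⟩
    · exact ⟨-1, by rw [h]; simp⟩
  let w : Fin r → ℤˣ := fun i => if i = k then ε else 1
  let f := snf.bM.unitsSMul w
  have hfk : f k = (ε : ℤ) • snf.bM k := by
    rw [Basis.unitsSMul_apply]
    simp only [w, if_pos rfl]
    rfl
  let T := (Pi.basisFun ℤ (Fin r)).equiv f (Equiv.swap (⟨0, hr⟩ : Fin r) k)
  refine ⟨T, ?_⟩
  have hT : T (Pi.single (⟨0, hr⟩ : Fin r) (1 : ℤ)) = f k := by
    have := Basis.equiv_apply (b := Pi.basisFun ℤ (Fin r)) (b' := f) (⟨0, hr⟩ : Fin r)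
      (Equiv.swap (⟨0, hr⟩ : Fin r) k)
    rw [Pi.basisFun_apply, Equiv.swap_apply_left] at this
    exact this
  rw [map_smul, hT, hfk, smul_smul, ← hε]
  exact hd'.symm

end Groth.Agent.Lib.Helper8.BF2
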