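import Mathlib
import Groth.Agent.Lib.Helper8.BF1
import Groth.Agent.Lib.Helper8.BF2

set_option backward.isDefEq.respectTransparency.types false
set_option autoImplicit false
set_option linter.unusedSectionVars false
set_option linter.style.haveILetI false

namespace Groth.Agent.Lib.Helper8.BF3

open Groth.Agent.Lib.Helper8.BF1

/-- `ℤ^{r'+1}` -/
abbrev VV (r' : ℕ) : Type := Fin (r' + 1) → ℤ

section ET

variable {r' : ℕ} (δ : ℕ) (T : VV r' ≃ₗ[ℤ] VV r')

theorem sum_single (y : VV r') : ∑ i, y i • (Pi.single i (1 : ℤ) : VV r') = y := by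
  have := (Pi.basisFun ℤ (Fin (r' + 1))).sum_repr y
  simpa using this

/-- coordinates of a character with respect to the basis `T e_i` -/
noncomputable def ET : (VV r' →+ ZMod δ) ≃+ (Fin (r' + 1) → ZMod δ) where
  toFun φ := fun i => φ (T (Pi.single i 1))
  invFun w :=
    { toFun := fun x => ∑ i, (T.symm x) i • w i
      map_zero' := by simp
      map_add' := by
        intro x y
        simp [add_smul, Finset.sum_add_distrib] }
  left_inv φ := by
    apply DFunLike.ext
    intro x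
    show ∑ i, (T.symm x) i • φ (T (Pi.single i 1)) = φ x
    have h1 : ∀ i, (T.symm x) i • φ (T (Pi.single i 1)) =
        φ (T ((T.symm x) i • (Pi.single i (1 : ℤ) : VV r'))) := by
      intro i
      rw [map_smul, map_zsmul]
    simp only [h1]
    rw [← map_sum, ← map_sum, sum_single, LinearEquiv.apply_symm_apply]
  right_inv w := by
    funext j
    show ∑ i, (T.symm (T (Pi.single j 1))) i • w i = w j
    rw [LinearEquiv.symm_apply_apply, Finset.sum_eq_single j]
    · simp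
    · intro i _ hij
      rw [Pi.single_eq_of_ne hij, zero_smul]
    · intro h
      exact absurd (Finset.mem_univ j) h
  map_add' φ ψ := by
    funext i
    rfl

theorem ET_apply (φ : VV r' →+ ZMod δ) (i : Fin (r' + 1)) :
    ET δ T φ i = φ (T (Pi.single i 1)) := rfl

end ET

section W

variable {r' : ℕ} (δ : ℕ) (a₀ a₁ : ℤ)

/-- the diagonal subgroup -/
def WW : AddSubgroup (Fin (r' + 1) → ZMod δ) where
  carrier := {w | w 0 ∈ AddSubgroup.zmultiples ((a₀ : ZMod δ)) ∧
    ∀ j : Fin r', w j.succ ∈ AddSubgroup.zmultiples ((a₁ : ZMod δ))}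
  add_mem' := by
    rintro w w' ⟨h0, h1⟩ ⟨h0', h1'⟩
    exact ⟨AddSubgroup.add_mem _ h0 h0', fun j => AddSubgroup.add_mem _ (h1 j) (h1' j)⟩
  zero_mem' := ⟨AddSubgroup.zero_mem _, fun _ => AddSubgroup.zero_mem _⟩
  neg_mem' := by
    rintro w ⟨h0, h1⟩
    exact ⟨AddSubgroup.neg_mem _ h0, fun j => AddSubgroup.neg_mem _ (h1 j)⟩

theorem mem_WW (w : Fin (r' + 1) → ZMod δ) : w ∈ WW (r' := r') δ a₀ a₁ ↔
    w 0 ∈ AddSubgroup.zmultiples ((a₀ : ZMod δ)) ∧
    ∀ j : Fin r', w j.succ ∈ AddSubgroup.zmultiples ((a₁ : ZMod δ)) := Iff.rfl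

/-- the quotient map onto the product of cyclic groups -/
noncomputable def PhiW : (Fin (r' + 1) → ZMod δ) →+
    ZMod (Int.gcd δ a₀) × (Fin r' → ZMod (Int.gcd δ a₁)) where
  toFun w := (proj δ a₀ (w 0), fun j => proj δ a₁ (w j.succ))
  map_zero' := by
    ext <;> simp
  map_add' w w' := by
    ext <;> simp

theorem PhiW_ker : (PhiW (r' := r') δ a₀ a₁).ker = WW δ a₀ a₁ := by
  ext w
  rw [AddMonoidHom.mem_ker, mem_WW]
  show ((proj δ a₀ (w 0), fun j => proj δ a₁ (w j.succ)) :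
    ZMod (Int.gcd δ a₀) × (Fin r' → ZMod (Int.gcd δ a₁))) = 0 ↔ _
  rw [Prod.ext_iff]
  simp only [Prod.fst_zero, Prod.snd_zero]
  rw [proj_eq_zero_iff, funext_iff]
  simp only [Pi.zero_apply, proj_eq_zero_iff]

theorem PhiW_surjective : Function.Surjective (PhiW (r' := r') δ a₀ a₁) := by
  rintro ⟨t, u⟩
  obtain ⟨x₀, hx₀⟩ := proj_surjective δ a₀ t
  choose x hx using fun j => proj_surjective δ a₁ (u j)
  refine ⟨Fin.cons x₀ x, ?_⟩
  show ((proj δ a₀ ((Fin.cons x₀ x : Fin (r' + 1) → ZMod δ) 0),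
    fun j => proj δ a₁ ((Fin.cons x₀ x : Fin (r' + 1) → ZMod δ) j.succ)) : _ × _) = (t, u)
  simp only [Fin.cons_zero, Fin.cons_succ, hx₀, hx]

/-- the parametrisation of the diagonal subgroup -/
noncomputable def PsiW : ZMod (δ / Int.gcd δ a₀) × (Fin r' → ZMod (δ / Int.gcd δ a₁)) →+
    (Fin (r' + 1) → ZMod δ) where
  toFun p := Fin.cons (mulA δ a₀ p.1) (fun j => mulA δ a₁ (p.2 j))
  map_zero' := by
    funext i
    refine Fin.cases ?_ (fun j => ?_) i <;> simp
  map_add' p q := by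
    funext i
    refine Fin.cases ?_ (fun j => ?_) i <;> simp

theorem PsiW_injective (hδ : 0 < δ) : Function.Injective (PsiW (r' := r') δ a₀ a₁) := by
  rw [injective_iff_map_eq_zero]
  rintro ⟨x, y⟩ h
  have h0 := congrFun h 0
  have h1 := fun j : Fin r' => congrFun h j.succ
  simp only [PsiW, AddMonoidHom.coe_mk, ZeroHom.coe_mk, Fin.cons_zero, Fin.cons_succ,
    Pi.zero_apply] at h0 h1
  have hx : x = 0 := mulA_injective δ hδ a₀ (by rw [h0, map_zero])
  have hy : y = 0 := by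
    funext j
    exact mulA_injective δ hδ a₁ (by rw [h1 j, Pi.zero_apply, map_zero])
  rw [hx, hy]; rfl

theorem PsiW_range : (PsiW (r' := r') δ a₀ a₁).range = WW δ a₀ a₁ := by
  ext w
  rw [AddMonoidHom.mem_range, mem_WW]
  constructor
  · rintro ⟨⟨x, y⟩, rfl⟩
    simp only [PsiW, AddMonoidHom.coe_mk, ZeroHom.coe_mk, Fin.cons_zero, Fin.cons_succ]
    refine ⟨?_, fun j => ?_⟩
    · rw [← range_mulA]; exact ⟨x, rfl⟩
    · rw [← range_mulA]; exact ⟨y j, rfl⟩
  · rintro ⟨h0, h1⟩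
    rw [← range_mulA] at h0
    obtain ⟨x, hx⟩ := h0
    have h1' : ∀ j : Fin r', ∃ y, mulA δ a₁ y = w j.succ := by
      intro j
      have := h1 j
      rw [← range_mulA] at this
      exact this
    choose y hy using h1'
    refine ⟨(x, y), ?_⟩
    funext i
    refine Fin.cases ?_ (fun j => ?_) i
    · simp only [PsiW, AddMonoidHom.coe_mk, ZeroHom.coe_mk, Fin.cons_zero, hx]
    · simp only [PsiW, AddMonoidHom.coe_mk, ZeroHom.coe_mk, Fin.cons_succ, hy]

end W

end Groth.Agent.Lib.Helper8.BF3
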