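import Mathlib
import Groth.Agent.Lib.Helper8.BF1
import Groth.Agent.Lib.Helper8.BF2
import Groth.Agent.Lib.Helper8.BF3

set_option backward.isDefEq.respectTransparency.types false
set_option autoImplicit false
set_option linter.unusedSectionVars false
set_option linter.style.haveILetI false

namespace Groth.Agent.Lib.Helper8.BF4

open Groth.Agent.Lib.Helper8.BF1 Groth.Agent.Lib.Helper8.BF2 Groth.Agent.Lib.Helper8.BF3

section

variable {r' : ℕ} (δ : ℕ) (g : ℤ) (hδ : (δ : ℤ) ∣ 2 * (g - 1)) (d : VV r')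

/-- the generating set of boundary forms -/
def SS : Set (VV r' →+ ZMod δ) :=
  {φ | ∃ b : LinearMap.BilinForm ℤ (VV r'), b.IsSymm ∧
    ∀ x, φ x = ((b d x + (1 - g) * b x x : ℤ) : ZMod δ)}

include hδ in
/-- the boundary form attached to a symmetric bilinear form is additive -/
theorem exists_psi (b : LinearMap.BilinForm ℤ (VV r')) (hb : b.IsSymm) :
    ∃ φ : VV r' →+ ZMod δ, ∀ x, φ x = ((b d x + (1 - g) * b x x : ℤ) : ZMod δ) := by
  refine ⟨AddMonoidHom.mk' (fun x => ((b d x + (1 - g) * b x x : ℤ) : ZMod δ)) ?_, fun x => rfl⟩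
  intro x y
  rw [← Int.cast_add, ZMod.intCast_eq_intCast_iff_dvd_sub]
  obtain ⟨c, hc⟩ := hδ
  refine ⟨c * b x y, ?_⟩
  simp only [map_add, LinearMap.add_apply]
  rw [hb.eq y x]
  linear_combination (b x y) * hc

variable (T : VV r' ≃ₗ[ℤ] VV r') (D : ℤ) (hT : T (D • Pi.single (0 : Fin (r' + 1)) (1 : ℤ)) = d)

include hT in
theorem coord_formula (b : LinearMap.BilinForm ℤ (VV r')) (i : Fin (r' + 1)) :
    b d (T (Pi.single i 1)) + (1 - g) * b (T (Pi.single i 1)) (T (Pi.single i 1)) =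
      D * b (T (Pi.single 0 1)) (T (Pi.single i 1)) +
        (1 - g) * b (T (Pi.single i 1)) (T (Pi.single i 1)) := by
  rw [← hT, map_smul, map_smul, LinearMap.smul_apply, smul_eq_mul]

theorem cast_mem_zmultiples (a z : ℤ) (h : a ∣ z) :
    ((z : ZMod δ)) ∈ AddSubgroup.zmultiples ((a : ZMod δ)) := by
  obtain ⟨q, rfl⟩ := h
  rw [AddSubgroup.mem_zmultiples_iff]
  exact ⟨q, by push_cast; rw [zsmul_eq_mul, mul_comm]⟩

include hT in
theorem SS_le : SS δ g d ⊆
    (WW δ (D + 1 - g) ((Int.gcd (g - 1) D : ℕ) : ℤ)).comap (ET δ T).toAddMonoidHom := by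
  rintro φ ⟨b, hb, hφ⟩
  rw [SetLike.mem_coe, AddSubgroup.mem_comap, mem_WW]
  refine ⟨?_, fun j => ?_⟩
  · show ET δ T φ 0 ∈ _
    rw [ET_apply, hφ, coord_formula g d T D hT]
    apply cast_mem_zmultiples
    exact ⟨b (T (Pi.single 0 1)) (T (Pi.single 0 1)), by ring⟩
  · show ET δ T φ j.succ ∈ _
    rw [ET_apply, hφ, coord_formula g d T D hT]
    apply cast_mem_zmultiples
    have h1 : ((Int.gcd (g - 1) D : ℕ) : ℤ) ∣ g - 1 := Int.gcd_dvd_left _ _
    have h2 : ((Int.gcd (g - 1) D : ℕ) : ℤ) ∣ D := Int.gcd_dvd_right _ _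
    apply dvd_add
    · exact h2.mul_right _
    · have : (1 - g) = -(g - 1) := by ring
      rw [this]
      exact (h1.neg_right).mul_right _

/-- the symmetric matrix realising prescribed coordinates -/
def BB (k₀ : ℤ) (k : Fin r' → ℤ) (u v : ℤ) : Fin (r' + 1) → Fin (r' + 1) → ℤ := fun i j =>
  Fin.cases (Fin.cases k₀ (fun j' => k j' * v) j)
    (fun i' => Fin.cases (k i' * v) (fun j' => if i' = j' then -(k i') * u else 0) j) i

theorem BB_symm (k₀ : ℤ) (k : Fin r' → ℤ) (u v : ℤ) (i j : Fin (r' + 1)) :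
    BB k₀ k u v i j = BB k₀ k u v j i := by
  refine Fin.cases ?_ (fun i' => ?_) i <;> refine Fin.cases ?_ (fun j' => ?_) j
  · rfl
  · simp [BB]
  · simp [BB]
  · simp only [BB, Fin.cases_succ]
    by_cases h : i' = j'
    · subst h; rfl
    · rw [if_neg h, if_neg (Ne.symm h)]

/-- the bilinear form with matrix `B` in the basis `T e_i` -/
noncomputable def bilB (B : Fin (r' + 1) → Fin (r' + 1) → ℤ) : LinearMap.BilinForm ℤ (VV r') :=
  LinearMap.mk₂ ℤ (fun x y => ∑ i, ∑ j, (T.symm x) i * B i j * (T.symm y) j)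
    (by intro x x' y; simp only [map_add, Pi.add_apply, add_mul, Finset.sum_add_distrib])
    (by intro c x y; simp only [map_smul, Pi.smul_apply, smul_eq_mul, Finset.mul_sum, mul_assoc])
    (by intro x y y'; simp only [map_add, Pi.add_apply, mul_add, Finset.sum_add_distrib])
    (by intro c x y
        simp only [map_smul, Pi.smul_apply, smul_eq_mul, Finset.mul_sum]
        refine Finset.sum_congr rfl fun i _ => Finset.sum_congr rfl fun j _ => ?_
        ring)

theorem bilB_apply (B : Fin (r' + 1) → Fin (r' + 1) → ℤ) (x y : VV r') :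
    bilB T B x y = ∑ i, ∑ j, (T.symm x) i * B i j * (T.symm y) j := rfl

theorem bilB_basis (B : Fin (r' + 1) → Fin (r' + 1) → ℤ) (i j : Fin (r' + 1)) :
    bilB T B (T (Pi.single i 1)) (T (Pi.single j 1)) = B i j := by
  rw [bilB_apply]
  simp only [LinearEquiv.symm_apply_apply]
  rw [Finset.sum_eq_single i]
  · rw [Finset.sum_eq_single j]
    · simp
    · intro j' _ hj'
      rw [Pi.single_eq_of_ne hj', mul_zero]
    · intro h; exact absurd (Finset.mem_univ j) h
  · intro i' _ hi'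
    apply Finset.sum_eq_zero
    intro j' _
    rw [Pi.single_eq_of_ne hi', zero_mul, zero_mul]
  · intro h; exact absurd (Finset.mem_univ i) h

theorem bilB_symm (B : Fin (r' + 1) → Fin (r' + 1) → ℤ) (hB : ∀ i j, B i j = B j i) :
    (bilB T B).IsSymm := by
  refine ⟨fun x y => ?_⟩
  rw [bilB_apply, bilB_apply, Finset.sum_comm]
  refine Finset.sum_congr rfl fun i _ => Finset.sum_congr rfl fun j _ => ?_
  rw [hB j i]
  ring

include hδ hT in
theorem le_SS (φ : VV r' →+ ZMod δ)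
    (hφ : ET δ T φ ∈ WW δ (D + 1 - g) ((Int.gcd (g - 1) D : ℕ) : ℤ)) : φ ∈ SS δ g d := by
  rw [mem_WW] at hφ
  obtain ⟨h0, h1⟩ := hφ
  rw [AddSubgroup.mem_zmultiples_iff] at h0
  obtain ⟨k₀, hk₀⟩ := h0
  have h1' : ∀ j : Fin r', ∃ k : ℤ, k • (((Int.gcd (g - 1) D : ℕ) : ℤ) : ZMod δ) =
      ET δ T φ j.succ := fun j => AddSubgroup.mem_zmultiples_iff.mp (h1 j)
  choose k hk using h1'
  have hbez := Int.gcd_eq_gcd_ab (g - 1) D
  set u := Int.gcdA (g - 1) D with hu
  set v := Int.gcdB (g - 1) D with hv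
  let B := BB k₀ k u v
  let b := bilB T B
  have hb : b.IsSymm := bilB_symm T B (BB_symm k₀ k u v)
  obtain ⟨ψ, hψ⟩ := exists_psi δ g hδ d b hb
  have heq : ET δ T ψ = ET δ T φ := by
    funext i
    rw [ET_apply, hψ, coord_formula g d T D hT, bilB_basis, bilB_basis]
    refine Fin.cases ?_ (fun j => ?_) i
    · rw [← hk₀]
      show ((D * k₀ + (1 - g) * k₀ : ℤ) : ZMod δ) = _
      rw [zsmul_eq_mul]
      push_cast
      ring
    · rw [← hk j]
      show ((D * (k j * v) + (1 - g) * (if j = j then -(k j) * u else 0) : ℤ) : ZMod δ) = _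
      rw [if_pos rfl, zsmul_eq_mul, hbez]
      push_cast
      ring
  have : ψ = φ := (ET δ T).injective heq
  rw [← this]
  exact ⟨b, hb, hψ⟩

include hδ hT in
theorem closure_SS_eq : AddSubgroup.closure (SS δ g d) =
    (WW δ (D + 1 - g) ((Int.gcd (g - 1) D : ℕ) : ℤ)).comap (ET δ T).toAddMonoidHom := by
  apply le_antisymm
  · rw [AddSubgroup.closure_le]
    exact SS_le δ g d T D hT
  · intro φ hφ
    exact AddSubgroup.subset_closure (le_SS δ g hδ d T D hT φ hφ)

include hδ hT in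
theorem quot_equiv : Nonempty (((VV r' →+ ZMod δ) ⧸ AddSubgroup.closure (SS δ g d)) ≃+
    (ZMod (Int.gcd δ (D + 1 - g)) ×
      (Fin r' → ZMod (Int.gcd δ ((Int.gcd (g - 1) D : ℕ) : ℤ))))) := by
  let Φ := (PhiW (r' := r') δ (D + 1 - g) ((Int.gcd (g - 1) D : ℕ) : ℤ)).comp
    (ET δ T).toAddMonoidHom
  have hsurj : Function.Surjective Φ :=
    (PhiW_surjective δ _ _).comp (ET δ T).surjective
  have hker : Φ.ker = AddSubgroup.closure (SS δ g d) := by
    rw [closure_SS_eq δ g hδ d T D hT, ← PhiW_ker]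
    rfl
  exact ⟨(QuotientAddGroup.quotientAddEquivOfEq hker).symm.trans
    (QuotientAddGroup.quotientKerEquivOfSurjective Φ hsurj)⟩

include hδ hT in
theorem sub_equiv (hpos : 0 < δ) : Nonempty (AddSubgroup.closure (SS δ g d) ≃+
    (ZMod (δ / Int.gcd δ (D + 1 - g)) ×
      (Fin r' → ZMod (δ / Int.gcd δ ((Int.gcd (g - 1) D : ℕ) : ℤ))))) := by
  set W := WW (r' := r') δ (D + 1 - g) ((Int.gcd (g - 1) D : ℕ) : ℤ) with hW
  have hcl := closure_SS_eq δ g hδ d T D hT
  -- closure ≃ W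
  let f₁ : AddSubgroup.closure (SS δ g d) →+ W :=
    AddMonoidHom.codRestrict ((ET δ T).toAddMonoidHom.comp (AddSubgroup.subtype _)) W
      (fun φ => by
        have h := φ.2
        have h' : (φ : VV r' →+ ZMod δ) ∈ (WW (r' := r') δ (D + 1 - g)
            ((Int.gcd (g - 1) D : ℕ) : ℤ)).comap (ET δ T).toAddMonoidHom := hcl ▸ h
        exact h')
  have hf₁ : Function.Bijective f₁ := by
    constructor
    · intro φ ψ h
      apply Subtype.ext
      apply (ET δ T).injective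
      exact congrArg Subtype.val h
    · rintro ⟨w, hw⟩
      refine ⟨⟨(ET δ T).symm w, ?_⟩, ?_⟩
      · rw [hcl, AddSubgroup.mem_comap]
        show ET δ T ((ET δ T).symm w) ∈ W
        rw [AddEquiv.apply_symm_apply]
        exact hw
      · apply Subtype.ext
        show ET δ T ((ET δ T).symm w) = w
        rw [AddEquiv.apply_symm_apply]
  let f₂ : (ZMod (δ / Int.gcd δ (D + 1 - g)) ×
      (Fin r' → ZMod (δ / Int.gcd δ ((Int.gcd (g - 1) D : ℕ) : ℤ)))) →+ W :=
    AddMonoidHom.codRestrict (PsiW (r' := r') δ (D + 1 - g) ((Int.gcd (g - 1) D : ℕ) : ℤ)) W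
      (fun p => by
        rw [hW, ← PsiW_range]
        exact ⟨p, rfl⟩)
  have hf₂ : Function.Bijective f₂ := by
    constructor
    · intro p q h
      exact PsiW_injective δ _ _ hpos (congrArg Subtype.val h)
    · rintro ⟨w, hw⟩
      rw [hW, ← PsiW_range] at hw
      obtain ⟨p, hp⟩ := hw
      exact ⟨p, Subtype.ext hp⟩
  exact ⟨(AddEquiv.ofBijective f₁ hf₁).trans (AddEquiv.ofBijective f₂ hf₂).symm⟩

end

end Groth.Agent.Lib.Helper8.BF4
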