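import Mathlib
import Groth.Prelude.Def_CAlgX
import Groth.Agent.Lib.Helper9.McCoy

set_option backward.isDefEq.respectTransparency.types false
set_option autoImplicit false
set_option linter.unusedSectionVars false
set_option linter.style.haveILetI false

namespace Groth.Agent.Lib.Helper8.BN1

open Matrix

universe u

variable {R : Type u} [CommRing R]

/-- half of Cauchy–Binet: expansion of the determinant of a product along the columns -/
theorem det_mul_expand {r : ℕ} {m : Type} [Fintype m] [DecidableEq m]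
    (M : Matrix (Fin r) m R) (N : Matrix m (Fin r) R) :
    (M * N).det = ∑ p : Fin r → m, (∏ i, N (p i) i) * (M.submatrix id p).det := by
  rw [Matrix.det_apply']
  have h1 : ∀ σ : Equiv.Perm (Fin r), ∏ i, (M * N) (σ i) i =
      ∑ p : Fin r → m, ∏ i, M (σ i) (p i) * N (p i) i := by
    intro σ
    simp only [Matrix.mul_apply]
    rw [Finset.prod_univ_sum]
    simp
  simp only [h1, Finset.mul_sum]
  rw [Finset.sum_comm]
  apply Finset.sum_congr rfl
  intro p _
  rw [Matrix.det_apply', Finset.mul_sum]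
  apply Finset.sum_congr rfl
  intro σ _
  simp only [Matrix.submatrix_apply, id]
  rw [Finset.prod_mul_distrib]
  ring

theorem minorIdeal_mul_le_left {a b c : Type} [Fintype a] [Fintype b] [Fintype c]
    (A : Matrix a b R) (B : Matrix b c R) (r : ℕ) :
    CAlgX.minorIdeal (A * B) r ≤ CAlgX.minorIdeal A r := by
  classical
  unfold CAlgX.minorIdeal
  rw [Ideal.span_le]
  rintro _ ⟨fg, rfl⟩
  show ((A * B).submatrix fg.1 fg.2).det ∈ _
  have h1 : (A * B).submatrix fg.1 fg.2 = (A.submatrix fg.1 id) * (B.submatrix id fg.2) := by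
    rw [Matrix.submatrix_mul _ _ _ _ _ Function.bijective_id]
  rw [h1, det_mul_expand]
  apply Ideal.sum_mem
  intro p _
  apply Ideal.mul_mem_left
  apply Ideal.subset_span
  exact ⟨(fg.1, p), rfl⟩

theorem minorIdeal_transpose {a b : Type} [Fintype a] [Fintype b] (A : Matrix a b R) (r : ℕ) :
    CAlgX.minorIdeal Aᵀ r = CAlgX.minorIdeal A r := by
  unfold CAlgX.minorIdeal
  apply le_antisymm
  · rw [Ideal.span_le]
    rintro _ ⟨fg, rfl⟩
    apply Ideal.subset_span
    refine ⟨(fg.2, fg.1), ?_⟩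
    show (A.submatrix fg.2 fg.1).det = (Aᵀ.submatrix fg.1 fg.2).det
    rw [← Matrix.det_transpose]
    rfl
  · rw [Ideal.span_le]
    rintro _ ⟨fg, rfl⟩
    apply Ideal.subset_span
    refine ⟨(fg.2, fg.1), ?_⟩
    show (Aᵀ.submatrix fg.2 fg.1).det = (A.submatrix fg.1 fg.2).det
    rw [← Matrix.det_transpose]
    rfl

theorem minorIdeal_mul_le_right {a b c : Type} [Fintype a] [Fintype b] [Fintype c]
    (A : Matrix a b R) (B : Matrix b c R) (r : ℕ) :
    CAlgX.minorIdeal (A * B) r ≤ CAlgX.minorIdeal B r := by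
  rw [← minorIdeal_transpose (A * B), Matrix.transpose_mul, ← minorIdeal_transpose B]
  exact minorIdeal_mul_le_left _ _ r

/-- a matrix factoring through `R^ρ` has vanishing minors of size `> ρ` -/
theorem minorIdeal_eq_bot_of_factor {a b ρ : ℕ} (A : Matrix (Fin a) (Fin b) R)
    (α : Matrix (Fin a) (Fin ρ) R) (γ : Matrix (Fin ρ) (Fin b) R) (h : A = α * γ)
    (r : ℕ) (hr : ρ < r) : CAlgX.minorIdeal A r = ⊥ := by
  rw [eq_bot_iff, h]
  refine (minorIdeal_mul_le_left α γ r).trans ?_
  rw [Groth.Agent.Lib.Helper9.McCoy.minorIdeal_eq_bot_of_lt α hr]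

/-- if `β * A * σ = 1` of size `ρ` then the `ρ`-minors of `A` generate the unit ideal -/
theorem minorIdeal_eq_top_of_split {a b ρ : ℕ} (A : Matrix (Fin a) (Fin b) R)
    (β : Matrix (Fin ρ) (Fin a) R) (σ : Matrix (Fin b) (Fin ρ) R) (h : β * (A * σ) = 1) :
    CAlgX.minorIdeal A ρ = ⊤ := by
  rw [eq_top_iff]
  have h1 : (1 : R) ∈ CAlgX.minorIdeal (β * (A * σ)) ρ := by
    apply Ideal.subset_span
    refine ⟨(id, id), ?_⟩
    show ((β * (A * σ)).submatrix id id).det = 1
    rw [h]
    simp
  have h2 := (minorIdeal_mul_le_left A σ ρ) ((minorIdeal_mul_le_right β (A * σ) ρ) h1)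
  intro x _
  have := Ideal.mul_mem_left _ x h2
  rwa [mul_one] at this

end Groth.Agent.Lib.Helper8.BN1
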