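import Mathlib
import Groth.Prelude.Def_CAlgX
import Groth.Agent.Lib.Helper8.BN1
import Groth.Agent.Lib.Helper8.BE3

set_option backward.isDefEq.respectTransparency.types false
set_option autoImplicit false
set_option linter.unusedSectionVars false
set_option linter.style.haveILetI false

namespace Groth.Agent.Lib.Helper8.BN2

open Matrix Groth.Agent.Lib.Helper8.BN1 Groth.Agent.Lib.Helper8.BE1 Groth.Agent.Lib.Helper8.BE2
  Groth.Agent.Lib.Helper8.BE3

universe u

/-- the alternating sum `n_j - n_{j+1} + ⋯ ± n_e` -/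
def altsum (n : ℕ → ℕ) (e j : ℕ) : ℤ := ∑ t ∈ Finset.Icc j e, (-1 : ℤ) ^ (t - j) * (n t : ℤ)

theorem altsum_self (n : ℕ → ℕ) (e : ℕ) : altsum n e e = n e := by
  unfold altsum
  rw [Finset.Icc_self, Finset.sum_singleton, Nat.sub_self, pow_zero, one_mul]

theorem altsum_succ (n : ℕ → ℕ) (e j : ℕ) (hj : j < e) :
    altsum n e j = (n j : ℤ) - altsum n e (j + 1) := by
  unfold altsum
  have hsplit : Finset.Icc j e = insert j (Finset.Icc (j + 1) e) := by
    ext t
    simp only [Finset.mem_Icc, Finset.mem_insert]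
    omega
  rw [hsplit, Finset.sum_insert (by simp), Nat.sub_self, pow_zero, one_mul,
    sub_eq_add_neg, ← Finset.sum_neg_distrib]
  congr 1
  apply Finset.sum_congr rfl
  intro t ht
  rw [Finset.mem_Icc] at ht
  have e3 : t - j = (t - (j + 1)) + 1 := by omega
  rw [e3, pow_succ]
  ring

theorem toMatrix'_mulVecLin {R : Type u} [CommRing R] {a b : ℕ} (M : Matrix (Fin b) (Fin a) R) :
    LinearMap.toMatrix' M.mulVecLin = M := LinearMap.toMatrix'_toLin' M

theorem mulVecLin_toMatrix' {R : Type u} [CommRing R] {a b : ℕ}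
    (f : (Fin a → R) →ₗ[R] (Fin b → R)) : (LinearMap.toMatrix' f).mulVecLin = f :=
  Matrix.toLin'_toMatrix' f

variable {T : Type u} [CommRing T] [IsLocalRing T]

/-- over a local ring of depth zero, an injective map of finite free modules splits -/
theorem exists_left_inverse (hz : ∃ z : T, z ≠ 0 ∧ ∀ a ∈ IsLocalRing.maximalIdeal T, a * z = 0)
    {a b : ℕ} (f : (Fin a → T) →ₗ[T] (Fin b → T)) (hf : Function.Injective f) :
    ∃ β : (Fin b → T) →ₗ[T] (Fin a → T), ∀ x, β (f x) = x := by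
  obtain ⟨z, hz0, hz⟩ := hz
  set M := LinearMap.toMatrix' f with hM
  have hfM : M.mulVecLin = f := mulVecLin_toMatrix' f
  have hinj : Function.Injective M.mulVecLin := hfM ▸ hf
  have hann := Groth.Agent.Lib.Helper9.McCoy.annihilator_eq_bot_of_injective M hinj
  have htop : CAlgX.minorIdeal M a = ⊤ := by
    by_contra hne
    have hle := IsLocalRing.le_maximalIdeal hne
    have : z ∈ (CAlgX.minorIdeal M a).annihilator := by
      rw [Submodule.mem_annihilator]
      intro x hx
      rw [smul_eq_mul, mul_comm]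
      exact hz x (hle hx)
    rw [hann, Submodule.mem_bot] at this
    exact hz0 this
  obtain ⟨ι, τ, hsp⟩ := split_of_top M a htop
  have hinj2 := injective_of_split M.mulVecLin ι τ hsp
  refine ⟨ι ∘ₗ τ, fun x => ?_⟩
  show ι (τ (f x)) = x
  apply hinj2
  rw [LinearMap.comp_apply, LinearMap.comp_apply, hsp, hfM]

variable {e : ℕ} {n : ℕ → ℕ} {A : (i : ℕ) → Matrix (Fin (n i)) (Fin (n (i + 1))) T}

/-- the inductive datum: the image of `A i` is a free direct summand of the expected rank -/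
def Q (e : ℕ) (n : ℕ → ℕ) (A : (i : ℕ) → Matrix (Fin (n i)) (Fin (n (i + 1))) T) (i : ℕ) : Prop :=
  ∃ (ρ : ℕ) (α : (Fin ρ → T) →ₗ[T] (Fin (n i) → T)) (β : (Fin (n i) → T) →ₗ[T] (Fin ρ → T)),
    (∀ c, β (α c) = c) ∧ LinearMap.range α = LinearMap.range (A i).mulVecLin ∧
      (ρ : ℤ) = altsum n e (i + 1)

theorem Q_top (hz : ∃ z : T, z ≠ 0 ∧ ∀ a ∈ IsLocalRing.maximalIdeal T, a * z = 0)
    (e' : ℕ) (hex : Exact T (e' + 1) n A) : Q (e' + 1) n A e' := by
  have hinj : Function.Injective (A e').mulVecLin := LinearMap.ker_eq_bot.mp hex.1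
  obtain ⟨β, hβ⟩ := exists_left_inverse hz (A e').mulVecLin hinj
  exact ⟨n (e' + 1), (A e').mulVecLin, β, hβ, rfl, (altsum_self n (e' + 1)).symm⟩

theorem Q_step (hz : ∃ z : T, z ≠ 0 ∧ ∀ a ∈ IsLocalRing.maximalIdeal T, a * z = 0)
    (hex : Exact T e n A) (i : ℕ) (hi : i + 2 ≤ e) (hQ : Q e n A (i + 1)) : Q e n A i := by
  obtain ⟨ρ', α', β', hβα, hrange, hρ'⟩ := hQ
  have hker : LinearMap.ker (A i).mulVecLin = LinearMap.range α' := by
    rw [hrange]; exact hex.2 i hi
  -- complement of the image of α'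
  let B' : Submodule T (Fin (n (i + 1)) → T) := LinearMap.ker β'
  let π : (Fin (n (i + 1)) → T) →ₗ[T] B' :=
    LinearMap.codRestrict B' (LinearMap.id - α' ∘ₗ β') (fun x => by
      show β' (x - α' (β' x)) = 0
      rw [map_sub, hβα, sub_self])
  have hπ : ∀ b : B', π b = b := by
    intro b
    apply Subtype.ext
    show (b : Fin (n (i + 1)) → T) - α' (β' b) = b
    have : β' (b : Fin (n (i + 1)) → T) = 0 := b.2
    rw [this, map_zero, sub_zero]
  haveI : Module.Projective T B' := Module.Projective.of_split B'.subtype π (by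
    apply LinearMap.ext
    intro b
    exact hπ b)
  haveI : Module.Finite T B' := Module.Finite.of_surjective π (fun b => ⟨b, hπ b⟩)
  haveI : Module.Free T B' := Module.free_of_flat_of_isLocalRing
  -- the decomposition and the rank count
  let Φ : (Fin (n (i + 1)) → T) ≃ₗ[T] (Fin ρ' → T) × B' :=
    LinearEquiv.ofLinearMap (β'.prod π) (α'.coprod B'.subtype)
      (by
        apply LinearMap.ext
        rintro ⟨c, b⟩
        show (β' (α' c + b), π (α' c + b)) = (c, b)
        have hb : β' (b : Fin (n (i + 1)) → T) = 0 := b.2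
        have h1 : β' (α' c + b) = c := by rw [map_add, hβα, hb, add_zero]
        have h2 : π (α' c + b) = b := by
          apply Subtype.ext
          show (α' c + b) - α' (β' (α' c + b)) = b
          rw [h1]; abel
        rw [h1, h2])
      (by
        apply LinearMap.ext
        intro x
        show α' (β' x) + (x - α' (β' x)) = x
        abel)
  set ρ := Module.finrank T B' with hρdef
  have hrank : n (i + 1) = ρ' + ρ := by
    have h1 := LinearEquiv.finrank_eq Φ
    rw [Module.finrank_prod, Module.finrank_fin_fun, Module.finrank_fin_fun] at h1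
    exact h1
  let θ : (Fin ρ → T) ≃ₗ[T] B' := (Module.finBasis T B').equivFun.symm
  let α : (Fin ρ → T) →ₗ[T] (Fin (n i) → T) := (A i).mulVecLin ∘ₗ B'.subtype ∘ₗ θ.toLinearMap
  have hαinj : Function.Injective α := by
    rw [← LinearMap.ker_eq_bot, LinearMap.ker_eq_bot']
    intro c hc
    have h1 : ((θ c : B') : Fin (n (i + 1)) → T) ∈ LinearMap.ker (A i).mulVecLin := hc
    rw [hker] at h1
    obtain ⟨c', hc'⟩ := h1
    have h2 : β' ((θ c : B') : Fin (n (i + 1)) → T) = 0 := (θ c).2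
    rw [← hc', hβα] at h2
    rw [h2, map_zero] at hc'
    have h3 : θ c = 0 := Subtype.ext hc'.symm
    exact θ.map_eq_zero_iff.mp h3
  obtain ⟨β, hβ⟩ := exists_left_inverse hz α hαinj
  refine ⟨ρ, α, β, hβ, ?_, ?_⟩
  · apply le_antisymm
    · rintro _ ⟨c, rfl⟩
      exact ⟨_, rfl⟩
    · rintro _ ⟨x, rfl⟩
      have h1 : α' (β' x) ∈ LinearMap.ker (A i).mulVecLin := by rw [hker]; exact ⟨_, rfl⟩
      refine ⟨θ.symm (π x), ?_⟩
      show (A i).mulVecLin ((θ (θ.symm (π x)) : B') : Fin (n (i + 1)) → T) = _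
      rw [LinearEquiv.apply_symm_apply]
      show (A i).mulVecLin (x - α' (β' x)) = _
      rw [map_sub, LinearMap.mem_ker.mp h1, sub_zero]
  · rw [altsum_succ n e (i + 1) (by omega), ← hρ']
    have : (n (i + 1) : ℤ) = (ρ' : ℤ) + (ρ : ℤ) := by exact_mod_cast hrank
    rw [this]; ring

theorem Q_all (hz : ∃ z : T, z ≠ 0 ∧ ∀ a ∈ IsLocalRing.maximalIdeal T, a * z = 0)
    (he : 1 ≤ e) (hex : Exact T e n A) : ∀ i, i < e → Q e n A i := by
  have key : ∀ t i, i + t + 1 = e → Q e n A i := by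
    intro t
    induction t with
    | zero =>
      intro i hi
      subst hi
      exact Q_top hz i hex
    | succ t ih =>
      intro i hi
      exact Q_step hz hex i (by omega) (ih (i + 1) (by omega))
  intro i hi
  exact key (e - 1 - i) i (by omega)

/-- consequences for the minor ideals -/
theorem minors_of_Q (i : ℕ) (hQ : Q e n A i) :
    ∃ ρ : ℕ, (ρ : ℤ) = altsum n e (i + 1) ∧ CAlgX.minorIdeal (A i) ρ = ⊤ ∧
      ∀ r', ρ < r' → CAlgX.minorIdeal (A i) r' = ⊥ := by
  obtain ⟨ρ, α, β, hβα, hrange, hρ⟩ := hQ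
  refine ⟨ρ, hρ, ?_, ?_⟩
  · -- a section of γ = β ∘ A i
    let γ : (Fin (n (i + 1)) → T) →ₗ[T] (Fin ρ → T) := β ∘ₗ (A i).mulVecLin
    have hγ : Function.Surjective γ := by
      intro c
      have h1 : α c ∈ LinearMap.range (A i).mulVecLin := hrange ▸ ⟨c, rfl⟩
      obtain ⟨y, hy⟩ := h1
      exact ⟨y, by show β ((A i).mulVecLin y) = c; rw [hy, hβα]⟩
    obtain ⟨σ, hσ⟩ := Module.projective_lifting_property γ LinearMap.id hγ
    apply minorIdeal_eq_top_of_split (A i) (LinearMap.toMatrix' β) (LinearMap.toMatrix' σ)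
    have h1 : LinearMap.toMatrix' (β ∘ₗ ((A i).mulVecLin ∘ₗ σ)) = 1 := by
      have : β ∘ₗ ((A i).mulVecLin ∘ₗ σ) = LinearMap.id := by
        rw [← LinearMap.comp_assoc]; exact hσ
      rw [this, LinearMap.toMatrix'_id]
    rw [LinearMap.toMatrix'_comp, LinearMap.toMatrix'_comp, toMatrix'_mulVecLin] at h1
    exact h1
  · intro r' hr'
    have hfac : (A i).mulVecLin = α ∘ₗ (β ∘ₗ (A i).mulVecLin) := by
      apply LinearMap.ext
      intro x
      have h1 : (A i).mulVecLin x ∈ LinearMap.range α := hrange ▸ ⟨x, rfl⟩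
      obtain ⟨c, hc⟩ := h1
      show (A i).mulVecLin x = α (β ((A i).mulVecLin x))
      rw [← hc, hβα]
    have hmat : A i = LinearMap.toMatrix' α * LinearMap.toMatrix' (β ∘ₗ (A i).mulVecLin) := by
      rw [← LinearMap.toMatrix'_comp, ← hfac, toMatrix'_mulVecLin]
    exact minorIdeal_eq_bot_of_factor (A i) _ _ hmat r' hr'

theorem depth_zero_minors (hz : ∃ z : T, z ≠ 0 ∧ ∀ a ∈ IsLocalRing.maximalIdeal T, a * z = 0)
    (he : 1 ≤ e) (hex : Exact T e n A) (i : ℕ) (hi : i < e) :
    ∃ ρ : ℕ, (ρ : ℤ) = altsum n e (i + 1) ∧ CAlgX.minorIdeal (A i) ρ = ⊤ ∧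
      ∀ r', ρ < r' → CAlgX.minorIdeal (A i) r' = ⊥ :=
  minors_of_Q i (Q_all hz he hex i hi)

end Groth.Agent.Lib.Helper8.BN2
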