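import Mathlib
import Groth.Prelude.Def_CAlgX
import Groth.Agent.Lib.Helper8.BN2

set_option backward.isDefEq.respectTransparency.types false
set_option autoImplicit false
set_option linter.unusedSectionVars false
set_option linter.style.haveILetI false

namespace Groth.Agent.Lib.Helper8.BN3

open Matrix Groth.Agent.Lib.Helper8.BN1 Groth.Agent.Lib.Helper8.BN2 Groth.Agent.Lib.Helper8.BE2
  Groth.Agent.Lib.Helper8.AC2

universe u

variable {R : Type u} [CommRing R]

section loc

variable (p : Ideal R) [p.IsPrime]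

/-- a kernel vector over the localization comes, up to a unit, from a kernel vector over `R` -/
theorem exists_ker_lift {a k : ℕ} (M : Matrix (Fin a) (Fin k) R)
    (y : Fin k → Localization.AtPrime p)
    (hy : (M.map (algebraMap R (Localization.AtPrime p))) *ᵥ y = 0) :
    ∃ u : R, u ∉ p ∧ ∃ y'' : Fin k → R, M *ᵥ y'' = 0 ∧
      ∀ j, algebraMap R (Localization.AtPrime p) u * y j =
        algebraMap R (Localization.AtPrime p) (y'' j) := by
  obtain ⟨s, hs, y', hy'⟩ := exists_common_den p y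
  have h1 : ∀ i, algebraMap R (Localization.AtPrime p) ((M *ᵥ y') i) = 0 := by
    intro i
    have e2 := congrFun (map_mulVec' p M y') i
    rw [← e2]
    have e3 : (fun j => algebraMap R (Localization.AtPrime p) (y' j)) =
        algebraMap R (Localization.AtPrime p) s • y := by
      funext l
      rw [Pi.smul_apply, smul_eq_mul, hy']
    rw [e3, Matrix.mulVec_smul, hy, smul_zero]
    rfl
  obtain ⟨t, ht, htz⟩ := exists_smul_eq_zero p _ h1
  refine ⟨t * s, fun hmem => (Ideal.IsPrime.mem_or_mem ‹p.IsPrime› hmem).elim ht hs,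
    t • y', ?_, fun j => ?_⟩
  · rw [Matrix.mulVec_smul, htz]
  · rw [map_mul, mul_assoc, hy', Pi.smul_apply, smul_eq_mul, map_mul]

theorem exact_localize {e : ℕ} {n : ℕ → ℕ} {A : (i : ℕ) → Matrix (Fin (n i)) (Fin (n (i + 1))) R}
    (hA : ∀ i, i + 2 ≤ e → A i * A (i + 1) = 0) (hex : Exact R e n A) :
    Exact (Localization.AtPrime p) e n
      (fun i => (A i).map (algebraMap R (Localization.AtPrime p))) := by
  constructor
  · rw [Submodule.eq_bot_iff]
    intro y hy
    rw [LinearMap.mem_ker, Matrix.mulVecLin_apply] at hy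
    obtain ⟨u, hu, y'', hy'', hrel⟩ := exists_ker_lift p (A (e - 1)) y hy
    have h0 : y'' = 0 := by
      have : y'' ∈ LinearMap.ker (A (e - 1)).mulVecLin := by
        rw [LinearMap.mem_ker, Matrix.mulVecLin_apply, hy'']
      rw [hex.1] at this
      exact (Submodule.mem_bot _).mp this
    funext j
    have hunit : IsUnit (algebraMap R (Localization.AtPrime p) u) :=
      IsLocalization.map_units (Localization.AtPrime p) (⟨u, hu⟩ : p.primeCompl)
    have := hrel j
    rw [h0, Pi.zero_apply, map_zero] at this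
    exact (hunit.mul_right_eq_zero).mp this
  · intro i hi
    apply le_antisymm
    · intro y hy
      rw [LinearMap.mem_ker, Matrix.mulVecLin_apply] at hy
      obtain ⟨u, hu, y'', hy'', hrel⟩ := exists_ker_lift p (A i) y hy
      have h0 : y'' ∈ LinearMap.range (A (i + 1)).mulVecLin := by
        rw [← hex.2 i hi, LinearMap.mem_ker, Matrix.mulVecLin_apply, hy'']
      obtain ⟨w, hw⟩ := h0
      rw [Matrix.mulVecLin_apply] at hw
      have hunit : IsUnit (algebraMap R (Localization.AtPrime p) u) :=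
        IsLocalization.map_units (Localization.AtPrime p) (⟨u, hu⟩ : p.primeCompl)
      obtain ⟨c, hc⟩ := hunit
      refine ⟨(↑c⁻¹ : Localization.AtPrime p) •
        (fun l => algebraMap R (Localization.AtPrime p) (w l)), ?_⟩
      rw [Matrix.mulVecLin_apply, Matrix.mulVec_smul, map_mulVec', hw]
      funext j
      rw [Pi.smul_apply, smul_eq_mul, ← hrel j, ← hc, ← mul_assoc, Units.inv_mul, one_mul]
    · rintro _ ⟨x, rfl⟩
      rw [LinearMap.mem_ker, Matrix.mulVecLin_apply, Matrix.mulVecLin_apply, Matrix.mulVec_mulVec]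
      have : (A i).map (algebraMap R (Localization.AtPrime p)) *
          (A (i + 1)).map (algebraMap R (Localization.AtPrime p)) = 0 := by
        rw [← Matrix.map_mul, hA i hi]
        exact Matrix.map_zero _ (map_zero _)
      rw [this, Matrix.zero_mulVec]

/-- the localization at an associated prime has depth zero -/
theorem depth_zero_of_assoc [IsNoetherianRing R] (hP : IsAssociatedPrime p R) :
    ∃ z : Localization.AtPrime p, z ≠ 0 ∧
      ∀ a ∈ IsLocalRing.maximalIdeal (Localization.AtPrime p), a * z = 0 := by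
  obtain ⟨_, x, hx⟩ := isAssociatedPrime_iff.mp hP
  refine ⟨algebraMap R _ x, ?_, ?_⟩
  · intro h0
    rw [IsLocalization.map_eq_zero_iff p.primeCompl] at h0
    obtain ⟨m, hm⟩ := h0
    have : (m : R) ∈ (⊥ : Submodule R R).colon {x} := by
      rw [Submodule.mem_colon_singleton, smul_eq_mul, hm]
      exact Submodule.zero_mem _
    exact m.2 (hx.ge this)
  · intro a ha
    obtain ⟨p', s, rfl⟩ := IsLocalization.exists_mk'_eq p.primeCompl a
    rw [IsLocalization.AtPrime.mk'_mem_maximal_iff (Localization.AtPrime p) p] at ha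
    have h0 : p' * x = 0 := by
      have ha' := hx.le ha
      rw [Submodule.mem_colon_singleton, smul_eq_mul] at ha'
      exact (Submodule.mem_bot _).mp ha'
    rw [mul_comm, IsLocalization.mul_mk'_eq_mk'_of_mul, mul_comm, h0, IsLocalization.mk'_zero]

end loc

theorem matrixRank_eq {a b : ℕ} (M : Matrix (Fin a) (Fin b) R) (ρ : ℕ)
    (h1 : CAlgX.minorIdeal M ρ ≠ ⊥) (h2 : ∀ r', ρ < r' → CAlgX.minorIdeal M r' = ⊥) :
    CAlgX.matrixRank M = ρ := by
  unfold CAlgX.matrixRank
  apply IsGreatest.csSup_eq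
  refine ⟨h1, fun r hr => ?_⟩
  by_contra hlt
  exact hr (h2 r (by omega))

variable [IsNoetherianRing R]

theorem stepA_loc {e : ℕ} {n : ℕ → ℕ} {A : (i : ℕ) → Matrix (Fin (n i)) (Fin (n (i + 1))) R}
    (he : 1 ≤ e) (hA : ∀ i, i + 2 ≤ e → A i * A (i + 1) = 0) (hex : Exact R e n A)
    (i : ℕ) (hi : i < e) (P : Ideal R) [P.IsPrime] (hP : IsAssociatedPrime P R) :
    ∃ ρ : ℕ, (ρ : ℤ) = altsum n e (i + 1) ∧
      (CAlgX.minorIdeal (A i) ρ).map (algebraMap R (Localization.AtPrime P)) = ⊤ ∧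
      ∀ r', ρ < r' →
        (CAlgX.minorIdeal (A i) r').map (algebraMap R (Localization.AtPrime P)) = ⊥ := by
  obtain ⟨ρ, hρ, h1, h2⟩ := depth_zero_minors (depth_zero_of_assoc P hP) he
    (exact_localize P hA hex) i hi
  refine ⟨ρ, hρ, ?_, fun r' hr' => ?_⟩
  · rw [← minorIdeal_map]; exact h1
  · rw [← minorIdeal_map]; exact h2 r' hr'

theorem stepA [Nontrivial R] {e : ℕ} {n : ℕ → ℕ}
    {A : (i : ℕ) → Matrix (Fin (n i)) (Fin (n (i + 1))) R}
    (he : 1 ≤ e) (hA : ∀ i, i + 2 ≤ e → A i * A (i + 1) = 0) (hex : Exact R e n A)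
    (i : ℕ) (hi : i < e) :
    ∃ ρ : ℕ, (ρ : ℤ) = altsum n e (i + 1) ∧
      (∃ x ∈ CAlgX.minorIdeal (A i) ρ, x ∈ nonZeroDivisors R) ∧
      ∀ r', ρ < r' → CAlgX.minorIdeal (A i) r' = ⊥ := by
  obtain ⟨P₀, hP₀⟩ := associatedPrimes.nonempty R R
  haveI := hP₀.isPrime
  obtain ⟨ρ, hρ, -, -⟩ := stepA_loc he hA hex i hi P₀ hP₀
  refine ⟨ρ, hρ, ?_, ?_⟩
  · by_contra hno
    push Not at hno
    have hdisj : Disjoint ((CAlgX.minorIdeal (A i) ρ : Ideal R) : Set R) (nonZeroDivisors R) := by
      rw [Set.disjoint_left]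
      intro x hx hx'
      exact hno x hx hx'
    obtain ⟨P, hP, hle⟩ : ∃ P ∈ associatedPrimes R R, CAlgX.minorIdeal (A i) ρ ≤ P :=
      ((CAlgX.minorIdeal (A i) ρ).subset_union_prime_finite (associatedPrimes.finite ..)
        (f := id) 0 0 fun _ h _ _ ↦ h.1).1 <|
      biUnion_associatedPrimes_eq_compl_nonZeroDivisors R ▸ hdisj.subset_compl_right
    haveI := hP.isPrime
    obtain ⟨ρ', hρ', h1, -⟩ := stepA_loc he hA hex i hi P hP
    have heq : ρ' = ρ := by
      have : (ρ' : ℤ) = (ρ : ℤ) := by rw [hρ', hρ]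
      exact_mod_cast this
    subst heq
    have h2 := Ideal.map_mono (f := algebraMap R (Localization.AtPrime P)) hle
    rw [h1, IsLocalization.AtPrime.map_eq_maximalIdeal] at h2
    exact (IsLocalRing.maximalIdeal.isMaximal _).ne_top (top_le_iff.mp h2)
  · intro r' hr'
    rw [eq_bot_iff]
    intro μ hμ
    rw [Submodule.mem_bot]
    by_contra hμ0
    obtain ⟨P, hP, hle⟩ := exists_le_isAssociatedPrime_of_isNoetherianRing R μ hμ0
    haveI := hP.isPrime
    obtain ⟨ρ', hρ', -, h2⟩ := stepA_loc he hA hex i hi P hP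
    have heq : ρ' = ρ := by
      have : (ρ' : ℤ) = (ρ : ℤ) := by rw [hρ', hρ]
      exact_mod_cast this
    subst heq
    have h3 : algebraMap R (Localization.AtPrime P) μ ∈
        (CAlgX.minorIdeal (A i) r').map (algebraMap R (Localization.AtPrime P)) :=
      Ideal.mem_map_of_mem _ hμ
    rw [h2 r' hr', Submodule.mem_bot, IsLocalization.map_eq_zero_iff P.primeCompl] at h3
    obtain ⟨m, hm⟩ := h3
    have : (m : R) ∈ P := by
      apply hle
      rw [Submodule.mem_colon_singleton, smul_eq_mul, hm]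
      exact Submodule.zero_mem _
    exact m.2 this

theorem stepA' [Nontrivial R] {e : ℕ} {n : ℕ → ℕ}
    {A : (i : ℕ) → Matrix (Fin (n i)) (Fin (n (i + 1))) R}
    (he : 1 ≤ e) (hA : ∀ i, i + 2 ≤ e → A i * A (i + 1) = 0) (hex : Exact R e n A)
    (i : ℕ) (hi : i < e) :
    (CAlgX.matrixRank (A i) : ℤ) = altsum n e (i + 1) ∧
      ∃ x ∈ CAlgX.detIdeal (A i), x ∈ nonZeroDivisors R := by
  obtain ⟨ρ, hρ, ⟨x, hx, hx'⟩, h2⟩ := stepA he hA hex i hi
  have hne : CAlgX.minorIdeal (A i) ρ ≠ ⊥ := by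
    intro h0
    rw [h0, Submodule.mem_bot] at hx
    exact nonZeroDivisors.ne_zero hx' hx
  have hrk := matrixRank_eq (A i) ρ hne h2
  refine ⟨by rw [hrk, hρ], x, ?_, hx'⟩
  unfold CAlgX.detIdeal
  rw [hrk]
  exact hx

end Groth.Agent.Lib.Helper8.BN3
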