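import Mathlib
import Groth.Prelude.Def_CAlgX
import Groth.Agent.Lib.Helper8.BN3
import Groth.Agent.Lib.Helper8.BE4

set_option backward.isDefEq.respectTransparency.types false
set_option autoImplicit false
set_option linter.unusedSectionVars false
set_option linter.style.haveILetI false

namespace Groth.Agent.Lib.Helper8.BN4

open Matrix Groth.Agent.Lib.Helper8.BN1 Groth.Agent.Lib.Helper8.BN2 Groth.Agent.Lib.Helper8.BN3
  Groth.Agent.Lib.Helper8.BE2

universe u

open scoped Pointwise

theorem altsum_shift (n : ℕ → ℕ) (e j : ℕ) :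
    altsum (fun t => n (t + 1)) e j = altsum n (e + 1) (j + 1) := by
  unfold altsum
  rw [← Finset.map_add_right_Icc, Finset.sum_map]
  apply Finset.sum_congr rfl
  intro t _
  simp only [addRightEmbedding_apply]
  congr 2
  omega

section

variable {R : Type u} [CommRing R]

theorem map_mulVec_gen {S : Type u} [CommRing S] (f : R →+* S) {a b : ℕ}
    (M : Matrix (Fin a) (Fin b) R) (v : Fin b → R) :
    (M.map f) *ᵥ (fun j => f (v j)) = fun i => f ((M *ᵥ v) i) := by
  funext i
  exact (RingHom.map_mulVec f M v i).symm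

/-- the key step: correct a vector whose image is divisible by a nonzerodivisor `x` -/
theorem correct_mod {a b c : ℕ} (x : R) (hx : x ∈ nonZeroDivisors R)
    (M₀ : Matrix (Fin a) (Fin b) R) (M₁ : Matrix (Fin b) (Fin c) R)
    (hex : LinearMap.ker M₀.mulVecLin = LinearMap.range M₁.mulVecLin)
    (y : Fin c → R) (z : Fin b → R) (hyz : M₁ *ᵥ y = x • z) :
    ∃ w : Fin c → R, M₁ *ᵥ (y - x • w) = 0 := by
  have h0 : M₀ * M₁ = 0 := by
    have h1 : ∀ v, (M₀ * M₁) *ᵥ v = 0 := by
      intro v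
      rw [← Matrix.mulVec_mulVec]
      have : M₁ *ᵥ v ∈ LinearMap.ker M₀.mulVecLin := by
        rw [hex]; exact ⟨v, rfl⟩
      exact this
    ext i j
    have := congrFun (h1 (Pi.single j 1)) i
    rwa [Matrix.mulVec_single_one] at this
  have h1 : x • (M₀ *ᵥ z) = 0 := by
    rw [← Matrix.mulVec_smul, ← hyz, Matrix.mulVec_mulVec, h0, Matrix.zero_mulVec]
  have h2 : M₀ *ᵥ z = 0 := by
    funext i
    have := congrFun h1 i
    rw [Pi.smul_apply, smul_eq_mul, Pi.zero_apply, mul_comm] at this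
    exact (mem_nonZeroDivisors_iff_right.mp hx) _ this
  have h3 : z ∈ LinearMap.range M₁.mulVecLin := by
    rw [← hex]; exact h2
  obtain ⟨w, hw⟩ := h3
  rw [Matrix.mulVecLin_apply] at hw
  refine ⟨w, ?_⟩
  rw [Matrix.mulVec_sub, Matrix.mulVec_smul, hw, hyz, sub_self]

theorem exists_lift_vec (I : Ideal R) {c : ℕ} (yb : Fin c → R ⧸ I) :
    ∃ y : Fin c → R, (fun j => Ideal.Quotient.mk I (y j)) = yb := by
  choose y hy using fun j => Ideal.Quotient.mk_surjective (yb j)
  exact ⟨y, funext hy⟩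

theorem exists_smul_of_map_eq_zero (x : R) {b : ℕ} (v : Fin b → R)
    (hv : ∀ i, Ideal.Quotient.mk (Ideal.span {x}) (v i) = 0) : ∃ z : Fin b → R, v = x • z := by
  have h1 : ∀ i, ∃ zi, v i = x * zi := by
    intro i
    have := hv i
    rw [Ideal.Quotient.eq_zero_iff_mem, Ideal.mem_span_singleton'] at this
    obtain ⟨zi, hzi⟩ := this
    exact ⟨zi, by rw [← hzi, mul_comm]⟩
  choose z hz using h1
  exact ⟨z, funext fun i => by rw [Pi.smul_apply, smul_eq_mul, hz i]⟩

/-- exactness of the shifted complex modulo a nonzerodivisor -/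
theorem exact_mod (x : R) (hx : x ∈ nonZeroDivisors R) {e' : ℕ} {n : ℕ → ℕ}
    {A : (i : ℕ) → Matrix (Fin (n i)) (Fin (n (i + 1))) R}
    (hA : ∀ i, i + 2 ≤ e' + 2 → A i * A (i + 1) = 0) (hex : Exact R (e' + 2) n A) :
    Exact (R ⧸ Ideal.span {x}) (e' + 1) (fun t => n (t + 1))
      (fun t => (A (t + 1)).map (Ideal.Quotient.mk (Ideal.span {x}))) := by
  constructor
  · show LinearMap.ker ((A (e' + 1)).map (Ideal.Quotient.mk (Ideal.span {x}))).mulVecLin = ⊥
    rw [Submodule.eq_bot_iff]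
    intro yb hyb
    rw [LinearMap.mem_ker, Matrix.mulVecLin_apply] at hyb
    obtain ⟨y, rfl⟩ := exists_lift_vec (Ideal.span {x}) yb
    have hyb' : (A (e' + 1)).map (Ideal.Quotient.mk (Ideal.span {x})) *ᵥ
        (fun j => Ideal.Quotient.mk (Ideal.span {x}) (y j)) = 0 := hyb
    rw [map_mulVec_gen] at hyb'
    obtain ⟨z, hz⟩ := exists_smul_of_map_eq_zero x _ (fun i => congrFun hyb' i)
    obtain ⟨w, hw⟩ := correct_mod x hx (A e') (A (e' + 1)) (hex.2 e' le_rfl) y z hz
    have h1 : y - x • w ∈ LinearMap.ker (A (e' + 1)).mulVecLin := hw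
    have hE1 := hex.1
    rw [show e' + 2 - 1 = e' + 1 from rfl] at hE1
    rw [hE1, Submodule.mem_bot, sub_eq_zero] at h1
    funext j
    show Ideal.Quotient.mk (Ideal.span {x}) (y j) = 0
    rw [h1, Pi.smul_apply, smul_eq_mul, Ideal.Quotient.eq_zero_iff_mem]
    exact Ideal.mul_mem_right _ _ (Ideal.subset_span rfl)
  · intro t ht
    show LinearMap.ker ((A (t + 1)).map (Ideal.Quotient.mk (Ideal.span {x}))).mulVecLin =
      LinearMap.range ((A (t + 1 + 1)).map (Ideal.Quotient.mk (Ideal.span {x}))).mulVecLin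
    apply le_antisymm
    · intro yb hyb
      rw [LinearMap.mem_ker, Matrix.mulVecLin_apply] at hyb
      obtain ⟨y, rfl⟩ := exists_lift_vec (Ideal.span {x}) yb
      have hyb' : (A (t + 1)).map (Ideal.Quotient.mk (Ideal.span {x})) *ᵥ
          (fun j => Ideal.Quotient.mk (Ideal.span {x}) (y j)) = 0 := hyb
      rw [map_mulVec_gen] at hyb'
      obtain ⟨z, hz⟩ := exists_smul_of_map_eq_zero x _ (fun i => congrFun hyb' i)
      obtain ⟨w, hw⟩ := correct_mod x hx (A t) (A (t + 1)) (hex.2 t (by omega)) y z hz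
      have h1 : y - x • w ∈ LinearMap.ker (A (t + 1)).mulVecLin := hw
      rw [hex.2 (t + 1) (by omega)] at h1
      obtain ⟨v, hv⟩ := h1
      rw [Matrix.mulVecLin_apply] at hv
      refine ⟨fun j => Ideal.Quotient.mk (Ideal.span {x}) (v j), ?_⟩
      show (A (t + 1 + 1)).map (Ideal.Quotient.mk (Ideal.span {x})) *ᵥ
        (fun j => Ideal.Quotient.mk (Ideal.span {x}) (v j)) = _
      rw [map_mulVec_gen, hv]
      funext j
      rw [Pi.sub_apply, map_sub, Pi.smul_apply, smul_eq_mul, sub_eq_self,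
        Ideal.Quotient.eq_zero_iff_mem]
      exact Ideal.mul_mem_right _ _ (Ideal.subset_span rfl)
    · rintro _ ⟨v, rfl⟩
      rw [LinearMap.mem_ker, Matrix.mulVecLin_apply, Matrix.mulVecLin_apply,
        Matrix.mulVec_mulVec]
      have : (A (t + 1)).map (Ideal.Quotient.mk (Ideal.span {x})) *
          (A (t + 1 + 1)).map (Ideal.Quotient.mk (Ideal.span {x})) = 0 := by
        rw [← Matrix.map_mul, hA (t + 1) (by omega)]
        exact Matrix.map_zero _ (map_zero _)
      rw [this, Matrix.zero_mulVec]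

theorem exists_list_lift {S : Type u} [CommRing S] (f : R →+* S) (I : Ideal R) (l : List S)
    (h : ∀ s ∈ l, ∃ y ∈ I, f y = s) : ∃ ys : List R, ys.map f = l ∧ ∀ y ∈ ys, y ∈ I := by
  induction l with
  | nil => exact ⟨[], rfl, by simp⟩
  | cons s l ih =>
    obtain ⟨ys, hys, hmem⟩ := ih (fun s' hs' => h s' (List.mem_cons_of_mem _ hs'))
    obtain ⟨y, hy, hfy⟩ := h s List.mem_cons_self
    refine ⟨y :: ys, by rw [List.map_cons, hfy, hys], ?_⟩
    intro y' hy'
    rcases List.mem_cons.mp hy' with rfl | h'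
    · exact hy
    · exact hmem y' h'

theorem isSMulRegular_of_mem_nonZeroDivisors (x : R) (hx : x ∈ nonZeroDivisors R) :
    IsSMulRegular R x := by
  intro a b hab
  have h1 : x * (a - b) = 0 := by
    have : x * a = x * b := hab
    rw [mul_sub, this, sub_self]
  rw [mul_comm] at h1
  exact sub_eq_zero.mp ((mem_nonZeroDivisors_iff_right.mp hx) _ h1)

/-- regular sequence `x :: ys` from a regular sequence modulo `x` -/
theorem isWeaklyRegular_cons_of_quotient (x : R) (hx : x ∈ nonZeroDivisors R) (ys : List R)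
    (h : RingTheory.Sequence.IsWeaklyRegular (R ⧸ Ideal.span {x})
      (ys.map (Ideal.Quotient.mk (Ideal.span {x})))) :
    RingTheory.Sequence.IsWeaklyRegular R (x :: ys) := by
  rw [RingTheory.Sequence.isWeaklyRegular_cons_iff]
  refine ⟨isSMulRegular_of_mem_nonZeroDivisors x hx, ?_⟩
  have h1 : RingTheory.Sequence.IsWeaklyRegular (R ⧸ Ideal.span {x}) ys :=
    (RingTheory.Sequence.isWeaklyRegular_map_algebraMap_iff (R ⧸ Ideal.span {x})
      (R ⧸ Ideal.span {x}) ys).mp h
  have heq : (Ideal.span {x} : Submodule R R) = x • (⊤ : Submodule R R) := by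
    rw [← Submodule.ideal_span_singleton_smul, smul_eq_mul, Ideal.mul_top]
  exact (LinearEquiv.isWeaklyRegular_congr (Submodule.quotEquivOfEq _ _ heq) ys).mp h1

end

end Groth.Agent.Lib.Helper8.BN4
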