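import Mathlib
import Groth.Prelude.Def_CAlgX
import Groth.Agent.Lib.Helper8.BN4

set_option backward.isDefEq.respectTransparency.types false
set_option autoImplicit false
set_option linter.unusedSectionVars false
set_option linter.style.haveILetI false

namespace Groth.Agent.Lib.Helper8.BN5

open Matrix Groth.Agent.Lib.Helper8.BN1 Groth.Agent.Lib.Helper8.BN2 Groth.Agent.Lib.Helper8.BN3
  Groth.Agent.Lib.Helper8.BN4 Groth.Agent.Lib.Helper8.BE2

universe u

theorem isRegular_of_weakly {R : Type u} [CommRing R] [IsLocalRing R] [IsNoetherianRing R]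
    (I : Ideal R) (hI : I ≠ ⊤) (rs : List R) (hmem : ∀ r ∈ rs, r ∈ I)
    (h : RingTheory.Sequence.IsWeaklyRegular R rs) : RingTheory.Sequence.IsRegular R rs :=
  (IsLocalRing.isRegular_iff_isWeaklyRegular_of_subset_maximalIdeal
    (fun r hr => IsLocalRing.le_maximalIdeal hI (hmem r hr))).mpr h

theorem grade_zero {R : Type u} [CommRing R] [IsLocalRing R] [IsNoetherianRing R]
    (I : Ideal R) (x : R) (hx : x ∈ I) (hx' : x ∈ nonZeroDivisors R) :
    I = ⊤ ∨ ∃ rs : List R, rs.length = 0 + 1 ∧ (∀ r ∈ rs, r ∈ I) ∧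
      RingTheory.Sequence.IsRegular R rs := by
  by_cases htop : I = ⊤
  · exact Or.inl htop
  · right
    have hmem : ∀ r ∈ [x], r ∈ I := by
      intro r hr
      rw [List.mem_singleton] at hr
      rw [hr]; exact hx
    refine ⟨[x], rfl, hmem, isRegular_of_weakly I htop [x] hmem ?_⟩
    apply isWeaklyRegular_cons_of_quotient x hx' []
    exact RingTheory.Sequence.IsWeaklyRegular.nil _ _

theorem necessity : ∀ (e' : ℕ) (R : Type u) [CommRing R] [IsLocalRing R] [IsNoetherianRing R]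
    (n : ℕ → ℕ) (A : (i : ℕ) → Matrix (Fin (n i)) (Fin (n (i + 1))) R),
    (∀ i, i + 2 ≤ e' + 1 → A i * A (i + 1) = 0) → Exact R (e' + 1) n A →
    ∀ i, i < e' + 1 → (CAlgX.matrixRank (A i) : ℤ) = altsum n (e' + 1) (i + 1) ∧
      (CAlgX.detIdeal (A i) = ⊤ ∨ ∃ rs : List R, rs.length = i + 1 ∧
        (∀ r ∈ rs, r ∈ CAlgX.detIdeal (A i)) ∧ RingTheory.Sequence.IsRegular R rs) := by
  intro e'
  induction e' with
  | zero =>
    intro R _ _ _ n A hA hex i hi
    obtain ⟨hrk, x, hx, hx'⟩ := stepA' (by omega) hA hex i hi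
    refine ⟨hrk, ?_⟩
    have hi0 : i = 0 := by omega
    subst hi0
    exact grade_zero _ x hx hx'
  | succ e' ih =>
    intro R _ _ _ n A hA hex i hi
    obtain ⟨hrk, x₀, hx₀, hx₀'⟩ := stepA' (by omega) hA hex i hi
    refine ⟨hrk, ?_⟩
    rcases i with _ | i'
    · exact grade_zero _ x₀ hx₀ hx₀'
    by_cases htop : CAlgX.detIdeal (A (i' + 1)) = ⊤
    · exact Or.inl htop
    right
    -- a nonzerodivisor in all the determinantal ideals
    have hall : ∀ t : Fin (e' + 2), ∃ y, y ∈ CAlgX.detIdeal (A t) ∧ y ∈ nonZeroDivisors R := by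
      intro t
      obtain ⟨-, y, hy, hy'⟩ := stepA' (by omega) hA hex t t.2
      exact ⟨y, hy, hy'⟩
    choose xs hxs1 hxs2 using hall
    set x := ∏ t : Fin (e' + 2), xs t with hxdef
    have hx' : x ∈ nonZeroDivisors R := Submonoid.prod_mem _ fun t _ => hxs2 t
    have hxmem : ∀ t : Fin (e' + 2), x ∈ CAlgX.detIdeal (A t) := by
      intro t
      rw [hxdef, ← Finset.mul_prod_erase Finset.univ _ (Finset.mem_univ t)]
      exact Ideal.mul_mem_right _ _ (hxs1 t)
    have hxI : x ∈ CAlgX.detIdeal (A (i' + 1)) := hxmem ⟨i' + 1, hi⟩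
    have hxm : x ∈ IsLocalRing.maximalIdeal R := IsLocalRing.le_maximalIdeal htop hxI
    have hspan : Ideal.span {x} ≠ ⊤ := by
      intro h
      have : Ideal.span {x} ≤ IsLocalRing.maximalIdeal R := by
        rw [Ideal.span_le]
        intro y hy
        rw [Set.mem_singleton_iff] at hy
        rw [hy]; exact hxm
      rw [h] at this
      exact (IsLocalRing.maximalIdeal.isMaximal R).ne_top (top_le_iff.mp this)
    haveI : Nontrivial (R ⧸ Ideal.span {x}) := Ideal.Quotient.nontrivial_iff.mpr hspan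
    haveI : IsLocalRing (R ⧸ Ideal.span {x}) :=
      IsLocalRing.of_surjective' (Ideal.Quotient.mk (Ideal.span {x})) Ideal.Quotient.mk_surjective
    have hA' : ∀ t, t + 2 ≤ e' + 1 →
        (A (t + 1)).map (Ideal.Quotient.mk (Ideal.span {x})) *
          (A (t + 1 + 1)).map (Ideal.Quotient.mk (Ideal.span {x})) = 0 := by
      intro t ht
      rw [← Matrix.map_mul, hA (t + 1) (by omega)]
      exact Matrix.map_zero _ (map_zero _)
    obtain ⟨hrk', hgr'⟩ := ih (R ⧸ Ideal.span {x}) (fun t => n (t + 1))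
      (fun t => (A (t + 1)).map (Ideal.Quotient.mk (Ideal.span {x}))) hA'
      (exact_mod x hx' hA hex) i' (by omega)
    have hrank_eq : CAlgX.matrixRank ((A (i' + 1)).map (Ideal.Quotient.mk (Ideal.span {x}))) =
        CAlgX.matrixRank (A (i' + 1)) := by
      have h1 : (CAlgX.matrixRank ((A (i' + 1)).map (Ideal.Quotient.mk (Ideal.span {x}))) : ℤ) =
          (CAlgX.matrixRank (A (i' + 1)) : ℤ) := by
        rw [hrk, ← altsum_shift]
        exact hrk'
      exact_mod_cast h1
    have hdet : CAlgX.detIdeal ((A (i' + 1)).map (Ideal.Quotient.mk (Ideal.span {x}))) =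
        (CAlgX.detIdeal (A (i' + 1))).map (Ideal.Quotient.mk (Ideal.span {x})) := by
      unfold CAlgX.detIdeal
      rw [hrank_eq, minorIdeal_map]
    have hgr'' : CAlgX.detIdeal ((A (i' + 1)).map (Ideal.Quotient.mk (Ideal.span {x}))) = ⊤ ∨
        ∃ rs : List (R ⧸ Ideal.span {x}), rs.length = i' + 1 ∧
          (∀ r ∈ rs, r ∈ CAlgX.detIdeal ((A (i' + 1)).map (Ideal.Quotient.mk (Ideal.span {x})))) ∧
          RingTheory.Sequence.IsRegular (R ⧸ Ideal.span {x}) rs := hgr'
    rw [hdet] at hgr''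
    rcases hgr'' with h1 | ⟨rs', hlen', hmem', hreg'⟩
    · exfalso
      have h2 : (1 : R ⧸ Ideal.span {x}) ∈
          (CAlgX.detIdeal (A (i' + 1))).map (Ideal.Quotient.mk (Ideal.span {x})) :=
        h1 ▸ Submodule.mem_top
      rw [Ideal.mem_map_iff_of_surjective _ Ideal.Quotient.mk_surjective] at h2
      obtain ⟨y, hy, hy1⟩ := h2
      have h3 : y - 1 ∈ Ideal.span {x} := by
        rw [← Ideal.Quotient.eq, hy1, map_one]
      have h4 : y - 1 ∈ CAlgX.detIdeal (A (i' + 1)) := by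
        rw [Ideal.mem_span_singleton'] at h3
        obtain ⟨c, hc⟩ := h3
        rw [← hc]
        exact Ideal.mul_mem_left _ _ hxI
      have h5 : (1 : R) ∈ CAlgX.detIdeal (A (i' + 1)) := by
        have := Ideal.sub_mem _ hy h4
        rwa [sub_sub_cancel] at this
      exact htop ((Ideal.eq_top_iff_one _).mpr h5)
    · obtain ⟨ys, hys, hysmem⟩ := exists_list_lift (Ideal.Quotient.mk (Ideal.span {x}))
        (CAlgX.detIdeal (A (i' + 1))) rs' (fun s hs =>
          (Ideal.mem_map_iff_of_surjective _ Ideal.Quotient.mk_surjective).mp (hmem' s hs))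
      have hmem : ∀ r ∈ x :: ys, r ∈ CAlgX.detIdeal (A (i' + 1)) := by
        intro r hr
        rcases List.mem_cons.mp hr with rfl | h'
        · exact hxI
        · exact hysmem r h'
      refine ⟨x :: ys, ?_, hmem, isRegular_of_weakly _ htop _ hmem ?_⟩
      · rw [List.length_cons, ← hlen', ← hys, List.length_map]
      · apply isWeaklyRegular_cons_of_quotient x hx' ys
        rw [hys]
        exact hreg'.toIsWeaklyRegular

theorem main2065 {R : Type u} [CommRing R] [IsLocalRing R] [IsNoetherianRing R]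
    (e : ℕ) (he : 1 ≤ e) (n : ℕ → ℕ) (A : (i : ℕ) → Matrix (Fin (n i)) (Fin (n (i + 1))) R)
    (hA : ∀ i, i + 2 ≤ e → A i * A (i + 1) = 0) :
    (LinearMap.ker (A (e - 1)).mulVecLin = ⊥ ∧
        ∀ i, i + 2 ≤ e → LinearMap.ker (A i).mulVecLin = LinearMap.range (A (i + 1)).mulVecLin) ↔
      ∀ j, 1 ≤ j → j ≤ e →
        (CAlgX.matrixRank (A (j - 1)) : ℤ) = ∑ t ∈ Finset.Icc j e, (-1 : ℤ) ^ (t - j) * (n t : ℤ) ∧
          (CAlgX.detIdeal (A (j - 1)) = ⊤ ∨
            ∃ rs : List R, rs.length = j ∧ (∀ r ∈ rs, r ∈ CAlgX.detIdeal (A (j - 1))) ∧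
              RingTheory.Sequence.IsRegular R rs) := by
  constructor
  · intro hex j hj1 hje
    obtain ⟨e', rfl⟩ : ∃ e', e = e' + 1 := ⟨e - 1, by omega⟩
    obtain ⟨j', rfl⟩ : ∃ j', j = j' + 1 := ⟨j - 1, by omega⟩
    have := necessity e' R n A hA hex j' (by omega)
    rw [Nat.add_sub_cancel]
    exact this
  · intro h
    exact Groth.Agent.Lib.Helper8.BE4.main962 e he n A hA (fun j h1 h2 => (h j h1 h2).1)
      (fun j h1 h2 => (h j h1 h2).2)

end Groth.Agent.Lib.Helper8.BN5
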