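import Mathlib
import Groth.Prelude.Def_W4c6intromoduliQuartic

set_option backward.isDefEq.respectTransparency.types false
set_option autoImplicit false
set_option linter.unusedSectionVars false
set_option linter.style.haveILetI false

/-! # Binary quartics via brackets of root points -/

namespace Groth.Agent.Lib.Helper8.BQ

open W4c6intromoduli

variable {R : Type*} [CommRing R]

open Polynomial in
theorem rootPoly_eq (la mu : Fin 4 → R) :
    rootPoly la mu =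
      C (mu 0 * mu 1 * mu 2 * mu 3)
      + C (-(la 0 * mu 1 * mu 2 * mu 3 + mu 0 * la 1 * mu 2 * mu 3 + mu 0 * mu 1 * la 2 * mu 3
            + mu 0 * mu 1 * mu 2 * la 3)) * X
      + C (la 0 * la 1 * mu 2 * mu 3 + la 0 * mu 1 * la 2 * mu 3 + la 0 * mu 1 * mu 2 * la 3
            + mu 0 * la 1 * la 2 * mu 3 + mu 0 * la 1 * mu 2 * la 3 + mu 0 * mu 1 * la 2 * la 3) * X ^ 2
      + C (-(la 0 * la 1 * la 2 * mu 3 + la 0 * la 1 * mu 2 * la 3 + la 0 * mu 1 * la 2 * la 3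
            + mu 0 * la 1 * la 2 * la 3)) * X ^ 3
      + C (la 0 * la 1 * la 2 * la 3) * X ^ 4 := by
  unfold rootPoly
  rw [Fin.prod_univ_four]
  simp only [map_add, map_mul, map_neg]
  ring

open Polynomial in
theorem coeff_quartic (c0 c1 c2 c3 c4 : R) :
    (C c0 + C c1 * X + C c2 * X ^ 2 + C c3 * X ^ 3 + C c4 * X ^ 4 : R[X]).coeff 0 = c0 ∧
    (C c0 + C c1 * X + C c2 * X ^ 2 + C c3 * X ^ 3 + C c4 * X ^ 4 : R[X]).coeff 1 = c1 ∧
    (C c0 + C c1 * X + C c2 * X ^ 2 + C c3 * X ^ 3 + C c4 * X ^ 4 : R[X]).coeff 2 = c2 ∧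
    (C c0 + C c1 * X + C c2 * X ^ 2 + C c3 * X ^ 3 + C c4 * X ^ 4 : R[X]).coeff 3 = c3 ∧
    (C c0 + C c1 * X + C c2 * X ^ 2 + C c3 * X ^ 3 + C c4 * X ^ 4 : R[X]).coeff 4 = c4 := by
  refine ⟨?_, ?_, ?_, ?_, ?_⟩ <;>
    simp [Polynomial.coeff_X, Polynomial.coeff_X_pow, Polynomial.coeff_C]

theorem coef0 (la mu : Fin 4 → R) : coef la mu 0 = mu 0 * mu 1 * mu 2 * mu 3 := by
  unfold coef; rw [rootPoly_eq]; exact (coeff_quartic _ _ _ _ _).1

theorem coef1 (la mu : Fin 4 → R) : coef la mu 1 =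
    -(la 0 * mu 1 * mu 2 * mu 3 + mu 0 * la 1 * mu 2 * mu 3 + mu 0 * mu 1 * la 2 * mu 3
      + mu 0 * mu 1 * mu 2 * la 3) := by
  unfold coef; rw [rootPoly_eq]; exact (coeff_quartic _ _ _ _ _).2.1

theorem coef2 (la mu : Fin 4 → R) : coef la mu 2 =
    la 0 * la 1 * mu 2 * mu 3 + la 0 * mu 1 * la 2 * mu 3 + la 0 * mu 1 * mu 2 * la 3
      + mu 0 * la 1 * la 2 * mu 3 + mu 0 * la 1 * mu 2 * la 3 + mu 0 * mu 1 * la 2 * la 3 := by
  unfold coef; rw [rootPoly_eq]; exact (coeff_quartic _ _ _ _ _).2.2.1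

theorem coef3 (la mu : Fin 4 → R) : coef la mu 3 =
    -(la 0 * la 1 * la 2 * mu 3 + la 0 * la 1 * mu 2 * la 3 + la 0 * mu 1 * la 2 * la 3
      + mu 0 * la 1 * la 2 * la 3) := by
  unfold coef; rw [rootPoly_eq]; exact (coeff_quartic _ _ _ _ _).2.2.2.1

theorem coef4 (la mu : Fin 4 → R) : coef la mu 4 = la 0 * la 1 * la 2 * la 3 := by
  unfold coef; rw [rootPoly_eq]; exact (coeff_quartic _ _ _ _ _).2.2.2.2

/-- The bracket `[i j] = la i * mu j - la j * mu i`. -/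
def br (la mu : Fin 4 → R) (i j : Fin 4) : R := la i * mu j - la j * mu i

/-- The three bracket products. -/
def tA (la mu : Fin 4 → R) : R := br la mu 0 1 * br la mu 2 3
def tB (la mu : Fin 4 → R) : R := br la mu 0 2 * br la mu 3 1
def tC (la mu : Fin 4 → R) : R := br la mu 0 3 * br la mu 1 2

theorem tABC (la mu : Fin 4 → R) : tA la mu + tB la mu + tC la mu = 0 := by
  unfold tA tB tC br; ring

theorem two_invI (la mu : Fin 4 → R) :
    2 * invI (coef la mu) = tA la mu ^ 2 + tB la mu ^ 2 + tC la mu ^ 2 := by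
  unfold invI tA tB tC br
  rw [coef0, coef1, coef2, coef3, coef4]
  ring

theorem invJ_eq (la mu : Fin 4 → R) :
    invJ (coef la mu) = (tA la mu - tB la mu) * (tB la mu - tC la mu) * (tC la mu - tA la mu) := by
  unfold invJ tA tB tC br
  rw [coef0, coef1, coef2, coef3, coef4]
  ring

theorem disc_eq (la mu : Fin 4 → R) :
    disc la mu = (tA la mu * tB la mu * tC la mu) ^ 2 := by
  unfold disc
  have : (Finset.univ.filter fun p : Fin 4 × Fin 4 => p.1 < p.2) =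
      {(0,1),(0,2),(0,3),(1,2),(1,3),(2,3)} := by decide
  rw [this]
  simp [Finset.prod_insert]
  unfold tA tB tC br
  ring

/-- The six-factor identity. -/
theorem six_factor (A B A' B' : R) :
    8 * ((A ^ 2 + B ^ 2 + (-A - B) ^ 2) ^ 3 * ((A' - B') * (B' - (-A' - B')) * ((-A' - B') - A')) ^ 2
      - (A' ^ 2 + B' ^ 2 + (-A' - B') ^ 2) ^ 3 * ((A - B) * (B - (-A - B)) * ((-A - B) - A)) ^ 2)
    = 8 * 8 * 27 * ((A' * B - B' * A) * (A' * A - B' * B) * (A' * (-A - B) - B' * A)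
        * (A' * A - B' * (-A - B)) * (A' * (-A - B) - B' * B) * (A' * B - B' * (-A - B))) := by
  ring

end Groth.Agent.Lib.Helper8.BQ
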