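import Mathlib
import Groth.Prelude.Def_W4c6intromoduliQuartic
import Groth.Agent.Lib.Helper8.BQ1

set_option backward.isDefEq.respectTransparency.types false
set_option autoImplicit false
set_option linter.unusedSectionVars false
set_option linter.style.haveILetI false

/-! # Projective equivalence of four points with the same cross ratio -/

namespace Groth.Agent.Lib.Helper8.BQ

open W4c6intromoduli MvPolynomial

variable {k : Type*} [Field k]

theorem subst_factor (M : Matrix (Fin 2) (Fin 2) k) (l m : k) :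
    subst M (C m * X 0 - C l * X 1)
      = C (m * M 0 0 - l * M 1 0) * X 0 - C (l * M 1 1 - m * M 0 1) * X 1 := by
  unfold subst
  simp only [map_sub, map_mul, aeval_X, Fin.sum_univ_two, algHom_C, algebraMap_eq]
  ring

theorem subst_binForm (M : Matrix (Fin 2) (Fin 2) k) (la mu la' mu' : Fin 4 → k) (cc : Fin 4 → k)
    (h1 : ∀ i, la i * M 1 1 - mu i * M 0 1 = cc i * la' i)
    (h2 : ∀ i, mu i * M 0 0 - la i * M 1 0 = cc i * mu' i) :
    subst M (binForm la mu) = C (∏ i, cc i) * binForm la' mu' := by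
  unfold binForm
  rw [map_prod, map_prod, ← Finset.prod_mul_distrib]
  apply Finset.prod_congr rfl
  intro i _
  rw [subst_factor, h1, h2]
  simp only [map_mul]
  ring

section

variable (la mu la' mu' : Fin 4 → k)

/-- The matrix of the substitution. -/
def theM : Matrix (Fin 2) (Fin 2) k :=
  let α := br la' mu' 2 1 * br la mu 0 2
  let β := br la' mu' 0 2 * br la mu 2 1
  Matrix.of fun r c =>
    if r = 0 then (if c = 0 then -α * mu' 0 * la 1 + β * mu' 1 * la 0
                   else α * la' 0 * la 1 - β * la' 1 * la 0)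
    else (if c = 0 then -(α * mu' 0 * mu 1 - β * mu' 1 * mu 0)
          else α * la' 0 * mu 1 - β * la' 1 * mu 0)

theorem theM_det :
    (theM la mu la' mu').det = (br la' mu' 2 1 * br la mu 0 2) * (br la' mu' 0 2 * br la mu 2 1)
      * br la mu 0 1 * br la' mu' 0 1 := by
  rw [Matrix.det_fin_two]
  simp only [theM, Matrix.of_apply]
  simp only [br]
  simp
  ring

theorem exists_equiv
    (h01 : br la mu 0 1 ≠ 0) (h02 : br la mu 0 2 ≠ 0) (h21 : br la mu 2 1 ≠ 0)
    (h31 : br la mu 3 1 ≠ 0)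
    (h01' : br la' mu' 0 1 ≠ 0) (h02' : br la' mu' 0 2 ≠ 0) (h21' : br la' mu' 2 1 ≠ 0)
    (h31' : br la' mu' 3 1 ≠ 0)
    (hprop : tB la mu * tC la' mu' = tC la mu * tB la' mu') :
    ∃ (M : Matrix (Fin 2) (Fin 2) k) (c : k), IsUnit M.det ∧ c ≠ 0 ∧
      binForm la' mu' = C c * subst M (binForm la mu) := by
  set α := br la' mu' 2 1 * br la mu 0 2 with hα
  set β := br la' mu' 0 2 * br la mu 2 1 with hβ
  have hα0 : α ≠ 0 := mul_ne_zero h21' h02
  have hβ0 : β ≠ 0 := mul_ne_zero h02' h21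
  set c0 : k := α * br la mu 0 1 with hc0
  set c1 : k := β * br la mu 0 1 with hc1
  set c2 : k := br la mu 2 1 * br la mu 0 2 * br la' mu' 0 1 with hc2
  set c3 : k := α * br la mu 3 1 * br la' mu' 0 1 / br la' mu' 3 1 with hc3
  let cc : Fin 4 → k := ![c0, c1, c2, c3]
  have hcc : ∀ i, cc i ≠ 0 := by
    intro i
    fin_cases i
    · exact mul_ne_zero hα0 h01
    · exact mul_ne_zero hβ0 h01
    · exact mul_ne_zero (mul_ne_zero h21 h02) h01'
    · exact div_ne_zero (mul_ne_zero (mul_ne_zero hα0 h31) h01') h31'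
  have hM00 : theM la mu la' mu' 0 0 = -α * mu' 0 * la 1 + β * mu' 1 * la 0 := by
    simp [theM, hα, hβ]
  have hM01 : theM la mu la' mu' 0 1 = α * la' 0 * la 1 - β * la' 1 * la 0 := by
    simp [theM, hα, hβ]
  have hM10 : theM la mu la' mu' 1 0 = -(α * mu' 0 * mu 1 - β * mu' 1 * mu 0) := by
    simp [theM, hα, hβ]
  have hM11 : theM la mu la' mu' 1 1 = α * la' 0 * mu 1 - β * la' 1 * mu 0 := by
    simp [theM, hα, hβ]
  have hprop' : br la mu 0 2 * br la mu 3 1 * (br la' mu' 0 3 * br la' mu' 1 2)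
      = br la mu 0 3 * br la mu 1 2 * (br la' mu' 0 2 * br la' mu' 3 1) := hprop
  have k10 : la 0 * theM la mu la' mu' 1 1 - mu 0 * theM la mu la' mu' 0 1 = c0 * la' 0 := by
    rw [hM11, hM01, hc0]; simp only [br]; ring
  have k11 : la 1 * theM la mu la' mu' 1 1 - mu 1 * theM la mu la' mu' 0 1 = c1 * la' 1 := by
    rw [hM11, hM01, hc1]; simp only [br]; ring
  have k12 : la 2 * theM la mu la' mu' 1 1 - mu 2 * theM la mu la' mu' 0 1 = c2 * la' 2 := by
    rw [hM11, hM01, hc2, hα, hβ]; simp only [br]; ring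
  have k13 : la 3 * theM la mu la' mu' 1 1 - mu 3 * theM la mu la' mu' 0 1 = c3 * la' 3 := by
    rw [hM11, hM01, hc3, div_mul_eq_mul_div, eq_div_iff h31', hα, hβ]
    simp only [br] at hprop' ⊢
    linear_combination (la' 1) * hprop'
  have k20 : mu 0 * theM la mu la' mu' 0 0 - la 0 * theM la mu la' mu' 1 0 = c0 * mu' 0 := by
    rw [hM00, hM10, hc0]; simp only [br]; ring
  have k21 : mu 1 * theM la mu la' mu' 0 0 - la 1 * theM la mu la' mu' 1 0 = c1 * mu' 1 := by
    rw [hM00, hM10, hc1]; simp only [br]; ring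
  have k22 : mu 2 * theM la mu la' mu' 0 0 - la 2 * theM la mu la' mu' 1 0 = c2 * mu' 2 := by
    rw [hM00, hM10, hc2, hα, hβ]; simp only [br]; ring
  have k23 : mu 3 * theM la mu la' mu' 0 0 - la 3 * theM la mu la' mu' 1 0 = c3 * mu' 3 := by
    rw [hM00, hM10, hc3, div_mul_eq_mul_div, eq_div_iff h31', hα, hβ]
    simp only [br] at hprop' ⊢
    linear_combination (mu' 1) * hprop'
  have key1 : ∀ i, la i * theM la mu la' mu' 1 1 - mu i * theM la mu la' mu' 0 1 = cc i * la' i := by
    intro i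
    fin_cases i
    · exact k10
    · exact k11
    · exact k12
    · exact k13
  have key2 : ∀ i, mu i * theM la mu la' mu' 0 0 - la i * theM la mu la' mu' 1 0 = cc i * mu' i := by
    intro i
    fin_cases i
    · exact k20
    · exact k21
    · exact k22
    · exact k23
  have hsub := subst_binForm (theM la mu la' mu') la mu la' mu' cc key1 key2
  have hprod : (∏ i, cc i) ≠ 0 := Finset.prod_ne_zero_iff.2 fun i _ => hcc i
  refine ⟨theM la mu la' mu', (∏ i, cc i)⁻¹, ?_, inv_ne_zero hprod, ?_⟩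
  · rw [theM_det]
    exact (mul_ne_zero (mul_ne_zero (mul_ne_zero hα0 hβ0) h01) h01').isUnit
  · rw [hsub, ← mul_assoc, ← map_mul, inv_mul_cancel₀ hprod, map_one, one_mul]

end

end Groth.Agent.Lib.Helper8.BQ
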