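import Mathlib
import Groth.Prelude.Def_W4c6intromoduliQuartic
import Groth.Agent.Lib.Helper8.BQ1
import Groth.Agent.Lib.Helper8.BQ2

set_option backward.isDefEq.respectTransparency.types false
set_option autoImplicit false
set_option linter.unusedSectionVars false
set_option linter.style.haveILetI false

/-! # Binary quartics with proportional invariants are equivalent -/

namespace Groth.Agent.Lib.Helper8.BQ

open W4c6intromoduli MvPolynomial

variable {k : Type*} [Field k]

theorem br_ne_zero_of_disc (la mu : Fin 4 → k) (hd : disc la mu ≠ 0) :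
    ∀ i j : Fin 4, i ≠ j → br la mu i j ≠ 0 := by
  rw [disc_eq] at hd
  have hABC : tA la mu * tB la mu * tC la mu ≠ 0 := fun h => hd (by rw [h]; ring)
  have hA : tA la mu ≠ 0 := fun h => hABC (by rw [h]; ring)
  have hB : tB la mu ≠ 0 := fun h => hABC (by rw [h]; ring)
  have hC : tC la mu ≠ 0 := fun h => hABC (by rw [h]; ring)
  unfold tA at hA
  unfold tB at hB
  unfold tC at hC
  have h01 := left_ne_zero_of_mul hA
  have h23 := right_ne_zero_of_mul hA
  have h02 := left_ne_zero_of_mul hB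
  have h31 := right_ne_zero_of_mul hB
  have h03 := left_ne_zero_of_mul hC
  have h12 := right_ne_zero_of_mul hC
  have hneg : ∀ i j : Fin 4, br la mu i j ≠ 0 → br la mu j i ≠ 0 := by
    intro i j h h'
    apply h
    unfold br at h' ⊢
    linear_combination -h'
  intro i j hij
  fin_cases i <;> fin_cases j <;> first
    | exact absurd rfl hij
    | assumption
    | (apply hneg; assumption)

/-- Reindexing by an explicit bijection. -/
theorem exists_equiv_reindex (la mu la' mu' : Fin 4 → k) (p : Fin 4 → Fin 4)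
    (hp : Function.Injective p)
    (hform : binForm (la ∘ p) (mu ∘ p) = binForm la mu)
    (hbr : ∀ i j : Fin 4, i ≠ j → br la mu i j ≠ 0)
    (hbr' : ∀ i j : Fin 4, i ≠ j → br la' mu' i j ≠ 0)
    (hprop : tB (la ∘ p) (mu ∘ p) * tC la' mu' = tC (la ∘ p) (mu ∘ p) * tB la' mu') :
    ∃ (M : Matrix (Fin 2) (Fin 2) k) (c : k), IsUnit M.det ∧ c ≠ 0 ∧
      binForm la' mu' = C c * subst M (binForm la mu) := by
  have hbrp : ∀ i j : Fin 4, i ≠ j → br (la ∘ p) (mu ∘ p) i j ≠ 0 := by
    intro i j hij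
    exact hbr (p i) (p j) (fun h => hij (hp h))
  have := exists_equiv (la ∘ p) (mu ∘ p) la' mu' (hbrp 0 1 (by decide)) (hbrp 0 2 (by decide))
    (hbrp 2 1 (by decide)) (hbrp 3 1 (by decide)) (hbr' 0 1 (by decide)) (hbr' 0 2 (by decide))
    (hbr' 2 1 (by decide)) (hbr' 3 1 (by decide)) hprop
  rw [hform] at this
  exact this

theorem binForm_reindex (la mu : Fin 4 → k) (p : Fin 4 → Fin 4)
    (hp : (p 0, p 1, p 2, p 3) = (0, 1, 2, 3) ∨ (p 0, p 1, p 2, p 3) = (0, 2, 1, 3)
      ∨ (p 0, p 1, p 2, p 3) = (0, 1, 3, 2) ∨ (p 0, p 1, p 2, p 3) = (0, 3, 2, 1)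
      ∨ (p 0, p 1, p 2, p 3) = (0, 2, 3, 1) ∨ (p 0, p 1, p 2, p 3) = (0, 3, 1, 2)) :
    binForm (la ∘ p) (mu ∘ p) = binForm la mu := by
  unfold binForm
  rw [Fin.prod_univ_four, Fin.prod_univ_four]
  simp only [Function.comp]
  rcases hp with h | h | h | h | h | h <;>
  · simp only [Prod.mk.injEq] at h
    obtain ⟨h0, h1, h2, h3⟩ := h
    rw [h0, h1, h2, h3]
    try ring

theorem main (h2 : (2 : k) ≠ 0) (h3 : (3 : k) ≠ 0) (la mu la' mu' : Fin 4 → k)
    (hd : disc la mu ≠ 0) (hd' : disc la' mu' ≠ 0)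
    (h : invI (coef la mu) ^ 3 * invJ (coef la' mu') ^ 2 =
        invI (coef la' mu') ^ 3 * invJ (coef la mu) ^ 2) :
    ∃ (M : Matrix (Fin 2) (Fin 2) k) (c : k), IsUnit M.det ∧ c ≠ 0 ∧
      binForm la' mu' = C c * subst M (binForm la mu) := by
  have hbr := br_ne_zero_of_disc la mu hd
  have hbr' := br_ne_zero_of_disc la' mu' hd'
  -- the six-factor identity
  have hI := two_invI la mu
  have hI' := two_invI la' mu'
  have hJ := invJ_eq la mu
  have hJ' := invJ_eq la' mu'
  have hsum := tABC la mu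
  have hsum' := tABC la' mu'
  have hC : tC la mu = -tA la mu - tB la mu := by linear_combination hsum
  have hC' : tC la' mu' = -tA la' mu' - tB la' mu' := by linear_combination hsum'
  have h6 := six_factor (tA la mu) (tB la mu) (tA la' mu') (tB la' mu')
  rw [← hC, ← hC'] at h6
  rw [← hI, ← hI', ← hJ, ← hJ'] at h6
  have hprod : (tA la' mu' * tB la mu - tB la' mu' * tA la mu)
      * (tA la' mu' * tA la mu - tB la' mu' * tB la mu)
      * (tA la' mu' * tC la mu - tB la' mu' * tA la mu)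
      * (tA la' mu' * tA la mu - tB la' mu' * tC la mu)
      * (tA la' mu' * tC la mu - tB la' mu' * tB la mu)
      * (tA la' mu' * tB la mu - tB la' mu' * tC la mu) = 0 := by
    have h27 : (8 * 8 * 27 : k) ≠ 0 := by
      have : (8 * 8 * 27 : k) = 2 ^ 6 * 3 ^ 3 := by norm_num
      rw [this]
      exact mul_ne_zero (pow_ne_zero _ h2) (pow_ne_zero _ h3)
    have h6' : (8 * 8 * 27 : k) * ((tA la' mu' * tB la mu - tB la' mu' * tA la mu)
      * (tA la' mu' * tA la mu - tB la' mu' * tB la mu)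
      * (tA la' mu' * tC la mu - tB la' mu' * tA la mu)
      * (tA la' mu' * tA la mu - tB la' mu' * tC la mu)
      * (tA la' mu' * tC la mu - tB la' mu' * tB la mu)
      * (tA la' mu' * tB la mu - tB la' mu' * tC la mu)) = 0 := by
      rw [← h6]
      linear_combination (64 : k) * h
    exact (mul_eq_zero.1 h6').resolve_left h27
  -- general closing step
  have close : ∀ (p : Fin 4 → Fin 4),
      ((p 0, p 1, p 2, p 3) = (0, 1, 2, 3) ∨ (p 0, p 1, p 2, p 3) = (0, 2, 1, 3)
      ∨ (p 0, p 1, p 2, p 3) = (0, 1, 3, 2) ∨ (p 0, p 1, p 2, p 3) = (0, 3, 2, 1)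
      ∨ (p 0, p 1, p 2, p 3) = (0, 2, 3, 1) ∨ (p 0, p 1, p 2, p 3) = (0, 3, 1, 2)) →
      tB (la ∘ p) (mu ∘ p) * tC la' mu' = tC (la ∘ p) (mu ∘ p) * tB la' mu' →
      ∃ (M : Matrix (Fin 2) (Fin 2) k) (c : k), IsUnit M.det ∧ c ≠ 0 ∧
        binForm la' mu' = C c * subst M (binForm la mu) := by
    intro p hp hprop
    have hinj : Function.Injective p := by
      intro i j hij
      rcases hp with h | h | h | h | h | h <;>
      · simp only [Prod.mk.injEq] at h
        obtain ⟨h0, h1, h2, h3⟩ := h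
        fin_cases i <;> fin_cases j <;> simp_all
    exact exists_equiv_reindex la mu la' mu' p hinj (binForm_reindex la mu p hp) hbr hbr' hprop
  simp only [mul_eq_zero] at hprod
  rcases hprod with ((((hf | hf) | hf) | hf) | hf) | hf
  · -- (x,y,z) = (A,B,C)
    refine close ![0, 1, 2, 3] (Or.inl rfl) ?_
    simp only [tA, tB, tC, br, Function.comp, Matrix.cons_val_zero, Matrix.cons_val_one,
      Matrix.cons_val] at hf ⊢
    linear_combination (-1 : k) * hf
  · -- (x,y,z) = (B,A,C)
    refine close ![0, 2, 1, 3] (Or.inr (Or.inl rfl)) ?_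
    simp only [tA, tB, tC, br, Function.comp, Matrix.cons_val_zero, Matrix.cons_val_one,
      Matrix.cons_val] at hf ⊢
    linear_combination (1 : k) * hf
  · -- (x,y,z) = (A,C,B)
    refine close ![0, 1, 3, 2] (Or.inr (Or.inr (Or.inl rfl))) ?_
    simp only [tA, tB, tC, br, Function.comp, Matrix.cons_val_zero, Matrix.cons_val_one,
      Matrix.cons_val] at hf ⊢
    linear_combination (1 : k) * hf
  · -- (x,y,z) = (C,A,B)
    refine close ![0, 3, 1, 2] (Or.inr (Or.inr (Or.inr (Or.inr (Or.inr rfl))))) ?_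
    simp only [tA, tB, tC, br, Function.comp, Matrix.cons_val_zero, Matrix.cons_val_one,
      Matrix.cons_val] at hf ⊢
    linear_combination (-1 : k) * hf
  · -- (x,y,z) = (B,C,A)
    refine close ![0, 2, 3, 1] (Or.inr (Or.inr (Or.inr (Or.inr (Or.inl rfl))))) ?_
    simp only [tA, tB, tC, br, Function.comp, Matrix.cons_val_zero, Matrix.cons_val_one,
      Matrix.cons_val] at hf ⊢
    linear_combination (-1 : k) * hf
  · -- (x,y,z) = (C,B,A)
    refine close ![0, 3, 2, 1] (Or.inr (Or.inr (Or.inr (Or.inl rfl)))) ?_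
    simp only [tA, tB, tC, br, Function.comp, Matrix.cons_val_zero, Matrix.cons_val_one,
      Matrix.cons_val] at hf ⊢
    linear_combination (1 : k) * hf

end Groth.Agent.Lib.Helper8.BQ
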