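import Mathlib
import Groth.Prelude.Def_W4bk4grassmannianPl
set_option backward.isDefEq.respectTransparency.types false
set_option linter.unusedSectionVars false
set_option autoImplicit false
universe u

namespace Groth.Agent.Lib.Helper8.Gr
open W4bk4grassmannian MvPolynomial

variable {K : Type u} [CommRing K] {d n : ℕ}

theorem idx_le_def (a b : Idx d n) : a ≤ b ↔ ∀ t, a.1 t ≤ b.1 t := Iff.rfl

theorem injective_of_card {a : Fin d → Fin n} (h : (Finset.univ.image a).card = d) :
    Function.Injective a := by
  have h2 : (Finset.univ.image a).card = (Finset.univ : Finset (Fin d)).card := by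
    rw [h, Finset.card_univ, Fintype.card_fin]
  have := Finset.card_image_iff.mp h2
  intro x y hxy
  exact this (Finset.mem_coe.mpr (Finset.mem_univ x)) (Finset.mem_coe.mpr (Finset.mem_univ y)) hxy

theorem card_of_injective {a : Fin d → Fin n} (h : Function.Injective a) :
    (Finset.univ.image a).card = d := by
  rw [Finset.card_image_of_injective _ h, Finset.card_univ, Fintype.card_fin]

/-- Sums over the sorted tuple equal sums over the tuple. -/
theorem sum_sortIdx {M : Type*} [AddCommMonoid M] (f : Fin n → M) (a : Fin d → Fin n)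
    (h : (Finset.univ.image a).card = d) :
    ∑ t, f ((sortIdx d n a h).1 t) = ∑ t, f (a t) := by
  have h1 : ∑ t, f ((sortIdx d n a h).1 t) = ∑ x ∈ Finset.univ.image a, f x := by
    have : ∑ t, f ((sortIdx d n a h).1 t)
        = ∑ x ∈ Finset.univ.image ((Finset.univ.image a).orderEmbOfFin h), f x := by
      rw [Finset.sum_image]
      · rfl
      · intro x _ y _ hxy
        exact ((Finset.univ.image a).orderEmbOfFin h).injective hxy
    rw [this, Finset.image_orderEmbOfFin_univ]
  rw [h1, Finset.sum_image]
  intro x _ y _ hxy
  exact injective_of_card h hxy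

theorem sortIdx_mem_image (a : Fin d → Fin n) (h : (Finset.univ.image a).card = d) (t : Fin d) :
    ∃ s, a s = (sortIdx d n a h).1 t := by
  have := Finset.orderEmbOfFin_mem (Finset.univ.image a) h t
  rcases Finset.mem_image.mp this with ⟨s, _, hs⟩
  exact ⟨s, hs⟩

/-- The permutation sorting an injective tuple. -/
noncomputable def sortPerm (a : Fin d → Fin n) (h : (Finset.univ.image a).card = d) :
    Equiv.Perm (Fin d) :=
  Equiv.ofBijective
    (fun t => ((Finset.univ.image a).orderIsoOfFin h).symm
      ⟨a t, Finset.mem_image_of_mem a (Finset.mem_univ t)⟩)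
    (by
      have hinj : Function.Injective (fun t => ((Finset.univ.image a).orderIsoOfFin h).symm
          ⟨a t, Finset.mem_image_of_mem a (Finset.mem_univ t)⟩) := by
        intro x y hxy
        have := ((Finset.univ.image a).orderIsoOfFin h).symm.injective hxy
        exact injective_of_card h (Subtype.mk.inj this)
      exact Finite.injective_iff_bijective.mp hinj)

theorem sortIdx_sortPerm (a : Fin d → Fin n) (h : (Finset.univ.image a).card = d) (t : Fin d) :
    (sortIdx d n a h).1 (sortPerm a h t) = a t := by
  unfold sortIdx sortPerm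
  simp only [Equiv.ofBijective_apply]
  rw [← Finset.coe_orderIsoOfFin_apply, OrderIso.apply_symm_apply]

theorem sign_sortPerm (a : Fin d → Fin n) (h : (Finset.univ.image a).card = d) :
    Equiv.Perm.sign (sortPerm a h) = (-1 : ℤˣ) ^ invCount d n a := by
  rw [Equiv.Perm.sign_eq_prod_prod_Ioi]
  have hlt : ∀ i j : Fin d, (sortPerm a h i < sortPerm a h j ↔ a i < a j) := by
    intro i j
    rw [← sortIdx_sortPerm a h i, ← sortIdx_sortPerm a h j]
    exact ((sortIdx d n a h).2.lt_iff_lt).symm
  have h1 : ∀ i : Fin d, ∏ j ∈ Finset.Ioi i, (if sortPerm a h i < sortPerm a h j then (1 : ℤˣ) else -1)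
      = ∏ j : Fin d, (if i < j ∧ a j < a i then (-1 : ℤˣ) else 1) := by
    intro i
    rw [← Finset.prod_filter_mul_prod_filter_not Finset.univ (fun j => i < j)]
    have e1 : (Finset.univ.filter fun j => i < j) = Finset.Ioi i := by
      ext j; simp
    rw [e1]
    have e2 : ∏ x ∈ Finset.univ.filter (fun j => ¬ i < j), (if i < x ∧ a x < a i then (-1 : ℤˣ) else 1) = 1 := by
      apply Finset.prod_eq_one
      intro x hx
      rw [Finset.mem_filter] at hx
      rw [if_neg (fun hh => hx.2 hh.1)]
    rw [e2, mul_one]
    apply Finset.prod_congr rfl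
    intro j hj
    rw [Finset.mem_Ioi] at hj
    by_cases hc : a i < a j
    · rw [if_pos ((hlt i j).mpr hc), if_neg]
      intro hh; exact absurd hc (not_lt.mpr hh.2.le)
    · rw [if_neg (fun hh => hc ((hlt i j).mp hh)), if_pos]
      refine ⟨hj, lt_of_le_of_ne (not_lt.mp hc) ?_⟩
      intro he
      exact hj.ne' (injective_of_card h he)
  rw [Finset.prod_congr rfl (fun i _ => h1 i), ← Finset.prod_product']
  rw [Finset.prod_ite, Finset.prod_const_one, mul_one, Finset.prod_const]
  unfold invCount
  congr 1

/-- Evaluation of Plücker polynomials at the minors of a matrix over a `K`-algebra. -/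
noncomputable def evalR {R : Type*} [CommRing R] [Algebra K R] (A : Matrix (Fin n) (Fin d) R) :
    PlRing K d n →ₐ[K] R :=
  MvPolynomial.aeval fun θ : Idx d n => (A.submatrix θ.1 id).det

theorem evalR_X {R : Type*} [CommRing R] [Algebra K R] (A : Matrix (Fin n) (Fin d) R)
    (θ : Idx d n) : evalR (K := K) A (X θ) = (A.submatrix θ.1 id).det := by
  unfold evalR
  rw [aeval_X]

theorem evalMinors_eq_evalR (A : Matrix (Fin n) (Fin d) K) : evalMinors K d n A = evalR A := rfl

/-- The generic `n × d` matrix. -/
noncomputable def genMat (K : Type u) [CommRing K] (d n : ℕ) :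
    Matrix (Fin n) (Fin d) (MatRing K d n) :=
  Matrix.of fun s t => (X (s, t) : MatRing K d n)

theorem pluckerMap_eq_evalR : pluckerMap K d n = evalR (genMat K d n) := rfl

theorem evalR_coord {R : Type*} [CommRing R] [Algebra K R] (A : Matrix (Fin n) (Fin d) R)
    (a : Fin d → Fin n) :
    evalR (K := K) A (coord K d n a) = (A.submatrix a id).det := by
  unfold coord
  by_cases h : (Finset.univ.image a).card = d
  · rw [dif_pos h]
    have hsub : A.submatrix a id = (A.submatrix (sortIdx d n a h).1 id).submatrix (sortPerm a h) id := by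
      ext s t
      simp only [Matrix.submatrix_apply, id_eq]
      rw [sortIdx_sortPerm]
    rw [hsub, Matrix.det_permute, sign_sortPerm]
    simp only [map_mul, map_pow, map_neg, map_one]
    congr 1
    · simp
    · rw [evalR_X]
  · rw [dif_neg h, map_zero]
    have hni : ¬ Function.Injective a := fun hi => h (card_of_injective hi)
    rw [Function.Injective] at hni
    push Not at hni
    obtain ⟨s, t, hst, hne⟩ := hni
    symm
    apply Matrix.det_zero_of_row_eq hne
    ext c
    simp [Matrix.submatrix_apply, hst]

theorem evalMinors_coord (A : Matrix (Fin n) (Fin d) K) (a : Fin d → Fin n) :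
    evalMinors K d n A (coord K d n a) = (A.submatrix a id).det :=
  evalR_coord A a

theorem coord_of_strictMono (θ : Idx d n) : coord K d n θ.1 = X θ := by
  have h : (Finset.univ.image θ.1).card = d := card_of_injective θ.2.injective
  unfold coord
  rw [dif_pos h]
  have hs : sortIdx d n θ.1 h = θ := by
    apply Subtype.ext
    unfold sortIdx
    simp only
    symm
    apply Finset.orderEmbOfFin_unique h
    · intro x; exact Finset.mem_image_of_mem _ (Finset.mem_univ x)
    · exact θ.2
  have hinv : invCount d n θ.1 = 0 := by
    unfold invCount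
    rw [Finset.card_eq_zero, Finset.filter_eq_empty_iff]
    intro p _ hp
    exact absurd (θ.2 hp.1) (not_lt.mpr hp.2.le)
  rw [hs, hinv, pow_zero, one_mul]

/-- A signed coordinate is `0` or `±X θ` with all symmetric functions of the entries preserved. -/
theorem coord_cases (a : Fin d → Fin n) :
    coord K d n a = 0 ∨ ∃ θ : Idx d n, (coord K d n a = X θ ∨ coord K d n a = - X θ) ∧
      (∀ (M : Type) [AddCommMonoid M] (f : Fin n → M), ∑ t, f (θ.1 t) = ∑ t, f (a t)) := by
  unfold coord
  by_cases h : (Finset.univ.image a).card = d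
  · right
    rw [dif_pos h]
    refine ⟨sortIdx d n a h, ?_, fun M _ f => sum_sortIdx f a h⟩
    rcases neg_one_pow_eq_or (MvPolynomial (Idx d n) K) (invCount d n a) with h1 | h1
    · left; rw [h1, one_mul]
    · right; rw [h1, neg_one_mul]
  · left
    rw [dif_neg h]

end Groth.Agent.Lib.Helper8.Gr
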