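import Mathlib
set_option backward.isDefEq.respectTransparency.types false
set_option linter.unusedSectionVars false
set_option autoImplicit false
universe u

namespace Groth.Agent.Lib.Helper8.Gr

section AdjCriterion

variable {K : Type*} {V W : Type*} [CommRing K] [AddCommGroup V] [Module K V]
  [AddCommGroup W] [Module K W]

/-- A multilinear map on `Fin N` vanishing on tuples with two equal adjacent entries changes sign
under adjacent swaps. -/
theorem adj_swap {N : ℕ} (f : MultilinearMap K (fun _ : Fin N => V) W)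
    (hadj : ∀ (v : Fin N → V) (k : ℕ) (hk : k + 1 < N),
      v ⟨k, by omega⟩ = v ⟨k + 1, hk⟩ → f v = 0)
    (v : Fin N → V) (k : ℕ) (hk : k + 1 < N) :
    f (v ∘ Equiv.swap (⟨k, by omega⟩ : Fin N) ⟨k + 1, hk⟩) = - f v := by
  set a : Fin N := ⟨k, by omega⟩ with ha
  set b : Fin N := ⟨k + 1, hk⟩ with hb
  have hab : a ≠ b := by
    intro h; rw [ha, hb, Fin.mk.injEq] at h; omega
  let u : V → V → (Fin N → V) := fun x y => Function.update (Function.update v a x) b y
  have hua : ∀ x y, u x y a = x := by
    intro x y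
    simp only [u]
    rw [Function.update_of_ne hab, Function.update_self]
  have hub : ∀ x y, u x y b = y := by
    intro x y
    simp only [u]
    rw [Function.update_self]
  have h1 : ∀ x x' y, f (u (x + x') y) = f (u x y) + f (u x' y) := by
    intro x x' y
    simp only [u]
    have hc : ∀ x y, Function.update (Function.update v a x) b y
        = Function.update (Function.update v b y) a x := fun x y => Function.update_comm hab x y v
    rw [hc, hc, hc]
    exact f.map_update_add _ a x x'
  have h2 : ∀ x y y', f (u x (y + y')) = f (u x y) + f (u x y') := by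
    intro x y y'
    simp only [u]
    exact f.map_update_add _ b y y'
  have h0 : ∀ x, f (u x x) = 0 := by
    intro x
    apply hadj _ k hk
    change u x x a = u x x b
    rw [hua, hub]
  have hv : u (v a) (v b) = v := by
    simp only [u]
    rw [Function.update_eq_self, Function.update_eq_self]
  have hsw : u (v b) (v a) = v ∘ Equiv.swap a b := by
    funext i
    simp only [u, Function.comp_apply]
    by_cases hib : i = b
    · rw [hib, Function.update_self, Equiv.swap_apply_right]
    · rw [Function.update_of_ne hib]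
      by_cases hia : i = a
      · rw [hia, Function.update_self, Equiv.swap_apply_left]
      · rw [Function.update_of_ne hia, Equiv.swap_apply_of_ne_of_ne hia hib]
  have := h0 (v a + v b)
  rw [h1, h2, h2, h0, h0, hv, hsw, zero_add, add_zero] at this
  rw [eq_neg_iff_add_eq_zero, add_comm]
  exact this

theorem adj_swap' {N : ℕ} (f : MultilinearMap K (fun _ : Fin N => V) W)
    (hadj : ∀ (v : Fin N → V) (k : ℕ) (hk : k + 1 < N),
      v ⟨k, by omega⟩ = v ⟨k + 1, hk⟩ → f v = 0)
    (v : Fin N → V) (a b : Fin N) (hab : b.val = a.val + 1) :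
    f (v ∘ Equiv.swap a b) = - f v := by
  rcases a with ⟨k, hk⟩
  rcases b with ⟨k', hk'⟩
  simp only at hab
  subst hab
  exact adj_swap f hadj v k hk'

theorem alt_of_adj_aux {N : ℕ} (f : MultilinearMap K (fun _ : Fin N => V) W)
    (hadj : ∀ (v : Fin N → V) (k : ℕ) (hk : k + 1 < N),
      v ⟨k, by omega⟩ = v ⟨k + 1, hk⟩ → f v = 0) :
    ∀ (m : ℕ) (v : Fin N → V) (i j : Fin N), i.val < j.val → j.val - i.val = m + 1 →
      v i = v j → f v = 0 := by
  intro m
  induction m with
  | zero =>
    intro v i j hij hm hv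
    have hk : i.val + 1 < N := by have := j.isLt; omega
    apply hadj v i.val hk
    have hj : j = ⟨i.val + 1, hk⟩ := by apply Fin.ext; simp; omega
    rw [← hj]
    exact hv
  | succ m ih =>
    intro v i j hij hm hv
    have hjN := j.isLt
    let j' : Fin N := ⟨j.val - 1, by omega⟩
    have hj'v : j'.val = j.val - 1 := rfl
    have hsw := adj_swap' f hadj v j' j (by rw [hj'v]; omega)
    have hz : f (v ∘ Equiv.swap j' j) = 0 := by
      apply ih (v ∘ Equiv.swap j' j) i j'
      · rw [hj'v]; omega
      · rw [hj'v]; omega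
      · simp only [Function.comp_apply]
        rw [Equiv.swap_apply_left, Equiv.swap_apply_of_ne_of_ne]
        · exact hv
        · intro h; rw [h, hj'v] at hij; omega
        · intro h; rw [h] at hij; omega
    rw [hz] at hsw
    exact neg_eq_zero.mp hsw.symm

theorem alt_of_adj {N : ℕ} (f : MultilinearMap K (fun _ : Fin N => V) W)
    (hadj : ∀ (v : Fin N → V) (k : ℕ) (hk : k + 1 < N),
      v ⟨k, by omega⟩ = v ⟨k + 1, hk⟩ → f v = 0)
    (v : Fin N → V) (i j : Fin N) (hv : v i = v j) (hij : i ≠ j) : f v = 0 := by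
  rcases lt_or_gt_of_ne (fun h => hij (Fin.ext h) : i.val ≠ j.val) with h | h
  · exact alt_of_adj_aux f hadj (j.val - i.val - 1) v i j h (by omega) hv
  · exact alt_of_adj_aux f hadj (i.val - j.val - 1) v j i h (by omega) hv.symm

end AdjCriterion

section Shuffle

variable {K : Type*} {V : Type*} [CommRing K] [AddCommGroup V] [Module K V]

theorem card_compl_of {N p q : ℕ} (hN : p + q = N) (A : Finset (Fin N)) (hA : A.card = p) :
    Aᶜ.card = q := by
  rw [Finset.card_compl, hA, Fintype.card_fin]; omega

/-- One term of the shuffle product of two alternating maps. -/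
noncomputable def shTerm {N p q : ℕ} (hN : p + q = N) (D₁ : V [⋀^Fin p]→ₗ[K] K)
    (D₂ : V [⋀^Fin q]→ₗ[K] K) (v : Fin N → V) (A : Finset (Fin N)) : K :=
  if hA : A.card = p then
    (-1) ^ (∑ a ∈ A, a.val) * D₁ (v ∘ A.orderEmbOfFin hA) *
      D₂ (v ∘ Aᶜ.orderEmbOfFin (card_compl_of hN A hA))
  else 0

noncomputable def shSum {N p q : ℕ} (hN : p + q = N) (D₁ : V [⋀^Fin p]→ₗ[K] K)
    (D₂ : V [⋀^Fin q]→ₗ[K] K) (v : Fin N → V) : K :=
  ∑ A : Finset (Fin N), shTerm hN D₁ D₂ v A

/-- Swapping two adjacent elements is increasing on pairs other than the swapped pair. -/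
theorem swap_adj_lt {N : ℕ} (k : ℕ) (hk : k + 1 < N) (u w : Fin N) (huw : u < w)
    (hne : ¬ (u = ⟨k, by omega⟩ ∧ w = ⟨k + 1, hk⟩)) :
    Equiv.swap (⟨k, by omega⟩ : Fin N) ⟨k + 1, hk⟩ u < Equiv.swap (⟨k, by omega⟩ : Fin N) ⟨k + 1, hk⟩ w := by
  rw [Equiv.swap_apply_def, Equiv.swap_apply_def]
  rw [Fin.lt_def] at huw
  split_ifs with h1 h2 h3 h4 h5 h6 h7 h8 <;>
    simp only [Fin.ext_iff, Fin.lt_def, not_and] at * <;> omega

theorem orderEmb_image_swap {N p : ℕ} (k : ℕ) (hk : k + 1 < N) (A : Finset (Fin N)) (hA : A.card = p)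
    (hex : ¬ ((⟨k, by omega⟩ : Fin N) ∈ A ∧ (⟨k + 1, hk⟩ : Fin N) ∈ A))
    (hA' : (A.image (Equiv.swap (⟨k, by omega⟩ : Fin N) ⟨k + 1, hk⟩)).card = p) :
    ((A.image (Equiv.swap (⟨k, by omega⟩ : Fin N) ⟨k + 1, hk⟩)).orderEmbOfFin hA' : Fin p → Fin N)
      = Equiv.swap (⟨k, by omega⟩ : Fin N) ⟨k + 1, hk⟩ ∘ A.orderEmbOfFin hA := by
  symm
  apply Finset.orderEmbOfFin_unique hA'
  · intro x
    exact Finset.mem_image_of_mem _ (Finset.orderEmbOfFin_mem A hA x)
  · intro x y hxy
    apply swap_adj_lt k hk
    · exact (A.orderEmbOfFin hA).strictMono hxy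
    · intro hh
      apply hex
      rw [← hh.1, ← hh.2]
      exact ⟨Finset.orderEmbOfFin_mem A hA x, Finset.orderEmbOfFin_mem A hA y⟩

theorem orderEmbOfFin_congr {α : Type*} [LinearOrder α] {k : ℕ} {s t : Finset α} (h : s = t)
    (hs : s.card = k) (ht : t.card = k) : s.orderEmbOfFin hs = t.orderEmbOfFin ht := by
  subst h; rfl

theorem card_image_swap {N : ℕ} (a b : Fin N) (A : Finset (Fin N)) :
    (A.image (Equiv.swap a b)).card = A.card :=
  Finset.card_image_of_injective _ (Equiv.swap a b).injective

theorem compl_image_swap {N : ℕ} (a b : Fin N) (A : Finset (Fin N)) :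
    (A.image (Equiv.swap a b))ᶜ = Aᶜ.image (Equiv.swap a b) := by
  ext x
  simp only [Finset.mem_compl, Finset.mem_image, not_exists, not_and]
  constructor
  · intro h
    refine ⟨Equiv.swap a b x, ?_, Equiv.swap_apply_self a b x⟩
    intro hx
    exact h _ hx (Equiv.swap_apply_self a b x)
  · rintro ⟨y, hy, rfl⟩ z hz hzy
    have := (Equiv.swap a b).injective hzy
    exact hy (this ▸ hz)

theorem image_swap_image_swap {N : ℕ} (a b : Fin N) (A : Finset (Fin N)) :
    (A.image (Equiv.swap a b)).image (Equiv.swap a b) = A := by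
  rw [Finset.image_image]
  have : (Equiv.swap a b : Fin N → Fin N) ∘ (Equiv.swap a b) = id := by
    funext x; simp
  rw [this, Finset.image_id]

theorem mem_image_swap_iff {N : ℕ} (a b : Fin N) (A : Finset (Fin N)) (x : Fin N) :
    x ∈ A.image (Equiv.swap a b) ↔ Equiv.swap a b x ∈ A := by
  constructor
  · intro h
    rcases Finset.mem_image.mp h with ⟨y, hy, rfl⟩
    rwa [Equiv.swap_apply_self]
  · intro h
    exact Finset.mem_image.mpr ⟨_, h, Equiv.swap_apply_self a b x⟩

/-- The sign flips under an adjacent swap moving `k` to `k+1`. -/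
theorem sign_image_swap {N : ℕ} (k : ℕ) (hk : k + 1 < N) (A : Finset (Fin N))
    (ha : (⟨k, by omega⟩ : Fin N) ∈ A) (hb : (⟨k + 1, hk⟩ : Fin N) ∉ A) :
    ((-1 : K)) ^ (∑ x ∈ A.image (Equiv.swap (⟨k, by omega⟩ : Fin N) ⟨k + 1, hk⟩), x.val)
      = - (-1 : K) ^ (∑ x ∈ A, x.val) := by
  set a : Fin N := ⟨k, by omega⟩ with had
  set b : Fin N := ⟨k + 1, hk⟩ with hbd
  rw [Finset.sum_image (fun x _ y _ h => (Equiv.swap a b).injective h)]
  rw [← Finset.insert_erase ha]
  rw [Finset.sum_insert (Finset.notMem_erase a A), Finset.sum_insert (Finset.notMem_erase a A)]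
  have h1 : ∑ x ∈ A.erase a, (Equiv.swap a b x).val = ∑ x ∈ A.erase a, x.val := by
    apply Finset.sum_congr rfl
    intro x hx
    rw [Finset.mem_erase] at hx
    rw [Equiv.swap_apply_of_ne_of_ne hx.1]
    intro hxb; exact hb (hxb ▸ hx.2)
  rw [h1, Equiv.swap_apply_left]
  have : b.val + ∑ x ∈ A.erase a, x.val = (a.val + ∑ x ∈ A.erase a, x.val) + 1 := by
    simp only [had, hbd]; omega
  rw [this, pow_succ, mul_neg_one]

variable {N p q : ℕ} (hN : p + q = N) (D₁ : V [⋀^Fin p]→ₗ[K] K) (D₂ : V [⋀^Fin q]→ₗ[K] K)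

theorem shTerm_swap_of_mem (v : Fin N → V) (k : ℕ) (hk : k + 1 < N)
    (hv : v ⟨k, by omega⟩ = v ⟨k + 1, hk⟩) (A : Finset (Fin N))
    (ha : (⟨k, by omega⟩ : Fin N) ∈ A) (hb : (⟨k + 1, hk⟩ : Fin N) ∉ A) :
    shTerm hN D₁ D₂ v A +
      shTerm hN D₁ D₂ v (A.image (Equiv.swap (⟨k, by omega⟩ : Fin N) ⟨k + 1, hk⟩)) = 0 := by
  set a : Fin N := ⟨k, by omega⟩ with had
  set b : Fin N := ⟨k + 1, hk⟩ with hbd
  have hvsw : v ∘ Equiv.swap a b = v := by
    funext x
    simp only [Function.comp_apply]
    rw [Equiv.swap_apply_def]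
    split_ifs with h1 h2
    · rw [h1]; exact hv.symm
    · rw [h2]; exact hv
    · rfl
  unfold shTerm
  by_cases hA : A.card = p
  · have hA' : (A.image (Equiv.swap a b)).card = p := by rw [card_image_swap]; exact hA
    rw [dif_pos hA, dif_pos hA']
    have e1 : v ∘ ((A.image (Equiv.swap a b)).orderEmbOfFin hA' : Fin p → Fin N)
        = v ∘ (A.orderEmbOfFin hA : Fin p → Fin N) := by
      rw [orderEmb_image_swap k hk A hA (fun h => hb h.2) hA', ← Function.comp_assoc, hvsw]
    have hC : Aᶜ.card = q := card_compl_of hN A hA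
    have hC' : (Aᶜ.image (Equiv.swap a b)).card = q := by rw [card_image_swap]; exact hC
    have e2 : v ∘ (((A.image (Equiv.swap a b))ᶜ).orderEmbOfFin
          (card_compl_of hN _ hA') : Fin q → Fin N)
        = v ∘ (Aᶜ.orderEmbOfFin hC : Fin q → Fin N) := by
      have : (((A.image (Equiv.swap a b))ᶜ).orderEmbOfFin (card_compl_of hN _ hA') : Fin q → Fin N)
          = ((Aᶜ.image (Equiv.swap a b)).orderEmbOfFin hC' : Fin q → Fin N) := by
        exact congrArg _ (orderEmbOfFin_congr (compl_image_swap a b A) _ _)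
      rw [this, orderEmb_image_swap k hk Aᶜ hC
        (fun h => (Finset.mem_compl.mp h.1) ha) hC', ← Function.comp_assoc, hvsw]
    rw [e1, e2, sign_image_swap k hk A ha hb]
    ring
  · have hA' : ¬ (A.image (Equiv.swap a b)).card = p := by rw [card_image_swap]; exact hA
    rw [dif_neg hA, dif_neg hA', add_zero]

theorem shTerm_eq_zero_of_both (v : Fin N → V) (a b : Fin N) (hab : a ≠ b) (hv : v a = v b)
    (A : Finset (Fin N)) (h : (a ∈ A ∧ b ∈ A) ∨ (a ∉ A ∧ b ∉ A)) :
    shTerm hN D₁ D₂ v A = 0 := by
  unfold shTerm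
  by_cases hA : A.card = p
  · rw [dif_pos hA]
    rcases h with ⟨ha, hb⟩ | ⟨ha, hb⟩
    · have hra : a ∈ Set.range (A.orderEmbOfFin hA) := by
        rw [Finset.range_orderEmbOfFin]; exact ha
      have hrb : b ∈ Set.range (A.orderEmbOfFin hA) := by
        rw [Finset.range_orderEmbOfFin]; exact hb
      obtain ⟨x, hx⟩ := hra
      obtain ⟨y, hy⟩ := hrb
      have hxy : x ≠ y := by
        intro h; apply hab; rw [← hx, ← hy, h]
      have : D₁ (v ∘ A.orderEmbOfFin hA) = 0 := by
        apply D₁.map_eq_zero_of_eq _ _ hxy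
        simp only [Function.comp_apply, hx, hy, hv]
      rw [this, mul_zero, zero_mul]
    · have hra : a ∈ Set.range (Aᶜ.orderEmbOfFin (card_compl_of hN A hA)) := by
        rw [Finset.range_orderEmbOfFin]; exact Finset.mem_coe.mpr (Finset.mem_compl.mpr ha)
      have hrb : b ∈ Set.range (Aᶜ.orderEmbOfFin (card_compl_of hN A hA)) := by
        rw [Finset.range_orderEmbOfFin]; exact Finset.mem_coe.mpr (Finset.mem_compl.mpr hb)
      obtain ⟨x, hx⟩ := hra
      obtain ⟨y, hy⟩ := hrb
      have hxy : x ≠ y := by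
        intro h; apply hab; rw [← hx, ← hy, h]
      have : D₂ (v ∘ Aᶜ.orderEmbOfFin (card_compl_of hN A hA)) = 0 := by
        apply D₂.map_eq_zero_of_eq _ _ hxy
        simp only [Function.comp_apply, hx, hy, hv]
      rw [this, mul_zero]
  · rw [dif_neg hA]

theorem shSum_adj (v : Fin N → V) (k : ℕ) (hk : k + 1 < N)
    (hv : v ⟨k, by omega⟩ = v ⟨k + 1, hk⟩) : shSum hN D₁ D₂ v = 0 := by
  set a : Fin N := ⟨k, by omega⟩ with had
  set b : Fin N := ⟨k + 1, hk⟩ with hbd
  have hab : a ≠ b := by
    intro h; rw [had, hbd, Fin.mk.injEq] at h; omega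
  unfold shSum
  classical
  let g : Finset (Fin N) → Finset (Fin N) := fun A =>
    if (a ∈ A ↔ b ∈ A) then A else A.image (Equiv.swap a b)
  have hg_iff : ∀ A, ((a ∈ g A ↔ b ∈ g A) ↔ (a ∈ A ↔ b ∈ A)) := by
    intro A
    simp only [g]
    split_ifs with h
    · exact Iff.rfl
    · rw [mem_image_swap_iff, mem_image_swap_iff, Equiv.swap_apply_left, Equiv.swap_apply_right]
      tauto
  apply Finset.sum_involution (fun A _ => g A)
  · intro A _
    simp only [g]
    split_ifs with h
    · have : shTerm hN D₁ D₂ v A = 0 := by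
        apply shTerm_eq_zero_of_both hN D₁ D₂ v a b hab hv
        tauto
      rw [this, add_zero]
    · by_cases ha : a ∈ A
      · have hb : b ∉ A := by tauto
        exact shTerm_swap_of_mem hN D₁ D₂ v k hk hv A ha hb
      · have hb : b ∈ A := by tauto
        have ha' : a ∈ A.image (Equiv.swap a b) := by
          rw [mem_image_swap_iff, Equiv.swap_apply_left]; exact hb
        have hb' : b ∉ A.image (Equiv.swap a b) := by
          rw [mem_image_swap_iff, Equiv.swap_apply_right]; exact ha
        have := shTerm_swap_of_mem hN D₁ D₂ v k hk hv _ ha' hb'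
        rw [image_swap_image_swap] at this
        rw [add_comm]; exact this
  · intro A _ hne hgA
    apply hne
    simp only [g] at hgA
    split_ifs at hgA with h
    · apply shTerm_eq_zero_of_both hN D₁ D₂ v a b hab hv
      tauto
    · exfalso
      apply h
      conv_lhs => rw [← hgA]
      rw [mem_image_swap_iff, Equiv.swap_apply_left]
  · intro A _; exact Finset.mem_univ _
  · intro A _
    have h1 := hg_iff A
    simp only [g] at h1 ⊢
    by_cases h : (a ∈ A ↔ b ∈ A)
    · rw [if_pos h, if_pos h]
    · rw [if_neg h] at h1 ⊢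
      rw [if_neg (fun hh => h (h1.mp hh)), image_swap_image_swap]

theorem shTerm_update_add (v : Fin N → V) (k : Fin N) (x y : V) (A : Finset (Fin N)) :
    shTerm hN D₁ D₂ (Function.update v k (x + y)) A =
      shTerm hN D₁ D₂ (Function.update v k x) A + shTerm hN D₁ D₂ (Function.update v k y) A := by
  unfold shTerm
  by_cases hA : A.card = p
  · simp only [dif_pos hA]
    by_cases hk : k ∈ A
    · have hr : k ∈ Set.range (A.orderEmbOfFin hA) := by
        rw [Finset.range_orderEmbOfFin]; exact hk
      obtain ⟨t, ht⟩ := hr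
      have hc : ∀ z, Function.update v k z ∘ (A.orderEmbOfFin hA)
          = Function.update (v ∘ (A.orderEmbOfFin hA)) t z := by
        intro z
        rw [← ht]
        exact Function.update_comp_eq_of_injective v (A.orderEmbOfFin hA).injective t z
      have hc' : ∀ z, Function.update v k z ∘ (Aᶜ.orderEmbOfFin (card_compl_of hN A hA))
          = v ∘ (Aᶜ.orderEmbOfFin (card_compl_of hN A hA)) := by
        intro z
        apply Function.update_comp_eq_of_forall_ne
        intro s hs
        have := Finset.orderEmbOfFin_mem Aᶜ (card_compl_of hN A hA) s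
        rw [hs] at this
        exact (Finset.mem_compl.mp this) hk
      rw [hc, hc, hc, hc', hc', hc', D₁.map_update_add]
      ring
    · have hr : k ∈ Set.range (Aᶜ.orderEmbOfFin (card_compl_of hN A hA)) := by
        rw [Finset.range_orderEmbOfFin]; exact Finset.mem_coe.mpr (Finset.mem_compl.mpr hk)
      obtain ⟨t, ht⟩ := hr
      have hc : ∀ z, Function.update v k z ∘ (Aᶜ.orderEmbOfFin (card_compl_of hN A hA))
          = Function.update (v ∘ (Aᶜ.orderEmbOfFin (card_compl_of hN A hA))) t z := by
        intro z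
        rw [← ht]
        exact Function.update_comp_eq_of_injective v
          (Aᶜ.orderEmbOfFin (card_compl_of hN A hA)).injective t z
      have hc' : ∀ z, Function.update v k z ∘ (A.orderEmbOfFin hA)
          = v ∘ (A.orderEmbOfFin hA) := by
        intro z
        apply Function.update_comp_eq_of_forall_ne
        intro s hs
        have := Finset.orderEmbOfFin_mem A hA s
        rw [hs] at this
        exact hk this
      rw [hc, hc, hc, hc', hc', hc', D₂.map_update_add]
      ring
  · simp only [dif_neg hA, add_zero]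

theorem shTerm_update_smul (v : Fin N → V) (k : Fin N) (c : K) (x : V) (A : Finset (Fin N)) :
    shTerm hN D₁ D₂ (Function.update v k (c • x)) A =
      c • shTerm hN D₁ D₂ (Function.update v k x) A := by
  unfold shTerm
  by_cases hA : A.card = p
  · simp only [dif_pos hA]
    by_cases hk : k ∈ A
    · have hr : k ∈ Set.range (A.orderEmbOfFin hA) := by
        rw [Finset.range_orderEmbOfFin]; exact hk
      obtain ⟨t, ht⟩ := hr
      have hc : ∀ z, Function.update v k z ∘ (A.orderEmbOfFin hA)
          = Function.update (v ∘ (A.orderEmbOfFin hA)) t z := by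
        intro z
        rw [← ht]
        exact Function.update_comp_eq_of_injective v (A.orderEmbOfFin hA).injective t z
      have hc' : ∀ z, Function.update v k z ∘ (Aᶜ.orderEmbOfFin (card_compl_of hN A hA))
          = v ∘ (Aᶜ.orderEmbOfFin (card_compl_of hN A hA)) := by
        intro z
        apply Function.update_comp_eq_of_forall_ne
        intro s hs
        have := Finset.orderEmbOfFin_mem Aᶜ (card_compl_of hN A hA) s
        rw [hs] at this
        exact (Finset.mem_compl.mp this) hk
      rw [hc, hc, hc', hc', D₁.map_update_smul, smul_eq_mul, smul_eq_mul]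
      ring
    · have hr : k ∈ Set.range (Aᶜ.orderEmbOfFin (card_compl_of hN A hA)) := by
        rw [Finset.range_orderEmbOfFin]; exact Finset.mem_coe.mpr (Finset.mem_compl.mpr hk)
      obtain ⟨t, ht⟩ := hr
      have hc : ∀ z, Function.update v k z ∘ (Aᶜ.orderEmbOfFin (card_compl_of hN A hA))
          = Function.update (v ∘ (Aᶜ.orderEmbOfFin (card_compl_of hN A hA))) t z := by
        intro z
        rw [← ht]
        exact Function.update_comp_eq_of_injective v
          (Aᶜ.orderEmbOfFin (card_compl_of hN A hA)).injective t z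
      have hc' : ∀ z, Function.update v k z ∘ (A.orderEmbOfFin hA)
          = v ∘ (A.orderEmbOfFin hA) := by
        intro z
        apply Function.update_comp_eq_of_forall_ne
        intro s hs
        have := Finset.orderEmbOfFin_mem A hA s
        rw [hs] at this
        exact hk this
      rw [hc, hc, hc', hc', D₂.map_update_smul, smul_eq_mul, smul_eq_mul]
      ring
  · simp only [dif_neg hA, smul_zero]

/-- The shuffle product as a multilinear map. -/
noncomputable def shMulti : MultilinearMap K (fun _ : Fin N => V) K where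
  toFun := shSum hN D₁ D₂
  map_update_add' := by
    intro inst v k x y
    have hi : inst = fun a b => instDecidableEqFin N a b := Subsingleton.elim _ _
    subst hi
    unfold shSum
    rw [← Finset.sum_add_distrib]
    apply Finset.sum_congr rfl
    intro A _
    exact shTerm_update_add hN D₁ D₂ v k x y A
  map_update_smul' := by
    intro inst v k c x
    have hi : inst = fun a b => instDecidableEqFin N a b := Subsingleton.elim _ _
    subst hi
    unfold shSum
    rw [Finset.smul_sum]
    apply Finset.sum_congr rfl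
    intro A _
    exact shTerm_update_smul hN D₁ D₂ v k c x A

/-- The shuffle product as an alternating map. -/
noncomputable def shAlt : V [⋀^Fin N]→ₗ[K] K :=
  { shMulti hN D₁ D₂ with
    map_eq_zero_of_eq' := by
      intro v i j hv hij
      exact alt_of_adj (shMulti hN D₁ D₂)
        (fun v k hk h => shSum_adj hN D₁ D₂ v k hk h) v i j hv hij }

theorem shAlt_apply (v : Fin N → V) : shAlt hN D₁ D₂ v = shSum hN D₁ D₂ v := rfl

end Shuffle

/-- The shuffle product of alternating forms in more than `d` vectors of `K^d` vanishes. -/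
theorem shSum_eq_zero {K : Type*} [CommRing K] {d N p q : ℕ} (hN : p + q = N) (hd : d < N)
    (D₁ : (Fin d → K) [⋀^Fin p]→ₗ[K] K) (D₂ : (Fin d → K) [⋀^Fin q]→ₗ[K] K)
    (v : Fin N → (Fin d → K)) : shSum hN D₁ D₂ v = 0 := by
  have h0 : shAlt hN D₁ D₂ = 0 := by
    apply Module.Basis.ext_alternating (Pi.basisFun K (Fin d))
    intro w hw
    exfalso
    have := Fintype.card_le_of_injective w hw
    simp only [Fintype.card_fin] at this
    omega
  rw [← shAlt_apply, h0]
  rfl

end Groth.Agent.Lib.Helper8.Gr
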