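import Mathlib
import Groth.Prelude.Def_W4bk4grassmannianPl
import Groth.Agent.Lib.Helper8.Gr1
import Groth.Agent.Lib.Helper8.Gr2
set_option backward.isDefEq.respectTransparency.types false
set_option linter.unusedSectionVars false
set_option autoImplicit false
universe u

namespace Groth.Agent.Lib.Helper8.Gr
open W4bk4grassmannian MvPolynomial

section DetExt

theorem extend_update {α β γ : Type*} [DecidableEq α] [DecidableEq β] (e : α → β)
    (he : Function.Injective e) (u : α → γ) (fixed : β → γ) (s : α) (z : γ) :
    Function.extend e (Function.update u s z) fixed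
      = Function.update (Function.extend e u fixed) (e s) z := by
  funext t
  by_cases ht : ∃ s', e s' = t
  · obtain ⟨s', rfl⟩ := ht
    rw [he.extend_apply]
    by_cases hs : s' = s
    · subst hs
      rw [Function.update_self, Function.update_self]
    · rw [Function.update_of_ne hs, Function.update_of_ne (fun h => hs (he h)), he.extend_apply]
  · rw [Function.extend_apply' _ _ _ ht]
    have hne : t ≠ e s := fun h => ht ⟨s, h.symm⟩
    rw [Function.update_of_ne hne, Function.extend_apply' _ _ _ ht]

variable {R : Type*} [CommRing R] {d p : ℕ}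

/-- The determinant with the rows in the image of `e` variable and the others fixed, as an
alternating map. -/
noncomputable def detExt (e : Fin p → Fin d) (he : Function.Injective e)
    (fixed : Fin d → Fin d → R) : (Fin d → R) [⋀^Fin p]→ₗ[R] R where
  toFun u := Matrix.det (Matrix.of (Function.extend e u fixed))
  map_update_add' := by
    intro inst u s x y
    have hi : inst = fun a b => instDecidableEqFin p a b := Subsingleton.elim _ _
    subst hi
    rw [extend_update e he, extend_update e he, extend_update e he]
    exact Matrix.det_updateRow_add (Matrix.of (Function.extend e u fixed)) (e s) x y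
  map_update_smul' := by
    intro inst u s c x
    have hi : inst = fun a b => instDecidableEqFin p a b := Subsingleton.elim _ _
    subst hi
    rw [extend_update e he, extend_update e he]
    exact Matrix.det_updateRow_smul (Matrix.of (Function.extend e u fixed)) (e s) c x
  map_eq_zero_of_eq' := by
    intro u s s' hu hss
    apply Matrix.det_zero_of_row_eq (he.ne hss)
    change Function.extend e u fixed (e s) = Function.extend e u fixed (e s')
    rw [he.extend_apply, he.extend_apply, hu]

theorem detExt_apply (e : Fin p → Fin d) (he : Function.Injective e)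
    (fixed : Fin d → Fin d → R) (u : Fin p → Fin d → R) :
    detExt e he fixed u = Matrix.det (Matrix.of (Function.extend e u fixed)) := rfl

end DetExt

theorem le_val_of_strictMono {p N : ℕ} (f : Fin p → Fin N) (hf : StrictMono f) :
    ∀ (m : ℕ) (t : Fin p), t.val = m → m ≤ (f t).val := by
  intro m
  induction m with
  | zero => intro t _; exact Nat.zero_le _
  | succ m ih =>
    intro t ht
    have hm : m < p := by have := t.isLt; omega
    have h1 := ih ⟨m, hm⟩ rfl
    have h2 : f ⟨m, hm⟩ < f t := hf (by rw [Fin.lt_def]; simp; omega)
    rw [Fin.lt_def] at h2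
    omega

theorem sum_val_ge {N p : ℕ} (S : Finset (Fin N)) (hS : S.card = p) :
    p * (p - 1) / 2 ≤ ∑ a ∈ S, a.val := by
  have h1 : ∑ a ∈ S, a.val = ∑ t : Fin p, (S.orderEmbOfFin hS t).val := by
    conv_lhs => rw [← Finset.image_orderEmbOfFin_univ S hS]
    rw [Finset.sum_image]
    intro x _ y _ h
    exact (S.orderEmbOfFin hS).injective h
  rw [h1]
  have h2 : ∑ t : Fin p, t.val ≤ ∑ t : Fin p, (S.orderEmbOfFin hS t).val := by
    apply Finset.sum_le_sum
    intro t _
    exact le_val_of_strictMono _ (S.orderEmbOfFin hS).strictMono t.val t rfl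
  have h3 : ∑ t : Fin p, t.val = p * (p - 1) / 2 := by
    rw [Fin.sum_univ_eq_sum_range (fun i => i) p, Finset.sum_range_id]
  rw [h3] at h2
  exact h2

variable {K : Type u} [CommRing K] {d n : ℕ}

theorem evalR_shuffleRel {R : Type*} [CommRing R] [Algebra K R] (A : Matrix (Fin n) (Fin d) R)
    (i j : Idx d n) (r : Fin d) : evalR (K := K) A (shuffleRel K i j r) = 0 := by
  have hr := r.isLt
  have hN : (r.val + 1) + (d - r.val) = d + 1 := by omega
  let v : Fin (d + 1) → (Fin d → R) := fun k => A (movingRows i j r k)
  let e₁ : Fin (r.val + 1) → Fin d := fun s => ⟨s.val, by have := s.isLt; omega⟩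
  have he₁ : Function.Injective e₁ := by
    intro x y h
    simp only [e₁, Fin.mk.injEq] at h
    exact Fin.ext h
  let e₂ : Fin (d - r.val) → Fin d := fun s => ⟨r.val + s.val, by have := s.isLt; omega⟩
  have he₂ : Function.Injective e₂ := by
    intro x y h
    simp only [e₂, Fin.mk.injEq] at h
    apply Fin.ext; omega
  let D₁ := detExt e₁ he₁ (fun t => A (i.1 t))
  let D₂ := detExt e₂ he₂ (fun t => A (j.1 t))
  have key : ∀ S : Finset (Fin (d + 1)), evalR (K := K) A (shuffleTerm K i j r S)
      = (-1) ^ (r.val * (r.val + 1) / 2) * shTerm hN D₁ D₂ v S := by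
    intro S
    unfold shuffleTerm shTerm
    by_cases hS : S.card = r.val + 1
    · rw [dif_pos hS, dif_pos hS]
      simp only [map_mul, map_pow, map_neg, map_one, evalR_coord]
      have hsign : ((-1 : R)) ^ shuffleSign r S
          = (-1) ^ (r.val * (r.val + 1) / 2) * (-1) ^ (∑ a ∈ S, a.val) := by
        unfold shuffleSign
        have hge := sum_val_ge S hS
        have hc : (r.val + 1) * (r.val + 1 - 1) / 2 = r.val * (r.val + 1) / 2 := by
          rw [Nat.add_sub_cancel, mul_comm]
        rw [hc] at hge
        have h2 : ((-1 : R)) ^ (∑ a ∈ S, a.val)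
            = (-1) ^ ((∑ a ∈ S, a.val) - r.val * (r.val + 1) / 2) * (-1) ^ (r.val * (r.val + 1) / 2) := by
          rw [← pow_add, Nat.sub_add_cancel hge]
        rw [h2]
        have h3 : ((-1 : R)) ^ (r.val * (r.val + 1) / 2) * (-1) ^ (r.val * (r.val + 1) / 2) = 1 := by
          rw [← mul_pow]; simp
        generalize ((-1 : R)) ^ ((∑ a ∈ S, a.val) - r.val * (r.val + 1) / 2) = x at *
        generalize ((-1 : R)) ^ (r.val * (r.val + 1) / 2) = y at *
        calc x = x * (y * y) := by rw [h3, mul_one]
          _ = y * (x * y) := by ring
      have hI : (A.submatrix (shuffleI i j r S hS) id).det = D₁ (v ∘ S.orderEmbOfFin hS) := by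
        rw [detExt_apply]
        congr 1
        ext t c
        simp only [Matrix.submatrix_apply, id_eq, Matrix.of_apply]
        by_cases ht : t.val ≤ r.val
        · have hte : t = e₁ ⟨t.val, by omega⟩ := rfl
          conv_rhs => rw [hte, he₁.extend_apply]
          simp only [shuffleI, dif_pos ht, Function.comp_apply, v]
        · have hno : ¬ ∃ s, e₁ s = t := by
            rintro ⟨s, hs⟩
            apply ht
            have := s.isLt
            rw [← hs]; simp only [e₁]; omega
          rw [Function.extend_apply' _ _ _ hno]
          simp only [shuffleI, dif_neg ht]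
      have hJ : (A.submatrix (shuffleJ i j r S hS) id).det
          = D₂ (v ∘ Sᶜ.orderEmbOfFin (card_compl_of hN S hS)) := by
        rw [detExt_apply]
        congr 1
        ext t c
        simp only [Matrix.submatrix_apply, id_eq, Matrix.of_apply]
        by_cases ht : t.val < r.val
        · have hno : ¬ ∃ s, e₂ s = t := by
            rintro ⟨s, hs⟩
            rw [← hs] at ht; simp only [e₂] at ht; omega
          rw [Function.extend_apply' _ _ _ hno]
          simp only [shuffleJ, dif_pos ht]
        · have hte : t = e₂ ⟨t.val - r.val, by have := t.isLt; omega⟩ := by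
            apply Fin.ext; simp only [e₂]; omega
          conv_rhs => rw [hte, he₂.extend_apply]
          simp only [shuffleJ, dif_neg ht, Function.comp_apply, v]
      rw [hsign, hI, hJ]
      ring
    · rw [dif_neg hS, dif_neg hS, map_zero, mul_zero]
  unfold shuffleRel
  rw [map_sum, Finset.sum_congr rfl (fun S _ => key S), ← Finset.mul_sum]
  have := shSum_eq_zero hN (by omega : d < d + 1) D₁ D₂ v
  unfold shSum at this
  rw [this, mul_zero]

theorem evalMinors_shuffleRel (A : Matrix (Fin n) (Fin d) K) (i j : Idx d n) (r : Fin d) :
    evalMinors K d n A (shuffleRel K i j r) = 0 := evalR_shuffleRel A i j r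

theorem pluckerMap_shuffleRel (i j : Idx d n) (r : Fin d) :
    pluckerMap K d n (shuffleRel K i j r) = 0 := evalR_shuffleRel (genMat K d n) i j r

end Groth.Agent.Lib.Helper8.Gr
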