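import Mathlib
import Groth.Prelude.Def_W4bk4grassmannianPl
import Groth.Agent.Lib.Helper8.Gr1
import Groth.Agent.Lib.Helper8.Gr3
set_option backward.isDefEq.respectTransparency.types false
set_option linter.unusedSectionVars false
set_option autoImplicit false
universe u

namespace Groth.Agent.Lib.Helper8.Gr
open W4bk4grassmannian MvPolynomial

variable {K : Type u} [CommRing K] {d n : ℕ}

/-- Sum of the entries of an index. -/
def key (a : Idx d n) : ℕ := ∑ t, (a.1 t).val

theorem key_mono {a b : Idx d n} (h : a ≤ b) : key a ≤ key b := by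
  unfold key
  apply Finset.sum_le_sum
  intro t _
  exact h t

theorem key_lt {a b : Idx d n} (h : a ≤ b) (hne : a ≠ b) : key a < key b := by
  unfold key
  apply Finset.sum_lt_sum
  · intro t _; exact h t
  · by_contra hcon
    push Not at hcon
    apply hne
    apply Subtype.ext
    funext t
    exact le_antisymm (h t) (Fin.le_def.mpr (hcon t (Finset.mem_univ t)))

theorem eq_of_le_of_key_le {a b : Idx d n} (h : a ≤ b) (hk : key b ≤ key a) : a = b := by
  by_contra hne
  exact absurd (key_lt h hne) (not_lt.mpr hk)

theorem key_le (a : Idx d n) : key a ≤ d * n := by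
  unfold key
  calc ∑ t, (a.1 t).val ≤ ∑ _t : Fin d, n := by
        apply Finset.sum_le_sum; intro t _; exact (a.1 t).isLt.le
    _ = d * n := by simp

theorem sum_split {M : Type*} [AddCommMonoid M] {a b N : ℕ} (h : a + b = N) (H : Fin N → M) :
    ∑ k, H k = ∑ s : Fin a, H ⟨s.val, by have := s.isLt; omega⟩
      + ∑ s : Fin b, H ⟨a + s.val, by have := s.isLt; omega⟩ := by
  subst h
  rw [Fin.sum_univ_add]
  rfl

section Moving

variable (i j : Idx d n) (r : Fin d)

theorem movingRows_le (k : Fin (d + 1)) (h : k.val ≤ r.val) :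
    movingRows i j r k = i.1 ⟨k.val, lt_of_le_of_lt h r.isLt⟩ := by
  unfold movingRows
  rw [dif_pos h]

theorem movingRows_gt (k : Fin (d + 1)) (h : ¬ k.val ≤ r.val) :
    movingRows i j r k = j.1 ⟨k.val - 1, by have := k.isLt; omega⟩ := by
  unfold movingRows
  rw [dif_neg h]

theorem movingRows_strictMono (hp : IsPivot i j r) : StrictMono (movingRows i j r) := by
  intro k k' hkk
  rw [Fin.lt_def] at hkk
  by_cases h1 : k'.val ≤ r.val
  · have h0 : k.val ≤ r.val := by omega
    rw [movingRows_le i j r k h0, movingRows_le i j r k' h1]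
    apply i.2
    rw [Fin.lt_def]; exact hkk
  · rw [movingRows_gt i j r k' h1]
    by_cases h0 : k.val ≤ r.val
    · rw [movingRows_le i j r k h0]
      have e1 : i.1 ⟨k.val, lt_of_le_of_lt h0 r.isLt⟩ ≤ i.1 r := by
        apply i.2.monotone
        rw [Fin.le_def]; exact h0
      have e2 : j.1 r ≤ j.1 ⟨k'.val - 1, by have := k'.isLt; omega⟩ := by
        apply j.2.monotone
        rw [Fin.le_def]; simp only; omega
      exact lt_of_le_of_lt e1 (lt_of_lt_of_le hp.2 e2)
    · rw [movingRows_gt i j r k h0]
      apply j.2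
      rw [Fin.lt_def]; simp only; omega

/-- The low embedding `Fin (r+1) → Fin (d+1)`. -/
def lowEmb : Fin (r.val + 1) → Fin (d + 1) := fun s => ⟨s.val, by have := s.isLt; have := r.isLt; omega⟩

/-- The high embedding `Fin (d-r) → Fin (d+1)`. -/
def highEmb : Fin (d - r.val) → Fin (d + 1) := fun s => ⟨r.val + 1 + s.val, by have := s.isLt; have := r.isLt; omega⟩

theorem lowEmb_strictMono : StrictMono (lowEmb (d := d) r) := by
  intro x y h
  rw [Fin.lt_def] at h ⊢
  exact h

theorem highEmb_strictMono : StrictMono (highEmb (d := d) r) := by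
  intro x y h
  rw [Fin.lt_def] at h ⊢
  simp only [highEmb]; omega

/-- The identity shuffle. -/
def S0 : Finset (Fin (d + 1)) := Finset.univ.image (lowEmb r)

theorem card_S0 : (S0 (d := d) r).card = r.val + 1 := by
  unfold S0
  rw [Finset.card_image_of_injective _ (lowEmb_strictMono r).injective, Finset.card_univ,
    Fintype.card_fin]

theorem mem_S0 (k : Fin (d + 1)) : k ∈ S0 (d := d) r ↔ k.val ≤ r.val := by
  unfold S0
  rw [Finset.mem_image]
  constructor
  · rintro ⟨s, _, rfl⟩
    have := s.isLt
    simp only [lowEmb]; omega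
  · intro h
    exact ⟨⟨k.val, by omega⟩, Finset.mem_univ _, rfl⟩

theorem card_S0_compl : ((S0 (d := d) r)ᶜ).card = d - r.val := by
  have := r.isLt
  rw [Finset.card_compl, card_S0, Fintype.card_fin]; omega

theorem orderEmb_S0 (h : (S0 (d := d) r).card = r.val + 1) :
    ((S0 (d := d) r).orderEmbOfFin h : Fin (r.val + 1) → Fin (d + 1)) = lowEmb r := by
  symm
  apply Finset.orderEmbOfFin_unique h
  · intro x; exact Finset.mem_image_of_mem _ (Finset.mem_univ x)
  · exact lowEmb_strictMono r

theorem orderEmb_S0_compl (h : ((S0 (d := d) r)ᶜ).card = d - r.val) :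
    (((S0 (d := d) r)ᶜ).orderEmbOfFin h : Fin (d - r.val) → Fin (d + 1)) = highEmb r := by
  symm
  apply Finset.orderEmbOfFin_unique h
  · intro x
    rw [Finset.mem_compl, mem_S0]
    simp only [highEmb]; omega
  · exact highEmb_strictMono r

theorem shuffleI_S0 (h : (S0 (d := d) r).card = r.val + 1) :
    shuffleI i j r (S0 r) h = i.1 := by
  funext t
  unfold shuffleI
  by_cases ht : t.val ≤ r.val
  · rw [dif_pos ht, orderEmb_S0 r h, movingRows_le i j r _ ht]
    rfl
  · rw [dif_neg ht]

theorem shuffleJ_S0 (h : (S0 (d := d) r).card = r.val + 1) :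
    shuffleJ i j r (S0 r) h = j.1 := by
  funext t
  unfold shuffleJ
  by_cases ht : t.val < r.val
  · rw [dif_pos ht]
  · rw [dif_neg ht, orderEmb_S0_compl r]
    have hnot : ¬ (highEmb r ⟨t.val - r.val, by have := t.isLt; omega⟩).val ≤ r.val := by
      simp only [highEmb]; omega
    rw [movingRows_gt i j r _ hnot]
    exact congrArg j.1 (Fin.ext (by simp only [highEmb]; omega))

theorem shuffleSign_S0 : shuffleSign r (S0 (d := d) r) = 0 := by
  unfold shuffleSign S0
  rw [Finset.sum_image (fun x _ y _ h => (lowEmb_strictMono r).injective h)]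
  have : ∑ x : Fin (r.val + 1), (lowEmb (d := d) r x).val = (r.val + 1) * (r.val + 1 - 1) / 2 := by
    have h := Fin.sum_univ_eq_sum_range (fun i => i) (r.val + 1)
    simp only [lowEmb]
    rw [h, Finset.sum_range_id]
  rw [this, Nat.add_sub_cancel, mul_comm, Nat.sub_self]

theorem shuffleTerm_S0 : shuffleTerm K i j r (S0 r) = X i * X j := by
  unfold shuffleTerm
  rw [dif_pos (card_S0 r), shuffleI_S0, shuffleJ_S0, shuffleSign_S0, pow_zero, one_mul,
    coord_of_strictMono, coord_of_strictMono]

/-- Sum preservation for shuffles. -/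
theorem sum_shuffle {M : Type*} [AddCommMonoid M] (f : Fin n → M) (S : Finset (Fin (d + 1)))
    (hS : S.card = r.val + 1) :
    ∑ t, f (shuffleI i j r S hS t) + ∑ t, f (shuffleJ i j r S hS t)
      = ∑ t, f (i.1 t) + ∑ t, f (j.1 t) := by
  have hr := r.isLt
  have hN : (r.val + 1) + (d - r.val) = d + 1 := by omega
  have hC : Sᶜ.card = d - r.val := card_compl_of hN S hS
  have hI1 : (r.val + 1) + (d - r.val - 1) = d := by omega
  have hJ1 : r.val + (d - r.val) = d := by omega
  -- moving rows total
  have hm : ∑ k, f (movingRows i j r k)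
      = ∑ s : Fin (r.val + 1), f (movingRows i j r (S.orderEmbOfFin hS s))
        + ∑ s : Fin (d - r.val), f (movingRows i j r (Sᶜ.orderEmbOfFin hC s)) := by
    rw [← Finset.sum_add_sum_compl S]
    congr 1
    · conv_lhs => rw [← Finset.image_orderEmbOfFin_univ S hS]
      rw [Finset.sum_image]
      intro x _ y _ h
      exact (S.orderEmbOfFin hS).injective h
    · conv_lhs => rw [← Finset.image_orderEmbOfFin_univ Sᶜ hC]
      rw [Finset.sum_image]
      intro x _ y _ h
      exact (Sᶜ.orderEmbOfFin hC).injective h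
  have hm2 : ∑ k, f (movingRows i j r k)
      = ∑ s : Fin (r.val + 1), f (i.1 ⟨s.val, by have := s.isLt; omega⟩)
        + ∑ s : Fin (d - r.val), f (j.1 ⟨r.val + s.val, by have := s.isLt; omega⟩) := by
    rw [sum_split hN (fun k => f (movingRows i j r k))]
    congr 1
    · apply Finset.sum_congr rfl
      intro s _
      have := s.isLt
      rw [movingRows_le i j r _ (by simp only; omega)]
    · apply Finset.sum_congr rfl
      intro s _
      have := s.isLt
      rw [movingRows_gt i j r _ (by simp only; omega)]
      exact congrArg (fun x => f (j.1 x)) (Fin.ext (by simp only; omega))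
  have hI : ∑ t, f (shuffleI i j r S hS t)
      = ∑ s : Fin (r.val + 1), f (movingRows i j r (S.orderEmbOfFin hS s))
        + ∑ s : Fin (d - r.val - 1), f (i.1 ⟨r.val + 1 + s.val, by have := s.isLt; omega⟩) := by
    rw [sum_split hI1 (fun t => f (shuffleI i j r S hS t))]
    congr 1
    · apply Finset.sum_congr rfl
      intro s _
      have := s.isLt
      unfold shuffleI
      rw [dif_pos (by simp only; omega)]
    · apply Finset.sum_congr rfl
      intro s _
      unfold shuffleI
      rw [dif_neg (by simp only; omega)]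
  have hI' : ∑ t, f (i.1 t)
      = ∑ s : Fin (r.val + 1), f (i.1 ⟨s.val, by have := s.isLt; omega⟩)
        + ∑ s : Fin (d - r.val - 1), f (i.1 ⟨r.val + 1 + s.val, by have := s.isLt; omega⟩) :=
    sum_split hI1 (fun t => f (i.1 t))
  have hJ : ∑ t, f (shuffleJ i j r S hS t)
      = ∑ s : Fin r.val, f (j.1 ⟨s.val, by have := s.isLt; omega⟩)
        + ∑ s : Fin (d - r.val), f (movingRows i j r (Sᶜ.orderEmbOfFin hC s)) := by
    rw [sum_split hJ1 (fun t => f (shuffleJ i j r S hS t))]
    congr 1
    · apply Finset.sum_congr rfl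
      intro s _
      have := s.isLt
      unfold shuffleJ
      simp only
      rw [dif_pos (by omega)]
    · apply Finset.sum_congr rfl
      intro s _
      unfold shuffleJ
      simp only
      rw [dif_neg (by omega)]
      congr 3
      apply Fin.ext
      simp
  have hJ' : ∑ t, f (j.1 t)
      = ∑ s : Fin r.val, f (j.1 ⟨s.val, by have := s.isLt; omega⟩)
        + ∑ s : Fin (d - r.val), f (j.1 ⟨r.val + s.val, by have := s.isLt; omega⟩) :=
    sum_split hJ1 (fun t => f (j.1 t))
  rw [hI, hJ, hI', hJ']
  have hmm := hm.symm.trans hm2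
  calc _ = (∑ s : Fin (r.val + 1), f (movingRows i j r (S.orderEmbOfFin hS s))
        + ∑ s : Fin (d - r.val), f (movingRows i j r (Sᶜ.orderEmbOfFin hC s)))
        + (∑ s : Fin (d - r.val - 1), f (i.1 ⟨r.val + 1 + s.val, by have := s.isLt; omega⟩)
          + ∑ s : Fin r.val, f (j.1 ⟨s.val, by have := s.isLt; omega⟩)) := by abel
    _ = _ := by rw [hmm]; abel

/-- Under the pivot condition a non-identity shuffle strictly increases the entry sum of `i`. -/
theorem sum_shuffleI_gt (hp : IsPivot i j r) (S : Finset (Fin (d + 1)))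
    (hS : S.card = r.val + 1) (hne : S ≠ S0 r) :
    ∑ t, (i.1 t).val < ∑ t, (shuffleI i j r S hS t).val := by
  have hmono := movingRows_strictMono i j r hp
  have hle : ∀ s : Fin (r.val + 1), lowEmb r s ≤ S.orderEmbOfFin hS s := by
    intro s
    rw [Fin.le_def]
    exact le_val_of_strictMono _ (S.orderEmbOfFin hS).strictMono s.val s rfl
  apply Finset.sum_lt_sum
  · intro t _
    unfold shuffleI
    by_cases ht : t.val ≤ r.val
    · rw [dif_pos ht]
      have h1 := hmono.monotone (hle ⟨t.val, by omega⟩)
      rw [movingRows_le i j r _ (by simp only [lowEmb]; exact ht)] at h1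
      exact h1
    · rw [dif_neg ht]
  · by_contra hcon
    push Not at hcon
    apply hne
    have heq : (S.orderEmbOfFin hS : Fin (r.val + 1) → Fin (d + 1)) = lowEmb r := by
      funext s
      have hs := s.isLt
      have h1 := hcon ⟨s.val, by have := r.isLt; omega⟩ (Finset.mem_univ _)
      unfold shuffleI at h1
      rw [dif_pos (by simp only; omega)] at h1
      by_contra hne'
      have hlt : lowEmb r s < S.orderEmbOfFin hS s := lt_of_le_of_ne (hle s) (Ne.symm hne')
      have h2 := hmono hlt
      rw [movingRows_le i j r _ (by simp only [lowEmb]; omega)] at h2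
      exact absurd (Fin.lt_def.mp h2) (not_lt.mpr h1)
    rw [← Finset.image_orderEmbOfFin_univ S hS, heq]
    rfl

end Moving

/-- The set of degree-two monomials that are "better" than `X i * X j`. -/
def BetterSet (K : Type u) [CommRing K] (i j : Idx d n) : Set (PlRing K d n) :=
  {f | ∃ i' j' : Idx d n, key i < key i' ∧ key i' + key j' = key i + key j ∧ f = X i' * X j'}

theorem shuffleTerm_mem (i j : Idx d n) (r : Fin d) (hp : IsPivot i j r)
    (S : Finset (Fin (d + 1))) (hne : S ≠ S0 r) :
    shuffleTerm K i j r S ∈ Submodule.span K (BetterSet K i j) := by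
  unfold shuffleTerm
  by_cases hS : S.card = r.val + 1
  · rw [dif_pos hS]
    rcases coord_cases (K := K) (shuffleI i j r S hS) with h1 | ⟨i', h1, hs1⟩
    · rw [h1, mul_zero, zero_mul]; exact Submodule.zero_mem _
    rcases coord_cases (K := K) (shuffleJ i j r S hS) with h2 | ⟨j', h2, hs2⟩
    · rw [h2, mul_zero]; exact Submodule.zero_mem _
    have hmem : (X i' * X j' : PlRing K d n) ∈ Submodule.span K (BetterSet K i j) := by
      apply Submodule.subset_span
      refine ⟨i', j', ?_, ?_, rfl⟩
      · unfold key
        rw [hs1 ℕ (fun x => x.val)]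
        exact sum_shuffleI_gt i j r hp S hS hne
      · unfold key
        rw [hs1 ℕ (fun x => x.val), hs2 ℕ (fun x => x.val)]
        exact sum_shuffle i j r (fun x => x.val) S hS
    have hneg : (-(X i' * X j') : PlRing K d n) ∈ Submodule.span K (BetterSet K i j) :=
      Submodule.neg_mem _ hmem
    rcases neg_one_pow_eq_or (PlRing K d n) (shuffleSign r S) with hs | hs <;>
    rcases h1 with h1 | h1 <;> rcases h2 with h2 | h2 <;> rw [hs, h1, h2]
    · simpa using hmem
    · simpa using hneg
    · simpa using hneg
    · simpa using hmem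
    · simpa using hneg
    · simpa using hmem
    · simpa using hmem
    · simpa using hneg
  · rw [dif_neg hS]; exact Submodule.zero_mem _

theorem shuffleRel_pivot (i j : Idx d n) (r : Fin d) (hp : IsPivot i j r) :
    ∃ g ∈ Submodule.span K (BetterSet K i j), shuffleRel K i j r = X i * X j + g := by
  refine ⟨∑ S ∈ Finset.univ.erase (S0 r), shuffleTerm K i j r S, ?_, ?_⟩
  · apply Submodule.sum_mem
    intro S hS
    exact shuffleTerm_mem i j r hp S (Finset.ne_of_mem_erase hS)
  · unfold shuffleRel
    rw [← Finset.add_sum_erase _ _ (Finset.mem_univ (S0 r)), shuffleTerm_S0]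

theorem exists_pivot (i j : Idx d n) (h : ¬ j ≤ i) : ∃ r, IsPivot i j r := by
  classical
  have hne : (Finset.univ.filter fun t : Fin d => i.1 t < j.1 t).Nonempty := by
    by_contra hcon
    rw [Finset.not_nonempty_iff_eq_empty, Finset.filter_eq_empty_iff] at hcon
    apply h
    intro t
    exact not_lt.mp (hcon (Finset.mem_univ t))
  refine ⟨(Finset.univ.filter fun t : Fin d => i.1 t < j.1 t).min' hne, ?_, ?_⟩
  · intro t ht
    by_contra hcon
    have hmem : t ∈ Finset.univ.filter fun t : Fin d => i.1 t < j.1 t := by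
      rw [Finset.mem_filter]; exact ⟨Finset.mem_univ _, not_le.mp hcon⟩
    exact absurd (Finset.min'_le _ t hmem) (not_le.mpr ht)
  · have := Finset.min'_mem _ hne
    rw [Finset.mem_filter] at this
    exact this.2

end Groth.Agent.Lib.Helper8.Gr
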