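import Mathlib
import Groth.Prelude.Def_W4bk4grassmannianPl
import Groth.Agent.Lib.Helper8.Gr4
set_option backward.isDefEq.respectTransparency.types false
set_option linter.unusedSectionVars false
set_option autoImplicit false
universe u

namespace Groth.Agent.Lib.Helper8.Gr
open W4bk4grassmannian MvPolynomial

variable {K : Type u} [CommRing K] {d n : ℕ}

/-- Standard monomials of degree `m` and weight `κ`. -/
def StdSet (K : Type u) [CommRing K] {d n : ℕ} (m κ : ℕ) : Set (PlRing K d n) :=
  {f | ∃ c : Fin m → Idx d n, Antitone c ∧ ∑ k, key (c k) = κ ∧ f = chainMon K c}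

/-- The termination measure. -/
def Phi (s : Multiset (Idx d n)) : ℕ := (s.map fun a => key a ^ 2).sum

theorem Phi_cons (a : Idx d n) (s : Multiset (Idx d n)) : Phi (a ::ₘ s) = key a ^ 2 + Phi s := by
  unfold Phi
  rw [Multiset.map_cons, Multiset.sum_cons]

theorem Phi_le (s : Multiset (Idx d n)) : Phi s ≤ Multiset.card s * (d * n) ^ 2 := by
  induction s using Multiset.induction_on with
  | empty => simp [Phi]
  | cons a s ih =>
    rw [Phi_cons, Multiset.card_cons, add_mul, one_mul, add_comm]
    exact add_le_add ih (Nat.pow_le_pow_left (key_le a) 2)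

theorem list_std (l : List (Idx d n)) (hpw : l.Pairwise (fun a b => b ≤ a)) :
    (l.map (X : Idx d n → PlRing K d n)).prod ∈ StdSet K l.length (l.map key).sum := by
  refine ⟨fun k => l[k.val], ?_, ?_, ?_⟩
  · intro x y hxy
    rcases eq_or_lt_of_le hxy with h | h
    · rw [h]
    · exact (List.pairwise_iff_getElem.mp hpw) x.val y.val x.isLt y.isLt (Fin.lt_def.mp h)
  · exact Fin.sum_univ_fun_getElem l key
  · unfold chainMon
    exact (Fin.prod_univ_fun_getElem l (X : Idx d n → PlRing K d n)).symm

theorem sorted_case (s : Multiset (Idx d n)) (h : ∀ a ∈ s, ∀ b ∈ s, a ≤ b ∨ b ≤ a) :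
    (s.map (X : Idx d n → PlRing K d n)).prod ∈ StdSet K (Multiset.card s) (s.map key).sum := by
  obtain ⟨l, rfl⟩ := Quot.exists_rep s
  let r : Idx d n → Idx d n → Prop := fun a b => key b ≤ key a
  haveI : DecidableRel r := fun a b => Nat.decLe _ _
  haveI : Std.Total r := ⟨fun a b => le_total _ _⟩
  haveI : IsTrans (Idx d n) r := ⟨fun a b c hab hbc => le_trans hbc hab⟩
  have hperm := List.perm_insertionSort r l
  have hpw := List.pairwise_insertionSort r l
  have hs : (Quot.mk _ l : Multiset (Idx d n)) = ((l.insertionSort r : List (Idx d n)) : Multiset (Idx d n)) :=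
    (Multiset.coe_eq_coe.mpr hperm).symm
  rw [hs] at h ⊢
  simp only [Multiset.map_coe, Multiset.prod_coe, Multiset.sum_coe, Multiset.coe_card]
  apply list_std
  apply hpw.imp_of_mem
  intro a b ha hb hab
  rcases h a (Multiset.mem_coe.mpr ha) b (Multiset.mem_coe.mpr hb) with h1 | h1
  · rw [eq_of_le_of_key_le h1 hab]
  · exact h1

theorem sq_lemma (x y x' y' : ℕ) (h1 : x < x') (h2 : y ≤ x) (h3 : x' + y' = x + y) :
    x ^ 2 + y ^ 2 < x' ^ 2 + y' ^ 2 := by
  obtain ⟨δ, rfl⟩ := Nat.exists_eq_add_of_lt h1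
  have hy : y = y' + δ + 1 := by omega
  subst hy
  have h4 : y' + δ + 1 ≤ x := h2
  zify at h4 ⊢
  nlinarith [mul_nonneg (by positivity : (0 : ℤ) ≤ (δ : ℤ) + 1) (sub_nonneg.mpr h4)]

theorem shuffleRel_mem_plIdealTop (i j : Idx d n) (r : Fin d) (hp : IsPivot i j r) :
    shuffleRel K i j r ∈ plIdealTop (d := d) (n := n) K :=
  Ideal.subset_span ⟨i, j, r, hp, rfl⟩

theorem straighten_step (i j : Idx d n) (s' : Multiset (Idx d n)) (hji : ¬ j ≤ i)
    (hk : key j ≤ key i)
    (IH : ∀ s'' : Multiset (Idx d n), Multiset.card s'' = Multiset.card s' + 2 →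
      (s''.map key).sum = key i + key j + (s'.map key).sum →
      Phi (i ::ₘ j ::ₘ s') < Phi s'' →
      ∃ g ∈ Submodule.span K (StdSet K (Multiset.card s' + 2) (key i + key j + (s'.map key).sum)),
        (s''.map X).prod - g ∈ plIdealTop (d := d) (n := n) K) :
    ∃ g ∈ Submodule.span K (StdSet K (Multiset.card s' + 2) (key i + key j + (s'.map key).sum)),
      ((i ::ₘ j ::ₘ s').map X).prod - g ∈ plIdealTop (d := d) (n := n) K := by
  obtain ⟨r, hp⟩ := exists_pivot i j hji
  obtain ⟨g₀, hg₀, hrel⟩ := shuffleRel_pivot (K := K) i j r hp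
  set M' : PlRing K d n := (s'.map X).prod with hM'
  have hQ : ∀ g ∈ Submodule.span K (BetterSet K i j),
      ∃ G ∈ Submodule.span K (StdSet K (Multiset.card s' + 2) (key i + key j + (s'.map key).sum)),
        g * M' - G ∈ plIdealTop (d := d) (n := n) K := by
    intro g hg
    induction hg using Submodule.span_induction with
    | mem g hg =>
      obtain ⟨i', j', hlt, hsum, rfl⟩ := hg
      obtain ⟨G, hG, hGI⟩ := IH (i' ::ₘ j' ::ₘ s') (by simp) (by simp [add_assoc]; omega)
        (by
          rw [Phi_cons, Phi_cons, Phi_cons, Phi_cons]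
          have := sq_lemma (key i) (key j) (key i') (key j') hlt hk hsum
          omega)
      refine ⟨G, hG, ?_⟩
      have : (X i' * X j' : PlRing K d n) * M' = ((i' ::ₘ j' ::ₘ s').map X).prod := by
        rw [Multiset.map_cons, Multiset.prod_cons, Multiset.map_cons, Multiset.prod_cons, mul_assoc]
      rw [this]; exact hGI
    | zero => exact ⟨0, Submodule.zero_mem _, by simp⟩
    | add x y _ _ hx hy =>
      obtain ⟨G₁, hG₁, h1⟩ := hx
      obtain ⟨G₂, hG₂, h2⟩ := hy
      refine ⟨G₁ + G₂, Submodule.add_mem _ hG₁ hG₂, ?_⟩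
      have : (x + y) * M' - (G₁ + G₂) = (x * M' - G₁) + (y * M' - G₂) := by ring
      rw [this]; exact Ideal.add_mem _ h1 h2
    | smul c x _ hx =>
      obtain ⟨G, hG, h1⟩ := hx
      refine ⟨c • G, Submodule.smul_mem _ c hG, ?_⟩
      have : (c • x) * M' - c • G = C c * (x * M' - G) := by
        rw [smul_eq_C_mul, smul_eq_C_mul]; ring
      rw [this]; exact Ideal.mul_mem_left _ _ h1
  obtain ⟨G, hG, hGI⟩ := hQ g₀ hg₀
  refine ⟨-G, Submodule.neg_mem _ hG, ?_⟩
  have hmon : ((i ::ₘ j ::ₘ s').map X).prod = (X i * X j : PlRing K d n) * M' := by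
    rw [Multiset.map_cons, Multiset.prod_cons, Multiset.map_cons, Multiset.prod_cons, mul_assoc]
  have : ((i ::ₘ j ::ₘ s').map X).prod - -G
      = shuffleRel K i j r * M' - (g₀ * M' - G) := by
    rw [hmon, hrel]; ring
  rw [this]
  exact Ideal.sub_mem _ (Ideal.mul_mem_right _ _ (shuffleRel_mem_plIdealTop i j r hp)) hGI

theorem straighten (s : Multiset (Idx d n)) :
    ∃ g ∈ Submodule.span K (StdSet K (Multiset.card s) (s.map key).sum),
      (s.map X).prod - g ∈ plIdealTop (d := d) (n := n) K := by
  induction' hN : (Multiset.card s * (d * n) ^ 2 - Phi s) using Nat.strong_induction_on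
    with N IH generalizing s
  by_cases hcomp : ∀ a ∈ s, ∀ b ∈ s, a ≤ b ∨ b ≤ a
  · exact ⟨_, Submodule.subset_span (sorted_case s hcomp), by simp⟩
  · push Not at hcomp
    obtain ⟨a, ha, b, hb, hab, hba⟩ := hcomp
    have hne : b ≠ a := fun h => hab (h ▸ le_refl _)
    obtain ⟨t, rfl⟩ := Multiset.exists_cons_of_mem ha
    have hbt : b ∈ t := by
      rcases Multiset.mem_cons.mp hb with h | h
      · exact absurd h hne
      · exact h
    obtain ⟨s', rfl⟩ := Multiset.exists_cons_of_mem hbt
    have main : ∀ i j : Idx d n, ¬ j ≤ i → key j ≤ key i →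
        Multiset.card (i ::ₘ j ::ₘ s') * (d * n) ^ 2 - Phi (i ::ₘ j ::ₘ s') = N →
        ∃ g ∈ Submodule.span K (StdSet K (Multiset.card (i ::ₘ j ::ₘ s'))
            ((i ::ₘ j ::ₘ s').map key).sum),
          ((i ::ₘ j ::ₘ s').map X).prod - g ∈ plIdealTop (d := d) (n := n) K := by
      intro i j hji hk hN'
      have e1 : Multiset.card (i ::ₘ j ::ₘ s') = Multiset.card s' + 2 := by simp
      have e2 : ((i ::ₘ j ::ₘ s').map key).sum = key i + key j + (s'.map key).sum := by
        simp [add_assoc]
      rw [e1, e2]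
      apply straighten_step i j s' hji hk
      intro s'' hc hs hphi
      have hle := Phi_le s''
      have hle0 := Phi_le (i ::ₘ j ::ₘ s')
      rw [hc] at hle
      rw [e1] at hle0 hN'
      have := IH (Multiset.card s'' * (d * n) ^ 2 - Phi s'') (by rw [hc]; omega) s'' rfl
      rw [hc, hs] at this
      exact this
    rcases le_total (key b) (key a) with hk | hk
    · exact main a b hba hk hN
    · have hsw : a ::ₘ b ::ₘ s' = b ::ₘ a ::ₘ s' := Multiset.cons_swap a b s'
      rw [hsw] at hN ⊢
      exact main b a hab hk hN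

/-- Standard monomials span modulo the shuffle relations. -/
theorem span_std_top :
    Submodule.span K (Set.range fun c : (Σ m : ℕ, {c : Fin m → Idx d n // Antitone c}) =>
        Ideal.Quotient.mk (plIdealTop (d := d) (n := n) K) (chainMon K c.2.1)) = ⊤ := by
  rw [eq_top_iff]
  intro x _
  obtain ⟨f, rfl⟩ := Ideal.Quotient.mk_surjective x
  set T := Submodule.span K (Set.range fun c : (Σ m : ℕ, {c : Fin m → Idx d n // Antitone c}) =>
        Ideal.Quotient.mk (plIdealTop (d := d) (n := n) K) (chainMon K c.2.1)) with hT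
  have hstd : ∀ (m κ : ℕ) (g : PlRing K d n), g ∈ Submodule.span K (StdSet K m κ) →
      Ideal.Quotient.mk (plIdealTop (d := d) (n := n) K) g ∈ T := by
    intro m κ g hg
    induction hg using Submodule.span_induction with
    | mem g hg =>
      obtain ⟨c, hc, _, rfl⟩ := hg
      exact Submodule.subset_span ⟨⟨m, ⟨c, hc⟩⟩, rfl⟩
    | zero => rw [map_zero]; exact Submodule.zero_mem _
    | add x y _ _ hx hy => rw [map_add]; exact Submodule.add_mem _ hx hy
    | smul c x _ hx =>
      have : Ideal.Quotient.mk (plIdealTop (d := d) (n := n) K) (c • x)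
          = c • Ideal.Quotient.mk (plIdealTop (d := d) (n := n) K) x := rfl
      rw [this]; exact Submodule.smul_mem _ c hx
  have hmon : ∀ s : Multiset (Idx d n),
      Ideal.Quotient.mk (plIdealTop (d := d) (n := n) K) (s.map X).prod ∈ T := by
    intro s
    obtain ⟨g, hg, hgI⟩ := straighten (K := K) s
    have : Ideal.Quotient.mk (plIdealTop (d := d) (n := n) K) (s.map X).prod
        = Ideal.Quotient.mk (plIdealTop (d := d) (n := n) K) g :=
      Ideal.Quotient.eq.mpr hgI
    rw [this]
    exact hstd _ _ g hg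
  have hP : ∀ f : PlRing K d n, ∀ s : Multiset (Idx d n),
      Ideal.Quotient.mk (plIdealTop (d := d) (n := n) K) (f * (s.map X).prod) ∈ T := by
    intro f
    induction f using MvPolynomial.induction_on with
    | C a =>
      intro s
      have : Ideal.Quotient.mk (plIdealTop (d := d) (n := n) K) (C a * (s.map X).prod)
          = a • Ideal.Quotient.mk (plIdealTop (d := d) (n := n) K) (s.map X).prod := by
        rw [← smul_eq_C_mul]; rfl
      rw [this]; exact Submodule.smul_mem _ a (hmon s)
    | add p q hp hq =>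
      intro s
      rw [add_mul, map_add]; exact Submodule.add_mem _ (hp s) (hq s)
    | mul_X p θ hp =>
      intro s
      have : p * X θ * (s.map X).prod = p * ((θ ::ₘ s).map X).prod := by
        rw [Multiset.map_cons, Multiset.prod_cons]; ring
      rw [this]; exact hp (θ ::ₘ s)
  have := hP f 0
  simpa using this

end Groth.Agent.Lib.Helper8.Gr
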