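import Mathlib
import Groth.Prelude.Def_W4bk4grassmannianPl
import Groth.Agent.Lib.Helper8.Gr5
set_option backward.isDefEq.respectTransparency.types false
set_option linter.unusedSectionVars false
set_option autoImplicit false
universe u

namespace Groth.Agent.Lib.Helper8.Gr
open W4bk4grassmannian MvPolynomial
open scoped MonomialOrder

variable {K : Type u} [CommRing K] {d n : ℕ}

/-- The variables of the "leading term" ring: column first, then row. -/
abbrev LVar (d n : ℕ) : Type := Fin d ×ₗ Fin n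

/-- The diagonal exponent of a tuple `f`: the monomial `∏_t x_{f t, t}`. -/
noncomputable def Dexp (f : Fin d → Fin n) : LVar d n →₀ ℕ :=
  ∑ t, Finsupp.single (toLex (t, f t)) 1

theorem Dexp_apply (f : Fin d → Fin n) (t : Fin d) (s : Fin n) :
    Dexp f (toLex (t, s)) = if f t = s then 1 else 0 := by
  unfold Dexp
  rw [Finsupp.finsetSum_apply]
  rw [Finset.sum_eq_single t]
  · by_cases h : f t = s
    · rw [h, Finsupp.single_eq_same, if_pos rfl]
    · rw [if_neg h, Finsupp.single_eq_of_ne]
      intro heq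
      apply h
      have := congrArg (fun x => (ofLex x).2) heq
      simpa using this.symm
  · intro t' _ hne
    rw [Finsupp.single_eq_of_ne]
    intro heq
    apply hne
    have := congrArg (fun x => (ofLex x).1) heq
    simpa using this.symm
  · intro h; exact absurd (Finset.mem_univ t) h

theorem perm_gt_of_min (σ : Equiv.Perm (Fin d)) (t₀ : Fin d) (h0 : σ t₀ ≠ t₀)
    (hmin : ∀ t, t < t₀ → σ t = t) : t₀ < σ t₀ := by
  rcases lt_trichotomy (σ t₀) t₀ with h | h | h
  · exfalso
    have := hmin (σ t₀) h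
    exact h0 (σ.injective this)
  · exact absurd h h0
  · exact h

/-- The diagonal term dominates every other term of the determinant (lex order). -/
theorem Dexp_perm_lt (θ : Fin d → Fin n) (hθ : StrictMono θ) (σ : Equiv.Perm (Fin d))
    (hσ : σ ≠ 1) : toLex (Dexp (θ ∘ σ)) < toLex (Dexp θ) := by
  classical
  have hne : (Finset.univ.filter fun t : Fin d => σ t ≠ t).Nonempty := by
    by_contra hcon
    rw [Finset.not_nonempty_iff_eq_empty, Finset.filter_eq_empty_iff] at hcon
    apply hσ
    ext t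
    have := hcon (Finset.mem_univ t)
    push Not at this
    rw [this]; rfl
  set t₀ := (Finset.univ.filter fun t : Fin d => σ t ≠ t).min' hne with ht₀
  have h0 : σ t₀ ≠ t₀ := by
    have := Finset.min'_mem _ hne
    rw [Finset.mem_filter] at this
    exact this.2
  have hmin : ∀ t, t < t₀ → σ t = t := by
    intro t ht
    by_contra hcon
    have hmem : t ∈ Finset.univ.filter fun t : Fin d => σ t ≠ t := by
      rw [Finset.mem_filter]; exact ⟨Finset.mem_univ _, hcon⟩
    exact absurd (Finset.min'_le _ t hmem) (not_le.mpr ht)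
  have hgt := perm_gt_of_min σ t₀ h0 hmin
  rw [Finsupp.Lex.lt_iff]
  refine ⟨toLex (t₀, θ t₀), ?_, ?_⟩
  · intro j hj
    obtain ⟨⟨t, s⟩, rfl⟩ : ∃ p : Fin d × Fin n, j = toLex p := ⟨ofLex j, rfl⟩
    rw [Prod.Lex.toLex_lt_toLex] at hj
    simp only [ofLex_toLex]
    rw [Dexp_apply, Dexp_apply]
    rcases hj with hj | ⟨hj1, hj2⟩
    · have := hmin t hj
      simp only [Function.comp_apply, this]
    · simp only at hj1 hj2
      have h1 : θ t₀ < θ (σ t₀) := hθ hgt
      rw [show t = t₀ from hj1]
      rw [if_neg, if_neg]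
      · intro h; rw [h] at hj2; exact lt_irrefl _ hj2
      · intro h
        simp only [Function.comp_apply] at h
        rw [h] at h1
        exact lt_irrefl _ (lt_trans hj2 h1)
  · simp only [ofLex_toLex]
    rw [Dexp_apply, Dexp_apply, if_pos rfl, if_neg]
    · exact Nat.zero_lt_one
    · intro h
      simp only [Function.comp_apply] at h
      exact h0 (hθ.injective h)

section Psi

variable (K)

/-- The pattern matrix: variable `x_{s,t}` where `P s t` holds, zero elsewhere. -/
noncomputable def MP (P : Fin n → Fin d → Prop) [∀ s t, Decidable (P s t)] :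
    Matrix (Fin n) (Fin d) (MvPolynomial (LVar d n) K) :=
  Matrix.of fun s t => if P s t then X (toLex (t, s)) else 0

/-- The Plücker map to the pattern matrix. -/
noncomputable def psi (P : Fin n → Fin d → Prop) [∀ s t, Decidable (P s t)] :
    PlRing K d n →ₐ[K] MvPolynomial (LVar d n) K :=
  evalR (K := K) (MP K P)

variable {K}

variable (P : Fin n → Fin d → Prop) [∀ s t, Decidable (P s t)]

theorem psi_shuffleRel (i j : Idx d n) (r : Fin d) : psi K P (shuffleRel K i j r) = 0 :=
  evalR_shuffleRel _ i j r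

theorem psi_plIdealTop (f : PlRing K d n) (hf : f ∈ plIdealTop (d := d) (n := n) K) :
    psi K P f = 0 := by
  have : plIdealTop (d := d) (n := n) K ≤ RingHom.ker (psi K P).toRingHom := by
    unfold plIdealTop
    rw [Ideal.span_le]
    rintro f ⟨i, j, r, _, rfl⟩
    exact psi_shuffleRel P i j r
  exact this hf

/-- One term of the determinant expansion of a minor of the pattern matrix. -/
theorem term_eq (f : Fin d → Fin n) :
    ∏ t, MP K P (f t) t = if (∀ t, P (f t) t) then monomial (Dexp f) (1 : K) else 0 := by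
  unfold MP
  simp only [Matrix.of_apply]
  rw [Finset.prod_ite_zero]
  by_cases h : ∀ t, P (f t) t
  · rw [if_pos h, if_pos (fun t _ => h t)]
    unfold Dexp
    rw [monomial_sum_one]
    rfl
  · rw [if_neg h, if_neg (fun hh => h (fun t => hh t (Finset.mem_univ t)))]

theorem psi_X (θ : Idx d n) :
    psi K P (X θ) = ∑ σ : Equiv.Perm (Fin d),
      (((Equiv.Perm.sign σ : ℤˣ) : ℤ) : MvPolynomial (LVar d n) K) * ∏ t, MP K P (θ.1 (σ t)) t := by
  unfold psi
  rw [evalR_X, Matrix.det_apply']
  rfl

theorem psi_X_eq_zero (θ : Idx d n) (h : ∀ σ : Equiv.Perm (Fin d), ∃ t, ¬ P (θ.1 (σ t)) t) :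
    psi K P (X θ) = 0 := by
  rw [psi_X]
  apply Finset.sum_eq_zero
  intro σ _
  rw [term_eq P (fun t => θ.1 (σ t)), if_neg, mul_zero]
  obtain ⟨t, ht⟩ := h σ
  intro hh; exact ht (hh t)

/-- Good indices: all diagonal positions are allowed. -/
def Good (θ : Idx d n) : Prop := ∀ t, P (θ.1 t) t

theorem coeff_sign_mul (σ : Equiv.Perm (Fin d)) (c : LVar d n →₀ ℕ)
    (p : MvPolynomial (LVar d n) K) (h : coeff c p = 0) :
    coeff c ((((Equiv.Perm.sign σ : ℤˣ) : ℤ) : MvPolynomial (LVar d n) K) * p) = 0 := by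
  rcases Int.units_eq_one_or (Equiv.Perm.sign σ) with h1 | h1 <;> rw [h1] <;> simp [h]

theorem psi_X_coeff_ne (θ : Idx d n) (c : LVar d n →₀ ℕ) (hc : coeff c (psi K P (X θ)) ≠ 0) :
    c = Dexp θ.1 ∨ toLex c < toLex (Dexp θ.1) := by
  rw [psi_X, coeff_sum] at hc
  obtain ⟨σ, _, hσ⟩ := Finset.exists_ne_zero_of_sum_ne_zero hc
  have h1 : coeff c (∏ t, MP K P (θ.1 (σ t)) t) ≠ 0 := fun h => hσ (coeff_sign_mul σ c _ h)
  rw [term_eq P (fun t => θ.1 (σ t))] at h1
  split_ifs at h1 with hP
  · rw [coeff_monomial] at h1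
    split_ifs at h1 with hc'
    · by_cases hσ1 : σ = 1
      · left; rw [← hc', hσ1]; rfl
      · right; rw [← hc']; exact Dexp_perm_lt θ.1 θ.2 σ hσ1
    · exact absurd rfl h1
  · simp at h1

theorem psi_X_coeff_D (θ : Idx d n) (hθ : Good P θ) : coeff (Dexp θ.1) (psi K P (X θ)) = 1 := by
  rw [psi_X, coeff_sum, Finset.sum_eq_single (1 : Equiv.Perm (Fin d))]
  · rw [Equiv.Perm.sign_one]
    simp only [Units.val_one, Int.cast_one, one_mul, Equiv.Perm.coe_one, id_eq]
    rw [term_eq P (fun t => θ.1 t), if_pos (show ∀ t, P (θ.1 t) t from hθ), coeff_monomial,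
      if_pos rfl]
  · intro σ _ hσ
    apply coeff_sign_mul
    rw [term_eq P (fun t => θ.1 (σ t))]
    split_ifs with hP
    · rw [coeff_monomial, if_neg]
      intro h
      have := Dexp_perm_lt θ.1 θ.2 σ hσ
      change toLex (Dexp (fun t => θ.1 (σ t))) < _ at this
      rw [h] at this
      exact lt_irrefl _ this
    · simp
  · intro h; exact absurd (Finset.mem_univ _) h

/-- The lexicographic monomial order on the leading-term ring. -/
noncomputable def mo (d n : ℕ) : MonomialOrder (LVar d n) := MonomialOrder.lex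

theorem degree_psi_X [Nontrivial K] (θ : Idx d n) (hθ : Good P θ) :
    (mo d n).degree (psi K P (X θ)) = Dexp θ.1 := by
  apply (mo d n).toSyn.injective
  apply le_antisymm
  · rw [MonomialOrder.degree_le_iff]
    intro c hc
    rw [mem_support_iff] at hc
    rcases psi_X_coeff_ne P θ c hc with h | h
    · rw [h]
    · exact le_of_lt h
  · apply MonomialOrder.le_degree
    rw [mem_support_iff, psi_X_coeff_D P θ hθ]
    exact one_ne_zero

theorem monic_psi_X [Nontrivial K] (θ : Idx d n) (hθ : Good P θ) :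
    (mo d n).Monic (psi K P (X θ)) := by
  unfold MonomialOrder.Monic MonomialOrder.leadingCoeff
  rw [degree_psi_X P θ hθ, psi_X_coeff_D P θ hθ]

/-- The exponent of the leading monomial of a standard monomial. -/
noncomputable def Eexp {m : ℕ} (c : Fin m → Idx d n) : LVar d n →₀ ℕ := ∑ k, Dexp (c k).1

theorem Eexp_apply {m : ℕ} (c : Fin m → Idx d n) (t : Fin d) (s : Fin n) :
    Eexp c (toLex (t, s)) = ∑ k, if (c k).1 t = s then 1 else 0 := by
  unfold Eexp
  rw [Finsupp.finsetSum_apply]
  apply Finset.sum_congr rfl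
  intro k _
  exact Dexp_apply _ t s

theorem psi_chainMon {m : ℕ} (c : Fin m → Idx d n) :
    psi K P (chainMon K c) = ∏ k, psi K P (X (c k)) := by
  unfold chainMon
  rw [map_prod]

theorem monic_psi_chainMon [Nontrivial K] {m : ℕ} (c : Fin m → Idx d n) (hc : ∀ k, Good P (c k)) :
    (mo d n).Monic (psi K P (chainMon K c)) := by
  rw [psi_chainMon]
  apply MonomialOrder.Monic.prod
  intro k _
  exact monic_psi_X P (c k) (hc k)

theorem degree_psi_chainMon [Nontrivial K] {m : ℕ} (c : Fin m → Idx d n)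
    (hc : ∀ k, Good P (c k)) :
    (mo d n).degree (psi K P (chainMon K c)) = Eexp c := by
  rw [psi_chainMon, MonomialOrder.degree_prod_of_regular]
  · unfold Eexp
    apply Finset.sum_congr rfl
    intro k _
    exact degree_psi_X P (c k) (hc k)
  · intro k _
    rw [(monic_psi_X P (c k) (hc k)).leadingCoeff_eq_one]
    exact isRegular_one

end Psi

theorem antitone_eq_of_count {m n : ℕ} (f g : Fin m → Fin n) (hf : Antitone f) (hg : Antitone g)
    (h : ∀ s, (∑ k, if f k = s then 1 else 0) = ∑ k, if g k = s then (1 : ℕ) else 0) : f = g := by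
  apply List.ofFn_injective
  apply List.Perm.eq_of_sortedGE hf.sortedGE_ofFn hg.sortedGE_ofFn
  rw [← Multiset.coe_eq_coe, ← Fin.univ_val_map, ← Fin.univ_val_map]
  ext s
  rw [Multiset.count_map, Multiset.count_map]
  have e : ∀ f' : Fin m → Fin n,
      Multiset.card (Multiset.filter (fun a => s = f' a) (Finset.univ : Finset (Fin m)).val)
        = ∑ k, if f' k = s then 1 else 0 := by
    intro f'
    rw [← Finset.filter_val, Finset.card_val, Finset.card_filter]
    apply Finset.sum_congr rfl
    intro k _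
    by_cases hk : f' k = s
    · rw [if_pos hk, if_pos hk.symm]
    · rw [if_neg hk, if_neg (fun h => hk h.symm)]
  rw [e f, e g, h s]

theorem Eexp_inj (hd : 0 < d) {m m' : ℕ} (c : Fin m → Idx d n) (c' : Fin m' → Idx d n)
    (hc : Antitone c) (hc' : Antitone c') (h : Eexp c = Eexp c') :
    (⟨m, c⟩ : Σ m : ℕ, (Fin m → Idx d n)) = ⟨m', c'⟩ := by
  have hcount : ∀ {m : ℕ} (c : Fin m → Idx d n), ∑ s : Fin n, Eexp c (toLex (⟨0, hd⟩, s)) = m := by
    intro m c
    simp_rw [Eexp_apply]
    rw [Finset.sum_comm]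
    simp
  have hm : m = m' := by
    rw [← hcount c, ← hcount c', h]
  subst hm
  congr 1
  funext k
  apply Subtype.ext
  funext t
  have := antitone_eq_of_count (fun k => (c k).1 t) (fun k => (c' k).1 t)
    (fun a b hab => hc hab t) (fun a b hab => hc' hab t) (by
      intro s
      rw [← Eexp_apply, ← Eexp_apply, h])
  exact congrFun this k

section Lead

variable {σ ι R : Type*} [CommRing R] (m : MonomialOrder σ) (f : ι → MvPolynomial σ R)

theorem lead_of_combination (s : Finset ι) (hmonic : ∀ i ∈ s, m.Monic (f i))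
    (hinj : Set.InjOn (fun i => m.degree (f i)) (s : Set ι))
    (a : ι → R) (hne : ∃ i ∈ s, a i ≠ 0) :
    ∃ i₀ ∈ s, a i₀ ≠ 0 ∧ coeff (m.degree (f i₀)) (∑ i ∈ s, a i • f i) = a i₀ ∧
      (∀ i ∈ s, a i ≠ 0 → m.degree (f i) ≼[m] m.degree (f i₀)) := by
  classical
  have hne' : (s.filter fun i => a i ≠ 0).Nonempty := by
    obtain ⟨i, hi, hai⟩ := hne
    exact ⟨i, Finset.mem_filter.mpr ⟨hi, hai⟩⟩
  obtain ⟨i₀, hi₀, hmax⟩ := Finset.exists_max_image (s.filter fun i => a i ≠ 0)
    (fun i => m.toSyn (m.degree (f i))) hne'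
  rw [Finset.mem_filter] at hi₀
  have hle : ∀ i ∈ s, a i ≠ 0 → m.degree (f i) ≼[m] m.degree (f i₀) := by
    intro i hi hai
    exact hmax i (Finset.mem_filter.mpr ⟨hi, hai⟩)
  refine ⟨i₀, hi₀.1, hi₀.2, ?_, hle⟩
  rw [coeff_sum, Finset.sum_eq_single i₀]
  · rw [coeff_smul, (hmonic i₀ hi₀.1).coeff_degree, smul_eq_mul, mul_one]
  · intro i hi hne0
    rw [coeff_smul]
    by_cases hai : a i = 0
    · rw [hai, zero_smul]
    · have h1 := hle i hi hai
      have h2 : m.degree (f i) ≠ m.degree (f i₀) :=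
        fun h => hne0 (hinj (Finset.mem_coe.mpr hi) (Finset.mem_coe.mpr hi₀.1) h)
      have h3 : m.degree (f i) ≺[m] m.degree (f i₀) :=
        lt_of_le_of_ne h1 (fun h => h2 (m.toSyn.injective h))
      rw [m.coeff_eq_zero_of_lt h3, smul_zero]
  · intro h; exact absurd hi₀.1 h

theorem zero_of_combination (s : Finset ι) (hmonic : ∀ i ∈ s, m.Monic (f i))
    (hinj : Set.InjOn (fun i => m.degree (f i)) (s : Set ι))
    (a : ι → R) (hsum : ∑ i ∈ s, a i • f i = 0) : ∀ i ∈ s, a i = 0 := by
  intro i hi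
  by_contra hai
  obtain ⟨i₀, _, h0, hco, _⟩ := lead_of_combination m f s hmonic hinj a ⟨i, hi, hai⟩
  rw [hsum, coeff_zero] at hco
  exact h0 hco.symm

theorem linearIndependent_of_monic (hmonic : ∀ i, m.Monic (f i))
    (hinj : Function.Injective (fun i => m.degree (f i))) : LinearIndependent R f := by
  rw [linearIndependent_iff']
  intro s a hsum
  exact zero_of_combination m f s (fun i _ => hmonic i) (hinj.injOn) a hsum

theorem lead_unique [Nontrivial R] (s : Finset ι) (hmonic : ∀ i ∈ s, m.Monic (f i))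
    (hinj : Set.InjOn (fun i => m.degree (f i)) (s : Set ι))
    (a : ι → R) (hF : m.Monic (∑ i ∈ s, a i • f i)) :
    ∃ i₀ ∈ s, a i₀ = 1 ∧ m.degree (f i₀) = m.degree (∑ i ∈ s, a i • f i) := by
  have hne : ∃ i ∈ s, a i ≠ 0 := by
    by_contra hcon
    push Not at hcon
    have : ∑ i ∈ s, a i • f i = 0 := by
      apply Finset.sum_eq_zero
      intro i hi
      rw [hcon i hi, zero_smul]
    rw [this] at hF
    exact hF.ne_zero rfl
  obtain ⟨i₀, hi₀, h0, hco, hle⟩ := lead_of_combination m f s hmonic hinj a hne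
  set F := ∑ i ∈ s, a i • f i with hFdef
  have h1 : m.degree (f i₀) ≼[m] m.degree F := by
    apply m.le_degree
    rw [mem_support_iff, hco]; exact h0
  have h2 : m.degree F ≼[m] m.degree (f i₀) := by
    rw [MonomialOrder.degree_le_iff]
    intro c hc
    rw [mem_support_iff, hFdef, coeff_sum] at hc
    obtain ⟨i, hi, hci⟩ := Finset.exists_ne_zero_of_sum_ne_zero hc
    rw [coeff_smul] at hci
    have hai : a i ≠ 0 := by
      intro h; rw [h, zero_smul] at hci; exact hci rfl
    have hcf : coeff c (f i) ≠ 0 := by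
      intro h; rw [h, smul_zero] at hci; exact hci rfl
    exact le_trans (m.le_degree (mem_support_iff.mpr hcf)) (hle i hi hai)
  have heq : m.degree (f i₀) = m.degree F := m.toSyn.injective (le_antisymm h1 h2)
  refine ⟨i₀, hi₀, ?_, heq⟩
  rw [← hco, heq]
  exact hF.coeff_degree

end Lead

end Groth.Agent.Lib.Helper8.Gr
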