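import Mathlib
import Groth.Prelude.Def_W4bk4grassmannianPl
import Groth.Agent.Lib.Helper8.Gr6
set_option backward.isDefEq.respectTransparency.types false
set_option linter.unusedSectionVars false
set_option autoImplicit false
universe u

namespace Groth.Agent.Lib.Helper8.Gr
open W4bk4grassmannian MvPolynomial
open scoped MonomialOrder

variable {K : Type u} [CommRing K] {d n : ℕ}

/-- Schubert pattern. -/
def PS (τ : Idx d n) : Fin n → Fin d → Prop := fun s t => s ≤ τ.1 t

instance (τ : Idx d n) : ∀ s t, Decidable (PS τ s t) := fun s t => by unfold PS; infer_instance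

/-- Opposite Schubert pattern. -/
def PO (β : Idx d n) : Fin n → Fin d → Prop := fun s t => β.1 t ≤ s

instance (β : Idx d n) : ∀ s t, Decidable (PO β s t) := fun s t => by unfold PO; infer_instance

/-- Full pattern. -/
def PT : Fin n → Fin d → Prop := fun _ _ => True

instance : ∀ (s : Fin n) (t : Fin d), Decidable (PT s t) := fun s t => by unfold PT; infer_instance

theorem good_PS (τ θ : Idx d n) : Good (PS τ) θ ↔ θ ≤ τ := Iff.rfl

theorem good_PO (β θ : Idx d n) : Good (PO β) θ ↔ β ≤ θ := Iff.rfl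

theorem good_PT (θ : Idx d n) : Good (PT (n := n) (d := d)) θ := fun _ => trivial

theorem psi_PS_eq_zero (τ θ : Idx d n) (h : ¬ θ ≤ τ) : psi K (PS τ) (X θ) = 0 := by
  apply psi_X_eq_zero
  intro σ
  by_contra hcon
  push Not at hcon
  have hex : ∃ t₀, τ.1 t₀ < θ.1 t₀ := by
    by_contra hc
    push Not at hc
    exact h hc
  obtain ⟨t₀, ht₀⟩ := hex
  have hmaps : ∀ t ∈ Finset.Iic t₀, σ t ∈ Finset.Iio t₀ := by
    intro t ht
    rw [Finset.mem_Iic] at ht
    rw [Finset.mem_Iio]
    have h1 : θ.1 (σ t) ≤ τ.1 t := hcon t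
    have h2 : τ.1 t ≤ τ.1 t₀ := τ.2.monotone ht
    exact θ.2.lt_iff_lt.mp (lt_of_le_of_lt (le_trans h1 h2) ht₀)
  have := Finset.card_le_card_of_injOn σ hmaps (σ.injective.injOn)
  rw [Fin.card_Iic, Fin.card_Iio] at this
  omega

theorem psi_PO_eq_zero (β θ : Idx d n) (h : ¬ β ≤ θ) : psi K (PO β) (X θ) = 0 := by
  apply psi_X_eq_zero
  intro σ
  by_contra hcon
  push Not at hcon
  have hex : ∃ t₀, θ.1 t₀ < β.1 t₀ := by
    by_contra hc
    push Not at hc
    exact h hc
  obtain ⟨t₀, ht₀⟩ := hex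
  have hmaps : ∀ t ∈ Finset.Ici t₀, σ t ∈ Finset.Ioi t₀ := by
    intro t ht
    rw [Finset.mem_Ici] at ht
    rw [Finset.mem_Ioi]
    have h1 : β.1 t ≤ θ.1 (σ t) := hcon t
    have h2 : β.1 t₀ ≤ β.1 t := β.2.monotone ht
    exact θ.2.lt_iff_lt.mp (lt_of_lt_of_le ht₀ (le_trans h2 h1))
  have := Finset.card_le_card_of_injOn σ hmaps (σ.injective.injOn)
  rw [Fin.card_Ici, Fin.card_Ioi] at this
  have := t₀.isLt
  omega

section Points

variable (P : Fin n → Fin d → Prop) [∀ s t, Decidable (P s t)]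

/-- The pattern matrix evaluated at a point. -/
def MPval (a : LVar d n → K) : Matrix (Fin n) (Fin d) K :=
  Matrix.of fun s t => if P s t then a (toLex (t, s)) else 0

theorem eval_psi (a : LVar d n → K) (f : PlRing K d n) :
    eval a (psi K P f) = evalMinors K d n (MPval P a) f := by
  have : (MvPolynomial.aeval a : MvPolynomial (LVar d n) K →ₐ[K] K).comp (psi K P)
      = evalMinors K d n (MPval P a) := by
    apply MvPolynomial.algHom_ext
    intro θ
    simp only [AlgHom.comp_apply]
    unfold psi evalMinors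
    rw [evalR_X, aeval_X]
    rw [AlgHom.map_det]
    congr 1
    ext s t
    simp only [AlgHom.mapMatrix_apply, Matrix.map_apply, Matrix.submatrix_apply, id_eq, MP, MPval,
      Matrix.of_apply]
    split_ifs
    · rw [aeval_X]
    · rw [map_zero]
  have h2 := congrArg (fun φ => φ f) this
  simp only [AlgHom.comp_apply] at h2
  rw [← h2]
  rw [← MvPolynomial.coe_aeval_eq_eval]
  rfl

end Points

theorem MPval_PS_minor (τ φ : Idx d n) (h : ¬ φ ≤ τ) (a : LVar d n → K) :
    ((MPval (PS τ) a).submatrix φ.1 id).det = 0 := by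
  have h1 := eval_psi (PS τ) a (X φ : PlRing K d n)
  rw [psi_PS_eq_zero τ φ h, map_zero] at h1
  unfold evalMinors at h1
  rw [aeval_X] at h1
  exact h1.symm

theorem schubertVanishing_le_ker [IsDomain K] [Infinite K] (τ : Idx d n) (f : PlRing K d n)
    (hf : f ∈ schubertVanishing K d n τ) : psi K (PS τ) f = 0 := by
  apply MvPolynomial.funext
  intro a
  rw [eval_psi, map_zero]
  unfold schubertVanishing at hf
  rw [Ideal.mem_iInf] at hf
  have := hf (MPval (PS τ) a)
  rw [Ideal.mem_iInf] at this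
  exact this (fun φ hφ => MPval_PS_minor τ φ hφ a)

theorem plIdealTop_le_schubertVanishing (τ : Idx d n) :
    plIdealTop (d := d) (n := n) K ≤ schubertVanishing K d n τ := by
  unfold plIdealTop
  rw [Ideal.span_le]
  rintro f ⟨i, j, r, _, rfl⟩
  unfold schubertVanishing
  rw [SetLike.mem_coe, Ideal.mem_iInf]
  intro A
  rw [Ideal.mem_iInf]
  intro _
  exact evalMinors_shuffleRel A i j r

theorem plIdealTop_le_vanishing :
    plIdealTop (d := d) (n := n) K ≤ vanishing K d n := by
  unfold plIdealTop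
  rw [Ideal.span_le]
  rintro f ⟨i, j, r, _, rfl⟩
  unfold vanishing
  rw [SetLike.mem_coe, Ideal.mem_iInf]
  intro A
  exact evalMinors_shuffleRel A i j r

theorem X_mem_schubertVanishing (τ φ : Idx d n) (h : ¬ φ ≤ τ) :
    (X φ : PlRing K d n) ∈ schubertVanishing K d n τ := by
  unfold schubertVanishing
  rw [Ideal.mem_iInf]
  intro A
  rw [Ideal.mem_iInf]
  intro hA
  change evalMinors K d n A (X φ) = 0
  unfold evalMinors
  rw [aeval_X]
  exact hA φ h

theorem schubertVanishing_mono {τ τ' : Idx d n} (h : τ ≤ τ') :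
    schubertVanishing K d n τ' ≤ schubertVanishing K d n τ := by
  intro f hf
  unfold schubertVanishing at hf ⊢
  rw [Ideal.mem_iInf] at hf ⊢
  intro A
  have := hf A
  rw [Ideal.mem_iInf] at this ⊢
  intro hA
  exact this (fun φ hφ => hA φ (fun hh => hφ (le_trans hh h)))

end Groth.Agent.Lib.Helper8.Gr
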