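import Mathlib
import Groth.Prelude.Def_W4bk4grassmannianPl
import Groth.Agent.Lib.Helper8.Gr7
set_option backward.isDefEq.respectTransparency.types false
set_option linter.unusedSectionVars false
set_option autoImplicit false
universe u

namespace Groth.Agent.Lib.Helper8.Gr
open W4bk4grassmannian MvPolynomial
open scoped MonomialOrder

variable {K : Type u} [CommRing K] {d n : ℕ}

/-- Lifting a span membership from a quotient to representatives. -/
theorem lift_span {α : Type*} (I : Ideal (PlRing K d n)) (v : α → PlRing K d n) (x : PlRing K d n)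
    (h : Ideal.Quotient.mk I x ∈ Submodule.span K (Set.range fun a => Ideal.Quotient.mk I (v a))) :
    ∃ g ∈ Submodule.span K (Set.range v), x - g ∈ I := by
  have hr : (Set.range fun a => Ideal.Quotient.mk I (v a))
      = (Ideal.Quotient.mkₐ K I).toLinearMap '' (Set.range v) := by
    ext y
    simp only [Set.mem_range, Set.mem_image]
    constructor
    · rintro ⟨a, rfl⟩; exact ⟨v a, ⟨a, rfl⟩, rfl⟩
    · rintro ⟨_, ⟨a, rfl⟩, rfl⟩; exact ⟨a, rfl⟩
  rw [hr, ← Submodule.map_span] at h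
  obtain ⟨g, hg, hgx⟩ := h
  refine ⟨g, hg, ?_⟩
  exact Ideal.Quotient.eq.mp hgx.symm

theorem exists_std_rep (f : PlRing K d n) :
    ∃ g ∈ Submodule.span K (Set.range fun c : (Σ m : ℕ, {c : Fin m → Idx d n // Antitone c}) =>
        chainMon K c.2.1), f - g ∈ plIdealTop (d := d) (n := n) K := by
  apply lift_span
  rw [span_std_top]
  exact Submodule.mem_top

section Family

variable {ι : Type*} (τs : ι → Idx d n)

/-- Chains lying below some member of the family. -/
abbrev ChainsIn : Type := Σ m : ℕ, {c : Fin m → Idx d n // Antitone c ∧ ∃ i, ∀ k, c k ≤ τs i}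

variable (K)

/-- The vanishing ideal of the union of the Schubert varieties of the family. -/
noncomputable def JFam : Ideal (PlRing K d n) := ⨅ i, schubertVanishing K d n (τs i)

/-- The ideal generated by the shuffle relations and the coordinates off the union. -/
noncomputable def IFam : Ideal (PlRing K d n) :=
  plIdealTop (d := d) (n := n) K ⊔ Ideal.span {f | ∃ φ : Idx d n, (∀ i, ¬ φ ≤ τs i) ∧ f = X φ}

variable {K}

theorem IFam_le_JFam : IFam K τs ≤ JFam K τs := by
  unfold IFam JFam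
  apply sup_le
  · apply le_iInf
    intro i
    exact plIdealTop_le_schubertVanishing (τs i)
  · rw [Ideal.span_le]
    rintro f ⟨φ, hφ, rfl⟩
    rw [SetLike.mem_coe, Ideal.mem_iInf]
    intro i
    exact X_mem_schubertVanishing (τs i) φ (hφ i)

theorem psi_chainMon_eq_zero (τ : Idx d n) {m : ℕ} (c : Fin m → Idx d n) (k : Fin m)
    (hk : ¬ c k ≤ τ) : psi K (PS τ) (chainMon K c) = 0 := by
  rw [psi_chainMon]
  exact Finset.prod_eq_zero (Finset.mem_univ k) (psi_PS_eq_zero τ (c k) hk)

theorem chains_ext {c c' : ChainsIn τs}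
    (h : (⟨c.1, c.2.1⟩ : Σ m : ℕ, (Fin m → Idx d n)) = ⟨c'.1, c'.2.1⟩) : c = c' := by
  rcases c with ⟨m, ⟨c, hc⟩⟩
  rcases c' with ⟨m', ⟨c', hc'⟩⟩
  simp only [Sigma.mk.injEq] at h
  obtain ⟨rfl, h2⟩ := h
  have := eq_of_heq h2
  subst this
  rfl

theorem indep_fam [IsDomain K] [Infinite K] (hd : 0 < d) (s : Finset (ChainsIn τs))
    (a : ChainsIn τs → K)
    (h : ∑ c ∈ s, a c • chainMon K c.2.1 ∈ JFam K τs) : ∀ c ∈ s, a c = 0 := by
  classical
  intro c₀ hc₀
  obtain ⟨i₀, hi₀⟩ := c₀.2.2.2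
  have hF : ∑ c ∈ s, a c • chainMon K c.2.1 ∈ schubertVanishing K d n (τs i₀) := by
    unfold JFam at h
    rw [Ideal.mem_iInf] at h
    exact h i₀
  have h0 := schubertVanishing_le_ker (τs i₀) _ hF
  rw [map_sum] at h0
  simp only [map_smul] at h0
  set s₁ := s.filter (fun c : ChainsIn τs => ∀ k, c.2.1 k ≤ τs i₀) with hs₁
  have h1 : ∑ c ∈ s₁, a c • psi K (PS (τs i₀)) (chainMon K c.2.1) = 0 := by
    rw [← h0]
    apply Finset.sum_subset (Finset.filter_subset _ _)
    intro c hc hc1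
    have : ¬ ∀ k, c.2.1 k ≤ τs i₀ := fun hh => hc1 (Finset.mem_filter.mpr ⟨hc, hh⟩)
    push Not at this
    obtain ⟨k, hk⟩ := this
    rw [psi_chainMon_eq_zero (τs i₀) c.2.1 k hk, smul_zero]
  have hgood : ∀ c ∈ s₁, ∀ k, Good (PS (τs i₀)) (c.2.1 k) := by
    intro c hc k
    exact (Finset.mem_filter.mp hc).2 k
  apply zero_of_combination (mo d n) (fun c : ChainsIn τs => psi K (PS (τs i₀)) (chainMon K c.2.1))
    s₁ ?_ ?_ a h1 c₀ (Finset.mem_filter.mpr ⟨hc₀, hi₀⟩)
  · intro c hc
    exact monic_psi_chainMon _ c.2.1 (hgood c hc)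
  · intro c hc c' hc' hdeg
    simp only at hdeg
    rw [degree_psi_chainMon _ c.2.1 (hgood c (Finset.mem_coe.mp hc)),
      degree_psi_chainMon _ c'.2.1 (hgood c' (Finset.mem_coe.mp hc'))] at hdeg
    exact chains_ext τs (Eexp_inj hd c.2.1 c'.2.1 c.2.2.1 c'.2.2.1 hdeg)

theorem exists_fam_rep [Nonempty ι] (f : PlRing K d n) :
    ∃ g ∈ Submodule.span K (Set.range fun c : ChainsIn τs => chainMon K c.2.1),
      f - g ∈ IFam K τs := by
  obtain ⟨g₀, hg₀, hfg₀⟩ := exists_std_rep f
  have hR : ∀ g ∈ Submodule.span K (Set.range fun c : (Σ m : ℕ, {c : Fin m → Idx d n // Antitone c}) =>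
        chainMon K c.2.1),
      ∃ g' ∈ Submodule.span K (Set.range fun c : ChainsIn τs => chainMon K c.2.1),
        g - g' ∈ IFam K τs := by
    intro g hg
    induction hg using Submodule.span_induction with
    | mem g hg =>
      obtain ⟨⟨m, ⟨c, hc⟩⟩, rfl⟩ := hg
      by_cases hfam : ∃ i, ∀ k, c k ≤ τs i
      · refine ⟨chainMon K c, Submodule.subset_span ⟨⟨m, ⟨c, hc, hfam⟩⟩, rfl⟩, ?_⟩
        simp
      · refine ⟨0, Submodule.zero_mem _, ?_⟩
        rw [sub_zero]
        push Not at hfam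
        have hm : 0 < m := by
          rcases Nat.eq_zero_or_pos m with h | h
          · exfalso
            subst h
            obtain ⟨k, _⟩ := hfam (Classical.arbitrary ι)
            exact k.elim0
          · exact h
        have htop : ∀ i, ¬ c ⟨0, hm⟩ ≤ τs i := by
          intro i hle
          obtain ⟨k, hk⟩ := hfam i
          exact hk (le_trans (hc (Fin.mk_le_of_le_val (Nat.zero_le _))) hle)
        unfold chainMon
        apply Ideal.prod_mem _ (Finset.mem_univ (⟨0, hm⟩ : Fin m))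
        unfold IFam
        apply Ideal.mem_sup_right
        exact Ideal.subset_span ⟨c ⟨0, hm⟩, htop, rfl⟩
    | zero => exact ⟨0, Submodule.zero_mem _, by simp⟩
    | add x y _ _ hx hy =>
      obtain ⟨G₁, hG₁, h1⟩ := hx
      obtain ⟨G₂, hG₂, h2⟩ := hy
      refine ⟨G₁ + G₂, Submodule.add_mem _ hG₁ hG₂, ?_⟩
      have : (x + y) - (G₁ + G₂) = (x - G₁) + (y - G₂) := by ring
      rw [this]; exact Ideal.add_mem _ h1 h2
    | smul c x _ hx =>
      obtain ⟨G, hG, h1⟩ := hx
      refine ⟨c • G, Submodule.smul_mem _ c hG, ?_⟩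
      have : (c • x) - c • G = C c * (x - G) := by
        rw [smul_eq_C_mul, smul_eq_C_mul]; ring
      rw [this]; exact Ideal.mul_mem_left _ _ h1
  obtain ⟨g', hg', hgg'⟩ := hR g₀ hg₀
  refine ⟨g', hg', ?_⟩
  have : f - g' = (f - g₀) + (g₀ - g') := by ring
  rw [this]
  apply Ideal.add_mem _ _ hgg'
  unfold IFam
  exact Ideal.mem_sup_left hfg₀

theorem IFam_eq_JFam [IsDomain K] [Infinite K] [Nonempty ι] (hd : 0 < d) :
    IFam K τs = JFam K τs := by
  apply le_antisymm (IFam_le_JFam τs)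
  intro f hf
  obtain ⟨g, hg, hfg⟩ := exists_fam_rep τs f
  have hgJ : g ∈ JFam K τs := by
    have : g = f - (f - g) := by ring
    rw [this]
    exact Ideal.sub_mem _ hf (IFam_le_JFam τs hfg)
  rw [Finsupp.mem_span_range_iff_exists_finsupp] at hg
  obtain ⟨a, rfl⟩ := hg
  have hz := indep_fam τs hd a.support a (by unfold Finsupp.sum at hgJ; exact hgJ)
  have : (a.sum fun i c => c • chainMon K i.2.1) = 0 := by
    unfold Finsupp.sum
    apply Finset.sum_eq_zero
    intro c hc
    simp only [hz c hc, zero_smul]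
  rw [this, sub_zero] at hfg
  exact hfg

theorem li_fam [IsDomain K] [Infinite K] (hd : 0 < d) :
    LinearIndependent K (fun c : ChainsIn τs =>
      Ideal.Quotient.mk (JFam K τs) (chainMon K c.2.1)) := by
  rw [linearIndependent_iff']
  intro s a hsum
  apply indep_fam τs hd s a
  rw [← Ideal.Quotient.eq_zero_iff_mem, map_sum]
  rw [← hsum]
  apply Finset.sum_congr rfl
  intro c _
  rfl

theorem span_fam [Nonempty ι] :
    Submodule.span K (Set.range fun c : ChainsIn τs =>
      Ideal.Quotient.mk (JFam K τs) (chainMon K c.2.1)) = ⊤ := by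
  rw [eq_top_iff]
  intro x _
  obtain ⟨f, rfl⟩ := Ideal.Quotient.mk_surjective x
  obtain ⟨g, hg, hfg⟩ := exists_fam_rep τs f
  have : Ideal.Quotient.mk (JFam K τs) f = Ideal.Quotient.mk (JFam K τs) g :=
    Ideal.Quotient.eq.mpr (IFam_le_JFam τs hfg)
  rw [this]
  have hr : (Set.range fun c : ChainsIn τs => Ideal.Quotient.mk (JFam K τs) (chainMon K c.2.1))
      = (Ideal.Quotient.mkₐ K (JFam K τs)).toLinearMap ''
        (Set.range fun c : ChainsIn τs => chainMon K c.2.1) := by
    ext y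
    simp only [Set.mem_range, Set.mem_image]
    constructor
    · rintro ⟨a, rfl⟩; exact ⟨_, ⟨a, rfl⟩, rfl⟩
    · rintro ⟨_, ⟨a, rfl⟩, rfl⟩; exact ⟨a, rfl⟩
  rw [hr, ← Submodule.map_span]
  exact ⟨g, hg, rfl⟩

end Family

end Groth.Agent.Lib.Helper8.Gr
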