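import Mathlib
import Groth.Prelude.Def_W4bk4grassmannianPl
import Groth.Agent.Lib.Helper8.Gr8
set_option backward.isDefEq.respectTransparency.types false
set_option linter.unusedSectionVars false
set_option autoImplicit false
universe u

namespace Groth.Agent.Lib.Helper8.Gr
open W4bk4grassmannian MvPolynomial

variable {K : Type u} [CommRing K] {d n : ℕ}

/-- Evaluation of matrix polynomials at a matrix over a `K`-algebra. -/
noncomputable def evM {R : Type*} [CommRing R] [Algebra K R] (M : Matrix (Fin n) (Fin d) R) :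
    MatRing K d n →ₐ[K] R :=
  MvPolynomial.aeval fun p : Fin n × Fin d => M p.1 p.2

theorem evM_X {R : Type*} [CommRing R] [Algebra K R] (M : Matrix (Fin n) (Fin d) R)
    (p : Fin n × Fin d) : evM (K := K) M (X p) = M p.1 p.2 := by
  unfold evM; rw [aeval_X]

theorem evM_C {R : Type*} [CommRing R] [Algebra K R] (M : Matrix (Fin n) (Fin d) R)
    (c : K) : evM (K := K) M (C c) = algebraMap K R c := by
  unfold evM; rw [aeval_C]

theorem evM_genMat (f : MatRing K d n) : evM (genMat K d n) f = f := by
  unfold evM genMat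
  simp only [Matrix.of_apply, Prod.mk.eta]
  exact MvPolynomial.aeval_X_left_apply f

theorem evM_comp {R R' : Type*} [CommRing R] [Algebra K R] [CommRing R'] [Algebra K R']
    (M : Matrix (Fin n) (Fin d) R) (φ : R →ₐ[K] R') (f : MatRing K d n) :
    φ (evM M f) = evM (M.map φ) f := by
  have : φ.comp (evM (K := K) M) = evM (M.map φ) := by
    apply MvPolynomial.algHom_ext
    intro p
    simp only [AlgHom.comp_apply, evM_X, Matrix.map_apply]
  exact congrArg (fun ψ => ψ f) this

theorem evM_minor {R : Type*} [CommRing R] [Algebra K R] (M : Matrix (Fin n) (Fin d) R)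
    (a : Fin d → Fin n) : evM (K := K) M (minor K d n a) = (M.submatrix a id).det := by
  unfold minor
  rw [AlgHom.map_det]
  congr 1
  ext s t
  simp only [AlgHom.mapMatrix_apply, Matrix.map_apply, Matrix.of_apply, Matrix.submatrix_apply,
    id_eq, evM_X]

theorem rightTranslate_eq (g : Matrix.SpecialLinearGroup (Fin d) K) :
    rightTranslate K d n g
      = evM (genMat K d n * (g : Matrix (Fin d) (Fin d) K).map (C : K → MatRing K d n)) := by
  unfold rightTranslate evM
  congr 1

theorem minor_eq_pluckerMap_coord (a : Fin d → Fin n) :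
    minor K d n a = pluckerMap K d n (coord K d n a) := by
  rw [pluckerMap_eq_evalR, evalR_coord]
  rfl

theorem rightTranslate_minor (g : Matrix.SpecialLinearGroup (Fin d) K) (a : Fin d → Fin n) :
    rightTranslate K d n g (minor K d n a) = minor K d n a := by
  rw [rightTranslate_eq, evM_minor]
  have : (genMat K d n * (g : Matrix (Fin d) (Fin d) K).map (C : K → MatRing K d n)).submatrix a id
      = (genMat K d n).submatrix a id * (g : Matrix (Fin d) (Fin d) K).map (C : K → MatRing K d n) := by
    ext s t
    simp [Matrix.mul_apply]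
  rw [this, Matrix.det_mul]
  have hdet : ((g : Matrix (Fin d) (Fin d) K).map (C : K → MatRing K d n)).det = 1 := by
    have := (RingHom.map_det (C : K →+* MatRing K d n) (g : Matrix (Fin d) (Fin d) K)).symm
    rw [RingHom.mapMatrix_apply] at this
    rw [this, g.det_coe, map_one]
  rw [hdet, mul_one]
  rfl

/-- Easy direction of the first fundamental theorem. -/
theorem invariant_of_mem_adjoin (f : MatRing K d n)
    (hf : f ∈ Algebra.adjoin K (Set.range fun θ : Idx d n => minor K d n θ.1))
    (g : Matrix.SpecialLinearGroup (Fin d) K) : rightTranslate K d n g f = f := by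
  induction hf using Algebra.adjoin_induction with
  | mem x hx =>
    obtain ⟨θ, rfl⟩ := hx
    exact rightTranslate_minor g θ.1
  | algebraMap r => exact AlgHom.commutes _ r
  | add x y _ _ hx hy => rw [map_add, hx, hy]
  | mul x y _ _ hx hy => rw [map_mul, hx, hy]

/-- Invariance at the level of points. -/
theorem evM_mul_SL (f : MatRing K d n)
    (hf : ∀ g : Matrix.SpecialLinearGroup (Fin d) K, rightTranslate K d n g f = f)
    (A : Matrix (Fin n) (Fin d) K) (g : Matrix (Fin d) (Fin d) K) (hg : g.det = 1) :
    evM (A * g) f = evM A f := by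
  have h1 := hf ⟨g, hg⟩
  rw [rightTranslate_eq] at h1
  have h2 := congrArg (evM (K := K) A) h1
  rw [evM_comp] at h2
  have hM : (genMat K d n * (g.map (C : K → MatRing K d n))).map (evM (K := K) A) = A * g := by
    ext s t
    simp only [Matrix.map_apply, Matrix.mul_apply, map_sum, map_mul, genMat, Matrix.of_apply,
      evM_X, evM_C, Algebra.algebraMap_self, RingHom.id_apply]
  rw [hM] at h2
  exact h2

/-- The diagonal matrix `diag(δ, 1, …, 1)` (requires `0 < d`). -/
def Ddiag {R : Type*} [CommRing R] (hd : 0 < d) (δ : R) : Matrix (Fin d) (Fin d) R :=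
  Matrix.diagonal fun t => if t = ⟨0, hd⟩ then δ else 1

theorem det_Ddiag {R : Type*} [CommRing R] (hd : 0 < d) (δ : R) : (Ddiag hd δ).det = δ := by
  unfold Ddiag
  rw [Matrix.det_diagonal, Finset.prod_ite_eq' Finset.univ (⟨0, hd⟩ : Fin d)]
  simp
  
theorem Ddiag_mul {R : Type*} [CommRing R] (hd : 0 < d) (δ ε : R) :
    Ddiag hd δ * Ddiag hd ε = Ddiag hd (δ * ε) := by
  unfold Ddiag
  rw [Matrix.diagonal_mul_diagonal]
  congr 1
  funext t
  split_ifs <;> simp

theorem Ddiag_one {R : Type*} [CommRing R] (hd : 0 < d) : Ddiag hd (1 : R) = 1 := by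
  unfold Ddiag
  rw [← Matrix.diagonal_one]
  congr 1
  funext t
  split_ifs <;> rfl

theorem evM_mul_GL {K : Type u} [Field K] (hd : 0 < d) (f : MatRing K d n)
    (hf : ∀ g : Matrix.SpecialLinearGroup (Fin d) K, rightTranslate K d n g f = f)
    (A : Matrix (Fin n) (Fin d) K) (h : Matrix (Fin d) (Fin d) K) (hh : h.det ≠ 0) :
    evM (A * h) f = evM (A * Ddiag hd h.det) f := by
  have e : A * h = (A * Ddiag hd h.det) * (Ddiag hd (h.det)⁻¹ * h) := by
    rw [Matrix.mul_assoc, ← Matrix.mul_assoc (Ddiag hd h.det), Ddiag_mul, mul_inv_cancel₀ hh,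
      Ddiag_one, Matrix.one_mul]
  rw [e]
  apply evM_mul_SL f hf
  rw [Matrix.det_mul, det_Ddiag, inv_mul_cancel₀ hh]

section Identity

variable {K : Type u} [Field K] [Infinite K] {d n : ℕ}

/-- The ring of polynomials in the entries of a generic `n × d` and a generic `d × d` matrix. -/
abbrev S3 (K : Type u) [Field K] (d n : ℕ) : Type u :=
  MvPolynomial ((Fin n × Fin d) ⊕ (Fin d × Fin d)) K

/-- The generic `n × d` matrix in `S3`. -/
noncomputable def Xl (K : Type u) [Field K] (d n : ℕ) : Matrix (Fin n) (Fin d) (S3 K d n) :=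
  Matrix.of fun s t => X (Sum.inl (s, t))

/-- The generic `d × d` matrix in `S3`. -/
noncomputable def Yr (K : Type u) [Field K] (d n : ℕ) : Matrix (Fin d) (Fin d) (S3 K d n) :=
  Matrix.of fun i j => X (Sum.inr (i, j))

theorem Ddiag_map {R R' : Type*} [CommRing R] [CommRing R'] (hd : 0 < d) (δ : R) (φ : R →+* R') :
    (Ddiag hd δ).map φ = Ddiag hd (φ δ) := by
  unfold Ddiag
  rw [Matrix.diagonal_map (map_zero φ)]
  congr 1
  funext t
  change φ (if t = ⟨0, hd⟩ then δ else 1) = _
  split_ifs
  · rfl
  · exact map_one φ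

theorem map_mul' {R R' : Type*} [CommRing R] [CommRing R'] [Algebra K R] [Algebra K R']
    {m : ℕ} (M : Matrix (Fin m) (Fin d) R) (N : Matrix (Fin d) (Fin d) R) (φ : R →ₐ[K] R') :
    (M * N).map φ = M.map φ * N.map φ := by
  ext s t
  simp only [Matrix.map_apply, Matrix.mul_apply, map_sum, map_mul]

theorem generic_identity (hd : 0 < d) (f : MatRing K d n)
    (hf : ∀ g : Matrix.SpecialLinearGroup (Fin d) K, rightTranslate K d n g f = f) :
    evM (Xl K d n * Yr K d n) f = evM (Xl K d n * Ddiag hd (Yr K d n).det) f := by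
  have hdet_ne : (Yr K d n).det ≠ 0 := by
    intro h0
    have := congrArg (MvPolynomial.aeval (R := K)
      (fun v : (Fin n × Fin d) ⊕ (Fin d × Fin d) =>
        Sum.elim (fun _ => (0 : K)) (fun q => if q.1 = q.2 then 1 else 0) v)) h0
    rw [AlgHom.map_det, map_zero] at this
    have h1 : (AlgHom.mapMatrix (MvPolynomial.aeval (R := K)
      (fun v : (Fin n × Fin d) ⊕ (Fin d × Fin d) =>
        Sum.elim (fun _ => (0 : K)) (fun q => if q.1 = q.2 then 1 else 0) v))) (Yr K d n)
        = (1 : Matrix (Fin d) (Fin d) K) := by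
      ext i j
      simp only [AlgHom.mapMatrix_apply, Matrix.map_apply, Yr, Matrix.of_apply, aeval_X,
        Sum.elim_inr, Matrix.one_apply]
    rw [h1, Matrix.det_one] at this
    exact one_ne_zero this
  have key : (evM (Xl K d n * Yr K d n) f - evM (Xl K d n * Ddiag hd (Yr K d n).det) f)
      * (Yr K d n).det = 0 := by
    apply MvPolynomial.funext
    intro z
    change (MvPolynomial.aeval z : S3 K d n →ₐ[K] K) _ = (MvPolynomial.aeval z : S3 K d n →ₐ[K] K) 0
    rw [map_zero, map_mul, map_sub, evM_comp, evM_comp, map_mul', map_mul']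
    set φ : S3 K d n →ₐ[K] K := MvPolynomial.aeval z with hφ
    set A : Matrix (Fin n) (Fin d) K := (Xl K d n).map φ with hA
    set h : Matrix (Fin d) (Fin d) K := (Yr K d n).map φ with hh
    have hdet : φ (Yr K d n).det = h.det := by
      rw [AlgHom.map_det]; rfl
    have hD : (Ddiag hd (Yr K d n).det).map φ = Ddiag hd h.det := by
      have := Ddiag_map hd (Yr K d n).det φ.toRingHom
      rw [← hdet]
      exact this
    rw [hD, hdet]
    by_cases h0 : h.det = 0
    · rw [h0, mul_zero]
    · rw [evM_mul_GL hd f hf A h h0, sub_self, zero_mul]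
  rcases mul_eq_zero.mp key with h | h
  · exact sub_eq_zero.mp h
  · exact absurd h hdet_ne

/-- Specialisation of the generic identity. -/
theorem spade (hd : 0 < d) (f : MatRing K d n)
    (hf : ∀ g : Matrix.SpecialLinearGroup (Fin d) K, rightTranslate K d n g f = f)
    (H : Matrix (Fin d) (Fin d) (MatRing K d n)) :
    evM (genMat K d n * H) f = evM (genMat K d n * Ddiag hd H.det) f := by
  set spec : S3 K d n →ₐ[K] MatRing K d n :=
    MvPolynomial.aeval (Sum.elim (fun p => X p) (fun q => H q.1 q.2)) with hspec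
  have h1 := congrArg spec (generic_identity hd f hf)
  rw [evM_comp, evM_comp, map_mul', map_mul'] at h1
  have hX : (Xl K d n).map spec = genMat K d n := by
    ext s t
    simp only [Matrix.map_apply, Xl, genMat, Matrix.of_apply, hspec, aeval_X, Sum.elim_inl]
  have hY : (Yr K d n).map spec = H := by
    ext s t
    simp only [Matrix.map_apply, Yr, Matrix.of_apply, hspec, aeval_X, Sum.elim_inr]
  have hdet : spec (Yr K d n).det = H.det := by
    rw [AlgHom.map_det]
    congr 1
  have hD : (Ddiag hd (Yr K d n).det).map spec = Ddiag hd H.det := by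
    have := Ddiag_map hd (Yr K d n).det spec.toRingHom
    rw [← hdet]
    exact this
  rw [hX, hY, hD] at h1
  exact h1

theorem spade_eq (hd : 0 < d) (f : MatRing K d n)
    (hf : ∀ g : Matrix.SpecialLinearGroup (Fin d) K, rightTranslate K d n g f = f)
    (H₁ H₂ : Matrix (Fin d) (Fin d) (MatRing K d n)) (h : H₁.det = H₂.det) :
    evM (genMat K d n * H₁) f = evM (genMat K d n * H₂) f := by
  rw [spade hd f hf H₁, spade hd f hf H₂, h]

end Identity

end Groth.Agent.Lib.Helper8.Gr
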