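import Mathlib
import Groth.Prelude.Def_W4bk4grassmannianPl
import Groth.Agent.Lib.Helper8.Gr11
set_option backward.isDefEq.respectTransparency.types false
set_option linter.unusedSectionVars false
set_option autoImplicit false
universe u

namespace Groth.Agent.Lib.Helper8.Gr
open W4bk4grassmannian MvPolynomial

variable {K : Type u} [CommRing K] {d n : ℕ}

/-- The subalgebra generated by the maximal minors. -/
noncomputable def Bsub (K : Type u) [CommRing K] (d n : ℕ) : Subalgebra K (MatRing K d n) :=
  Algebra.adjoin K (Set.range fun θ : Idx d n => minor K d n θ.1)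

theorem Bsub_eq_range : Bsub K d n = (pluckerMap K d n).range := by
  unfold Bsub pluckerMap
  exact Algebra.adjoin_range_eq_range_aeval K _

theorem minor_mem_Bsub (a : Fin d → Fin n) : minor K d n a ∈ Bsub K d n := by
  rw [Bsub_eq_range, minor_eq_pluckerMap_coord]
  exact ⟨_, rfl⟩

theorem evM_mem_Bsub (M : Matrix (Fin n) (Fin d) (MatRing K d n))
    (hM : ∀ s t, M s t ∈ Bsub K d n) (f : MatRing K d n) : evM M f ∈ Bsub K d n := by
  have h1 : evM M f ∈ (MvPolynomial.aeval (R := K) fun p : Fin n × Fin d => M p.1 p.2).range :=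
    ⟨f, rfl⟩
  rw [← Algebra.adjoin_range_eq_range_aeval] at h1
  refine Algebra.adjoin_le ?_ h1
  rintro _ ⟨p, rfl⟩
  exact hM p.1 p.2

theorem sum_mul_adjugate {R : Type*} [CommRing R] (A : Matrix (Fin d) (Fin d) R) (v : Fin d → R)
    (t : Fin d) : ∑ k, v k * A.adjugate k t = (A.updateRow t v).det := by
  rw [← Matrix.cramer_transpose_apply, Matrix.cramer_eq_adjugate_mulVec, ← Matrix.adjugate_transpose,
    Matrix.mulVec, dotProduct]
  apply Finset.sum_congr rfl
  intro k _
  rw [Matrix.transpose_apply, mul_comm]

section Top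

variable (hdn : d < n)

/-- The least index `(0, 1, …, d-1)`. -/
def iota0 (hdn : d < n) : Idx d n :=
  ⟨fun t => ⟨t.val, lt_trans t.isLt hdn⟩, fun _ _ h => h⟩

/-- The top `d × d` block of the generic matrix. -/
noncomputable def X0 (K : Type u) [CommRing K] (hdn : d < n) : Matrix (Fin d) (Fin d) (MatRing K d n) :=
  (genMat K d n).submatrix (iota0 hdn).1 id

theorem det_X0 : (X0 K hdn).det = minor K d n (iota0 hdn).1 := rfl

theorem genMat_mul_adjugate (s : Fin n) (t : Fin d) :
    (genMat K d n * (X0 K hdn).adjugate) s t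
      = minor K d n (Function.update (iota0 hdn).1 t s) := by
  rw [Matrix.mul_apply, sum_mul_adjugate]
  unfold minor
  congr 1
  ext t' c
  simp only [Matrix.updateRow_apply, Matrix.of_apply, X0, genMat, Matrix.submatrix_apply, id_eq]
  by_cases h : t' = t
  · subst h
    simp
  · rw [if_neg h, Function.update_of_ne h]

/-- `H₁ = adj(X₀) · diag(p_ι, 1, …, 1)`. -/
noncomputable def H1 (K : Type u) [CommRing K] (hd : 0 < d) (hdn : d < n) :
    Matrix (Fin d) (Fin d) (MatRing K d n) :=
  (X0 K hdn).adjugate * Ddiag hd (X0 K hdn).det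

theorem det_H1 (hd : 0 < d) : (H1 K hd hdn).det = (X0 K hdn).det ^ d := by
  unfold H1
  rw [Matrix.det_mul, det_Ddiag, Matrix.det_adjugate, Fintype.card_fin, ← pow_succ]
  congr 1
  omega

theorem det_smul_one (c : MatRing K d n) :
    (c • (1 : Matrix (Fin d) (Fin d) (MatRing K d n))).det = c ^ d := by
  rw [Matrix.det_smul, Matrix.det_one, mul_one, Fintype.card_fin]

theorem genMat_mul_H1_mem (hd : 0 < d) (s : Fin n) (t : Fin d) :
    (genMat K d n * H1 K hd hdn) s t ∈ Bsub K d n := by
  unfold H1
  rw [← Matrix.mul_assoc]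
  unfold Ddiag
  rw [Matrix.mul_diagonal, genMat_mul_adjugate]
  apply Subalgebra.mul_mem _ (minor_mem_Bsub _)
  split_ifs
  · rw [det_X0]; exact minor_mem_Bsub _
  · exact Subalgebra.one_mem _

end Top

/-- Scaling a homogeneous polynomial. -/
theorem evM_smul_of_homogeneous (c : MatRing K d n) (f : MatRing K d n) (N : ℕ)
    (hf : f.IsHomogeneous N) : evM (c • genMat K d n) f = c ^ N * f := by
  have hmon : ∀ (m : Fin n × Fin d →₀ ℕ) (a : K), m.degree = N →
      evM (c • genMat K d n) (monomial m a) = c ^ N * monomial m a := by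
    intro m a hm
    unfold evM
    rw [aeval_monomial]
    simp only [Matrix.smul_apply, genMat, Matrix.of_apply, Prod.mk.eta, smul_eq_mul]
    have : (m.prod fun i k => (c * (X i : MatRing K d n)) ^ k)
        = c ^ N * m.prod fun i k => (X i : MatRing K d n) ^ k := by
      simp only [mul_pow]
      rw [Finsupp.prod_mul]
      congr 1
      unfold Finsupp.prod
      rw [Finset.prod_pow_eq_pow_sum, ← hm]
      rfl
    rw [this, monomial_eq]
    simp only [algebraMap_eq]
    ring
  rw [f.as_sum, map_sum, Finset.mul_sum]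
  apply Finset.sum_congr rfl
  intro m hm
  apply hmon
  have := hf (mem_support_iff.mp hm)
  rw [← this]
  simp [Finsupp.degree, Finsupp.weight_apply, Finsupp.sum]

theorem evM_genMat_mul_smul_one (c : MatRing K d n) (f : MatRing K d n) :
    evM (genMat K d n * (c • (1 : Matrix (Fin d) (Fin d) (MatRing K d n)))) f
      = evM (c • genMat K d n) f := by
  rw [Matrix.mul_smul, Matrix.mul_one]

theorem rightTranslate_isHomogeneous (g : Matrix.SpecialLinearGroup (Fin d) K) (φ : MatRing K d n)
    (N : ℕ) (hφ : φ.IsHomogeneous N) : (rightTranslate K d n g φ).IsHomogeneous N := by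
  unfold rightTranslate
  have := hφ.aeval (S := K) (n := 1)
    (fun p : Fin n × Fin d => ∑ k : Fin d, X (p.1, k) * C ((g : Matrix (Fin d) (Fin d) K) k p.2))
    (by
      intro p
      apply IsHomogeneous.sum
      intro k _
      have := (isHomogeneous_X K ((p.1, k) : Fin n × Fin d)).mul
        (isHomogeneous_C (Fin n × Fin d) ((g : Matrix (Fin d) (Fin d) K) k p.2))
      simpa using this)
  rw [one_mul] at this
  exact this

theorem homogeneousComponent_rightTranslate (g : Matrix.SpecialLinearGroup (Fin d) K)
    (φ : MatRing K d n) (N : ℕ) :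
    homogeneousComponent N (rightTranslate K d n g φ)
      = rightTranslate K d n g (homogeneousComponent N φ) := by
  conv_lhs => rw [← sum_homogeneousComponent φ]
  rw [map_sum, map_sum]
  have : ∀ i ∈ Finset.range (φ.totalDegree + 1),
      homogeneousComponent N (rightTranslate K d n g (homogeneousComponent i φ))
        = if N = i then rightTranslate K d n g (homogeneousComponent i φ) else 0 := by
    intro i _
    exact homogeneousComponent_of_mem
      (rightTranslate_isHomogeneous g _ i (homogeneousComponent_isHomogeneous i φ))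
  rw [Finset.sum_congr rfl this, Finset.sum_ite_eq]
  split_ifs with h
  · rfl
  · rw [Finset.mem_range, not_lt] at h
    rw [homogeneousComponent_eq_zero _ _ (by omega), map_zero]

end Groth.Agent.Lib.Helper8.Gr
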