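import Mathlib
import Groth.Prelude.Def_W4bk4grassmannianPl
import Groth.Agent.Lib.Helper8.Gr12
set_option backward.isDefEq.respectTransparency.types false
set_option linter.unusedSectionVars false
set_option autoImplicit false
universe u

namespace Groth.Agent.Lib.Helper8.Gr
open W4bk4grassmannian MvPolynomial
open scoped MonomialOrder

section Deg

variable {σ ι R : Type*} [CommRing R] (m : MonomialOrder σ) (f : ι → MvPolynomial σ R)

theorem degree_of_combination (s : Finset ι) (hmonic : ∀ i ∈ s, m.Monic (f i))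
    (hinj : Set.InjOn (fun i => m.degree (f i)) (s : Set ι))
    (a : ι → R) (hne : ∃ i ∈ s, a i ≠ 0) :
    ∃ i₀ ∈ s, a i₀ ≠ 0 ∧ m.degree (∑ i ∈ s, a i • f i) = m.degree (f i₀) := by
  obtain ⟨i₀, hi₀, h0, hco, hle⟩ := lead_of_combination m f s hmonic hinj a hne
  refine ⟨i₀, hi₀, h0, ?_⟩
  set F := ∑ i ∈ s, a i • f i with hFdef
  have h1 : m.degree (f i₀) ≼[m] m.degree F := by
    apply m.le_degree
    rw [mem_support_iff, hco]; exact h0
  have h2 : m.degree F ≼[m] m.degree (f i₀) := by
    rw [MonomialOrder.degree_le_iff]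
    intro c hc
    rw [mem_support_iff, hFdef, coeff_sum] at hc
    obtain ⟨i, hi, hci⟩ := Finset.exists_ne_zero_of_sum_ne_zero hc
    rw [coeff_smul] at hci
    have hai : a i ≠ 0 := by
      intro h; rw [h, zero_smul] at hci; exact hci rfl
    have hcf : coeff c (f i) ≠ 0 := by
      intro h; rw [h, smul_zero] at hci; exact hci rfl
    exact le_trans (m.le_degree (mem_support_iff.mpr hcf)) (hle i hi hai)
  exact (m.toSyn.injective (le_antisymm h1 h2)).symm

end Deg

variable {K : Type u} [Field K] {d n : ℕ}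

/-- All standard chains. -/
abbrev AllChains (d n : ℕ) : Type := Σ m : ℕ, {c : Fin m → Idx d n // Antitone c}

/-- The chain ends with the least index. -/
def EndsIota (hdn : d < n) (c : AllChains d n) : Prop :=
  ∃ hm : 0 < c.1, c.2.1 ⟨c.1 - 1, by omega⟩ = iota0 hdn

theorem psi_ends (hdn : d < n) (c : AllChains d n) (hc : EndsIota hdn c) :
    ∃ c' : AllChains d n, psi K (PT (n := n) (d := d)) (chainMon K c.2.1)
      = psi K (PT (n := n) (d := d)) (X (iota0 hdn))
        * psi K (PT (n := n) (d := d)) (chainMon K c'.2.1) := by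
  obtain ⟨m, ⟨c, hanti⟩⟩ := c
  obtain ⟨hm, hlast⟩ := hc
  simp only at hm hlast
  cases m with
  | zero => exact absurd hm (lt_irrefl 0)
  | succ m' =>
    refine ⟨⟨m', ⟨fun k => c (Fin.castSucc k), fun x y hxy => hanti (Fin.castSucc_le_castSucc_iff.mpr hxy)⟩⟩, ?_⟩
    simp only
    unfold chainMon
    rw [Fin.prod_univ_castSucc, map_mul, mul_comm]
    congr 2
    rw [← hlast]
    congr 1

theorem ends_of_le (hd : 0 < d) (hdn : d < n) (c : AllChains d n)
    (hE : ∀ t : Fin d, 1 ≤ Eexp c.2.1 (toLex (t, (iota0 hdn).1 t))) : EndsIota hdn c := by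
  obtain ⟨m, ⟨c, hanti⟩⟩ := c
  simp only at hE
  have hex : ∀ t : Fin d, ∃ k : Fin m, (c k).1 t = (iota0 hdn).1 t := by
    intro t
    have h1 := hE t
    rw [Eexp_apply] at h1
    have h2 : (∑ k : Fin m, if (c k).1 t = (iota0 hdn).1 t then 1 else 0) ≠ 0 := by omega
    obtain ⟨k, _, hk⟩ := Finset.exists_ne_zero_of_sum_ne_zero h2
    refine ⟨k, ?_⟩
    by_contra hcon
    rw [if_neg hcon] at hk
    exact hk rfl
  have hm : 0 < m := by
    obtain ⟨k, _⟩ := hex ⟨0, hd⟩
    exact lt_of_le_of_lt (Nat.zero_le _) k.isLt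
  refine ⟨hm, ?_⟩
  simp only
  apply Subtype.ext
  funext t
  obtain ⟨k, hk⟩ := hex t
  have hle : (c ⟨m - 1, by omega⟩).1 t ≤ (c k).1 t := by
    apply hanti
    rw [Fin.le_def]
    have := k.isLt
    simp only
    omega
  rw [hk] at hle
  apply le_antisymm hle
  rw [Fin.le_def]
  exact le_val_of_strictMono _ (c ⟨m - 1, by omega⟩).2 t.val t rfl

theorem allChains_ext {c c' : AllChains d n}
    (h : (⟨c.1, c.2.1⟩ : Σ m : ℕ, (Fin m → Idx d n)) = ⟨c'.1, c'.2.1⟩) : c = c' := by
  rcases c with ⟨m, ⟨c, hc⟩⟩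
  rcases c' with ⟨m', ⟨c', hc'⟩⟩
  simp only [Sigma.mk.injEq] at h
  obtain ⟨rfl, h2⟩ := h
  have := eq_of_heq h2
  subst this
  rfl

/-- Divisibility by the least Plücker coordinate stays inside the algebra of minors
(leading-term ring version). -/
theorem stepE (hd : 0 < d) (hdn : d < n) (h' : MvPolynomial (LVar d n) K)
    (hmem : psi K (PT (n := n) (d := d)) (X (iota0 hdn)) * h'
      ∈ (psi K (PT (n := n) (d := d))).range) :
    h' ∈ (psi K (PT (n := n) (d := d))).range := by
  classical
  set ψ := psi K (PT (n := n) (d := d)) with hψ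
  set p' := ψ (X (iota0 hdn)) with hp'
  obtain ⟨β, hβ⟩ := (AlgHom.mem_range _).mp hmem
  obtain ⟨g, hg, hβg⟩ := exists_std_rep β
  have hψβ : ψ β = ψ g := by
    have := psi_plIdealTop (PT (n := n) (d := d)) _ hβg
    rw [map_sub, sub_eq_zero] at this
    exact this
  rw [Finsupp.mem_span_range_iff_exists_finsupp] at hg
  obtain ⟨a, rfl⟩ := hg
  have hgood : ∀ (c : AllChains d n) (k : Fin c.1), Good (PT (n := n) (d := d)) (c.2.1 k) :=
    fun c k => good_PT _
  -- the chosen initial segments
  let initC : AllChains d n → AllChains d n := fun c =>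
    if hc : EndsIota hdn c then Classical.choose (psi_ends (K := K) hdn c hc) else c
  have hinit : ∀ c, EndsIota hdn c → ψ (chainMon K c.2.1) = p' * ψ (chainMon K (initC c).2.1) := by
    intro c hc
    have hi : initC c = Classical.choose (psi_ends (K := K) hdn c hc) := dif_pos hc
    rw [hi]
    exact Classical.choose_spec (psi_ends (K := K) hdn c hc)
  set E₁ := a.support.filter (fun c => EndsIota hdn c) with hE₁
  set E₂ := a.support.filter (fun c => ¬ EndsIota hdn c) with hE₂
  set b₁ : MvPolynomial (LVar d n) K := ∑ c ∈ E₁, a c • ψ (chainMon K (initC c).2.1) with hb₁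
  set b₂ : MvPolynomial (LVar d n) K := ∑ c ∈ E₂, a c • ψ (chainMon K c.2.1) with hb₂
  have hsplit : ψ (a.sum fun c r => r • chainMon K c.2.1) = p' * b₁ + b₂ := by
    unfold Finsupp.sum
    rw [map_sum]
    simp only [map_smul]
    rw [← Finset.sum_filter_add_sum_filter_not a.support (fun c => EndsIota hdn c)]
    congr 1
    rw [hb₁, Finset.mul_sum]
    apply Finset.sum_congr rfl
    intro c hc
    rw [hinit c (Finset.mem_filter.mp hc).2, mul_smul_comm]
  have hb₁mem : b₁ ∈ ψ.range := by
    refine (AlgHom.mem_range _).mpr ⟨∑ c ∈ E₁, a c • chainMon K (initC c).2.1, ?_⟩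
    rw [map_sum]
    apply Finset.sum_congr rfl
    intro c _
    rw [map_smul]
  have hrel : p' * (h' - b₁) = b₂ := by
    have : p' * h' = p' * b₁ + b₂ := by rw [← hβ, hψβ, hsplit]
    rw [mul_sub, this]; ring
  have hp'monic : (mo d n).Monic p' := monic_psi_X _ _ (good_PT _)
  have hp'deg : (mo d n).degree p' = Dexp (iota0 hdn).1 := degree_psi_X _ _ (good_PT _)
  have hb₂ : b₂ = 0 := by
    by_contra hb₂ne
    have hne : ∃ c ∈ E₂, a c ≠ 0 := by
      by_contra hcon
      push Not at hcon
      apply hb₂ne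
      rw [hb₂]
      apply Finset.sum_eq_zero
      intro c hc
      rw [hcon c hc, zero_smul]
    obtain ⟨c₀, hc₀, _, hdeg⟩ := degree_of_combination (mo d n)
      (fun c : AllChains d n => ψ (chainMon K c.2.1)) E₂
      (fun c _ => monic_psi_chainMon _ _ (hgood c))
      (by
        intro c _ c' _ hdeg
        simp only at hdeg
        rw [degree_psi_chainMon _ _ (hgood c), degree_psi_chainMon _ _ (hgood c')] at hdeg
        exact allChains_ext (Eexp_inj hd c.2.1 c'.2.1 c.2.2 c'.2.2 hdeg))
      a hne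
    rw [degree_psi_chainMon _ _ (hgood c₀)] at hdeg
    have hune : h' - b₁ ≠ 0 := by
      intro h0
      rw [h0, mul_zero] at hrel
      exact hb₂ne hrel.symm
    have hmul : (mo d n).degree (p' * (h' - b₁)) = (mo d n).degree p' + (mo d n).degree (h' - b₁) := by
      apply MonomialOrder.degree_mul_of_isRegular_left _ hune
      rw [hp'monic.leadingCoeff_eq_one]
      exact isRegular_one
    rw [hrel] at hmul
    change (mo d n).degree b₂ = _ at hmul
    rw [hdeg, hp'deg] at hmul
    have hends : EndsIota hdn c₀ := by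
      apply ends_of_le hd hdn
      intro t
      rw [hmul, Finsupp.add_apply, Dexp_apply, if_pos rfl]
      exact Nat.le_add_right _ _
    exact (Finset.mem_filter.mp hc₀).2 hends
  rw [hb₂] at hrel
  have hp'ne : p' ≠ 0 := hp'monic.ne_zero
  have : h' - b₁ = 0 := by
    rcases mul_eq_zero.mp hrel with h | h
    · exact absurd h hp'ne
    · exact h
  rw [sub_eq_zero] at this
  rw [this]
  exact hb₁mem

/-- The renaming of variables between the matrix ring and the leading-term ring. -/
def eqv (d n : ℕ) : Fin n × Fin d ≃ LVar d n := (Equiv.prodComm (Fin n) (Fin d)).trans toLex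

/-- The induced algebra isomorphism. -/
noncomputable def rho (K : Type u) [Field K] (d n : ℕ) :
    MatRing K d n ≃ₐ[K] MvPolynomial (LVar d n) K :=
  MvPolynomial.renameEquiv K (eqv d n)

theorem rho_X (p : Fin n × Fin d) : rho K d n (X p) = X (toLex (p.2, p.1)) := by
  unfold rho
  rw [MvPolynomial.renameEquiv_apply, MvPolynomial.rename_X]
  rfl

theorem rho_pluckerMap (β : PlRing K d n) :
    rho K d n (pluckerMap K d n β) = psi K (PT (n := n) (d := d)) β := by
  have : ((rho K d n : MatRing K d n →ₐ[K] MvPolynomial (LVar d n) K)).comp (pluckerMap K d n)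
      = psi K (PT (n := n) (d := d)) := by
    apply MvPolynomial.algHom_ext
    intro θ
    simp only [AlgHom.comp_apply]
    unfold psi
    rw [pluckerMap_eq_evalR, evalR_X, evalR_X, AlgHom.map_det]
    congr 1
    refine Matrix.ext (fun s t => ?_)
    simp only [AlgHom.mapMatrix_apply, Matrix.map_apply, Matrix.submatrix_apply, id_eq, genMat,
      Matrix.of_apply, MP, PT, if_true]
    exact rho_X (K := K) (θ.1 s, t)
  exact congrArg (fun φ => φ β) this

/-- Divisibility by the least Plücker coordinate stays inside the algebra of minors. -/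
theorem stepE_mat (hd : 0 < d) (hdn : d < n) (h : MatRing K d n)
    (hmem : minor K d n (iota0 hdn).1 * h ∈ Bsub K d n) : h ∈ Bsub K d n := by
  rw [Bsub_eq_range] at hmem ⊢
  obtain ⟨β, hβ⟩ := (AlgHom.mem_range _).mp hmem
  have h1 : psi K (PT (n := n) (d := d)) (X (iota0 hdn)) * rho K d n h
      ∈ (psi K (PT (n := n) (d := d))).range := by
    refine (AlgHom.mem_range _).mpr ⟨β, ?_⟩
    rw [← rho_pluckerMap, hβ, map_mul, ← rho_pluckerMap]
    congr 2
    unfold pluckerMap
    rw [aeval_X]
  obtain ⟨β', hβ'⟩ := (AlgHom.mem_range _).mp (stepE hd hdn _ h1)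
  refine (AlgHom.mem_range _).mpr ⟨β', ?_⟩
  apply (rho K d n).injective
  rw [rho_pluckerMap, hβ']

theorem stepE_pow (hd : 0 < d) (hdn : d < n) (N : ℕ) (h : MatRing K d n)
    (hmem : minor K d n (iota0 hdn).1 ^ N * h ∈ Bsub K d n) : h ∈ Bsub K d n := by
  induction N with
  | zero => simpa using hmem
  | succ N ih =>
    apply ih
    apply stepE_mat hd hdn
    rw [← mul_assoc, ← pow_succ']
    exact hmem

/-- First fundamental theorem for `SL_d`, hard direction. -/
theorem mem_Bsub_of_invariant [Infinite K] (hd : 0 < d) (hdn : d < n) (f : MatRing K d n)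
    (hf : ∀ g : Matrix.SpecialLinearGroup (Fin d) K, rightTranslate K d n g f = f) :
    f ∈ Bsub K d n := by
  rw [← sum_homogeneousComponent f]
  apply Subalgebra.sum_mem
  intro N _
  set fN := homogeneousComponent N f with hfN
  have hinv : ∀ g : Matrix.SpecialLinearGroup (Fin d) K, rightTranslate K d n g fN = fN := by
    intro g
    rw [hfN, ← homogeneousComponent_rightTranslate, hf g]
  have hhom : fN.IsHomogeneous N := homogeneousComponent_isHomogeneous N f
  have h1 := spade_eq hd fN hinv (H1 K hd hdn)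
    ((X0 K hdn).det • (1 : Matrix (Fin d) (Fin d) (MatRing K d n)))
    (by rw [det_H1, det_smul_one])
  rw [evM_genMat_mul_smul_one, evM_smul_of_homogeneous _ _ N hhom, det_X0] at h1
  apply stepE_pow hd hdn N
  rw [← h1]
  exact evM_mem_Bsub _ (genMat_mul_H1_mem hdn hd) fN

end Groth.Agent.Lib.Helper8.Gr
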