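import Mathlib
import Groth.Prelude.Def_W4bk4grassmannianPl
import Groth.Agent.Lib.Helper8.Gr13
set_option backward.isDefEq.respectTransparency.types false
set_option linter.unusedSectionVars false
set_option autoImplicit false
universe u

namespace Groth.Agent.Lib.Helper8.Gr
open W4bk4grassmannian MvPolynomial
open scoped MonomialOrder

variable {K : Type u} [Field K] {d n : ℕ}

/-- The pattern matrix inside the matrix ring. -/
noncomputable def MPm (K : Type u) [Field K] {d n : ℕ} (P : Fin n → Fin d → Prop)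
    [∀ s t, Decidable (P s t)] : Matrix (Fin n) (Fin d) (MatRing K d n) :=
  Matrix.of fun s t => if P s t then X (s, t) else 0

/-- Matrices supported on the Schubert pattern of `τ`. -/
def Supp (τ : Idx d n) {R : Type*} [Zero R] (A : Matrix (Fin n) (Fin d) R) : Prop :=
  ∀ s t, ¬ s ≤ τ.1 t → A s t = 0

theorem supp_MPm (τ : Idx d n) : Supp τ (MPm K (PS τ)) := by
  intro s t h
  unfold MPm
  rw [Matrix.of_apply, if_neg (show ¬ PS τ s t from h)]

theorem map_mul'' {K : Type u} [CommRing K] {R R' : Type*} [CommRing R] [CommRing R'] [Algebra K R]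
    [Algebra K R'] {d m : ℕ} (M : Matrix (Fin m) (Fin d) R) (N : Matrix (Fin d) (Fin d) R)
    (φ : R →ₐ[K] R') : (M * N).map φ = M.map φ * N.map φ := by
  ext s t
  simp only [Matrix.map_apply, Matrix.mul_apply, map_sum, map_mul]

theorem supp_mul (τ : Idx d n) {R : Type*} [CommRing R] (A : Matrix (Fin n) (Fin d) R)
    (hA : Supp τ A) (g : Matrix (Fin d) (Fin d) R) (hg : g.IsUpperTriangular) :
    Supp τ (A * g) := by
  intro s t' h
  rw [Matrix.mul_apply]
  apply Finset.sum_eq_zero
  intro t _
  by_cases htt : t ≤ t'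
  · have : ¬ s ≤ τ.1 t := fun hs => h (le_trans hs (τ.2.monotone htt))
    rw [hA s t this, zero_mul]
  · have : g t t' = 0 := hg (by simpa using not_le.mp htt)
    rw [this, mul_zero]

theorem supp_map (τ : Idx d n) {R R' : Type*} [CommRing R] [CommRing R']
    (A : Matrix (Fin n) (Fin d) R) (hA : Supp τ A) (φ : R →+* R') : Supp τ (A.map φ) := by
  intro s t h
  rw [Matrix.map_apply, hA s t h, map_zero]

theorem MPm_map_evM (τ : Idx d n) {R : Type*} [CommRing R] [Algebra K R]
    (A : Matrix (Fin n) (Fin d) R) (hA : Supp τ A) :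
    (MPm K (PS τ)).map (evM (K := K) A) = A := by
  ext s t
  unfold MPm
  rw [Matrix.map_apply, Matrix.of_apply]
  by_cases h : PS τ s t
  · rw [if_pos h, evM_X]
  · rw [if_neg h, map_zero, hA s t h]

/-- The "Borel translate" of a matrix polynomial on the Schubert pattern. -/
noncomputable def rhoB (τ : Idx d n) (g : Matrix (Fin d) (Fin d) K) : MatRing K d n →ₐ[K] MatRing K d n :=
  evM (MPm K (PS τ) * g.map (C : K → MatRing K d n))

/-- The invariants of the Borel subgroup of `SL_d` on the pattern. -/
def InvB (τ : Idx d n) (f : MatRing K d n) : Prop :=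
  ∀ g : Matrix (Fin d) (Fin d) K, g.IsUpperTriangular → g.det = 1 → rhoB τ g f = f

/-- The algebra of pattern minors. -/
noncomputable def Btau (K : Type u) [Field K] {d n : ℕ} (τ : Idx d n) : Subalgebra K (MatRing K d n) :=
  (evalR (K := K) (MPm K (PS τ))).range

theorem upper_map_C (g : Matrix (Fin d) (Fin d) K) (hg : g.IsUpperTriangular) :
    (g.map (C : K → MatRing K d n)).IsUpperTriangular := by
  intro i j hij
  rw [Matrix.map_apply, hg hij, map_zero]

theorem det_map_C (g : Matrix (Fin d) (Fin d) K) :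
    (g.map (C : K → MatRing K d n)).det = C g.det := by
  have := (RingHom.map_det (C : K →+* MatRing K d n) g).symm
  rw [RingHom.mapMatrix_apply] at this
  exact this

/-- Pattern minors are Borel invariant. -/
theorem rhoB_evalR (τ : Idx d n) (g : Matrix (Fin d) (Fin d) K) (hg : g.IsUpperTriangular)
    (hdet : g.det = 1) (β : PlRing K d n) :
    rhoB τ g (evalR (K := K) (MPm K (PS τ)) β) = evalR (K := K) (MPm K (PS τ)) β := by
  have : (rhoB τ g).comp (evalR (K := K) (MPm K (PS τ))) = evalR (K := K) (MPm K (PS τ)) := by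
    apply MvPolynomial.algHom_ext
    intro θ
    simp only [AlgHom.comp_apply]
    rw [evalR_X]
    unfold rhoB
    rw [AlgHom.map_det]
    have hmap : (AlgHom.mapMatrix (evM (K := K) (MPm K (PS τ) * g.map (C : K → MatRing K d n))))
        ((MPm K (PS τ)).submatrix θ.1 id)
        = (MPm K (PS τ)).submatrix θ.1 id * g.map (C : K → MatRing K d n) := by
      have h1 := MPm_map_evM (K := K) τ (MPm K (PS τ) * g.map (C : K → MatRing K d n))
        (supp_mul τ _ (supp_MPm τ) _ (upper_map_C g hg))
      ext s t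
      have h2 := congrFun (congrFun h1 (θ.1 s)) t
      simp only [AlgHom.mapMatrix_apply, Matrix.map_apply, Matrix.submatrix_apply, id_eq] at h2 ⊢
      rw [h2]
      simp [Matrix.mul_apply]
    rw [hmap, Matrix.det_mul, det_map_C, hdet, map_one, mul_one]
  exact congrArg (fun φ => φ β) this

theorem invB_of_mem (τ : Idx d n) (f : MatRing K d n) (hf : f ∈ Btau K τ) : InvB τ f := by
  obtain ⟨β, rfl⟩ := (AlgHom.mem_range _).mp hf
  intro g hg hdet
  exact rhoB_evalR τ g hg hdet β

/-- Invariance at the level of points. -/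
theorem evM_mul_B (τ : Idx d n) (f : MatRing K d n) (hf : InvB τ f)
    (A : Matrix (Fin n) (Fin d) K) (hA : Supp τ A) (g : Matrix (Fin d) (Fin d) K)
    (hg : g.IsUpperTriangular) (hdet : g.det = 1) :
    evM (A * g) f = evM A f := by
  have h1 := hf g hg hdet
  unfold rhoB at h1
  have h2 := congrArg (evM (K := K) A) h1
  rw [evM_comp] at h2
  have hM : (MPm K (PS τ) * (g.map (C : K → MatRing K d n))).map (evM (K := K) A) = A * g := by
    rw [map_mul'', MPm_map_evM τ A hA]
    congr 1
    ext s t
    simp only [Matrix.map_apply, evM_C, Algebra.algebraMap_self, RingHom.id_apply]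
  rw [hM] at h2
  exact h2

theorem upper_Ddiag {R : Type*} [CommRing R] (hd : 0 < d) (δ : R) :
    (Ddiag hd δ).IsUpperTriangular := by
  unfold Ddiag
  exact Matrix.blockTriangular_diagonal _

theorem evM_mul_B' (hd : 0 < d) (τ : Idx d n) (f : MatRing K d n) (hf : InvB τ f)
    (A : Matrix (Fin n) (Fin d) K) (hA : Supp τ A) (h : Matrix (Fin d) (Fin d) K)
    (hh : h.IsUpperTriangular) (hdet : h.det ≠ 0) :
    evM (A * h) f = evM (A * Ddiag hd h.det) f := by
  have e : A * h = (A * Ddiag hd h.det) * (Ddiag hd (h.det)⁻¹ * h) := by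
    rw [Matrix.mul_assoc, ← Matrix.mul_assoc (Ddiag hd h.det), Ddiag_mul, mul_inv_cancel₀ hdet,
      Ddiag_one, Matrix.one_mul]
  rw [e]
  apply evM_mul_B τ f hf _ (supp_mul τ A hA _ (upper_Ddiag hd _)) _
    (Matrix.BlockTriangular.mul (upper_Ddiag hd _) hh)
  rw [Matrix.det_mul, det_Ddiag, inv_mul_cancel₀ hdet]

section IdentityB

variable [Infinite K]

/-- The generic pattern matrix in `S3`. -/
noncomputable def XlB (K : Type u) [Field K] {d n : ℕ} (τ : Idx d n) :
    Matrix (Fin n) (Fin d) (S3 K d n) :=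
  Matrix.of fun s t => if PS τ s t then X (Sum.inl (s, t)) else 0

/-- The generic upper triangular matrix in `S3`. -/
noncomputable def YrB (K : Type u) [Field K] (d n : ℕ) : Matrix (Fin d) (Fin d) (S3 K d n) :=
  Matrix.of fun i j => if i ≤ j then X (Sum.inr (i, j)) else 0

theorem supp_XlB (τ : Idx d n) : Supp τ (XlB K τ) := by
  intro s t h
  unfold XlB
  rw [Matrix.of_apply, if_neg (show ¬ PS τ s t from h)]

theorem upper_YrB : (YrB K d n).IsUpperTriangular := by
  intro i j hij
  unfold YrB
  rw [Matrix.of_apply, if_neg]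
  simpa using hij

theorem generic_identity_B (hd : 0 < d) (τ : Idx d n) (f : MatRing K d n) (hf : InvB τ f) :
    evM (XlB K τ * YrB K d n) f = evM (XlB K τ * Ddiag hd (YrB K d n).det) f := by
  have hdet_ne : (YrB K d n).det ≠ 0 := by
    intro h0
    have := congrArg (MvPolynomial.aeval (R := K)
      (fun v : (Fin n × Fin d) ⊕ (Fin d × Fin d) =>
        Sum.elim (fun _ => (0 : K)) (fun q => if q.1 = q.2 then 1 else 0) v)) h0
    rw [AlgHom.map_det, map_zero] at this
    have h1 : (AlgHom.mapMatrix (MvPolynomial.aeval (R := K)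
      (fun v : (Fin n × Fin d) ⊕ (Fin d × Fin d) =>
        Sum.elim (fun _ => (0 : K)) (fun q => if q.1 = q.2 then 1 else 0) v))) (YrB K d n)
        = (1 : Matrix (Fin d) (Fin d) K) := by
      ext i j
      simp only [AlgHom.mapMatrix_apply, Matrix.map_apply, YrB, Matrix.of_apply, Matrix.one_apply]
      by_cases hij : i ≤ j
      · rw [if_pos hij, aeval_X, Sum.elim_inr]
      · rw [if_neg hij, map_zero, if_neg]
        intro h; exact hij (le_of_eq h)
    rw [h1, Matrix.det_one] at this
    exact one_ne_zero this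
  have key : (evM (XlB K τ * YrB K d n) f - evM (XlB K τ * Ddiag hd (YrB K d n).det) f)
      * (YrB K d n).det = 0 := by
    apply MvPolynomial.funext
    intro z
    change (MvPolynomial.aeval z : S3 K d n →ₐ[K] K) _ = (MvPolynomial.aeval z : S3 K d n →ₐ[K] K) 0
    rw [map_zero, map_mul, map_sub, evM_comp, evM_comp, map_mul'', map_mul'']
    set φ : S3 K d n →ₐ[K] K := MvPolynomial.aeval z with hφ
    set A : Matrix (Fin n) (Fin d) K := (XlB K τ).map φ with hA
    set h : Matrix (Fin d) (Fin d) K := (YrB K d n).map φ with hh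
    have hAs : Supp τ A := supp_map τ _ (supp_XlB τ) φ.toRingHom
    have hhu : h.IsUpperTriangular := by
      intro i j hij
      rw [hh, Matrix.map_apply, upper_YrB hij, map_zero]
    have hdet : φ (YrB K d n).det = h.det := by
      rw [AlgHom.map_det]; rfl
    have hD : (Ddiag hd (YrB K d n).det).map φ = Ddiag hd h.det := by
      have := Ddiag_map hd (YrB K d n).det φ.toRingHom
      rw [← hdet]
      exact this
    rw [hD, hdet]
    by_cases h0 : h.det = 0
    · rw [h0, mul_zero]
    · rw [evM_mul_B' hd τ f hf A hAs h hhu h0, sub_self, zero_mul]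
  rcases mul_eq_zero.mp key with h | h
  · exact sub_eq_zero.mp h
  · exact absurd h hdet_ne

/-- Specialisation of the generic identity to an upper triangular matrix over the matrix ring. -/
theorem spade_B (hd : 0 < d) (τ : Idx d n) (f : MatRing K d n) (hf : InvB τ f)
    (H : Matrix (Fin d) (Fin d) (MatRing K d n)) (hH : H.IsUpperTriangular) :
    evM (MPm K (PS τ) * H) f = evM (MPm K (PS τ) * Ddiag hd H.det) f := by
  set spec : S3 K d n →ₐ[K] MatRing K d n :=
    MvPolynomial.aeval (Sum.elim (fun p => X p) (fun q => H q.1 q.2)) with hspec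
  have h1 := congrArg spec (generic_identity_B hd τ f hf)
  rw [evM_comp, evM_comp, map_mul'', map_mul''] at h1
  have hX : (XlB K τ).map spec = MPm K (PS τ) := by
    refine Matrix.ext (fun s t => ?_)
    simp only [Matrix.map_apply, XlB, MPm, Matrix.of_apply]
    split_ifs
    · rw [hspec, aeval_X, Sum.elim_inl]
    · rw [map_zero]
  have hY : (YrB K d n).map spec = H := by
    refine Matrix.ext (fun i j => ?_)
    simp only [Matrix.map_apply, YrB, Matrix.of_apply]
    by_cases hij : i ≤ j
    · rw [if_pos hij, hspec, aeval_X, Sum.elim_inr]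
    · rw [if_neg hij, map_zero]
      exact (hH (by simpa using hij)).symm
  have hdet : spec (YrB K d n).det = H.det := by
    rw [AlgHom.map_det]
    congr 1
  have hD : (Ddiag hd (YrB K d n).det).map spec = Ddiag hd H.det := by
    have := Ddiag_map hd (YrB K d n).det spec.toRingHom
    rw [← hdet]
    exact this
  rw [hX, hY, hD] at h1
  exact h1

theorem spade_B_eq (hd : 0 < d) (τ : Idx d n) (f : MatRing K d n) (hf : InvB τ f)
    (H₁ H₂ : Matrix (Fin d) (Fin d) (MatRing K d n)) (h₁ : H₁.IsUpperTriangular)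
    (h₂ : H₂.IsUpperTriangular) (h : H₁.det = H₂.det) :
    evM (MPm K (PS τ) * H₁) f = evM (MPm K (PS τ) * H₂) f := by
  rw [spade_B hd τ f hf H₁ h₁, spade_B hd τ f hf H₂ h₂, h]

end IdentityB

end Groth.Agent.Lib.Helper8.Gr
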