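import Mathlib
import Groth.Prelude.Def_W4bk4grassmannianPl
import Groth.Agent.Lib.Helper8.Gr14
set_option backward.isDefEq.respectTransparency.types false
set_option linter.unusedSectionVars false
set_option autoImplicit false
universe u

namespace Groth.Agent.Lib.Helper8.Gr
open W4bk4grassmannian MvPolynomial
open scoped MonomialOrder

variable {K : Type u} [Field K] {d n : ℕ}

theorem upper_adjugate {R : Type*} [CommRing R] (A : Matrix (Fin d) (Fin d) R)
    (hA : A.IsUpperTriangular) : A.adjugate.IsUpperTriangular := by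
  intro i j hij
  have hij' : j < i := hij
  rw [Matrix.adjugate_apply]
  have hB : (A.updateRow j (Pi.single i 1)).IsUpperTriangular := by
    intro i' j' hij2
    have hij2' : j' < i' := hij2
    by_cases h : i' = j
    · subst h
      rw [Matrix.updateRow_self, Pi.single_apply, if_neg]
      intro h'; subst h'
      exact absurd (lt_trans hij' hij2') (lt_irrefl _)
    · rw [Matrix.updateRow_ne h]
      exact hA hij2
  rw [Matrix.det_of_isUpperTriangular hB]
  apply Finset.prod_eq_zero (Finset.mem_univ j)
  rw [Matrix.updateRow_self, Pi.single_apply, if_neg (ne_of_lt hij')]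

section Tau

variable (τ : Idx d n)

/-- The `τ`-block of the pattern matrix. -/
noncomputable def Xtau (K : Type u) [Field K] {d n : ℕ} (τ : Idx d n) :
    Matrix (Fin d) (Fin d) (MatRing K d n) :=
  (MPm K (PS τ)).submatrix τ.1 id

theorem upper_Xtau : (Xtau K τ).IsUpperTriangular := by
  intro i j hij
  have hij' : j < i := hij
  unfold Xtau MPm
  rw [Matrix.submatrix_apply, Matrix.of_apply, if_neg]
  intro h
  exact absurd (τ.2 hij') (not_lt.mpr h)

theorem det_Xtau : (Xtau K τ).det = evalR (K := K) (MPm K (PS τ)) (X τ) := by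
  rw [evalR_X]; rfl

theorem det_Xtau_mem : (Xtau K τ).det ∈ Btau K τ := by
  rw [det_Xtau]
  exact (AlgHom.mem_range _).mpr ⟨_, rfl⟩

theorem MPm_mul_adjugate (s : Fin n) (t : Fin d) :
    (MPm K (PS τ) * (Xtau K τ).adjugate) s t
      = evalR (K := K) (MPm K (PS τ)) (coord K d n (Function.update τ.1 t s)) := by
  rw [Matrix.mul_apply, sum_mul_adjugate, evalR_coord]
  congr 1
  ext t' c
  simp only [Matrix.updateRow_apply, Xtau, Matrix.submatrix_apply, id_eq]
  by_cases h : t' = t
  · subst h
    simp
  · rw [if_neg h, Function.update_of_ne h]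

/-- `H₁ = adj(X_τ) · diag(p_τ, 1, …, 1)`. -/
noncomputable def H1B (K : Type u) [Field K] {d n : ℕ} (hd : 0 < d) (τ : Idx d n) :
    Matrix (Fin d) (Fin d) (MatRing K d n) :=
  (Xtau K τ).adjugate * Ddiag hd (Xtau K τ).det

theorem upper_H1B (hd : 0 < d) : (H1B K hd τ).IsUpperTriangular :=
  Matrix.BlockTriangular.mul (upper_adjugate _ (upper_Xtau τ)) (upper_Ddiag hd _)

theorem det_H1B (hd : 0 < d) : (H1B K hd τ).det = (Xtau K τ).det ^ d := by
  unfold H1B
  rw [Matrix.det_mul, det_Ddiag, Matrix.det_adjugate, Fintype.card_fin, ← pow_succ]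
  congr 1
  omega

theorem upper_smul_one (c : MatRing K d n) :
    (c • (1 : Matrix (Fin d) (Fin d) (MatRing K d n))).IsUpperTriangular := by
  intro i j hij
  have hij' : j < i := hij
  rw [Matrix.smul_apply, Matrix.one_apply_ne (ne_of_gt hij'), smul_zero]

theorem MPm_mul_H1B_mem (hd : 0 < d) (s : Fin n) (t : Fin d) :
    (MPm K (PS τ) * H1B K hd τ) s t ∈ Btau K τ := by
  unfold H1B
  rw [← Matrix.mul_assoc]
  unfold Ddiag
  rw [Matrix.mul_diagonal, MPm_mul_adjugate]
  apply Subalgebra.mul_mem _ ((AlgHom.mem_range _).mpr ⟨_, rfl⟩)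
  split_ifs
  · exact det_Xtau_mem τ
  · exact Subalgebra.one_mem _

theorem evM_mem_Btau (M : Matrix (Fin n) (Fin d) (MatRing K d n))
    (hM : ∀ s t, M s t ∈ Btau K τ) (f : MatRing K d n) : evM M f ∈ Btau K τ := by
  have h1 : evM M f ∈ (MvPolynomial.aeval (R := K) fun p : Fin n × Fin d => M p.1 p.2).range :=
    ⟨f, rfl⟩
  rw [← Algebra.adjoin_range_eq_range_aeval] at h1
  refine Algebra.adjoin_le ?_ h1
  rintro _ ⟨p, rfl⟩
  exact hM p.1 p.2

end Tau

/-- Scaling a homogeneous polynomial (general matrix). -/
theorem evM_smul_of_homogeneous' (c : MatRing K d n) (M : Matrix (Fin n) (Fin d) (MatRing K d n))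
    (f : MatRing K d n) (N : ℕ) (hf : f.IsHomogeneous N) :
    evM (c • M) f = c ^ N * evM M f := by
  have hmon : ∀ (m : Fin n × Fin d →₀ ℕ) (a : K), m.degree = N →
      evM (c • M) (monomial m a) = c ^ N * evM M (monomial m a) := by
    intro m a hm
    unfold evM
    rw [aeval_monomial, aeval_monomial]
    simp only [Matrix.smul_apply, smul_eq_mul]
    have : (m.prod fun i k => (c * M i.1 i.2) ^ k)
        = c ^ N * m.prod fun i k => (M i.1 i.2) ^ k := by
      simp only [mul_pow]
      rw [Finsupp.prod_mul]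
      congr 1
      unfold Finsupp.prod
      rw [Finset.prod_pow_eq_pow_sum, ← hm]
      rfl
    rw [this]
    ring
  rw [f.as_sum, map_sum, map_sum, Finset.mul_sum]
  apply Finset.sum_congr rfl
  intro m hm
  apply hmon
  have := hf (mem_support_iff.mp hm)
  rw [← this]
  simp [Finsupp.degree, Finsupp.weight_apply, Finsupp.sum]

theorem evM_MPm_of_inv (τ : Idx d n) (f : MatRing K d n) (hf : InvB τ f) :
    evM (MPm K (PS τ)) f = f := by
  have := hf 1 Matrix.blockTriangular_one Matrix.det_one
  unfold rhoB at this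
  have h1 : ((1 : Matrix (Fin d) (Fin d) K).map (C : K → MatRing K d n)) = 1 := by
    refine Matrix.ext (fun i j => ?_)
    rw [Matrix.map_apply, Matrix.one_apply, Matrix.one_apply]
    split_ifs
    · exact map_one (C : K →+* MatRing K d n)
    · exact map_zero (C : K →+* MatRing K d n)
  rw [h1, Matrix.mul_one] at this
  exact this

theorem rhoB_isHomogeneous (τ : Idx d n) (g : Matrix (Fin d) (Fin d) K) (φ : MatRing K d n)
    (N : ℕ) (hφ : φ.IsHomogeneous N) : (rhoB τ g φ).IsHomogeneous N := by
  unfold rhoB evM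
  have := hφ.aeval (S := K) (n := 1)
    (fun p : Fin n × Fin d => (MPm K (PS τ) * g.map (C : K → MatRing K d n)) p.1 p.2)
    (by
      intro p
      rw [Matrix.mul_apply]
      apply IsHomogeneous.sum
      intro k _
      have h1 : (MPm K (PS τ) p.1 k).IsHomogeneous 1 := by
        unfold MPm
        rw [Matrix.of_apply]
        split_ifs
        · exact isHomogeneous_X K _
        · exact isHomogeneous_zero _ _ _
      have := h1.mul (isHomogeneous_C (Fin n × Fin d) (g k p.2))
      simpa using this)
  rw [one_mul] at this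
  exact this

theorem homogeneousComponent_rhoB (τ : Idx d n) (g : Matrix (Fin d) (Fin d) K)
    (φ : MatRing K d n) (N : ℕ) :
    homogeneousComponent N (rhoB τ g φ) = rhoB τ g (homogeneousComponent N φ) := by
  conv_lhs => rw [← sum_homogeneousComponent φ]
  rw [map_sum, map_sum]
  have : ∀ i ∈ Finset.range (φ.totalDegree + 1),
      homogeneousComponent N (rhoB τ g (homogeneousComponent i φ))
        = if N = i then rhoB τ g (homogeneousComponent i φ) else 0 := by
    intro i _
    exact homogeneousComponent_of_mem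
      (rhoB_isHomogeneous τ g _ i (homogeneousComponent_isHomogeneous i φ))
  rw [Finset.sum_congr rfl this, Finset.sum_ite_eq]
  split_ifs with h
  · rfl
  · rw [Finset.mem_range, not_lt] at h
    rw [homogeneousComponent_eq_zero _ _ (by omega), map_zero]

theorem invB_homogeneousComponent (τ : Idx d n) (f : MatRing K d n) (hf : InvB τ f) (N : ℕ) :
    InvB τ (homogeneousComponent N f) := by
  intro g hg hdet
  rw [← homogeneousComponent_rhoB, hf g hg hdet]

end Groth.Agent.Lib.Helper8.Gr
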