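import Mathlib
import Groth.Prelude.Def_W4bk4grassmannianPl
import Groth.Agent.Lib.Helper8.Gr15
set_option backward.isDefEq.respectTransparency.types false
set_option linter.unusedSectionVars false
set_option autoImplicit false
universe u

namespace Groth.Agent.Lib.Helper8.Gr
open W4bk4grassmannian MvPolynomial
open scoped MonomialOrder

variable {K : Type u} [Field K] {d n : ℕ}

/-- The chain lies below `τ`. -/
def LeTau (τ : Idx d n) (c : AllChains d n) : Prop := ∀ k, c.2.1 k ≤ τ

/-- The chain starts with `τ`. -/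
def StartsTau (τ : Idx d n) (c : AllChains d n) : Prop :=
  ∃ hm : 0 < c.1, c.2.1 ⟨0, hm⟩ = τ

theorem leTau_of_starts (τ : Idx d n) (c : AllChains d n) (h : StartsTau τ c) : LeTau τ c := by
  obtain ⟨hm, h0⟩ := h
  intro k
  rw [← h0]
  exact c.2.2 (Fin.mk_le_of_le_val (Nat.zero_le _))

theorem psi_starts (τ : Idx d n) (P : Fin n → Fin d → Prop) [∀ s t, Decidable (P s t)]
    (c : AllChains d n) (hc : StartsTau τ c) :
    ∃ c' : AllChains d n, psi K P (chainMon K c.2.1)
      = psi K P (X τ) * psi K P (chainMon K c'.2.1) := by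
  obtain ⟨m, ⟨c, hanti⟩⟩ := c
  obtain ⟨hm, h0⟩ := hc
  simp only at hm h0
  cases m with
  | zero => exact absurd hm (lt_irrefl 0)
  | succ m' =>
    refine ⟨⟨m', ⟨fun k => c (Fin.succ k), fun x y hxy => hanti (Fin.succ_le_succ_iff.mpr hxy)⟩⟩, ?_⟩
    simp only
    unfold chainMon
    rw [Fin.prod_univ_succ, map_mul]
    congr 2
    rw [← h0]
    rfl

theorem starts_of_le (hd : 0 < d) (τ : Idx d n) (c : AllChains d n) (hle : LeTau τ c)
    (hE : ∀ t : Fin d, 1 ≤ Eexp c.2.1 (toLex (t, τ.1 t))) : StartsTau τ c := by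
  obtain ⟨m, ⟨c, hanti⟩⟩ := c
  simp only at hE
  have hex : ∀ t : Fin d, ∃ k : Fin m, (c k).1 t = τ.1 t := by
    intro t
    have h1 := hE t
    rw [Eexp_apply] at h1
    have h2 : (∑ k : Fin m, if (c k).1 t = τ.1 t then 1 else 0) ≠ 0 := by omega
    obtain ⟨k, _, hk⟩ := Finset.exists_ne_zero_of_sum_ne_zero h2
    refine ⟨k, ?_⟩
    by_contra hcon
    rw [if_neg hcon] at hk
    exact hk rfl
  have hm : 0 < m := by
    obtain ⟨k, _⟩ := hex ⟨0, hd⟩
    exact lt_of_le_of_lt (Nat.zero_le _) k.isLt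
  refine ⟨hm, ?_⟩
  simp only
  apply Subtype.ext
  funext t
  obtain ⟨k, hk⟩ := hex t
  have hge : (c k).1 t ≤ (c ⟨0, hm⟩).1 t := by
    apply hanti
    rw [Fin.le_def]
    exact Nat.zero_le _
  rw [hk] at hge
  exact le_antisymm (hle ⟨0, hm⟩ t) hge

/-- Divisibility by the top Plücker coordinate stays inside the algebra of pattern minors
(leading-term ring version). -/
theorem stepE_tau (hd : 0 < d) (τ : Idx d n) (h' : MvPolynomial (LVar d n) K)
    (hmem : psi K (PS τ) (X τ) * h' ∈ (psi K (PS τ)).range) :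
    h' ∈ (psi K (PS τ)).range := by
  classical
  set ψ := psi K (PS τ) with hψ
  set p' := ψ (X τ) with hp'
  obtain ⟨β, hβ⟩ := (AlgHom.mem_range _).mp hmem
  obtain ⟨g, hg, hβg⟩ := exists_std_rep β
  have hψβ : ψ β = ψ g := by
    have := psi_plIdealTop (PS τ) _ hβg
    rw [map_sub, sub_eq_zero] at this
    exact this
  rw [Finsupp.mem_span_range_iff_exists_finsupp] at hg
  obtain ⟨a, rfl⟩ := hg
  have hgood : ∀ (c : AllChains d n), LeTau τ c → ∀ (k : Fin c.1), Good (PS τ) (c.2.1 k) :=
    fun c hc k => hc k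
  let tailC : AllChains d n → AllChains d n := fun c =>
    if hc : StartsTau τ c then Classical.choose (psi_starts (K := K) τ (PS τ) c hc) else c
  have htail : ∀ c, StartsTau τ c → ψ (chainMon K c.2.1) = p' * ψ (chainMon K (tailC c).2.1) := by
    intro c hc
    have hi : tailC c = Classical.choose (psi_starts (K := K) τ (PS τ) c hc) := dif_pos hc
    rw [hi]
    exact Classical.choose_spec (psi_starts (K := K) τ (PS τ) c hc)
  set E₁ := a.support.filter (fun c => StartsTau τ c) with hE₁
  set E₂ := (a.support.filter (fun c => ¬ StartsTau τ c)).filter (fun c => LeTau τ c) with hE₂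
  set b₁ : MvPolynomial (LVar d n) K := ∑ c ∈ E₁, a c • ψ (chainMon K (tailC c).2.1) with hb₁
  set b₂ : MvPolynomial (LVar d n) K := ∑ c ∈ E₂, a c • ψ (chainMon K c.2.1) with hb₂
  have hsplit : ψ (a.sum fun c r => r • chainMon K c.2.1) = p' * b₁ + b₂ := by
    unfold Finsupp.sum
    rw [map_sum]
    simp only [map_smul]
    rw [← Finset.sum_filter_add_sum_filter_not a.support (fun c => StartsTau τ c)]
    congr 1
    · rw [hb₁, Finset.mul_sum]
      apply Finset.sum_congr rfl
      intro c hc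
      rw [htail c (Finset.mem_filter.mp hc).2, mul_smul_comm]
    · rw [hb₂, hE₂]
      symm
      apply Finset.sum_subset (Finset.filter_subset _ _)
      intro c hc hc1
      have : ¬ LeTau τ c := fun hh => hc1 (Finset.mem_filter.mpr ⟨hc, hh⟩)
      unfold LeTau at this
      push Not at this
      obtain ⟨k, hk⟩ := this
      rw [psi_chainMon_eq_zero τ c.2.1 k hk, smul_zero]
  have hb₁mem : b₁ ∈ ψ.range := by
    refine (AlgHom.mem_range _).mpr ⟨∑ c ∈ E₁, a c • chainMon K (tailC c).2.1, ?_⟩
    rw [map_sum]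
    apply Finset.sum_congr rfl
    intro c _
    rw [map_smul]
  have hrel : p' * (h' - b₁) = b₂ := by
    have : p' * h' = p' * b₁ + b₂ := by rw [← hβ, hψβ, hsplit]
    rw [mul_sub, this]; ring
  have hτgood : Good (PS τ) τ := (good_PS τ τ).mpr (le_refl _)
  have hp'monic : (mo d n).Monic p' := monic_psi_X _ _ hτgood
  have hp'deg : (mo d n).degree p' = Dexp τ.1 := degree_psi_X _ _ hτgood
  have hle₂ : ∀ c ∈ E₂, LeTau τ c := fun c hc => (Finset.mem_filter.mp hc).2
  have hb₂z : b₂ = 0 := by
    by_contra hb₂ne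
    have hne : ∃ c ∈ E₂, a c ≠ 0 := by
      by_contra hcon
      push Not at hcon
      apply hb₂ne
      rw [hb₂]
      apply Finset.sum_eq_zero
      intro c hc
      rw [hcon c hc, zero_smul]
    obtain ⟨c₀, hc₀, _, hdeg⟩ := degree_of_combination (mo d n)
      (fun c : AllChains d n => ψ (chainMon K c.2.1)) E₂
      (fun c hc => monic_psi_chainMon _ _ (hgood c (hle₂ c hc)))
      (by
        intro c hc c' hc' hdeg
        simp only at hdeg
        rw [degree_psi_chainMon _ _ (hgood c (hle₂ c (Finset.mem_coe.mp hc))),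
          degree_psi_chainMon _ _ (hgood c' (hle₂ c' (Finset.mem_coe.mp hc')))] at hdeg
        exact allChains_ext (Eexp_inj hd c.2.1 c'.2.1 c.2.2 c'.2.2 hdeg))
      a hne
    rw [degree_psi_chainMon _ _ (hgood c₀ (hle₂ c₀ hc₀))] at hdeg
    have hune : h' - b₁ ≠ 0 := by
      intro h0
      rw [h0, mul_zero] at hrel
      exact hb₂ne hrel.symm
    have hmul : (mo d n).degree (p' * (h' - b₁)) = (mo d n).degree p' + (mo d n).degree (h' - b₁) := by
      apply MonomialOrder.degree_mul_of_isRegular_left _ hune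
      rw [hp'monic.leadingCoeff_eq_one]
      exact isRegular_one
    rw [hrel] at hmul
    change (mo d n).degree b₂ = _ at hmul
    rw [hdeg, hp'deg] at hmul
    have hstarts : StartsTau τ c₀ := by
      apply starts_of_le hd τ c₀ (hle₂ c₀ hc₀)
      intro t
      rw [hmul, Finsupp.add_apply, Dexp_apply, if_pos rfl]
      exact Nat.le_add_right _ _
    exact (Finset.mem_filter.mp (Finset.mem_filter.mp hc₀).1).2 hstarts
  rw [hb₂z] at hrel
  have hp'ne : p' ≠ 0 := hp'monic.ne_zero
  have : h' - b₁ = 0 := by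
    rcases mul_eq_zero.mp hrel with h | h
    · exact absurd h hp'ne
    · exact h
  rw [sub_eq_zero] at this
  rw [this]
  exact hb₁mem

theorem rho_evalR_MPm (P : Fin n → Fin d → Prop) [∀ s t, Decidable (P s t)] (β : PlRing K d n) :
    rho K d n (evalR (K := K) (MPm K P) β) = psi K P β := by
  have : ((rho K d n : MatRing K d n →ₐ[K] MvPolynomial (LVar d n) K)).comp
      (evalR (K := K) (MPm K P)) = psi K P := by
    apply MvPolynomial.algHom_ext
    intro θ
    simp only [AlgHom.comp_apply]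
    unfold psi
    rw [evalR_X, evalR_X, AlgHom.map_det]
    congr 1
    refine Matrix.ext (fun s t => ?_)
    simp only [AlgHom.mapMatrix_apply, Matrix.map_apply, Matrix.submatrix_apply, id_eq, MPm,
      Matrix.of_apply, MP]
    split_ifs
    · exact rho_X (K := K) (θ.1 s, t)
    · exact map_zero _
  exact congrArg (fun φ => φ β) this

theorem stepE_tau_mat (hd : 0 < d) (τ : Idx d n) (h : MatRing K d n)
    (hmem : (Xtau K τ).det * h ∈ Btau K τ) : h ∈ Btau K τ := by
  obtain ⟨β, hβ⟩ := (AlgHom.mem_range _).mp hmem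
  have h1 : psi K (PS τ) (X τ) * rho K d n h ∈ (psi K (PS τ)).range := by
    refine (AlgHom.mem_range _).mpr ⟨β, ?_⟩
    rw [← rho_evalR_MPm, hβ, map_mul, ← rho_evalR_MPm, det_Xtau]
  obtain ⟨β', hβ'⟩ := (AlgHom.mem_range _).mp (stepE_tau hd τ _ h1)
  refine (AlgHom.mem_range _).mpr ⟨β', ?_⟩
  apply (rho K d n).injective
  rw [rho_evalR_MPm, hβ']

theorem stepE_tau_pow (hd : 0 < d) (τ : Idx d n) (N : ℕ) (h : MatRing K d n)
    (hmem : (Xtau K τ).det ^ N * h ∈ Btau K τ) : h ∈ Btau K τ := by
  induction N with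
  | zero => simpa using hmem
  | succ N ih =>
    apply ih
    apply stepE_tau_mat hd τ
    rw [← mul_assoc, ← pow_succ']
    exact hmem

/-- Borel invariants on the Schubert pattern are polynomials in the pattern minors. -/
theorem mem_Btau_of_invB [Infinite K] (hd : 0 < d) (τ : Idx d n) (f : MatRing K d n)
    (hf : InvB τ f) : f ∈ Btau K τ := by
  rw [← sum_homogeneousComponent f]
  apply Subalgebra.sum_mem
  intro N _
  set fN := homogeneousComponent N f with hfN
  have hinv : InvB τ fN := invB_homogeneousComponent τ f hf N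
  have hhom : fN.IsHomogeneous N := homogeneousComponent_isHomogeneous N f
  have h1 := spade_B_eq hd τ fN hinv (H1B K hd τ)
    ((Xtau K τ).det • (1 : Matrix (Fin d) (Fin d) (MatRing K d n)))
    (upper_H1B τ hd) (upper_smul_one _) (by rw [det_H1B, det_smul_one])
  rw [Matrix.mul_smul, Matrix.mul_one, evM_smul_of_homogeneous' _ _ _ N hhom,
    evM_MPm_of_inv τ fN hinv] at h1
  apply stepE_tau_pow hd τ N
  rw [← h1]
  exact evM_mem_Btau τ _ (MPm_mul_H1B_mem τ hd) fN

end Groth.Agent.Lib.Helper8.Gr
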