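import Mathlib
import Groth.Prelude.Def_W4bk4grassmannianPl
import Groth.Agent.Lib.Helper8.Gr16
set_option backward.isDefEq.respectTransparency.types false
set_option linter.unusedSectionVars false
set_option autoImplicit false
universe u

namespace Groth.Agent.Lib.Helper8.Gr
open W4bk4grassmannian MvPolynomial
open scoped MonomialOrder

/-- A saturated subalgebra of an integrally closed domain is integrally closed. -/
theorem isIntegrallyClosed_of_sat {K L : Type*} [Field K] [CommRing L] [IsDomain L] [Algebra K L]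
    [IsIntegrallyClosed L] (A : Subalgebra K L)
    (hsat : ∀ (ℓ : L) (b : L), b ∈ A → b ≠ 0 → b * ℓ ∈ A → ℓ ∈ A) : IsIntegrallyClosed A := by
  rw [isIntegrallyClosed_iff (FractionRing A)]
  intro x hx
  let g : A →+* FractionRing L := (algebraMap L (FractionRing L)).comp A.val.toRingHom
  have hg : Function.Injective g :=
    (IsFractionRing.injective L (FractionRing L)).comp Subtype.val_injective
  let j : FractionRing A →+* FractionRing L := IsFractionRing.lift hg
  have hj : ∀ a : A, j (algebraMap A (FractionRing A) a) = algebraMap L (FractionRing L) (a : L) := by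
    intro a
    exact IsFractionRing.lift_algebraMap hg a
  have hjx : IsIntegral L (j x) := by
    apply hx.map_of_comp_eq A.val.toRingHom j
    ext a
    simp only [RingHom.comp_apply]
    exact (hj a).symm
  obtain ⟨ℓ, hℓ⟩ := IsIntegrallyClosed.algebraMap_eq_of_integral hjx
  obtain ⟨a, b, hb, rfl⟩ := IsFractionRing.div_surjective (A := A) x
  have hb0 : b ≠ 0 := nonZeroDivisors.ne_zero hb
  have hbL : (b : L) ≠ 0 := fun h => hb0 (Subtype.ext h)
  have hbF : algebraMap L (FractionRing L) (b : L) ≠ 0 := by
    intro h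
    exact hbL ((IsFractionRing.injective L (FractionRing L)) (by rw [h, map_zero]))
  have h1 : algebraMap L (FractionRing L) ℓ
      = algebraMap L (FractionRing L) (a : L) / algebraMap L (FractionRing L) (b : L) := by
    rw [hℓ, map_div₀, hj, hj]
  have h2 : (b : L) * ℓ = (a : L) := by
    apply IsFractionRing.injective L (FractionRing L)
    rw [map_mul, h1, mul_div_cancel₀ _ hbF]
  have hmem : ℓ ∈ A := hsat ℓ b b.2 hbL (by rw [h2]; exact a.2)
  refine ⟨⟨ℓ, hmem⟩, ?_⟩
  have hbA : algebraMap A (FractionRing A) b ≠ 0 := by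
    intro h
    exact hb0 ((IsFractionRing.injective A (FractionRing A)) (by rw [h, map_zero]))
  rw [eq_div_iff hbA, ← map_mul]
  congr 1
  apply Subtype.ext
  simp only [Subalgebra.coe_mul]
  rw [mul_comm]; exact h2

variable {K : Type u} [Field K] [Infinite K] {d n : ℕ}

theorem indep_psi (hd : 0 < d) (τ : Idx d n) (s : Finset (ChainsIn (fun _ : Unit => τ)))
    (a : ChainsIn (fun _ : Unit => τ) → K)
    (h : psi K (PS τ) (∑ c ∈ s, a c • chainMon K c.2.1) = 0) : ∀ c ∈ s, a c = 0 := by
  rw [map_sum] at h
  simp only [map_smul] at h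
  have hgood : ∀ (c : ChainsIn (fun _ : Unit => τ)) (k : Fin c.1), Good (PS τ) (c.2.1 k) := by
    intro c k
    obtain ⟨_, hi⟩ := c.2.2.2
    exact hi k
  apply zero_of_combination (mo d n)
    (fun c : ChainsIn (fun _ : Unit => τ) => psi K (PS τ) (chainMon K c.2.1)) s ?_ ?_ a h
  · intro c _
    exact monic_psi_chainMon _ c.2.1 (hgood c)
  · intro c _ c' _ hdeg
    simp only at hdeg
    rw [degree_psi_chainMon _ c.2.1 (hgood c), degree_psi_chainMon _ c'.2.1 (hgood c')] at hdeg
    exact chains_ext _ (Eexp_inj hd c.2.1 c'.2.1 c.2.2.1 c'.2.2.1 hdeg)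

theorem ker_psi_eq (hd : 0 < d) (τ : Idx d n) :
    RingHom.ker (psi K (PS τ)).toRingHom = schubertVanishing K d n τ := by
  have hJ : JFam K (fun _ : Unit => τ) = schubertVanishing K d n τ := by
    unfold JFam; rw [iInf_const]
  apply le_antisymm
  · intro f hf
    rw [RingHom.mem_ker] at hf
    obtain ⟨g, hg, hfg⟩ := exists_fam_rep (fun _ : Unit => τ) f
    have hfgJ : f - g ∈ schubertVanishing K d n τ := by
      rw [← hJ]; exact IFam_le_JFam _ hfg
    have hψg : psi K (PS τ) g = 0 := by
      have h1 := schubertVanishing_le_ker τ _ hfgJ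
      rw [map_sub, sub_eq_zero] at h1
      rw [← h1]; exact hf
    rw [Finsupp.mem_span_range_iff_exists_finsupp] at hg
    obtain ⟨a, rfl⟩ := hg
    have hz := indep_psi hd τ a.support a (by unfold Finsupp.sum at hψg; exact hψg)
    have : (a.sum fun i c => c • chainMon K i.2.1) = 0 := by
      unfold Finsupp.sum
      apply Finset.sum_eq_zero
      intro c hc
      simp only [hz c hc, zero_smul]
    rw [this, sub_zero] at hfgJ
    exact hfgJ
  · intro f hf
    rw [RingHom.mem_ker]
    exact schubertVanishing_le_ker τ f hf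

theorem ker_evalR_eq (hd : 0 < d) (τ : Idx d n) :
    RingHom.ker (evalR (K := K) (MPm K (PS τ))).toRingHom = schubertVanishing K d n τ := by
  rw [← ker_psi_eq hd τ]
  ext f
  rw [RingHom.mem_ker, RingHom.mem_ker]
  change evalR (K := K) (MPm K (PS τ)) f = 0 ↔ psi K (PS τ) f = 0
  rw [← rho_evalR_MPm]
  constructor
  · intro h; rw [h, map_zero]
  · intro h
    exact (rho K d n).injective (by rw [h, map_zero])

theorem schubertVanishing_isPrime (hd : 0 < d) (τ : Idx d n) :
    (schubertVanishing K d n τ).IsPrime := by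
  rw [← ker_evalR_eq hd τ]
  exact RingHom.ker_isPrime _

/-- The coordinate ring of the cone over a Schubert variety as the algebra of pattern minors. -/
noncomputable def schubertEquiv (hd : 0 < d) (τ : Idx d n) :
    (PlRing K d n ⧸ schubertVanishing K d n τ) ≃ₐ[K] Btau K τ :=
  (Ideal.quotientEquivAlgOfEq K (ker_evalR_eq hd τ).symm).trans
    (Ideal.quotientKerAlgEquivOfSurjective
      (f := (evalR (K := K) (MPm K (PS τ))).rangeRestrict)
      (AlgHom.rangeRestrict_surjective _) |>.symm |>.symm |> fun e =>
        (Ideal.quotientEquivAlgOfEq K (by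
          ext f
          simp only [RingHom.mem_ker]
          constructor
          · intro h
            exact Subtype.ext h
          · intro h
            exact congrArg Subtype.val h)).trans e)

theorem sat_Btau (hd : 0 < d) (τ : Idx d n) (ℓ b : MatRing K d n) (hb : b ∈ Btau K τ)
    (hb0 : b ≠ 0) (hbl : b * ℓ ∈ Btau K τ) : ℓ ∈ Btau K τ := by
  apply mem_Btau_of_invB hd τ
  intro g hg hdet
  have h1 := invB_of_mem τ _ hbl g hg hdet
  have h2 := invB_of_mem τ _ hb g hg hdet
  rw [map_mul, h2] at h1
  exact mul_left_cancel₀ hb0 h1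

theorem isIntegrallyClosed_Btau (hd : 0 < d) (τ : Idx d n) : IsIntegrallyClosed (Btau K τ) :=
  isIntegrallyClosed_of_sat (Btau K τ) (sat_Btau hd τ)

/-- S11259. -/
theorem schubert_normal (hd : 0 < d) (τ : Idx d n) :
    IsDomain (PlRing K d n ⧸ schubertVanishing K d n τ) ∧
      IsIntegrallyClosed (PlRing K d n ⧸ schubertVanishing K d n τ) := by
  haveI := schubertVanishing_isPrime (K := K) hd τ
  refine ⟨Ideal.Quotient.isDomain _, ?_⟩
  haveI := isIntegrallyClosed_Btau (K := K) hd τ
  exact IsIntegrallyClosed.of_equiv (schubertEquiv hd τ).symm.toRingEquiv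

end Groth.Agent.Lib.Helper8.Gr
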