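import Mathlib
import Groth.Prelude.Def_W4bk4grassmannianPl
import Groth.Agent.Lib.Helper8.Gr17
set_option backward.isDefEq.respectTransparency.types false
set_option linter.unusedSectionVars false
set_option autoImplicit false
universe u

namespace Groth.Agent.Lib.Helper8.Gr
open W4bk4grassmannian MvPolynomial
open scoped MonomialOrder

variable {K : Type u} [Field K] [Infinite K] {d n : ℕ}

/-- Richardson pattern: below `w`, and the last column avoids the first `d` rows. -/
def PR (w : Idx d n) : Fin n → Fin d → Prop := fun s t => (t.val + 1 = d → d ≤ s.val) ∧ s ≤ w.1 t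

instance (w : Idx d n) : ∀ s t, Decidable (PR w s t) := fun s t => by unfold PR; infer_instance

theorem exists_not_le_perm (τ θ : Idx d n) (h : ¬ θ ≤ τ) (σ : Equiv.Perm (Fin d)) :
    ∃ t, ¬ θ.1 (σ t) ≤ τ.1 t := by
  by_contra hcon
  push Not at hcon
  have hex : ∃ t₀, τ.1 t₀ < θ.1 t₀ := by
    by_contra hc
    push Not at hc
    exact h hc
  obtain ⟨t₀, ht₀⟩ := hex
  have hmaps : ∀ t ∈ Finset.Iic t₀, σ t ∈ Finset.Iio t₀ := by
    intro t ht
    rw [Finset.mem_Iic] at ht
    rw [Finset.mem_Iio]
    have h1 : θ.1 (σ t) ≤ τ.1 t := hcon t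
    have h2 : τ.1 t ≤ τ.1 t₀ := τ.2.monotone ht
    exact θ.2.lt_iff_lt.mp (lt_of_le_of_lt (le_trans h1 h2) ht₀)
  have := Finset.card_le_card_of_injOn σ hmaps (σ.injective.injOn)
  rw [Fin.card_Iic, Fin.card_Iio] at this
  omega

theorem psi_PR_eq_zero_of_not_le (w θ : Idx d n) (h : ¬ θ ≤ w) : psi K (PR w) (X θ) = 0 := by
  apply psi_X_eq_zero
  intro σ
  obtain ⟨t, ht⟩ := exists_not_le_perm w θ h σ
  exact ⟨t, fun hP => ht hP.2⟩

theorem psi_PR_iota (hd : 0 < d) (hdn : d < n) (w : Idx d n) :
    psi K (PR w) (X (iota0 hdn)) = 0 := by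
  apply psi_X_eq_zero
  intro σ
  refine ⟨⟨d - 1, by omega⟩, ?_⟩
  intro hP
  have := hP.1 (by simp only; omega)
  have h2 : ((iota0 hdn).1 (σ ⟨d - 1, by omega⟩)).val < d := (σ ⟨d - 1, by omega⟩).isLt
  omega

theorem iota0_le (hdn : d < n) (θ : Idx d n) : iota0 hdn ≤ θ := by
  intro t
  rw [Fin.le_def]
  exact le_val_of_strictMono _ θ.2 t.val t rfl

theorem good_PR (hdn : d < n) (w θ : Idx d n) (hle : θ ≤ w) (hne : θ ≠ iota0 hdn) :
    Good (PR w) θ := by
  intro t
  refine ⟨?_, hle t⟩
  intro ht
  by_contra hcon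
  push Not at hcon
  apply hne
  apply Subtype.ext
  funext t'
  apply Fin.ext
  have h1 : t'.val ≤ (θ.1 t').val := le_val_of_strictMono _ θ.2 t'.val t' rfl
  -- θ t' + (t - t') ≤ θ t
  have h2 : ∀ (k : ℕ) (a b : Fin d), a.val + k = b.val → (θ.1 a).val + k ≤ (θ.1 b).val := by
    intro k
    induction k with
    | zero =>
      intro a b hab
      have : a = b := Fin.ext (by omega)
      rw [this]; omega
    | succ k ih =>
      intro a b hab
      have hb : b.val - 1 < d := by have := b.isLt; omega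
      have h3 := ih a ⟨b.val - 1, hb⟩ (by simp only; omega)
      have h4 : θ.1 ⟨b.val - 1, hb⟩ < θ.1 b := θ.2 (by rw [Fin.lt_def]; simp only; omega)
      rw [Fin.lt_def] at h4
      omega
  have ht' := t'.isLt
  have h5 := h2 (t.val - t'.val) t' t (by omega)
  change (θ.1 t').val = t'.val
  omega

/-- The kernel of a pattern map contains the Schubert ideal when the pattern lies below `w`. -/
theorem schubertVanishing_le_ker_of (w : Idx d n) (P : Fin n → Fin d → Prop)
    [∀ s t, Decidable (P s t)] (hP : ∀ φ : Idx d n, ¬ φ ≤ w → psi K P (X φ) = 0)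
    (f : PlRing K d n) (hf : f ∈ schubertVanishing K d n w) : psi K P f = 0 := by
  apply MvPolynomial.funext
  intro a
  rw [eval_psi, map_zero]
  unfold schubertVanishing at hf
  rw [Ideal.mem_iInf] at hf
  have := hf (MPval P a)
  rw [Ideal.mem_iInf] at this
  apply this
  intro φ hφ
  have h1 := eval_psi P a (X φ : PlRing K d n)
  rw [hP φ hφ, map_zero] at h1
  unfold evalMinors at h1
  rw [aeval_X] at h1
  exact h1.symm

theorem ker_psi_PR (hd : 0 < d) (hdn : d < n) (w : Idx d n) :
    RingHom.ker (psi K (PR w)).toRingHom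
      = schubertVanishing K d n w ⊔ Ideal.span {(X (iota0 hdn) : PlRing K d n)} := by
  classical
  have hJ : JFam K (fun _ : Unit => w) = schubertVanishing K d n w := by
    unfold JFam; rw [iInf_const]
  apply le_antisymm
  · intro f hf
    rw [RingHom.mem_ker] at hf
    change psi K (PR w) f = 0 at hf
    obtain ⟨g, hg, hfg⟩ := exists_fam_rep (fun _ : Unit => w) f
    have hfgJ : f - g ∈ schubertVanishing K d n w := by
      rw [← hJ]; exact IFam_le_JFam _ hfg
    rw [Finsupp.mem_span_range_iff_exists_finsupp] at hg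
    obtain ⟨a, rfl⟩ := hg
    let ends : ChainsIn (fun _ : Unit => w) → Prop := fun c =>
      ∃ k : Fin c.1, c.2.1 k = iota0 hdn
    set E₁ := a.support.filter ends with hE₁
    set E₂ := a.support.filter (fun c => ¬ ends c) with hE₂
    have hsum : (a.sum fun c r => r • chainMon K c.2.1)
        = ∑ c ∈ E₁, a c • chainMon K c.2.1 + ∑ c ∈ E₂, a c • chainMon K c.2.1 := by
      unfold Finsupp.sum
      rw [← Finset.sum_filter_add_sum_filter_not a.support ends]
    have h1mem : ∑ c ∈ E₁, a c • chainMon K c.2.1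
        ∈ Ideal.span {(X (iota0 hdn) : PlRing K d n)} := by
      apply Ideal.sum_mem
      intro c hc
      obtain ⟨k, hk⟩ := (Finset.mem_filter.mp hc).2
      rw [smul_eq_C_mul]
      apply Ideal.mul_mem_left
      unfold chainMon
      apply Ideal.prod_mem _ (Finset.mem_univ k)
      rw [hk]
      exact Ideal.subset_span rfl
    have hψ1 : psi K (PR w) (∑ c ∈ E₁, a c • chainMon K c.2.1) = 0 := by
      have : Ideal.span {(X (iota0 hdn) : PlRing K d n)} ≤ RingHom.ker (psi K (PR w)).toRingHom := by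
        rw [Ideal.span_le]
        intro x hx
        rw [Set.mem_singleton_iff] at hx
        rw [hx]
        exact psi_PR_iota hd hdn w
      exact this h1mem
    have hψfg : psi K (PR w) (f - (a.sum fun c r => r • chainMon K c.2.1)) = 0 :=
      schubertVanishing_le_ker_of w (PR w) (fun φ hφ => psi_PR_eq_zero_of_not_le w φ hφ) _ hfgJ
    have hψ2 : psi K (PR w) (∑ c ∈ E₂, a c • chainMon K c.2.1) = 0 := by
      rw [map_sub, hf, zero_sub, neg_eq_zero, hsum, map_add, hψ1, zero_add] at hψfg
      exact hψfg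
    rw [map_sum] at hψ2
    simp only [map_smul] at hψ2
    have hgood : ∀ c ∈ E₂, ∀ k : Fin c.1, Good (PR w) (c.2.1 k) := by
      intro c hc k
      obtain ⟨_, hi⟩ := c.2.2.2
      apply good_PR hdn w _ (hi k)
      intro hk
      exact (Finset.mem_filter.mp hc).2 ⟨k, hk⟩
    have hz := zero_of_combination (mo d n)
      (fun c : ChainsIn (fun _ : Unit => w) => psi K (PR w) (chainMon K c.2.1)) E₂
      (fun c hc => monic_psi_chainMon _ c.2.1 (hgood c hc))
      (by
        intro c hc c' hc' hdeg
        simp only at hdeg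
        rw [degree_psi_chainMon _ c.2.1 (hgood c (Finset.mem_coe.mp hc)),
          degree_psi_chainMon _ c'.2.1 (hgood c' (Finset.mem_coe.mp hc'))] at hdeg
        exact chains_ext _ (Eexp_inj hd c.2.1 c'.2.1 c.2.2.1 c'.2.2.1 hdeg))
      a hψ2
    have h2z : ∑ c ∈ E₂, a c • chainMon K c.2.1 = 0 := by
      apply Finset.sum_eq_zero
      intro c hc
      rw [hz c hc, zero_smul]
    rw [hsum, h2z, add_zero] at hfgJ
    have : f = (f - ∑ c ∈ E₁, a c • chainMon K c.2.1) + ∑ c ∈ E₁, a c • chainMon K c.2.1 := by ring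
    rw [this]
    exact Ideal.add_mem _ (Ideal.mem_sup_left hfgJ) (Ideal.mem_sup_right h1mem)
  · apply sup_le
    · intro f hf
      rw [RingHom.mem_ker]
      exact schubertVanishing_le_ker_of w (PR w)
        (fun φ hφ => psi_PR_eq_zero_of_not_le w φ hφ) f hf
    · rw [Ideal.span_le]
      intro x hx
      rw [Set.mem_singleton_iff] at hx
      rw [hx]
      exact psi_PR_iota hd hdn w

/-- S11270. -/
theorem prime_X_iota (hd : 0 < d) (hdn : d < n) (w : Idx d n) :
    Prime (Ideal.Quotient.mk (schubertVanishing K d n w) (X (iota0 hdn))) := by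
  set J := schubertVanishing K d n w with hJ
  have hne : Ideal.Quotient.mk J (X (iota0 hdn)) ≠ 0 := by
    intro h0
    rw [Ideal.Quotient.eq_zero_iff_mem] at h0
    have h1 := schubertVanishing_le_ker w _ h0
    have h2 : (mo d n).Monic (psi K (PS w) (X (iota0 hdn))) :=
      monic_psi_X _ _ ((good_PS w _).mpr (iota0_le hdn w))
    exact h2.ne_zero h1
  rw [← Ideal.span_singleton_prime hne]
  have hprime : (J ⊔ Ideal.span {(X (iota0 hdn) : PlRing K d n)}).IsPrime := by
    rw [← ker_psi_PR hd hdn w]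
    exact RingHom.ker_isPrime _
  have hmap : Ideal.map (Ideal.Quotient.mk J) (J ⊔ Ideal.span {(X (iota0 hdn) : PlRing K d n)})
      = Ideal.span {Ideal.Quotient.mk J (X (iota0 hdn))} := by
    rw [Ideal.map_sup, Ideal.map_quotient_self, bot_sup_eq, Ideal.map_span, Set.image_singleton]
  rw [← hmap]
  apply Ideal.map_isPrime_of_surjective Ideal.Quotient.mk_surjective
  rw [Ideal.mk_ker]
  exact le_sup_left

end Groth.Agent.Lib.Helper8.Gr
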