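import Mathlib
import Groth.Prelude.Def_W4bk4grassmannianPl
import Groth.Agent.Lib.Helper8.Gr8
import Groth.Agent.S11268
set_option backward.isDefEq.respectTransparency.types false
set_option linter.unusedSectionVars false
set_option autoImplicit false
universe u

namespace Groth.Agent.Lib.Helper8.Gr
open W4bk4grassmannian MvPolynomial

variable {K : Type u} [Field K] [Infinite K] {d n : ℕ}

/-- The ideal generated by the shuffle relations and the coordinates `X φ`, `φ` in a set. -/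
noncomputable def IOf (K : Type u) [Field K] {d n : ℕ} (B : Set (Idx d n)) : Ideal (PlRing K d n) :=
  plIdealTop (d := d) (n := n) K ⊔ Ideal.span {f | ∃ φ : Idx d n, φ ∈ B ∧ f = X φ}

theorem IFam_eq_IOf {ι : Type*} (τs : ι → Idx d n) :
    IFam K τs = IOf K {φ | ∀ i, ¬ φ ≤ τs i} := rfl

theorem IOf_sup (B₁ B₂ : Set (Idx d n)) : IOf K B₁ ⊔ IOf K B₂ = IOf K (B₁ ∪ B₂) := by
  unfold IOf
  have : {f : PlRing K d n | ∃ φ : Idx d n, φ ∈ B₁ ∪ B₂ ∧ f = X φ}
      = {f | ∃ φ : Idx d n, φ ∈ B₁ ∧ f = X φ} ∪ {f | ∃ φ : Idx d n, φ ∈ B₂ ∧ f = X φ} := by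
    ext f
    simp only [Set.mem_setOf_eq, Set.mem_union]
    constructor
    · rintro ⟨φ, h | h, rfl⟩
      · left; exact ⟨φ, h, rfl⟩
      · right; exact ⟨φ, h, rfl⟩
    · rintro (⟨φ, h, rfl⟩ | ⟨φ, h, rfl⟩)
      · exact ⟨φ, Or.inl h, rfl⟩
      · exact ⟨φ, Or.inr h, rfl⟩
  rw [this, Ideal.span_union]
  apply le_antisymm
  · apply sup_le
    · apply sup_le le_sup_left
      exact le_trans le_sup_left le_sup_right
    · apply sup_le le_sup_left
      exact le_trans le_sup_right le_sup_right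
  · apply sup_le
    · exact le_trans le_sup_left le_sup_left
    · apply sup_le
      · exact le_trans le_sup_right le_sup_left
      · exact le_trans le_sup_right le_sup_right

theorem schubertVanishing_eq_IOf (hd : 0 < d) (τ : Idx d n) :
    schubertVanishing K d n τ = IOf K {φ | ¬ φ ≤ τ} := by
  have h := IFam_eq_JFam (K := K) (fun _ : Unit => τ) hd
  unfold JFam at h
  rw [iInf_const] at h
  rw [← h, IFam_eq_IOf]
  congr 1
  ext φ
  simp

theorem plIdeal_eq_IOf (τ : Idx d n) : plIdeal K τ = IOf K {φ | ¬ φ ≤ τ} := by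
  unfold plIdeal IOf
  rw [Ideal.span_union]
  rfl

/-- S11250. -/
theorem plIdeal_eq_schubertVanishing (hd : 0 < d) (τ : Idx d n) :
    plIdeal K τ = schubertVanishing K d n τ := by
  rw [plIdeal_eq_IOf, schubertVanishing_eq_IOf hd]

theorem le_inf_iff' (φ w₁ w₂ : Idx d n) :
    φ ≤ W4bk4grassmannian.inf w₁ w₂ ↔ φ ≤ w₁ ∧ φ ≤ w₂ := by
  constructor
  · intro h
    exact ⟨fun t => le_trans (h t) (min_le_left _ _), fun t => le_trans (h t) (min_le_right _ _)⟩
  · rintro ⟨h1, h2⟩ t
    exact le_min (h1 t) (h2 t)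

theorem sup_le_iff' (φ w₁ w₂ : Idx d n) :
    W4bk4grassmannian.sup w₁ w₂ ≤ φ ↔ w₁ ≤ φ ∧ w₂ ≤ φ := by
  constructor
  · intro h
    exact ⟨fun t => le_trans (le_max_left _ _) (h t), fun t => le_trans (le_max_right _ _) (h t)⟩
  · rintro ⟨h1, h2⟩ t
    exact max_le (h1 t) (h2 t)

theorem schubertVanishing_sup (hd : 0 < d) (w₁ w₂ : Idx d n) :
    schubertVanishing K d n w₁ ⊔ schubertVanishing K d n w₂
      = schubertVanishing K d n (W4bk4grassmannian.inf w₁ w₂) := by
  rw [schubertVanishing_eq_IOf hd, schubertVanishing_eq_IOf hd, schubertVanishing_eq_IOf hd, IOf_sup]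
  congr 1
  ext φ
  simp only [Set.mem_union, Set.mem_setOf_eq]
  rw [le_inf_iff']
  tauto

theorem schubertVanishing_isRadical (τ : Idx d n) : (schubertVanishing K d n τ).IsRadical := by
  unfold schubertVanishing
  apply Ideal.isRadical_iInf
  intro A
  apply Ideal.isRadical_iInf
  intro _
  exact (RingHom.ker_isPrime (evalMinors K d n A).toRingHom).isRadical

/-- S11253. -/
theorem isRadical_sup (hd : 0 < d) (w₁ w₂ : Idx d n) :
    (schubertVanishing K d n w₁ ⊔ schubertVanishing K d n w₂).IsRadical := by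
  rw [schubertVanishing_sup hd]
  exact schubertVanishing_isRadical _

/-- S11254. -/
theorem sup_span_eq_iInf_divisors (hd : 0 < d) (τ : Idx d n) (hτ : ∃ φ : Idx d n, φ < τ) :
    schubertVanishing K d n τ ⊔ Ideal.span {MvPolynomial.X τ} =
      ⨅ φ ∈ divisors τ, schubertVanishing K d n φ := by
  have hne : Nonempty {δ : Idx d n // δ ∈ divisors τ} := by
    obtain ⟨φ, hφ⟩ := hτ
    obtain ⟨δ, hδ, _⟩ := Groth.Agent.S11268.result d n φ τ hφ
    exact ⟨⟨δ, hδ⟩⟩
  have hR : (⨅ φ ∈ divisors τ, schubertVanishing K d n φ)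
      = JFam K (fun δ : {δ : Idx d n // δ ∈ divisors τ} => δ.1) := by
    unfold JFam
    rw [iInf_subtype']
  rw [hR, ← IFam_eq_JFam _ hd, IFam_eq_IOf, schubertVanishing_eq_IOf hd]
  have hspan : Ideal.span {(MvPolynomial.X τ : PlRing K d n)} ≤ IOf K {φ | φ = τ} := by
    unfold IOf
    apply le_trans _ le_sup_right
    apply Ideal.span_mono
    intro f hf
    rw [Set.mem_singleton_iff] at hf
    exact ⟨τ, rfl, hf⟩
  have hset : ({φ : Idx d n | ¬ φ ≤ τ} ∪ {φ | φ = τ})
      = {φ | ∀ i : {δ : Idx d n // δ ∈ divisors τ}, ¬ φ ≤ i.1} := by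
    ext φ
    simp only [Set.mem_union, Set.mem_setOf_eq]
    constructor
    · rintro (h | h) ⟨δ, hδ⟩ hle
      · exact h (le_trans hle (le_of_lt hδ.1))
      · rw [h] at hle
        exact absurd hδ.1 (not_lt_of_ge hle)
    · intro h
      by_contra hcon
      push Not at hcon
      have hlt : φ < τ := lt_of_le_of_ne hcon.1 hcon.2
      obtain ⟨δ, hδ, hle⟩ := Groth.Agent.S11268.result d n φ τ hlt
      exact h ⟨δ, hδ⟩ hle
  rw [← hset, ← IOf_sup]
  apply le_antisymm
  · exact sup_le_sup_left hspan _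
  · apply sup_le le_sup_left
    unfold IOf
    apply sup_le
    · exact le_trans le_sup_left le_sup_left
    · apply le_trans _ le_sup_right
      apply Ideal.span_mono
      rintro f ⟨φ, hφ, rfl⟩
      rw [Set.mem_setOf_eq] at hφ
      rw [hφ]
      exact Set.mem_singleton _

end Groth.Agent.Lib.Helper8.Gr
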