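import Mathlib
import Groth.Prelude.Def_W4bk4grassmannianPl
import Groth.Prelude.Def_CAlgX
import Groth.Agent.Lib.Helper8.Gr18
import Groth.Agent.Lib.Helper8.Gr9
import Groth.Agent.S11275
set_option backward.isDefEq.respectTransparency.types false
set_option linter.unusedSectionVars false
set_option autoImplicit false
universe u

namespace Groth.Agent.Lib.Helper8.Gr
open W4bk4grassmannian MvPolynomial

section General

variable {K : Type u} [CommRing K] {d n : ℕ}

theorem evalR_map {R R' : Type*} [CommRing R] [CommRing R'] [Algebra K R] [Algebra K R']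
    (A : Matrix (Fin n) (Fin d) R) (φ : R →ₐ[K] R') (F : PlRing K d n) :
    evalR (K := K) (A.map φ) F = φ (evalR (K := K) A F) := by
  have : evalR (K := K) (A.map φ) = φ.comp (evalR (K := K) A) := by
    apply MvPolynomial.algHom_ext
    intro θ
    rw [AlgHom.comp_apply, evalR_X, evalR_X, AlgHom.map_det]
    rfl
  rw [this, AlgHom.comp_apply]

theorem evalR_mul_X {R : Type*} [CommRing R] [Algebra K R]
    (A : Matrix (Fin n) (Fin d) R) (g : Matrix (Fin d) (Fin d) R) (θ : Idx d n) :
    evalR (K := K) (A * g) (X θ) = g.det * evalR (K := K) A (X θ) := by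
  rw [evalR_X, evalR_X]
  have : (A * g).submatrix θ.1 id = A.submatrix θ.1 id * g := by
    ext s t
    simp [Matrix.mul_apply]
  rw [this, Matrix.det_mul, mul_comm]

theorem aeval_scale_of_homogeneous {σ : Type*} {R : Type*} [CommRing R] [Algebra K R]
    (a b : σ → R) (c : R) (h : ∀ i, b i = c * a i) (F : MvPolynomial σ K) (D : ℕ)
    (hF : F.IsHomogeneous D) : aeval b F = c ^ D * aeval a F := by
  have hmon : ∀ (m : σ →₀ ℕ) (x : K), m.degree = D →
      aeval b (monomial m x) = c ^ D * aeval a (monomial m x) := by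
    intro m x hm
    rw [aeval_monomial, aeval_monomial]
    have : (m.prod fun i k => (b i) ^ k) = c ^ D * m.prod fun i k => (a i) ^ k := by
      simp only [h, mul_pow]
      rw [Finsupp.prod_mul]
      congr 1
      unfold Finsupp.prod
      rw [Finset.prod_pow_eq_pow_sum, ← hm]
      rfl
    rw [this]
    ring
  rw [F.as_sum, map_sum, map_sum, Finset.mul_sum]
  apply Finset.sum_congr rfl
  intro m hm
  apply hmon
  have := hF (mem_support_iff.mp hm)
  rw [← this]
  simp [Finsupp.degree, Finsupp.weight_apply, Finsupp.sum]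

theorem evalR_mul_of_homogeneous {R : Type*} [CommRing R] [Algebra K R]
    (A : Matrix (Fin n) (Fin d) R) (g : Matrix (Fin d) (Fin d) R) (F : PlRing K d n) (D : ℕ)
    (hF : F.IsHomogeneous D) :
    evalR (K := K) (A * g) F = g.det ^ D * evalR (K := K) A F := by
  unfold evalR
  apply aeval_scale_of_homogeneous _ _ _ _ F D hF
  intro θ
  have := evalR_mul_X (K := K) A g θ
  rw [evalR_X, evalR_X] at this
  exact this

/-- A product of a `k × n` and an `n × k` matrix with `n < k` has determinant zero. -/
theorem det_mul_eq_zero_of_lt {R : Type*} [CommRing R] {n k : ℕ} (hk : n < k)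
    (U : Matrix (Fin k) (Fin n) R) (W : Matrix (Fin n) (Fin k) R) : (U * W).det = 0 := by
  let U' : Matrix (Fin k) (Fin k) R := fun i j => if h : j.val < n then U i ⟨j.val, h⟩ else 0
  let W' : Matrix (Fin k) (Fin k) R := fun j i => if h : j.val < n then W ⟨j.val, h⟩ i else 0
  have hmul : U * W = U' * W' := by
    ext i i'
    rw [Matrix.mul_apply, Matrix.mul_apply]
    apply Fintype.sum_of_injective (fun j : Fin n => (⟨j.val, lt_trans j.isLt hk⟩ : Fin k))
    · intro a b hab
      apply Fin.ext
      simpa using hab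
    · intro j hj
      have : ¬ j.val < n := by
        intro hlt
        exact hj ⟨⟨j.val, hlt⟩, rfl⟩
      simp only [U', dif_neg this, zero_mul]
    · intro j
      simp only [U', W', dif_pos j.isLt]
  rw [hmul, Matrix.det_mul]
  have : U'.det = 0 := by
    apply Matrix.det_eq_zero_of_column_eq_zero (⟨n, hk⟩ : Fin k)
    intro i
    simp only [U', dif_neg (lt_irrefl n)]
  rw [this, zero_mul]

end General


section SFT

variable {K : Type u} [Field K] {d r n : ℕ}

/-- The least index, as the top block. -/
def topIdx (d r : ℕ) : Idx d (d + r) := ⟨Fin.castAdd r, fun _ _ h => h⟩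

/-- The Schubert index whose opposite cell is the variety of `r × d` matrices of rank `≤ n`. -/
def phiRank (d r n : ℕ) (hnr : n < r) : Idx d (d + r) :=
  ⟨fun j => if h : j.val + n < d then ⟨n + j.val, by omega⟩
    else ⟨r + j.val, by have := j.isLt; omega⟩, by
    intro a b hab
    have hab' : a.val < b.val := hab
    by_cases ha : a.val + n < d
    · by_cases hb : b.val + n < d
      · simp only [dif_pos ha, dif_pos hb, Fin.mk_lt_mk]; omega
      · simp only [dif_pos ha, dif_neg hb, Fin.mk_lt_mk]; omega
    · have hb : ¬ b.val + n < d := by omega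
      simp only [dif_neg ha, dif_neg hb, Fin.mk_lt_mk]; omega⟩

theorem phiRank_val_lt (hnr : n < r) (j : Fin d) (h : j.val + n < d) :
    ((phiRank d r n hnr).1 j).val = n + j.val := by
  unfold phiRank
  simp only [dif_pos h]

theorem phiRank_val_ge (hnr : n < r) (j : Fin d) (h : ¬ j.val + n < d) :
    ((phiRank d r n hnr).1 j).val = r + j.val := by
  unfold phiRank
  simp only [dif_neg h]

theorem strictMono_add_le {p N : ℕ} (f : Fin p → Fin N) (hf : StrictMono f) (a b : Fin p)
    (hab : a ≤ b) : (f a).val + (b.val - a.val) ≤ (f b).val := by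
  obtain ⟨k, hk⟩ : ∃ k, b.val = a.val + k := ⟨b.val - a.val, by have : a.val ≤ b.val := hab; omega⟩
  induction k generalizing b with
  | zero =>
    have : a = b := Fin.ext (by omega)
    subst this; simp
  | succ k ih =>
    have hb : a.val + k < p := by have := b.isLt; omega
    have h1 := ih ⟨a.val + k, hb⟩ (by show a.val ≤ a.val + k; omega) rfl
    have h2 : f ⟨a.val + k, hb⟩ < f b := hf (by show a.val + k < b.val; omega)
    have h2' : (f ⟨a.val + k, hb⟩).val < (f b).val := h2
    simp only at h1
    omega

theorem not_le_phiRank (hnd : n < d) (hnr : n < r) (θ : Idx d (d + r))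
    (h : ¬ θ ≤ phiRank d r n hnr) :
    d ≤ (θ.1 ⟨d - (n + 1), Nat.sub_lt (by omega) (Nat.succ_pos n)⟩).val := by
  by_contra hlt
  push Not at hlt
  apply h
  intro j
  show (θ.1 j).val ≤ ((phiRank d r n hnr).1 j).val
  by_cases hj : j.val + n < d
  · rw [phiRank_val_lt hnr j hj]
    have := strictMono_add_le θ.1 θ.2 j ⟨d - (n + 1), Nat.sub_lt (by omega) (Nat.succ_pos n)⟩
      (by show j.val ≤ d - (n + 1); omega)
    simp only at this
    omega
  · rw [phiRank_val_ge hnr j hj]
    have hd0 : 0 < d := by omega
    have := strictMono_add_le θ.1 θ.2 j ⟨d - 1, by omega⟩ (by show j.val ≤ d - 1; have := j.isLt; omega)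
    have h2 := (θ.1 ⟨d - 1, by omega⟩).isLt
    simp only at this
    have := j.isLt
    omega

theorem topIdx_le (τ : Idx d (d + r)) : topIdx d r ≤ τ := by
  intro t
  show (Fin.castAdd r t).val ≤ (τ.1 t).val
  have := le_val_of_strictMono τ.1 τ.2 t.val t rfl
  simpa using this

/-- The bottom rows of the rank pattern vanish in the first `d - n` columns. -/
theorem MPm_phiRank_bot (hnr : n < r) (i : Fin r) (c : Fin d) (hc : c.val + n < d) :
    MPm K (PS (phiRank d r n hnr)) (Fin.natAdd d i) c = 0 := by
  unfold MPm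
  rw [Matrix.of_apply, if_neg]
  intro h
  have h' : (Fin.natAdd d i).val ≤ ((phiRank d r n hnr).1 c).val := h
  rw [phiRank_val_lt hnr c hc] at h'
  simp at h'
  omega

theorem det_top_ne_zero (τ : Idx d (d + r)) :
    ((MPm K (PS τ)).submatrix (Fin.castAdd r) id).det ≠ 0 := by
  intro h0
  let A₀ : Matrix (Fin (d + r)) (Fin d) K := fun s t => if s = Fin.castAdd r t then 1 else 0
  have hA : Supp τ A₀ := by
    intro s t hs
    simp only [A₀]
    rw [if_neg]
    rintro rfl
    exact hs (topIdx_le τ t)
  have h1 := congrArg (evM (K := K) A₀) h0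
  rw [AlgHom.map_det, map_zero] at h1
  have h2 : ((MPm K (PS τ)).submatrix (Fin.castAdd r) id).map (evM (K := K) A₀)
      = (1 : Matrix (Fin d) (Fin d) K) := by
    have := MPm_map_evM (K := K) τ A₀ hA
    ext s t
    have h3 := congrFun (congrFun this (Fin.castAdd r s)) t
    simp only [Matrix.map_apply] at h3
    simp only [Matrix.map_apply, Matrix.submatrix_apply, id_eq]
    rw [h3]
    simp only [A₀, Matrix.one_apply]
    by_cases hst : s = t
    · subst hst; simp
    · rw [if_neg hst, if_neg]
      intro h
      exact hst (Fin.castAdd_injective _ _ h)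
  have h1' : (((MPm K (PS τ)).submatrix (Fin.castAdd r) id).map (evM (K := K) A₀)).det = 0 := h1
  rw [h2, Matrix.det_one] at h1'
  exact one_ne_zero h1'

theorem cellMatrix_top (i j : Fin d) :
    cellMatrix K d r (Fin.castAdd r i) j = if i = j then 1 else 0 := by
  unfold cellMatrix
  rw [Matrix.of_apply, dif_pos (by simp)]
  simp only [Fin.val_castAdd, Fin.ext_iff]

theorem cellMatrix_bot (i : Fin r) (j : Fin d) :
    cellMatrix K d r (Fin.natAdd d i) j = X (i, j) := by
  unfold cellMatrix
  rw [Matrix.of_apply, dif_neg (by simp)]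
  congr 2
  apply Fin.ext
  simp

/-- A matrix with identity top block is a specialisation of the cell matrix. -/
theorem cellMatrix_map {R : Type*} [CommRing R] [Algebra K R] (A : Matrix (Fin (d + r)) (Fin d) R)
    (hA : ∀ i j : Fin d, A (Fin.castAdd r i) j = if i = j then 1 else 0) :
    (cellMatrix K d r).map (aeval (R := K) fun p : Fin r × Fin d => A (Fin.natAdd d p.1) p.2) = A := by
  ext s t
  rw [Matrix.map_apply]
  induction s using Fin.addCases with
  | left i =>
    rw [cellMatrix_top, hA]
    split_ifs <;> simp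
  | right i =>
    rw [cellMatrix_bot, aeval_X]

theorem evalR_cell_top : evalR (K := K) (cellMatrix K d r) (X (topIdx d r)) = 1 := by
  rw [evalR_X]
  have : (cellMatrix K d r).submatrix (topIdx d r).1 id = 1 := by
    refine Matrix.ext (fun i j => ?_)
    rw [Matrix.submatrix_apply]
    show cellMatrix K d r (Fin.castAdd r i) j = _
    rw [cellMatrix_top, Matrix.one_apply]
  rw [this, Matrix.det_one]

/-- The key vanishing: a homogeneous Plücker polynomial whose restriction to the cell is killed by
the pairing map vanishes on the rank pattern. -/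
theorem evalR_pattern_eq_zero (hnd : n < d) (hnr : n < r) (F : PlRing K d (d + r)) (D : ℕ)
    (hF : F.IsHomogeneous D)
    (hker : pairingMap K n r d (evalR (K := K) (cellMatrix K d r) F) = 0) :
    evalR (K := K) (MPm K (PS (phiRank d r n hnr))) F = 0 := by
  set τ := phiRank d r n hnr with hτ
  set G := MPm K (PS τ) with hG
  have hinj : Function.Injective (IsScalarTower.toAlgHom K (MatRing K d (d + r))
      (FractionRing (MatRing K d (d + r)))) := IsFractionRing.injective _ _
  set ιL := IsScalarTower.toAlgHom K (MatRing K d (d + r)) (FractionRing (MatRing K d (d + r)))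
    with hιL
  apply hinj
  rw [map_zero, ← evalR_map]
  set GLm := G.map ιL with hGLm
  set g₀ : Matrix (Fin d) (Fin d) (FractionRing (MatRing K d (d + r))) :=
    GLm.submatrix (Fin.castAdd r) id with hg₀
  have hdet : IsUnit g₀.det := by
    have h1 : g₀ = (G.submatrix (Fin.castAdd r) id).map ιL := by
      ext i j; simp [hg₀, hGLm]
    rw [h1, isUnit_iff_ne_zero]
    intro h0
    have h0' : ιL (G.submatrix (Fin.castAdd r) id).det = 0 := by
      rw [AlgHom.map_det]; exact h0
    replace h0 := h0'
    rw [← map_zero ιL] at h0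
    exact det_top_ne_zero τ (hinj h0)
  set A' := GLm * g₀⁻¹ with hA'
  have hA'g : A' * g₀ = GLm := Matrix.nonsing_inv_mul_cancel_right _ _ hdet
  rw [← hA'g, evalR_mul_of_homogeneous _ _ F D hF]
  have htop : ∀ i j : Fin d, A' (Fin.castAdd r i) j = if i = j then 1 else 0 := by
    intro i j
    have h1 : A' (Fin.castAdd r i) j = (g₀ * g₀⁻¹) i j := by
      rw [hA', Matrix.mul_apply, Matrix.mul_apply]
      rfl
    rw [h1, Matrix.mul_nonsing_inv _ hdet, Matrix.one_apply]
  have hmap := cellMatrix_map (K := K) A' htop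
  rw [← hmap, evalR_map]
  set φ : CellRing K d r →ₐ[K] FractionRing (MatRing K d (d + r)) :=
    aeval (R := K) fun p : Fin r × Fin d => A' (Fin.natAdd d p.1) p.2 with hφ
  -- `φ` factors through the pairing map
  let ψ : PairRing K n r d →ₐ[K] FractionRing (MatRing K d (d + r)) :=
    aeval (R := K) (Sum.elim
      (fun p : Fin r × Fin n => if h : d - n + p.2.val < d then GLm (Fin.natAdd d p.1) ⟨d - n + p.2.val, h⟩ else 0)
      (fun p : Fin n × Fin d => if h : d - n + p.1.val < d then g₀⁻¹ ⟨d - n + p.1.val, h⟩ p.2 else 0))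
  have hfac : φ = ψ.comp (pairingMap K n r d) := by
    apply MvPolynomial.algHom_ext
    rintro ⟨i, j⟩
    rw [AlgHom.comp_apply]
    unfold pairingMap
    rw [hφ, aeval_X, aeval_X, map_sum]
    simp only [map_mul, ψ, aeval_X, Sum.elim_inl, Sum.elim_inr]
    rw [hA', Matrix.mul_apply]
    symm
    apply Fintype.sum_of_injective (fun k : Fin n => (⟨d - n + k.val, by have := k.isLt; omega⟩ : Fin d))
    · intro a b hab
      apply Fin.ext
      have := congrArg Fin.val hab
      simp only at this
      omega
    · intro c hc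
      have hc' : c.val + n < d := by
        by_contra hge
        apply hc
        refine ⟨⟨c.val - (d - n), by have := c.isLt; omega⟩, ?_⟩
        apply Fin.ext
        simp only
        omega
      have : GLm (Fin.natAdd d i) c = 0 := by
        rw [hGLm, Matrix.map_apply, hG, hτ, MPm_phiRank_bot hnr i c hc', map_zero]
      rw [this, zero_mul]
    · intro k
      have hk : d - n + k.val < d := by have := k.isLt; omega
      simp only [dif_pos hk]
  rw [hfac, AlgHom.comp_apply, hker, map_zero, mul_zero]


/-- The lift of a cell polynomial to a Plücker polynomial. -/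
noncomputable def cellLift (K : Type u) [Field K] (d r : ℕ) : CellRing K d r →ₐ[K] PlRing K d (d + r) :=
  aeval fun p : Fin r × Fin d =>
    coord K d (d + r) (Function.update (Fin.castAdd r) p.2 (Fin.natAdd d p.1))

theorem det_one_updateRow {R : Type*} [CommRing R] {k : ℕ} (j : Fin k) (v : Fin k → R) :
    ((1 : Matrix (Fin k) (Fin k) R).updateRow j v).det = v j := by
  rw [← Matrix.cramer_transpose_apply, Matrix.transpose_one, Matrix.cramer_one]
  rfl

theorem evalR_cellLift (f : CellRing K d r) :
    evalR (K := K) (cellMatrix K d r) (cellLift K d r f) = f := by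
  have : (evalR (K := K) (cellMatrix K d r)).comp (cellLift K d r) = AlgHom.id K _ := by
    apply MvPolynomial.algHom_ext
    rintro ⟨i, j⟩
    rw [AlgHom.comp_apply, AlgHom.id_apply]
    unfold cellLift
    rw [aeval_X, evalR_coord]
    have hM : (cellMatrix K d r).submatrix (Function.update (Fin.castAdd r) j (Fin.natAdd d i)) id
        = (1 : Matrix (Fin d) (Fin d) (CellRing K d r)).updateRow j (fun c => X (i, c)) := by
      refine Matrix.ext (fun s t => ?_)
      rw [Matrix.submatrix_apply, Matrix.updateRow_apply]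
      by_cases hs : s = j
      · subst hs
        rw [Function.update_self, if_pos rfl, id, cellMatrix_bot]
      · rw [Function.update_of_ne hs, if_neg hs, id, cellMatrix_top, Matrix.one_apply]
    rw [hM, det_one_updateRow]
  have h := AlgHom.congr_fun this f
  rwa [AlgHom.comp_apply, AlgHom.id_apply] at h

theorem exists_homogeneous_lift (f : CellRing K d r) :
    ∃ (F : PlRing K d (d + r)) (D : ℕ), F.IsHomogeneous D ∧
      evalR (K := K) (cellMatrix K d r) F = f := by
  set F₁ := cellLift K d r f with hF₁
  set D := F₁.totalDegree with hD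
  refine ⟨∑ k ∈ Finset.range (D + 1), homogeneousComponent k F₁ * X (topIdx d r) ^ (D - k), D, ?_, ?_⟩
  · apply IsHomogeneous.sum
    intro k hk
    have hk' : k ≤ D := by have := Finset.mem_range.mp hk; omega
    have h1 := homogeneousComponent_isHomogeneous k F₁
    have h2 : (X (topIdx d r) ^ (D - k) : PlRing K d (d + r)).IsHomogeneous (D - k) := by
      have := (isHomogeneous_X K (topIdx d r)).pow (D - k)
      simpa using this
    have := h1.mul h2
    rwa [Nat.add_sub_cancel' hk'] at this
  · rw [map_sum]
    simp only [map_mul, map_pow, evalR_cell_top, one_pow, mul_one]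
    rw [← map_sum, sum_homogeneousComponent, evalR_cellLift]

theorem ker_pairingMap_le [Infinite K] (hnd : n < d) (hnr : n < r) (f : CellRing K d r)
    (hf : pairingMap K n r d f = 0) :
    f ∈ CAlgX.minorIdeal (genMatrix K r d) (n + 1) := by
  have hd : 0 < d := by omega
  obtain ⟨F, D, hF, hFf⟩ := exists_homogeneous_lift f
  have h0 := evalR_pattern_eq_zero hnd hnr F D hF (by rw [hFf]; exact hf)
  have hmem : F ∈ schubertVanishing K d (d + r) (phiRank d r n hnr) := by
    rw [← ker_evalR_eq hd]
    exact (RingHom.mem_ker).mpr h0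
  rw [schubertVanishing_eq_IOf hd] at hmem
  unfold IOf at hmem
  have h1 := Ideal.mem_map_of_mem (evalR (K := K) (cellMatrix K d r)).toRingHom hmem
  have h2 : (evalR (K := K) (cellMatrix K d r)).toRingHom F = f := hFf
  rw [h2, Ideal.map_sup] at h1
  refine (sup_le ?_ ?_ : _ ≤ CAlgX.minorIdeal (genMatrix K r d) (n + 1)) h1
  · unfold plIdealTop
    rw [Ideal.map_span]
    apply Ideal.span_le.mpr
    rintro _ ⟨_, ⟨i, j, p, _, rfl⟩, rfl⟩
    have : (evalR (K := K) (cellMatrix K d r)).toRingHom (shuffleRel K i j p) = 0 :=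
      evalR_shuffleRel _ i j p
    rw [this]
    exact Ideal.zero_mem _
  · rw [Ideal.map_span]
    apply Ideal.span_le.mpr
    rintro _ ⟨_, ⟨θ, hθ, rfl⟩, rfl⟩
    have hθ' := not_le_phiRank hnd hnr θ hθ
    rw [← Groth.Agent.S11275.result K d r (n + 1) hd (Nat.succ_pos n) (by omega) (by omega)]
    apply Ideal.subset_span
    refine ⟨θ, hθ', ?_⟩
    show evalR (K := K) (cellMatrix K d r) (X θ) = _
    rw [evalR_X]
    rfl

theorem minorIdeal_le_ker (m q : ℕ) :
    CAlgX.minorIdeal (genMatrix K m q) (n + 1) ≤ RingHom.ker (pairingMap K n m q).toRingHom := by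
  unfold CAlgX.minorIdeal
  apply Ideal.span_le.mpr
  rintro _ ⟨fg, rfl⟩
  rw [SetLike.mem_coe, RingHom.mem_ker]
  show pairingMap K n m q _ = 0
  rw [AlgHom.map_det]
  let U : Matrix (Fin (n + 1)) (Fin n) (PairRing K n m q) := fun a k => X (Sum.inl (fg.1 a, k))
  let W : Matrix (Fin n) (Fin (n + 1)) (PairRing K n m q) := fun k b => X (Sum.inr (k, fg.2 b))
  have : (pairingMap K n m q).mapMatrix ((genMatrix K m q).submatrix fg.1 fg.2) = U * W := by
    refine Matrix.ext (fun a b => ?_)
    rw [AlgHom.mapMatrix_apply, Matrix.map_apply, Matrix.submatrix_apply, Matrix.mul_apply]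
    unfold genMatrix pairingMap
    rw [Matrix.of_apply, aeval_X]
  rw [this]
  exact det_mul_eq_zero_of_lt (Nat.lt_succ_self n) U W

theorem ker_pairingMap_eq_bot_of_le_right (m q : ℕ) (h : q ≤ n) :
    RingHom.ker (pairingMap K n m q).toRingHom = ⊥ := by
  let s : PairRing K n m q →ₐ[K] MvPolynomial (Fin m × Fin q) K :=
    aeval (R := K) (Sum.elim
      (fun p : Fin m × Fin n => if h : p.2.val < q then X (p.1, ⟨p.2.val, h⟩) else 0)
      (fun p : Fin n × Fin q => if p.1.val = p.2.val then 1 else 0))
  have hs : s.comp (pairingMap K n m q) = AlgHom.id K _ := by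
    apply MvPolynomial.algHom_ext
    rintro ⟨i, j⟩
    rw [AlgHom.comp_apply, AlgHom.id_apply]
    unfold pairingMap
    rw [aeval_X, map_sum]
    simp only [map_mul, s, aeval_X, Sum.elim_inl, Sum.elim_inr]
    rw [Finset.sum_eq_single (⟨j.val, lt_of_lt_of_le j.isLt h⟩ : Fin n)]
    · simp
    · intro k _ hk
      have : ¬ k.val = j.val := fun hkj => hk (Fin.ext hkj)
      rw [if_neg this, mul_zero]
    · intro hk; exact absurd (Finset.mem_univ _) hk
  rw [eq_bot_iff]
  intro f hf
  rw [RingHom.mem_ker] at hf
  have := AlgHom.congr_fun hs f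
  rw [AlgHom.comp_apply, AlgHom.id_apply] at this
  rw [Ideal.mem_bot, ← this]
  show s (pairingMap K n m q f) = 0
  have hf' : pairingMap K n m q f = 0 := hf
  rw [hf', map_zero]

theorem ker_pairingMap_eq_bot_of_le_left (m q : ℕ) (h : m ≤ n) :
    RingHom.ker (pairingMap K n m q).toRingHom = ⊥ := by
  let s : PairRing K n m q →ₐ[K] MvPolynomial (Fin m × Fin q) K :=
    aeval (R := K) (Sum.elim
      (fun p : Fin m × Fin n => if p.1.val = p.2.val then 1 else 0)
      (fun p : Fin n × Fin q => if h : p.1.val < m then X (⟨p.1.val, h⟩, p.2) else 0))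
  have hs : s.comp (pairingMap K n m q) = AlgHom.id K _ := by
    apply MvPolynomial.algHom_ext
    rintro ⟨i, j⟩
    rw [AlgHom.comp_apply, AlgHom.id_apply]
    unfold pairingMap
    rw [aeval_X, map_sum]
    simp only [map_mul, s, aeval_X, Sum.elim_inl, Sum.elim_inr]
    rw [Finset.sum_eq_single (⟨i.val, lt_of_lt_of_le i.isLt h⟩ : Fin n)]
    · simp
    · intro k _ hk
      have : ¬ i.val = k.val := fun hkj => hk (Fin.ext hkj.symm)
      rw [if_neg this, zero_mul]
    · intro hk; exact absurd (Finset.mem_univ _) hk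
  rw [eq_bot_iff]
  intro f hf
  rw [RingHom.mem_ker] at hf
  have := AlgHom.congr_fun hs f
  rw [AlgHom.comp_apply, AlgHom.id_apply] at this
  rw [Ideal.mem_bot, ← this]
  show s (pairingMap K n m q f) = 0
  have hf' : pairingMap K n m q f = 0 := hf
  rw [hf', map_zero]

/-- S11267: the second fundamental theorem for `GL_n`. -/
theorem ker_pairingMap_eq [Infinite K] (m q : ℕ) :
    RingHom.ker (pairingMap K n m q).toRingHom = CAlgX.minorIdeal (genMatrix K m q) (n + 1) := by
  apply le_antisymm _ (minorIdeal_le_ker m q)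
  by_cases hq : q ≤ n
  · rw [ker_pairingMap_eq_bot_of_le_right m q hq]; exact bot_le
  by_cases hm : m ≤ n
  · rw [ker_pairingMap_eq_bot_of_le_left m q hm]; exact bot_le
  intro f hf
  exact ker_pairingMap_le (by omega) (by omega) f ((RingHom.mem_ker).mp hf)

end SFT

end Groth.Agent.Lib.Helper8.Gr
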