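import Mathlib
import Groth.Prelude.Def_W4bk4grassmannianPl
import Groth.Agent.Lib.Helper8.Det1
set_option backward.isDefEq.respectTransparency.types false
set_option linter.unusedSectionVars false
set_option autoImplicit false
universe u

namespace Groth.Agent.Lib.Helper8.Gr
open W4bk4grassmannian MvPolynomial

section Count

/-- Number of terms of a sequence below a threshold. -/
def cntN {p : ℕ} (f : Fin p → ℕ) (x : ℕ) : ℕ := (Finset.univ.filter fun j : Fin p => f j < x).card

theorem cntN_le {p : ℕ} (f : Fin p → ℕ) (x : ℕ) : cntN f x ≤ p := by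
  unfold cntN
  calc _ ≤ (Finset.univ : Finset (Fin p)).card := Finset.card_filter_le _ _
    _ = p := by simp

theorem cntN_self {p : ℕ} (f : Fin p → ℕ) (hf : StrictMono f) (j : Fin p) : cntN f (f j) = j.val := by
  unfold cntN
  have : (Finset.univ.filter fun i : Fin p => f i < f j) = Finset.univ.filter fun i : Fin p => i < j := by
    apply Finset.filter_congr
    intro i _
    exact hf.lt_iff_lt
  rw [this]
  have h2 : (Finset.univ.filter fun i : Fin p => i < j) = Finset.Iio j := by
    ext i; simp
  rw [h2, Fin.card_Iio]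

theorem lt_cntN {p : ℕ} (f : Fin p → ℕ) (hf : StrictMono f) (j : Fin p) (x : ℕ) (h : f j < x) :
    j.val < cntN f x := by
  unfold cntN
  have hsub : Finset.Iic j ⊆ Finset.univ.filter fun i : Fin p => f i < x := by
    intro i hi
    rw [Finset.mem_Iic] at hi
    rw [Finset.mem_filter]
    exact ⟨Finset.mem_univ _, lt_of_le_of_lt (hf.monotone hi) h⟩
  have := Finset.card_le_card hsub
  rw [Fin.card_Iic] at this
  omega

theorem lt_cntN_iff {p : ℕ} (f : Fin p → ℕ) (hf : StrictMono f) (j : Fin p) (x : ℕ) :
    f j < x ↔ j.val < cntN f x := by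
  constructor
  · exact lt_cntN f hf j x
  · intro h
    by_contra hge
    push Not at hge
    -- all i with f i < x satisfy i < j
    have hsub : (Finset.univ.filter fun i : Fin p => f i < x) ⊆ Finset.Iio j := by
      intro i hi
      rw [Finset.mem_filter] at hi
      rw [Finset.mem_Iio]
      by_contra hij
      push Not at hij
      have := hf.monotone hij
      omega
    have := Finset.card_le_card hsub
    rw [Fin.card_Iio] at this
    unfold cntN at h
    omega

/-- Entrywise comparison of increasing sequences in terms of counting functions. -/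
theorem seq_le_iff_cnt {p q : ℕ} (f : Fin p → ℕ) (g : Fin q → ℕ) (hf : StrictMono f)
    (hg : StrictMono g) :
    (p ≤ q ∧ ∀ (j : Fin p) (j' : Fin q), j.val = j'.val → g j' ≤ f j) ↔
      ∀ x, cntN f x ≤ cntN g x := by
  constructor
  · rintro ⟨hpq, h⟩ x
    unfold cntN
    apply Finset.card_le_card_of_injOn (fun j => Fin.castLE hpq j)
    · intro j hj
      rw [Finset.mem_coe, Finset.mem_filter] at hj ⊢
      exact ⟨Finset.mem_univ _, lt_of_le_of_lt (h j (Fin.castLE hpq j) rfl) hj.2⟩
    · intro a _ b _ hab
      exact Fin.castLE_injective hpq hab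
  · intro h
    have hpq : p ≤ q := by
      set x := (Finset.univ.sup f) + 1 with hx
      have h1 : cntN f x = p := by
        unfold cntN
        rw [Finset.filter_true_of_mem]
        · simp
        · intro j _
          have : f j ≤ Finset.univ.sup f := Finset.le_sup (f := f) (Finset.mem_univ j)
          omega
      have := h x
      rw [h1] at this
      exact le_trans this (cntN_le g x)
    refine ⟨hpq, ?_⟩
    intro j j' hjj'
    by_contra hlt
    push Not at hlt
    have h1 := lt_cntN f hf j (g j') hlt
    have h2 := cntN_self g hg j'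
    have := h (g j')
    omega

variable {d n : ℕ}

/-- The counting function of an index. -/
def cntI (θ : Idx d n) (x : ℕ) : ℕ := cntN (fun j => (θ.1 j).val) x

theorem strictMono_val (θ : Idx d n) : StrictMono (fun j => (θ.1 j).val) := fun _ _ h => θ.2 h

theorem idx_le_iff_cnt (θ θ' : Idx d n) : θ ≤ θ' ↔ ∀ x, cntI θ' x ≤ cntI θ x := by
  unfold cntI
  rw [← seq_le_iff_cnt _ _ (strictMono_val θ') (strictMono_val θ)]
  constructor
  · intro h
    refine ⟨le_rfl, ?_⟩
    intro j j' hjj'
    have : j = j' := Fin.ext hjj'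
    subst this
    exact h j
  · rintro ⟨_, h⟩ j
    exact h j j rfl

theorem minorGE_iff_cnt {m n : ℕ} (M M' : MinorIdx m n) :
    MinorGE M M' ↔ (∀ x, cntI M.2.1 x ≤ cntI M'.2.1 x) ∧ (∀ x, cntI M.2.2 x ≤ cntI M'.2.2 x) := by
  unfold cntI
  rw [← seq_le_iff_cnt _ _ (strictMono_val M.2.1) (strictMono_val M'.2.1),
    ← seq_le_iff_cnt _ _ (strictMono_val M.2.2) (strictMono_val M'.2.2)]
  unfold MinorGE
  constructor
  · rintro ⟨hs, h⟩
    exact ⟨⟨by omega, fun j j' hjj' => (h j j' hjj').1⟩, ⟨by omega, fun j j' hjj' => (h j j' hjj').2⟩⟩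
  · rintro ⟨⟨hs, h1⟩, ⟨_, h2⟩⟩
    exact ⟨by omega, fun j j' hjj' => ⟨h1 j j' hjj', h2 j j' hjj'⟩⟩

end Count

end Groth.Agent.Lib.Helper8.Gr
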