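import Mathlib
import Groth.Prelude.Def_W4bk4grassmannianPl
import Groth.Agent.Lib.Helper8.Bit1
set_option backward.isDefEq.respectTransparency.types false
set_option linter.unusedSectionVars false
set_option autoImplicit false
universe u

namespace Groth.Agent.Lib.Helper8.Gr
open W4bk4grassmannian MvPolynomial

section Dict

/-- The image finset of an index. -/
def imgI {d N : ℕ} (θ : Idx d N) : Finset (Fin N) := Finset.univ.image θ.1

theorem card_imgI {d N : ℕ} (θ : Idx d N) : (imgI θ).card = d := by
  unfold imgI
  rw [Finset.card_image_of_injective _ θ.2.injective]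
  simp

/-- Counting elements of a finset below a threshold. -/
def cntS {N : ℕ} (S : Finset (Fin N)) (x : ℕ) : ℕ := (S.filter fun i => i.val < x).card

theorem cntI_eq_cntS {d N : ℕ} (θ : Idx d N) (x : ℕ) : cntI θ x = cntS (imgI θ) x := by
  unfold cntI cntN cntS imgI
  rw [Finset.filter_image, Finset.card_image_of_injective _ θ.2.injective]

theorem idx_ext_of_img {d N : ℕ} (θ θ' : Idx d N) (h : imgI θ = imgI θ') : θ = θ' := by
  apply Subtype.ext
  have h1 := Finset.orderEmbOfFin_unique (card_imgI θ) (f := θ.1)
    (fun x => Finset.mem_image_of_mem _ (Finset.mem_univ x)) θ.2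
  have h2 := Finset.orderEmbOfFin_unique (card_imgI θ) (f := θ'.1)
    (fun x => by rw [h]; exact Finset.mem_image_of_mem _ (Finset.mem_univ x)) θ'.2
  rw [h1, h2]

/-- The index with a given image. -/
def idxOfFinset {d N : ℕ} (S : Finset (Fin N)) (h : S.card = d) : Idx d N :=
  ⟨S.orderEmbOfFin h, (S.orderEmbOfFin h).strictMono⟩

theorem imgI_idxOfFinset {d N : ℕ} (S : Finset (Fin N)) (h : S.card = d) :
    imgI (idxOfFinset S h) = S := by
  unfold imgI idxOfFinset
  exact Finset.image_orderEmbOfFin_univ S h

theorem cntS_of_ge {N : ℕ} (S : Finset (Fin N)) (x : ℕ) (hx : N ≤ x) : cntS S x = S.card := by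
  unfold cntS
  rw [Finset.filter_true_of_mem]
  intro i _
  have := i.isLt
  omega

theorem cntI_of_ge {d N : ℕ} (θ : Idx d N) (x : ℕ) (hx : N ≤ x) : cntI θ x = d := by
  rw [cntI_eq_cntS, cntS_of_ge _ _ hx, card_imgI]

variable {m n : ℕ}

/-- The subset of rows of `[I ; Z̃]` attached to a minor. -/
def TM (M : MinorIdx m n) : Finset (Fin (n + m)) :=
  ((Finset.univ \ imgI M.2.2).image (Fin.castAdd m)) ∪
    ((imgI M.2.1).image fun i => Fin.natAdd n (Fin.rev i))

theorem cntS_union_parts (C : Finset (Fin n)) (Rw : Finset (Fin m)) (x : ℕ) :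
    cntS ((C.image (Fin.castAdd m)) ∪ (Rw.image fun i => Fin.natAdd n (Fin.rev i))) x
      = (C.filter fun c => c.val < x).card + (Rw.filter fun i => n + (m - 1 - i.val) < x).card := by
  unfold cntS
  rw [Finset.filter_union, Finset.card_union_of_disjoint]
  · congr 1
    · rw [Finset.filter_image, Finset.card_image_of_injective _ (Fin.castAdd_injective n m)]
      congr 1
    · rw [Finset.filter_image, Finset.card_image_of_injective]
      · congr 1
        apply Finset.filter_congr
        intro i _
        simp only [Fin.val_natAdd, Fin.val_rev]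
        have := i.isLt
        constructor <;> intro h <;> omega
      · intro a b hab
        have := Fin.natAdd_injective m n hab
        exact Fin.rev_injective this
  · rw [Finset.disjoint_left]
    intro z hz1 hz2
    rw [Finset.mem_filter, Finset.mem_image] at hz1 hz2
    obtain ⟨⟨c, _, rfl⟩, _⟩ := hz1
    obtain ⟨⟨i, _, hi⟩, _⟩ := hz2
    have := congrArg Fin.val hi
    simp only [Fin.val_natAdd, Fin.val_castAdd] at this
    have := c.isLt
    omega

theorem card_compl_filter (C : Finset (Fin n)) (x : ℕ) (hx : x ≤ n) :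
    ((Finset.univ \ C).filter fun c => c.val < x).card + (C.filter fun c => c.val < x).card = x := by
  have h1 : ((Finset.univ \ C).filter fun c => c.val < x)
      = (Finset.univ.filter fun c : Fin n => c.val < x) \ (C.filter fun c => c.val < x) := by
    ext c
    simp only [Finset.mem_filter, Finset.mem_sdiff, Finset.mem_univ, true_and]
    tauto
  rw [h1, Finset.card_sdiff_add_card_eq_card]
  · rw [Fin.card_filter_val_lt, min_eq_right hx]
  · intro c hc
    rw [Finset.mem_filter] at hc ⊢
    exact ⟨Finset.mem_univ _, hc.2⟩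

/-- (F1) -/
theorem cntS_TM_low (M : MinorIdx m n) (x : ℕ) (hx : x ≤ n) :
    cntS (TM M) x + cntI M.2.2 x = x := by
  unfold TM
  rw [cntS_union_parts, cntI_eq_cntS]
  have h2 : ((imgI M.2.1).filter fun i => n + (m - 1 - i.val) < x) = ∅ := by
    apply Finset.filter_false_of_mem
    intro i _
    omega
  rw [h2, Finset.card_empty, add_zero]
  exact card_compl_filter _ x hx

/-- (F2) -/
theorem cntS_TM_high (M : MinorIdx m n) (y : ℕ) (hy : y ≤ m) :
    cntS (TM M) (n + y) + cntI M.2.1 (m - y) = n := by
  unfold TM
  rw [cntS_union_parts, cntI_eq_cntS]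
  have h1 : ((Finset.univ \ imgI M.2.2).filter fun c => c.val < n + y) = Finset.univ \ imgI M.2.2 := by
    apply Finset.filter_true_of_mem
    intro c _
    have := c.isLt
    omega
  rw [h1]
  have h2 : (Finset.univ \ imgI M.2.2).card + (imgI M.2.2).card = n := by
    rw [Finset.card_sdiff_add_card_eq_card (Finset.subset_univ _)]
    simp
  have h3 : ((imgI M.2.1).filter fun i => n + (m - 1 - i.val) < n + y)
      = (imgI M.2.1).filter fun i => ¬ i.val < m - y := by
    apply Finset.filter_congr
    intro i _
    have := i.isLt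
    constructor <;> intro h <;> omega
  rw [h3]
  have h4 := Finset.card_filter_add_card_filter_not (s := imgI M.2.1)
    (fun i : Fin m => i.val < m - y)
  unfold cntS
  rw [card_imgI] at h2 h4
  omega

theorem card_TM (M : MinorIdx m n) : (TM M).card = n := by
  have h := cntS_TM_high M m le_rfl
  rw [cntS_of_ge _ _ le_rfl] at h
  have : cntI M.2.1 (m - m) = 0 := by
    unfold cntI cntN
    rw [Nat.sub_self]
    simp
  omega

/-- The index attached to a minor. -/
def ThetaM (M : MinorIdx m n) : Idx n (n + m) := idxOfFinset (TM M) (card_TM M)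

theorem imgI_ThetaM (M : MinorIdx m n) : imgI (ThetaM M) = TM M := imgI_idxOfFinset _ _

theorem cntI_ThetaM (M : MinorIdx m n) (x : ℕ) : cntI (ThetaM M) x = cntS (TM M) x := by
  rw [cntI_eq_cntS, imgI_ThetaM]

/-- The order dictionary. -/
theorem minorGE_iff_ThetaM_le (M M' : MinorIdx m n) : MinorGE M M' ↔ ThetaM M ≤ ThetaM M' := by
  rw [minorGE_iff_cnt, idx_le_iff_cnt]
  simp only [cntI_ThetaM]
  constructor
  · rintro ⟨hr, hc⟩ x
    by_cases hx : x ≤ n
    · have h1 := cntS_TM_low M x hx
      have h2 := cntS_TM_low M' x hx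
      have := hc x
      omega
    · by_cases hx2 : x ≤ n + m
      · have h1 := cntS_TM_high M (x - n) (by omega)
        have h2 := cntS_TM_high M' (x - n) (by omega)
        have e : n + (x - n) = x := by omega
        rw [e] at h1 h2
        have := hr (m - (x - n))
        omega
      · rw [cntS_of_ge _ _ (by omega), cntS_of_ge _ _ (by omega), card_TM, card_TM]
  · intro h
    have hcols : ∀ x, x ≤ n → cntI M.2.2 x ≤ cntI M'.2.2 x := by
      intro x hx
      have h1 := cntS_TM_low M x hx
      have h2 := cntS_TM_low M' x hx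
      have := h x
      omega
    have hsize : M.1 + 1 ≤ M'.1 + 1 := by
      have := hcols n le_rfl
      rwa [cntI_of_ge _ _ le_rfl, cntI_of_ge _ _ le_rfl] at this
    constructor
    · intro z
      by_cases hz : z ≤ m
      · have h1 := cntS_TM_high M (m - z) (by omega)
        have h2 := cntS_TM_high M' (m - z) (by omega)
        have e : m - (m - z) = z := by omega
        rw [e] at h1 h2
        have := h (n + (m - z))
        omega
      · rw [cntI_of_ge _ _ (by omega), cntI_of_ge _ _ (by omega)]
        exact hsize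
    · intro x
      by_cases hx : x ≤ n
      · exact hcols x hx
      · rw [cntI_of_ge _ _ (by omega), cntI_of_ge _ _ (by omega)]
        exact hsize

theorem minorGE_antisymm (M M' : MinorIdx m n) (h1 : MinorGE M M') (h2 : MinorGE M' M) : M = M' := by
  obtain ⟨s, a, b⟩ := M
  obtain ⟨s', a', b'⟩ := M'
  have hs : s = s' := le_antisymm h1.1 h2.1
  subst hs
  have ha : a = a' := by
    apply Subtype.ext
    funext j
    exact le_antisymm (h2.2 j j rfl).1 (h1.2 j j rfl).1
  have hb : b = b' := by
    apply Subtype.ext
    funext j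
    exact le_antisymm (h2.2 j j rfl).2 (h1.2 j j rfl).2
  rw [ha, hb]

theorem minorGE_refl (M : MinorIdx m n) : MinorGE M M := by
  refine ⟨le_rfl, ?_⟩
  intro j j' hjj'
  have : j = j' := Fin.ext hjj'
  subst this
  exact ⟨le_rfl, le_rfl⟩

theorem ThetaM_injective : Function.Injective (ThetaM (m := m) (n := n)) := by
  intro M M' h
  apply minorGE_antisymm
  · rw [minorGE_iff_ThetaM_le, h]
  · rw [minorGE_iff_ThetaM_le, h]

/-- The number of rows of an index in the lower block is the size of the minor. -/
theorem cntI_ThetaM_n (M : MinorIdx m n) : cntI (ThetaM M) n + (M.1 + 1) = n := by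
  have h := cntS_TM_low M n le_rfl
  rw [cntI_of_ge _ _ le_rfl] at h
  rw [cntI_ThetaM]
  exact h


theorem cntI_topIdx : cntI (topIdx n m) n = n := by
  unfold cntI cntN topIdx
  rw [Finset.filter_true_of_mem]
  · simp
  · intro j _
    simp

theorem ThetaM_ne_top (M : MinorIdx m n) : ThetaM M ≠ topIdx n m := by
  intro h
  have h1 := cntI_ThetaM_n M
  rw [h, cntI_topIdx] at h1
  omega

/-- The rows of the minor attached to an index. -/
def rowsF (θ : Idx n (n + m)) : Finset (Fin m) :=
  Finset.univ.filter fun i => Fin.natAdd n (Fin.rev i) ∈ imgI θ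

/-- The columns of the minor attached to an index. -/
def colsF (θ : Idx n (n + m)) : Finset (Fin n) :=
  Finset.univ.filter fun c => Fin.castAdd m c ∉ imgI θ

theorem imgI_decomp (θ : Idx n (n + m)) :
    imgI θ = ((Finset.univ \ colsF θ).image (Fin.castAdd m)) ∪
      ((rowsF θ).image fun i => Fin.natAdd n (Fin.rev i)) := by
  ext z
  rw [Finset.mem_union, Finset.mem_image, Finset.mem_image]
  induction z using Fin.addCases with
  | left c =>
    constructor
    · intro h
      left
      refine ⟨c, ?_, rfl⟩
      rw [Finset.mem_sdiff]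
      refine ⟨Finset.mem_univ _, ?_⟩
      unfold colsF
      rw [Finset.mem_filter]
      intro h'
      exact h'.2 h
    · rintro (⟨c', hc', hcc'⟩ | ⟨i, _, hi⟩)
      · have : c' = c := Fin.castAdd_injective n m hcc'
        subst this
        rw [Finset.mem_sdiff] at hc'
        unfold colsF at hc'
        rw [Finset.mem_filter] at hc'
        by_contra hcon
        exact hc'.2 ⟨Finset.mem_univ _, hcon⟩
      · exfalso
        have := congrArg Fin.val hi
        simp only [Fin.val_natAdd, Fin.val_castAdd] at this
        have := c.isLt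
        omega
  | right i' =>
    constructor
    · intro h
      right
      refine ⟨Fin.rev i', ?_, ?_⟩
      · unfold rowsF
        rw [Finset.mem_filter, Fin.rev_rev]
        exact ⟨Finset.mem_univ _, h⟩
      · rw [Fin.rev_rev]
    · rintro (⟨c', _, hcc'⟩ | ⟨i, hi, hii'⟩)
      · exfalso
        have := congrArg Fin.val hcc'
        simp only [Fin.val_natAdd, Fin.val_castAdd] at this
        have := c'.isLt
        omega
      · unfold rowsF at hi
        rw [Finset.mem_filter] at hi
        rw [← hii']
        exact hi.2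

theorem card_rowsF_eq (θ : Idx n (n + m)) : (rowsF θ).card = (colsF θ).card := by
  have h1 : cntS (imgI θ) (n + m) = n := by
    rw [cntS_of_ge _ _ le_rfl, card_imgI]
  rw [imgI_decomp θ, cntS_union_parts] at h1
  have h2 : ((Finset.univ \ colsF θ).filter fun c => c.val < n + m) = Finset.univ \ colsF θ := by
    apply Finset.filter_true_of_mem
    intro c _
    have := c.isLt
    omega
  have h3 : ((rowsF θ).filter fun i => n + (m - 1 - i.val) < n + m) = rowsF θ := by
    apply Finset.filter_true_of_mem
    intro i _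
    have := i.isLt
    omega
  rw [h2, h3] at h1
  have h4 : (Finset.univ \ colsF θ).card + (colsF θ).card = n := by
    rw [Finset.card_sdiff_add_card_eq_card (Finset.subset_univ _)]
    simp
  omega

theorem imgI_topIdx : imgI (topIdx n m) = (Finset.univ : Finset (Fin n)).image (Fin.castAdd m) := rfl

theorem exists_minor_of_ne_top (θ : Idx n (n + m)) (h : θ ≠ topIdx n m) :
    ∃ M : MinorIdx m n, ThetaM M = θ := by
  have hcard := card_rowsF_eq θ
  by_cases h0 : (colsF θ).card = 0
  · exfalso
    apply h
    apply idx_ext_of_img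
    rw [imgI_decomp θ, imgI_topIdx]
    have hc : colsF θ = ∅ := Finset.card_eq_zero.mp h0
    have hr : rowsF θ = ∅ := Finset.card_eq_zero.mp (by rw [hcard, h0])
    rw [hc, hr, Finset.sdiff_empty, Finset.image_empty, Finset.union_empty]
  · have hr : (rowsF θ).card = ((colsF θ).card - 1) + 1 := by omega
    have hc : (colsF θ).card = ((colsF θ).card - 1) + 1 := by omega
    refine ⟨⟨(colsF θ).card - 1, idxOfFinset (rowsF θ) hr, idxOfFinset (colsF θ) hc⟩, ?_⟩
    apply idx_ext_of_img
    rw [imgI_ThetaM]
    unfold TM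
    simp only
    rw [imgI_idxOfFinset, imgI_idxOfFinset, ← imgI_decomp θ]

theorem idx_le_phiRank_iff (n' : ℕ) (hn'd : n' < n) (hn'r : n' < m) (θ : Idx n (n + m)) :
    θ ≤ phiRank n m n' hn'r ↔
      (θ.1 ⟨n - (n' + 1), Nat.sub_lt (by omega) (Nat.succ_pos n')⟩).val < n := by
  constructor
  · intro h
    have h1 := h ⟨n - (n' + 1), Nat.sub_lt (by omega) (Nat.succ_pos n')⟩
    have h2 : ((phiRank n m n' hn'r).1 ⟨n - (n' + 1), Nat.sub_lt (by omega) (Nat.succ_pos n')⟩).val
        = n' + (n - (n' + 1)) := phiRank_val_lt hn'r _ (by simp only; omega)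
    have h1' : (θ.1 ⟨n - (n' + 1), Nat.sub_lt (by omega) (Nat.succ_pos n')⟩).val
        ≤ ((phiRank n m n' hn'r).1 ⟨n - (n' + 1), Nat.sub_lt (by omega) (Nat.succ_pos n')⟩).val := h1
    omega
  · intro h
    by_contra hcon
    have := not_le_phiRank hn'd hn'r θ hcon
    omega

theorem ThetaM_le_phiRank_iff (n' : ℕ) (hn'd : n' < n) (hn'r : n' < m) (M : MinorIdx m n) :
    ThetaM M ≤ phiRank n m n' hn'r ↔ M.1 + 1 ≤ n' := by
  rw [idx_le_phiRank_iff n' hn'd hn'r]
  have h1 := lt_cntN_iff (fun j => ((ThetaM M).1 j).val) (strictMono_val (ThetaM M))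
    ⟨n - (n' + 1), Nat.sub_lt (by omega) (Nat.succ_pos n')⟩ n
  simp only at h1
  rw [h1]
  have h2 := cntI_ThetaM_n M
  unfold cntI at h2
  omega

end Dict

end Groth.Agent.Lib.Helper8.Gr
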