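import Mathlib
import Groth.Prelude.Def_W4bk4grassmannianPl
import Groth.Agent.Lib.Helper8.Bit2
set_option backward.isDefEq.respectTransparency.types false
set_option linter.unusedSectionVars false
set_option autoImplicit false
universe u

namespace Groth.Agent.Lib.Helper8.Gr
open W4bk4grassmannian MvPolynomial

section BlockDet

theorem det_submatrix_equiv_sign {ι κ : Type*} [Fintype ι] [DecidableEq ι] [Fintype κ] [DecidableEq κ]
    {R : Type*} [CommRing R] (B : Matrix κ κ R) (e₁ e₂ : ι ≃ κ) :
    ∃ ε : ℤˣ, (B.submatrix e₁ e₂).det = ((ε : ℤ) : R) * B.det := by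
  refine ⟨Equiv.Perm.sign (e₂.trans e₁.symm), ?_⟩
  have h1 : B.submatrix e₁ e₂ = (B.submatrix e₁ e₁).submatrix id (e₂.trans e₁.symm) := by
    ext i j
    simp
  rw [h1, Matrix.det_permute', Matrix.det_submatrix_equiv_self]

variable {K : Type u} [Field K] {m n : ℕ}

/-- The matrix `[I ; Z̃]` with the rows of the generic matrix in reverse order. -/
noncomputable def revMat (K : Type u) [Field K] (m n : ℕ) :
    Matrix (Fin (n + m)) (Fin n) (MvPolynomial (Fin m × Fin n) K) :=
  fun i j => Fin.addCases (fun i' => if i' = j then 1 else 0) (fun i'' => X (Fin.rev i'', j)) i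

theorem revMat_top (i j : Fin n) : revMat K m n (Fin.castAdd m i) j = if i = j then 1 else 0 := by
  unfold revMat
  rw [Fin.addCases_left]

theorem revMat_bot (i : Fin m) (j : Fin n) : revMat K m n (Fin.natAdd n i) j = X (Fin.rev i, j) := by
  unfold revMat
  rw [Fin.addCases_right]

/-- The Plücker coordinate of `Θ(M)` on `[I ; Z̃]` is the minor `M` up to sign. -/
theorem evalR_revMat_ThetaM (M : MinorIdx m n) :
    ∃ ε : ℤˣ, evalR (K := K) (revMat K m n) (X (ThetaM M)) = ((ε : ℤ) : MvPolynomial (Fin m × Fin n) K) * minorOf K M := by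
  classical
  obtain ⟨s, a, b⟩ := M
  set θ := ThetaM (⟨s, a, b⟩ : MinorIdx m n) with hθ
  -- the index type
  let ι' := {c : Fin n // c ∉ Set.range b.1} ⊕ Fin (s + 1)
  have hbij : Function.Bijective (Sum.elim (fun c : {c : Fin n // c ∉ Set.range b.1} => c.1) b.1) := by
    constructor
    · rintro (c | j) (c' | j') h
      · simp only [Sum.elim_inl] at h
        rw [Subtype.ext h]
      · simp only [Sum.elim_inl, Sum.elim_inr] at h
        exact absurd ⟨j', h.symm⟩ c.2
      · simp only [Sum.elim_inl, Sum.elim_inr] at h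
        exact absurd ⟨j, h⟩ c'.2
      · simp only [Sum.elim_inr] at h
        rw [b.2.injective h]
    · intro c
      by_cases hc : c ∈ Set.range b.1
      · obtain ⟨j, rfl⟩ := hc
        exact ⟨Sum.inr j, rfl⟩
      · exact ⟨Sum.inl ⟨c, hc⟩, rfl⟩
  let e_c : ι' ≃ Fin n := Equiv.ofBijective _ hbij
  let ρ' : ι' → Fin (n + m) :=
    Sum.elim (fun c => Fin.castAdd m c.1) (fun j => Fin.natAdd n (Fin.rev (a.1 j)))
  have hρmem : ∀ j : Fin n, ∃ i : ι', ρ' i = θ.1 j := by
    intro j
    have h1 : θ.1 j ∈ imgI θ := Finset.mem_image_of_mem _ (Finset.mem_univ j)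
    rw [hθ, imgI_ThetaM] at h1
    unfold TM at h1
    rw [Finset.mem_union, Finset.mem_image, Finset.mem_image] at h1
    rcases h1 with ⟨c, hc, hcj⟩ | ⟨i, hi, hij⟩
    · rw [Finset.mem_sdiff] at hc
      have hc' : c ∉ Set.range b.1 := by
        rintro ⟨j', rfl⟩
        exact hc.2 (Finset.mem_image_of_mem _ (Finset.mem_univ j'))
      exact ⟨Sum.inl ⟨c, hc'⟩, hcj⟩
    · unfold imgI at hi
      rw [Finset.mem_image] at hi
      obtain ⟨j', _, rfl⟩ := hi
      exact ⟨Sum.inr j', hij⟩
  choose ef hef using hρmem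
  have hef_inj : Function.Injective ef := by
    intro j j' h
    apply θ.2.injective
    rw [← hef j, ← hef j', h]
  have hef_bij : Function.Bijective ef := by
    rw [Fintype.bijective_iff_injective_and_card]
    exact ⟨hef_inj, (Fintype.card_congr e_c).symm⟩
  let e_r : Fin n ≃ ι' := Equiv.ofBijective ef hef_bij
  -- the block matrix
  set B' : Matrix ι' ι' (MvPolynomial (Fin m × Fin n) K) := (revMat K m n).submatrix ρ' e_c with hB'
  have hblock : B' = Matrix.fromBlocks 1 0
      (fun (j : Fin (s + 1)) (c : {c : Fin n // c ∉ Set.range b.1}) =>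
        revMat K m n (Fin.natAdd n (Fin.rev (a.1 j))) c.1)
      ((genMatrix K m n).submatrix a.1 b.1) := by
    refine Matrix.ext ?_
    rintro (c | j) (c' | j')
    · show revMat K m n (Fin.castAdd m c.1) c'.1 = (1 : Matrix _ _ _) c c'
      rw [revMat_top, Matrix.one_apply]
      by_cases h : c = c'
      · rw [if_pos h, if_pos (by rw [h])]
      · rw [if_neg h, if_neg (fun h' => h (Subtype.ext h'))]
    · show revMat K m n (Fin.castAdd m c.1) (b.1 j') = 0
      rw [revMat_top, if_neg]
      intro h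
      exact c.2 ⟨j', h.symm⟩
    · rfl
    · show revMat K m n (Fin.natAdd n (Fin.rev (a.1 j))) (b.1 j') = _
      rw [revMat_bot, Fin.rev_rev]
      rfl
  have hdetB' : B'.det = minorOf K (⟨s, a, b⟩ : MinorIdx m n) := by
    rw [hblock, Matrix.det_fromBlocks_zero₁₂, Matrix.det_one, one_mul]
    rfl
  have hsub : (revMat K m n).submatrix θ.1 id = B'.submatrix e_r e_c.symm := by
    refine Matrix.ext (fun j c => ?_)
    rw [Matrix.submatrix_apply, Matrix.submatrix_apply, hB', Matrix.submatrix_apply]
    have h1 : ρ' (e_r j) = θ.1 j := hef j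
    rw [h1, Equiv.apply_symm_apply]
    rfl
  obtain ⟨ε, hε⟩ := det_submatrix_equiv_sign B' e_r e_c.symm
  refine ⟨ε, ?_⟩
  rw [evalR_X, hsub, hε, hdetB']

theorem evalR_revMat_top : evalR (K := K) (revMat K m n) (X (topIdx n m)) = 1 := by
  rw [evalR_X]
  have : (revMat K m n).submatrix (topIdx n m).1 id = 1 := by
    refine Matrix.ext (fun i j => ?_)
    rw [Matrix.submatrix_apply]
    show revMat K m n (Fin.castAdd m i) j = _
    rw [revMat_top, Matrix.one_apply]
  rw [this, Matrix.det_one]

end BlockDet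

end Groth.Agent.Lib.Helper8.Gr
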