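import Mathlib
import Groth.Prelude.Def_W4bk4grassmannianPl
import Groth.Prelude.Def_CAlgX
import Groth.Agent.Lib.Helper8.Bit3
set_option backward.isDefEq.respectTransparency.types false
set_option linter.unusedSectionVars false
set_option autoImplicit false
universe u

namespace Groth.Agent.Lib.Helper8.Gr
open W4bk4grassmannian MvPolynomial

section RowRev

variable {K : Type u} [Field K] {m n : ℕ}

/-- Reversal of the rows of the generic matrix. -/
noncomputable def rowRev (K : Type u) [Field K] (m n : ℕ) :
    MvPolynomial (Fin m × Fin n) K →ₐ[K] MvPolynomial (Fin m × Fin n) K :=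
  aeval fun p : Fin m × Fin n => X (Fin.rev p.1, p.2)

theorem rowRev_X (p : Fin m × Fin n) : rowRev K m n (X p) = X (Fin.rev p.1, p.2) := by
  unfold rowRev; rw [aeval_X]

theorem rowRev_rowRev (f : MvPolynomial (Fin m × Fin n) K) : rowRev K m n (rowRev K m n f) = f := by
  have : (rowRev K m n).comp (rowRev K m n) = AlgHom.id K _ := by
    apply MvPolynomial.algHom_ext
    intro p
    rw [AlgHom.comp_apply, rowRev_X, rowRev_X, Fin.rev_rev, AlgHom.id_apply]
  have h := AlgHom.congr_fun this f
  rwa [AlgHom.comp_apply, AlgHom.id_apply] at h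

theorem cellMatrix_map_rowRev : (cellMatrix K n m).map (rowRev K m n) = revMat K m n := by
  refine Matrix.ext (fun i j => ?_)
  rw [Matrix.map_apply]
  induction i using Fin.addCases with
  | left i' =>
    rw [cellMatrix_top, revMat_top]
    split_ifs <;> simp
  | right i'' =>
    rw [cellMatrix_bot, revMat_bot, rowRev_X]

theorem evalR_revMat (F : PlRing K n (n + m)) :
    evalR (K := K) (revMat K m n) F = rowRev K m n (evalR (K := K) (cellMatrix K n m) F) := by
  rw [← cellMatrix_map_rowRev, evalR_map]

theorem rowRev_mem_minorIdeal (t : ℕ) (g : MvPolynomial (Fin m × Fin n) K)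
    (hg : g ∈ CAlgX.minorIdeal (genMatrix K m n) t) :
    rowRev K m n g ∈ CAlgX.minorIdeal (genMatrix K m n) t := by
  have : CAlgX.minorIdeal (genMatrix K m n) t
      ≤ Ideal.comap (rowRev K m n).toRingHom (CAlgX.minorIdeal (genMatrix K m n) t) := by
    unfold CAlgX.minorIdeal
    apply Ideal.span_le.mpr
    rintro _ ⟨fg, rfl⟩
    rw [SetLike.mem_coe, Ideal.mem_comap]
    show rowRev K m n _ ∈ _
    rw [AlgHom.map_det]
    apply Ideal.subset_span
    refine ⟨(fun i => Fin.rev (fg.1 i), fg.2), ?_⟩
    show ((genMatrix K m n).submatrix (fun i => Fin.rev (fg.1 i)) fg.2).det = _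
    congr 1
    refine Matrix.ext (fun i j => ?_)
    rw [AlgHom.mapMatrix_apply, Matrix.map_apply, Matrix.submatrix_apply, Matrix.submatrix_apply]
    unfold genMatrix
    rw [Matrix.of_apply, Matrix.of_apply, rowRev_X]
  exact this hg

theorem rowRev_mem_minorIdeal_iff (t : ℕ) (g : MvPolynomial (Fin m × Fin n) K) :
    rowRev K m n g ∈ CAlgX.minorIdeal (genMatrix K m n) t ↔
      g ∈ CAlgX.minorIdeal (genMatrix K m n) t := by
  constructor
  · intro h
    have := rowRev_mem_minorIdeal t _ h
    rwa [rowRev_rowRev] at this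
  · exact rowRev_mem_minorIdeal t g

theorem evalR_revMat_surjective (f : MvPolynomial (Fin m × Fin n) K) :
    ∃ F : PlRing K n (n + m), evalR (K := K) (revMat K m n) F = f := by
  refine ⟨cellLift K n m (rowRev K m n f), ?_⟩
  rw [evalR_revMat, evalR_cellLift, rowRev_rowRev]

/-- (H1), nondegenerate case. -/
theorem minorIdeal_eq_span_revMat (n' : ℕ) (hn'd : n' < n) (hn'r : n' < m) :
    CAlgX.minorIdeal (genMatrix K m n) (n' + 1) =
      Ideal.span {f | ∃ θ : Idx n (n + m), ¬ θ ≤ phiRank n m n' hn'r ∧
        f = evalR (K := K) (revMat K m n) (X θ)} := by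
  have hn0 : 0 < n := by omega
  have hS := Groth.Agent.S11275.result K n m (n' + 1) hn0 (Nat.succ_pos n') (by omega) (by omega)
  apply le_antisymm
  · intro g hg
    have h1 := rowRev_mem_minorIdeal (n' + 1) g hg
    rw [← hS] at h1
    have h2 := Ideal.mem_map_of_mem (rowRev K m n).toRingHom h1
    have h3 : (rowRev K m n).toRingHom (rowRev K m n g) = g := rowRev_rowRev g
    rw [h3, Ideal.map_span] at h2
    refine Ideal.span_mono ?_ h2
    rintro _ ⟨_, ⟨θ, hθ, rfl⟩, rfl⟩
    refine ⟨θ, ?_, ?_⟩
    · rw [idx_le_phiRank_iff n' hn'd hn'r]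
      omega
    · show rowRev K m n (cellMinor K n m θ) = _
      rw [evalR_revMat, evalR_X]
      rfl
  · apply Ideal.span_le.mpr
    rintro _ ⟨θ, hθ, rfl⟩
    rw [SetLike.mem_coe, evalR_revMat]
    apply rowRev_mem_minorIdeal
    rw [← hS]
    apply Ideal.subset_span
    refine ⟨θ, ?_, ?_⟩
    · rw [idx_le_phiRank_iff n' hn'd hn'r] at hθ
      omega
    · rw [evalR_X]; rfl

/-- (H2), nondegenerate case. -/
theorem evalR_pattern_eq_zero_of_revMat (n' : ℕ) (hn'd : n' < n) (hn'r : n' < m)
    (F : PlRing K n (n + m)) (D : ℕ) (hF : F.IsHomogeneous D)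
    (hmem : evalR (K := K) (revMat K m n) F ∈ CAlgX.minorIdeal (genMatrix K m n) (n' + 1)) :
    evalR (K := K) (MPm K (PS (phiRank n m n' hn'r))) F = 0 := by
  rw [evalR_revMat, rowRev_mem_minorIdeal_iff] at hmem
  apply evalR_pattern_eq_zero hn'd hn'r F D hF
  have := minorIdeal_le_ker (K := K) (n := n') m n hmem
  exact (RingHom.mem_ker).mp this


/-! ### The degenerate case -/

/-- The largest index. -/
def topMax (n m : ℕ) : Idx n (n + m) :=
  ⟨fun j => ⟨m + j.val, by have := j.isLt; omega⟩, fun a b h => by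
    have : a.val < b.val := h
    rw [Fin.lt_def]; simp only; omega⟩

theorem le_topMax (θ : Idx n (n + m)) : θ ≤ topMax n m := by
  intro j
  show (θ.1 j).val ≤ m + j.val
  by_cases hn : n = 0
  · subst hn; exact j.elim0
  have := strictMono_add_le θ.1 θ.2 j ⟨n - 1, by omega⟩ (by show j.val ≤ n - 1; have := j.isLt; omega)
  have h2 := (θ.1 ⟨n - 1, by omega⟩).isLt
  simp only at this
  have := j.isLt
  omega

theorem minorIdeal_eq_bot (t : ℕ) (h : m < t ∨ n < t) :
    CAlgX.minorIdeal (genMatrix K m n) t = ⊥ := by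
  unfold CAlgX.minorIdeal
  rw [Ideal.span_eq_bot]
  rintro _ ⟨fg, rfl⟩
  rcases h with h | h
  · have hni : ¬ Function.Injective fg.1 := by
      intro hinj
      have := Fintype.card_le_of_injective _ hinj
      simp at this
      omega
    rw [Function.Injective] at hni
    push Not at hni
    obtain ⟨i, j, hij, hne⟩ := hni
    apply Matrix.det_zero_of_row_eq hne
    funext c
    rw [Matrix.submatrix_apply, Matrix.submatrix_apply, hij]
  · have hni : ¬ Function.Injective fg.2 := by
      intro hinj
      have := Fintype.card_le_of_injective _ hinj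
      simp at this
      omega
    rw [Function.Injective] at hni
    push Not at hni
    obtain ⟨i, j, hij, hne⟩ := hni
    apply Matrix.det_zero_of_column_eq hne
    intro c
    rw [Matrix.submatrix_apply, Matrix.submatrix_apply, hij]

/-- A homogeneous Plücker polynomial vanishing on the cell vanishes on every pattern. -/
theorem evalR_pattern_eq_zero_of_cell {d r : ℕ} (τ : Idx d (d + r)) (F : PlRing K d (d + r)) (D : ℕ)
    (hF : F.IsHomogeneous D) (h0 : evalR (K := K) (cellMatrix K d r) F = 0) :
    evalR (K := K) (MPm K (PS τ)) F = 0 := by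
  set G := MPm K (PS τ) with hG
  have hinj : Function.Injective (IsScalarTower.toAlgHom K (MatRing K d (d + r))
      (FractionRing (MatRing K d (d + r)))) := IsFractionRing.injective _ _
  set ιL := IsScalarTower.toAlgHom K (MatRing K d (d + r)) (FractionRing (MatRing K d (d + r)))
    with hιL
  apply hinj
  rw [map_zero, ← evalR_map]
  set GLm := G.map ιL with hGLm
  set g₀ : Matrix (Fin d) (Fin d) (FractionRing (MatRing K d (d + r))) :=
    GLm.submatrix (Fin.castAdd r) id with hg₀
  have hdet : IsUnit g₀.det := by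
    have h1 : g₀ = (G.submatrix (Fin.castAdd r) id).map ιL := by
      ext i j; simp [hg₀, hGLm]
    rw [h1, isUnit_iff_ne_zero]
    intro h0
    have h0' : ιL (G.submatrix (Fin.castAdd r) id).det = 0 := by
      rw [AlgHom.map_det]; exact h0
    replace h0 := h0'
    rw [← map_zero ιL] at h0
    exact det_top_ne_zero τ (hinj h0)
  set A' := GLm * g₀⁻¹ with hA'
  have hA'g : A' * g₀ = GLm := Matrix.nonsing_inv_mul_cancel_right _ _ hdet
  rw [← hA'g, evalR_mul_of_homogeneous _ _ F D hF]
  have htop : ∀ i j : Fin d, A' (Fin.castAdd r i) j = if i = j then 1 else 0 := by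
    intro i j
    have h1 : A' (Fin.castAdd r i) j = (g₀ * g₀⁻¹) i j := by
      rw [hA', Matrix.mul_apply, Matrix.mul_apply]
      rfl
    rw [h1, Matrix.mul_nonsing_inv _ hdet, Matrix.one_apply]
  have hmap := cellMatrix_map (K := K) A' htop
  rw [← hmap, evalR_map, h0, map_zero, mul_zero]

theorem size_le_left (M : MinorIdx m n) : M.1 + 1 ≤ m := by
  have := Fintype.card_le_of_injective _ M.2.1.2.injective
  simpa using this

theorem size_le_right (M : MinorIdx m n) : M.1 + 1 ≤ n := by
  have := Fintype.card_le_of_injective _ M.2.2.2.injective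
  simpa using this

end RowRev

end Groth.Agent.Lib.Helper8.Gr
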