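import Mathlib
import Groth.Prelude.Def_W4bk4grassmannianPl
import Groth.Prelude.Def_CAlgX
import Groth.Agent.Lib.Helper8.Bit4
set_option backward.isDefEq.respectTransparency.types false
set_option linter.unusedSectionVars false
set_option autoImplicit false
universe u

namespace Groth.Agent.Lib.Helper8.Gr
open W4bk4grassmannian MvPolynomial

section SMT

variable {K : Type u} [Field K] {m n : ℕ}

/-- Index type of standard bitableaux with minors of size `≤ t - 1`. -/
abbrev BT (m n t : ℕ) : Type :=
  Σ k : ℕ, {c : Fin k → MinorIdx m n //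
    (∀ i, (c i).1 + 1 ≤ t - 1) ∧ ∀ i j, i < j → MinorGE (c i) (c j)}

/-- The bitableau product. -/
noncomputable def bt (K : Type u) [Field K] {m n t : ℕ} (b : BT m n t) :
    MvPolynomial (Fin m × Fin n) K :=
  Finset.univ.prod fun i => minorOf K (b.2.1 i)

/-- The sign relating a minor and its Plücker coordinate. -/
noncomputable def epsM (K : Type u) [Field K] {m n : ℕ} (M : MinorIdx m n) : ℤˣ :=
  Classical.choose (evalR_revMat_ThetaM (K := K) M)

theorem epsM_spec (M : MinorIdx m n) :
    evalR (K := K) (revMat K m n) (X (ThetaM M))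
      = ((epsM K M : ℤ) : MvPolynomial (Fin m × Fin n) K) * minorOf K M :=
  Classical.choose_spec (evalR_revMat_ThetaM (K := K) M)

/-- The hypotheses relating the determinantal ideal and a Schubert index. -/
structure Hyp (K : Type u) [Field K] (m n t : ℕ) (φ : Idx n (n + m)) : Prop where
  h1 : CAlgX.minorIdeal (genMatrix K m n) t =
    Ideal.span {f | ∃ θ : Idx n (n + m), ¬ θ ≤ φ ∧ f = evalR (K := K) (revMat K m n) (X θ)}
  h2 : ∀ (F : PlRing K n (n + m)) (D : ℕ), F.IsHomogeneous D →
    evalR (K := K) (revMat K m n) F ∈ CAlgX.minorIdeal (genMatrix K m n) t →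
      evalR (K := K) (MPm K (PS φ)) F = 0
  h3 : ∀ M : MinorIdx m n, ThetaM M ≤ φ ↔ M.1 + 1 ≤ t - 1

variable {t : ℕ} {φ : Idx n (n + m)}

theorem chain_to_bt (H : Hyp K m n t φ) : ∀ (k : ℕ) (c : Fin k → Idx n (n + m)), Antitone c →
    (∀ i, c i ≤ φ) → ∃ (k₀ : ℕ) (cb : Fin k₀ → MinorIdx m n) (ε : ℤˣ),
      (∀ i, (cb i).1 + 1 ≤ t - 1) ∧ (∀ i j, i < j → MinorGE (cb i) (cb j)) ∧
      evalR (K := K) (revMat K m n) (chainMon K c)
        = ((ε : ℤ) : MvPolynomial (Fin m × Fin n) K) * (Finset.univ.prod fun i => minorOf K (cb i)) ∧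
      ∀ j, ∃ i, ThetaM (cb j) = c i := by
  intro k
  induction k with
  | zero =>
    intro c _ _
    refine ⟨0, fun i => i.elim0, 1, fun i => i.elim0, fun i => i.elim0, ?_, fun j => j.elim0⟩
    unfold chainMon
    simp
  | succ k ih =>
    intro c hanti hle
    set c₀ : Fin k → Idx n (n + m) := fun i => c (Fin.castSucc i) with hc₀
    have hanti₀ : Antitone c₀ := fun i j hij => hanti (Fin.castSucc_le_castSucc_iff.mpr hij)
    obtain ⟨k₀, cb, ε₀, hsz, hch, hb₀, hinv₀⟩ := ih c₀ hanti₀ (fun i => hle _)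
    have hprod : chainMon K c = chainMon K c₀ * X (c (Fin.last k)) := by
      unfold chainMon
      rw [Fin.prod_univ_castSucc]
    by_cases hlast : c (Fin.last k) = topIdx n m
    · refine ⟨k₀, cb, ε₀, hsz, hch, ?_, ?_⟩
      · rw [hprod, map_mul, hb₀, hlast, evalR_revMat_top, mul_one]
      · intro j
        obtain ⟨i, hi⟩ := hinv₀ j
        exact ⟨Fin.castSucc i, hi⟩
    · obtain ⟨M, hM⟩ := exists_minor_of_ne_top _ hlast
      have hMsz : M.1 + 1 ≤ t - 1 := (H.h3 M).mp (by rw [hM]; exact hle _)
      have e : evalR (K := K) (revMat K m n) (X (c (Fin.last k)))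
          = ((epsM K M : ℤ) : MvPolynomial (Fin m × Fin n) K) * minorOf K M := by
        rw [← hM]; exact epsM_spec M
      refine ⟨k₀ + 1, Fin.cons M cb, ε₀ * epsM K M, ?_, ?_, ?_, ?_⟩
      · intro i
        refine Fin.cases ?_ (fun i' => ?_) i
        · simp only [Fin.cons_zero]; exact hMsz
        · simp only [Fin.cons_succ]; exact hsz i'
      · intro i j hij
        refine Fin.cases ?_ (fun j' => ?_) j hij
        · intro h0
          exact absurd h0 (Fin.not_lt_zero _)
        · intro hij'
          revert hij'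
          refine Fin.cases ?_ (fun i' => ?_) i
          · intro _
            simp only [Fin.cons_zero, Fin.cons_succ]
            rw [minorGE_iff_ThetaM_le, hM]
            obtain ⟨i₀, hi₀⟩ := hinv₀ j'
            rw [hi₀]
            exact hanti (Fin.le_last _)
          · intro hij'
            simp only [Fin.cons_succ]
            exact hch i' j' (Fin.succ_lt_succ_iff.mp hij')
      · rw [hprod, map_mul, hb₀, e]
        rw [Fin.prod_univ_succ]
        simp only [Fin.cons_zero, Fin.cons_succ]
        push_cast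
        ring
      · intro j
        refine Fin.cases ?_ (fun j' => ?_) j
        · exact ⟨Fin.last k, by simp only [Fin.cons_zero]; exact hM⟩
        · obtain ⟨i₀, hi₀⟩ := hinv₀ j'
          exact ⟨Fin.castSucc i₀, by simp only [Fin.cons_succ]; exact hi₀⟩

theorem evalR_revMat_plIdealTop (F : PlRing K n (n + m))
    (hF : F ∈ plIdealTop (d := n) (n := n + m) K) : evalR (K := K) (revMat K m n) F = 0 := by
  have : plIdealTop (d := n) (n := n + m) K ≤ RingHom.ker (evalR (K := K) (revMat K m n)).toRingHom := by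
    unfold plIdealTop
    apply Ideal.span_le.mpr
    rintro _ ⟨i, j, p, _, rfl⟩
    rw [SetLike.mem_coe, RingHom.mem_ker]
    exact evalR_shuffleRel _ i j p
  exact (RingHom.mem_ker).mp (this hF)

/-- Standard bitableaux span the determinantal ring. -/
theorem bt_span (H : Hyp K m n t φ) :
    Submodule.span K (Set.range fun b : BT m n t =>
      Ideal.Quotient.mk (CAlgX.minorIdeal (genMatrix K m n) t) (bt K b)) = ⊤ := by
  rw [eq_top_iff]
  intro x _
  obtain ⟨f, rfl⟩ := Ideal.Quotient.mk_surjective x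
  obtain ⟨F, rfl⟩ := evalR_revMat_surjective f
  obtain ⟨g, hg, hFg⟩ := exists_fam_rep (K := K) (fun _ : Unit => φ) F
  have h1 : evalR (K := K) (revMat K m n) (F - g) ∈ CAlgX.minorIdeal (genMatrix K m n) t := by
    unfold IFam at hFg
    have h2 := Ideal.mem_map_of_mem (evalR (K := K) (revMat K m n)).toRingHom hFg
    rw [Ideal.map_sup] at h2
    refine (sup_le ?_ ?_ : _ ≤ CAlgX.minorIdeal (genMatrix K m n) t) h2
    · rw [Ideal.map_le_iff_le_comap]
      intro y hy
      rw [Ideal.mem_comap]
      have : (evalR (K := K) (revMat K m n)).toRingHom y = 0 := evalR_revMat_plIdealTop y hy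
      rw [this]
      exact Ideal.zero_mem _
    · rw [Ideal.map_span]
      apply Ideal.span_le.mpr
      rintro _ ⟨_, ⟨θ, hθ, rfl⟩, rfl⟩
      rw [H.h1]
      apply Ideal.subset_span
      exact ⟨θ, hθ (), rfl⟩
  have h2 : Ideal.Quotient.mk (CAlgX.minorIdeal (genMatrix K m n) t)
      (evalR (K := K) (revMat K m n) F)
      = Ideal.Quotient.mk _ (evalR (K := K) (revMat K m n) g) := by
    rw [Ideal.Quotient.eq, ← map_sub]
    exact h1
  rw [h2]
  -- the linear map
  let L : PlRing K n (n + m) →ₗ[K]
      (MvPolynomial (Fin m × Fin n) K ⧸ CAlgX.minorIdeal (genMatrix K m n) t) :=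
    (Ideal.Quotient.mkₐ K (CAlgX.minorIdeal (genMatrix K m n) t)).toLinearMap.comp
      (evalR (K := K) (revMat K m n)).toLinearMap
  have hL : ∀ y, L y = Ideal.Quotient.mk _ (evalR (K := K) (revMat K m n) y) := fun y => rfl
  rw [← hL]
  have hmap := Submodule.mem_map_of_mem (f := L) hg
  rw [Submodule.map_span] at hmap
  refine (Submodule.span_le.mpr ?_) hmap
  rintro _ ⟨_, ⟨c, rfl⟩, rfl⟩
  rw [SetLike.mem_coe]
  obtain ⟨k, cc, hanti, ⟨_, hle⟩⟩ := c
  obtain ⟨k₀, cb, ε, hsz, hch, hb, _⟩ := chain_to_bt H k cc hanti hle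
  have hmem : Ideal.Quotient.mk (CAlgX.minorIdeal (genMatrix K m n) t)
      (bt K (⟨k₀, cb, hsz, hch⟩ : BT m n t)) ∈ Submodule.span K (Set.range fun b : BT m n t =>
      Ideal.Quotient.mk (CAlgX.minorIdeal (genMatrix K m n) t) (bt K b)) :=
    Submodule.subset_span ⟨_, rfl⟩
  have hval : L (chainMon K cc) = (((ε : ℤ) : K)) •
      Ideal.Quotient.mk (CAlgX.minorIdeal (genMatrix K m n) t)
        (bt K (⟨k₀, cb, hsz, hch⟩ : BT m n t)) := by
    rw [hL, hb]
    unfold bt
    simp only
    rw [map_mul, Algebra.smul_def]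
    congr 1
  change L (chainMon K cc) ∈ _
  rw [hval]
  exact Submodule.smul_mem _ _ hmem

/-- The padded reversed chain of a bitableau. -/
noncomputable def padF (N : ℕ) (b : BT m n t) (i : Fin N) : Idx n (n + m) :=
  if h : i.val < b.1 then ThetaM (b.2.1 ⟨b.1 - 1 - i.val, by omega⟩) else topIdx n m

theorem padF_antitone (N : ℕ) (b : BT m n t) : Antitone (padF N b) := by
  intro i j hij
  have hij' : i.val ≤ j.val := hij
  unfold padF
  by_cases hj : j.val < b.1
  · have hi : i.val < b.1 := lt_of_le_of_lt hij' hj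
    rw [dif_pos hj, dif_pos hi]
    rcases Nat.eq_or_lt_of_le hij' with heq | hlt
    · have : i = j := Fin.ext heq
      subst this
      exact le_rfl
    · rw [← minorGE_iff_ThetaM_le]
      apply b.2.2.2
      rw [Fin.lt_def]
      simp only
      omega
  · rw [dif_neg hj]
    exact topIdx_le _

theorem padF_le (H : Hyp K m n t φ) (N : ℕ) (b : BT m n t) (i : Fin N) : padF N b i ≤ φ := by
  unfold padF
  by_cases hi : i.val < b.1
  · rw [dif_pos hi]
    exact (H.h3 _).mpr (b.2.2.1 _)
  · rw [dif_neg hi]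
    exact topIdx_le _

theorem padF_inj (N : ℕ) (b b' : BT m n t) (hb : b.1 ≤ N) (hb' : b'.1 ≤ N)
    (h : padF N b = padF N b') : b = b' := by
  obtain ⟨k, c, hc⟩ := b
  obtain ⟨k', c', hc'⟩ := b'
  simp only at hb hb'
  have hkk : k = k' := by
    rcases lt_trichotomy k k' with hlt | heq | hgt
    · exfalso
      have := congrFun h ⟨k, by omega⟩
      unfold padF at this
      simp only at this
      rw [dif_neg (lt_irrefl k), dif_pos hlt] at this
      exact ThetaM_ne_top _ this.symm
    · exact heq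
    · exfalso
      have := congrFun h ⟨k', by omega⟩
      unfold padF at this
      simp only at this
      rw [dif_neg (lt_irrefl k'), dif_pos hgt] at this
      exact ThetaM_ne_top _ this
  subst hkk
  have hcc : c = c' := by
    funext j
    have hj := j.isLt
    have := congrFun h ⟨k - 1 - j.val, by omega⟩
    unfold padF at this
    simp only at this
    rw [dif_pos (by omega), dif_pos (by omega)] at this
    have h2 := ThetaM_injective this
    have e : (⟨k - 1 - (k - 1 - j.val), by omega⟩ : Fin k) = j := Fin.ext (by simp only; omega)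
    rw [e] at h2
    exact h2
  subst hcc
  rfl

/-- The sign of a bitableau. -/
noncomputable def epsB (K : Type u) [Field K] {m n t : ℕ} (b : BT m n t) : ℤˣ :=
  Finset.univ.prod fun j => epsM K (b.2.1 j)

theorem evalR_padF (N : ℕ) (b : BT m n t) (hb : b.1 ≤ N) :
    evalR (K := K) (revMat K m n) (chainMon K (padF N b))
      = ((epsB K b : ℤ) : MvPolynomial (Fin m × Fin n) K) * bt K b := by
  obtain ⟨r, rfl⟩ := Nat.exists_eq_add_of_le hb
  unfold chainMon
  rw [map_prod, Fin.prod_univ_add]
  have h2 : ∀ i : Fin r, evalR (K := K) (revMat K m n) (X (padF (b.1 + r) b (Fin.natAdd b.1 i))) = 1 := by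
    intro i
    unfold padF
    rw [dif_neg (by simp), evalR_revMat_top]
  have h1 : ∀ i : Fin b.1, evalR (K := K) (revMat K m n) (X (padF (b.1 + r) b (Fin.castAdd r i)))
      = ((epsM K (b.2.1 (Fin.rev i)) : ℤ) : MvPolynomial (Fin m × Fin n) K)
        * minorOf K (b.2.1 (Fin.rev i)) := by
    intro i
    unfold padF
    have hi : (Fin.castAdd r i).val < b.1 := by simp
    rw [dif_pos hi, epsM_spec]
    have e : (⟨b.1 - 1 - (Fin.castAdd r i).val, by omega⟩ : Fin b.1) = Fin.rev i := by
      apply Fin.ext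
      rw [Fin.val_rev]
      simp only [Fin.val_castAdd]
      omega
    rw [e]
  rw [Finset.prod_congr rfl (fun i _ => h1 i), Finset.prod_congr rfl (fun i _ => h2 i),
    Finset.prod_const_one, mul_one]
  have e := Equiv.prod_comp Fin.revPerm
    (fun j => ((epsM K (b.2.1 j) : ℤ) : MvPolynomial (Fin m × Fin n) K) * minorOf K (b.2.1 j))
  simp only [Fin.revPerm_apply] at e
  rw [e]
  rw [Finset.prod_mul_distrib]
  unfold bt epsB
  push_cast
  rfl

theorem chainMon_isHomogeneous {d' n' : ℕ} (k : ℕ) (c : Fin k → Idx d' n') :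
    (chainMon K c).IsHomogeneous k := by
  unfold chainMon
  have h := IsHomogeneous.prod (Finset.univ : Finset (Fin k)) (fun i => (X (c i) : PlRing K d' n'))
    (fun _ => 1) (fun i _ => isHomogeneous_X K (c i))
  simpa using h

theorem intUnit_cast_mul_self (ε : ℤˣ) : (((ε : ℤ) : K)) * (((ε : ℤ) : K)) = 1 := by
  rw [← Int.cast_mul, ← Units.val_mul, Int.units_mul_self]
  simp

/-- Standard bitableaux are linearly independent in the determinantal ring. -/
theorem bt_li [Infinite K] (hn : 0 < n) (H : Hyp K m n t φ) :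
    LinearIndependent K (fun b : BT m n t =>
      Ideal.Quotient.mk (CAlgX.minorIdeal (genMatrix K m n) t) (bt K b)) := by
  classical
  rw [linearIndependent_iff']
  intro s a hsum
  set N := s.sup (fun b => b.1) with hN
  have hle : ∀ b ∈ s, b.1 ≤ N := fun b hb => Finset.le_sup (f := fun b : BT m n t => b.1) hb
  set G : PlRing K n (n + m) :=
    ∑ b ∈ s, (a b * (((epsB K b : ℤ) : K))) • chainMon K (padF N b) with hG
  have hGhom : G.IsHomogeneous N := by
    apply IsHomogeneous.sum
    intro b _
    rw [MvPolynomial.smul_eq_C_mul]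
    have := (isHomogeneous_C (Idx n (n + m)) (a b * (((epsB K b : ℤ) : K)))).mul
      (chainMon_isHomogeneous (K := K) N (padF N b))
    rwa [zero_add] at this
  have hGev : evalR (K := K) (revMat K m n) G = ∑ b ∈ s, a b • bt K b := by
    rw [hG, map_sum]
    apply Finset.sum_congr rfl
    intro b hb
    rw [map_smul, evalR_padF N b (hle b hb), mul_smul]
    congr 1
    rw [Algebra.smul_def, ← mul_assoc]
    have : (algebraMap K (MvPolynomial (Fin m × Fin n) K)) (((epsB K b : ℤ) : K))
        = ((epsB K b : ℤ) : MvPolynomial (Fin m × Fin n) K) := by simp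
    rw [this, ← Int.cast_mul, ← Units.val_mul, Int.units_mul_self]
    simp
  have hmem : evalR (K := K) (revMat K m n) G ∈ CAlgX.minorIdeal (genMatrix K m n) t := by
    rw [hGev, ← Ideal.Quotient.eq_zero_iff_mem, map_sum, ← hsum]
    apply Finset.sum_congr rfl
    intro b _
    rw [Algebra.smul_def, map_mul, Algebra.smul_def]
    rfl
  have h0 := H.h2 G N hGhom hmem
  have hJ : G ∈ JFam K (fun _ : Unit => φ) := by
    unfold JFam
    rw [Ideal.mem_iInf]
    intro _
    rw [← ker_evalR_eq hn φ]
    exact (RingHom.mem_ker).mpr h0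
  -- linear independence of the chains
  have hli := (li_fam (K := K) (fun _ : Unit => φ) hn).comp
    (fun b : {b // b ∈ s} => (⟨N, padF N b.1, padF_antitone N b.1, ⟨(), padF_le H N b.1⟩⟩ :
      ChainsIn (fun _ : Unit => φ)))
    (by
      intro b b' hbb
      simp only [Sigma.mk.injEq, heq_eq_eq, true_and, Subtype.mk.injEq] at hbb
      exact Subtype.ext (padF_inj N b.1 b'.1 (hle _ b.2) (hle _ b'.2) hbb))
  rw [Fintype.linearIndependent_iff] at hli
  have hz := hli (fun b => a b.1 * (((epsB K b.1 : ℤ) : K))) (by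
    have e := Finset.sum_coe_sort s (fun b => (a b * (((epsB K b : ℤ) : K))) •
      Ideal.Quotient.mk (JFam K (fun _ : Unit => φ)) (chainMon K (padF N b)))
    refine Eq.trans ?_ ((Ideal.Quotient.eq_zero_iff_mem).mpr hJ)
    rw [hG, map_sum]
    refine Eq.trans e ?_
    apply Finset.sum_congr rfl
    intro b _
    exact (map_smul (Ideal.Quotient.mkₐ K (JFam K (fun _ : Unit => φ))) _ _).symm)
  intro b hb
  have := hz ⟨b, hb⟩
  have h2 := congrArg (fun x => x * (((epsB K b : ℤ) : K))) this
  simp only at h2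
  rwa [mul_assoc, intUnit_cast_mul_self, mul_one, zero_mul] at h2

theorem hyp_nondeg (n' : ℕ) (hn'd : n' < n) (hn'r : n' < m) :
    Hyp K m n (n' + 1) (phiRank n m n' hn'r) where
  h1 := minorIdeal_eq_span_revMat n' hn'd hn'r
  h2 := fun F D hF hmem => evalR_pattern_eq_zero_of_revMat n' hn'd hn'r F D hF hmem
  h3 := fun M => by
    rw [ThetaM_le_phiRank_iff n' hn'd hn'r M, Nat.add_sub_cancel]

theorem hyp_deg : Hyp K m n (min m n + 1) (topMax n m) where
  h1 := by
    rw [minorIdeal_eq_bot (K := K) (min m n + 1) (by omega)]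
    symm
    rw [Ideal.span_eq_bot]
    rintro _ ⟨θ, hθ, _⟩
    exact absurd (le_topMax θ) hθ
  h2 := fun F D hF hmem => by
    rw [minorIdeal_eq_bot (K := K) (min m n + 1) (by omega), Ideal.mem_bot, evalR_revMat] at hmem
    apply evalR_pattern_eq_zero_of_cell (topMax n m) F D hF
    have := congrArg (rowRev K m n) hmem
    rwa [rowRev_rowRev, map_zero] at this
  h3 := fun M => by
    rw [Nat.add_sub_cancel]
    constructor
    · intro _
      exact le_min (size_le_left M) (size_le_right M)
    · intro _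
      exact le_topMax _

theorem smt_main [Infinite K] (_hm : 0 < m) (hn : 0 < n) (ht : 1 ≤ t) (htmn : t ≤ min m n + 1) :
    LinearIndependent K (fun b : BT m n t =>
      Ideal.Quotient.mk (CAlgX.minorIdeal (genMatrix K m n) t) (bt K b)) ∧
    Submodule.span K (Set.range fun b : BT m n t =>
      Ideal.Quotient.mk (CAlgX.minorIdeal (genMatrix K m n) t) (bt K b)) = ⊤ := by
  rcases Nat.eq_or_lt_of_le htmn with heq | hlt
  · subst heq
    exact ⟨bt_li hn hyp_deg, bt_span hyp_deg⟩
  · obtain ⟨n', rfl⟩ := Nat.exists_eq_add_of_le ht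
    rw [add_comm 1 n'] at hlt ⊢
    have h1 : n' < n := by omega
    have h2 : n' < m := by omega
    exact ⟨bt_li hn (hyp_nondeg n' h1 h2), bt_span (hyp_nondeg n' h1 h2)⟩

end SMT

end Groth.Agent.Lib.Helper8.Gr
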