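import Mathlib
import Groth.Prelude.Def_W4c2arithlefschetzGraph

set_option backward.isDefEq.respectTransparency.types false

namespace Groth.Agent.Lib.Helper8.BlowupG

open ArLef ArLef.BlowupGraph

variable {n : ℕ} (G : BlowupGraph n)

lemma tt_of_lt {k m : Fin n} (h : m < k) : G.tt k m = 0 := by
  unfold tt
  rw [ttN, if_pos (Fin.lt_def.mp h)]

lemma tt_self (k : Fin n) : G.tt k k = 1 := by
  unfold tt
  rw [ttN, if_neg (lt_irrefl _), if_pos rfl]

lemma tt_rec {k m : Fin n} (h : k < m) : G.tt k m = ∑ p ∈ G.par m, G.tt k p := by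
  unfold tt
  have h1 : ¬ m.1 < k.1 := not_lt.mpr (le_of_lt (Fin.lt_def.mp h))
  have h2 : m.1 ≠ k.1 := (ne_of_lt (Fin.lt_def.mp h)).symm
  rw [ttN, if_neg h1, if_neg h2]
  rw [Finset.sum_attach (G.parN m.1) (fun p => G.ttN k.1 p)]
  have : G.parN m.1 = (G.par m).map Fin.valEmbedding := by
    unfold parN
    rw [dif_pos m.2]
  rw [this, Finset.sum_map]
  rfl

open Classical in
/-- stage-`s` self-intersection -/
noncomputable def selfS (s : ℕ) (p : Fin n) : ℤ :=
  -1 - ((Finset.univ.filter fun m : Fin n => m.1 < s ∧ p ∈ G.par m).card : ℤ)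

/-- stage-`s` adjacency -/
def AdjS (s : ℕ) (p q : Fin n) : Prop :=
  (p ∈ G.par q ∧ ∀ m : Fin n, q < m → m.1 < s → G.par m ≠ {p, q}) ∨
    (q ∈ G.par p ∧ ∀ m : Fin n, p < m → m.1 < s → G.par m ≠ {q, p})

open Classical in
/-- stage-`s` intersection matrix -/
noncomputable def MS (s : ℕ) (p q : Fin n) : ℚ :=
  if p = q then (selfS G s p : ℚ) else if AdjS G s p q then 1 else 0

lemma MS_n (p q : Fin n) : MS G n p q = G.mat p q := by
  classical
  unfold MS mat
  by_cases hpq : p = q
  · rw [if_pos hpq, if_pos hpq]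
    unfold selfS selfInt
    simp only [Fin.is_lt, true_and]
  · rw [if_neg hpq, if_neg hpq]
    have : AdjS G n p q ↔ G.Adj p q := by
      unfold AdjS Adj
      simp
    by_cases h : G.Adj p q
    · rw [if_pos (this.mpr h), if_pos h]
    · rw [if_neg (fun h' => h (this.mp h')), if_neg h]

lemma AdjS_symm (s : ℕ) (p q : Fin n) : AdjS G s p q ↔ AdjS G s q p := by
  unfold AdjS
  exact or_comm

lemma MS_symm (s : ℕ) (p q : Fin n) : MS G s p q = MS G s q p := by
  classical
  by_cases hpq : p = q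
  · subst hpq; rfl
  · have hqp : ¬ q = p := fun h => hpq h.symm
    by_cases h : AdjS G s p q
    · have h' := (AdjS_symm G s p q).mp h
      simp only [MS, if_neg hpq, if_neg hqp, if_pos h, if_pos h']
    · have h' : ¬ AdjS G s q p := fun h' => h ((AdjS_symm G s p q).mpr h')
      simp only [MS, if_neg hpq, if_neg hqp, if_neg h, if_neg h']

open Classical in
/-- indicator of the centre of blow-up `x` -/
noncomputable def vv (x : Fin n) (a : Fin n) : ℚ := if a ∈ G.par x then 1 else 0

/-- two distinct elements of `par x` make up all of it -/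
lemma par_eq_pair {x a b : Fin n} (ha : a ∈ G.par x) (hb : b ∈ G.par x) (hab : a ≠ b) :
    G.par x = {a, b} := by
  classical
  symm
  apply Finset.eq_of_subset_of_card_le
  · intro z hz
    rcases Finset.mem_insert.mp hz with rfl | hz
    · exact ha
    · rw [Finset.mem_singleton] at hz; subst hz; exact hb
  · rw [Finset.card_pair hab]
    exact G.card_le_two x

/-- if the centre `x` lies on `a` and `b`, these were adjacent at stage `x`. -/
lemma adjS_of_pair {x a b : Fin n} (ha : a ∈ G.par x) (hb : b ∈ G.par x) (hab : a ≠ b) :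
    AdjS G x.1 a b := by
  rcases Ne.lt_or_gt hab with h | h
  · left
    obtain ⟨h1, h2⟩ := G.meet_of_two x a b ha hb h
    exact ⟨h1, fun m hm hms => h2 m hm (Fin.lt_def.mpr hms)⟩
  · right
    obtain ⟨h1, h2⟩ := G.meet_of_two x b a hb ha h
    exact ⟨h1, fun m hm hms => h2 m hm (Fin.lt_def.mpr hms)⟩

lemma AdjS_succ {x a b : Fin n} (ha : a < x) (hb : b < x) :
    AdjS G (x.1 + 1) a b ↔ AdjS G x.1 a b ∧ G.par x ≠ {a, b} := by
  classical
  unfold AdjS
  have hcomm : ({b, a} : Finset (Fin n)) = {a, b} := Finset.pair_comm b a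
  constructor
  · rintro (⟨h1, h2⟩ | ⟨h1, h2⟩)
    · exact ⟨Or.inl ⟨h1, fun m hm hms => h2 m hm (by omega)⟩, h2 x hb (by omega)⟩
    · refine ⟨Or.inr ⟨h1, fun m hm hms => h2 m hm (by omega)⟩, ?_⟩
      rw [← hcomm]
      exact h2 x ha (by omega)
  · rintro ⟨(⟨h1, h2⟩ | ⟨h1, h2⟩), h3⟩
    · left
      refine ⟨h1, fun m hm hms => ?_⟩
      by_cases hmx : m = x
      · subst hmx; exact h3
      · exact h2 m hm (by
          have : m.1 ≠ x.1 := fun h => hmx (Fin.ext h)
          omega)
    · right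
      refine ⟨h1, fun m hm hms => ?_⟩
      by_cases hmx : m = x
      · subst hmx; rw [hcomm]; exact h3
      · exact h2 m hm (by
          have : m.1 ≠ x.1 := fun h => hmx (Fin.ext h)
          omega)

lemma selfS_succ {x a : Fin n} (ha : a < x) :
    (selfS G (x.1 + 1) a : ℚ) = selfS G x.1 a - vv G x a * vv G x a := by
  classical
  unfold selfS vv
  have : (Finset.univ.filter fun m : Fin n => m.1 < x.1 + 1 ∧ a ∈ G.par m) =
      if a ∈ G.par x then insert x (Finset.univ.filter fun m : Fin n => m.1 < x.1 ∧ a ∈ G.par m)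
      else (Finset.univ.filter fun m : Fin n => m.1 < x.1 ∧ a ∈ G.par m) := by
    split_ifs with h
    · ext m
      simp only [Finset.mem_filter, Finset.mem_univ, true_and, Finset.mem_insert]
      constructor
      · rintro ⟨h1, h2⟩
        by_cases hmx : m = x
        · exact Or.inl hmx
        · right
          have : m.1 ≠ x.1 := fun h => hmx (Fin.ext h)
          exact ⟨by omega, h2⟩
      · rintro (rfl | ⟨h1, h2⟩)
        · exact ⟨by omega, h⟩
        · exact ⟨by omega, h2⟩
    · ext m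
      simp only [Finset.mem_filter, Finset.mem_univ, true_and]
      constructor
      · rintro ⟨h1, h2⟩
        by_cases hmx : m = x
        · subst hmx; exact absurd h2 h
        · have : m.1 ≠ x.1 := fun h => hmx (Fin.ext h)
          exact ⟨by omega, h2⟩
      · rintro ⟨h1, h2⟩
        exact ⟨by omega, h2⟩
  rw [this]
  split_ifs with h
  · rw [Finset.card_insert_of_notMem (by simp)]
    push_cast
    ring
  · push_cast
    ring

lemma MS_succ {x a b : Fin n} (ha : a < x) (hb : b < x) :
    MS G (x.1 + 1) a b = MS G x.1 a b - vv G x a * vv G x b := by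
  classical
  unfold MS
  by_cases hab : a = b
  · subst hab
    rw [if_pos rfl, if_pos rfl]
    exact selfS_succ G ha
  · rw [if_neg hab, if_neg hab]
    unfold vv
    by_cases hP : a ∈ G.par x ∧ b ∈ G.par x
    · have hpair := par_eq_pair G hP.1 hP.2 hab
      have hadj := adjS_of_pair G hP.1 hP.2 hab
      rw [if_pos hP.1, if_pos hP.2, if_pos hadj, if_neg]
      · norm_num
      · rw [AdjS_succ G ha hb]
        exact fun h => h.2 hpair
    · have hne : G.par x ≠ {a, b} := by
        intro h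
        apply hP
        rw [h]
        simp
      have hiff : AdjS G (x.1 + 1) a b ↔ AdjS G x.1 a b := by
        rw [AdjS_succ G ha hb]
        exact ⟨fun h => h.1, fun h => ⟨h, hne⟩⟩
      have hv : (if a ∈ G.par x then (1:ℚ) else 0) * (if b ∈ G.par x then (1:ℚ) else 0) = 0 := by
        by_cases h1 : a ∈ G.par x
        · have h2 : b ∉ G.par x := fun h2 => hP ⟨h1, h2⟩
          rw [if_neg h2, mul_zero]
        · rw [if_neg h1, zero_mul]
      rw [hv, sub_zero]
      by_cases h : AdjS G x.1 a b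
      · rw [if_pos h, if_pos (hiff.mpr h)]
      · rw [if_neg h, if_neg (fun h' => h (hiff.mp h'))]

lemma MS_succ_left {x a : Fin n} (ha : a < x) : MS G (x.1 + 1) a x = vv G x a := by
  classical
  unfold MS vv
  rw [if_neg (ne_of_lt ha)]
  have : AdjS G (x.1 + 1) a x ↔ a ∈ G.par x := by
    unfold AdjS
    constructor
    · rintro (⟨h1, -⟩ | ⟨h1, -⟩)
      · exact h1
      · exact absurd (G.par_lt a x h1) (not_lt.mpr (le_of_lt ha))
    · intro h
      left
      exact ⟨h, fun m hm hms => absurd hms (by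
        have := Fin.lt_def.mp hm
        omega)⟩
  by_cases h : a ∈ G.par x
  · rw [if_pos (this.mpr h), if_pos h]
  · rw [if_neg (fun h' => h (this.mp h')), if_neg h]

lemma MS_succ_self (x : Fin n) : MS G (x.1 + 1) x x = -1 := by
  classical
  unfold MS selfS
  rw [if_pos rfl]
  have : (Finset.univ.filter fun m : Fin n => m.1 < x.1 + 1 ∧ x ∈ G.par m) = ∅ := by
    ext m
    simp only [Finset.mem_filter, Finset.mem_univ, true_and, Finset.notMem_empty, iff_false,
      not_and]
    intro h1 h2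
    have := Fin.lt_def.mp (G.par_lt m x h2)
    omega
  rw [this]
  simp

/-- the stage set -/
def FS (s : ℕ) : Finset (Fin n) := Finset.univ.filter fun a => a.1 < s

lemma mem_FS {s : ℕ} {a : Fin n} : a ∈ (FS s : Finset (Fin n)) ↔ a.1 < s := by
  unfold FS; simp

noncomputable def Q (s : ℕ) (k l : Fin n) : ℚ :=
  ∑ a ∈ FS s, ∑ b ∈ FS s, (G.tt k a : ℚ) * MS G s a b * (G.tt l b : ℚ)

noncomputable def tau (x k : Fin n) : ℚ := ∑ a ∈ FS x.1, (G.tt k a : ℚ) * vv G x a

lemma FS_succ (x : Fin n) : (FS (x.1 + 1) : Finset (Fin n)) = insert x (FS x.1) := by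
  classical
  ext a
  simp only [mem_FS, Finset.mem_insert]
  constructor
  · intro h
    by_cases hax : a = x
    · exact Or.inl hax
    · right
      have : a.1 ≠ x.1 := fun h => hax (Fin.ext h)
      omega
  · rintro (rfl | h) <;> omega

lemma not_mem_FS_self (x : Fin n) : x ∉ (FS x.1 : Finset (Fin n)) := by
  rw [mem_FS]; exact lt_irrefl _

lemma Q_succ (x k l : Fin n) :
    Q G (x.1 + 1) k l = Q G x.1 k l - tau G x k * tau G x l + tau G x k * (G.tt l x : ℚ) +
      (G.tt k x : ℚ) * tau G x l - (G.tt k x : ℚ) * (G.tt l x : ℚ) := by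
  classical
  have hx := not_mem_FS_self x
  have h1 : ∑ b ∈ FS x.1, (G.tt k x : ℚ) * MS G (x.1 + 1) x b * (G.tt l b : ℚ) =
      (G.tt k x : ℚ) * tau G x l := by
    unfold tau
    rw [Finset.mul_sum]
    refine Finset.sum_congr rfl fun b hb => ?_
    rw [MS_symm, MS_succ_left G (Fin.lt_def.mpr (mem_FS.mp hb))]
    ring
  have h2 : ∑ a ∈ FS x.1, (G.tt k a : ℚ) * MS G (x.1 + 1) a x * (G.tt l x : ℚ) =
      tau G x k * (G.tt l x : ℚ) := by
    unfold tau
    rw [Finset.sum_mul]
    refine Finset.sum_congr rfl fun a ha => ?_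
    rw [MS_succ_left G (Fin.lt_def.mpr (mem_FS.mp ha))]
  have h3 : ∑ a ∈ FS x.1, ∑ b ∈ FS x.1, (G.tt k a : ℚ) * MS G (x.1 + 1) a b * (G.tt l b : ℚ) =
      Q G x.1 k l - tau G x k * tau G x l := by
    unfold tau Q
    rw [Finset.sum_mul_sum, ← Finset.sum_sub_distrib]
    refine Finset.sum_congr rfl fun a ha => ?_
    rw [← Finset.sum_sub_distrib]
    refine Finset.sum_congr rfl fun b hb => ?_
    rw [MS_succ G (Fin.lt_def.mpr (mem_FS.mp ha)) (Fin.lt_def.mpr (mem_FS.mp hb))]
    ring
  have expand : Q G (x.1 + 1) k l =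
      ((G.tt k x : ℚ) * MS G (x.1 + 1) x x * (G.tt l x : ℚ) +
        ∑ b ∈ FS x.1, (G.tt k x : ℚ) * MS G (x.1 + 1) x b * (G.tt l b : ℚ)) +
      (∑ a ∈ FS x.1, (G.tt k a : ℚ) * MS G (x.1 + 1) a x * (G.tt l x : ℚ) +
        ∑ a ∈ FS x.1, ∑ b ∈ FS x.1, (G.tt k a : ℚ) * MS G (x.1 + 1) a b * (G.tt l b : ℚ)) := by
    unfold Q
    rw [FS_succ, Finset.sum_insert hx, Finset.sum_insert hx, ← Finset.sum_add_distrib]
    congr 1
    refine Finset.sum_congr rfl fun a _ => ?_
    rw [Finset.sum_insert hx]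
  rw [expand, h1, h2, h3, MS_succ_self]
  ring

lemma tt_eq_tau {x k : Fin n} (hk : k < x) : (G.tt k x : ℚ) = tau G x k := by
  classical
  unfold tau vv
  rw [tt_rec G hk]
  push_cast
  simp only [mul_ite, mul_one, mul_zero]
  rw [← Finset.sum_filter]
  congr 1
  ext a
  simp only [Finset.mem_filter, mem_FS]
  constructor
  · intro h
    exact ⟨Fin.lt_def.mp (G.par_lt x a h), h⟩
  · exact fun h => h.2

lemma tau_self (x : Fin n) : tau G x x = 0 := by
  unfold tau
  refine Finset.sum_eq_zero fun a ha => ?_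
  rw [tt_of_lt G (Fin.lt_def.mpr (mem_FS.mp ha))]
  simp

lemma Q_left_self (x l : Fin n) : Q G x.1 x l = 0 := by
  unfold Q
  refine Finset.sum_eq_zero fun a ha => ?_
  refine Finset.sum_eq_zero fun b _ => ?_
  rw [tt_of_lt G (Fin.lt_def.mpr (mem_FS.mp ha))]
  simp

lemma Q_right_self (x k : Fin n) : Q G x.1 k x = 0 := by
  unfold Q
  refine Finset.sum_eq_zero fun a _ => ?_
  refine Finset.sum_eq_zero fun b hb => ?_
  rw [tt_of_lt G (Fin.lt_def.mpr (mem_FS.mp hb))]
  simp

theorem Q_eq : ∀ s, s ≤ n → ∀ k l : Fin n, k.1 < s → l.1 < s →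
    Q G s k l = if k = l then -1 else 0 := by
  intro s
  induction s with
  | zero => intro _ k l hk; exact absurd hk (Nat.not_lt_zero _)
  | succ s ih =>
    intro hs k l hk hl
    let x : Fin n := ⟨s, hs⟩
    have hQ := Q_succ G x k l
    have hxs : x.1 = s := rfl
    rw [hxs] at hQ
    rw [hQ]
    by_cases hkx : k = x
    · by_cases hlx : l = x
      · rw [hkx, hlx, if_pos rfl, ← hxs, Q_left_self, tau_self, tt_self]
        simp
      · have hl' : l < x := by
          have : l.1 ≠ x.1 := fun h => hlx (Fin.ext h)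
          exact Fin.lt_def.mpr (by omega)
        rw [hkx, if_neg (fun h => hlx h.symm), ← hxs, Q_left_self, tau_self, tt_self,
          tt_eq_tau G hl']
        ring
    · have hk' : k < x := by
        have : k.1 ≠ x.1 := fun h => hkx (Fin.ext h)
        exact Fin.lt_def.mpr (by omega)
      by_cases hlx : l = x
      · rw [hlx, if_neg hkx, ← hxs, Q_right_self, tau_self, tt_self, tt_eq_tau G hk']
        ring
      · have hl' : l < x := by
          have : l.1 ≠ x.1 := fun h => hlx (Fin.ext h)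
          exact Fin.lt_def.mpr (by omega)
        rw [ih (by omega) k l (Fin.lt_def.mp hk') (Fin.lt_def.mp hl'), tt_eq_tau G hk',
          tt_eq_tau G hl']
        ring

end Groth.Agent.Lib.Helper8.BlowupG
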