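import Mathlib
import Groth.Agent.Lib.Helper8.BlowupG1

set_option backward.isDefEq.respectTransparency.types false

namespace Groth.Agent.Lib.Helper8.BlowupG

open ArLef ArLef.BlowupGraph Matrix

variable {n : ℕ} (G : BlowupGraph n)

noncomputable def TT : Matrix (Fin n) (Fin n) ℚ := fun k a => (G.tt k a : ℚ)

theorem T_M_Tt : TT G * G.mat * (TT G)ᵀ = -1 := by
  ext k l
  have h := Q_eq G n le_rfl k l k.2 l.2
  unfold Q at h
  have hFS : (FS n : Finset (Fin n)) = Finset.univ := by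
    ext a; simp [mem_FS]
  rw [hFS] at h
  simp only [MS_n] at h
  rw [Matrix.mul_apply]
  simp only [Matrix.mul_apply, Matrix.transpose_apply, Matrix.neg_apply, Matrix.one_apply]
  have h2 : (-(if k = l then (1:ℚ) else 0)) = if k = l then -1 else 0 := by
    split_ifs <;> simp
  rw [h2, ← h, Finset.sum_comm]
  refine Finset.sum_congr rfl fun b _ => ?_
  rw [Finset.sum_mul]
  rfl

/-- the matrix of multiplicities -/
noncomputable def NN : Matrix (Fin n) (Fin n) ℚ := (TT G)ᵀ * TT G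

lemma mult_eq (i j : Fin n) : (G.mult i j : ℚ) = NN G i j := by
  unfold mult NN TT
  rw [Matrix.mul_apply]
  push_cast
  rfl

lemma NN_symm (i j : Fin n) : NN G i j = NN G j i := by
  unfold NN
  rw [Matrix.mul_apply, Matrix.mul_apply]
  refine Finset.sum_congr rfl fun k _ => ?_
  simp only [Matrix.transpose_apply]
  ring

theorem mat_mul_NN : G.mat * NN G = -1 := by
  have h := T_M_Tt G
  have h1 : TT G * (-(G.mat * (TT G)ᵀ)) = 1 := by
    rw [Matrix.mul_neg, ← Matrix.mul_assoc, h, neg_neg]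
  have h2 := mul_eq_one_comm.mp h1
  unfold NN
  rw [← Matrix.mul_assoc]
  rw [Matrix.neg_mul] at h2
  exact neg_eq_iff_eq_neg.mp h2

theorem NN_mul_mat : NN G * G.mat = -1 := by
  have h := mat_mul_NN G
  have h1 : (-G.mat) * NN G = 1 := by rw [Matrix.neg_mul, h, neg_neg]
  have h2 := mul_eq_one_comm.mp h1
  rw [Matrix.mul_neg] at h2
  exact neg_eq_iff_eq_neg.mp h2

/-- extension by zero of a vector indexed by `I` -/
noncomputable def ext0 (I : Finset (Fin n)) (y : I → ℚ) : Fin n → ℚ :=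
  fun c => if h : c ∈ I then y ⟨c, h⟩ else 0

lemma sum_mul_ext0 (I : Finset (Fin n)) (y : I → ℚ) (f : Fin n → ℚ) :
    ∑ c, f c * ext0 I y c = ∑ c : I, f c.1 * y c := by
  classical
  unfold ext0
  rw [← Finset.sum_subset (Finset.subset_univ I)]
  · rw [← Finset.sum_coe_sort I]
    refine Finset.sum_congr rfl fun c _ => ?_
    rw [dif_pos c.2]
  · intro c _ hc
    rw [dif_neg hc, mul_zero]

/-- the principal submatrix on `I` has trivial kernel -/
lemma kernel_trivial (I : Finset (Fin n)) (y : I → ℚ)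
    (hy : (G.mat.submatrix (fun x : I => x.1) (fun x : I => x.1)) *ᵥ y = 0) : y = 0 := by
  classical
  obtain ⟨yt, hyt⟩ : ∃ yt, yt = ext0 I y := ⟨_, rfl⟩
  obtain ⟨z, hz⟩ : ∃ z, z = G.mat *ᵥ yt := ⟨_, rfl⟩
  have hza : ∀ a : I, z a.1 = 0 := by
    intro a
    have := congrFun hy a
    rw [hz, hyt]
    simp only [Matrix.mulVec, dotProduct, Matrix.submatrix_apply, Pi.zero_apply] at this ⊢
    rw [sum_mul_ext0]
    exact this
  have hdot : yt ⬝ᵥ z = 0 := by
    unfold dotProduct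
    refine Finset.sum_eq_zero fun a _ => ?_
    by_cases ha : a ∈ I
    · rw [hza ⟨a, ha⟩, mul_zero]
    · rw [hyt]
      unfold ext0
      rw [dif_neg ha, zero_mul]
  have hyt2 : yt = -(NN G *ᵥ z) := by
    rw [hz, Matrix.mulVec_mulVec, NN_mul_mat, Matrix.neg_mulVec, Matrix.one_mulVec, neg_neg]
  obtain ⟨q, hq⟩ : ∃ q, q = TT G *ᵥ z := ⟨_, rfl⟩
  have hNz : NN G *ᵥ z = (TT G)ᵀ *ᵥ q := by
    rw [hq, Matrix.mulVec_mulVec]
    rfl
  have hqq : q ⬝ᵥ q = 0 := by
    have h1 : (NN G *ᵥ z) ⬝ᵥ z = 0 := by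
      have : yt ⬝ᵥ z = -((NN G *ᵥ z) ⬝ᵥ z) := by rw [hyt2, neg_dotProduct]
      rw [hdot] at this
      linarith
    rw [hNz, Matrix.mulVec_transpose, ← Matrix.dotProduct_mulVec, ← hq] at h1
    exact h1
  have hq0 : q = 0 := dotProduct_self_eq_zero.mp hqq
  have hyt0 : yt = 0 := by
    rw [hyt2, hNz, hq0, Matrix.mulVec_zero, neg_zero]
  funext a
  have := congrFun hyt0 a.1
  rw [hyt] at this
  unfold ext0 at this
  rw [dif_pos a.2] at this
  exact this

lemma isUnit_det_sub (I : Finset (Fin n)) :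
    IsUnit (G.mat.submatrix (fun x : I => x.1) (fun x : I => x.1)).det := by
  rw [isUnit_iff_ne_zero]
  intro h0
  obtain ⟨y, hy0, hy⟩ := Matrix.exists_mulVec_eq_zero_iff.mpr h0
  exact hy0 (kernel_trivial G I y hy)

lemma mat_mul_NN_apply (b c : Fin n) :
    ∑ d, G.mat b d * NN G d c = if b = c then -1 else 0 := by
  have := congrFun (congrFun (mat_mul_NN G) b) c
  rw [Matrix.mul_apply] at this
  rw [this]
  simp only [Matrix.neg_apply, Matrix.one_apply]
  split_ifs <;> simp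

lemma schur (I : Finset (Fin n)) (i' i : Fin n) (hi : i ∉ I) :
    ∑ j ∈ Finset.univ.filter (fun j => j ∉ I), G.pairing I i' j * NN G j i =
      if i' = i then -1 else 0 := by
  classical
  obtain ⟨MII, hMII⟩ : ∃ M, M = G.mat.submatrix (fun x : I => x.1) (fun x : I => x.1) := ⟨_, rfl⟩
  have hdet : IsUnit MII.det := by rw [hMII]; exact isUnit_det_sub G I
  obtain ⟨J, hJ⟩ : ∃ J, J = Finset.univ.filter (fun j : Fin n => j ∉ I) := ⟨_, rfl⟩
  have hsplit : ∀ f : Fin n → ℚ, ∑ c, f c = ∑ a : I, f a.1 + ∑ j ∈ J, f j := by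
    intro f
    rw [← Finset.sum_filter_add_sum_filter_not Finset.univ (fun c => c ∈ I) f, hJ]
    congr 1
    rw [Finset.filter_mem_eq_inter, Finset.univ_inter]
    exact (Finset.sum_coe_sort I f).symm
  obtain ⟨w, hw⟩ : ∃ w : I → ℚ, w = fun a => NN G a.1 i := ⟨_, rfl⟩
  obtain ⟨u, hu⟩ : ∃ u : I → ℚ, u = fun b => ∑ j ∈ J, G.mat b.1 j * NN G j i := ⟨_, rfl⟩
  have h1 : MII *ᵥ w = -u := by
    funext b
    have := mat_mul_NN_apply G b.1 i
    rw [hsplit, if_neg (fun h : (b : Fin n) = i => hi (h ▸ b.2))] at this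
    simp only [Matrix.mulVec, dotProduct, Pi.neg_apply, hMII, hw, hu, Matrix.submatrix_apply]
    linarith [this]
  have h2 : w = -(MII⁻¹ *ᵥ u) := by
    have : MII⁻¹ *ᵥ (MII *ᵥ w) = w := by
      rw [Matrix.mulVec_mulVec, Matrix.nonsing_inv_mul _ hdet, Matrix.one_mulVec]
    rw [← this, h1, Matrix.mulVec_neg]
  have h3 := mat_mul_NN_apply G i' i
  rw [hsplit] at h3
  rw [← h3, ← hJ]
  unfold pairing
  rw [← hMII]
  simp only [sub_mul, Finset.sum_sub_distrib]
  have h4 : ∑ j ∈ J, (∑ a : I, ∑ b : I, G.mat i' a.1 * MII⁻¹ a b * G.mat b.1 j) * NN G j i =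
      ∑ a : I, G.mat i' a.1 * (MII⁻¹ *ᵥ u) a := by
    simp only [Matrix.mulVec, dotProduct, hu, Finset.sum_mul, Finset.mul_sum]
    rw [Finset.sum_comm]
    refine Finset.sum_congr rfl fun a _ => ?_
    rw [Finset.sum_comm]
    refine Finset.sum_congr rfl fun b _ => ?_
    refine Finset.sum_congr rfl fun j _ => ?_
    ring
  rw [h4]
  have h5 : ∀ a : I, (MII⁻¹ *ᵥ u) a = - w a := by
    intro a
    rw [h2]
    simp
  simp only [h5, mul_neg, Finset.sum_neg_distrib, sub_neg_eq_add, hw]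
  ring

theorem lNum_eq_rNum (I : Finset (Fin n)) (σ : Equiv.Perm (Fin n))
    : G.lNum I σ = BlowupGraph.rNum I σ := by
  classical
  unfold lNum rNum
  have h1 : ∀ i ∈ Finset.univ.filter (fun i : Fin n => i ∉ I),
      ∑ j ∈ Finset.univ.filter (fun j : Fin n => j ∉ I), (G.mult i j : ℚ) * G.pairing I (σ i) j =
        if σ i = i then -1 else 0 := by
    intro i hi
    have hi' : i ∉ I := (Finset.mem_filter.mp hi).2
    rw [← schur G I (σ i) i hi']
    refine Finset.sum_congr rfl fun j _ => ?_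
    rw [mult_eq, NN_symm, mul_comm]
  rw [Finset.sum_congr rfl h1, Finset.sum_ite, Finset.sum_const_zero, add_zero, Finset.sum_const,
    Finset.filter_filter]
  simp

end Groth.Agent.Lib.Helper8.BlowupG
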