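import Mathlib

set_option backward.isDefEq.respectTransparency.types false
set_option autoImplicit false
set_option linter.unusedSectionVars false
set_option linter.style.haveILetI false

namespace Groth.Agent.Lib.Helper8.CF

open CategoryTheory groupCohomology

universe u

/-- `H¹` vanishes iff every 1-cocycle is a coboundary. -/
theorem isZero_H1_iff {k G : Type u} [CommRing k] [Group G] (A : Rep k G) :
    Limits.IsZero (groupCohomology A 1) ↔
      ∀ f : G → A, (∀ g h : G, f (g * h) = A.ρ g (f h) + f g) →
        ∃ x : A, ∀ g : G, f g = A.ρ g x - x := by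
  rw [ModuleCat.isZero_iff_subsingleton]
  constructor
  · intro hs f hf
    have hmem : f ∈ cocycles₁ A := (mem_cocycles₁_iff f).2 hf
    have h0 : H1π A ⟨f, hmem⟩ = 0 := Subsingleton.elim _ _
    rw [H1π_eq_zero_iff] at h0
    obtain ⟨x, hx⟩ := h0
    refine ⟨x, fun g => ?_⟩
    have := congrFun hx g
    simp only [cocycles₁.coe_mk] at this
    rw [← this]
    rfl
  · intro h
    refine ⟨fun a b => ?_⟩
    have key : ∀ a : H1 A, a = 0 := by
      intro a
      induction a using H1_induction_on with
      | h x =>
        rw [H1π_eq_zero_iff]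
        obtain ⟨y, hy⟩ := h x ((mem_cocycles₁_iff x).1 x.2)
        refine ⟨y, ?_⟩
        funext g
        rw [hy g]
        rfl
    rw [key a, key b]

end Groth.Agent.Lib.Helper8.CF
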