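import Mathlib
import Groth.Agent.Lib.Helper8.CF1

set_option backward.isDefEq.respectTransparency.types false
set_option autoImplicit false
set_option linter.unusedSectionVars false
set_option linter.style.haveILetI false

namespace Groth.Agent.Lib.Helper8.CF

universe u v w

variable {k : Type*} [CommRing k]
  {Γ : Type u} [Group Γ] {V₁ : Type v} {V₂ : Type w} [AddCommGroup V₁] [AddCommGroup V₂]
  [Module k V₁] [Module k V₂]
  (ρ₁ : Representation k Γ V₁) (ρ₂ : Representation k Γ V₂) {X : Type u} [MulAction Γ X]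

/-- Step 1: a lift of the basis vector `x` fixed by the stabilizer of `x`. -/
lemma exists_fixed_lift
    (f : V₁ →ₗ[k] V₂) (hf : ∀ γ v, f (ρ₁ γ v) = ρ₂ γ (f v)) (hfi : Function.Injective f)
    (g : V₂ →ₗ[k] MonoidAlgebra k X)
    (hg : ∀ γ v, g (ρ₂ γ v) = Representation.ofMulAction k Γ X γ (g v))
    (hgs : Function.Surjective g) (hgf : ∀ w, g (f w) = 0) (hex : ∀ v, g v = 0 → ∃ w, f w = v)
    (H : ∀ (Γ' : Subgroup Γ) (c : Γ' → V₁), (∀ a b : Γ', c (a * b) = ρ₁ a (c b) + c a) →
      ∃ x, ∀ a : Γ', c a = ρ₁ a x - x) (x : X) :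
    ∃ e : V₂, g e = MonoidAlgebra.single x 1 ∧ ∀ γ ∈ MulAction.stabilizer Γ x, ρ₂ γ e = e := by
  obtain ⟨e₀, he₀⟩ := hgs (MonoidAlgebra.single x 1)
  have hker : ∀ γ : MulAction.stabilizer Γ x, g (ρ₂ γ e₀ - e₀) = 0 := by
    intro γ
    rw [map_sub, hg, he₀, Representation.ofMulAction_single, MulAction.mem_stabilizer_iff.mp γ.2,
      sub_self]
  choose c hc using fun γ : MulAction.stabilizer Γ x => hex _ (hker γ)
  have hcoc : ∀ a b : MulAction.stabilizer Γ x, c (a * b) = ρ₁ a (c b) + c a := by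
    intro a b
    apply hfi
    rw [map_add, hf, hc, hc, hc]
    simp only [Subgroup.coe_mul, map_mul, Module.End.mul_apply, map_sub]
    abel
  obtain ⟨l, hl⟩ := H _ c hcoc
  refine ⟨e₀ - f l, ?_, ?_⟩
  · rw [map_sub, he₀, hgf, sub_zero]
  · intro γ hγ
    have h1 := hc ⟨γ, hγ⟩
    have h2 := hl ⟨γ, hγ⟩
    simp only at h1 h2
    rw [map_sub, ← hf]
    have : f (ρ₁ γ l) = f (c ⟨γ, hγ⟩) + f l := by
      rw [h2, map_sub, sub_add_cancel]
    rw [this, h1]
    abel


/-- Lemma A: vanishing of `H¹` on all subgroups gives an equivariant section. -/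
theorem exists_section
    (f : V₁ →ₗ[k] V₂) (hf : ∀ γ v, f (ρ₁ γ v) = ρ₂ γ (f v)) (hfi : Function.Injective f)
    (g : V₂ →ₗ[k] MonoidAlgebra k X)
    (hg : ∀ γ v, g (ρ₂ γ v) = Representation.ofMulAction k Γ X γ (g v))
    (hgs : Function.Surjective g) (hgf : ∀ w, g (f w) = 0) (hex : ∀ v, g v = 0 → ∃ w, f w = v)
    (H : ∀ (Γ' : Subgroup Γ) (c : Γ' → V₁), (∀ a b : Γ', c (a * b) = ρ₁ a (c b) + c a) →
      ∃ x, ∀ a : Γ', c a = ρ₁ a x - x) :
    ∃ s : MonoidAlgebra k X →ₗ[k] V₂,
      (∀ γ v, s (Representation.ofMulAction k Γ X γ v) = ρ₂ γ (s v)) ∧ ∀ v, g (s v) = v := by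
  choose e he1 he2 using exists_fixed_lift ρ₁ ρ₂ f hf hfi g hg hgs hgf hex H
  -- orbit representatives
  let rep : X → X := fun x => (Quotient.mk (MulAction.orbitRel Γ X) x).out
  have hrep : ∀ x, ∃ γ : Γ, γ • rep x = x := by
    intro x
    have h1 : (MulAction.orbitRel Γ X).r (rep x) x := Quotient.exact (Quotient.out_eq _)
    rw [MulAction.orbitRel_apply] at h1
    obtain ⟨γ, hγ⟩ := h1
    exact ⟨γ⁻¹, by rw [← hγ, inv_smul_smul]⟩
  have hrep_smul : ∀ (δ : Γ) x, rep (δ • x) = rep x := by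
    intro δ x
    have : Quotient.mk (MulAction.orbitRel Γ X) (δ • x) = Quotient.mk (MulAction.orbitRel Γ X) x :=
      Quotient.sound (MulAction.orbitRel_apply.mpr (MulAction.mem_orbit x δ))
    simp only [rep, this]
  choose γx hγx using hrep
  let E : X → V₂ := fun x => ρ₂ (γx x) (e (rep x))
  have hE : ∀ x (γ : Γ), γ • rep x = x → E x = ρ₂ γ (e (rep x)) := by
    intro x γ hγ
    have hmem : γ⁻¹ * γx x ∈ MulAction.stabilizer Γ (rep x) := by
      rw [MulAction.mem_stabilizer_iff, mul_smul, hγx]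
      exact inv_smul_eq_iff.mpr hγ.symm
    have := he2 (rep x) _ hmem
    rw [map_mul, Module.End.mul_apply] at this
    have h2 := congrArg (ρ₂ γ) this
    rw [← Module.End.mul_apply, ← map_mul, mul_inv_cancel, map_one, Module.End.one_apply] at h2
    exact h2
  have hEsmul : ∀ (δ : Γ) x, E (δ • x) = ρ₂ δ (E x) := by
    intro δ x
    have h1 : (δ * γx x) • rep (δ • x) = δ • x := by
      rw [hrep_smul, mul_smul, hγx]
    rw [hE (δ • x) (δ * γx x) h1, hrep_smul, map_mul, Module.End.mul_apply]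
  have hgE : ∀ x, g (E x) = MonoidAlgebra.single x 1 := by
    intro x
    simp only [E]
    rw [hg, he1, Representation.ofMulAction_single, hγx]
  let s : MonoidAlgebra k X →ₗ[k] V₂ :=
    Finsupp.linearCombination k E ∘ₗ (MonoidAlgebra.coeffLinearEquiv (S := k) (M := X) k).toLinearMap
  have hs : ∀ x (n : k), s (MonoidAlgebra.single x n) = n • E x := by
    intro x n
    simp only [s, LinearMap.comp_apply, LinearEquiv.coe_coe]
    have : MonoidAlgebra.coeffLinearEquiv (S := k) (M := X) k (MonoidAlgebra.single x n) =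
        Finsupp.single x n := rfl
    rw [this, Finsupp.linearCombination_single]
  refine ⟨s, ?_, ?_⟩
  · intro γ v
    induction v using MonoidAlgebra.induction_linear with
    | zero => simp
    | add a b ha hb => rw [map_add, map_add, ha, hb, map_add, map_add]
    | single x n =>
      rw [Representation.ofMulAction_single, hs, hs, hEsmul, map_smul]
  · intro v
    induction v using MonoidAlgebra.induction_linear with
    | zero => simp
    | add a b ha hb => rw [map_add, map_add, ha, hb]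
    | single x n =>
      rw [hs, map_smul, hgE]
      ext
      simp

end Groth.Agent.Lib.Helper8.CF
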