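import Mathlib
import Groth.Agent.Lib.Helper8.CF2

set_option backward.isDefEq.respectTransparency.types false
set_option autoImplicit false
set_option linter.unusedSectionVars false
set_option linter.style.haveILetI false

namespace Groth.Agent.Lib.Helper8.CF

open scoped Classical

universe u v

variable {k : Type*} [CommRing k]
  {Γ : Type u} [Group Γ] (Γ' : Subgroup Γ) {V₁ : Type v} [AddCommGroup V₁] [Module k V₁]
  (ρ₁ : Representation k Γ V₁) (c : Γ' → V₁)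

/-- coset representatives with `σ (Γ') = 1` -/
noncomputable def σ (y : Γ ⧸ Γ') : Γ := if y = ((1 : Γ) : Γ ⧸ Γ') then 1 else y.out

lemma σ_spec (y : Γ ⧸ Γ') : ((σ Γ' y : Γ) : Γ ⧸ Γ') = y := by
  unfold σ
  split_ifs with h
  · exact h.symm
  · exact QuotientGroup.out_eq' y

lemma σ_one : σ Γ' ((1 : Γ) : Γ ⧸ Γ') = 1 := by
  unfold σ
  rw [if_pos rfl]

/-- extension of the cocycle by zero -/
noncomputable def ct (a : Γ) : V₁ := if h : a ∈ Γ' then c ⟨a, h⟩ else 0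

lemma ct_of_mem (a : Γ) (h : a ∈ Γ') : ct Γ' c a = c ⟨a, h⟩ := by
  unfold ct
  rw [dif_pos h]

lemma hmem (γ : Γ) (y : Γ ⧸ Γ') : (σ Γ' (γ • y))⁻¹ * (γ * σ Γ' y) ∈ Γ' := by
  rw [← QuotientGroup.eq, σ_spec]
  conv_lhs => rw [← σ_spec Γ' y]
  rfl

/-- the twisting function -/
noncomputable def b (γ : Γ) (y : Γ ⧸ Γ') : V₁ :=
  ρ₁ (σ Γ' (γ • y)) (ct Γ' c ((σ Γ' (γ • y))⁻¹ * (γ * σ Γ' y)))

variable (hc : ∀ a b : Γ', c (a * b) = ρ₁ a (c b) + c a)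

include hc in
lemma c_one : c 1 = 0 := by
  have := hc 1 1
  simp only [mul_one, OneMemClass.coe_one, map_one, Module.End.one_apply] at this
  exact left_eq_add.mp this


include hc in
lemma b_one (y : Γ ⧸ Γ') : b Γ' ρ₁ c 1 y = 0 := by
  unfold b
  rw [one_smul, one_mul, inv_mul_cancel, ct_of_mem Γ' c 1 Γ'.one_mem]
  have : (⟨1, Γ'.one_mem⟩ : Γ') = 1 := rfl
  rw [this, c_one Γ' ρ₁ c hc, map_zero]

include hc in
lemma b_mul (γ γ' : Γ) (y : Γ ⧸ Γ') :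
    b Γ' ρ₁ c (γ * γ') y = ρ₁ γ (b Γ' ρ₁ c γ' y) + b Γ' ρ₁ c γ (γ' • y) := by
  unfold b
  set s0 := σ Γ' y
  set s1 := σ Γ' (γ' • y)
  have e2 : (γ * γ') • y = γ • (γ' • y) := mul_smul _ _ _
  rw [e2]
  set s2 := σ Γ' (γ • (γ' • y))
  have h' : s1⁻¹ * (γ' * s0) ∈ Γ' := hmem Γ' γ' y
  have h : s2⁻¹ * (γ * s1) ∈ Γ' := hmem Γ' γ (γ' • y)
  have hprod : s2⁻¹ * (γ * γ' * s0) = (s2⁻¹ * (γ * s1)) * (s1⁻¹ * (γ' * s0)) := by group
  have hmem3 : s2⁻¹ * (γ * γ' * s0) ∈ Γ' := by rw [hprod]; exact Γ'.mul_mem h h'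
  rw [ct_of_mem Γ' c _ hmem3, ct_of_mem Γ' c _ h', ct_of_mem Γ' c _ h]
  have : (⟨s2⁻¹ * (γ * γ' * s0), hmem3⟩ : Γ') = ⟨_, h⟩ * ⟨_, h'⟩ := Subtype.ext hprod
  rw [this, hc, map_add]
  congr 1
  simp only
  rw [← Module.End.mul_apply, ← map_mul, ← Module.End.mul_apply, ← map_mul]
  congr 2
  group

/-- `B γ : ℤ[Y] → V₁`, the linear extension of `b γ`. -/
noncomputable def B (γ : Γ) : MonoidAlgebra k (Γ ⧸ Γ') →ₗ[k] V₁ :=
  Finsupp.linearCombination k (b Γ' ρ₁ c γ) ∘ₗ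
    (MonoidAlgebra.coeffLinearEquiv (S := k) (M := Γ ⧸ Γ') k).toLinearMap

lemma B_single (γ : Γ) (y : Γ ⧸ Γ') (n : k) :
    B Γ' ρ₁ c γ (MonoidAlgebra.single y n) = n • b Γ' ρ₁ c γ y := by
  simp only [B, LinearMap.comp_apply, LinearEquiv.coe_coe]
  have : MonoidAlgebra.coeffLinearEquiv (S := k) (M := Γ ⧸ Γ') k (MonoidAlgebra.single y n) =
      Finsupp.single y n := rfl
  rw [this, Finsupp.linearCombination_single]

include hc in
lemma B_one (φ : MonoidAlgebra k (Γ ⧸ Γ')) : B Γ' ρ₁ c 1 φ = 0 := by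
  induction φ using MonoidAlgebra.induction_linear with
  | zero => simp
  | add a b ha hb => rw [map_add, ha, hb, add_zero]
  | single y n => rw [B_single, b_one Γ' ρ₁ c hc, smul_zero]

include hc in
lemma B_mul (γ γ' : Γ) (φ : MonoidAlgebra k (Γ ⧸ Γ')) :
    B Γ' ρ₁ c (γ * γ') φ = ρ₁ γ (B Γ' ρ₁ c γ' φ) +
      B Γ' ρ₁ c γ (Representation.ofMulAction k Γ (Γ ⧸ Γ') γ' φ) := by
  induction φ using MonoidAlgebra.induction_linear with
  | zero => simp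
  | add a b ha hb =>
    rw [map_add, ha, hb, map_add, map_add, map_add, map_add]
    abel
  | single y n =>
    rw [Representation.ofMulAction_single, B_single, B_single, B_single, b_mul Γ' ρ₁ c hc,
      smul_add, map_smul]

/-- the twisted representation on `V₁ × ℤ[Γ/Γ']`. -/
noncomputable def ρ₂ : Representation k Γ (V₁ × MonoidAlgebra k (Γ ⧸ Γ')) where
  toFun γ := LinearMap.prod
    (ρ₁ γ ∘ₗ LinearMap.fst k _ _ + B Γ' ρ₁ c γ ∘ₗ LinearMap.snd k _ _)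
    (Representation.ofMulAction k Γ (Γ ⧸ Γ') γ ∘ₗ LinearMap.snd k _ _)
  map_one' := by
    apply LinearMap.ext
    rintro ⟨v, φ⟩
    simp only [LinearMap.prod_apply, Function.prod, LinearMap.add_apply, LinearMap.comp_apply,
      LinearMap.fst_apply, LinearMap.snd_apply, map_one, Module.End.one_apply,
      B_one Γ' ρ₁ c hc, add_zero]
  map_mul' γ γ' := by
    apply LinearMap.ext
    rintro ⟨v, φ⟩
    simp only [LinearMap.prod_apply, Function.prod, LinearMap.add_apply, LinearMap.comp_apply,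
      LinearMap.fst_apply, LinearMap.snd_apply, Module.End.mul_apply, map_mul, map_add]
    rw [B_mul Γ' ρ₁ c hc]
    ext
    · simp only
      abel
    · rfl

lemma ρ₂_apply (γ : Γ) (v : V₁) (φ : MonoidAlgebra k (Γ ⧸ Γ')) :
    ρ₂ Γ' ρ₁ c hc γ (v, φ) =
      (ρ₁ γ v + B Γ' ρ₁ c γ φ, Representation.ofMulAction k Γ (Γ ⧸ Γ') γ φ) := rfl


include hc in
lemma b_base (a : Γ') : b Γ' ρ₁ c (a : Γ) ((1 : Γ) : Γ ⧸ Γ') = c a := by
  have hy : (a : Γ) • (((1 : Γ) : Γ ⧸ Γ')) = ((1 : Γ) : Γ ⧸ Γ') := by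
    show (((a : Γ) * 1 : Γ) : Γ ⧸ Γ') = _
    rw [mul_one, QuotientGroup.eq, mul_one]
    exact Γ'.inv_mem a.2
  unfold b
  rw [hy, σ_one, inv_one, one_mul, mul_one, map_one, Module.End.one_apply, ct_of_mem Γ' c _ a.2]

include hc in
/-- Lemma B: an equivariant section of the twisted extension makes the cocycle a coboundary. -/
theorem coboundary_of_section
    (s : MonoidAlgebra k (Γ ⧸ Γ') →ₗ[k] V₁ × MonoidAlgebra k (Γ ⧸ Γ'))
    (hs : ∀ γ v, s (Representation.ofMulAction k Γ (Γ ⧸ Γ') γ v) = ρ₂ Γ' ρ₁ c hc γ (s v))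
    (hsnd : ∀ v, (s v).2 = v) :
    ∃ x : V₁, ∀ a : Γ', c a = ρ₁ a x - x := by
  set y₀ : Γ ⧸ Γ' := ((1 : Γ) : Γ ⧸ Γ') with hy₀
  set l : V₁ := (s (MonoidAlgebra.single y₀ 1)).1 with hl
  refine ⟨-l, fun a => ?_⟩
  have hy : (a : Γ) • y₀ = y₀ := by
    show (((a : Γ) * 1 : Γ) : Γ ⧸ Γ') = _
    rw [mul_one, QuotientGroup.eq, mul_one]
    exact Γ'.inv_mem a.2
  have h1 := hs a (MonoidAlgebra.single y₀ 1)
  rw [Representation.ofMulAction_single, hy] at h1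
  have h2 : s (MonoidAlgebra.single y₀ 1) = (l, MonoidAlgebra.single y₀ 1) :=
    Prod.ext rfl (hsnd _)
  rw [h2, ρ₂_apply, B_single, one_smul, b_base Γ' ρ₁ c hc a] at h1
  have h3 := congrArg Prod.fst h1
  simp only at h3
  have h4 : c a = l - ρ₁ a l := by
    rw [eq_sub_iff_add_eq, add_comm]
    exact h3.symm
  rw [map_neg, h4]
  abel

end Groth.Agent.Lib.Helper8.CF
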