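import Mathlib
import Groth.Agent.Lib.Helper8.CF3

set_option backward.isDefEq.respectTransparency.types false
set_option autoImplicit false
set_option linter.unusedSectionVars false
set_option linter.style.haveILetI false

namespace Groth.Agent.Lib.Helper8.CF

open CategoryTheory

universe u

variable {k Γ V₁ : Type u} [CommRing k] [Group Γ] (Γ' : Subgroup Γ) [AddCommGroup V₁] [Module k V₁]
  (ρ₁ : Representation k Γ V₁) (c : Γ' → V₁) (hc : ∀ a b : Γ', c (a * b) = ρ₁ a (c b) + c a)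

/-- the extension representation -/
noncomputable def extRep : Rep.{u} k Γ := Rep.of (ρ₂ Γ' ρ₁ c hc)

noncomputable def extF : Rep.of ρ₁ ⟶ extRep Γ' ρ₁ c hc :=
  Rep.ofHom (LinearMap.intertwiningMap_of_isIntertwiningMap _ _
    (LinearMap.inl k V₁ (MonoidAlgebra k (Γ ⧸ Γ'))) (by
      intro γ v
      simp only [LinearMap.inl_apply]
      rw [ρ₂_apply, map_zero, map_zero, add_zero]))

noncomputable def extG : extRep Γ' ρ₁ c hc ⟶ Rep.ofMulAction k Γ (Γ ⧸ Γ') :=
  Rep.ofHom (LinearMap.intertwiningMap_of_isIntertwiningMap _ _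
    (LinearMap.snd k V₁ (MonoidAlgebra k (Γ ⧸ Γ'))) (by
      rintro γ ⟨v, φ⟩
      rfl))

lemma extF_apply (v : V₁) : (extF Γ' ρ₁ c hc).hom v = (v, 0) := rfl

lemma extG_apply (p : V₁ × MonoidAlgebra k (Γ ⧸ Γ')) : (extG Γ' ρ₁ c hc).hom p = p.2 := rfl

lemma ext_zero : extF Γ' ρ₁ c hc ≫ extG Γ' ρ₁ c hc = 0 := by
  apply Rep.hom_ext
  apply Representation.IntertwiningMap.ext
  apply LinearMap.ext
  intro v
  rfl

/-- the extension attached to the cocycle -/
noncomputable def extSC : ShortComplex (Rep.{u} k Γ) :=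
  ShortComplex.mk (extF Γ' ρ₁ c hc) (extG Γ' ρ₁ c hc) (ext_zero Γ' ρ₁ c hc)

lemma extSC_shortExact : (extSC Γ' ρ₁ c hc).ShortExact := by
  refine ShortComplex.ShortExact.mk' ?_ ?_ ?_
  · have : ((extSC Γ' ρ₁ c hc).map (forget₂ (Rep.{u} k Γ) (ModuleCat.{u} k))).Exact := by
      rw [ShortComplex.moduleCat_exact_iff]
      rintro ⟨v, φ⟩ h
      have hφ : φ = 0 := h
      exact ⟨v, by rw [hφ]; rfl⟩
    rwa [ShortComplex.exact_map_iff_of_faithful] at this
  · rw [Rep.mono_iff_injective]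
    intro v w h
    exact congrArg Prod.fst h
  · rw [Rep.epi_iff_surjective]
    intro φ
    exact ⟨(0, φ), rfl⟩

include hc in
theorem coboundary_of_splitting (σs : (extSC Γ' ρ₁ c hc).Splitting) :
    ∃ x : V₁, ∀ a : Γ', c a = ρ₁ a x - x := by
  refine coboundary_of_section Γ' ρ₁ c hc σs.s.hom.toLinearMap ?_ ?_
  · intro γ v
    exact Rep.hom_comm_apply σs.s γ v
  · intro v
    have h := σs.s_g
    have h1 : (σs.s ≫ (extSC Γ' ρ₁ c hc).g).hom v = (𝟙 (extSC Γ' ρ₁ c hc).X₃ : _ ⟶ _).hom v := by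
      rw [h]
    exact h1

end Groth.Agent.Lib.Helper8.CF
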