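import Mathlib
import Groth.Agent.Lib.Helper8.CF3b

set_option backward.isDefEq.respectTransparency.types false
set_option autoImplicit false
set_option linter.unusedSectionVars false
set_option linter.style.haveILetI false

attribute [local instance 100000] Rep.hV2

namespace Groth.Agent.Lib.Helper8.CF

open CategoryTheory

/-- Concrete form of condition (i). -/
def CondI {Γ : Type} [Group Γ] (Λ : Rep ℤ Γ) : Prop :=
  ∀ (Γ' : Subgroup Γ) (c : Γ' → Λ.V), (∀ a b : Γ', c (a * b) = Λ.ρ a (c b) + c a) →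
    ∃ x : Λ.V, ∀ a : Γ', c a = Λ.ρ a x - x

lemma condI_iff {Γ : Type} [Group Γ] (Λ : Rep ℤ Γ) :
    (∀ Γ' : Subgroup Γ, Limits.IsZero (groupCohomology (Rep.res Γ'.subtype Λ) 1)) ↔ CondI Λ := by
  unfold CondI
  refine forall_congr' fun Γ' => ?_
  rw [isZero_H1_iff]
  rfl

lemma condI_of_iso {Γ : Type} [Group Γ] {Λ Λ' : Rep ℤ Γ} (α : Λ' ≅ Λ) (h : CondI Λ) : CondI Λ' := by
  intro Γ' c hc
  obtain ⟨x, hx⟩ := h Γ' (fun a => α.hom.hom (c a)) (by
    intro a b
    rw [hc, map_add, Rep.hom_comm_apply])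
  refine ⟨α.inv.hom x, fun a => ?_⟩
  have h1 := congrArg α.inv.hom (hx a)
  rw [Rep.inv_hom_apply, map_sub, Rep.hom_comm_apply] at h1
  exact h1


lemma exact_elementwise {Γ : Type} [Group Γ] (E : ShortComplex (Rep.{0} ℤ Γ)) (hE : E.Exact)
    (v : E.X₂.V) (hv : E.g.hom v = 0) : ∃ w : E.X₁.V, E.f.hom w = v := by
  have h1 : (E.map (forget₂ (Rep.{0} ℤ Γ) (ModuleCat.{0} ℤ))).Exact := by
    rw [ShortComplex.exact_map_iff_of_faithful]
    exact hE
  rw [ShortComplex.moduleCat_exact_iff] at h1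
  exact h1 v hv

theorem splitting_of_condI {Γ : Type} [Group Γ] (Λ : Rep ℤ Γ) (H : CondI Λ)
    (X : Type) [MulAction Γ X] (E : ShortComplex (Rep ℤ Γ)) (hE : E.ShortExact)
    (α : E.X₁ ≅ Λ) (β : E.X₃ ≅ Rep.ofMulAction ℤ Γ X) : Nonempty E.Splitting := by
  have H1 : CondI E.X₁ := condI_of_iso α H
  have hfi : Function.Injective E.f.hom := (Rep.mono_iff_injective E.f).1 hE.mono_f
  have hgs : Function.Surjective E.g.hom := (Rep.epi_iff_surjective E.g).1 hE.epi_g
  have hβs : Function.Surjective β.hom.hom := by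
    intro y
    exact ⟨β.inv.hom y, Rep.inv_hom_apply _ _ β.symm y⟩
  obtain ⟨s, hs1, hs2⟩ := exists_section (X := X) E.X₁.ρ E.X₂.ρ E.f.hom.toLinearMap
    (fun γ v => Rep.hom_comm_apply E.f γ v) hfi
    (β.hom.hom.toLinearMap ∘ₗ E.g.hom.toLinearMap)
    (by
      intro γ v
      simp only [LinearMap.comp_apply]
      show β.hom.hom (E.g.hom (E.X₂.ρ γ v)) = _
      rw [Rep.hom_comm_apply, Rep.hom_comm_apply]
      rfl)
    (hβs.comp hgs)
    (by
      intro w
      simp only [LinearMap.comp_apply]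
      show β.hom.hom (E.g.hom (E.f.hom w)) = 0
      have : E.g.hom (E.f.hom w) = 0 := by
        have h0 := E.zero
        have h1 : (E.f ≫ E.g).hom w = (0 : E.X₁ ⟶ E.X₃).hom w := by rw [h0]
        rw [Rep.zero_hom] at h1
        exact h1
      rw [this, map_zero])
    (by
      intro v hv
      simp only [LinearMap.comp_apply] at hv
      have hv' : β.hom.hom (E.g.hom v) = 0 := hv
      have h0 : E.g.hom v = 0 := by
        have := congrArg β.inv.hom hv'
        rw [Rep.inv_hom_apply, map_zero] at this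
        exact this
      exact exact_elementwise E hE.exact v h0)
    H1
  let s' : Rep.ofMulAction ℤ Γ X ⟶ E.X₂ :=
    Rep.ofHom (LinearMap.intertwiningMap_of_isIntertwiningMap _ _ s hs1)
  refine ⟨ShortComplex.Splitting.ofExactOfSection E hE.exact (β.hom ≫ s') ?_ hE.mono_f⟩
  apply Rep.hom_ext
  apply Representation.IntertwiningMap.ext
  apply LinearMap.ext
  intro y
  show E.g.hom (s (β.hom.hom y)) = y
  have h1 := hs2 (β.hom.hom y)
  simp only [LinearMap.comp_apply] at h1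
  have h2 : β.hom.hom (E.g.hom (s (β.hom.hom y))) = β.hom.hom y := h1
  have h3 := congrArg β.inv.hom h2
  rw [Rep.inv_hom_apply, Rep.inv_hom_apply] at h3
  exact h3


theorem main (Γ : Type) [Group Γ] [Finite Γ] (Λ : Rep ℤ Γ) :
    (∀ Γ' : Subgroup Γ, Limits.IsZero (groupCohomology (Rep.res Γ'.subtype Λ) 1)) ↔
      ∀ (X : Type) [MulAction Γ X] [Finite X] (E : ShortComplex (Rep ℤ Γ)),
        E.ShortExact → Nonempty (E.X₁ ≅ Λ) → Nonempty (E.X₃ ≅ Rep.ofMulAction ℤ Γ X) →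
          Nonempty E.Splitting := by
  rw [condI_iff]
  constructor
  · intro H X _ _ E hE ⟨α⟩ ⟨β⟩
    exact splitting_of_condI Λ H X E hE α β
  · intro h Γ' c hc
    obtain ⟨σs⟩ := h (Γ ⧸ Γ') (extSC Γ' Λ.ρ c hc) (extSC_shortExact Γ' Λ.ρ c hc)
      ⟨Iso.refl _⟩ ⟨Iso.refl _⟩
    exact coboundary_of_splitting Γ' Λ.ρ c hc σs

end Groth.Agent.Lib.Helper8.CF
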