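import Mathlib
import Groth.Prelude.Def_LefPen
import Groth.Agent.Lib.Helper25.BertiniPn6
import Groth.Agent.Lib.Helper17.PnCodim
import Groth.Agent.Lib.Helper10.DivLocal

/-!
# Irreducible components of a global complete intersection in projective space have the
expected dimension (helper8)
-/

set_option autoImplicit false
set_option linter.unusedSectionVars false
set_option linter.unusedVariables false
set_option linter.style.haveILetI false
universe u
open CategoryTheory CategoryTheory.Limits AlgebraicGeometry TopologicalSpace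

namespace Groth.Agent.Lib.Helper8.CIa

open Groth.Agent.Lib.Helper21.FibDim Groth.Agent.Lib.Helper21.ChartPt
  Groth.Agent.Lib.Helper17.PnReg Groth.Agent.Lib.Helper25.BertiniPn

variable (k : Type u) [Field k] (n : ℕ)

/-- on a standard chart the ideal of an intersection of `r` hypersurfaces is generated by the
`r` dehomogenized equations -/
theorem ciIdeal_ideal_chart {r : ℕ} {a : Fin r → ℕ} (G : ∀ j : Fin r, LefPen.Form n k (a j))
    (i : Fin (n + 1)) :
    (LefPen.ciIdeal G).ideal (chartA k n i) =
      Ideal.span (Set.range fun j : Fin r => LefPen.dehom (G j) i) := by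
  unfold LefPen.ciIdeal
  rw [Scheme.IdealSheafData.ideal_iSup]
  simp only [iSup_apply, hypIdeal_ideal_chart]
  rw [Ideal.span_range_eq_iSup]

/-- the local ring of `P^n` at a generic point of a component of `V(G_1,…,G_r)` has dimension
at most `r` -/
theorem ringKrullDim_stalk_le {r : ℕ} {a : Fin r → ℕ} (G : ∀ j : Fin r, LefPen.Form n k (a j))
    (z : CohB1.ProjSpace n k) (hz : z ∈ ((LefPen.ciIdeal G).support : Set (CohB1.ProjSpace n k)))
    (hgen : ∀ y ∈ ((LefPen.ciIdeal G).support : Set (CohB1.ProjSpace n k)), y ⤳ z → y = z) :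
    ringKrullDim ((CohB1.ProjSpace n k).presheaf.stalk z) ≤ (r : WithBot ℕ∞) := by
  classical
  obtain ⟨i, hi⟩ := exists_mem_chart k n z
  have hmin := Groth.Agent.Lib.Helper10.DivLocal.primeIdealOf_mem_minimalPrimes
    (LefPen.ciIdeal G) (chartA k n i) z hi hz hgen
  rw [ciIdeal_ideal_chart] at hmin
  haveI : IsNoetherianRing Γ(CohB1.ProjSpace n k, (chartA k n i).1) :=
    IsLocallyNoetherian.component_noetherian (chartA k n i)
  have hle := Ideal.height_le_card_of_mem_minimalPrimes_span (Set.finite_range _) hmin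
  rw [Groth.Agent.Lib.Helper10.DivLocal.ringKrullDim_stalk_eq_height (chartA k n i) z hi]
  have hcard : (Set.range fun j : Fin r => LefPen.dehom (G j) i).ncard ≤ r := by
    rw [← Set.image_univ]
    calc _ ≤ (Set.univ : Set (Fin r)).ncard := Set.ncard_image_le Set.finite_univ
      _ = r := by rw [Set.ncard_univ]; simp
  have h2 : ((chartA k n i).2.primeIdealOf ⟨z, hi⟩).asIdeal.height ≤ (r : ℕ∞) :=
    hle.trans (by exact_mod_cast hcard)
  exact_mod_cast h2

theorem main' (r : ℕ) (hr : r ≤ n) (I : (CohB1.ProjSpace n k).IdealSheafData)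
    (hIle : ∀ z ∈ (I.support : Set (CohB1.ProjSpace n k)),
      (∀ y ∈ (I.support : Set (CohB1.ProjSpace n k)), y ⤳ z → y = z) →
      ringKrullDim ((CohB1.ProjSpace n k).presheaf.stalk z) ≤ (r : WithBot ℕ∞))
    (hdim : topologicalKrullDim ↥I.subscheme = ((n - r : ℕ) : WithBot ℕ∞))
    (Z : Set ↥I.subscheme)
    (hZ : Z ∈ irreducibleComponents ↥I.subscheme) :
    topologicalKrullDim ↥Z = ((n - r : ℕ) : WithBot ℕ∞) := by
  classical
  have hZirr : IsIrreducible Z := hZ.1
  have hZcl : IsClosed Z := isClosed_of_mem_irreducibleComponents Z hZ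
  obtain ⟨ζ, hζ⟩ := QuasiSober.sober hZirr hZcl
  have hZeq : Z = closure {ζ} := hζ.def.symm
  have hzsupp : I.subschemeι ζ ∈ (I.support : Set (CohB1.ProjSpace n k)) := by
    have : I.subschemeι ζ ∈ Set.range I.subschemeι := ⟨ζ, rfl⟩
    rwa [Scheme.IdealSheafData.range_subschemeι] at this
  have hgen : ∀ y ∈ (I.support : Set (CohB1.ProjSpace n k)), y ⤳ I.subschemeι ζ →
      y = I.subschemeι ζ := by
    intro y hy hyz
    have : y ∈ Set.range I.subschemeι := by
      rw [Scheme.IdealSheafData.range_subschemeι]; exact hy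
    obtain ⟨y', rfl⟩ := this
    have hsp : y' ⤳ ζ := I.subschemeι.isEmbedding.isInducing.specializes_iff.mp hyz
    have h1 : Z ⊆ closure {y'} := by
      rw [hZeq]
      exact closure_minimal (Set.singleton_subset_iff.mpr (specializes_iff_mem_closure.mp hsp))
        isClosed_closure
    have h2 : closure {y'} ⊆ Z := hZ.2 isIrreducible_singleton.closure h1
    have hsp' : ζ ⤳ y' := by
      rw [specializes_iff_mem_closure, ← hZeq]
      exact h2 (subset_closure rfl)
    have : y' = ζ := (hsp.antisymm hsp').eq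
    rw [this]
  have hle := hIle _ hzsupp hgen
  obtain ⟨d, hd⟩ := exists_nat_trdeg k (CohB1.ProjSpace n k) (I.subschemeι ζ)
  have h1 := topologicalKrullDim_closure_singleton k (CohB1.ProjSpace n k) (I.subschemeι ζ) d hd
  obtain ⟨hdn, hstalk⟩ :=
    Groth.Agent.Lib.Helper17.PnCodim.ringKrullDim_stalk_of_closure k n (I.subschemeι ζ) d h1
  rw [hstalk] at hle
  have hnd : n - d ≤ r := by exact_mod_cast hle
  have h2 : topologicalKrullDim ↥(closure ({I.subschemeι ζ} : Set (CohB1.ProjSpace n k))) =
      topologicalKrullDim ↥(closure ({ζ} : Set I.subscheme)) :=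
    Groth.Agent.Lib.Helper17.PnCodim.topologicalKrullDim_closure_image I.subschemeι ζ
  have h3 : topologicalKrullDim ↥Z = (d : WithBot ℕ∞) := by
    rw [hZeq, ← h2, h1]
  have h4 : topologicalKrullDim ↥Z ≤ topologicalKrullDim ↥I.subscheme :=
    topologicalKrullDim_subspace_le _ Z
  rw [h3, hdim] at h4
  have hdle : d ≤ n - r := by exact_mod_cast h4
  rw [h3]
  have : d = n - r := by omega
  rw [this]

theorem main (r : ℕ) (hr : r ≤ n) (a : Fin r → ℕ)
    (G : ∀ j : Fin r, LefPen.Form n k (a j))
    (hdim : topologicalKrullDim ↥(LefPen.ciIdeal G).subscheme = ((n - r : ℕ) : WithBot ℕ∞))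
    (Z : Set ↥(LefPen.ciIdeal G).subscheme)
    (hZ : Z ∈ irreducibleComponents ↥(LefPen.ciIdeal G).subscheme) :
    topologicalKrullDim ↥Z = ((n - r : ℕ) : WithBot ℕ∞) :=
  main' k n r hr (LefPen.ciIdeal G) (fun z hz hgen => ringKrullDim_stalk_le k n G z hz hgen)
    hdim Z hZ

end Groth.Agent.Lib.Helper8.CIa
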