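import Mathlib
import Groth.Prelude.Def_CAlg
import Groth.Agent.S0320
import Groth.Agent.S0321
import Groth.Agent.Lib.Helper18.CMRing
import Groth.Agent.Lib.Helper18.FibQuot
set_option backward.isDefEq.respectTransparency.types false
set_option linter.unusedSectionVars false
set_option autoImplicit false
universe u

namespace Groth.Agent.Lib.Helper8.CMV

open Groth.Agent.Lib.Helper16.Depth RingTheory.Sequence

section Dim

variable {R : Type u} [CommRing R]

theorem ringKrullDim_quotient_inf_le (I J : Ideal R) (e : WithBot ℕ∞)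
    (hI : ringKrullDim (R ⧸ I) ≤ e) (hJ : ringKrullDim (R ⧸ J) ≤ e) :
    ringKrullDim (R ⧸ (I ⊓ J)) ≤ e := by
  rw [ringKrullDim_quotient] at hI hJ ⊢
  rw [Order.krullDim_eq_iSup_coheight]
  apply iSup_le
  intro x
  rw [Order.coheight_eq_krullDim_Ici]
  have hx : I ⊓ J ≤ x.1.asIdeal := x.2
  have key : ∀ I' : Ideal R, I' ≤ x.1.asIdeal →
      Order.krullDim (Set.Ici x) ≤ Order.krullDim (PrimeSpectrum.zeroLocus (I' : Set R)) := by
    intro I' h
    refine Order.krullDim_le_of_strictMono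
      (fun y => (⟨y.1.1, ?_⟩ : PrimeSpectrum.zeroLocus (I' : Set R))) ?_
    · have hy : x ≤ y.1 := y.2
      have hy' : x.1.asIdeal ≤ y.1.1.asIdeal := hy
      exact le_trans h hy'
    · intro y z hyz
      exact hyz
  rcases (Ideal.IsPrime.inf_le x.1.2).mp hx with h | h
  · exact le_trans (key I h) hI
  · exact le_trans (key J h) hJ

end Dim

section Grade

variable {R : Type u} [CommRing R] [IsNoetherianRing R] (m : Ideal R)

theorem le_idealDepth_prod' (k : ℕ) (M N : Type u) [AddCommGroup M] [Module R M] [Module.Finite R M]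
    [AddCommGroup N] [Module R N] [Module.Finite R N]
    (hM : (k : ℕ∞) ≤ LocCoh.idealDepth m M) (hN : (k : ℕ∞) ≤ LocCoh.idealDepth m N) :
    (k : ℕ∞) ≤ LocCoh.idealDepth m (M × N) := by
  have h := (Groth.Agent.S0321.result_aux R m M (M × N) N (LinearMap.inl R M N) (LinearMap.snd R M N)
    LinearMap.inl_injective LinearMap.snd_surjective Function.Exact.inl_snd).1
  exact le_trans (le_min hM hN) h

theorem le_grade_inf (I J : Ideal R) (k : ℕ)
    (hI : (k : ℕ∞) ≤ LocCoh.idealDepth m (R ⧸ I)) (hJ : (k : ℕ∞) ≤ LocCoh.idealDepth m (R ⧸ J))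
    (hIJ : (k : ℕ∞) ≤ LocCoh.idealDepth m (R ⧸ (I ⊔ J)) + 1) :
    (k : ℕ∞) ≤ LocCoh.idealDepth m (R ⧸ (I ⊓ J)) := by
  classical
  let ι : (R ⧸ (I ⊓ J)) →ₗ[R] (R ⧸ I) × (R ⧸ J) :=
    Submodule.liftQ (I ⊓ J) (LinearMap.prod (Submodule.mkQ I) (Submodule.mkQ J)) (by
      intro a ha
      rw [LinearMap.mem_ker]
      show ((Submodule.Quotient.mk a : R ⧸ I), (Submodule.Quotient.mk a : R ⧸ J)) = 0
      rw [Prod.mk_eq_zero]
      exact ⟨(Submodule.Quotient.mk_eq_zero _).mpr ha.1, (Submodule.Quotient.mk_eq_zero _).mpr ha.2⟩)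
  let p₁ : (R ⧸ I) →ₗ[R] (R ⧸ (I ⊔ J)) := Submodule.mapQ I (I ⊔ J) LinearMap.id (by
        intro a ha; exact Submodule.mem_sup_left ha)
  let p₂ : (R ⧸ J) →ₗ[R] (R ⧸ (I ⊔ J)) := Submodule.mapQ J (I ⊔ J) LinearMap.id (by
        intro a ha; exact Submodule.mem_sup_right ha)
  let π : (R ⧸ I) × (R ⧸ J) →ₗ[R] (R ⧸ (I ⊔ J)) := LinearMap.coprod p₁ (-p₂)
  have hι : Function.Injective ι := by
    rw [injective_iff_map_eq_zero]
    intro x hx
    obtain ⟨a, rfl⟩ := Submodule.mkQ_surjective _ x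
    have h1 : ((Submodule.Quotient.mk a : R ⧸ I), (Submodule.Quotient.mk a : R ⧸ J)) = 0 := hx
    rw [Prod.mk_eq_zero, Submodule.Quotient.mk_eq_zero, Submodule.Quotient.mk_eq_zero] at h1
    exact (Submodule.Quotient.mk_eq_zero _).mpr ⟨h1.1, h1.2⟩
  have hπ : Function.Surjective π := by
    intro y
    obtain ⟨a, rfl⟩ := Submodule.mkQ_surjective _ y
    refine ⟨(Submodule.Quotient.mk a, 0), ?_⟩
    show p₁ (Submodule.Quotient.mk a) + (-p₂) 0 = _
    rw [map_zero, add_zero]
    rfl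
  have hex : Function.Exact ι π := by
    rintro ⟨x, y⟩
    obtain ⟨a, rfl⟩ := Submodule.mkQ_surjective _ x
    obtain ⟨b, rfl⟩ := Submodule.mkQ_surjective _ y
    have hπab : π (Submodule.Quotient.mk a, Submodule.Quotient.mk b) =
        Submodule.Quotient.mk (a - b) := by
      show p₁ (Submodule.Quotient.mk a) + (-p₂) (Submodule.Quotient.mk b) = _
      rw [LinearMap.neg_apply, Submodule.mapQ_apply, Submodule.mapQ_apply, ← sub_eq_add_neg,
        LinearMap.id_apply, LinearMap.id_apply, ← Submodule.Quotient.mk_sub]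
    show π (Submodule.Quotient.mk a, Submodule.Quotient.mk b) = 0 ↔ _
    rw [hπab, Submodule.Quotient.mk_eq_zero]
    constructor
    · intro hab
      obtain ⟨i, hi, j, hj, hij⟩ := Submodule.mem_sup.mp hab
      refine ⟨Submodule.Quotient.mk (a - i), ?_⟩
      show ((Submodule.Quotient.mk (a - i) : R ⧸ I), (Submodule.Quotient.mk (a - i) : R ⧸ J)) = _
      rw [Prod.mk.injEq]
      constructor
      · show (Submodule.Quotient.mk (a - i) : R ⧸ I) = Submodule.Quotient.mk a
        rw [Submodule.Quotient.eq]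
        have : a - i - a = -i := by ring
        rw [this]
        exact Submodule.neg_mem _ hi
      · show (Submodule.Quotient.mk (a - i) : R ⧸ J) = Submodule.Quotient.mk b
        rw [Submodule.Quotient.eq]
        have : a - i - b = j := by
          have h2 : j = a - b - i := by rw [← hij]; ring
          rw [h2]; ring
        rw [this]
        exact hj
    · rintro ⟨z, hz⟩
      obtain ⟨c, rfl⟩ := Submodule.mkQ_surjective _ z
      have h1 : ((Submodule.Quotient.mk c : R ⧸ I), (Submodule.Quotient.mk c : R ⧸ J)) =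
          (Submodule.Quotient.mk a, Submodule.Quotient.mk b) := hz
      rw [Prod.mk.injEq, Submodule.Quotient.eq, Submodule.Quotient.eq] at h1
      have : a - b = -(c - a) + (c - b) := by ring
      rw [this]
      exact Submodule.add_mem _ (Submodule.mem_sup_left (Submodule.neg_mem _ h1.1))
        (Submodule.mem_sup_right h1.2)
  have h3 := (Groth.Agent.S0321.result_aux R m (R ⧸ (I ⊓ J)) ((R ⧸ I) × (R ⧸ J)) (R ⧸ (I ⊔ J))
    ι π hι hπ hex).2.2
  exact le_trans (le_min (le_idealDepth_prod' m k _ _ hI hJ) hIJ) h3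

theorem smul_top_quot_ne_top (I : Ideal R) (hI : I ≤ m) (hm : m ≠ ⊤) :
    m • (⊤ : Submodule R (R ⧸ I)) ≠ ⊤ := by
  intro h
  apply hm
  have h1 : (m • (⊤ : Submodule R R)).map (Submodule.mkQ I) = ⊤ := by
    rw [Submodule.map_smul'', Submodule.map_top, Submodule.range_mkQ]
    exact h
  have h2 := congrArg (Submodule.comap (Submodule.mkQ I)) h1
  rw [Submodule.comap_map_mkQ, Submodule.comap_top, smul_eq_mul, Ideal.mul_top] at h2
  rw [← h2]
  exact (sup_eq_right.mpr hI).symm

/-- `QuotSMulTop x (R ⧸ I) ≃ R ⧸ (I ⊔ (x))`. -/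
noncomputable def quotSMulTopQuotEquiv (I : Ideal R) (x : R) :
    QuotSMulTop x (R ⧸ I) ≃ₗ[R] R ⧸ (I ⊔ Ideal.span {x}) :=
  (Submodule.quotEquivOfEq _ _ (by
    ext y
    rw [Submodule.mem_smul_pointwise_iff_exists]
    constructor
    · rintro ⟨z, -, rfl⟩
      obtain ⟨a, rfl⟩ := Submodule.mkQ_surjective _ z
      refine ⟨x * a, Ideal.mul_mem_right _ _ (Ideal.subset_span (Set.mem_singleton x)), ?_⟩
      rfl
    · rintro ⟨r, hr, rfl⟩
      obtain ⟨a, rfl⟩ := Ideal.mem_span_singleton'.mp hr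
      refine ⟨Submodule.mkQ I a, Submodule.mem_top, ?_⟩
      rw [← map_smul, smul_eq_mul, mul_comm])).trans
    (Submodule.quotientQuotientEquivQuotientSup I (Ideal.span {x}))

theorem le_grade_of_quot (I : Ideal R) (x : R) (hx : x ∈ m) (hI : I ≤ m) (hm : m ≠ ⊤)
    (hreg : IsSMulRegular (R ⧸ I) x) (k : ℕ)
    (h : (k : ℕ∞) ≤ LocCoh.idealDepth m (R ⧸ (I ⊔ Ideal.span {x}))) :
    ((k + 1 : ℕ) : ℕ∞) ≤ LocCoh.idealDepth m (R ⧸ I) := by
  rw [le_idealDepth_iff] at h ⊢
  right
  rcases h with h | h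
  · exfalso
    refine smul_top_quot_ne_top m (I ⊔ Ideal.span {x}) (sup_le hI ?_) hm h
    rw [Ideal.span_le, Set.singleton_subset_iff]
    exact hx
  · apply HasRegSeq.cons hx hreg
    obtain ⟨rs, hlen, hrs, hmem⟩ := h
    exact ⟨rs, hlen, ((quotSMulTopQuotEquiv I x).isWeaklyRegular_congr rs).mpr hrs, hmem⟩

end Grade

section Vertex

variable {R : Type u} [CommRing R] [IsNoetherianRing R]

theorem cm_vertex (m : Ideal R) (hm : m ≠ ⊤) (I : Ideal R) (hI : I ≤ m) (e : ℕ)
    (hdepth : (e : ℕ∞) ≤ LocCoh.idealDepth m (R ⧸ I))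
    (hdim : ringKrullDim (R ⧸ I) ≤ (e : WithBot ℕ∞))
    [hp : (m.map (Ideal.Quotient.mk I)).IsPrime] :
    LocCoh.IsCohenMacaulayLocalRing (Localization.AtPrime (m.map (Ideal.Quotient.mk I))) := by
  rw [le_idealDepth_iff] at hdepth
  rcases hdepth with h | ⟨rs, hlen, hrs, hmem⟩
  · exact absurd h (smul_top_quot_ne_top m I hI hm)
  · set A := R ⧸ I with hA
    set mbar : Ideal A := m.map (Ideal.Quotient.mk I) with hmbar
    have hrs' : IsWeaklyRegular A (rs.map (algebraMap R A)) :=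
      (isWeaklyRegular_map_algebraMap_iff A A rs).mpr hrs
    have hmem' : ∀ r ∈ rs.map (algebraMap R A), r ∈ mbar := by
      intro r hr
      obtain ⟨a, ha, rfl⟩ := List.mem_map.mp hr
      exact Ideal.mem_map_of_mem _ (hmem a ha)
    have h1 := Groth.Agent.Lib.Helper18.CM.length_le_depth_localization mbar _ hrs' hmem'
    rw [List.length_map, hlen] at h1
    have h2 := Groth.Agent.Lib.Helper18.CM.depth_localization_le_height mbar
    have h3 : (mbar.height : WithBot ℕ∞) ≤ ringKrullDim A :=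
      Ideal.height_le_ringKrullDim_of_ne_top hp.ne_top
    have h4 : mbar.height ≤ (e : ℕ∞) := by
      have := le_trans h3 hdim
      exact_mod_cast this
    refine { supportDim_eq_depth := ?_ }
    rw [Module.supportDim_self_eq_ringKrullDim,
      IsLocalization.AtPrime.ringKrullDim_eq_height mbar (Localization.AtPrime mbar)]
    have h5 : LocCoh.depth (Localization.AtPrime mbar) (Localization.AtPrime mbar) = mbar.height :=
      le_antisymm h2 (le_trans h4 h1)
    rw [h5]

end Vertex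

end Groth.Agent.Lib.Helper8.CMV
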