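import Mathlib
import Groth.Prelude.Def_W4bk4grassmannianPl
import Groth.Agent.Lib.Helper8.Gr18
import Groth.Agent.Lib.Helper8.Gr9
set_option backward.isDefEq.respectTransparency.types false
set_option linter.unusedSectionVars false
set_option autoImplicit false
universe u

namespace Groth.Agent.Lib.Helper8.Gr
open W4bk4grassmannian MvPolynomial

section Comb

variable {d n : ℕ}

/-- A position where `τ` jumps by at least two. -/
def Jump (τ : Idx d n) (t : Fin d) : Prop :=
  t.val < (τ.1 t).val ∧ ∀ t' : Fin d, t'.val + 1 = t.val → (τ.1 t').val + 1 < (τ.1 t).val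

/-- Decrease the entry at a jump by one. -/
def decIdx (τ : Idx d n) (t : Fin d) (h : Jump τ t) : Idx d n :=
  ⟨fun s => if s = t then ⟨(τ.1 t).val - 1, by have := (τ.1 t).isLt; omega⟩ else τ.1 s, by
    intro a b hab
    have hab' : a.val < b.val := hab
    beta_reduce
    by_cases ha : a = t
    · have hb : b ≠ t := by rintro rfl; rw [ha] at hab'; exact lt_irrefl _ hab'
      rw [if_pos ha, if_neg hb, Fin.lt_def]
      have : (τ.1 a).val < (τ.1 b).val := τ.2 hab
      rw [ha] at this
      simp only
      omega
    · by_cases hb : b = t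
      · rw [if_neg ha, if_pos hb, Fin.lt_def]
        simp only
        subst hb
        -- a < b, need τ a < τ b - 1
        have hb0 : 0 < b.val := by omega
        let p : Fin d := ⟨b.val - 1, by have := b.isLt; omega⟩
        have hp : p.val + 1 = b.val := by simp only [p]; omega
        have h1 := h.2 p hp
        have h2 : (τ.1 a).val ≤ (τ.1 p).val := by
          have : a ≤ p := by
            rw [Fin.le_def]; simp only [p]; omega
          exact τ.2.monotone this
        omega
      · rw [if_neg ha, if_neg hb]
        exact τ.2 hab⟩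

theorem decIdx_self (τ : Idx d n) (t : Fin d) (h : Jump τ t) :
    ((decIdx τ t h).1 t).val = (τ.1 t).val - 1 := by
  unfold decIdx
  simp

theorem decIdx_ne (τ : Idx d n) (t : Fin d) (h : Jump τ t) (s : Fin d) (hs : s ≠ t) :
    (decIdx τ t h).1 s = τ.1 s := by
  unfold decIdx
  simp [hs]

theorem val_ge (τ : Idx d n) (t : Fin d) : t.val ≤ (τ.1 t).val :=
  le_val_of_strictMono τ.1 τ.2 t.val t rfl

theorem codeg_add (τ : Idx d n) : codeg τ + ∑ t : Fin d, t.val = ∑ t : Fin d, (τ.1 t).val := by
  unfold codeg
  rw [← Finset.sum_add_distrib]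
  apply Finset.sum_congr rfl
  intro t _
  have := val_ge τ t
  omega

theorem decIdx_mem_divisors (τ : Idx d n) (t : Fin d) (h : Jump τ t) :
    decIdx τ t h ∈ divisors τ := by
  have hle : decIdx τ t h ≤ τ := by
    intro s
    by_cases hs : s = t
    · subst hs
      rw [Fin.le_def, decIdx_self]
      omega
    · rw [decIdx_ne τ t h s hs]
  refine ⟨lt_of_le_of_ne hle ?_, ?_⟩
  · intro heq
    have : ((decIdx τ t h).1 t).val = (τ.1 t).val := by rw [heq]
    rw [decIdx_self] at this
    have := h.1
    omega
  · have h1 := codeg_add (decIdx τ t h)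
    have h2 := codeg_add τ
    have h3 : ∑ s : Fin d, ((decIdx τ t h).1 s).val + 1 = ∑ s : Fin d, (τ.1 s).val := by
      rw [← Finset.add_sum_erase _ _ (Finset.mem_univ t),
        ← Finset.add_sum_erase _ (fun s : Fin d => (τ.1 s).val) (Finset.mem_univ t)]
      have hrest : (Finset.univ.erase t).sum (fun s : Fin d => ((decIdx τ t h).1 s).val)
          = (Finset.univ.erase t).sum (fun s : Fin d => (τ.1 s).val) := by
        apply Finset.sum_congr rfl
        intro s hs
        rw [decIdx_ne τ t h s (Finset.ne_of_mem_erase hs)]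
      rw [hrest, decIdx_self]
      have := h.1
      omega
    omega

theorem exists_decIdx_of_mem_divisors (τ φ : Idx d n) (hφ : φ ∈ divisors τ) :
    ∃ (t : Fin d) (h : Jump τ t), φ = decIdx τ t h := by
  obtain ⟨hlt, hco⟩ := hφ
  have hle : ∀ s, (φ.1 s).val ≤ (τ.1 s).val := fun s => (le_of_lt hlt) s
  have h1 := codeg_add φ
  have h2 := codeg_add τ
  have hsum : ∑ s : Fin d, ((τ.1 s).val - (φ.1 s).val) = 1 := by
    have : ∑ s : Fin d, ((τ.1 s).val - (φ.1 s).val) + ∑ s : Fin d, (φ.1 s).val
        = ∑ s : Fin d, (τ.1 s).val := by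
      rw [← Finset.sum_add_distrib]
      apply Finset.sum_congr rfl
      intro s _
      have := hle s
      omega
    omega
  have hex : ∃ t : Fin d, 0 < (τ.1 t).val - (φ.1 t).val := by
    by_contra hcon
    push Not at hcon
    have : ∑ s : Fin d, ((τ.1 s).val - (φ.1 s).val) = 0 := by
      apply Finset.sum_eq_zero
      intro s _
      have := hcon s
      omega
    omega
  obtain ⟨t, ht⟩ := hex
  rw [← Finset.add_sum_erase _ _ (Finset.mem_univ t)] at hsum
  have hrest : (Finset.univ.erase t).sum (fun s : Fin d => (τ.1 s).val - (φ.1 s).val) = 0 := by omega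
  have ht1 : (τ.1 t).val - (φ.1 t).val = 1 := by omega
  have hother : ∀ s : Fin d, s ≠ t → φ.1 s = τ.1 s := by
    intro s hs
    have := (Finset.sum_eq_zero_iff.mp hrest) s (Finset.mem_erase.mpr ⟨hs, Finset.mem_univ _⟩)
    apply Fin.ext
    have := hle s
    omega
  have hjump : Jump τ t := by
    refine ⟨?_, ?_⟩
    · have := val_ge φ t
      omega
    · intro t' ht'
      have hne : t' ≠ t := by
        intro h; rw [h] at ht'; omega
      have h3 : (φ.1 t').val < (φ.1 t).val := φ.2 (by rw [Fin.lt_def]; omega)
      rw [hother t' hne] at h3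
      omega
  refine ⟨t, hjump, ?_⟩
  apply Subtype.ext
  funext s
  by_cases hs : s = t
  · subst hs
    apply Fin.ext
    rw [decIdx_self]
    omega
  · rw [decIdx_ne τ t hjump s hs, hother s hs]

theorem decIdx_injective (τ : Idx d n) (t t' : Fin d) (h : Jump τ t) (h' : Jump τ t')
    (heq : decIdx τ t h = decIdx τ t' h') : t = t' := by
  by_contra hne
  have : ((decIdx τ t h).1 t).val = ((decIdx τ t' h').1 t).val := by rw [heq]
  rw [decIdx_self, decIdx_ne τ t' h' t hne] at this
  have := h.1
  omega

theorem divisors_subsingleton_iff_jump (τ : Idx d n) :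
    (divisors τ).Subsingleton ↔ ∀ t t' : Fin d, Jump τ t → Jump τ t' → t = t' := by
  constructor
  · intro hs t t' h h'
    exact decIdx_injective τ t t' h h'
      (hs (decIdx_mem_divisors τ t h) (decIdx_mem_divisors τ t' h'))
  · intro hj φ hφ φ' hφ'
    obtain ⟨t, h, rfl⟩ := exists_decIdx_of_mem_divisors τ φ hφ
    obtain ⟨t', h', rfl⟩ := exists_decIdx_of_mem_divisors τ φ' hφ'
    have := hj t t' h h'
    subst this
    rfl

theorem eq_of_no_jump_below (τ : Idx d n) (s : ℕ) (hs : ∀ t : Fin d, t.val < s → ¬ Jump τ t) :
    ∀ (k : ℕ) (t : Fin d), t.val = k → k < s → (τ.1 t).val = t.val := by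
  intro k
  induction k with
  | zero =>
    intro t ht hk
    have hnj := hs t (by omega)
    by_contra hne
    apply hnj
    refine ⟨?_, ?_⟩
    · have := val_ge τ t; omega
    · intro t' ht'; omega
  | succ k ih =>
    intro t ht hk
    have hnj := hs t (by omega)
    by_contra hne
    apply hnj
    have hge := val_ge τ t
    refine ⟨by omega, ?_⟩
    intro t' ht'
    have := ih t' (by omega) (by omega)
    omega

theorem jump_iff_consecutive (τ : Idx d n) :
    (∀ t t' : Fin d, Jump τ t → Jump τ t' → t = t') ↔
      ∃ s : ℕ, (∀ t : Fin d, t.val < s → (τ.1 t).val = t.val) ∧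
        ∀ t t' : Fin d, s ≤ t.val → t.val + 1 = t'.val → (τ.1 t).val + 1 = (τ.1 t').val := by
  constructor
  · intro huniq
    by_cases hex : ∃ t, Jump τ t
    · obtain ⟨t₀, h₀⟩ := hex
      refine ⟨t₀.val, ?_, ?_⟩
      · intro t ht
        apply eq_of_no_jump_below τ t₀.val ?_ t.val t rfl ht
        intro t' ht' hj
        have := huniq t' t₀ hj h₀
        rw [this] at ht'
        exact lt_irrefl _ ht'
      · intro t t' hst htt'
        have hlt : (τ.1 t).val < (τ.1 t').val := τ.2 (by rw [Fin.lt_def]; omega)
        by_contra hne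
        have hj : Jump τ t' := by
          refine ⟨?_, ?_⟩
          · have := val_ge τ t; omega
          · intro p hp
            have : p = t := Fin.ext (by omega)
            subst this
            omega
        have := huniq t' t₀ hj h₀
        rw [this] at htt'
        omega
    · push Not at hex
      refine ⟨d, ?_, ?_⟩
      · intro t ht
        exact eq_of_no_jump_below τ d (fun t' _ => hex t') t.val t rfl ht
      · intro t t' hst
        have := t.isLt
        omega
  · rintro ⟨s, h1, h2⟩
    have key : ∀ t : Fin d, Jump τ t → t.val = s := by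
      intro t hj
      by_contra hne
      rcases Nat.lt_or_gt_of_ne hne with hlt | hgt
      · have := h1 t hlt
        have := hj.1
        omega
      · let p : Fin d := ⟨t.val - 1, by have := t.isLt; omega⟩
        have hp : p.val + 1 = t.val := by simp only [p]; omega
        have := h2 p t (by simp only [p]; omega) hp
        have := hj.2 p hp
        omega
    intro t t' h h'
    apply Fin.ext
    rw [key t h, key t' h']

/-- Part (iii) of S11260. -/
theorem divisors_subsingleton_iff (τ : Idx d n) :
    (divisors τ).Subsingleton ↔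
      ∃ s : ℕ, (∀ t : Fin d, t.val < s → (τ.1 t).val = t.val) ∧
        ∀ t t' : Fin d, s ≤ t.val → t.val + 1 = t'.val → (τ.1 t).val + 1 = (τ.1 t').val := by
  rw [divisors_subsingleton_iff_jump, jump_iff_consecutive]

end Comb

end Groth.Agent.Lib.Helper8.Gr
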