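import Mathlib
import Groth.Prelude.Def_W4bk4grassmannianPl
import Groth.Agent.Lib.Helper8.UF1
set_option backward.isDefEq.respectTransparency.types false
set_option linter.unusedSectionVars false
set_option autoImplicit false
universe u

namespace Groth.Agent.Lib.Helper8.Gr
open W4bk4grassmannian MvPolynomial
open scoped MonomialOrder

section PrimeDiv

variable {K : Type u} [Field K] [Infinite K] {d n : ℕ}

theorem X_notMem_schubertVanishing (τ φ : Idx d n) (h : φ ≤ τ) :
    (X φ : PlRing K d n) ∉ schubertVanishing K d n τ := by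
  intro h0
  have h1 := schubertVanishing_le_ker τ _ h0
  have h2 : (mo d n).Monic (psi K (PS τ) (X φ)) := monic_psi_X _ _ ((good_PS τ _).mpr h)
  exact h2.ne_zero h1

theorem le_of_schubertVanishing_le (δ φ : Idx d n)
    (h : schubertVanishing K d n δ ≤ schubertVanishing K d n φ) : φ ≤ δ := by
  by_contra hcon
  exact X_notMem_schubertVanishing (K := K) φ φ le_rfl (h (X_mem_schubertVanishing δ φ hcon))

theorem eq_of_le_of_codeg (φ δ : Idx d n) (hle : φ ≤ δ) (hc : codeg φ = codeg δ) : φ = δ := by
  have h1 := codeg_add φ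
  have h2 := codeg_add δ
  have hsum : ∑ t : Fin d, (φ.1 t).val = ∑ t : Fin d, (δ.1 t).val := by omega
  have hle' : ∀ t ∈ (Finset.univ : Finset (Fin d)), (φ.1 t).val ≤ (δ.1 t).val := fun t _ => hle t
  have := (Finset.sum_eq_sum_iff_of_le hle').mp hsum
  apply Subtype.ext
  funext t
  apply Fin.ext
  exact this t (Finset.mem_univ t)

/-- Part (ii) of S11260. -/
theorem prime_X_iff_divisors (hd : 0 < d) (hdn : d < n) (τ : Idx d n) :
    Prime (Ideal.Quotient.mk (schubertVanishing K d n τ) (X τ)) ↔ (divisors τ).Subsingleton := by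
  by_cases hτ : ∃ φ : Idx d n, φ < τ
  · set J := schubertVanishing K d n τ with hJ
    have hne : Ideal.Quotient.mk J (X τ) ≠ 0 := by
      intro h0
      rw [Ideal.Quotient.eq_zero_iff_mem] at h0
      exact X_notMem_schubertVanishing τ τ le_rfl h0
    rw [← Ideal.span_singleton_prime hne]
    have hmap : Ideal.map (Ideal.Quotient.mk J) (J ⊔ Ideal.span {(X τ : PlRing K d n)})
        = Ideal.span {Ideal.Quotient.mk J (X τ)} := by
      rw [Ideal.map_sup, Ideal.map_quotient_self, bot_sup_eq, Ideal.map_span, Set.image_singleton]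
    have hiff : (Ideal.span {Ideal.Quotient.mk J (X τ)}).IsPrime ↔
        (J ⊔ Ideal.span {(X τ : PlRing K d n)}).IsPrime := by
      constructor
      · intro hp
        have h1 : Ideal.comap (Ideal.Quotient.mk J) (Ideal.span {Ideal.Quotient.mk J (X τ)})
            = J ⊔ Ideal.span {(X τ : PlRing K d n)} := by
          rw [← hmap, Ideal.comap_map_of_surjective _ Ideal.Quotient.mk_surjective,
            ← RingHom.ker_eq_comap_bot, Ideal.mk_ker]
          apply le_antisymm
          · exact sup_le le_rfl le_sup_left
          · exact le_sup_left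
        rw [← h1]
        exact Ideal.comap_isPrime _ _
      · intro hp
        rw [← hmap]
        apply Ideal.map_isPrime_of_surjective Ideal.Quotient.mk_surjective
        rw [Ideal.mk_ker]
        exact le_sup_left
    rw [hiff, sup_span_eq_iInf_divisors hd τ hτ]
    obtain ⟨φ₀, hφ₀⟩ := hτ
    obtain ⟨δ₀, hδ₀, _⟩ := Groth.Agent.S11268.result d n φ₀ τ hφ₀
    constructor
    · intro hp
      let s : Finset (Idx d n) := (Set.toFinite (divisors τ)).toFinset
      have hs : ∀ φ, φ ∈ s ↔ φ ∈ divisors τ := fun φ => Set.Finite.mem_toFinset _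
      have hinf : s.inf (fun φ => schubertVanishing K d n φ)
          = ⨅ φ ∈ divisors τ, schubertVanishing K d n φ := by
        rw [Finset.inf_eq_iInf]
        congr 1
        funext φ
        rw [hs φ]
      have h1 := (Ideal.IsPrime.inf_le' (s := s) (f := fun φ => schubertVanishing K d n φ) hp).mp
        (le_of_eq hinf)
      obtain ⟨δ, hδs, hδ⟩ := h1
      have hδd : δ ∈ divisors τ := (hs δ).mp hδs
      have hall : ∀ φ ∈ divisors τ, φ = δ := by
        intro φ hφ
        have h2 : schubertVanishing K d n δ ≤ schubertVanishing K d n φ :=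
          le_trans hδ (iInf₂_le φ hφ)
        have h3 := le_of_schubertVanishing_le δ φ h2
        apply eq_of_le_of_codeg φ δ h3
        have := hφ.2
        have := hδd.2
        omega
      intro φ hφ φ' hφ'
      rw [hall φ hφ, hall φ' hφ']
    · intro hsub
      have : (⨅ φ ∈ divisors τ, schubertVanishing K d n φ) = schubertVanishing K d n δ₀ := by
        apply le_antisymm
        · exact iInf₂_le δ₀ hδ₀
        · apply le_iInf₂
          intro φ hφ
          rw [hsub hφ hδ₀]
      rw [this]
      exact schubertVanishing_isPrime hd δ₀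
  · have hτeq : τ = iota0 hdn := by
      by_contra hne
      apply hτ
      exact ⟨iota0 hdn, lt_of_le_of_ne (iota0_le hdn τ) (Ne.symm hne)⟩
    constructor
    · intro _ φ hφ
      exact absurd ⟨φ, hφ.1⟩ hτ
    · intro _
      rw [hτeq]
      exact prime_X_iota hd hdn (iota0 hdn)

end PrimeDiv

end Groth.Agent.Lib.Helper8.Gr
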