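import Mathlib
import Groth.Prelude.Def_W4bk4grassmannianPl
import Groth.Agent.Lib.Helper8.UF2
import Groth.Agent.Lib.Helper8.Det1
set_option backward.isDefEq.respectTransparency.types false
set_option linter.unusedSectionVars false
set_option autoImplicit false
universe u

namespace Groth.Agent.Lib.Helper8.Gr
open W4bk4grassmannian MvPolynomial
open scoped MonomialOrder

section Irred

variable {K : Type u} [Field K] {d n : ℕ}

theorem isHomogeneous_det {σ R : Type*} [CommRing R] {k : ℕ}
    (M : Matrix (Fin k) (Fin k) (MvPolynomial σ R)) (h : ∀ i j, (M i j).IsHomogeneous 1) :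
    M.det.IsHomogeneous k := by
  rw [Matrix.det_apply']
  apply IsHomogeneous.sum
  intro p _
  have h1 : (∏ i, M (p i) i).IsHomogeneous (∑ _i : Fin k, 1) :=
    IsHomogeneous.prod _ _ _ (fun i _ => h (p i) i)
  simp only [Finset.sum_const, Finset.card_univ, Fintype.card_fin, smul_eq_mul, mul_one] at h1
  have h2 : (((Equiv.Perm.sign p : ℤˣ) : ℤ) : MvPolynomial σ R).IsHomogeneous 0 := by
    rw [← map_intCast (C : R →+* MvPolynomial σ R)]
    exact isHomogeneous_C _ _
  have := h2.mul h1
  rwa [zero_add] at this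

theorem isHomogeneous_evalR_X (P : Fin n → Fin d → Prop) [∀ s t, Decidable (P s t)] (θ : Idx d n) :
    (evalR (K := K) (MPm K P) (X θ)).IsHomogeneous d := by
  rw [evalR_X]
  apply isHomogeneous_det
  intro i j
  unfold MPm
  rw [Matrix.submatrix_apply, Matrix.of_apply]
  split_ifs
  · exact isHomogeneous_X _ _
  · exact isHomogeneous_zero _ _ _

/-- All monomials of a pattern-minor polynomial have degree divisible by `d`. -/
theorem dvd_degree_of_mem_Btau (τ : Idx d n) (a : MatRing K d n) (ha : a ∈ Btau K τ) :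
    ∀ m ∈ a.support, d ∣ (m.sum fun _ e => e) := by
  classical
  obtain ⟨F, rfl⟩ := (AlgHom.mem_range _).mp ha
  induction F using MvPolynomial.induction_on with
  | C c =>
    intro m hm
    have : evalR (K := K) (MPm K (PS τ)) (C c) = C c := by
      unfold evalR; rw [aeval_C]; rfl
    rw [this] at hm
    have hm0 : m = 0 := by
      by_contra hne
      rw [mem_support_iff, coeff_C, if_neg (Ne.symm hne)] at hm
      exact hm rfl
    rw [hm0]
    simp
  | add p q hp hq =>
    intro m hm
    rw [map_add] at hm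
    rcases Finset.mem_union.mp (MvPolynomial.support_add hm) with h | h
    · exact hp ((AlgHom.mem_range _).mpr ⟨p, rfl⟩) m h
    · exact hq ((AlgHom.mem_range _).mpr ⟨q, rfl⟩) m h
  | mul_X p θ hp =>
    intro m hm
    rw [map_mul] at hm
    have := MvPolynomial.support_mul _ _ hm
    obtain ⟨m₁, hm₁, m₂, hm₂, rfl⟩ := Finset.mem_add.mp this
    have h1 := hp ((AlgHom.mem_range _).mpr ⟨p, rfl⟩) m₁ hm₁
    have h2 : (m₂.sum fun _ e => e) = d := by
      have := isHomogeneous_evalR_X (K := K) (PS τ) θ (mem_support_iff.mp hm₂)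
      refine Eq.trans ?_ this
      simp [Finsupp.weight_apply, Finsupp.sum]
    rw [Finsupp.sum_add_index' (fun _ => rfl) (fun _ _ _ => rfl), h2]
    exact Dvd.dvd.add h1 (dvd_refl d)

theorem dvd_totalDegree_of_mem_Btau (τ : Idx d n) (a : MatRing K d n) (ha : a ∈ Btau K τ) :
    d ∣ a.totalDegree := by
  by_cases h0 : a.support = ∅
  · unfold totalDegree
    rw [h0, Finset.sup_empty]
    exact dvd_zero d
  · have hne : a.support.Nonempty := Finset.nonempty_iff_ne_empty.mpr h0
    obtain ⟨m, hm, hsup⟩ := Finset.exists_mem_eq_sup a.support hne (fun s => s.sum fun _ e => e)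
    unfold totalDegree
    rw [hsup]
    exact dvd_degree_of_mem_Btau τ a ha m hm

theorem ptau_ne_zero [Infinite K] (τ : Idx d n) : evalR (K := K) (MPm K (PS τ)) (X τ) ≠ 0 := by
  intro h0
  have h1 : (X τ : PlRing K d n) ∈ RingHom.ker (evalR (K := K) (MPm K (PS τ))).toRingHom :=
    (RingHom.mem_ker).mpr h0
  by_cases hd : 0 < d
  · rw [ker_evalR_eq hd τ] at h1
    exact X_notMem_schubertVanishing τ τ le_rfl h1
  · have hd0 : d = 0 := by omega
    subst hd0
    rw [evalR_X] at h0
    simp at h0

/-- The class of `X τ` is irreducible in the algebra of pattern minors. -/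
theorem irreducible_ptau [Infinite K] (hd : 0 < d) (τ : Idx d n) :
    Irreducible (⟨evalR (K := K) (MPm K (PS τ)) (X τ), (AlgHom.mem_range _).mpr ⟨_, rfl⟩⟩ :
      Btau K τ) := by
  set P := evalR (K := K) (MPm K (PS τ)) (X τ) with hP
  have hPne : P ≠ 0 := ptau_ne_zero τ
  have hPdeg : P.totalDegree = d := (isHomogeneous_evalR_X (PS τ) τ).totalDegree hPne
  have hunit : ∀ a : Btau K τ, (a : MatRing K d n) ≠ 0 → (a : MatRing K d n).totalDegree = 0 →
      IsUnit a := by
    intro a ha0 hdeg
    have hC := totalDegree_eq_zero_iff_eq_C.mp hdeg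
    set c := (a : MatRing K d n).coeff 0 with hc
    have hc0 : c ≠ 0 := by
      intro h
      apply ha0
      rw [hC, h, map_zero]
    refine IsUnit.of_mul_eq_one ⟨C c⁻¹, Subalgebra.algebraMap_mem _ _⟩ ?_
    apply Subtype.ext
    show (a : MatRing K d n) * C c⁻¹ = 1
    rw [hC, ← map_mul, mul_inv_cancel₀ hc0, map_one]
  rw [irreducible_iff]
  constructor
  · intro hu
    obtain ⟨b, hb⟩ := hu.exists_right_inv
    have hb' : P * (b : MatRing K d n) = 1 := congrArg Subtype.val hb
    have hbne : (b : MatRing K d n) ≠ 0 := by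
      intro h
      rw [h, mul_zero] at hb'
      exact zero_ne_one hb'
    have := totalDegree_mul_of_isDomain hPne hbne
    rw [hb', totalDegree_one, hPdeg] at this
    omega
  · intro a b hab
    have hab' : P = (a : MatRing K d n) * (b : MatRing K d n) := congrArg Subtype.val hab
    have hane : (a : MatRing K d n) ≠ 0 := by
      intro h; rw [h, zero_mul] at hab'; exact hPne hab'
    have hbne : (b : MatRing K d n) ≠ 0 := by
      intro h; rw [h, mul_zero] at hab'; exact hPne hab'
    have hdeg := totalDegree_mul_of_isDomain hane hbne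
    rw [← hab', hPdeg] at hdeg
    obtain ⟨ka, hka⟩ := dvd_totalDegree_of_mem_Btau τ _ a.2
    obtain ⟨kb, hkb⟩ := dvd_totalDegree_of_mem_Btau τ _ b.2
    rw [hka, hkb] at hdeg
    have hk : ka + kb = 1 := by
      have : d * (ka + kb) = d * 1 := by rw [mul_add, mul_one]; exact hdeg.symm
      exact Nat.eq_of_mul_eq_mul_left hd this
    rcases Nat.eq_zero_or_pos ka with h | h
    · left
      apply hunit a hane
      rw [hka, h, mul_zero]
    · right
      apply hunit b hbne
      have : kb = 0 := by omega
      rw [hkb, this, mul_zero]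

end Irred


section UFD

variable {K : Type u} [Field K] {d n : ℕ}

/-- The free coordinates of the opposite cell of `X(τ)`. -/
abbrev CellIdx (τ : Idx d n) : Type := {p : Fin n × Fin d // p.1 < τ.1 p.2 ∧ p.1 ∉ Set.range τ.1}

/-- The polynomial ring on the cone over the opposite cell. -/
abbrev CellPoly (K : Type u) [Field K] (τ : Idx d n) : Type u := MvPolynomial (Option (CellIdx τ)) K

/-- The normal form matrix. -/
noncomputable def Nf (K : Type u) [Field K] (τ : Idx d n) : Matrix (Fin n) (Fin d) (CellPoly K τ) :=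
  fun s t => if s = τ.1 t then X none
    else if h : s < τ.1 t ∧ s ∉ Set.range τ.1 then X (some ⟨(s, t), h⟩) else 0

theorem supp_Nf (τ : Idx d n) : Supp τ (Nf K τ) := by
  intro s t h
  unfold Nf
  have h1 : ¬ s = τ.1 t := fun h' => h (le_of_eq h')
  have h2 : ¬ (s < τ.1 t ∧ s ∉ Set.range τ.1) := fun h' => h (le_of_lt h'.1)
  rw [if_neg h1, dif_neg h2]

/-- The lift of the cell coordinates to Plücker polynomials. -/
noncomputable def liftC (K : Type u) [Field K] (τ : Idx d n) : CellPoly K τ →ₐ[K] PlRing K d n :=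
  aeval fun o : Option (CellIdx τ) =>
    o.elim (X τ) (fun p => coord K d n (Function.update τ.1 p.1.2 p.1.1))

/-- The map from the polynomial ring to the algebra of pattern minors. -/
noncomputable def alphaC (K : Type u) [Field K] (τ : Idx d n) : CellPoly K τ →ₐ[K] MatRing K d n :=
  (evalR (K := K) (MPm K (PS τ))).comp (liftC K τ)

theorem alphaC_mem (τ : Idx d n) (F : CellPoly K τ) : alphaC K τ F ∈ Btau K τ :=
  (AlgHom.mem_range _).mpr ⟨liftC K τ F, rfl⟩

theorem alphaC_none (τ : Idx d n) :
    alphaC K τ (X none) = evalR (K := K) (MPm K (PS τ)) (X τ) := by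
  unfold alphaC liftC
  rw [AlgHom.comp_apply, aeval_X]
  rfl

theorem alphaC_some (τ : Idx d n) (p : CellIdx τ) :
    alphaC K τ (X (some p))
      = evalR (K := K) (MPm K (PS τ)) (coord K d n (Function.update τ.1 p.1.2 p.1.1)) := by
  unfold alphaC liftC
  rw [AlgHom.comp_apply, aeval_X]
  rfl

theorem evalR_coord_update_eq_zero (τ : Idx d n) (s : Fin n) (t : Fin d) (hs : τ.1 t < s) :
    evalR (K := K) (MPm K (PS τ)) (coord K d n (Function.update τ.1 t s)) = 0 := by
  rw [evalR_coord]
  have hup : ((MPm K (PS τ)).submatrix (Function.update τ.1 t s) id).IsUpperTriangular := by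
    intro i c hic
    have hic' : c < i := hic
    rw [Matrix.submatrix_apply, id]
    unfold MPm
    rw [Matrix.of_apply, if_neg]
    intro hP
    have hP' : Function.update τ.1 t s i ≤ τ.1 c := hP
    by_cases hi : i = t
    · subst hi
      rw [Function.update_self] at hP'
      have : τ.1 c < τ.1 i := τ.2 hic'
      exact absurd (lt_of_le_of_lt hP' this) (not_lt.mpr (le_of_lt hs))
    · rw [Function.update_of_ne hi] at hP'
      have : τ.1 c < τ.1 i := τ.2 hic'
      exact absurd hP' (not_le.mpr this)
  rw [Matrix.det_of_isUpperTriangular hup]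
  apply Finset.prod_eq_zero (Finset.mem_univ t)
  rw [Matrix.submatrix_apply, id, Function.update_self]
  unfold MPm
  rw [Matrix.of_apply, if_neg]
  intro hP
  exact absurd (hP : s ≤ τ.1 t) (not_le.mpr hs)

theorem evalR_coord_update_repeat (τ : Idx d n) (i t : Fin d) (hit : i ≠ t) :
    evalR (K := K) (MPm K (PS τ)) (coord K d n (Function.update τ.1 t (τ.1 i))) = 0 := by
  rw [evalR_coord]
  apply Matrix.det_zero_of_row_eq hit
  funext c
  rw [Matrix.submatrix_apply, Matrix.submatrix_apply, Function.update_self,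
    Function.update_of_ne hit]

/-- The normal form matrix maps to `G · adj(X_τ)`. -/
theorem Nf_map_alphaC (τ : Idx d n) :
    (Nf K τ).map (alphaC K τ) = MPm K (PS τ) * (Xtau K τ).adjugate := by
  refine Matrix.ext (fun s t => ?_)
  rw [Matrix.map_apply, MPm_mul_adjugate]
  unfold Nf
  by_cases h1 : s = τ.1 t
  · rw [if_pos h1, alphaC_none, h1, Function.update_eq_self, coord_of_strictMono]
  · rw [if_neg h1]
    by_cases h2 : s < τ.1 t ∧ s ∉ Set.range τ.1
    · rw [dif_pos h2, alphaC_some]
    · rw [dif_neg h2, map_zero]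
      symm
      by_cases h3 : s ∈ Set.range τ.1
      · obtain ⟨i, rfl⟩ := h3
        have hit : i ≠ t := fun h => h1 (by rw [h])
        exact evalR_coord_update_repeat τ i t hit
      · have h4 : ¬ s < τ.1 t := fun h => h2 ⟨h, h3⟩
        have h5 : τ.1 t < s := lt_of_le_of_ne (not_lt.mp h4) (Ne.symm h1)
        exact evalR_coord_update_eq_zero τ s t h5

/-- Claim 2, generators. -/
theorem pow_mul_evalR_X (τ : Idx d n) (θ : Idx d n) :
    evalR (K := K) (MPm K (PS τ)) (X τ) ^ (d - 1) * evalR (K := K) (MPm K (PS τ)) (X θ)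
      = alphaC K τ (evalR (K := K) (Nf K τ) (X θ)) := by
  rw [← evalR_map, Nf_map_alphaC, evalR_mul_X, Matrix.det_adjugate, det_Xtau]
  simp

/-- Claim 2. -/
theorem exists_pow_mul_eq_alphaC (τ : Idx d n) (F : PlRing K d n) :
    ∃ (k : ℕ) (p : CellPoly K τ),
      evalR (K := K) (MPm K (PS τ)) (X τ) ^ k * evalR (K := K) (MPm K (PS τ)) F = alphaC K τ p := by
  set P := evalR (K := K) (MPm K (PS τ)) (X τ) with hP
  induction F using MvPolynomial.induction_on with
  | C c =>
    refine ⟨0, C c, ?_⟩
    rw [pow_zero, one_mul]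
    have h1 : evalR (K := K) (MPm K (PS τ)) (C c) = C c := by
      unfold evalR; rw [aeval_C]; rfl
    have h2 : alphaC K τ (C c) = C c := by
      have := (alphaC K τ).commutes c
      exact this
    rw [h1, h2]
  | add p q hp hq =>
    obtain ⟨k₁, p₁, h₁⟩ := hp
    obtain ⟨k₂, p₂, h₂⟩ := hq
    refine ⟨k₁ + k₂, X none ^ k₂ * p₁ + X none ^ k₁ * p₂, ?_⟩
    rw [map_add, map_add, map_mul, map_mul, map_pow, map_pow, alphaC_none, ← h₁, ← h₂, ← hP]
    ring
  | mul_X p θ hp =>
    obtain ⟨k₁, p₁, h₁⟩ := hp
    refine ⟨k₁ + (d - 1), p₁ * evalR (K := K) (Nf K τ) (X θ), ?_⟩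
    rw [map_mul, map_mul, ← h₁, ← pow_mul_evalR_X, ← hP]
    ring

/-- The endomorphism `β = ev ∘ α` of the polynomial ring. -/
noncomputable def betaC (K : Type u) [Field K] (τ : Idx d n) : CellPoly K τ →ₐ[K] CellPoly K τ :=
  (evalR (K := K) (Nf K τ)).comp (liftC K τ)

theorem evM_alphaC (τ : Idx d n) (F : CellPoly K τ) :
    evM (K := K) (Nf K τ) (alphaC K τ F) = betaC K τ F := by
  unfold alphaC betaC
  rw [AlgHom.comp_apply, ← evalR_map, MPm_map_evM (K := K) τ (Nf K τ) (supp_Nf τ), AlgHom.comp_apply]

theorem Nf_tau (τ : Idx d n) (i t : Fin d) :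
    Nf K τ (τ.1 i) t = if i = t then X none else 0 := by
  unfold Nf
  by_cases hit : i = t
  · subst hit
    rw [if_pos rfl, if_pos rfl]
  · have h1 : ¬ τ.1 i = τ.1 t := fun h => hit (τ.2.injective h)
    have h2 : ¬ (τ.1 i < τ.1 t ∧ τ.1 i ∉ Set.range τ.1) := fun h => h.2 ⟨i, rfl⟩
    rw [if_neg h1, dif_neg h2, if_neg hit]

theorem betaC_none (hd : 0 < d) (τ : Idx d n) :
    betaC K τ (X none) = X none ^ (d - 1) * X none := by
  unfold betaC liftC
  rw [AlgHom.comp_apply, aeval_X]
  show evalR (K := K) (Nf K τ) (X τ) = _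
  rw [evalR_X]
  have : (Nf K τ).submatrix τ.1 id = (X none : CellPoly K τ) • (1 : Matrix (Fin d) (Fin d) (CellPoly K τ)) := by
    refine Matrix.ext (fun i t => ?_)
    rw [Matrix.submatrix_apply, id, Nf_tau, Matrix.smul_apply, Matrix.one_apply, smul_eq_mul]
    split_ifs <;> simp
  rw [this, Matrix.det_smul, Matrix.det_one, mul_one, Fintype.card_fin, ← pow_succ]
  congr 1
  omega

theorem det_scalar_updateRow {R : Type*} [CommRing R] {k : ℕ} (lam : R) (t : Fin k) (v : Fin k → R) :
    ((lam • (1 : Matrix (Fin k) (Fin k) R)).updateRow t v).det = lam ^ (k - 1) * v t := by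
  have h1 : (lam • (1 : Matrix (Fin k) (Fin k) R)).updateRow t v
      = Matrix.diagonal (fun i => if i = t then 1 else lam) * (1 : Matrix (Fin k) (Fin k) R).updateRow t v := by
    refine Matrix.ext (fun i j => ?_)
    rw [Matrix.diagonal_mul, Matrix.updateRow_apply, Matrix.updateRow_apply]
    by_cases hi : i = t
    · rw [if_pos hi, if_pos hi, if_pos hi, one_mul]
    · rw [if_neg hi, if_neg hi, if_neg hi, Matrix.smul_apply, smul_eq_mul]
  rw [h1, Matrix.det_mul, Matrix.det_diagonal, det_one_updateRow]
  congr 1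
  rw [← Finset.mul_prod_erase Finset.univ _ (Finset.mem_univ t), if_pos rfl, one_mul]
  rw [Finset.prod_congr rfl (fun i hi => if_neg (Finset.ne_of_mem_erase hi))]
  rw [Finset.prod_const, Finset.card_erase_of_mem (Finset.mem_univ t), Finset.card_univ, Fintype.card_fin]

theorem betaC_some (τ : Idx d n) (p : CellIdx τ) :
    betaC K τ (X (some p)) = X none ^ (d - 1) * X (some p) := by
  unfold betaC liftC
  rw [AlgHom.comp_apply, aeval_X]
  show evalR (K := K) (Nf K τ) (coord K d n (Function.update τ.1 p.1.2 p.1.1)) = _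
  rw [evalR_coord]
  have hM : (Nf K τ).submatrix (Function.update τ.1 p.1.2 p.1.1) id
      = ((X none : CellPoly K τ) • (1 : Matrix (Fin d) (Fin d) (CellPoly K τ))).updateRow p.1.2
          (fun c => Nf K τ p.1.1 c) := by
    refine Matrix.ext (fun i c => ?_)
    rw [Matrix.submatrix_apply, id, Matrix.updateRow_apply]
    by_cases hi : i = p.1.2
    · rw [if_pos hi, hi, Function.update_self]
    · rw [if_neg hi, Function.update_of_ne hi, Nf_tau, Matrix.smul_apply, Matrix.one_apply, smul_eq_mul]
      split_ifs <;> simp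
  rw [hM, det_scalar_updateRow]
  congr 1
  unfold Nf
  have h1 : ¬ p.1.1 = τ.1 p.1.2 := ne_of_lt p.2.1
  rw [if_neg h1, dif_pos p.2]

theorem betaC_of_homogeneous (hd : 0 < d) (τ : Idx d n) (F : CellPoly K τ) (k : ℕ)
    (hF : F.IsHomogeneous k) : betaC K τ F = (X none ^ (d - 1)) ^ k * F := by
  have h1 : betaC K τ = aeval (fun o : Option (CellIdx τ) => betaC K τ (X o)) := by
    apply MvPolynomial.algHom_ext
    intro o
    rw [aeval_X]
  rw [h1]
  have h2 := aeval_scale_of_homogeneous (K := K) (fun o : Option (CellIdx τ) => (X o : CellPoly K τ))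
    (fun o : Option (CellIdx τ) => betaC K τ (X o)) (X none ^ (d - 1)) ?_ F k hF
  · rw [h2, aeval_X_left_apply]
  · intro o
    cases o with
    | none => exact betaC_none hd τ
    | some p => exact betaC_some τ p

theorem betaC_injective (hd : 0 < d) (τ : Idx d n) : Function.Injective (betaC K τ) := by
  rw [injective_iff_map_eq_zero]
  intro F hF
  have hcomp : ∀ k₀ : ℕ, homogeneousComponent k₀ F = 0 := by
    intro k₀
    have h1 : betaC K τ F = ∑ k ∈ Finset.range (F.totalDegree + 1),
        (X none ^ (d - 1)) ^ k * homogeneousComponent k F := by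
      conv_lhs => rw [← sum_homogeneousComponent F, map_sum]
      apply Finset.sum_congr rfl
      intro k _
      exact betaC_of_homogeneous hd τ _ k (homogeneousComponent_isHomogeneous k F)
    have hhom : ∀ k, ((X none ^ (d - 1)) ^ k * homogeneousComponent k F : CellPoly K τ).IsHomogeneous (d * k) := by
      intro k
      have ha : ((X none ^ (d - 1)) ^ k : CellPoly K τ).IsHomogeneous ((d - 1) * k) := by
        have := ((isHomogeneous_X K (none : Option (CellIdx τ))).pow (d - 1)).pow k
        simpa using this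
      have := ha.mul (homogeneousComponent_isHomogeneous k F)
      have e : (d - 1) * k + k = d * k := by
        have : d = (d - 1) + 1 := by omega
        calc (d - 1) * k + k = ((d - 1) + 1) * k := by ring
          _ = d * k := by rw [← this]
      rwa [e] at this
    have h2 := congrArg (homogeneousComponent (d * k₀)) h1
    rw [hF, map_zero, map_sum] at h2
    have h3 : ∀ k ∈ Finset.range (F.totalDegree + 1),
        homogeneousComponent (d * k₀) ((X none ^ (d - 1)) ^ k * homogeneousComponent k F : CellPoly K τ)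
          = if k = k₀ then (X none ^ (d - 1)) ^ k₀ * homogeneousComponent k₀ F else 0 := by
      intro k _
      rw [homogeneousComponent_of_mem (hhom k)]
      by_cases hk : k = k₀
      · subst hk
        rw [if_pos rfl, if_pos rfl]
      · rw [if_neg hk, if_neg]
        intro h
        exact hk (Nat.eq_of_mul_eq_mul_left hd h).symm
    rw [Finset.sum_congr rfl h3] at h2
    by_cases hk₀ : k₀ ∈ Finset.range (F.totalDegree + 1)
    · rw [Finset.sum_ite_eq' _ _ _, if_pos hk₀] at h2
      rcases mul_eq_zero.mp h2.symm with h | h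
      · exact absurd h (pow_ne_zero _ (pow_ne_zero _ (X_ne_zero _)))
      · exact h
    · apply homogeneousComponent_eq_zero
      have := Finset.mem_range.not.mp hk₀
      omega
  rw [← sum_homogeneousComponent F]
  apply Finset.sum_eq_zero
  intro k _
  exact hcomp k

theorem alphaC_injective (hd : 0 < d) (τ : Idx d n) : Function.Injective (alphaC K τ) := by
  rw [injective_iff_map_eq_zero]
  intro F hF
  apply betaC_injective hd τ
  rw [← evM_alphaC, hF, map_zero, map_zero]

end UFD


section Final

variable {K : Type u} [Field K] [Infinite K] {d n : ℕ}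

/-- The class of `X τ` in the algebra of pattern minors. -/
noncomputable def ptauB (K : Type u) [Field K] {d n : ℕ} (τ : Idx d n) : Btau K τ :=
  ⟨evalR (K := K) (MPm K (PS τ)) (X τ), (AlgHom.mem_range _).mpr ⟨_, rfl⟩⟩

theorem ptauB_ne_zero (τ : Idx d n) : ptauB K τ ≠ 0 := by
  intro h
  exact ptau_ne_zero (K := K) τ (congrArg Subtype.val h)

theorem isNoetherianRing_Btau (hd : 0 < d) (τ : Idx d n) : IsNoetherianRing (Btau K τ) :=
  isNoetherianRing_of_ringEquiv (PlRing K d n ⧸ schubertVanishing K d n τ)
    (schubertEquiv hd τ).toRingEquiv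

/-- The map `α` into the algebra of pattern minors. -/
noncomputable def alphaB (K : Type u) [Field K] {d n : ℕ} (τ : Idx d n) : CellPoly K τ →ₐ[K] Btau K τ :=
  (alphaC K τ).codRestrict (Btau K τ) (alphaC_mem τ)

theorem alphaB_injective (hd : 0 < d) (τ : Idx d n) : Function.Injective (alphaB K τ) := by
  intro p p' h
  apply alphaC_injective hd τ
  exact congrArg Subtype.val h

theorem alphaB_none (τ : Idx d n) : alphaB K τ (X none) = ptauB K τ := by
  apply Subtype.ext
  exact alphaC_none τ

theorem exists_pow_mul_eq_alphaB (τ : Idx d n) (b : Btau K τ) :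
    ∃ (k : ℕ) (p : CellPoly K τ), ptauB K τ ^ k * b = alphaB K τ p := by
  obtain ⟨F, hF⟩ := (AlgHom.mem_range _).mp b.2
  obtain ⟨k, p, hkp⟩ := exists_pow_mul_eq_alphaC (K := K) τ F
  refine ⟨k, p, ?_⟩
  apply Subtype.ext
  show (ptauB K τ ^ k * b : Btau K τ).1 = alphaC K τ p
  rw [← hkp, hF]
  rfl

/-- The localisation at `p_τ` is a unique factorisation domain. -/
theorem ufd_localization_ptau (hd : 0 < d) (τ : Idx d n) :
    UniqueFactorizationMonoid (Localization.Away (ptauB K τ)) := by
  set xB := ptauB K τ with hxB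
  have hx0 : xB ≠ 0 := ptauB_ne_zero τ
  have hBinj : Function.Injective (algebraMap (Btau K τ) (Localization.Away xB)) :=
    IsLocalization.injective (Localization.Away xB)
      (powers_le_nonZeroDivisors_of_noZeroDivisors hx0)
  let _ : Algebra (CellPoly K τ) (Localization.Away xB) :=
    ((algebraMap (Btau K τ) (Localization.Away xB)).comp (alphaB K τ).toRingHom).toAlgebra
  have halg : ∀ p : CellPoly K τ, algebraMap (CellPoly K τ) (Localization.Away xB) p
      = algebraMap (Btau K τ) (Localization.Away xB) (alphaB K τ p) := fun p => rfl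
  have hloc : IsLocalization.Away (X none : CellPoly K τ) (Localization.Away xB) := by
    rw [IsLocalization.Away, isLocalization_iff]
    refine ⟨?_, ?_, ?_⟩
    · rintro ⟨_, k, rfl⟩
      rw [halg, map_pow, alphaB_none, map_pow]
      exact (IsLocalization.Away.algebraMap_isUnit xB).pow k
    · intro y
      obtain ⟨j, b, hjb⟩ := IsLocalization.Away.surj xB y
      obtain ⟨k, p, hkp⟩ := exists_pow_mul_eq_alphaB τ b
      refine ⟨(p, ⟨X none ^ (j + k), j + k, rfl⟩), ?_⟩
      rw [halg, halg, map_pow, alphaB_none, ← hkp, map_mul, map_pow, map_pow, ← hjb, ← hxB]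
      ring
    · intro p p' hpp'
      rw [halg, halg] at hpp'
      exact ⟨1, by simpa using alphaB_injective hd τ (hBinj hpp')⟩
  exact UniqueFactorizationMonoid.of_isLocalization
    (Submonoid.powers (X none : CellPoly K τ)) (Localization.Away xB)

theorem ufd_Btau_of_prime (hd : 0 < d) (τ : Idx d n) (hp : Prime (ptauB K τ)) :
    UniqueFactorizationMonoid (Btau K τ) := by
  haveI := isNoetherianRing_Btau (K := K) hd τ
  rw [UniqueFactorizationMonoid.iff_localizationAway_of_prime hp]
  exact ufd_localization_ptau hd τ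

/-- Part (i) of S11260. -/
theorem ufd_iff_prime (hd : 0 < d) (τ : Idx d n) :
    UniqueFactorizationMonoid (PlRing K d n ⧸ schubertVanishing K d n τ) ↔
      Prime (Ideal.Quotient.mk (schubertVanishing K d n τ) (X τ)) := by
  set e := schubertEquiv (K := K) hd τ with he
  have hx : e (Ideal.Quotient.mk (schubertVanishing K d n τ) (X τ)) = ptauB K τ := rfl
  have hprime : Prime (Ideal.Quotient.mk (schubertVanishing K d n τ) (X τ)) ↔ Prime (ptauB K τ) := by
    rw [← hx]
    exact (MulEquiv.prime_iff e.toMulEquiv).symm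
  rw [hprime]
  constructor
  · intro h
    have hB : UniqueFactorizationMonoid (Btau K τ) :=
      MulEquiv.uniqueFactorizationMonoid e.toMulEquiv h
    exact (UniqueFactorizationMonoid.irreducible_iff_prime).mp (irreducible_ptau hd τ)
  · intro h
    have hB := ufd_Btau_of_prime hd τ h
    exact MulEquiv.uniqueFactorizationMonoid e.symm.toMulEquiv hB

/-- S11260. -/
theorem ufd_tfae (hd : 0 < d) (hdn : d < n) (τ : Idx d n) :
    (UniqueFactorizationMonoid (PlRing K d n ⧸ schubertVanishing K d n τ) ↔
        Prime (Ideal.Quotient.mk (schubertVanishing K d n τ) (MvPolynomial.X τ))) ∧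
      (Prime (Ideal.Quotient.mk (schubertVanishing K d n τ) (MvPolynomial.X τ)) ↔
        (divisors τ).Subsingleton) ∧
      ((divisors τ).Subsingleton ↔
        ∃ s : ℕ, (∀ t : Fin d, t.val < s → (τ.1 t).val = t.val) ∧
          ∀ t t' : Fin d, s ≤ t.val → t.val + 1 = t'.val → (τ.1 t).val + 1 = (τ.1 t').val) :=
  ⟨ufd_iff_prime hd τ, prime_X_iff_divisors hd hdn τ, divisors_subsingleton_iff τ⟩

end Final

end Groth.Agent.Lib.Helper8.Gr
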