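import Mathlib
import Groth.Prelude.Def_W4bk4grassmannianPl
import Groth.Agent.Lib.Helper8.UF3
import Groth.Agent.Lib.Helper20.DimTrdeg
set_option backward.isDefEq.respectTransparency.types false
set_option linter.unusedSectionVars false
set_option autoImplicit false
set_option linter.style.haveILetI false
universe u

namespace Groth.Agent.Lib.Helper8.Gr
open W4bk4grassmannian MvPolynomial

section Card

variable {d n : ℕ}

theorem card_col_cell (τ : Idx d n) (t : Fin d) :
    (Finset.univ.filter fun s : Fin n => s < τ.1 t ∧ s ∉ Set.range τ.1).card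
      = (τ.1 t).val - t.val := by
  classical
  have h1 : (Finset.univ.filter fun s : Fin n => s < τ.1 t).card = (τ.1 t).val := by
    have := Fin.card_filter_val_lt (n := n) (m := (τ.1 t).val)
    rw [min_eq_right (le_of_lt (τ.1 t).isLt)] at this
    rw [← this]
    congr 1
  have h2 : (Finset.univ.filter fun s : Fin n => s < τ.1 t ∧ s ∈ Set.range τ.1).card = t.val := by
    have e : (Finset.univ.filter fun s : Fin n => s < τ.1 t ∧ s ∈ Set.range τ.1)
        = (Finset.univ.filter fun i : Fin d => i < t).image τ.1 := by
      ext s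
      simp only [Finset.mem_filter, Finset.mem_univ, true_and, Finset.mem_image, Set.mem_range]
      constructor
      · rintro ⟨hs, i, rfl⟩
        exact ⟨i, τ.2.lt_iff_lt.mp hs, rfl⟩
      · rintro ⟨i, hi, rfl⟩
        exact ⟨τ.2 hi, i, rfl⟩
    rw [e, Finset.card_image_of_injective _ τ.2.injective]
    have := Fin.card_filter_val_lt (n := d) (m := t.val)
    rw [min_eq_right (le_of_lt t.isLt)] at this
    rw [← this]
    congr 1
  have h3 : (Finset.univ.filter fun s : Fin n => s < τ.1 t ∧ s ∈ Set.range τ.1).card
      + (Finset.univ.filter fun s : Fin n => s < τ.1 t ∧ s ∉ Set.range τ.1).card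
      = (Finset.univ.filter fun s : Fin n => s < τ.1 t).card := by
    rw [← Finset.card_union_of_disjoint]
    · congr 1
      ext s
      simp only [Finset.mem_union, Finset.mem_filter, Finset.mem_univ, true_and]
      tauto
    · rw [Finset.disjoint_filter]
      intro s _ h1 h2
      exact h2.2 h1.2
  omega

theorem card_CellIdx (τ : Idx d n) : Nat.card (CellIdx τ) = codeg τ := by
  classical
  rw [Nat.card_eq_fintype_card, Fintype.card_subtype]
  unfold codeg
  rw [Finset.card_filter, Fintype.sum_prod_type_right]
  apply Finset.sum_congr rfl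
  intro t _
  rw [← card_col_cell τ t, Finset.card_filter]

end Card

section Dim

variable {K : Type u} [Field K] [Infinite K] {d n : ℕ}

theorem finiteType_Btau (τ : Idx d n) : Algebra.FiniteType K (Btau K τ) := by
  haveI : Finite (Idx d n) := by
    apply Finite.of_injective (fun θ : Idx d n => θ.1)
    intro a b h
    exact Subtype.ext h
  exact Algebra.FiniteType.of_surjective
    (evalR (K := K) (MPm K (PS τ))).rangeRestrict (AlgHom.rangeRestrict_surjective _)

theorem ringKrullDim_Btau (hd : 0 < d) (τ : Idx d n) :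
    ringKrullDim (Btau K τ) = ((codeg τ + 1 : ℕ) : WithBot ℕ∞) := by
  classical
  haveI := finiteType_Btau (K := K) τ
  let L := FractionRing (Btau K τ)
  letI algPL : Algebra (CellPoly K τ) L :=
    ((algebraMap (Btau K τ) L).comp (alphaB K τ).toRingHom).toAlgebra
  have halg : ∀ p : CellPoly K τ, algebraMap (CellPoly K τ) L p
      = algebraMap (Btau K τ) L (alphaB K τ p) := fun p => rfl
  haveI tower : IsScalarTower K (CellPoly K τ) L := by
    apply IsScalarTower.of_algebraMap_eq
    intro c
    rw [halg, IsScalarTower.algebraMap_apply K (Btau K τ) L]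
    congr 1
    exact ((alphaB K τ).commutes c).symm
  have hBinj : Function.Injective (algebraMap (Btau K τ) L) := IsFractionRing.injective _ _
  haveI faith : FaithfulSMul (CellPoly K τ) L := by
    rw [faithfulSMul_iff_algebraMap_injective]
    intro p p' h
    rw [halg, halg] at h
    exact alphaB_injective hd τ (hBinj h)
  have hx0 : algebraMap (Btau K τ) L (ptauB K τ) ≠ 0 := by
    intro h
    rw [← map_zero (algebraMap (Btau K τ) L)] at h
    exact ptauB_ne_zero τ (hBinj h)
  haveI frac : IsFractionRing (CellPoly K τ) L := by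
    apply IsFractionRing.of_field
    intro z
    obtain ⟨b, b', hb', rfl⟩ := IsFractionRing.div_surjective (A := Btau K τ) z
    obtain ⟨k, p, hkp⟩ := exists_pow_mul_eq_alphaB τ b
    obtain ⟨k', p', hkp'⟩ := exists_pow_mul_eq_alphaB τ b'
    refine ⟨p * X none ^ k', p' * X none ^ k, ?_⟩
    have e1 : alphaB K τ (p * X none ^ k') = ptauB K τ ^ k * b * ptauB K τ ^ k' := by
      rw [map_mul, map_pow, alphaB_none, hkp]
    have e2 : alphaB K τ (p' * X none ^ k) = ptauB K τ ^ k' * b' * ptauB K τ ^ k := by
      rw [map_mul, map_pow, alphaB_none, hkp']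
    rw [halg, halg, e1, e2]
    simp only [map_mul, map_pow]
    have hb0 : algebraMap (Btau K τ) L b' ≠ 0 := by
      intro h
      rw [← map_zero (algebraMap (Btau K τ) L)] at h
      exact (mem_nonZeroDivisors_iff_ne_zero.mp hb') (hBinj h)
    rw [div_eq_div_iff hb0 (mul_ne_zero (mul_ne_zero (pow_ne_zero _ hx0) hb0) (pow_ne_zero _ hx0))]
    ring
  have h1 := Groth.Agent.Lib.Helper20.DimTrdeg.ringKrullDim_eq_trdeg K (Btau K τ) L
  have h2 := Groth.Agent.Lib.Helper20.DimTrdeg.ringKrullDim_eq_trdeg K (CellPoly K τ) L
  rw [h1, ← h2, MvPolynomial.ringKrullDim_of_isNoetherianRing, ringKrullDim_eq_zero_of_field,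
    zero_add]
  have : Nat.card (Option (CellIdx τ)) = codeg τ + 1 := by
    rw [Nat.card_eq_fintype_card, Fintype.card_option, ← Nat.card_eq_fintype_card, card_CellIdx]
  rw [this]

theorem ringKrullDim_schubert (hd : 0 < d) (τ : Idx d n) :
    ringKrullDim (PlRing K d n ⧸ schubertVanishing K d n τ)
      = ((codeg τ + 1 : ℕ) : WithBot ℕ∞) := by
  rw [← ringKrullDim_Btau (K := K) hd τ]
  exact ringKrullDim_eq_of_ringEquiv (schubertEquiv hd τ).toRingEquiv

end Dim

end Groth.Agent.Lib.Helper8.Gr
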