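import Mathlib
import Groth.Prelude.Def_CAlg
import Groth.Agent.Lib.Helper18.CMOpen
import Groth.Agent.Lib.Helper18.FibQuot
import Groth.Agent.Lib.Helper16.RegularRingFacts
set_option backward.isDefEq.respectTransparency.types false
set_option linter.unusedSectionVars false
set_option autoImplicit false
set_option linter.style.haveILetI false
universe u

namespace Groth.Agent.Lib.Helper8.GLG
open MvPolynomial

section Torus

variable {K : Type u} [Field K] {σ : Type}

/-- The scaling endomorphism `x_i ↦ c x_i`. -/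
noncomputable def scl (c : K) : MvPolynomial σ K →ₐ[K] MvPolynomial σ K :=
  aeval fun i => C c * X i

theorem scl_X (c : K) (i : σ) : scl c (X i : MvPolynomial σ K) = C c * X i := by
  unfold scl; rw [aeval_X]

theorem scl_of_homogeneous (c : K) (f : MvPolynomial σ K) (k : ℕ) (hf : f.IsHomogeneous k) :
    scl c f = C (c ^ k) * f := by
  have hmon : ∀ (m : σ →₀ ℕ) (x : K), m.degree = k →
      scl c (monomial m x) = C (c ^ k) * monomial m x := by
    intro m x hm
    unfold scl
    rw [aeval_monomial]
    have : (m.prod fun i e => (C c * X i : MvPolynomial σ K) ^ e)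
        = C (c ^ k) * m.prod fun i e => (X i : MvPolynomial σ K) ^ e := by
      simp only [mul_pow]
      rw [Finsupp.prod_mul]
      congr 1
      unfold Finsupp.prod
      rw [Finset.prod_pow_eq_pow_sum, ← hm, map_pow]
      rfl
    rw [this, monomial_eq]
    simp only [algebraMap_eq]
    ring
  rw [f.as_sum, map_sum, Finset.mul_sum]
  apply Finset.sum_congr rfl
  intro m hm
  apply hmon
  have := hf (mem_support_iff.mp hm)
  rw [← this]
  simp [Finsupp.degree, Finsupp.weight_apply, Finsupp.sum]

theorem scl_comp (c c' : K) :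
    (scl (σ := σ) c).comp (scl c') = scl (c * c') := by
  apply MvPolynomial.algHom_ext
  intro i
  rw [AlgHom.comp_apply, scl_X, map_mul, scl_X, scl_X, algHom_C, map_mul]
  simp only [algebraMap_eq]
  ring

theorem scl_one : scl (σ := σ) (1 : K) = AlgHom.id K _ := by
  apply MvPolynomial.algHom_ext
  intro i
  rw [scl_X, map_one, one_mul, AlgHom.id_apply]

theorem scl_eq_sum (c : K) (f : MvPolynomial σ K) :
    scl c f = ∑ j ∈ Finset.range (f.totalDegree + 1), c ^ j • homogeneousComponent j f := by
  conv_lhs => rw [← sum_homogeneousComponent f, map_sum]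
  apply Finset.sum_congr rfl
  intro j _
  rw [scl_of_homogeneous c _ j (homogeneousComponent_isHomogeneous j f), smul_eq_C_mul]

/-- A subspace stable under all scalings contains the homogeneous components of its elements. -/
theorem component_mem_of_stable [Infinite K] (W : Submodule K (MvPolynomial σ K))
    (hW : ∀ c : K, c ≠ 0 → ∀ f ∈ W, scl c f ∈ W) (f : MvPolynomial σ K) (hf : f ∈ W) (k : ℕ) :
    homogeneousComponent k f ∈ W := by
  rw [← Submodule.Quotient.mk_eq_zero, ← Module.forall_dual_apply_eq_zero_iff K]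
  intro φ
  set ψ : MvPolynomial σ K →ₗ[K] K := φ.comp W.mkQ with hψ
  have hψW : ∀ g ∈ W, ψ g = 0 := by
    intro g hg
    rw [hψ, LinearMap.comp_apply, Submodule.mkQ_apply, (Submodule.Quotient.mk_eq_zero W).mpr hg,
      map_zero]
  show ψ (homogeneousComponent k f) = 0
  set p : Polynomial K := ∑ j ∈ Finset.range (f.totalDegree + 1),
    Polynomial.monomial j (ψ (homogeneousComponent j f)) with hp
  have hroot : ∀ c : K, c ≠ 0 → p.IsRoot c := by
    intro c hc
    rw [Polynomial.IsRoot, hp, Polynomial.eval_finsetSum]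
    simp only [Polynomial.eval_monomial]
    have h2 := hψW _ (hW c hc f hf)
    rw [scl_eq_sum, map_sum] at h2
    rw [← h2]
    apply Finset.sum_congr rfl
    intro j _
    rw [map_smul, smul_eq_mul, mul_comm]
  have hp0 : p = 0 := by
    apply Polynomial.eq_zero_of_infinite_isRoot
    apply Set.Infinite.mono (s := {c : K | c ≠ 0})
    · intro c hc; exact hroot c hc
    · have : ({c : K | c ≠ 0} : Set K) = {0}ᶜ := by ext c; simp
      rw [this]
      exact (Set.finite_singleton (0 : K)).infinite_compl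
  by_cases hk : k ∈ Finset.range (f.totalDegree + 1)
  · have := congrArg (fun q => q.coeff k) hp0
    simp only [hp, Polynomial.finsetSum_coeff, Polynomial.coeff_monomial, Polynomial.coeff_zero] at this
    rw [Finset.sum_ite_eq' _ _ _, if_pos hk] at this
    exact this
  · have hk' : f.totalDegree < k := by
      rw [Finset.mem_range] at hk; omega
    rw [homogeneousComponent_eq_zero _ _ hk', map_zero]

end Torus

section Main

variable {K : Type u} [Field K] [Infinite K] {σ : Type} [Finite σ]

theorem scl_mem_of_span (T : Set (MvPolynomial σ K)) (hT : ∀ f ∈ T, ∃ k : ℕ, f.IsHomogeneous k)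
    (c : K) : Ideal.span T ≤ (Ideal.span T).comap (scl c).toRingHom := by
  rw [Ideal.span_le]
  intro f hf
  obtain ⟨k, hk⟩ := hT f hf
  rw [SetLike.mem_coe, Ideal.mem_comap]
  show scl c f ∈ Ideal.span T
  rw [scl_of_homogeneous c f k hk]
  exact Ideal.mul_mem_left _ _ (Ideal.subset_span hf)

/-- The scaling endomorphism of the quotient by a homogeneous ideal. -/
noncomputable def sclQ (T : Set (MvPolynomial σ K)) (hT : ∀ f ∈ T, ∃ k : ℕ, f.IsHomogeneous k)
    (c : K) : (MvPolynomial σ K ⧸ Ideal.span T) →+* (MvPolynomial σ K ⧸ Ideal.span T) :=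
  Ideal.quotientMap (Ideal.span T) (scl c).toRingHom (scl_mem_of_span T hT c)

theorem sclQ_mk (T : Set (MvPolynomial σ K)) (hT : ∀ f ∈ T, ∃ k : ℕ, f.IsHomogeneous k)
    (c : K) (f : MvPolynomial σ K) :
    sclQ T hT c (Ideal.Quotient.mk _ f) = Ideal.Quotient.mk _ (scl c f) := by
  unfold sclQ
  rw [Ideal.quotientMap_mk]
  rfl

theorem sclQ_comp (T : Set (MvPolynomial σ K)) (hT : ∀ f ∈ T, ∃ k : ℕ, f.IsHomogeneous k)
    (c c' : K) (x : MvPolynomial σ K ⧸ Ideal.span T) :
    sclQ T hT c (sclQ T hT c' x) = sclQ T hT (c * c') x := by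
  obtain ⟨f, rfl⟩ := Ideal.Quotient.mk_surjective x
  rw [sclQ_mk, sclQ_mk, sclQ_mk, ← scl_comp, AlgHom.comp_apply]

theorem sclQ_one (T : Set (MvPolynomial σ K)) (hT : ∀ f ∈ T, ∃ k : ℕ, f.IsHomogeneous k)
    (x : MvPolynomial σ K ⧸ Ideal.span T) : sclQ T hT 1 x = x := by
  obtain ⟨f, rfl⟩ := Ideal.Quotient.mk_surjective x
  rw [sclQ_mk, scl_one, AlgHom.id_apply]

/-- The scaling automorphism of the quotient. -/
noncomputable def sclE (T : Set (MvPolynomial σ K)) (hT : ∀ f ∈ T, ∃ k : ℕ, f.IsHomogeneous k)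
    (c : K) (hc : c ≠ 0) :
    (MvPolynomial σ K ⧸ Ideal.span T) ≃+* (MvPolynomial σ K ⧸ Ideal.span T) :=
  RingEquiv.ofRingHom (sclQ T hT c) (sclQ T hT c⁻¹)
    (by
      apply RingHom.ext
      intro x
      simp only [RingHom.comp_apply, RingHom.id_apply]
      rw [sclQ_comp, mul_inv_cancel₀ hc, sclQ_one])
    (by
      apply RingHom.ext
      intro x
      simp only [RingHom.comp_apply, RingHom.id_apply]
      rw [sclQ_comp, inv_mul_cancel₀ hc, sclQ_one])

theorem sclE_apply (T : Set (MvPolynomial σ K)) (hT : ∀ f ∈ T, ∃ k : ℕ, f.IsHomogeneous k)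
    (c : K) (hc : c ≠ 0) (x : MvPolynomial σ K ⧸ Ideal.span T) :
    sclE T hT c hc x = sclQ T hT c x := rfl

/-- Graded local–global principle for the Cohen–Macaulay property of a cone. -/
theorem cm_of_cm_vertex (T : Set (MvPolynomial σ K)) (hT : ∀ f ∈ T, ∃ k : ℕ, f.IsHomogeneous k)
    [hm : ((RingHom.ker (MvPolynomial.constantCoeff : MvPolynomial σ K →+* K)).map
      (Ideal.Quotient.mk (Ideal.span T))).IsPrime]
    (hCM : LocCoh.IsCohenMacaulayLocalRing (Localization.AtPrime
      ((RingHom.ker (MvPolynomial.constantCoeff : MvPolynomial σ K →+* K)).map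
        (Ideal.Quotient.mk (Ideal.span T))))) :
    LocCoh.IsCohenMacaulayRing (MvPolynomial σ K ⧸ Ideal.span T) := by
  classical
  set A := MvPolynomial σ K ⧸ Ideal.span T with hA
  set mbar : Ideal A := (RingHom.ker (MvPolynomial.constantCoeff : MvPolynomial σ K →+* K)).map
      (Ideal.Quotient.mk (Ideal.span T)) with hmbar
  haveI hreg : IsRegularRing (MvPolynomial σ K) := inferInstance
  haveI hCMS : LocCoh.IsCohenMacaulayRing (MvPolynomial σ K) :=
    Groth.Agent.Lib.Helper16.PDR.isCohenMacaulayRing_of_isRegularRing _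
  have hopen := Groth.Agent.Lib.Helper18.CMOpen.isOpen_cmLocus_of_surjective A
    (Ideal.Quotient.mk (Ideal.span T)) Ideal.Quotient.mk_surjective
  set U : Set (PrimeSpectrum A) :=
    {q | LocCoh.IsCohenMacaulayLocalRing (Localization.AtPrime q.asIdeal)} with hU
  -- stability of the locus under scalings
  have hstab : ∀ (c : K) (hc : c ≠ 0) (p : Ideal A) [p.IsPrime],
      LocCoh.IsCohenMacaulayLocalRing (Localization.AtPrime (p.comap (sclE T hT c hc).toRingHom)) →
      LocCoh.IsCohenMacaulayLocalRing (Localization.AtPrime p) := by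
    intro c hc p _ h
    exact Groth.Agent.Lib.Helper18.FibQuot.isCohenMacaulayLocalRing_of_ringEquiv
      (R := Localization.AtPrime (p.comap (sclE T hT c hc).toRingHom))
      (S := Localization.AtPrime p) (h := h)
      (Localization.localRingEquiv (p.comap (sclE T hT c hc).toRingHom) p (sclE T hT c hc) rfl)
  refine { isCohenMacaulayLocalRing_localization := ?_ }
  intro p hp
  by_contra hnot
  set Z : Set (PrimeSpectrum A) := Uᶜ with hZ
  have hZclosed : IsClosed Z := hopen.isClosed_compl
  have hpZ : (⟨p, hp⟩ : PrimeSpectrum A) ∈ Z := hnot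
  set a : Ideal A := PrimeSpectrum.vanishingIdeal Z with ha
  have ha_stable : ∀ (c : K) (hc : c ≠ 0), ∀ f ∈ a, sclQ T hT c f ∈ a := by
    intro c hc f hf
    rw [ha, PrimeSpectrum.mem_vanishingIdeal] at hf ⊢
    intro x hx
    have hx' : (⟨x.asIdeal.comap (sclE T hT c hc).toRingHom, Ideal.comap_isPrime _ _⟩ :
        PrimeSpectrum A) ∈ Z := by
      intro hcm
      exact hx (hstab c hc x.asIdeal hcm)
    have := hf _ hx'
    exact this
  have ha_ne : (1 : A) ∉ a := by
    intro h1
    rw [ha, PrimeSpectrum.mem_vanishingIdeal] at h1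
    exact hp.ne_top ((Ideal.eq_top_iff_one _).mpr (h1 _ hpZ))
  -- the pullback to the polynomial ring
  set W : Submodule K (MvPolynomial σ K) :=
    (a.comap (Ideal.Quotient.mk (Ideal.span T))).restrictScalars K with hW
  have hWmem : ∀ f, f ∈ W ↔ Ideal.Quotient.mk (Ideal.span T) f ∈ a := fun f => Iff.rfl
  have hWstable : ∀ c : K, c ≠ 0 → ∀ f ∈ W, scl c f ∈ W := by
    intro c hc f hf
    rw [hWmem] at hf ⊢
    rw [← sclQ_mk T hT]
    exact ha_stable c hc _ hf
  have hle : a ≤ mbar := by
    intro g hg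
    obtain ⟨f, rfl⟩ := Ideal.Quotient.mk_surjective g
    have hf : f ∈ W := (hWmem f).mpr hg
    have h0 := component_mem_of_stable W hWstable f hf 0
    rw [homogeneousComponent_zero, hWmem] at h0
    have hc0 : coeff 0 f = 0 := by
      by_contra hne
      apply ha_ne
      have : (1 : A) = Ideal.Quotient.mk (Ideal.span T) (C (coeff 0 f)⁻¹)
          * Ideal.Quotient.mk (Ideal.span T) (C (coeff 0 f)) := by
        rw [← map_mul, ← map_mul, inv_mul_cancel₀ hne, map_one, map_one]
      rw [this]
      exact Ideal.mul_mem_left _ _ h0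
    apply Ideal.mem_map_of_mem
    rw [RingHom.mem_ker]
    exact hc0
  have hmem : (⟨mbar, hm⟩ : PrimeSpectrum A) ∈ PrimeSpectrum.zeroLocus (a : Set A) := by
    rw [PrimeSpectrum.mem_zeroLocus]
    exact hle
  rw [ha, PrimeSpectrum.zeroLocus_vanishingIdeal_eq_closure, hZclosed.closure_eq] at hmem
  exact hmem hCM

end Main

end Groth.Agent.Lib.Helper8.GLG
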