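import Mathlib
import Groth.Prelude.Def_W4bk4grassmannianPl
import Groth.Prelude.Def_CAlg
import Groth.Agent.Lib.Helper8.CMV1
import Groth.Agent.Lib.Helper8.GLG1
import Groth.Agent.Lib.Helper8.Dim1
set_option backward.isDefEq.respectTransparency.types false
set_option linter.unusedSectionVars false
set_option autoImplicit false
set_option linter.style.haveILetI false
universe u

namespace Groth.Agent.Lib.Helper8.GLG
open MvPolynomial

section Homog

variable {K : Type u} [Field K] [Infinite K] {σ : Type}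

theorem exists_homog_gens (I : Ideal (MvPolynomial σ K))
    (h : ∀ c : K, c ≠ 0 → ∀ f ∈ I, scl c f ∈ I) :
    ∃ T : Set (MvPolynomial σ K), (∀ f ∈ T, ∃ k : ℕ, f.IsHomogeneous k) ∧ I = Ideal.span T := by
  refine ⟨{f | f ∈ I ∧ ∃ k : ℕ, f.IsHomogeneous k}, fun f hf => hf.2, le_antisymm ?_ ?_⟩
  · intro f hf
    rw [← MvPolynomial.sum_homogeneousComponent f]
    apply Ideal.sum_mem
    intro k _
    apply Ideal.subset_span
    exact ⟨component_mem_of_stable (I.restrictScalars K) h f hf k, k,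
      homogeneousComponent_isHomogeneous k f⟩
  · rw [Ideal.span_le]
    intro f hf
    exact hf.1

variable [Finite σ]

theorem cm_of_grade (I : Ideal (MvPolynomial σ K))
    (hstab : ∀ c : K, c ≠ 0 → ∀ f ∈ I, scl c f ∈ I)
    (hI : I ≤ RingHom.ker (MvPolynomial.constantCoeff : MvPolynomial σ K →+* K)) (e : ℕ)
    (hdepth : (e : ℕ∞) ≤ LocCoh.idealDepth
      (RingHom.ker (MvPolynomial.constantCoeff : MvPolynomial σ K →+* K)) (MvPolynomial σ K ⧸ I))
    (hdim : ringKrullDim (MvPolynomial σ K ⧸ I) ≤ (e : WithBot ℕ∞)) :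
    LocCoh.IsCohenMacaulayRing (MvPolynomial σ K ⧸ I) := by
  obtain ⟨T, hT, rfl⟩ := exists_homog_gens I hstab
  have hmax : (RingHom.ker (MvPolynomial.constantCoeff : MvPolynomial σ K →+* K)).IsMaximal :=
    RingHom.ker_isMaximal_of_surjective _ (fun x => ⟨C x, constantCoeff_C _ x⟩)
  haveI hp : ((RingHom.ker (MvPolynomial.constantCoeff : MvPolynomial σ K →+* K)).map
      (Ideal.Quotient.mk (Ideal.span T))).IsPrime := by
    rcases Ideal.map_eq_top_or_isMaximal_of_surjective (Ideal.Quotient.mk (Ideal.span T))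
      Ideal.Quotient.mk_surjective hmax with h | h
    · exfalso
      have h2 := congrArg (Ideal.comap (Ideal.Quotient.mk (Ideal.span T))) h
      rw [Ideal.comap_map_of_surjective _ Ideal.Quotient.mk_surjective, Ideal.comap_top,
        ← RingHom.ker_eq_comap_bot, Ideal.mk_ker, sup_eq_left.mpr hI] at h2
      exact hmax.ne_top h2
    · exact h.isPrime
  exact cm_of_cm_vertex T hT (Groth.Agent.Lib.Helper8.CMV.cm_vertex _ hmax.ne_top _ hI e hdepth hdim)

end Homog

end Groth.Agent.Lib.Helper8.GLG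

namespace Groth.Agent.Lib.Helper8.Gr
open W4bk4grassmannian MvPolynomial

section Comb

variable {d n : ℕ}

theorem codeg_mono {φ ψ : Idx d n} (h : φ ≤ ψ) : codeg φ ≤ codeg ψ := by
  unfold codeg
  apply Finset.sum_le_sum
  intro t _
  have : (φ.1 t).val ≤ (ψ.1 t).val := h t
  omega

theorem codeg_lt_of_lt {φ ψ : Idx d n} (h : φ < ψ) : codeg φ < codeg ψ := by
  rcases lt_or_eq_of_le (codeg_mono h.le) with h1 | h1
  · exact h1
  · exact absurd (eq_of_le_of_codeg φ ψ h.le h1) h.ne

theorem codeg_inf_add_sup (φ ψ : Idx d n) :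
    codeg (W4bk4grassmannian.inf φ ψ) + codeg (W4bk4grassmannian.sup φ ψ) = codeg φ + codeg ψ := by
  have h1 := codeg_add (W4bk4grassmannian.inf φ ψ)
  have h2 := codeg_add (W4bk4grassmannian.sup φ ψ)
  have h3 := codeg_add φ
  have h4 := codeg_add ψ
  have : ∑ t : Fin d, ((W4bk4grassmannian.inf φ ψ).1 t).val
      + ∑ t : Fin d, ((W4bk4grassmannian.sup φ ψ).1 t).val
      = ∑ t : Fin d, (φ.1 t).val + ∑ t : Fin d, (ψ.1 t).val := by
    rw [← Finset.sum_add_distrib, ← Finset.sum_add_distrib]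
    apply Finset.sum_congr rfl
    intro t _
    show (min (φ.1 t) (ψ.1 t)).val + (max (φ.1 t) (ψ.1 t)).val = _
    rcases le_total (φ.1 t) (ψ.1 t) with h | h
    · rw [min_eq_left h, max_eq_right h]
    · rw [min_eq_right h, max_eq_left h, add_comm]
  omega

theorem inf_mem_divisors (τ φ φ₀ : Idx d n) (hφ : φ ∈ divisors τ) (hφ₀ : φ₀ ∈ divisors τ)
    (hne : φ ≠ φ₀) : W4bk4grassmannian.inf φ φ₀ ∈ divisors φ₀ := by
  have hsup_le : W4bk4grassmannian.sup φ φ₀ ≤ τ := (sup_le_iff' _ _ _).mpr ⟨hφ.1.le, hφ₀.1.le⟩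
  have hle0 : φ₀ ≤ W4bk4grassmannian.sup φ φ₀ := ((sup_le_iff' _ _ _).mp le_rfl).2
  have h1 := hφ.2
  have h2 := hφ₀.2
  have hne' : φ₀ ≠ W4bk4grassmannian.sup φ φ₀ := by
    intro h
    have h3 : φ ≤ φ₀ := by
      rw [h]
      exact ((sup_le_iff' _ _ _).mp le_rfl).1
    exact hne (eq_of_le_of_codeg φ φ₀ h3 (by omega))
  have hlt : codeg φ₀ < codeg (W4bk4grassmannian.sup φ φ₀) :=
    codeg_lt_of_lt (lt_of_le_of_ne hle0 hne')
  have hle : codeg (W4bk4grassmannian.sup φ φ₀) ≤ codeg τ := codeg_mono hsup_le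
  have hmod := codeg_inf_add_sup φ φ₀
  have hinf_le : W4bk4grassmannian.inf φ φ₀ ≤ φ₀ := ((le_inf_iff' _ _ _).mp le_rfl).2
  refine ⟨lt_of_le_of_ne hinf_le ?_, by omega⟩
  intro h
  have : codeg (W4bk4grassmannian.inf φ φ₀) = codeg φ₀ := by rw [h]
  omega

/-- The least element of `I(d,n)` (needs an element to know `d ≤ n`). -/
def minIdx (τ : Idx d n) : Idx d n :=
  ⟨fun t => ⟨t.val, lt_of_le_of_lt (val_ge τ t) (τ.1 t).isLt⟩, fun _ _ h => h⟩

theorem codeg_minIdx (τ : Idx d n) : codeg (minIdx τ) = 0 := by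
  unfold codeg minIdx
  simp

theorem minIdx_le (τ : Idx d n) : minIdx τ ≤ τ := fun t => val_ge τ t

theorem exists_lt_of_codeg_pos (τ : Idx d n) (h : 0 < codeg τ) : ∃ φ : Idx d n, φ < τ := by
  refine ⟨minIdx τ, lt_of_le_of_ne (minIdx_le τ) ?_⟩
  intro h0
  have := codeg_minIdx τ
  rw [h0] at this
  omega

end Comb

section JDsec

variable {K : Type u} [Field K] [Infinite K] {d n : ℕ}

/-- The vanishing ideal of a finite union of Schubert varieties. -/
noncomputable def JD (K : Type u) [Field K] {d n : ℕ} (D : Finset (Idx d n)) :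
    Ideal (PlRing K d n) :=
  D.inf (fun φ => schubertVanishing K d n φ)

theorem JD_eq_iInf (D : Finset (Idx d n)) :
    JD K D = ⨅ x : {x // x ∈ D}, schubertVanishing K d n x.1 := by
  unfold JD
  rw [Finset.inf_eq_iInf, iInf_subtype']

theorem JD_eq_IOf (hd : 0 < d) (D : Finset (Idx d n)) (hD : D.Nonempty) :
    JD K D = IOf K {φ | ∀ δ ∈ D, ¬ φ ≤ δ} := by
  haveI : Nonempty {x // x ∈ D} := hD.to_subtype
  have h := IFam_eq_JFam (K := K) (fun x : {x // x ∈ D} => x.1) hd
  unfold JFam at h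
  rw [JD_eq_iInf, ← h, IFam_eq_IOf]
  congr 1
  ext φ
  simp only [Set.mem_ofPred_eq, Subtype.forall]

theorem JD_sup (hd : 0 < d) (D : Finset (Idx d n)) (hD : D.Nonempty) (φ₀ : Idx d n) :
    JD K D ⊔ schubertVanishing K d n φ₀
      = JD K (D.image (fun φ => W4bk4grassmannian.inf φ φ₀)) := by
  rw [JD_eq_IOf hd D hD, JD_eq_IOf hd _ (hD.image _), schubertVanishing_eq_IOf hd, IOf_sup]
  congr 1
  ext φ
  simp only [Set.mem_union, Set.mem_ofPred_eq, Finset.mem_image, forall_exists_index, and_imp,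
    forall_apply_eq_imp_iff₂]
  constructor
  · rintro (h | h) a ha hle
    · exact h a ha ((le_inf_iff' _ _ _).mp hle).1
    · exact h ((le_inf_iff' _ _ _).mp hle).2
  · intro h
    by_cases h0 : φ ≤ φ₀
    · left
      intro δ hδ hle
      exact h δ hδ ((le_inf_iff' _ _ _).mpr ⟨hle, h0⟩)
    · right
      exact h0

theorem schubertVanishing_le_irr (hd : 0 < d) (τ : Idx d n) :
    schubertVanishing K d n τ ≤ RingHom.ker (constantCoeff : PlRing K d n →+* K) := by
  intro f hf
  unfold schubertVanishing at hf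
  rw [Ideal.mem_iInf] at hf
  have h0 := hf 0
  rw [Ideal.mem_iInf] at h0
  haveI : Nonempty (Fin d) := ⟨⟨0, hd⟩⟩
  have hz : (fun θ : Idx d n => ((0 : Matrix (Fin n) (Fin d) K).submatrix θ.1 id).det) = 0 := by
    funext θ
    rw [Matrix.submatrix_zero]
    exact Matrix.det_zero
  have h1 := h0 (fun φ _ => congrFun hz φ)
  rw [RingHom.mem_ker] at h1 ⊢
  have h2 : evalMinors K d n 0 f = constantCoeff f := by
    unfold evalMinors
    rw [hz, MvPolynomial.aeval_zero]
    rfl
  rw [← h2]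
  exact h1

theorem JD_le_irr (hd : 0 < d) (D : Finset (Idx d n)) (hD : D.Nonempty) :
    JD K D ≤ RingHom.ker (constantCoeff : PlRing K d n →+* K) := by
  obtain ⟨a, ha⟩ := hD
  exact le_trans (Finset.inf_le ha) (schubertVanishing_le_irr hd a)

theorem scl_mem_schubertVanishing (hd : 0 < d) (τ : Idx d n) (c : K) (f : PlRing K d n)
    (hf : f ∈ schubertVanishing K d n τ) : GLG.scl c f ∈ schubertVanishing K d n τ := by
  classical
  unfold schubertVanishing at hf ⊢
  rw [Ideal.mem_iInf] at hf ⊢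
  intro A
  rw [Ideal.mem_iInf]
  intro hA
  set v : Fin d → K := Function.update (fun _ => (1 : K)) ⟨0, hd⟩ c with hv
  have hdet : ∀ θ : Idx d n, ((A * Matrix.diagonal v).submatrix θ.1 id).det
      = c * (A.submatrix θ.1 id).det := by
    intro θ
    have h1 : (A * Matrix.diagonal v).submatrix θ.1 id = A.submatrix θ.1 id * Matrix.diagonal v := by
      ext i j
      simp [Matrix.mul_apply, Matrix.submatrix_apply]
    rw [h1, Matrix.det_mul, Matrix.det_diagonal, hv, Finset.prod_update_of_mem (Finset.mem_univ _)]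
    simp [mul_comm]
  have h2 := hf (A * Matrix.diagonal v)
  rw [Ideal.mem_iInf] at h2
  have h3 := h2 (fun φ hφ => by rw [hdet, hA φ hφ, mul_zero])
  rw [RingHom.mem_ker] at h3 ⊢
  have h4 : (evalMinors K d n A).comp (GLG.scl c) = evalMinors K d n (A * Matrix.diagonal v) := by
    apply MvPolynomial.algHom_ext
    intro θ
    rw [AlgHom.comp_apply, GLG.scl_X]
    unfold evalMinors
    rw [map_mul, aeval_X, aeval_X, hdet, aeval_C]
    rfl
  have h5 : evalMinors K d n A (GLG.scl c f) = evalMinors K d n (A * Matrix.diagonal v) f := by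
    rw [← h4, AlgHom.comp_apply]
  exact h5.trans h3

theorem scl_mem_JD (hd : 0 < d) (D : Finset (Idx d n)) (c : K) (f : PlRing K d n)
    (hf : f ∈ JD K D) : GLG.scl c f ∈ JD K D := by
  unfold JD at hf ⊢
  rw [Finset.inf_eq_iInf, Ideal.mem_iInf] at hf ⊢
  intro φ
  have := hf φ
  rw [Ideal.mem_iInf] at this ⊢
  intro hφ
  exact scl_mem_schubertVanishing hd φ c f (this hφ)

theorem isSMulRegular_quot_of_prime {R : Type*} [CommRing R] (J : Ideal R) [hJ : J.IsPrime] (x : R)
    (hx : x ∉ J) : IsSMulRegular (R ⧸ J) x := by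
  rw [isSMulRegular_iff_right_eq_zero_of_smul]
  intro m hm
  obtain ⟨a, rfl⟩ := Ideal.Quotient.mk_surjective m
  have h1 : Ideal.Quotient.mk J (x * a) = 0 := by
    rw [← hm]
    rfl
  rw [Ideal.Quotient.eq_zero_iff_mem] at h1 ⊢
  exact (hJ.mem_or_mem h1).resolve_left hx

theorem ringKrullDim_JD_le (hd : 0 < d) (D : Finset (Idx d n)) (hD : D.Nonempty) (k : ℕ)
    (h : ∀ φ ∈ D, codeg φ + 1 = k) :
    ringKrullDim (PlRing K d n ⧸ JD K D) ≤ (k : WithBot ℕ∞) := by
  induction hD using Finset.Nonempty.cons_induction with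
  | singleton a =>
    have ha := h a (Finset.mem_singleton_self a)
    unfold JD
    rw [Finset.inf_singleton, ringKrullDim_schubert hd a, ha]
  | cons a s ha hs ihs =>
    have h1 : JD K (Finset.cons a s ha) = schubertVanishing K d n a ⊓ JD K s := by
      unfold JD
      rw [Finset.inf_cons]
    rw [h1]
    apply Groth.Agent.Lib.Helper8.CMV.ringKrullDim_quotient_inf_le
    · rw [ringKrullDim_schubert hd a, h a (Finset.mem_cons_self a s)]
    · exact ihs (fun φ hφ => h φ (Finset.mem_cons_of_mem hφ))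

end JDsec

end Groth.Agent.Lib.Helper8.Gr
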