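import Mathlib
import Groth.Prelude.Def_W4bk4grassmannianPl
import Groth.Prelude.Def_CAlg
import Groth.Agent.Lib.Helper8.CMV2
set_option backward.isDefEq.respectTransparency.types false
set_option linter.unusedSectionVars false
set_option autoImplicit false
set_option linter.style.haveILetI false
universe u

namespace Groth.Agent.Lib.Helper8.Gr
open W4bk4grassmannian MvPolynomial

section Main

variable {K : Type u} [Field K] [Infinite K] {d n : ℕ}

theorem irr_ne_top : RingHom.ker (constantCoeff : PlRing K d n →+* K) ≠ ⊤ :=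
  (RingHom.ker_isMaximal_of_surjective (constantCoeff : PlRing K d n →+* K)
    (fun x => ⟨C x, constantCoeff_C _ x⟩)).ne_top

theorem grade_main (hd : 0 < d) (k : ℕ) :
    (∀ τ : Idx d n, codeg τ = k → ∀ D : Finset (Idx d n), D.Nonempty → (∀ φ ∈ D, φ ∈ divisors τ) →
        (k : ℕ∞) ≤ LocCoh.idealDepth (RingHom.ker (constantCoeff : PlRing K d n →+* K))
          (PlRing K d n ⧸ JD K D)) ∧
    (∀ τ : Idx d n, codeg τ = k →
        ((k + 1 : ℕ) : ℕ∞) ≤ LocCoh.idealDepth (RingHom.ker (constantCoeff : PlRing K d n →+* K))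
          (PlRing K d n ⧸ schubertVanishing K d n τ)) := by
  induction k using Nat.strong_induction_on with
  | _ k ih =>
    have hb : ∀ τ : Idx d n, codeg τ = k → ∀ D : Finset (Idx d n), D.Nonempty →
        (∀ φ ∈ D, φ ∈ divisors τ) →
        (k : ℕ∞) ≤ LocCoh.idealDepth (RingHom.ker (constantCoeff : PlRing K d n →+* K))
          (PlRing K d n ⧸ JD K D) := by
      intro τ hτ D hD
      induction hD using Finset.Nonempty.cons_induction with
      | singleton a =>
        intro hDτ
        have ha := hDτ a (Finset.mem_singleton_self a)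
        have hk : codeg a + 1 = k := by rw [← hτ]; exact ha.2
        have h1 := (ih (codeg a) (by omega)).2 a rfl
        unfold JD
        rw [Finset.inf_singleton, ← hk]
        exact h1
      | cons a s ha hs ihs =>
        intro hDτ
        have haτ := hDτ a (Finset.mem_cons_self a s)
        have hsτ : ∀ φ ∈ s, φ ∈ divisors τ := fun φ hφ => hDτ φ (Finset.mem_cons_of_mem hφ)
        have hk : codeg a + 1 = k := by rw [← hτ]; exact haτ.2
        have h1 : (k : ℕ∞) ≤ LocCoh.idealDepth (RingHom.ker (constantCoeff : PlRing K d n →+* K))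
            (PlRing K d n ⧸ schubertVanishing K d n a) := by
          have := (ih (codeg a) (by omega)).2 a rfl
          rw [hk] at this
          exact this
        have h2 := ihs hsτ
        have h3 : JD K (Finset.cons a s ha) = schubertVanishing K d n a ⊓ JD K s := by
          unfold JD
          rw [Finset.inf_cons]
        rw [h3]
        apply Groth.Agent.Lib.Helper8.CMV.le_grade_inf _ _ _ k h1 h2
        rw [sup_comm, JD_sup hd s hs a]
        have h4 := (ih (codeg a) (by omega)).1 a rfl
          (s.image (fun φ => W4bk4grassmannian.inf φ a)) (hs.image _) (by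
            intro φ hφ
            obtain ⟨ψ, hψ, rfl⟩ := Finset.mem_image.mp hφ
            exact inf_mem_divisors τ ψ a (hsτ ψ hψ) haτ (by rintro rfl; exact ha hψ))
        rw [← hk]
        push_cast
        gcongr
    refine ⟨hb, ?_⟩
    intro τ hτ
    have hX : (X τ : PlRing K d n) ∈ RingHom.ker (constantCoeff : PlRing K d n →+* K) := by
      rw [RingHom.mem_ker, constantCoeff_X]
    haveI hprime : (schubertVanishing K d n τ).IsPrime := schubertVanishing_isPrime hd τ
    have hreg : IsSMulRegular (PlRing K d n ⧸ schubertVanishing K d n τ) (X τ : PlRing K d n) :=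
      isSMulRegular_quot_of_prime _ _ (X_notMem_schubertVanishing τ τ le_rfl)
    rcases Nat.eq_zero_or_pos k with hk0 | hkpos
    · subst hk0
      exact Groth.Agent.Lib.Helper8.CMV.le_grade_of_quot _ _ _ hX (schubertVanishing_le_irr hd τ)
        irr_ne_top hreg 0 zero_le
    · have hex : ∃ φ : Idx d n, φ < τ := exists_lt_of_codeg_pos τ (by omega)
      have hdivs := sup_span_eq_iInf_divisors (K := K) hd τ hex
      set Dτ : Finset (Idx d n) := (Set.toFinite (divisors τ)).toFinset with hDτ
      have hne : Dτ.Nonempty := by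
        obtain ⟨φ, hφ⟩ := hex
        obtain ⟨δ, hδ, _⟩ := Groth.Agent.S11268.result d n φ τ hφ
        exact ⟨δ, (Set.Finite.mem_toFinset _).mpr hδ⟩
      have hJ : JD K Dτ = schubertVanishing K d n τ ⊔ Ideal.span {(X τ : PlRing K d n)} := by
        rw [hdivs]
        unfold JD
        rw [Finset.inf_eq_iInf]
        simp only [hDτ, Set.Finite.mem_toFinset]
      have h5 := hb τ hτ Dτ hne (fun φ hφ => (Set.Finite.mem_toFinset _).mp hφ)
      rw [hJ] at h5
      exact Groth.Agent.Lib.Helper8.CMV.le_grade_of_quot _ _ _ hX (schubertVanishing_le_irr hd τ)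
        irr_ne_top hreg k h5

theorem isCohenMacaulayRing_schubert (hd : 0 < d) (τ : Idx d n) :
    LocCoh.IsCohenMacaulayRing (PlRing K d n ⧸ schubertVanishing K d n τ) := by
  apply GLG.cm_of_grade (schubertVanishing K d n τ)
    (fun c _ f hf => scl_mem_schubertVanishing hd τ c f hf) (schubertVanishing_le_irr hd τ)
    (codeg τ + 1) ((grade_main hd (codeg τ)).2 τ rfl)
  rw [ringKrullDim_schubert hd τ]

theorem isCohenMacaulayRing_JD (hd : 0 < d) (τ : Idx d n) (D : Finset (Idx d n)) (hD : D.Nonempty)
    (hDτ : ∀ φ ∈ D, φ ∈ divisors τ) :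
    LocCoh.IsCohenMacaulayRing (PlRing K d n ⧸ JD K D) := by
  apply GLG.cm_of_grade (JD K D)
    (fun c _ f hf => scl_mem_JD hd D c f hf) (JD_le_irr hd D hD)
    (codeg τ) ((grade_main hd (codeg τ)).1 τ rfl D hD hDτ)
  exact ringKrullDim_JD_le hd D hD (codeg τ) (fun φ hφ => (hDτ φ hφ).2)

theorem isCohenMacaulayRing_of_subsingleton (R : Type u) [CommRing R] [Subsingleton R] :
    LocCoh.IsCohenMacaulayRing R := by
  refine { isCohenMacaulayLocalRing_localization := ?_ }
  intro p hp
  exact absurd (Subsingleton.elim p ⊤) hp.ne_top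

theorem isCohenMacaulayRing_union_divisors (hd : 0 < d) (τ : Idx d n) (s : ℕ)
    (φ : Fin s → Idx d n) (hφ : ∀ i, φ i ∈ divisors τ) :
    LocCoh.IsCohenMacaulayRing (PlRing K d n ⧸ ⨅ i, schubertVanishing K d n (φ i)) := by
  classical
  rcases Nat.eq_zero_or_pos s with hs | hs
  · subst hs
    have h : (⨅ i : Fin 0, schubertVanishing K d n (φ i)) = ⊤ := iInf_of_empty _
    rw [h]
    haveI : Subsingleton (PlRing K d n ⧸ (⊤ : Ideal (PlRing K d n))) :=
      Ideal.Quotient.subsingleton_iff.mpr rfl
    exact isCohenMacaulayRing_of_subsingleton _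
  · have h : (⨅ i, schubertVanishing K d n (φ i)) = JD K (Finset.univ.image φ) := by
      unfold JD
      rw [Finset.inf_image, ← Finset.inf_univ_eq_iInf]
      rfl
    rw [h]
    haveI : Nonempty (Fin s) := ⟨⟨0, hs⟩⟩
    apply isCohenMacaulayRing_JD hd τ _ (Finset.univ_nonempty.image φ)
    intro ψ hψ
    obtain ⟨i, _, rfl⟩ := Finset.mem_image.mp hψ
    exact hφ i

end Main

end Groth.Agent.Lib.Helper8.Gr
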