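import Mathlib
import Groth.Agent.Lib.Helper8.CP2
import Groth.Agent.Lib.Helper1.ArtFunPS
import Groth.Agent.Lib.Helper1.ArtFunObsPS
import Groth.Agent.Lib.Helper1.PSLift
import Groth.Agent.Lib.Helper23.CTens1

set_option backward.isDefEq.respectTransparency.types false
set_option synthInstance.maxHeartbeats 400000
set_option autoImplicit false
set_option linter.unusedSectionVars false
set_option linter.style.haveILetI false

namespace Groth.Agent.Lib.Helper8.CQ1

universe u

open MvPowerSeries IsLocalRing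

section Complete

/-- a surjective image of a complete Noetherian local ring is complete. -/
theorem complete_of_surjective {R D : Type u} [CommRing R] [IsLocalRing R] [IsNoetherianRing R]
    [IsAdicComplete (maximalIdeal R) R] [CommRing D] [IsLocalRing D] (f : R →+* D)
    (hf : Function.Surjective f) : IsAdicComplete (maximalIdeal D) D := by
  letI := f.toAlgebra
  have hmap : (maximalIdeal R).map (algebraMap R D) = maximalIdeal D :=
    map_maximalIdeal_of_surjective f hf
  haveI : Module.Finite R D := Module.Finite.of_surjective (Algebra.linearMap R D) hf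
  have hH : IsHausdorff (maximalIdeal R) D := inferInstance
  have hP : IsPrecomplete (maximalIdeal R) D := by
    rw [← AdicCompletion.of_surjective_iff]
    intro y
    obtain ⟨x, rfl⟩ := AdicCompletion.map_surjective (maximalIdeal R)
      (f := (Algebra.linearMap R D)) hf y
    obtain ⟨r, rfl⟩ := AdicCompletion.of_surjective (maximalIdeal R) R x
    exact ⟨Algebra.linearMap R D r, (AdicCompletion.map_of _ _ _).symm⟩
  rw [← hmap]
  exact { toIsHausdorff := IsHausdorff.map_algebraMap_iff.mpr hH,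
          toIsPrecomplete := IsPrecomplete.map_algebraMap_iff.mpr hP }

end Complete

section Cone

open Groth.Agent.Lib.Helper1.ArtFunLib

variable {k : Type u} [Field k] {N : ℕ}

lemma mem_max_pow_iff (n : ℕ) (g : MvPowerSeries (Fin N) k) :
    g ∈ maximalIdeal (MvPowerSeries (Fin N) k) ^ n ↔
      ∀ d : Fin N →₀ ℕ, d.degree < n → coeff d g = 0 := by
  rw [PS.maximalIdeal_pow_eq_filt, PS.mem_filt]
  constructor
  · intro h d hd
    have := h d
    rw [maximalIdeal_eq_bot, ← Ideal.zero_eq_bot, zero_pow (by omega), Ideal.zero_eq_bot,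
      Ideal.mem_bot] at this
    exact this
  · intro h d
    by_cases hd : d.degree < n
    · rw [h d hd]; exact Ideal.zero_mem _
    · rw [Nat.sub_eq_zero_of_le (not_lt.1 hd), pow_zero, Ideal.one_eq_top]
      exact Submodule.mem_top

lemma span_X_eq_max :
    Ideal.span (Set.range (X : Fin N → MvPowerSeries (Fin N) k)) =
      maximalIdeal (MvPowerSeries (Fin N) k) := by
  rw [PS.maximalIdeal_eq_sup, maximalIdeal_eq_bot, Ideal.map_bot, bot_sup_eq]

lemma map_idealOfVars :
    (MvPolynomial.idealOfVars (Fin N) k).map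
      (MvPolynomial.coeToMvPowerSeries.ringHom : MvPolynomial (Fin N) k →+* _) =
      maximalIdeal (MvPowerSeries (Fin N) k) := by
  rw [← span_X_eq_max, Ideal.map_span, ← Set.range_comp]
  congr 2
  ext1 i
  simp

variable (F : MvPolynomial (Fin N) k)

lemma span_ne_top (hF0 : MvPolynomial.constantCoeff F = 0) :
    Ideal.span {(F : MvPowerSeries (Fin N) k)} ≠ ⊤ := by
  intro h
  have h1 : (F : MvPowerSeries (Fin N) k) ∈ maximalIdeal (MvPowerSeries (Fin N) k) := by
    rw [← pow_one (maximalIdeal _), mem_max_pow_iff]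
    intro d hd
    have hd0 : d = 0 := by
      rw [← Finsupp.degree_eq_zero_iff]; omega
    subst hd0
    rw [MvPolynomial.coeff_coe, ← MvPolynomial.constantCoeff_eq, hF0]
  have h2 : Ideal.span {(F : MvPowerSeries (Fin N) k)} ≤ maximalIdeal _ := by
    rw [Ideal.span_le, Set.singleton_subset_iff]; exact h1
  rw [h] at h2
  exact (maximalIdeal.isMaximal _).ne_top (top_le_iff.mp h2)

/-- the polynomial core of the injectivity on levels -/
lemma poly_core (n : ℕ) (p : MvPolynomial (Fin N) k)
    (hp : (p : MvPowerSeries (Fin N) k) ∈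
      maximalIdeal (MvPowerSeries (Fin N) k) ^ n ⊔ Ideal.span {(F : MvPowerSeries (Fin N) k)}) :
    ∃ g₀ : MvPolynomial (Fin N) k, p - g₀ * F ∈ (MvPolynomial.idealOfVars (Fin N) k) ^ n := by
  obtain ⟨u, hu, v, hv, huv⟩ := Submodule.mem_sup.1 hp
  obtain ⟨g, rfl⟩ := Ideal.mem_span_singleton'.1 hv
  set g₀ : MvPolynomial (Fin N) k := truncTotal n g with hg₀
  have h1 : g - (g₀ : MvPowerSeries (Fin N) k) ∈ maximalIdeal (MvPowerSeries (Fin N) k) ^ n := by
    rw [← span_X_eq_max]
    exact Groth.Agent.Lib.Helper1.PSLift.sub_truncTotal_mem n g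
  have h2 : ((p - g₀ * F : MvPolynomial (Fin N) k) : MvPowerSeries (Fin N) k) ∈
      maximalIdeal (MvPowerSeries (Fin N) k) ^ n := by
    have e : ((p - g₀ * F : MvPolynomial (Fin N) k) : MvPowerSeries (Fin N) k) =
        u + (g - (g₀ : MvPowerSeries (Fin N) k)) * (F : MvPowerSeries (Fin N) k) := by
      have e0 : ((p - g₀ * F : MvPolynomial (Fin N) k) : MvPowerSeries (Fin N) k) =
          (p : MvPowerSeries (Fin N) k) - (g₀ : MvPowerSeries (Fin N) k) * F := by
        rw [← MvPolynomial.coeToMvPowerSeries.ringHom_apply, map_sub, map_mul]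
        rfl
      rw [e0, ← huv]
      ring
    rw [e]
    exact Ideal.add_mem _ hu (Ideal.mul_mem_right _ _ h1)
  refine ⟨g₀, ?_⟩
  rw [MvPolynomial.mem_pow_idealOfVars_iff']
  intro d hd
  have := (mem_max_pow_iff n _).1 h2 d hd
  rwa [MvPolynomial.coeff_coe] at this

section Generic

variable {C : Type u} [CommRing C] (π : MvPolynomial (Fin N) k →+* C)
  (hπ : Function.Surjective π) (hker : RingHom.ker π = Ideal.span {F})
  {D : Type u} [CommRing D] (πD : MvPowerSeries (Fin N) k →+* D)
  (hπD : Function.Surjective πD)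
  (hkerD : RingHom.ker πD = Ideal.span {(F : MvPowerSeries (Fin N) k)})

include hker hkerD in
lemma ker_le : RingHom.ker π ≤ RingHom.ker (πD.comp
    (MvPolynomial.coeToMvPowerSeries.ringHom : MvPolynomial (Fin N) k →+* _)) := by
  rw [hker, Ideal.span_le, Set.singleton_subset_iff, SetLike.mem_coe, RingHom.mem_ker,
    RingHom.comp_apply, ← RingHom.mem_ker, hkerD]
  exact Ideal.subset_span rfl

/-- the comparison map `k[x]/(F) → k[[x]]/(F)` -/
noncomputable def gam : C →+* D :=
  RingHom.liftOfSurjective π hπ ⟨_, ker_le F π hker πD hkerD⟩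

lemma gam_pi (p : MvPolynomial (Fin N) k) :
    gam F π hπ hker πD hkerD (π p) = πD (p : MvPowerSeries (Fin N) k) := by
  unfold gam
  exact RingHom.liftOfRightInverse_comp_apply _ _ _ _ p

include hπD hkerD in
lemma isLocalRing_D (hF0 : MvPolynomial.constantCoeff F = 0) : IsLocalRing D := by
  haveI : Nontrivial D := by
    refine ⟨⟨πD 1, 0, fun h => ?_⟩⟩
    have h1 : (1 : MvPowerSeries (Fin N) k) ∈ RingHom.ker πD := h
    rw [hkerD] at h1
    exact span_ne_top F hF0 ((Ideal.eq_top_iff_one _).mpr h1)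
  exact .of_surjective' πD hπD

lemma isUnit_gam (𝔮 : Ideal C)
    (h𝔮 : 𝔮 = (MvPolynomial.idealOfVars (Fin N) k).map π)
    (c : C) (hc : c ∉ 𝔮) : IsUnit (gam F π hπ hker πD hkerD c) := by
  obtain ⟨p, rfl⟩ := hπ c
  rw [gam_pi]
  apply IsUnit.map
  rw [MvPowerSeries.isUnit_iff_constantCoeff]
  have h0 : MvPolynomial.constantCoeff p ≠ 0 := by
    intro h0
    apply hc
    rw [h𝔮]
    apply Ideal.mem_map_of_mem
    rw [← pow_one (MvPolynomial.idealOfVars (Fin N) k), MvPolynomial.mem_pow_idealOfVars_iff']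
    intro d hd
    have hd0 : d = 0 := by
      rw [← Finsupp.degree_eq_zero_iff]; omega
    subst hd0
    rw [← MvPolynomial.constantCoeff_eq, h0]
  have : constantCoeff (p : MvPowerSeries (Fin N) k) = MvPolynomial.constantCoeff p := by
    rw [← coeff_zero_eq_constantCoeff_apply, MvPolynomial.coeff_coe, MvPolynomial.constantCoeff_eq]
  rw [this]
  exact isUnit_iff_ne_zero.mpr h0

include hπ hker hπD hkerD in
/-- the completion of the local ring of `k[x]/(F)` at the origin is `k[[x]]/(F)`. -/
theorem main (hF0 : MvPolynomial.constantCoeff F = 0)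
    (𝔮 : Ideal C) [𝔮.IsPrime]
    (h𝔮 : 𝔮 = (MvPolynomial.idealOfVars (Fin N) k).map π)
    (OY : Type u) [CommRing OY] [IsLocalRing OY] [Algebra C OY] [IsLocalization.AtPrime OY 𝔮] :
    ∃ φ : AdicCompletion (maximalIdeal OY) OY ≃+* D,
      ∀ p : MvPolynomial (Fin N) k,
        φ (algebraMap OY (AdicCompletion (maximalIdeal OY) OY) (algebraMap C OY (π p))) =
          πD (p : MvPowerSeries (Fin N) k) := by
  classical
  haveI hDloc : IsLocalRing D := isLocalRing_D F πD hπD hkerD hF0
  haveI : IsAdicComplete (maximalIdeal k) k := isAdicComplete_field k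
  haveI : IsAdicComplete (maximalIdeal (MvPowerSeries (Fin N) k)) (MvPowerSeries (Fin N) k) :=
    PS.isAdicComplete_mvPowerSeries
  have hDc : IsAdicComplete (maximalIdeal D) D := complete_of_surjective πD hπD
  have hunit : ∀ c : 𝔮.primeCompl, IsUnit (gam F π hπ hker πD hkerD c) :=
    fun c => isUnit_gam F π hπ hker πD hkerD 𝔮 h𝔮 c c.2
  let ρ : OY →+* D := IsLocalization.lift (M := 𝔮.primeCompl) hunit
  have hρ : ∀ c, ρ (algebraMap C OY c) = gam F π hπ hker πD hkerD c :=
    fun c => IsLocalization.lift_eq hunit c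
  have hmapS : (maximalIdeal (MvPowerSeries (Fin N) k)).map πD = maximalIdeal D :=
    map_maximalIdeal_of_surjective _ hπD
  have hmaxY : 𝔮.map (algebraMap C OY) = maximalIdeal OY :=
    IsLocalization.AtPrime.map_eq_maximalIdeal 𝔮 OY
  have hIm : (maximalIdeal OY).map ρ = maximalIdeal D := by
    rw [← hmaxY, Ideal.map_map]
    have e1 : ρ.comp (algebraMap C OY) = gam F π hπ hker πD hkerD := RingHom.ext hρ
    rw [e1, h𝔮, Ideal.map_map]
    have e2 : (gam F π hπ hker πD hkerD).comp π =
        πD.comp (MvPolynomial.coeToMvPowerSeries.ringHom : MvPolynomial (Fin N) k →+* _) :=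
      RingHom.ext fun p => gam_pi F π hπ hker πD hkerD p
    rw [e2, ← Ideal.map_map, map_idealOfVars, hmapS]
  have hpow : ∀ n, maximalIdeal D ^ n = (maximalIdeal (MvPowerSeries (Fin N) k) ^ n).map πD := by
    intro n
    rw [Ideal.map_pow, hmapS]
  have hpowY : ∀ n, maximalIdeal OY ^ n = (𝔮 ^ n).map (algebraMap C OY) := by
    intro n
    rw [Ideal.map_pow, hmaxY]
  haveI : IsAdicComplete ((maximalIdeal OY).map ρ) D := by
    rw [hIm]; exact hDc
  have hinj : ∀ n x, ρ x ∈ ((maximalIdeal OY).map ρ) ^ n → x ∈ maximalIdeal OY ^ n := by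
    intro n x hx
    rw [hIm] at hx
    obtain ⟨c, s, rfl⟩ := IsLocalization.exists_mk'_eq 𝔮.primeCompl x
    have h1 : ρ (IsLocalization.mk' OY c s) * gam F π hπ hker πD hkerD s =
        gam F π hπ hker πD hkerD c := by
      rw [← hρ, ← hρ, ← map_mul, IsLocalization.mk'_spec]
    have h2 : gam F π hπ hker πD hkerD c ∈ maximalIdeal D ^ n := by
      rw [← h1]; exact Ideal.mul_mem_right _ _ hx
    obtain ⟨p, rfl⟩ := hπ c
    rw [gam_pi, hpow, Ideal.mem_map_iff_of_surjective πD hπD] at h2
    obtain ⟨u, hu, hup⟩ := h2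
    have h3 : (p : MvPowerSeries (Fin N) k) ∈
        maximalIdeal (MvPowerSeries (Fin N) k) ^ n ⊔
          Ideal.span {(F : MvPowerSeries (Fin N) k)} := by
      have h4 : (p : MvPowerSeries (Fin N) k) - u ∈ RingHom.ker πD := by
        rw [RingHom.mem_ker, map_sub, hup, sub_self]
      rw [hkerD] at h4
      have : (p : MvPowerSeries (Fin N) k) = u + ((p : MvPowerSeries (Fin N) k) - u) := by ring
      rw [this]
      exact Submodule.add_mem_sup hu h4
    obtain ⟨g₀, hg₀⟩ := poly_core F n p h3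
    have h5 : π p = π (p - g₀ * F) := by
      have : g₀ * F ∈ RingHom.ker π := by
        rw [hker]; exact Ideal.mul_mem_left _ _ (Ideal.subset_span rfl)
      rw [map_sub, (RingHom.mem_ker).1 this, sub_zero]
    have h6 : π p ∈ 𝔮 ^ n := by
      rw [h5, h𝔮, ← Ideal.map_pow]
      exact Ideal.mem_map_of_mem _ hg₀
    rw [hpowY, IsLocalization.mk'_eq_mul_mk'_one]
    exact Ideal.mul_mem_right _ _ (Ideal.mem_map_of_mem _ h6)
  have hsurj : ∀ n (s : D), ∃ x, s - ρ x ∈ ((maximalIdeal OY).map ρ) ^ n := by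
    intro n s
    rw [hIm]
    obtain ⟨g, rfl⟩ := hπD s
    refine ⟨algebraMap C OY (π (truncTotal n g : MvPolynomial (Fin N) k)), ?_⟩
    rw [hρ, gam_pi, ← map_sub, hpow]
    apply Ideal.mem_map_of_mem
    rw [← span_X_eq_max]
    exact Groth.Agent.Lib.Helper1.PSLift.sub_truncTotal_mem n g
  obtain ⟨e, he⟩ := Groth.Agent.Lib.Helper23.CTens.nonempty_equiv_of_levels ρ
    (maximalIdeal OY) hinj hsurj
  refine ⟨e, fun p => ?_⟩
  have h1 : e (algebraMap OY (AdicCompletion (maximalIdeal OY) OY) (algebraMap C OY (π p))) =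
      ρ (algebraMap C OY (π p)) := he _
  rw [h1, hρ, gam_pi]

end Generic

end Cone

end Groth.Agent.Lib.Helper8.CQ1
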