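import Mathlib
import Groth.Prelude.Def_Cyc

set_option autoImplicit false
set_option linter.unusedVariables false
set_option linter.unusedSectionVars false
set_option linter.style.longLine false

universe u

namespace Groth.Agent.Lib.Helper8.CYa

open AlgebraicGeometry CategoryTheory CategoryTheory.Limits

/-- ring isomorphisms preserve the length of the ring over itself -/
theorem length_eq_of_ringEquiv {A B : Type*} [CommRing A] [CommRing B] (e : A ≃+* B) :
    Module.length A A = Module.length B B := by
  letI : Algebra A B := e.toRingHom.toAlgebra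
  have h1 : Module.length A B = Module.length B B :=
    Module.length_eq_of_surjective (S := A) (R := B) (M := B) e.surjective
  have h2 : Module.length A A = Module.length A B := by
    refine LinearEquiv.length_eq ?_
    exact
      { e.toAddEquiv with
        map_smul' := fun r y => by
          show e (r * y) = r • e y
          rw [Algebra.smul_def, map_mul]
          rfl }
  rw [h2, h1]

/-- a local ring with a regular element in its maximal ideal has infinite length -/
theorem length_eq_top_of_regular {A : Type*} [CommRing A] [IsLocalRing A] (a : A)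
    (ha : a ∈ IsLocalRing.maximalIdeal A) (hreg : ∀ b : A, a * b = 0 → b = 0) :
    Module.length A A = ⊤ := by
  by_contra h
  rw [← ne_eq, Module.length_ne_top_iff] at h
  have hArt : IsArtinianRing A := (isFiniteLength_iff_isNoetherian_isArtinian.mp h).2
  have hnil : IsNilpotent (IsLocalRing.maximalIdeal A) := by
    have := IsArtinianRing.isNilpotent_jacobson_bot (R := A)
    rwa [IsLocalRing.jacobson_eq_maximalIdeal ⊥ bot_ne_top] at this
  obtain ⟨n, hn⟩ := hnil
  have han : a ^ n = 0 := by
    have : a ^ n ∈ (IsLocalRing.maximalIdeal A) ^ n := Ideal.pow_mem_pow ha n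
    rw [hn] at this
    simpa using this
  have key : ∀ k, a ^ k = 0 → (1 : A) = 0 := by
    intro k
    induction k with
    | zero => intro h0; simpa using h0
    | succ k ih =>
      intro h0
      rw [pow_succ'] at h0
      exact ih (hreg _ h0)
  exact one_ne_zero (key n han)

/-- `Spec K → Spec R` is an open immersion for a DVR `R` with fraction field `K` -/
theorem isLocalization_away_fractionRing (R : Type u) [CommRing R] [IsDomain R]
    [IsDiscreteValuationRing R] (ϖ : R) (hϖ : Irreducible ϖ) :
    IsLocalization.Away ϖ (FractionRing R) := by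
  haveI : IsLocalization (nonZeroDivisors R) (Localization.Away ϖ) := by
    refine IsLocalization.of_le_of_exists_dvd (Submonoid.powers ϖ) (nonZeroDivisors R) ?_ ?_
    · rw [Submonoid.powers_le]
      exact mem_nonZeroDivisors_of_ne_zero hϖ.ne_zero
    · intro n hn
      obtain ⟨k, hk⟩ := IsDiscreteValuationRing.associated_pow_irreducible
        (nonZeroDivisors.ne_zero hn) hϖ
      exact ⟨ϖ ^ k, ⟨k, rfl⟩, hk.dvd⟩
  exact IsLocalization.isLocalization_of_algEquiv (Submonoid.powers ϖ)
    (IsLocalization.algEquiv (nonZeroDivisors R) (Localization.Away ϖ) (FractionRing R))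

theorem isOpenImmersion_fractionRing (R : Type u) [CommRing R] [IsDomain R]
    [IsDiscreteValuationRing R] :
    IsOpenImmersion (Spec.map (CommRingCat.ofHom (algebraMap R (FractionRing R)))) := by
  obtain ⟨ϖ, hϖ⟩ := IsDiscreteValuationRing.exists_irreducible R
  haveI := isLocalization_away_fractionRing R ϖ hϖ
  exact IsOpenImmersion.of_isLocalization ϖ

section finsum

variable {X Z : Scheme.{u}}

theorem subschemeFun_zero (i : Z ⟶ X) (x : X) :
    Cyc.subschemeFun (fun _ => (0 : ℤ)) 0 i x =
      ∑ᶠ z ∈ {z : Z | i z = x},
        ((Module.length (Z.presheaf.stalk z) (Z.presheaf.stalk z)).toNat : ℤ) :=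
  if_pos rfl

theorem finsum_mem_fiber_of_injective {α β M : Type*} [AddCommMonoid M] (i : α → β)
    (hi : Function.Injective i) (F : α → M) (a : α) :
    ∑ᶠ z ∈ {z : α | i z = i a}, F z = F a := by
  have : {z : α | i z = i a} = {a} := by
    ext z
    simp only [Set.mem_setOf_eq, Set.mem_singleton_iff]
    exact ⟨fun h => hi h, fun h => by rw [h]⟩
  rw [this, finsum_mem_singleton]

theorem finsum_mem_fiber_of_forall_zero {α β M : Type*} [AddCommMonoid M] (i : α → β)
    (F : α → M) (b : β) (h : ∀ z, i z = b → F z = 0) :
    ∑ᶠ z ∈ {z : α | i z = b}, F z = 0 :=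
  finsum_mem_eq_zero_of_forall_eq_zero fun z hz => h z hz

end finsum

end Groth.Agent.Lib.Helper8.CYa
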