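import Mathlib
import Groth.Prelude.Def_Cyc
import Groth.Agent.Lib.Helper8.CYa

set_option autoImplicit false
set_option linter.unusedVariables false
set_option linter.unusedSectionVars false
set_option linter.style.longLine false
set_option linter.style.haveILetI false

universe u

namespace Groth.Agent.Lib.Helper8.CYb

open AlgebraicGeometry CategoryTheory CategoryTheory.Limits Groth.Agent.Lib.Helper8.CYa

section abstract

variable {W Xr Zk Xk : Scheme.{u}} (A : Zk ⟶ W) (B : W ⟶ Xr) (C : Xk ⟶ Xr) (D : Zk ⟶ Xk)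

theorem main_abstract [IsOpenImmersion A] [QuasiCompact A]
    (hB : Function.Injective fun z : A.image => (A.imageι ≫ B) z)
    (hC : Function.Injective fun t' : Xk => C t') (hD : Function.Injective fun z : Zk => D z)
    (hcomm : A ≫ B = D ≫ C)
    (hinf : ∀ z : A.image, A.imageι z ∉ Set.range A →
      Module.length (A.image.presheaf.stalk z) (A.image.presheaf.stalk z) = ⊤)
    (t : Xr) :
    Cyc.subschemeFun (fun _ => (0 : ℤ)) 0 (A.imageι ≫ B) t =
      ∑ᶠ t' ∈ {t' : Xk | C t' = t}, Cyc.subschemeFun (fun _ => (0 : ℤ)) 0 D t' := by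
  rw [subschemeFun_zero]
  simp_rw [subschemeFun_zero]
  by_cases h : ∃ z' : Zk, C (D z') = t
  · obtain ⟨z', rfl⟩ := h
    have hR : (∑ᶠ t' ∈ {t' : Xk | C t' = C (D z')}, ∑ᶠ z ∈ {z : Zk | D z = t'},
        ((Module.length (Zk.presheaf.stalk z) (Zk.presheaf.stalk z)).toNat : ℤ)) =
        ((Module.length (Zk.presheaf.stalk z') (Zk.presheaf.stalk z')).toNat : ℤ) := by
      rw [finsum_mem_fiber_of_injective (fun t' : Xk => C t') hC _ (D z')]
      exact finsum_mem_fiber_of_injective (fun z : Zk => D z) hD _ z'
    rw [hR]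
    have e1 : (A.imageι ≫ B) (A.toImage z') = C (D z') := by
      rw [← Scheme.Hom.comp_apply, ← Scheme.Hom.comp_apply, ← hcomm, ← Category.assoc,
        Scheme.Hom.toImage_imageι]
    rw [← e1]
    rw [finsum_mem_fiber_of_injective (fun z : A.image => (A.imageι ≫ B) z) hB _ (A.toImage z')]
    have hiso : IsIso (A.toImage.stalkMap z') := inferInstance
    have e := (asIso (A.toImage.stalkMap z')).commRingCatIsoToRingEquiv
    rw [length_eq_of_ringEquiv e]
  · push Not at h
    have hR : (∑ᶠ t' ∈ {t' : Xk | C t' = t}, ∑ᶠ z ∈ {z : Zk | D z = t'},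
        ((Module.length (Zk.presheaf.stalk z) (Zk.presheaf.stalk z)).toNat : ℤ)) = 0 := by
      apply finsum_mem_eq_zero_of_forall_eq_zero
      intro t' ht'
      apply finsum_mem_eq_zero_of_forall_eq_zero
      intro z hz
      exfalso
      apply h z
      have h1 : D z = t' := hz
      have h2 : C t' = t := ht'
      rw [h1, h2]
    rw [hR]
    apply finsum_mem_eq_zero_of_forall_eq_zero
    intro z hz
    have hz' : (A.imageι ≫ B) z = t := hz
    have hnot : A.imageι z ∉ Set.range A := by
      rintro ⟨z', hz''⟩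
      apply h z'
      rw [← Scheme.Hom.comp_apply, ← hcomm, Scheme.Hom.comp_apply, hz'', ← Scheme.Hom.comp_apply]
      exact hz'
    rw [hinf z hnot]
    simp

end abstract

section closedImm

variable {X S Z T : Scheme.{u}} (p : X ⟶ S) (ι : Z ⟶ X) [IsClosedImmersion ι] (y : T ⟶ S)

theorem isClosedImmersion_map :
    IsClosedImmersion (pullback.map (ι ≫ p) y p y ι (𝟙 _) (𝟙 S) (Category.comp_id _)
      ((Category.comp_id _).trans (Category.id_comp _).symm)) := by
  have hright : IsPullback (pullback.snd p y) (pullback.fst p y) y p :=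
    (IsPullback.of_hasPullback p y).flip
  have e1 : pullback.map (ι ≫ p) y p y ι (𝟙 _) (𝟙 S) (Category.comp_id _)
      ((Category.comp_id _).trans (Category.id_comp _).symm) ≫ pullback.snd p y =
      pullback.snd (ι ≫ p) y := by
    rw [pullback.map, pullback.lift_snd, Category.comp_id]
  have e2 : pullback.map (ι ≫ p) y p y ι (𝟙 _) (𝟙 S) (Category.comp_id _)
      ((Category.comp_id _).trans (Category.id_comp _).symm) ≫ pullback.fst p y =
      pullback.fst (ι ≫ p) y ≫ ι := by
    rw [pullback.map, pullback.lift_fst]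
  have hbig : IsPullback (pullback.map (ι ≫ p) y p y ι (𝟙 _) (𝟙 S) (Category.comp_id _)
      ((Category.comp_id _).trans (Category.id_comp _).symm) ≫ pullback.snd p y)
      (pullback.fst (ι ≫ p) y) y (ι ≫ p) := by
    rw [e1]
    exact (IsPullback.of_hasPullback (ι ≫ p) y).flip
  have hleft := IsPullback.of_right hbig e2 hright
  exact MorphismProperty.of_isPullback (P := @IsClosedImmersion) hleft.flip inferInstance

end closedImm

end Groth.Agent.Lib.Helper8.CYb
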