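import Mathlib
import Groth.Prelude.Def_Cyc
import Groth.Agent.Lib.Helper8.CYb

set_option autoImplicit false
set_option linter.unusedVariables false
set_option linter.unusedSectionVars false
set_option linter.style.longLine false
set_option linter.style.haveILetI false

universe u

namespace Groth.Agent.Lib.Helper8.CYc

open AlgebraicGeometry CategoryTheory CategoryTheory.Limits Groth.Agent.Lib.Helper8.CYa
  Groth.Agent.Lib.Helper8.CYb

section inf

variable (R : Type u) [CommRing R] [IsDomain R] [IsDiscreteValuationRing R]
variable {W Zk : Scheme.{u}} (A : Zk ⟶ W) [QuasiCompact A] (q : W ⟶ Spec (CommRingCat.of R))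
  (sK : Zk ⟶ Spec (CommRingCat.of (FractionRing R)))

theorem length_eq_top
    (hsq : A ≫ q = sK ≫ Spec.map (CommRingCat.ofHom (algebraMap R (FractionRing R))))
    (hrange : ∀ w : W, q w ∈ Set.range
      (Spec.map (CommRingCat.ofHom (algebraMap R (FractionRing R)))) → w ∈ Set.range A)
    (z : A.image) (hz : A.imageι z ∉ Set.range A) :
    Module.length (A.image.presheaf.stalk z) (A.image.presheaf.stalk z) = ⊤ := by
  obtain ⟨ϖ, hϖ⟩ := IsDiscreteValuationRing.exists_irreducible R
  haveI := isLocalization_away_fractionRing R ϖ hϖ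
  let f : A.image ⟶ Spec (CommRingCat.of R) := A.imageι ≫ q
  let πR : Γ(Spec (CommRingCat.of R), ⊤) := (Scheme.ΓSpecIso (CommRingCat.of R)).inv ϖ
  let s : Γ(A.image, ⊤) := f.appTop πR
  apply length_eq_top_of_regular (A.image.presheaf.germ ⊤ z trivial s)
  · rw [IsLocalRing.mem_maximalIdeal, mem_nonunits_iff]
    intro hunit
    have hzs : z ∈ A.image.basicOpen s := (Scheme.mem_basicOpen_top _ s z).mpr hunit
    have hpre : f ⁻¹ᵁ ((Spec (CommRingCat.of R)).basicOpen πR) = A.image.basicOpen s :=
      Scheme.preimage_basicOpen_top f πR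
    rw [← hpre] at hzs
    have hfz : f z ∈ (Spec (CommRingCat.of R)).basicOpen πR := hzs
    rw [basicOpen_eq_of_affine] at hfz
    have hr : q (A.imageι z) ∈ Set.range
        (Spec.map (CommRingCat.ofHom (algebraMap R (FractionRing R)))) := by
      have := PrimeSpectrum.localization_away_comap_range (FractionRing R) ϖ
      have h2 : f z ∈ (PrimeSpectrum.basicOpen ϖ : Set (PrimeSpectrum R)) := hfz
      rw [← this] at h2
      exact h2
    exact hz (hrange _ hr)
  · intro b hab
    have hinj := Scheme.Hom.stalkFunctor_toImage_injective A z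
    let ψ : (A.image.presheaf.stalk z) →+* _ :=
      ((TopCat.Presheaf.stalkFunctor CommRingCat z).map A.toImage.c).hom
    have hψinj : Function.Injective ψ := hinj
    have hu : IsUnit (ψ (A.image.presheaf.germ ⊤ z trivial s)) := by
      have h0 : ψ (A.image.presheaf.germ ⊤ z trivial s) = _ :=
        TopCat.Presheaf.stalkFunctor_map_germ_apply ⊤ z trivial A.toImage.c s
      rw [h0]
      have h1 : IsUnit (A.toImage.appTop s) := by
        have h2 : A.toImage.appTop s = (A.toImage ≫ f).appTop πR := by
          rw [Scheme.Hom.comp_appTop]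
          rfl
        have h3 : A.toImage ≫ f = sK ≫ Spec.map (CommRingCat.ofHom (algebraMap R (FractionRing R))) := by
          rw [← hsq, ← Category.assoc, Scheme.Hom.toImage_imageι]
        rw [h2, h3, Scheme.Hom.comp_appTop]
        have h4 : (Spec.map (CommRingCat.ofHom (algebraMap R (FractionRing R)))).appTop πR =
            (Scheme.ΓSpecIso (CommRingCat.of (FractionRing R))).inv (algebraMap R (FractionRing R) ϖ) := by
          have := congrArg (fun g : CommRingCat.of R ⟶ _ => g.hom ϖ)
            (Scheme.ΓSpecIso_inv_naturality (CommRingCat.ofHom (algebraMap R (FractionRing R))))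
          exact this.symm
        rw [CommRingCat.comp_apply, h4]
        have h5 : IsUnit (algebraMap R (FractionRing R) ϖ) :=
          IsLocalization.Away.algebraMap_isUnit ϖ
        exact (h5.map (Scheme.ΓSpecIso (CommRingCat.of (FractionRing R))).inv.hom).map sK.appTop.hom
      refine IsUnit.map _ ?_
      exact h1
    have hm : ψ (A.image.presheaf.germ ⊤ z trivial s) * ψ b = 0 := by
      rw [← map_mul, hab, map_zero]
    have hb : ψ b = 0 := hu.mul_right_eq_zero.mp hm
    exact hψinj (by rw [hb, map_zero])

end inf

end Groth.Agent.Lib.Helper8.CYc
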