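import Mathlib
import Groth.Prelude.Def_Cyc
import Groth.Agent.Lib.Helper8.CYc

set_option autoImplicit false
set_option linter.unusedVariables false
set_option linter.unusedSectionVars false
set_option linter.style.longLine false
set_option linter.style.haveILetI false

universe u

namespace Groth.Agent.Lib.Helper8.CYd

open AlgebraicGeometry CategoryTheory CategoryTheory.Limits Groth.Agent.Lib.Helper8.CYa
  Groth.Agent.Lib.Helper8.CYb Groth.Agent.Lib.Helper8.CYc

section pb

variable {S Z' T T' : Scheme.{u}} (f : Z' ⟶ S) (y : T ⟶ S) (j : T' ⟶ T)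

theorem isPullback_map_base :
    IsPullback (pullback.map f (j ≫ y) f y (𝟙 _) j (𝟙 S)
      ((Category.comp_id _).trans (Category.id_comp _).symm) (Category.comp_id _))
      (pullback.snd f (j ≫ y)) (pullback.snd f y) j := by
  have e1 : pullback.map f (j ≫ y) f y (𝟙 _) j (𝟙 S)
      ((Category.comp_id _).trans (Category.id_comp _).symm) (Category.comp_id _) ≫
      pullback.fst f y = pullback.fst f (j ≫ y) := by
    rw [pullback.map, pullback.lift_fst, Category.comp_id]
  have e2 : pullback.map f (j ≫ y) f y (𝟙 _) j (𝟙 S)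
      ((Category.comp_id _).trans (Category.id_comp _).symm) (Category.comp_id _) ≫
      pullback.snd f y = pullback.snd f (j ≫ y) ≫ j := by
    rw [pullback.map, pullback.lift_snd]
  have hbig : IsPullback (pullback.map f (j ≫ y) f y (𝟙 _) j (𝟙 S)
      ((Category.comp_id _).trans (Category.id_comp _).symm) (Category.comp_id _) ≫
      pullback.fst f y) (pullback.snd f (j ≫ y)) f (j ≫ y) := by
    rw [e1]
    exact IsPullback.of_hasPullback f (j ≫ y)
  exact IsPullback.of_right hbig e2 (IsPullback.of_hasPullback f y)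

theorem quasiCompact_map_base [QuasiCompact j] :
    QuasiCompact (pullback.map f (j ≫ y) f y (𝟙 _) j (𝟙 S)
      ((Category.comp_id _).trans (Category.id_comp _).symm) (Category.comp_id _)) :=
  MorphismProperty.of_isPullback (P := @QuasiCompact) (isPullback_map_base f y j).flip inferInstance

theorem mem_range_map_base (w : ↥(pullback f y)) (hw : pullback.snd f y w ∈ Set.range j) :
    w ∈ Set.range (pullback.map f (j ≫ y) f y (𝟙 _) j (𝟙 S)
      ((Category.comp_id _).trans (Category.id_comp _).symm) (Category.comp_id _)) := by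
  rw [Scheme.Pullback.range_map]
  refine ⟨⟨pullback.fst f y w, rfl⟩, hw⟩

end pb

section main

variable {X S Z : Scheme.{u}} (p : X ⟶ S) (ι : Z ⟶ X) [IsClosedImmersion ι]
  (R : Type u) [CommRing R] [IsDomain R] [IsDiscreteValuationRing R]
  (x : Spec (CommRingCat.of R) ⟶ S)

theorem main (t : ↥(pullback p x)) :
    Cyc.subschemeFun (fun _ => (0 : ℤ)) 0 ((pullback.map (ι ≫ p) (Spec.map (CommRingCat.ofHom (algebraMap R (FractionRing R))) ≫ x) (ι ≫ p) x (𝟙 Z) (Spec.map (CommRingCat.ofHom (algebraMap R (FractionRing R)))) (𝟙 S) ((Category.comp_id _).trans (Category.id_comp _).symm) (Category.comp_id _)).ker.subschemeι ≫ pullback.map (ι ≫ p) x p x ι (𝟙 _) (𝟙 S) (Category.comp_id _) ((Category.comp_id _).trans (Category.id_comp _).symm)) t = ∑ᶠ t' ∈ {t' : ↥(pullback p (Spec.map (CommRingCat.ofHom (algebraMap R (FractionRing R))) ≫ x)) | (pullback.map p (Spec.map (CommRingCat.ofHom (algebraMap R (FractionRing R))) ≫ x) p x (𝟙 X) (Spec.map (CommRingCat.ofHom (algebraMap R (FractionRing R)))) (𝟙 S) ((Category.comp_id _).trans (Category.id_comp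 _).symm) (Category.comp_id _)) t' = t}, Cyc.subschemeFun (fun _ => (0 : ℤ)) 0 (pullback.map (ι ≫ p) (Spec.map (CommRingCat.ofHom (algebraMap R (FractionRing R))) ≫ x) p (Spec.map (CommRingCat.ofHom (algebraMap R (FractionRing R))) ≫ x) ι (𝟙 _) (𝟙 S) (Category.comp_id _) ((Category.comp_id _).trans (Category.id_comp _).symm)) t' := by
  haveI hj : IsOpenImmersion (Spec.map (CommRingCat.ofHom (algebraMap R (FractionRing R)))) :=
    isOpenImmersion_fractionRing R
  haveI hBc := isClosedImmersion_map p ι x
  haveI hDc := isClosedImmersion_map p ι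
    (Spec.map (CommRingCat.ofHom (algebraMap R (FractionRing R))) ≫ x)
  haveI hAq := quasiCompact_map_base (ι ≫ p) x
    (Spec.map (CommRingCat.ofHom (algebraMap R (FractionRing R))))
  refine main_abstract
    (pullback.map (ι ≫ p) (Spec.map (CommRingCat.ofHom (algebraMap R (FractionRing R))) ≫ x) (ι ≫ p) x (𝟙 Z) (Spec.map (CommRingCat.ofHom (algebraMap R (FractionRing R)))) (𝟙 S) ((Category.comp_id _).trans (Category.id_comp _).symm) (Category.comp_id _))
    (pullback.map (ι ≫ p) x p x ι (𝟙 _) (𝟙 S) (Category.comp_id _) ((Category.comp_id _).trans (Category.id_comp _).symm))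
    (pullback.map p (Spec.map (CommRingCat.ofHom (algebraMap R (FractionRing R))) ≫ x) p x (𝟙 X) (Spec.map (CommRingCat.ofHom (algebraMap R (FractionRing R)))) (𝟙 S) ((Category.comp_id _).trans (Category.id_comp _).symm) (Category.comp_id _))
    (pullback.map (ι ≫ p) (Spec.map (CommRingCat.ofHom (algebraMap R (FractionRing R))) ≫ x) p (Spec.map (CommRingCat.ofHom (algebraMap R (FractionRing R))) ≫ x) ι (𝟙 _) (𝟙 S) (Category.comp_id _) ((Category.comp_id _).trans (Category.id_comp _).symm))
    ?_ ?_ ?_ ?_ ?_ t
  · exact (Scheme.Hom.isClosedEmbedding _).injective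
  · exact (Scheme.Hom.isOpenEmbedding _).injective
  · exact (Scheme.Hom.isClosedEmbedding _).injective
  · apply pullback.hom_ext
    · simp only [pullback.map, Category.assoc, pullback.lift_fst, pullback.lift_fst_assoc,
        Category.comp_id, Category.id_comp]
    · simp only [pullback.map, Category.assoc, pullback.lift_snd, pullback.lift_snd_assoc,
        Category.comp_id, Category.id_comp]
  · intro z hz
    exact length_eq_top R _ (pullback.snd (ι ≫ p) x)
      (pullback.snd (ι ≫ p) (Spec.map (CommRingCat.ofHom (algebraMap R (FractionRing R))) ≫ x))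
      (by rw [pullback.map, pullback.lift_snd])
      (fun w hw => mem_range_map_base (ι ≫ p) x _ w hw) z hz

end main

end Groth.Agent.Lib.Helper8.CYd
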