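import Mathlib
import Groth.Prelude.Def_Cyc

set_option autoImplicit false
set_option linter.unusedVariables false
set_option linter.unusedSectionVars false
set_option linter.style.longLine false
set_option linter.style.haveILetI false

universe u

namespace Groth.Agent.Lib.Helper8.CZa

open AlgebraicGeometry CategoryTheory CategoryTheory.Limits

variable {X' Y : Scheme.{u}} (g : X' ⟶ Y)

/-- image under `g` of a point of `Spec O_{X',x}` whose prime contains `m_{g x} O_{X',x}` -/
theorem map_fromSpecStalk_of_le (x : X') (s : ↥(Spec (X'.presheaf.stalk x)))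
    (hle : Ideal.map (g.stalkMap x).hom (IsLocalRing.maximalIdeal (Y.presheaf.stalk (g x))) ≤
      PrimeSpectrum.asIdeal s) :
    g (X'.fromSpecStalk x s) = g x := by
  have h1 := Scheme.SpecMap_stalkMap_fromSpecStalk g (x := x)
  have h2 : g (X'.fromSpecStalk x s) = (X'.fromSpecStalk x ≫ g) s := by
    rw [Scheme.Hom.comp_apply]
  rw [h2, ← h1, Scheme.Hom.comp_apply]
  have h3 : Spec.map (g.stalkMap x) s = IsLocalRing.closedPoint (Y.presheaf.stalk (g x)) := by
    apply PrimeSpectrum.ext
    have hc : (IsLocalRing.maximalIdeal (Y.presheaf.stalk (g x))) ≤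
        (PrimeSpectrum.asIdeal s).comap (g.stalkMap x).hom :=
      Ideal.map_le_iff_le_comap.mp hle
    haveI : (PrimeSpectrum.asIdeal s).IsPrime := PrimeSpectrum.isPrime s
    have hprime : ((PrimeSpectrum.asIdeal s).comap (g.stalkMap x).hom).IsPrime :=
      Ideal.comap_isPrime _ _
    exact ((IsLocalRing.maximalIdeal.isMaximal _).eq_of_le hprime.ne_top hc).symm
  rw [h3, Scheme.fromSpecStalk_closedPoint]

/-- conversely -/
theorem le_of_map_fromSpecStalk (x : X') (s : ↥(Spec (X'.presheaf.stalk x)))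
    (h : g (X'.fromSpecStalk x s) = g x) :
    Ideal.map (g.stalkMap x).hom (IsLocalRing.maximalIdeal (Y.presheaf.stalk (g x))) ≤
      PrimeSpectrum.asIdeal s := by
  have h1 := Scheme.SpecMap_stalkMap_fromSpecStalk g (x := x)
  have h2 : g (X'.fromSpecStalk x s) = (X'.fromSpecStalk x ≫ g) s := by
    rw [Scheme.Hom.comp_apply]
  rw [h2, ← h1, Scheme.Hom.comp_apply] at h
  have hinj := (Y.fromSpecStalk (g x)).isEmbedding.injective
  have h3 : Spec.map (g.stalkMap x) s = IsLocalRing.closedPoint (Y.presheaf.stalk (g x)) := by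
    apply hinj
    rw [h, Scheme.fromSpecStalk_closedPoint]
  have h4 : (PrimeSpectrum.asIdeal s).comap (g.stalkMap x).hom =
      IsLocalRing.maximalIdeal (Y.presheaf.stalk (g x)) :=
    congrArg PrimeSpectrum.asIdeal h3
  rw [Ideal.map_le_iff_le_comap, h4]

theorem map_maximalIdeal_le (x : X') :
    Ideal.map (g.stalkMap x).hom (IsLocalRing.maximalIdeal (Y.presheaf.stalk (g x))) ≤
      IsLocalRing.maximalIdeal (X'.presheaf.stalk x) := by
  rw [Ideal.map_le_iff_le_comap]
  intro a ha
  rw [Ideal.mem_comap, IsLocalRing.mem_maximalIdeal, mem_nonunits_iff]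
  rw [IsLocalRing.mem_maximalIdeal, mem_nonunits_iff] at ha
  intro hu
  exact ha (isUnit_of_map_unit (g.stalkMap x).hom a hu)

/-- every point of `X'` has a generization in its `g`-fibre that is generic in the fibre -/
theorem exists_generic_in_fibre (x₀ : X') :
    ∃ y : X', g y = g x₀ ∧ (∀ y', g y' = g y → y' ⤳ y → y' = y) := by
  set J := Ideal.map (g.stalkMap x₀).hom (IsLocalRing.maximalIdeal (Y.presheaf.stalk (g x₀)))
    with hJ
  have hJle := map_maximalIdeal_le g x₀
  obtain ⟨q, hq, -⟩ := Ideal.exists_minimalPrimes_le hJle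
  have hqp : q.IsPrime := hq.1.1
  let s : ↥(Spec (X'.presheaf.stalk x₀)) := ⟨q, hqp⟩
  have hs : PrimeSpectrum.asIdeal s = q := rfl
  have hgy : g (X'.fromSpecStalk x₀ s) = g x₀ :=
    map_fromSpecStalk_of_le g x₀ s (by rw [hs]; exact hq.1.2)
  refine ⟨X'.fromSpecStalk x₀ s, hgy, ?_⟩
  intro y' hy' hspec
  have hyx : X'.fromSpecStalk x₀ s ⤳ x₀ := by
    have : X'.fromSpecStalk x₀ s ∈ Set.range (X'.fromSpecStalk x₀) := ⟨s, rfl⟩
    rw [Scheme.range_fromSpecStalk] at this
    exact this
  have hy'x : y' ∈ Set.range (X'.fromSpecStalk x₀) := by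
    rw [Scheme.range_fromSpecStalk]
    exact hspec.trans hyx
  obtain ⟨s', rfl⟩ := hy'x
  have hle' := le_of_map_fromSpecStalk g x₀ s' (hy'.trans hgy)
  have hss : s' ⤳ s := (X'.fromSpecStalk x₀).isEmbedding.specializes_iff.mp hspec
  have hle2 : PrimeSpectrum.asIdeal s' ≤ PrimeSpectrum.asIdeal s :=
    (PrimeSpectrum.le_iff_specializes s' s).mpr hss
  have hmin : q ≤ PrimeSpectrum.asIdeal s' := hq.2 ⟨s'.isPrime, hle'⟩ (by rw [← hs]; exact hle2)
  have : s' = s := PrimeSpectrum.ext (le_antisymm hle2 (by rw [hs]; exact hmin))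
  rw [this]

/-- at a point generic in its fibre, the local ring of the fibre has finite nonzero length -/
theorem length_toNat_ne_zero [IsLocallyNoetherian X'] (y : X')
    (hy : ∀ y', g y' = g y → y' ⤳ y → y' = y) :
    (Module.length (X'.presheaf.stalk y)
      (X'.presheaf.stalk y ⧸ Ideal.map (g.stalkMap y).hom
        (IsLocalRing.maximalIdeal (Y.presheaf.stalk (g y))))).toNat ≠ 0 := by
  set K := Ideal.map (g.stalkMap y).hom (IsLocalRing.maximalIdeal (Y.presheaf.stalk (g y)))
    with hK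
  have hKle : K ≤ IsLocalRing.maximalIdeal (X'.presheaf.stalk y) := map_maximalIdeal_le g y
  have hmin : IsLocalRing.maximalIdeal (X'.presheaf.stalk y) ∈ K.minimalPrimes := by
    refine ⟨⟨(IsLocalRing.maximalIdeal.isMaximal _).isPrime, hKle⟩, ?_⟩
    rintro P ⟨hPp, hPK⟩ hPle
    let t : ↥(Spec (X'.presheaf.stalk y)) := ⟨P, hPp⟩
    have ht : PrimeSpectrum.asIdeal t = P := rfl
    have h1 : g (X'.fromSpecStalk y t) = g y := map_fromSpecStalk_of_le g y t (by rw [ht]; exact hPK)
    have h2 : X'.fromSpecStalk y t ⤳ y := by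
      have : X'.fromSpecStalk y t ∈ Set.range (X'.fromSpecStalk y) := ⟨t, rfl⟩
      rw [Scheme.range_fromSpecStalk] at this
      exact this
    have h3 := hy _ h1 h2
    have h4 : t = IsLocalRing.closedPoint (X'.presheaf.stalk y) := by
      apply (X'.fromSpecStalk y).isEmbedding.injective
      rw [h3, Scheme.fromSpecStalk_closedPoint]
    have h5 : P = IsLocalRing.maximalIdeal (X'.presheaf.stalk y) := by
      rw [← ht, h4]; rfl
    rw [h5]
  haveI : IsArtinianRing (X'.presheaf.stalk y ⧸ K) :=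
    IsLocalRing.quotient_artinian_of_mem_minimalPrimes_of_isLocalRing K hmin
  have hfin : Module.length (X'.presheaf.stalk y) (X'.presheaf.stalk y ⧸ K) ≠ ⊤ := by
    rw [Module.length_ne_top_iff, isFiniteLength_iff_isNoetherian_isArtinian]
    exact ⟨isNoetherian_quotient K,
      isArtinian_of_surjective_algebraMap (Ideal.Quotient.mk_surjective (I := K))⟩
  have hKtop : K ≠ ⊤ := fun h => by
    rw [h] at hKle
    exact (IsLocalRing.maximalIdeal.isMaximal (X'.presheaf.stalk y)).ne_top (top_le_iff.mp hKle)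
  haveI : Nontrivial (X'.presheaf.stalk y ⧸ K) := Ideal.Quotient.nontrivial_iff.mpr hKtop
  have hpos : Module.length (X'.presheaf.stalk y) (X'.presheaf.stalk y ⧸ K) ≠ 0 :=
    (Module.length_pos (R := X'.presheaf.stalk y) (M := X'.presheaf.stalk y ⧸ K)).ne'
  intro h0
  rcases (ENat.toNat_eq_zero).mp h0 with h | h
  · exact hpos h
  · exact hfin h

/-- a nonzero coefficient at a point of the image gives a nonzero pullback coefficient -/
theorem pullFun_ne_zero_of_mem_range [IsLocallyNoetherian X'] (δ' : X' → ℤ) (δ : Y → ℤ)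
    (hshift : ∀ x : X', (∀ y, g y = g x → y ⤳ x → y = x) → δ' x = δ (g x))
    (α : Y → ℤ) (z : Y) (hz : z ∈ Set.range g) (hαz : α z ≠ 0) :
    Cyc.pullFun g δ' δ 0 α ≠ 0 := by
  obtain ⟨x₀, rfl⟩ := hz
  obtain ⟨y, hgy, hy⟩ := exists_generic_in_fibre g x₀
  intro h0
  have h1 := congrFun h0 y
  have hδ : δ' y = δ (g y) + 0 := by rw [add_zero]; exact hshift y hy
  unfold Cyc.pullFun at h1
  simp only [Pi.zero_apply] at h1
  rw [if_pos hδ] at h1
  rcases mul_eq_zero.mp h1 with h | h
  · rw [hgy] at h; exact hαz h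
  · exact length_toNat_ne_zero g y hy (by exact_mod_cast h)

end Groth.Agent.Lib.Helper8.CZa
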