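import Mathlib
import Groth.Prelude.Def_Cyc
import Groth.Agent.Lib.Helper8.CZa

set_option autoImplicit false
set_option linter.unusedVariables false
set_option linter.unusedSectionVars false
set_option linter.style.longLine false
set_option linter.style.haveILetI false

universe u

namespace Groth.Agent.Lib.Helper8.CZb

open AlgebraicGeometry CategoryTheory CategoryTheory.Limits

/-- a finite set of points missed by the limit projection (flat) is missed by a transition map -/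
theorem exists_map_not_mem (I : Type u) [Preorder I] [IsDirected I (fun a b => a ≤ b)] [Nonempty I]
    (D : Iᵒᵖ ⥤ Scheme.{u}) (c : Limits.Cone D) (hc : Limits.IsLimit c)
    (haff : ∀ (i j : Iᵒᵖ) (f : i ⟶ j), IsAffineHom (D.map f))
    (hqc : ∀ i, CompactSpace ↥(D.obj i)) (i : Iᵒᵖ) (hflat' : Flat (c.π.app i))
    (S : Set ↥(D.obj i)) (hS : S.Finite) (hSr : ∀ z ∈ S, z ∉ Set.range (c.π.app i)) :
    ∃ (j : Iᵒᵖ) (f : j ⟶ i), ∀ x : ↥(D.obj j), D.map f x ∉ S := by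
  haveI : ∀ {a b : Iᵒᵖ} (f : a ⟶ b), IsAffineHom (D.map f) := fun f => haff _ _ f
  haveI : ∀ a, CompactSpace ↥(D.obj a) := hqc
  let U : (D.obj i).Opens := ⟨(closure S)ᶜ, isClosed_closure.isOpen_compl⟩
  have hstab : StableUnderGeneralization (Set.range (c.π.app i)) :=
    (Flat.generalizingMap (c.π.app i)).stableUnderGeneralization_range
  have hcl : ∀ y, y ∈ closure S → ∃ z ∈ S, z ⤳ y := by
    intro y hy
    have h1 : S = ⋃ z ∈ S, ({z} : Set ↥(D.obj i)) := (Set.biUnion_of_singleton S).symm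
    rw [h1, hS.closure_biUnion] at hy
    simp only [Set.mem_iUnion] at hy
    obtain ⟨z, hz, hyz⟩ := hy
    exact ⟨z, hz, specializes_iff_mem_closure.mpr hyz⟩
  have hU : c.π.app i ⁻¹ᵁ U = ⊤ := by
    ext x
    simp only [TopologicalSpace.Opens.coe_top, Set.mem_univ, iff_true]
    change c.π.app i x ∈ (closure S)ᶜ
    intro hx
    obtain ⟨z, hz, hzx⟩ := hcl _ hx
    exact hSr z hz (hstab hzx ⟨x, rfl⟩)
  obtain ⟨j, f, hj⟩ := exists_map_eq_top D c hc U hU
  refine ⟨j, f, ?_⟩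
  intro x hx
  have h1 : x ∈ D.map f ⁻¹ᵁ U := by rw [hj]; trivial
  have h2 : D.map f x ∈ (closure S)ᶜ := h1
  exact h2 (subset_closure hx)

open Cyc in
theorem main (I : Type u) [Preorder I] [IsDirected I (fun a b => a ≤ b)] [Nonempty I] (D : Iᵒᵖ ⥤ Scheme.{u}) (c : Limits.Cone D) (hc : Limits.IsLimit c) (haff : ∀ (i j : Iᵒᵖ) (f : i ⟶ j), IsAffineHom (D.map f)) (hflat : ∀ (i j : Iᵒᵖ) (f : i ⟶ j), Flat (D.map f)) (hqc : ∀ i, CompactSpace ↥(D.obj i)) (δ : (i : Iᵒᵖ) → ↥(D.obj i) → ℤ) (δ' : ↥c.pt → ℤ) (hset : ∀ i, Cyc.IsSetup (D.obj i) (δ i)) (hset' : Cyc.IsSetup c.pt δ') (hshift : ∀ (i j : Iᵒᵖ) (f : i ⟶ j) (x : ↥(D.obj i)), (∀ y, D.map f y = D.map f x → y ⤳ x → y = x) → δ i x = δ j (D.map f x)) (hflat' : ∀ i, Flat (c.π.app i)) (hshift' : ∀ (i : Iᵒᵖ) (x : ↥c.pt), (∀ y, c.π.app i y = c.π.app i x → y ⤳ x → y = x) → δ' x = δ i (c.π.app i x)) (k : ℤ) (i : Iᵒᵖ) (α : AlgebraicCycle (D.obj i) ℤ) (hα : α ∈ Cyc.Zk (D.obj i)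 (δ i) k) (h0 : Cyc.pullFun (c.π.app i) δ' (δ i) 0 ⇑α = 0) : ∃ (j : Iᵒᵖ) (f : j ⟶ i), Cyc.pullFun (D.map f) (δ j) (δ i) 0 ⇑α = 0 := by
  haveI : IsLocallyNoetherian c.pt := hset'.1
  haveI : CompactSpace ↥(D.obj i) := hqc i
  have hfin : (Function.support (⇑α)).Finite := by
    have := (Function.locallyFinsupp.locallyFiniteSupport α).finite_inter_support_of_isCompact
      (W := Set.univ) isCompact_univ
    simpa using this
  have hSr : ∀ z ∈ Function.support (⇑α), z ∉ Set.range (c.π.app i) := by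
    intro z hz hzr
    exact CZa.pullFun_ne_zero_of_mem_range (X' := c.pt) (Y := D.obj i) (c.π.app i) δ' (δ i)
      (hshift' i) (⇑α) z hzr hz h0
  obtain ⟨j, f, hj⟩ := exists_map_not_mem I D c hc haff hqc i (hflat' i) _ hfin hSr
  refine ⟨j, f, ?_⟩
  funext x
  have hx : α (D.map f x) = 0 := by
    by_contra h
    exact hj x h
  unfold Cyc.pullFun
  simp only [Pi.zero_apply]
  split_ifs
  · rw [hx, zero_mul]
  · rfl

end Groth.Agent.Lib.Helper8.CZb
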