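import Mathlib
import Groth.Prelude.Def_Cyc
import Groth.Agent.Lib.Helper8.CZa

set_option autoImplicit false
set_option linter.unusedVariables false
set_option linter.unusedSectionVars false
set_option linter.style.longLine false
set_option linter.style.haveILetI false

universe u

namespace Groth.Agent.Lib.Helper8.CZc

open AlgebraicGeometry CategoryTheory CategoryTheory.Limits

variable {I : Type u} [Category.{u} I] (D : I ⥤ Scheme.{u}) (c : Cone D) (hc : IsLimit c)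

include hc in
set_option backward.defeqAttrib.useBackward true in
set_option backward.isDefEq.respectTransparency false in
open Scheme.Opens in
/-- sections of the limit over the preimage of an affine open come from a finite stage -/
theorem exists_appLE_eq [IsCofiltered I] [∀ {i j} (f : i ⟶ j), IsAffineHom (D.map f)]
    (i : I) (V : (D.obj i).Opens) (hV : IsAffineOpen V) (r : Γ(c.pt, c.π.app i ⁻¹ᵁ V)) :
    ∃ (j : I) (f : j ⟶ i) (s : Γ(D.obj j, D.map f ⁻¹ᵁ V))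
      (h : c.π.app i ⁻¹ᵁ V ≤ c.π.app j ⁻¹ᵁ D.map f ⁻¹ᵁ V),
      r = (c.π.app j).appLE (D.map f ⁻¹ᵁ V) (c.π.app i ⁻¹ᵁ V) h s := by
  have (j : _) : IsAffine ((opensDiagram D i V).op.obj j).unop := hV.preimage _
  have (j : _) : IsAffine ((opensDiagram D i V).obj j) := hV.preimage _
  obtain ⟨⟨j⟩, s, hs⟩ := (Types.jointly_surjective_of_isColimit (isColimitOfPreserves
    (Scheme.Γ ⋙ forget _) (isLimitOpensCone D c hc i V).op) ((c.π.app i ⁻¹ᵁ V).topIso.inv r))
  obtain ⟨s, rfl⟩ := (D.map j.hom ⁻¹ᵁ V).topIso.symm.commRingCatIsoToRingEquiv.surjective s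
  have h : c.π.app j.left ⁻¹ᵁ D.map j.hom ⁻¹ᵁ V = c.π.app i ⁻¹ᵁ V := congr($(c.w j.hom) ⁻¹ᵁ V)
  have : r = (c.π.app j.left).appLE (D.map j.hom ⁻¹ᵁ V) (c.π.app i ⁻¹ᵁ V) h.ge s := by
    convert!
      show r = ((topIso _).inv ≫ ((opensCone D c i V).π.app j).appTop ≫ (topIso _).hom) s from
        (c.π.app i ⁻¹ᵁ V).topIso.commRingCatIsoToRingEquiv.symm_apply_eq.mp hs.symm using 3
    simp [Scheme.Hom.app_eq_appLE, Scheme.Hom.resLE_appLE]
  exact ⟨j.left, j.hom, s, h.ge, this⟩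

include hc in
/-- germs of the limit come from a finite stage -/
theorem exists_stalkMap_eq [IsCofiltered I] [∀ {i j} (f : i ⟶ j), IsAffineHom (D.map f)]
    (x : c.pt) (a : c.pt.presheaf.stalk x) :
    ∃ (j : I) (b : (D.obj j).presheaf.stalk (c.π.app j x)),
      ((c.π.app j).stalkMap x).hom b = a := by
  obtain ⟨U, hxU, s, rfl⟩ := TopCat.Presheaf.exists_germ_eq c.pt.presheaf a
  obtain ⟨_, ⟨i, V, hV, rfl⟩, hxV, hVU⟩ :=
    TopologicalSpace.Opens.isBasis_iff_nbhd.mp (isBasis_preimage_isAffineOpen D c hc) hxU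
  obtain ⟨j, f, t, h, hr⟩ := exists_appLE_eq D c hc i V hV (c.pt.presheaf.map (homOfLE hVU).op s)
  have hxW : c.π.app j x ∈ D.map f ⁻¹ᵁ V := h hxV
  refine ⟨j, (D.obj j).presheaf.germ _ (c.π.app j x) hxW t, ?_⟩
  have h1 := Scheme.Hom.germ_stalkMap_apply (c.π.app j) (D.map f ⁻¹ᵁ V) x hxW t
  have h2 : c.pt.presheaf.germ (c.π.app i ⁻¹ᵁ V) x hxV (c.pt.presheaf.map (homOfLE hVU).op s) =
      c.pt.presheaf.germ U x hxU s := TopCat.Presheaf.germ_res_apply _ _ _ _ _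
  have h3 : c.pt.presheaf.germ (c.π.app i ⁻¹ᵁ V) x hxV
      ((c.π.app j).appLE (D.map f ⁻¹ᵁ V) (c.π.app i ⁻¹ᵁ V) h t) =
      c.pt.presheaf.germ (c.π.app j ⁻¹ᵁ D.map f ⁻¹ᵁ V) x hxW ((c.π.app j).app _ t) := by
    rw [Scheme.Hom.appLE, CommRingCat.comp_apply]
    exact TopCat.Presheaf.germ_res_apply _ _ _ _ _
  rw [← h2, hr, h3]
  exact h1

end Groth.Agent.Lib.Helper8.CZc
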