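import Mathlib
import Groth.Prelude.Def_Cyc
import Groth.Agent.Lib.Helper8.CZa
import Groth.Agent.Lib.Helper8.CZc

set_option autoImplicit false
set_option linter.unusedVariables false
set_option linter.unusedSectionVars false
set_option linter.style.longLine false
set_option linter.style.haveILetI false

universe u

namespace Groth.Agent.Lib.Helper8.CZd

open AlgebraicGeometry CategoryTheory CategoryTheory.Limits

/-- finite combination of eventually-true properties in a cofiltered category -/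
theorem exists_forall_of_finset {C : Type*} [Category C] [IsCofiltered C] {T : Type*}
    (S : Finset T) (P : T → C → Prop)
    (h : ∀ t ∈ S, ∃ i, ∀ (j : C) (f : j ⟶ i), P t j) :
    ∃ i, ∀ (j : C) (f : j ⟶ i), ∀ t ∈ S, P t j := by
  classical
  induction S using Finset.induction_on with
  | empty => exact ⟨IsCofiltered.nonempty.some, fun j f t ht => absurd ht (Finset.notMem_empty t)⟩
  | insert a S ha ih =>
    obtain ⟨i₁, h₁⟩ := ih (fun t ht => h t (Finset.mem_insert_of_mem ht))
    obtain ⟨i₂, h₂⟩ := h a (Finset.mem_insert_self a S)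
    refine ⟨IsCofiltered.min i₁ i₂, fun j f t ht => ?_⟩
    rcases Finset.mem_insert.mp ht with rfl | ht
    · exact h₂ j (f ≫ IsCofiltered.minToRight i₁ i₂)
    · exact h₁ j (f ≫ IsCofiltered.minToLeft i₁ i₂) t ht

theorem exists_forall_of_finite {C : Type*} [Category C] [IsCofiltered C] {T : Type*}
    (S : Set T) (hS : S.Finite) (P : T → C → Prop)
    (h : ∀ t ∈ S, ∃ i, ∀ (j : C) (f : j ⟶ i), P t j) :
    ∃ i, ∀ (j : C) (f : j ⟶ i), ∀ t ∈ S, P t j := by
  obtain ⟨i, hi⟩ := exists_forall_of_finset hS.toFinset P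
    (fun t ht => h t (hS.mem_toFinset.mp ht))
  exact ⟨i, fun j f t ht => hi j f t (hS.mem_toFinset.mpr ht)⟩

/-- monotonicity of `m_{p x} O_{X',x}` along a factorization -/
theorem mem_map_maximalIdeal_of_comp {X' Xj Xi : Scheme.{u}} (p : X' ⟶ Xj) (f : Xj ⟶ Xi)
    (q : X' ⟶ Xi) (hq : p ≫ f = q) (x : X') (a : X'.presheaf.stalk x)
    (ha : a ∈ Ideal.map (q.stalkMap x).hom
      (IsLocalRing.maximalIdeal (Xi.presheaf.stalk (q x)))) :
    a ∈ Ideal.map (p.stalkMap x).hom (IsLocalRing.maximalIdeal (Xj.presheaf.stalk (p x))) := by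
  subst hq
  refine (Ideal.map_le_iff_le_comap.mpr ?_) ha
  intro b hb
  rw [Ideal.mem_comap]
  have h1 : ((p ≫ f).stalkMap x).hom b = (p.stalkMap x).hom ((f.stalkMap (p x)).hom b) := by
    have := Scheme.Hom.stalkMap_comp p f x
    exact congrArg (fun g => g.hom b) this
  rw [h1]
  apply Ideal.mem_map_of_mem
  have hb' : b ∈ IsLocalRing.maximalIdeal (Xi.presheaf.stalk (f (p x))) := hb
  exact (CZa.map_maximalIdeal_le f (p x)) (Ideal.mem_map_of_mem _ hb')

variable {I : Type u} [Category.{u} I] (D : I ⥤ Scheme.{u}) (c : Cone D) (hc : IsLimit c)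

theorem w_apply {i j : I} (f : j ⟶ i) (y : c.pt) : D.map f (c.π.app j y) = c.π.app i y := by
  rw [← Scheme.Hom.comp_apply, c.w]

include hc in
/-- eventually `m_{g_j x} O_{X',x} = m_x` -/
theorem exists_map_maximalIdeal_eq [IsCofiltered I] [∀ {i j} (f : i ⟶ j), IsAffineHom (D.map f)]
    (x : c.pt) [IsNoetherianRing (c.pt.presheaf.stalk x)] :
    ∃ i, ∀ (j : I) (f : j ⟶ i), Ideal.map ((c.π.app j).stalkMap x).hom
      (IsLocalRing.maximalIdeal ((D.obj j).presheaf.stalk (c.π.app j x))) =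
      IsLocalRing.maximalIdeal (c.pt.presheaf.stalk x) := by
  obtain ⟨S, hS⟩ := (isNoetherianRing_iff_ideal_fg _).mp inferInstance
    (IsLocalRing.maximalIdeal (c.pt.presheaf.stalk x))
  have key : ∀ a ∈ S, ∃ i, ∀ (j : I) (f : j ⟶ i), a ∈ Ideal.map ((c.π.app j).stalkMap x).hom
      (IsLocalRing.maximalIdeal ((D.obj j).presheaf.stalk (c.π.app j x))) := by
    intro a haS
    have ham : a ∈ IsLocalRing.maximalIdeal (c.pt.presheaf.stalk x) := by
      rw [← hS]; exact Ideal.subset_span haS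
    obtain ⟨j₀, b, hb⟩ := CZc.exists_stalkMap_eq D c hc x a
    have hbm : b ∈ IsLocalRing.maximalIdeal ((D.obj j₀).presheaf.stalk (c.π.app j₀ x)) := by
      rw [IsLocalRing.mem_maximalIdeal, mem_nonunits_iff]
      intro hu
      rw [IsLocalRing.mem_maximalIdeal, mem_nonunits_iff] at ham
      exact ham (hb ▸ hu.map _)
    refine ⟨j₀, fun j f => ?_⟩
    apply mem_map_maximalIdeal_of_comp (c.π.app j) (D.map f) (c.π.app j₀) (c.w f) x a
    rw [← hb]
    exact Ideal.mem_map_of_mem _ hbm
  obtain ⟨i, hi⟩ := exists_forall_of_finset S (fun a j => a ∈ Ideal.map ((c.π.app j).stalkMap x).hom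
      (IsLocalRing.maximalIdeal ((D.obj j).presheaf.stalk (c.π.app j x)))) key
  refine ⟨i, fun j f => le_antisymm (CZa.map_maximalIdeal_le _ x) ?_⟩
  rw [← hS, Ideal.span_le]
  intro a ha
  exact hi j f a ha

include hc in
/-- eventually the closure of `x` is the preimage of the closure of its image -/
theorem exists_specializes_of_map [IsCofiltered I] [∀ {i j} (f : i ⟶ j), IsAffineHom (D.map f)]
    [TopologicalSpace.NoetherianSpace c.pt] (x : c.pt) :
    ∃ i, ∀ (j : I) (f : j ⟶ i), ∀ y : c.pt, c.π.app j x ⤳ c.π.app j y → x ⤳ y := by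
  let U : c.pt.Opens := ⟨(closure {x})ᶜ, isClosed_closure.isOpen_compl⟩
  have hU : IsCompact (U : Set c.pt) := TopologicalSpace.NoetherianSpace.isCompact _
  obtain ⟨i, V, -, hVU⟩ := exists_preimage_eq D c hc U hU
  refine ⟨i, fun j f y hy => ?_⟩
  by_contra hxy
  have hyU : y ∈ U := by
    change y ∈ (closure {x})ᶜ
    intro h
    exact hxy (specializes_iff_mem_closure.mpr h)
  rw [← hVU] at hyU
  have hyV : c.π.app i y ∈ V := hyU
  have h1 : c.π.app i x ⤳ c.π.app i y := by
    have := hy.map (D.map f).continuous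
    rwa [w_apply, w_apply] at this
  have h2 : c.π.app i x ∈ V := h1.mem_open V.isOpen hyV
  have h3 : x ∈ c.π.app i ⁻¹ᵁ V := h2
  rw [hVU] at h3
  exact h3 (subset_closure rfl)

theorem length_quot_toNat_eq_one {R : Type*} [CommRing R] [IsLocalRing R] (J : Ideal R)
    (hJ : J = IsLocalRing.maximalIdeal R) : (Module.length R (R ⧸ J)).toNat = 1 := by
  subst hJ
  have : IsSimpleModule R (R ⧸ IsLocalRing.maximalIdeal R) := by
    rw [isSimpleModule_iff_isCoatom, ← Ideal.isMaximal_def]
    exact IsLocalRing.maximalIdeal.isMaximal R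
  rw [Module.length_eq_one_iff.mpr this]
  rfl

end Groth.Agent.Lib.Helper8.CZd
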