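import Mathlib
import Groth.Prelude.Def_Cyc
import Groth.Agent.Lib.Helper8.CZa
import Groth.Agent.Lib.Helper8.CZc
import Groth.Agent.Lib.Helper8.CZd

set_option autoImplicit false
set_option linter.unusedVariables false
set_option linter.unusedSectionVars false
set_option linter.style.longLine false
set_option linter.style.haveILetI false

universe u

namespace Groth.Agent.Lib.Helper8.CZe

open AlgebraicGeometry CategoryTheory CategoryTheory.Limits

open Cyc in
theorem main (I : Type u) [Preorder I] [IsDirected I (fun a b => a ≤ b)] [Nonempty I] (D : Iᵒᵖ ⥤ Scheme.{u}) (c : Limits.Cone D) (hc : Limits.IsLimit c) (haff : ∀ (i j : Iᵒᵖ) (f : i ⟶ j), IsAffineHom (D.map f)) (hflat : ∀ (i j : Iᵒᵖ) (f : i ⟶ j), Flat (D.map f)) (hqc : ∀ i, CompactSpace ↥(D.obj i)) (δ : (i : Iᵒᵖ) → ↥(D.obj i) → ℤ) (δ' : ↥c.pt → ℤ) (hset : ∀ i, Cyc.IsSetup (D.obj i) (δ i)) (hset' : Cyc.IsSetup c.pt δ') (hshift : ∀ (i j : Iᵒᵖ) (f : i ⟶ j) (x : ↥(D.obj i)), (∀ y, D.map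 f y = D.map f x → y ⤳ x → y = x) → δ i x = δ j (D.map f x)) (hflat' : ∀ i, Flat (c.π.app i)) (hshift' : ∀ (i : Iᵒᵖ) (x : ↥c.pt), (∀ y, c.π.app i y = c.π.app i x → y ⤳ x → y = x) → δ' x = δ i (c.π.app i x)) (k : ℤ) (α' : AlgebraicCycle c.pt ℤ) (hα' : α' ∈ Cyc.Zk c.pt δ' k) : ∃ (i : Iᵒᵖ) (α : AlgebraicCycle (D.obj i) ℤ), α ∈ Cyc.Zk (D.obj i) (δ i) k ∧ Cyc.pullFun (c.π.app i) δ' (δ i) 0 ⇑α = ⇑α' := by
  classical
  haveI : ∀ {a b : Iᵒᵖ} (f : a ⟶ b), IsAffineHom (D.map f) := fun f => haff _ _ f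
  haveI : ∀ a, CompactSpace ↥(D.obj a) := hqc
  haveI : IsLocallyNoetherian c.pt := hset'.1
  haveI : CompactSpace ↥c.pt := Scheme.compactSpace_of_isLimit D c hc
  haveI : IsNoetherian c.pt := {}
  haveI : TopologicalSpace.NoetherianSpace ↥c.pt := inferInstance
  have hdim := hset'.2.2
  have hfin : (Function.support (⇑α')).Finite := by
    have := (Function.locallyFinsupp.locallyFiniteSupport α').finite_inter_support_of_isCompact
      (W := Set.univ) isCompact_univ
    simpa using this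
  have hA : ∀ x ∈ Function.support (⇑α'), ∃ i, ∀ (j : Iᵒᵖ) (f : j ⟶ i),
      (∀ y : ↥c.pt, c.π.app j x ⤳ c.π.app j y → x ⤳ y) ∧
      Ideal.map ((c.π.app j).stalkMap x).hom
        (IsLocalRing.maximalIdeal ((D.obj j).presheaf.stalk (c.π.app j x))) =
        IsLocalRing.maximalIdeal (c.pt.presheaf.stalk x) := by
    intro x _
    obtain ⟨i₁, h₁⟩ := CZd.exists_specializes_of_map D c hc x
    obtain ⟨i₂, h₂⟩ := CZd.exists_map_maximalIdeal_eq D c hc x
    exact ⟨IsCofiltered.min i₁ i₂, fun j f => ⟨h₁ j (f ≫ IsCofiltered.minToLeft _ _),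
      h₂ j (f ≫ IsCofiltered.minToRight _ _)⟩⟩
  obtain ⟨i, hi⟩ := CZd.exists_forall_of_finite (Function.support (⇑α')) hfin
    (fun (x : ↥c.pt) (j : Iᵒᵖ) => (∀ y : ↥c.pt, c.π.app j x ⤳ c.π.app j y → x ⤳ y) ∧
      Ideal.map ((c.π.app j).stalkMap x).hom
        (IsLocalRing.maximalIdeal ((D.obj j).presheaf.stalk (c.π.app j x))) =
        IsLocalRing.maximalIdeal (c.pt.presheaf.stalk x)) hA
  have hi' := hi i (𝟙 i)
  have hgen : ∀ x ∈ Function.support (⇑α'), ∀ y : ↥c.pt, c.π.app i y = c.π.app i x → y ⤳ x → y = x := by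
    intro x hx y hy hyx
    have h1 : x ⤳ y := (hi' x hx).1 y (by rw [hy])
    exact ((h1.antisymm hyx).eq).symm
  have hδx : ∀ x ∈ Function.support (⇑α'), δ' x = δ i (c.π.app i x) :=
    fun x hx => hshift' i x (hgen x hx)
  have hinj : ∀ x ∈ Function.support (⇑α'), ∀ x₂ ∈ Function.support (⇑α'),
      c.π.app i x₂ = c.π.app i x → x₂ = x := by
    intro x hx x₂ hx₂ h
    have h1 : x ⤳ x₂ := (hi' x hx).1 x₂ (by rw [h])
    have h2 : x₂ ⤳ x := (hi' x₂ hx₂).1 x (by rw [h])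
    exact ((h1.antisymm h2).eq).symm
  let αf : ↥(D.obj i) → ℤ := fun z =>
    if h : ∃ x ∈ Function.support (⇑α'), c.π.app i x = z then α' h.choose else 0
  have hαf_supp : ∀ z, αf z ≠ 0 → ∃ x ∈ Function.support (⇑α'), c.π.app i x = z := by
    intro z hz
    by_contra h
    apply hz
    simp only [αf, dif_neg h]
  have hαf_val : ∀ x ∈ Function.support (⇑α'), αf (c.π.app i x) = α' x := by
    intro x hx
    have h : ∃ x₂ ∈ Function.support (⇑α'), c.π.app i x₂ = c.π.app i x := ⟨x, hx, rfl⟩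
    simp only [αf, dif_pos h]
    rw [hinj x hx _ h.choose_spec.1 h.choose_spec.2]
  have hsuppfin : (Function.support αf).Finite := by
    refine (hfin.image (fun x => c.π.app i x)).subset ?_
    intro z hz
    obtain ⟨x, hx, rfl⟩ := hαf_supp z hz
    exact ⟨x, hx, rfl⟩
  let α : AlgebraicCycle (D.obj i) ℤ := ⟨αf, fun _ _ => Set.mem_univ _,
    fun z _ => ⟨Set.univ, Filter.univ_mem, hsuppfin.subset Set.inter_subset_right⟩⟩
  have hαcoe : ∀ z, α z = αf z := fun z => rfl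
  refine ⟨i, α, ?_, ?_⟩
  · intro z hz
    by_contra hne
    rw [hαcoe] at hne
    obtain ⟨x, hx, rfl⟩ := hαf_supp z hne
    have hxk : δ' x = k := by
      by_contra h
      exact hx (hα' x h)
    exact hz (by rw [← hδx x hx, hxk])
  · funext x
    unfold Cyc.pullFun
    by_cases hx : x ∈ Function.support (⇑α')
    · rw [if_pos (by rw [add_zero]; exact hδx x hx)]
      rw [hαcoe, hαf_val x hx, CZd.length_quot_toNat_eq_one _ (hi' x hx).2]
      simp
    · have hx0 : α' x = 0 := by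
        by_contra h
        exact hx h
      rw [hx0]
      split_ifs with hδ
      · have h0 : αf (c.π.app i x) = 0 := by
          by_contra hne
          obtain ⟨x₂, hx₂, hgx⟩ := hαf_supp _ hne
          have h1 : x₂ ⤳ x := (hi' x₂ hx₂).1 x (by rw [hgx])
          have hne' : x₂ ≠ x := fun h => hx (h ▸ hx₂)
          have hlt := (hdim x₂ x h1 hne').1
          have h2 := hδx x₂ hx₂
          rw [hgx] at h2
          rw [add_zero] at hδ
          omega
        rw [hαcoe, h0, zero_mul]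
      · rfl

end Groth.Agent.Lib.Helper8.CZe
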