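import Mathlib
import Groth.Prelude.Def_W4c2conddiscmodels

set_option autoImplicit false
set_option linter.unusedSectionVars false
set_option backward.isDefEq.respectTransparency.types false

/-!
# Cartier functions on a labelled multigraph are spanned by elementary Cartier functions
-/

universe u

namespace Groth.Agent.Lib.Helper8.Cart

open Finset

variable {V E : Type u} [Fintype V] [Fintype E] [DecidableEq V] [DecidableEq E]
variable (ends : E → V × V)

/-- the set of elementary Cartier functions for the labelling `l` -/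
def El (l : E → ℕ) : Set (V → ℤ) :=
  {g | ∃ n : ℕ, 0 < n ∧ (∀ v, (n : ℤ) ∣ g v) ∧ ∀ e, ¬ (l e ∣ n) → g (ends e).1 = g (ends e).2}

/-- vertices joined by a chain of edges whose label is divisible by `p` -/
def pSetoid (l : E → ℕ) (p : ℕ) : Setoid V :=
  ⟨Relation.EqvGen (fun a b => ∃ e, p ∣ l e ∧ ends e = (a, b)), Relation.EqvGen.is_equivalence _⟩

lemma dvd_sub_of_rel {l : E → ℕ} {p : ℕ} {f : V → ℤ} (hf : LabGraph.IsCartier ends l f) {a b : V}
    (h : (pSetoid ends l p).r a b) : (p : ℤ) ∣ f a - f b := by
  induction h with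
  | rel a b h =>
    obtain ⟨e, hpe, he⟩ := h
    have := hf e
    rw [he] at this
    exact (Int.natCast_dvd_natCast.2 hpe).trans this
  | refl a => simp
  | symm a b _ ih => rw [← neg_sub]; exact (dvd_neg).2 ih
  | trans a b c _ _ ih1 ih2 =>
    have : f a - f c = (f a - f b) + (f b - f c) := by ring
    rw [this]; exact dvd_add ih1 ih2

/-- multiplying an elementary function for `l'` by `p` gives an elementary function for `l` -/
lemma smul_mem_El {l l' : E → ℕ} {p : ℕ} (hp : 0 < p)
    (hl' : ∀ e, l' e = if p ∣ l e then l e / p else l e) {g : V → ℤ} (hg : g ∈ El ends l') :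
    (p : ℤ) • g ∈ El ends l := by
  obtain ⟨n, hn, hdiv, hconst⟩ := hg
  refine ⟨p * n, Nat.mul_pos hp hn, ?_, ?_⟩
  · intro v
    simp only [Pi.smul_apply, smul_eq_mul, Nat.cast_mul]
    exact mul_dvd_mul_left _ (hdiv v)
  · intro e he
    simp only [Pi.smul_apply, smul_eq_mul]
    congr 1
    apply hconst e
    intro hdvd
    apply he
    rw [hl' e] at hdvd
    split_ifs at hdvd with hpl
    · obtain ⟨m, hm⟩ := hpl
      rw [hm, Nat.mul_div_cancel_left _ hp] at hdvd
      rw [hm]
      exact Nat.mul_dvd_mul_left p hdvd
    · exact hdvd.trans (Dvd.intro_left p rfl)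

theorem mem_span_El : ∀ N : ℕ, 0 < N → ∀ l : E → ℕ, (∀ e, l e ∣ N) → ∀ f : V → ℤ,
    LabGraph.IsCartier ends l f → f ∈ Submodule.span ℤ (El ends l) := by
  intro N
  induction N using Nat.strong_induction_on with
  | _ N ih =>
    intro hN l hlN f hf
    by_cases hN1 : N = 1
    · subst hN1
      refine Submodule.subset_span ⟨1, Nat.one_pos, fun v => by simp, ?_⟩
      intro e he
      exact absurd (hlN e) he
    · -- a prime divisor
      set p := N.minFac with hp
      have hpp : p.Prime := Nat.minFac_prime hN1
      have hpN : p ∣ N := Nat.minFac_dvd N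
      have hppos : 0 < p := hpp.pos
      obtain ⟨k, N', hN'p, hNeq⟩ := Nat.exists_eq_pow_mul_and_not_dvd hN.ne' p hpp.ne_one
      have hk : k ≠ 0 := by
        rintro rfl
        rw [pow_zero, one_mul] at hNeq
        exact hN'p (hNeq ▸ hpN)
      have hcop : Nat.Coprime N' p := ((Nat.Prime.coprime_iff_not_dvd hpp).2 hN'p).symm
      have hN'pos : 0 < N' := by
        rcases Nat.eq_zero_or_pos N' with h | h
        · rw [h, mul_zero] at hNeq; omega
        · exact h
      -- labels not divisible by `p` divide `N'`
      have hlN' : ∀ e, ¬ p ∣ l e → l e ∣ N' := by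
        intro e he
        have h1 : Nat.Coprime (l e) (p ^ k) :=
          Nat.Coprime.pow_right k ((Nat.Prime.coprime_iff_not_dvd hpp).2 he).symm
        have h2 := hlN e
        rw [hNeq] at h2
        exact h1.dvd_of_dvd_mul_left h2
      -- Bezout: `c * N' ≡ 1 mod p`
      obtain ⟨c, d, hcd⟩ : ∃ c d : ℤ, c * (N' : ℤ) + d * (p : ℤ) = 1 := by
        have := Int.gcd_eq_gcd_ab (N' : ℤ) (p : ℤ)
        have hg : Int.gcd (N' : ℤ) (p : ℤ) = 1 := by
          rw [Int.gcd_natCast_natCast]; exact hcop
        rw [hg] at this
        refine ⟨Int.gcdA N' p, Int.gcdB N' p, ?_⟩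
        push_cast at this
        linarith
      let s := pSetoid ends l p
      let rep : V → V := fun v => Quotient.out (s := s) (Quotient.mk s v)
      have hrep : ∀ v, s.r (rep v) v := fun v => Quotient.exact (Quotient.out_eq _)
      have hrep_eq : ∀ a b, s.r a b → rep a = rep b := by
        intro a b h
        simp only [rep]
        rw [Quotient.sound h]
      set g₀ : V → ℤ := fun v => (N' : ℤ) * (c * f (rep v)) with hg₀
      have hg₀El : g₀ ∈ El ends l := by
        refine ⟨N', hN'pos, fun v => Dvd.intro _ rfl, ?_⟩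
        intro e he
        have hpe : p ∣ l e := by
          by_contra h
          exact he (hlN' e h)
        have : s.r (ends e).1 (ends e).2 := Relation.EqvGen.rel _ _ ⟨e, hpe, rfl⟩
        simp only [hg₀]
        rw [hrep_eq _ _ this]
      have hdivp : ∀ v, (p : ℤ) ∣ f v - g₀ v := by
        intro v
        have h1 : (p : ℤ) ∣ f v - f (rep v) := by
          have := dvd_sub_of_rel ends hf (hrep v)
          rw [← neg_sub]; exact (dvd_neg).2 this
        have h2 : f v - g₀ v = (f v - f (rep v)) + (p : ℤ) * (d * f (rep v)) := by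
          simp only [hg₀]
          linear_combination (-(f (rep v))) * hcd
        rw [h2]
        exact dvd_add h1 (Dvd.intro _ rfl)
      set f₁ : V → ℤ := fun v => (f v - g₀ v) / (p : ℤ) with hf₁
      have hf₁p : ∀ v, (p : ℤ) * f₁ v = f v - g₀ v := fun v => Int.mul_ediv_cancel' (hdivp v)
      set l' : E → ℕ := fun e => if p ∣ l e then l e / p else l e with hl'
      have hl'N : ∀ e, l' e ∣ N / p := by
        intro e
        simp only [hl']
        split_ifs with hpl
        · exact Nat.div_dvd_div hpl (hlN e)
        · have h1 := hlN' e hpl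
          refine h1.trans ?_
          obtain ⟨k', rfl⟩ := Nat.exists_eq_succ_of_ne_zero hk
          rw [hNeq, pow_succ, mul_comm (p ^ k') p, mul_assoc, Nat.mul_div_cancel_left _ hppos]
          exact Dvd.intro_left _ rfl
      have hf₁C : LabGraph.IsCartier ends l' f₁ := by
        intro e
        simp only [hl']
        have hfe := hf e
        split_ifs with hpl
        · have hrel : s.r (ends e).1 (ends e).2 := Relation.EqvGen.rel _ _ ⟨e, hpl, rfl⟩
          have hg₀e : g₀ (ends e).1 = g₀ (ends e).2 := by
            simp only [hg₀]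
            rw [hrep_eq _ _ hrel]
          obtain ⟨m, hm⟩ := hpl
          rw [hm, Nat.mul_div_cancel_left _ hppos]
          have h3 : (p : ℤ) * (f₁ (ends e).1 - f₁ (ends e).2) = f (ends e).1 - f (ends e).2 := by
            rw [mul_sub, hf₁p, hf₁p, hg₀e]; ring
          rw [hm, ← h3] at hfe
          push_cast at hfe
          exact (mul_dvd_mul_iff_left (by exact_mod_cast hppos.ne')).1 hfe
        · have h1 : (l e : ℤ) ∣ g₀ (ends e).1 - g₀ (ends e).2 := by
            have h2 : ((N' : ℕ) : ℤ) ∣ g₀ (ends e).1 - g₀ (ends e).2 :=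
              dvd_sub (Dvd.intro _ rfl) (Dvd.intro _ rfl)
            exact (Int.natCast_dvd_natCast.2 (hlN' e hpl)).trans h2
          have h3 : (p : ℤ) * (f₁ (ends e).1 - f₁ (ends e).2) =
              (f (ends e).1 - f (ends e).2) - (g₀ (ends e).1 - g₀ (ends e).2) := by
            rw [mul_sub, hf₁p, hf₁p]; ring
          have h4 : (l e : ℤ) ∣ (p : ℤ) * (f₁ (ends e).1 - f₁ (ends e).2) := by
            rw [h3]; exact dvd_sub hfe h1
          have hco : IsCoprime (l e : ℤ) (p : ℤ) := by
            rw [Int.isCoprime_iff_gcd_eq_one, Int.gcd_natCast_natCast]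
            exact ((Nat.Prime.coprime_iff_not_dvd hpp).2 hpl).symm
          exact hco.dvd_of_dvd_mul_left h4
      have hNp_pos : 0 < N / p := Nat.div_pos (Nat.le_of_dvd hN hpN) hppos
      have hNp_lt : N / p < N := Nat.div_lt_self hN hpp.one_lt
      have hf₁span := ih (N / p) hNp_lt hNp_pos l' hl'N f₁ hf₁C
      -- `p • f₁ ∈ span`
      have hpf₁ : (p : ℤ) • f₁ ∈ Submodule.span ℤ (El ends l) := by
        have hle : Submodule.span ℤ (El ends l') ≤
            (Submodule.span ℤ (El ends l)).comap
              ((p : ℤ) • (LinearMap.id : (V → ℤ) →ₗ[ℤ] (V → ℤ))) := by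
          rw [Submodule.span_le]
          intro g hg
          simp only [Submodule.comap_coe, Set.mem_preimage, LinearMap.smul_apply,
            LinearMap.id_coe, id_eq, SetLike.mem_coe]
          exact Submodule.subset_span (smul_mem_El ends hppos (fun e => rfl) hg)
        have := hle hf₁span
        simpa using this
      have hfeq : f = g₀ + (p : ℤ) • f₁ := by
        funext v
        simp only [Pi.add_apply, Pi.smul_apply, smul_eq_mul, hf₁p]
        ring
      rw [hfeq]
      exact Submodule.add_mem _ (Submodule.subset_span hg₀El) hpf₁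

end Groth.Agent.Lib.Helper8.Cart
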