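import Mathlib
import Groth.Agent.Lib.Helper8.MTree2

set_option autoImplicit false
set_option linter.unusedSectionVars false
set_option backward.isDefEq.respectTransparency.types false

/-!
# Decomposition of Cartier functions by edge label when labels are constant on circuits
-/

universe u v

namespace Groth.Agent.Lib.Helper8.Cart

open Finset Groth.Agent.Lib.Helper8.MTree

variable {V E : Type u} [Fintype V] [Fintype E] [DecidableEq V] [DecidableEq E]
variable {ends : E → V × V}

lemma par_sdiff {P C : Finset E} (hC : C ⊆ P) : par ends (P \ C) = par ends P + par ends C := by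
  have h : par ends P = par ends (P \ C) + par ends C := by
    rw [par_eq_sum, par_eq_sum, par_eq_sum, Finset.sum_sdiff hC]
  rw [h, add_assoc, zmod2_add_self, add_zero]

/-- a minimal edge set with odd degrees exactly at the ends of `e` closes up to a circuit with `e` -/
lemma isCircuit_insert_of_minimal {P : Finset E} {e : E} {a b : V} (hj : Joins ends e a b)
    (heP : e ∉ P) (hP : par ends P = Pi.single a 1 + Pi.single b 1)
    (hmin : ∀ P' ⊂ P, par ends P' ≠ Pi.single a 1 + Pi.single b 1) :
    LabGraph.IsCircuit ends (insert e P) := by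
  refine ⟨Finset.insert_nonempty _ _, ?_, ?_⟩
  · rw [← par_eq_zero_iff, par_insert ends heP, hP, pe_of_joins ends hj, zmod2_add_self]
  · intro C' hC' hC'ne
    by_contra hall
    have hpar : par ends C' = 0 := by
      rw [par_eq_zero_iff]
      intro v
      by_contra hv
      exact hall ⟨v, hv⟩
    by_cases heC : e ∈ C'
    · have hsub : C'.erase e ⊆ P := by
        intro x hx
        obtain ⟨hxe, hxC⟩ := Finset.mem_erase.1 hx
        rcases Finset.mem_insert.1 (hC'.subset hxC) with h | h
        · exact absurd h hxe
        · exact h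
      have hne : C'.erase e ≠ P := by
        intro h
        apply hC'.ne
        rw [← Finset.insert_erase heC, h]
      have hp : par ends (C'.erase e) = Pi.single a 1 + Pi.single b 1 := by
        rw [par_erase ends heC, hpar, add_zero, pe_of_joins ends hj]
      exact hmin _ (Finset.ssubset_iff_subset_ne.2 ⟨hsub, hne⟩) hp
    · have hsub : C' ⊆ P := by
        intro x hx
        rcases Finset.mem_insert.1 (hC'.subset hx) with h | h
        · exact absurd (h ▸ hx) heC
        · exact h
      have hss : P \ C' ⊂ P := by
        refine Finset.ssubset_iff_subset_ne.2 ⟨Finset.sdiff_subset, ?_⟩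
        intro h
        obtain ⟨x, hx⟩ := hC'ne
        have : x ∈ P \ C' := by rw [h]; exact hsub hx
        exact (Finset.mem_sdiff.1 this).2 hx
      refine hmin _ hss ?_
      rw [par_sdiff hsub, hpar, add_zero, hP]

omit [Fintype V] [Fintype E] [DecidableEq V] [DecidableEq E] in
lemma const_of_conn {F : Finset E} {h : V → ℤ} (hF : ∀ e ∈ F, h (ends e).1 = h (ends e).2)
    {x y : V} (hc : Conn ends F x y) : h x = h y := by
  induction hc with
  | refl => rfl
  | tail _ hxy ih =>
    obtain ⟨e, he, hj⟩ := hxy
    rw [ih]
    rcases hj with hj | hj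
    · have := hF e he; rw [hj] at this; exact this
    · have := hF e he; rw [hj] at this; exact this.symm

variable {I : Type v} (lab : E → I) (n : E → ℕ)

open Classical in
/-- per-label decomposition on the active edge set `S` -/
theorem exists_decomp (S : Finset E) :
    (∀ C ⊆ S, LabGraph.IsCircuit ends C → ∀ e ∈ C, ∀ e' ∈ C, lab e = lab e') →
    ∀ f : V → ℤ, (∀ e ∈ S, (n e : ℤ) ∣ f (ends e).1 - f (ends e).2) →
    ∀ Λ : Finset I, Λ.Nonempty → (∀ e ∈ S, lab e ∈ Λ) →
    ∃ g : I → V → ℤ, (∀ v, f v = ∑ i ∈ Λ, g i v) ∧
      (∀ i, ∀ e ∈ S, lab e ≠ i → g i (ends e).1 = g i (ends e).2) ∧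
      (∀ i, ∀ e ∈ S, (n e : ℤ) ∣ g i (ends e).1 - g i (ends e).2) := by
  induction S using Finset.induction_on with
  | empty =>
    intro _ f _ Λ hΛ _
    obtain ⟨i₀, hi₀⟩ := hΛ
    refine ⟨fun i => if i = i₀ then f else 0, ?_, ?_, ?_⟩
    · intro v
      rw [Finset.sum_eq_single i₀]
      · simp
      · intro j _ hj; simp [hj]
      · intro h; exact absurd hi₀ h
    · intro i e he; exact absurd he (Finset.notMem_empty _)
    · intro i e he; exact absurd he (Finset.notMem_empty _)
  | insert e S' heS' ih =>
    intro hcirc f hf Λ hΛ hlab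
    have hcirc' : ∀ C ⊆ S', LabGraph.IsCircuit ends C → ∀ e ∈ C, ∀ e' ∈ C, lab e = lab e' :=
      fun C hC => hcirc C (hC.trans (Finset.subset_insert _ _))
    have hf' : ∀ e ∈ S', (n e : ℤ) ∣ f (ends e).1 - f (ends e).2 :=
      fun e' he' => hf e' (Finset.mem_insert_of_mem he')
    have hlab' : ∀ e ∈ S', lab e ∈ Λ := fun e' he' => hlab e' (Finset.mem_insert_of_mem he')
    obtain ⟨g, hsum, hconst, hcart⟩ := ih hcirc' f hf' Λ hΛ hlab'
    set a := (ends e).1 with ha
    set b := (ends e).2 with hb
    set i₀ := lab e with hi₀
    have hi₀Λ : i₀ ∈ Λ := hlab e (Finset.mem_insert_self _ _)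
    have hj : Joins ends e a b := Or.inl rfl
    -- it suffices to find a decomposition on `S'` balanced across `e` for `i ≠ i₀`
    suffices hkey : ∃ g' : I → V → ℤ, (∀ v, f v = ∑ i ∈ Λ, g' i v) ∧
        (∀ i, ∀ e ∈ S', lab e ≠ i → g' i (ends e).1 = g' i (ends e).2) ∧
        (∀ i, ∀ e ∈ S', (n e : ℤ) ∣ g' i (ends e).1 - g' i (ends e).2) ∧
        (∀ i, i ≠ i₀ → g' i a = g' i b) by
      obtain ⟨g', hsum', hconst', hcart', hbal⟩ := hkey
      refine ⟨g', hsum', ?_, ?_⟩
      · intro i e' he' hne
        rcases Finset.mem_insert.1 he' with rfl | he'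
        · exact hbal i (Ne.symm hne)
        · exact hconst' i e' he' hne
      · intro i e' he'
        rcases Finset.mem_insert.1 he' with rfl | he'
        · by_cases hii : i = i₀
          · subst hii
            have h1 : f a - f b = g' i₀ a - g' i₀ b := by
              rw [hsum' a, hsum' b, ← Finset.sum_sub_distrib,
                ← Finset.add_sum_erase _ _ hi₀Λ]
              rw [Finset.sum_eq_zero, add_zero]
              intro j hj'
              rw [hbal j (Finset.ne_of_mem_erase hj'), sub_self]
            rw [← h1]
            exact hf e' (Finset.mem_insert_self _ _)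
          · rw [hbal i hii, sub_self]; exact dvd_zero _
        · exact hcart' i e' he'
    by_cases hab : Conn ends S' a b
    · -- not a bridge: the decomposition is already balanced
      refine ⟨g, hsum, hconst, hcart, ?_⟩
      intro i hi
      by_cases hab' : a = b
      · rw [hab']
      -- minimal path
      obtain ⟨P₀, hP₀S, hP₀⟩ := exists_par_of_conn ends hab
      set PP : Finset (Finset E) := S'.powerset.filter
        (fun P => par ends P = Pi.single a 1 + Pi.single b 1) with hPP
      have hne : PP.Nonempty := ⟨P₀, by simp [hPP, hP₀S, hP₀]⟩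
      obtain ⟨P, hPmem, hPmin⟩ := PP.exists_minimal hne
      simp only [hPP, Finset.mem_filter, Finset.mem_powerset] at hPmem
      obtain ⟨hPS, hP⟩ := hPmem
      have heP : e ∉ P := fun h => heS' (hPS h)
      have hmin : ∀ P' ⊂ P, par ends P' ≠ Pi.single a 1 + Pi.single b 1 := by
        intro P' hP' hpar
        have hmem : P' ∈ PP := by
          simp only [hPP, Finset.mem_filter, Finset.mem_powerset]
          exact ⟨hP'.subset.trans hPS, hpar⟩
        exact hP'.not_subset (hPmin hmem hP'.subset)
      have hC := isCircuit_insert_of_minimal hj heP hP hmin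
      have hCS : insert e P ⊆ insert e S' := Finset.insert_subset_insert _ hPS
      have hlabP : ∀ e' ∈ P, lab e' = i₀ := fun e' he' =>
        hcirc _ hCS hC e' (Finset.mem_insert_of_mem he') e (Finset.mem_insert_self _ _)
      refine const_of_conn ?_ (conn_of_par ends hP)
      intro e' he'
      exact hconst i e' (hPS he') (by rw [hlabP e' he']; exact Ne.symm hi)
    · -- a bridge: shift on the component of `b`
      set ind : V → ℤ := fun v => if Conn ends S' b v then 1 else 0 with hind
      have hinda : ind a = 0 := by
        simp only [hind]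
        rw [if_neg (fun h => hab h.symm)]
      have hindb : ind b = 1 := by
        simp only [hind]
        rw [if_pos (Conn.refl _ _)]
      have hindS' : ∀ e' ∈ S', ind (ends e').1 = ind (ends e').2 := by
        intro e' he'
        have hj' : Joins ends e' (ends e').1 (ends e').2 := Or.inl rfl
        have hiff : Conn ends S' b (ends e').1 ↔ Conn ends S' b (ends e').2 :=
          ⟨fun h => h.trans (Conn.of_joins he' hj'), fun h => h.trans (Conn.of_joins he' hj'.symm)⟩
        simp only [hind, hiff]
      set c : I → ℤ := fun i => g i a - g i b with hc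
      set g' : I → V → ℤ := fun i =>
        if i = i₀ then g i₀ - (∑ j ∈ Λ.erase i₀, c j) • ind else g i + c i • ind with hg'
      refine ⟨g', ?_, ?_, ?_, ?_⟩
      · intro v
        rw [hsum v, ← Finset.add_sum_erase _ _ hi₀Λ, ← Finset.add_sum_erase _ (fun i => g' i v) hi₀Λ]
        have h1 : g' i₀ v = g i₀ v - (∑ j ∈ Λ.erase i₀, c j) * ind v := by
          simp [hg']
        have h2 : ∑ i ∈ Λ.erase i₀, g' i v =
            ∑ i ∈ Λ.erase i₀, g i v + (∑ j ∈ Λ.erase i₀, c j) * ind v := by
          rw [Finset.sum_mul, ← Finset.sum_add_distrib]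
          refine Finset.sum_congr rfl fun i hi => ?_
          simp [hg', Finset.ne_of_mem_erase hi]
        rw [h1, h2]; ring
      · intro i e' he' hne
        simp only [hg']
        split_ifs with hii
        · subst hii
          simp only [Pi.sub_apply, Pi.smul_apply, smul_eq_mul]
          rw [hconst _ e' he' hne, hindS' e' he']
        · simp only [Pi.add_apply, Pi.smul_apply, smul_eq_mul]
          rw [hconst _ e' he' hne, hindS' e' he']
      · intro i e' he'
        simp only [hg']
        split_ifs with hii
        · subst hii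
          simp only [Pi.sub_apply, Pi.smul_apply, smul_eq_mul]
          rw [hindS' e' he']
          have := hcart i₀ e' he'
          convert this using 1
          ring
        · simp only [Pi.add_apply, Pi.smul_apply, smul_eq_mul]
          rw [hindS' e' he']
          have := hcart i e' he'
          convert this using 1
          ring
      · intro i hi
        simp only [hg', if_neg hi, Pi.add_apply, Pi.smul_apply, smul_eq_mul, hinda, hindb, hc]
        ring


theorem cartier_closure {L : Type v} (lab : E → L) (n : E → ℕ)
    (hcirc : ∀ C : Finset E, LabGraph.IsCircuit ends C → ∀ e ∈ C, ∀ e' ∈ C, lab e = lab e')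
    (f : V → ℤ) (hf : LabGraph.IsCartier ends n f) :
    f ∈ AddSubmonoid.closure {g : V → ℤ | LabGraph.IsCartier ends n g ∧
      (∃ B : Finset E, (∀ e ∈ B, ∀ e' ∈ B, lab e = lab e') ∧
        ∀ e, e ∉ B → g (ends e).1 = g (ends e).2)} ∧
    ∀ v₀ : V, f v₀ = 0 →
      f ∈ AddSubmonoid.closure {g : V → ℤ | LabGraph.IsCartier ends n g ∧
        (∃ B : Finset E, (∀ e ∈ B, ∀ e' ∈ B, lab e = lab e') ∧
          ∀ e, e ∉ B → g (ends e).1 = g (ends e).2) ∧ g v₀ = 0} := by
  classical
  set lab' : E → Option L := fun e => some (lab e) with hlab'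
  set Λ : Finset (Option L) := insert none (Finset.univ.image lab') with hΛ
  obtain ⟨g, hsum, hconst, hcart⟩ := exists_decomp (ends := ends) lab' n Finset.univ
    (fun C _ hC e he e' he' => by
      simp only [hlab']
      rw [hcirc C hC e he e' he'])
    f (fun e _ => hf e) Λ ⟨none, Finset.mem_insert_self _ _⟩
    (fun e _ => Finset.mem_insert_of_mem (Finset.mem_image_of_mem _ (Finset.mem_univ e)))
  have key : ∀ (i : Option L) (c : ℤ), LabGraph.IsCartier ends n (fun v => g i v - c) ∧
      (∃ B : Finset E, (∀ e ∈ B, ∀ e' ∈ B, lab e = lab e') ∧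
        ∀ e, e ∉ B → (fun v => g i v - c) (ends e).1 = (fun v => g i v - c) (ends e).2) := by
    intro i c
    refine ⟨?_, Finset.univ.filter (fun e => lab' e = i), ?_, ?_⟩
    · intro e
      have := hcart i e (Finset.mem_univ e)
      simpa using this
    · intro e he e' he'
      have h1 := (Finset.mem_filter.1 he).2
      have h2 := (Finset.mem_filter.1 he').2
      simp only [hlab'] at h1 h2
      exact Option.some.inj (h1.trans h2.symm)
    · intro e he
      have hne : lab' e ≠ i := fun h => he (Finset.mem_filter.2 ⟨Finset.mem_univ e, h⟩)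
      simp only
      rw [hconst i e (Finset.mem_univ e) hne]
  constructor
  · have hfe : f = ∑ i ∈ Λ, (fun v => g i v - 0) := by
      funext v
      simp [hsum v, Finset.sum_apply]
    rw [hfe]
    exact AddSubmonoid.sum_mem _ fun i _ => AddSubmonoid.subset_closure (key i 0)
  · intro v₀ hv₀
    have hfe : f = ∑ i ∈ Λ, (fun v => g i v - g i v₀) := by
      funext v
      simp only [Finset.sum_apply, Finset.sum_sub_distrib]
      rw [← hsum v, ← hsum v₀, hv₀, sub_zero]
    rw [hfe]
    refine AddSubmonoid.sum_mem _ fun i _ => AddSubmonoid.subset_closure ?_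
    exact ⟨(key i _).1, (key i _).2, by simp⟩

end Groth.Agent.Lib.Helper8.Cart
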