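import Mathlib.Algebra.Module.FinitePresentation
import Mathlib.RingTheory.Finiteness.Basic
import Mathlib.LinearAlgebra.Isomorphisms

/-!
# Coherent modules (finitely generated, all f.g. submodules finitely presented)
-/

set_option autoImplicit false
universe u

namespace Groth.Agent.Lib.Helper8.CoherentModule

variable (R : Type u) [CommRing R]

/-- A module is coherent if it is finite and all its f.g. submodules are finitely presented. -/
def Coh (M : Type u) [AddCommGroup M] [Module R M] : Prop :=
  Module.Finite R M ∧ ∀ P : Submodule R M, P.FG → Module.FinitePresentation R P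

variable {R} {M N : Type u} [AddCommGroup M] [Module R M] [AddCommGroup N] [Module R N]

/-- A f.g. submodule of a coherent module is coherent. -/
theorem coh_submodule (hM : Coh R M) (S : Submodule R M) (hS : S.FG) : Coh R S := by
  refine ⟨Module.Finite.iff_fg.mpr hS, fun P hP => ?_⟩
  have hP' : (P.map S.subtype).FG := hP.map _
  have := hM.2 _ hP'
  exact Module.FinitePresentation.of_equiv (P.equivMapOfInjective S.subtype S.injective_subtype).symm

/-- The quotient of a coherent module by a f.g. submodule is coherent. -/
theorem coh_quotient (hM : Coh R M) (S : Submodule R M) (hS : S.FG) : Coh R (M ⧸ S) := by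
  have := hM.1
  refine ⟨inferInstance, fun P hP => ?_⟩
  let Q : Submodule R M := P.comap S.mkQ
  have hSQ : S ≤ Q := fun x hx => by
    change S.mkQ x ∈ P
    have : S.mkQ x = 0 := (Submodule.Quotient.mk_eq_zero S).mpr hx
    rw [this]
    exact zero_mem _
  have hQmap : Q.map S.mkQ = P := Submodule.map_comap_eq_of_surjective S.mkQ_surjective P
  have hQ : Q.FG := by
    refine Submodule.fg_of_fg_map_of_fg_inf_ker S.mkQ (hQmap ▸ hP) ?_
    rw [Submodule.ker_mkQ, inf_eq_right.mpr hSQ]
    exact hS
  have := hM.2 Q hQ
  let l : Q →ₗ[R] P := (S.mkQ.domRestrict Q).codRestrict P fun q => q.2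
  have hl : Function.Surjective l := by
    rintro ⟨p, hp⟩
    obtain ⟨m, rfl⟩ := S.mkQ_surjective p
    exact ⟨⟨m, hp⟩, rfl⟩
  have hker : (LinearMap.ker l).FG := by
    refine Submodule.fg_of_fg_map_injective Q.subtype Q.injective_subtype ?_
    have : (LinearMap.ker l).map Q.subtype = S := by
      ext x
      constructor
      · rintro ⟨q, hq, rfl⟩
        have : S.mkQ (q : M) = 0 := congrArg Subtype.val hq
        exact (Submodule.Quotient.mk_eq_zero S).mp this
      · intro hx
        refine ⟨⟨x, hSQ hx⟩, ?_, rfl⟩
        apply Subtype.ext
        exact (Submodule.Quotient.mk_eq_zero S).mpr hx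
    rw [this]
    exact hS
  exact Module.finitePresentation_of_surjective l hl hker

/-- The kernel of a map from a finite module to a coherent module is f.g. -/
theorem ker_fg [Module.Finite R N] (hM : Coh R M) (φ : N →ₗ[R] M) : (LinearMap.ker φ).FG := by
  have hr : (LinearMap.range φ).FG := by
    rw [LinearMap.range_eq_map]
    exact Module.Finite.fg_top.map φ
  have := hM.2 _ hr
  have := Module.FinitePresentation.fg_ker φ.rangeRestrict φ.surjective_rangeRestrict
  rwa [LinearMap.ker_rangeRestrict] at this

end Groth.Agent.Lib.Helper8.CoherentModule
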