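import Mathlib

set_option backward.isDefEq.respectTransparency.types false
set_option autoImplicit false
set_option linter.unusedSectionVars false
set_option linter.style.haveILetI false

/-! # Units of Laurent polynomial rings over a field -/

namespace Groth.Agent.Lib.Helper8.Con

open LaurentPolynomial

variable {L : Type*} [Field L]

/-- A unit of `L[T;T⁻¹]` is a monomial. -/
theorem laurent_unit (f : L[T;T⁻¹]) (hf : IsUnit f) :
    ∃ (c : L) (n : ℤ), c ≠ 0 ∧ f = C c * T n := by
  obtain ⟨g, hfg⟩ := hf.exists_right_inv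
  obtain ⟨n, f', hf'⟩ := exists_T_pow f
  obtain ⟨m, g', hg'⟩ := exists_T_pow g
  have h1 : f' * g' = Polynomial.X ^ (n + m) := by
    apply Polynomial.toLaurent_injective
    rw [map_mul, hf', hg', Polynomial.toLaurent_X_pow]
    calc f * T n * (g * T m) = (f * g) * (T n * T m) := by ring
      _ = T ((n + m : ℕ) : ℤ) := by rw [hfg, one_mul, ← T_add]; push_cast; rfl
  have h2 : f' ∣ Polynomial.X ^ (n + m) := ⟨g', h1.symm⟩
  obtain ⟨i, -, hi⟩ := (dvd_prime_pow Polynomial.prime_X _).1 h2
  obtain ⟨u, hu⟩ := hi.symm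
  obtain ⟨c, hc, hcu⟩ := Polynomial.isUnit_iff.1 u.isUnit
  refine ⟨c, (i : ℤ) - n, hc.ne_zero, ?_⟩
  have h3 : f * T n = C c * T i := by
    rw [← hf', ← hu, ← hcu, map_mul, Polynomial.toLaurent_X_pow, Polynomial.toLaurent_C, mul_comm]
  calc f = f * T n * T (-n) := by rw [mul_T_assoc]; simp
    _ = C c * T i * T (-n) := by rw [h3]
    _ = C c * T (i - n) := by rw [mul_T_assoc, sub_eq_add_neg]

theorem coeff_C_mul_T (c : L) (n m : ℤ) :
    (C c * T n : L[T;T⁻¹]).coeff m = if n = m then c else 0 := by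
  rw [← single_eq_C_mul_T]
  exact Finsupp.single_apply

theorem C_mul_T_injective {c c' : L} {n n' : ℤ} (hc : c ≠ 0)
    (h : (C c * T n : L[T;T⁻¹]) = C c' * T n') : c = c' ∧ n = n' := by
  have h1 := congrArg (fun f : L[T;T⁻¹] => f.coeff n) h
  simp only [coeff_C_mul_T] at h1
  by_cases hn : n = n'
  · subst hn
    simpa using h1
  · exfalso
    simp [Ne.symm hn] at h1
    exact hc h1

end Groth.Agent.Lib.Helper8.Con
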