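import Mathlib

set_option backward.isDefEq.respectTransparency.types false
set_option autoImplicit false
set_option linter.unusedSectionVars false
set_option linter.style.haveILetI false

/-! # The quadratic extension attached to an irreducible quadratic polynomial -/

namespace Groth.Agent.Lib.Helper8.Con

open Polynomial

variable {K : Type*} [Field K]

/-- The quadratic polynomial `a X² + b X + c`. -/
noncomputable def quad (a b c : K) : K[X] := C a * X ^ 2 + C b * X + C c

theorem quad_natDegree {a b c : K} (ha : a ≠ 0) : (quad a b c).natDegree = 2 := by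
  unfold quad
  exact natDegree_quadratic ha

theorem quad_ne_zero {a b c : K} (ha : a ≠ 0) : quad a b c ≠ 0 := by
  intro h
  have := quad_natDegree (b := b) (c := c) ha
  rw [h] at this
  simp at this

theorem aeval_quad {A : Type*} [CommRing A] [Algebra K A] (a b c : K) (x : A) :
    aeval x (quad a b c) = algebraMap K A a * x ^ 2 + algebraMap K A b * x + algebraMap K A c := by
  simp [quad]

/-- The quadratic extension. -/
abbrev QF (a b c : K) : Type _ := AdjoinRoot (quad a b c)

section

variable {a b c : K} [Fact (Irreducible (quad a b c))]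

/-- The root. -/
noncomputable def rt (a b c : K) : QF a b c := AdjoinRoot.root (quad a b c)

/-- The conjugate root. -/
noncomputable def rt' (a b c : K) : QF a b c := -(algebraMap K (QF a b c) (b / a)) - rt a b c

theorem rt_eq :
    algebraMap K (QF a b c) a * rt a b c ^ 2 + algebraMap K (QF a b c) b * rt a b c
      + algebraMap K (QF a b c) c = 0 := by
  have h := AdjoinRoot.eval₂_root (quad a b c)
  change Polynomial.eval₂ (algebraMap K (QF a b c)) (rt a b c) (quad a b c) = 0 at h
  rw [← Polynomial.aeval_def, aeval_quad] at h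
  exact h

theorem rt_add_rt' : rt a b c + rt' a b c = -(algebraMap K (QF a b c) (b / a)) := by
  unfold rt'; ring

theorem rt_mul_rt' (ha : a ≠ 0) : rt a b c * rt' a b c = algebraMap K (QF a b c) (c / a) := by
  have h := rt_eq (a := a) (b := b) (c := c)
  have ha' : algebraMap K (QF a b c) a ≠ 0 := by
    simpa using (algebraMap K (QF a b c)).injective.ne ha
  unfold rt'
  rw [map_div₀, map_div₀]
  field_simp
  linear_combination (-1 : QF a b c) * h

theorem rt'_eq (ha : a ≠ 0) :
    algebraMap K (QF a b c) a * rt' a b c ^ 2 + algebraMap K (QF a b c) b * rt' a b c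
      + algebraMap K (QF a b c) c = 0 := by
  have h := rt_eq (a := a) (b := b) (c := c)
  have ha' : algebraMap K (QF a b c) a ≠ 0 := by
    simpa using (algebraMap K (QF a b c)).injective.ne ha
  unfold rt'
  rw [map_div₀]
  field_simp
  linear_combination (algebraMap K (QF a b c) a) * h

theorem rt_sub_rt'_sq (ha : a ≠ 0) :
    (rt a b c - rt' a b c) ^ 2 = algebraMap K (QF a b c) ((b ^ 2 - 4 * a * c) / a ^ 2) := by
  have h1 := rt_add_rt' (a := a) (b := b) (c := c)
  have h2 := rt_mul_rt' (a := a) (b := b) (c := c) ha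
  have : (rt a b c - rt' a b c) ^ 2 = (rt a b c + rt' a b c) ^ 2 - 4 * (rt a b c * rt' a b c) := by
    ring
  rw [this, h1, h2, ← map_neg, ← map_pow]
  have h4 : (4 : QF a b c) = algebraMap K (QF a b c) 4 := (map_ofNat _ 4).symm
  rw [h4, ← map_mul, ← map_sub]
  congr 1
  field_simp

theorem rt_sub_rt'_ne_zero (ha : a ≠ 0) (hd : b ^ 2 - 4 * a * c ≠ 0) :
    rt a b c - rt' a b c ≠ 0 := by
  intro h
  have h1 := rt_sub_rt'_sq (a := a) (b := b) (c := c) ha
  rw [h, zero_pow two_ne_zero] at h1
  have h2 : (b ^ 2 - 4 * a * c) / a ^ 2 = 0 := by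
    apply (algebraMap K (QF a b c)).injective
    rw [← h1, map_zero]
  have : a ^ 2 ≠ 0 := pow_ne_zero _ ha
  exact hd (by field_simp at h2; simpa using h2)

/-- The conjugation. -/
noncomputable def conj (ha : a ≠ 0) : QF a b c →ₐ[K] QF a b c :=
  AdjoinRoot.liftAlgHom (quad a b c) (Algebra.ofId K (QF a b c)) (rt' a b c) (by
    have h := rt'_eq (a := a) (b := b) (c := c) ha
    change Polynomial.eval₂ (algebraMap K (QF a b c)) (rt' a b c) (quad a b c) = 0
    rw [← Polynomial.aeval_def, aeval_quad]
    exact h)

theorem conj_rt (ha : a ≠ 0) : conj ha (rt a b c) = rt' a b c := by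
  unfold conj rt
  exact AdjoinRoot.liftAlgHom_root _ _ _ _

theorem conj_rt' (ha : a ≠ 0) : conj ha (rt' a b c) = rt a b c := by
  have : rt' a b c = -(algebraMap K (QF a b c) (b / a)) - rt a b c := rfl
  rw [this, map_sub, map_neg, AlgHom.commutes, conj_rt]
  unfold rt'; ring

theorem conj_conj (ha : a ≠ 0) (x : QF a b c) : conj ha (conj ha x) = x := by
  have : (conj ha).comp (conj ha) = AlgHom.id K (QF a b c) := by
    apply AdjoinRoot.algHom_ext
    change conj ha (conj ha (rt a b c)) = rt a b c
    rw [conj_rt, conj_rt']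
  exact congrArg (fun f : QF a b c →ₐ[K] QF a b c => f x) this

/-- Every element of the quadratic extension is `x + y α`. -/
theorem exists_repr (ha : a ≠ 0) (z : QF a b c) :
    ∃ x y : K, z = algebraMap K (QF a b c) x + algebraMap K (QF a b c) y * rt a b c := by
  have hq := quad_ne_zero (b := b) (c := c) ha
  obtain ⟨f, hf, rfl⟩ := (AdjoinRoot.powerBasis hq).exists_eq_aeval z
  rw [AdjoinRoot.powerBasis_dim, quad_natDegree ha] at hf
  have hf1 : f.natDegree ≤ 1 := by omega
  rw [Polynomial.eq_X_add_C_of_natDegree_le_one hf1]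
  refine ⟨f.coeff 0, f.coeff 1, ?_⟩
  simp only [AdjoinRoot.powerBasis_gen, map_add, map_mul, aeval_C, aeval_X]
  unfold rt
  ring

end

end Groth.Agent.Lib.Helper8.Con
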