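import Mathlib
import Groth.Agent.Lib.Helper8.Con2

set_option backward.isDefEq.respectTransparency.types false
set_option autoImplicit false
set_option linter.unusedSectionVars false
set_option linter.style.haveILetI false

/-! # Binary quadratic forms -/

namespace Groth.Agent.Lib.Helper8.Con

open MvPolynomial

variable {K : Type*} [Field K]

/-- The binary quadratic form `a x² + b x y + c y²`. -/
noncomputable def qf (a b c : K) : MvPolynomial (Fin 2) K :=
  C a * X 0 ^ 2 + C b * X 0 * X 1 + C c * X 1 ^ 2

theorem qf_eq_monomial (a b c : K) :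
    qf a b c = monomial (Finsupp.single 0 2) a + monomial (Finsupp.single 0 1 + Finsupp.single 1 1) b
      + monomial (Finsupp.single 1 2) c := by
  unfold qf
  rw [monomial_eq, monomial_eq, monomial_eq]
  rw [Finsupp.prod_single_index (by simp), Finsupp.prod_single_index (by simp),
    Finsupp.prod_add_index' (by simp) (by intros; rw [pow_add]),
    Finsupp.prod_single_index (by simp), Finsupp.prod_single_index (by simp)]
  ring

theorem single_ne_1 : (Finsupp.single (0 : Fin 2) 2 : Fin 2 →₀ ℕ)
    ≠ Finsupp.single 0 1 + Finsupp.single 1 1 := by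
  intro h
  have := DFunLike.congr_fun h 0
  simp at this

theorem single_ne_2 : (Finsupp.single (0 : Fin 2) 2 : Fin 2 →₀ ℕ) ≠ Finsupp.single 1 2 := by
  intro h
  have := DFunLike.congr_fun h 0
  simp at this

theorem single_ne_3 : (Finsupp.single (0 : Fin 2) 1 + Finsupp.single 1 1 : Fin 2 →₀ ℕ)
    ≠ Finsupp.single 1 2 := by
  intro h
  have := DFunLike.congr_fun h 0
  simp at this

theorem coeff_qf_0 (a b c : K) : (qf a b c).coeff (Finsupp.single 0 2) = a := by
  rw [qf_eq_monomial]
  simp [coeff_monomial, single_ne_1.symm, single_ne_2.symm]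

theorem coeff_qf_1 (a b c : K) :
    (qf a b c).coeff (Finsupp.single 0 1 + Finsupp.single 1 1) = b := by
  rw [qf_eq_monomial]
  simp [coeff_monomial, single_ne_1, single_ne_3.symm]

theorem coeff_qf_2 (a b c : K) : (qf a b c).coeff (Finsupp.single 1 2) = c := by
  rw [qf_eq_monomial]
  simp [coeff_monomial, single_ne_2, single_ne_3]

theorem qf_isHomogeneous (a b c : K) : (qf a b c).IsHomogeneous 2 := by
  unfold qf
  refine IsHomogeneous.add (IsHomogeneous.add ?_ ?_) ?_
  · have := (isHomogeneous_C (Fin 2) a).mul ((isHomogeneous_X K (0 : Fin 2)).pow 2)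
    simpa using this
  · have := ((isHomogeneous_C (Fin 2) b).mul (isHomogeneous_X K (0 : Fin 2))).mul
      (isHomogeneous_X K (1 : Fin 2))
    simpa using this
  · have := (isHomogeneous_C (Fin 2) c).mul ((isHomogeneous_X K (1 : Fin 2)).pow 2)
    simpa using this

/-- A binary form of degree two is `a x² + b x y + c y²`. -/
theorem exists_qf (q : MvPolynomial (Fin 2) K) (hq : q.IsHomogeneous 2) :
    q = qf (q.coeff (Finsupp.single 0 2)) (q.coeff (Finsupp.single 0 1 + Finsupp.single 1 1))
      (q.coeff (Finsupp.single 1 2)) := by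
  ext m
  rw [qf_eq_monomial]
  simp only [coeff_add, coeff_monomial]
  by_cases h0 : Finsupp.single 0 2 = m
  · subst h0
    simp [single_ne_1.symm, single_ne_2.symm]
  by_cases h1 : Finsupp.single 0 1 + Finsupp.single 1 1 = m
  · subst h1
    simp [single_ne_1, single_ne_3.symm]
  by_cases h2 : Finsupp.single 1 2 = m
  · subst h2
    simp [single_ne_2, single_ne_3]
  rw [if_neg h0, if_neg h1, if_neg h2]
  simp only [add_zero]
  by_contra hne
  have hdeg := hq hne
  have hsum : m 0 + m 1 = 2 := by
    have h5 : (Finsupp.weight 1) m = m 0 + m 1 := by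
      simp [Finsupp.weight_apply, Finsupp.sum_fintype, Fin.sum_univ_two]
    omega
  have hm : ∀ (u v : ℕ), m 0 = u → m 1 = v →
      m = Finsupp.single 0 u + Finsupp.single 1 v := by
    intro u v hu hv
    ext i
    fin_cases i <;> simp [hu, hv]
  have h3 : m 0 = 2 ∧ m 1 = 0 ∨ m 0 = 1 ∧ m 1 = 1 ∨ m 0 = 0 ∧ m 1 = 2 := by omega
  rcases h3 with ⟨hu, hv⟩ | ⟨hu, hv⟩ | ⟨hu, hv⟩
  · exact h0 (by rw [hm 2 0 hu hv]; simp)
  · exact h1 (by rw [hm 1 1 hu hv])
  · exact h2 (by rw [hm 0 2 hu hv]; simp)

/-- A form vanishing at the origin is not a unit. -/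
theorem not_isUnit_of_eval_zero (p : MvPolynomial (Fin 2) K) (h : eval (0 : Fin 2 → K) p = 0) :
    ¬ IsUnit p := by
  intro hu
  have := hu.map (eval (0 : Fin 2 → K))
  rw [h] at this
  exact not_isUnit_zero this

theorem a_ne_zero_of_irreducible {a b c : K} (h : Irreducible (qf a b c)) : a ≠ 0 := by
  rintro rfl
  have h1 : qf 0 b c = X 1 * (C b * X 0 + C c * X 1) := by
    unfold qf; simp; ring
  rcases h.isUnit_or_isUnit h1 with hu | hu
  · exact not_isUnit_of_eval_zero _ (by simp) hu
  · exact not_isUnit_of_eval_zero _ (by simp) hu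

theorem quad_irreducible_of_irreducible {a b c : K} (h : Irreducible (qf a b c)) :
    Irreducible (quad a b c) := by
  have ha := a_ne_zero_of_irreducible h
  apply Polynomial.irreducible_of_degree_le_three_of_not_isRoot
  · rw [quad_natDegree ha]; simp
  · intro ρ hρ
    have hρ' : a * ρ ^ 2 + b * ρ + c = 0 := by
      have : Polynomial.eval ρ (quad a b c) = 0 := hρ
      simpa [quad] using this
    have h1 : qf a b c = (X 0 - C ρ * X 1) * (C a * X 0 + C (a * ρ + b) * X 1) := by
      have hc : c = -(a * ρ ^ 2 + b * ρ) := by linear_combination hρ'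
      unfold qf
      rw [hc]
      simp only [map_add, map_mul, map_neg, map_pow]
      ring
    rcases h.isUnit_or_isUnit h1 with hu | hu
    · exact not_isUnit_of_eval_zero _ (by simp) hu
    · exact not_isUnit_of_eval_zero _ (by simp) hu

end Groth.Agent.Lib.Helper8.Con
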