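import Mathlib
import Groth.Agent.Lib.Helper8.Con1
import Groth.Agent.Lib.Helper8.Con2
import Groth.Agent.Lib.Helper8.Con3

set_option backward.isDefEq.respectTransparency.types false
set_option autoImplicit false
set_option linter.unusedSectionVars false
set_option linter.style.haveILetI false

/-! # The parametrisation `K[x,y] → L[T;T⁻¹]` -/

namespace Groth.Agent.Lib.Helper8.Con

open MvPolynomial LaurentPolynomial

/-- Scaling the arguments of a homogeneous polynomial. -/
theorem eval₂_smul_of_isHomogeneous {R S σ : Type*} [CommRing R] [CommRing S] (φ : R →+* S)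
    (c : S) (v : σ → S) (f : MvPolynomial σ R) (N : ℕ) (hf : f.IsHomogeneous N) :
    MvPolynomial.eval₂ φ (fun i => c * v i) f = c ^ N * MvPolynomial.eval₂ φ v f := by
  have hmon : ∀ (m : σ →₀ ℕ) (a : R), m.degree = N →
      MvPolynomial.eval₂ φ (fun i => c * v i) (monomial m a)
        = c ^ N * MvPolynomial.eval₂ φ v (monomial m a) := by
    intro m a hm
    rw [eval₂_monomial, eval₂_monomial]
    have : (m.prod fun i k => (c * v i) ^ k) = c ^ N * m.prod fun i k => v i ^ k := by
      simp only [mul_pow]
      rw [Finsupp.prod_mul]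
      congr 1
      unfold Finsupp.prod
      rw [Finset.prod_pow_eq_pow_sum, ← hm]
      rfl
    rw [this]
    ring
  rw [f.as_sum, MvPolynomial.eval₂_sum, MvPolynomial.eval₂_sum, Finset.mul_sum]
  apply Finset.sum_congr rfl
  intro m hm
  apply hmon
  have := hf (mem_support_iff.mp hm)
  rw [← this]
  simp [Finsupp.degree, Finsupp.weight_apply, Finsupp.sum]

variable {K : Type*} [Field K] {a b c : K} [Fact (Irreducible (quad a b c))]

/-- The parametrisation `x ↦ α - α' w`, `y ↦ 1 - w`. -/
noncomputable def psi (a b c : K) [Fact (Irreducible (quad a b c))] :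
    MvPolynomial (Fin 2) K →ₐ[K] (QF a b c)[T;T⁻¹] :=
  aeval ![LaurentPolynomial.C (rt a b c) - LaurentPolynomial.C (rt' a b c) * T 1, 1 - T 1]

theorem psi_X0 : psi a b c (X 0) =
    LaurentPolynomial.C (rt a b c) - LaurentPolynomial.C (rt' a b c) * T 1 := by
  simp [psi]

theorem psi_X1 : psi a b c (X 1) = 1 - T 1 := by
  simp [psi]

theorem psi_C (k : K) : psi a b c (MvPolynomial.C k) =
    LaurentPolynomial.C (algebraMap K (QF a b c) k) := by
  simp [psi, LaurentPolynomial.algebraMap_apply]

/-- The constant `a (α - α')²`. -/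
noncomputable def dd (a b c : K) [Fact (Irreducible (quad a b c))] : QF a b c :=
  algebraMap K (QF a b c) a * (rt a b c - rt' a b c) ^ 2

theorem dd_ne_zero (ha : a ≠ 0) (hd : b ^ 2 - 4 * a * c ≠ 0) : dd a b c ≠ 0 := by
  unfold dd
  apply mul_ne_zero
  · simpa using (algebraMap K (QF a b c)).injective.ne ha
  · exact pow_ne_zero _ (rt_sub_rt'_ne_zero ha hd)

theorem psi_qf (ha : a ≠ 0) : psi a b c (qf a b c) = LaurentPolynomial.C (dd a b c) * T 1 := by
  have h1 := congrArg (LaurentPolynomial.C (R := QF a b c)) (rt_eq (a := a) (b := b) (c := c))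
  have h2 := congrArg (LaurentPolynomial.C (R := QF a b c)) (rt'_eq (a := a) (b := b) (c := c) ha)
  simp only [map_add, map_mul, map_pow, map_zero] at h1 h2
  unfold qf dd
  simp only [map_add, map_mul, map_pow, map_sub, psi_X0, psi_X1, psi_C]
  linear_combination (1 - T 1) * h1 + (T 1 ^ 2 - T 1) * h2

section inj

variable (ha : a ≠ 0) (hd : b ^ 2 - 4 * a * c ≠ 0)

include ha hd in
theorem psi_injective_of_isHomogeneous (f : MvPolynomial (Fin 2) K) (N : ℕ)
    (hf : f.IsHomogeneous N) (h : psi a b c f = 0) : f = 0 := by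
  let F := FractionRing (MvPolynomial (Fin 2) (QF a b c))
  let j : MvPolynomial (Fin 2) (QF a b c) →+* F := algebraMap _ _
  have hj : Function.Injective j := IsFractionRing.injective _ _
  let P0 : MvPolynomial (Fin 2) (QF a b c) := X 0 - MvPolynomial.C (rt a b c) * X 1
  let P1 : MvPolynomial (Fin 2) (QF a b c) := X 0 - MvPolynomial.C (rt' a b c) * X 1
  have e0 : j P0 = j (X 0) - j (MvPolynomial.C (rt a b c)) * j (X 1) := by simp [P0]
  have e1 : j P1 = j (X 0) - j (MvPolynomial.C (rt' a b c)) * j (X 1) := by simp [P1]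
  have hP0 : j P0 ≠ 0 := by
    intro h0
    have : P0 = 0 := hj (by rw [h0, map_zero])
    have := congrArg (MvPolynomial.eval ![(1 : QF a b c), 0]) this
    simp [P0] at this
  have hP1 : j P1 ≠ 0 := by
    intro h0
    have : P1 = 0 := hj (by rw [h0, map_zero])
    have := congrArg (MvPolynomial.eval ![(1 : QF a b c), 0]) this
    simp [P1] at this
  have hw : j P0 / j P1 ≠ 0 := div_ne_zero hP0 hP1
  let e : (QF a b c)[T;T⁻¹] →+* F :=
    LaurentPolynomial.eval₂ (j.comp MvPolynomial.C) (Units.mk0 _ hw)
  let lam : F := j (MvPolynomial.C (rt a b c - rt' a b c)) / j P1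
  have hlam : lam ≠ 0 := by
    apply div_ne_zero _ hP1
    intro h0
    have : MvPolynomial.C (rt a b c - rt' a b c) = (0 : MvPolynomial (Fin 2) (QF a b c)) :=
      hj (by rw [h0, map_zero])
    rw [MvPolynomial.C_eq_zero] at this
    exact rt_sub_rt'_ne_zero ha hd this
  have hT : e (T 1) = j P0 / j P1 := by
    simp only [e]
    rw [LaurentPolynomial.eval₂_T]
    simp
  have hC : ∀ l : QF a b c, e (LaurentPolynomial.C l) = j (MvPolynomial.C l) := by
    intro l
    simp only [e]
    rw [LaurentPolynomial.eval₂_C]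
    rfl
  have hX0 : j (MvPolynomial.C (rt a b c)) - j (MvPolynomial.C (rt' a b c)) * (j P0 / j P1)
      = lam * j (X 0) := by
    simp only [lam, map_sub]
    rw [div_mul_eq_mul_div, eq_div_iff hP1, sub_mul, mul_assoc, div_mul_cancel₀ _ hP1, e0, e1]
    ring
  have hX1 : 1 - j P0 / j P1 = lam * j (X 1) := by
    simp only [lam, map_sub]
    rw [div_mul_eq_mul_div, eq_div_iff hP1, sub_mul, div_mul_cancel₀ _ hP1, e0, e1]
    ring
  have hcomp : e.comp (psi a b c).toRingHom
      = MvPolynomial.eval₂Hom ((j.comp MvPolynomial.C).comp (algebraMap K (QF a b c)))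
          (fun i => lam * j (X i)) := by
    apply MvPolynomial.ringHom_ext
    · intro k
      simp only [RingHom.comp_apply, AlgHom.toRingHom_eq_coe, RingHom.coe_coe, psi_C, hC,
        MvPolynomial.coe_eval₂Hom, MvPolynomial.eval₂_C]
    · intro i
      fin_cases i
      · simp only [RingHom.comp_apply, AlgHom.toRingHom_eq_coe, RingHom.coe_coe,
          MvPolynomial.coe_eval₂Hom, MvPolynomial.eval₂_X, Fin.zero_eta, psi_X0, map_sub, map_mul,
          hC, hT]
        exact hX0
      · simp only [RingHom.comp_apply, AlgHom.toRingHom_eq_coe, RingHom.coe_coe,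
          MvPolynomial.coe_eval₂Hom, MvPolynomial.eval₂_X, Fin.mk_one, psi_X1, map_sub, map_one,
          hT]
        exact hX1
  have h3 : e (psi a b c f) = lam ^ N * j (MvPolynomial.map (algebraMap K (QF a b c)) f) := by
    have := congrArg (fun g : MvPolynomial (Fin 2) K →+* F => g f) hcomp
    simp only [RingHom.comp_apply, AlgHom.toRingHom_eq_coe, RingHom.coe_coe,
      MvPolynomial.coe_eval₂Hom] at this
    rw [this, eval₂_smul_of_isHomogeneous _ _ _ _ N hf]
    congr 1
    rw [← MvPolynomial.eval₂_map]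
    have h5 : MvPolynomial.eval₂ (j.comp MvPolynomial.C) (fun i => j (X i))
        = fun p : MvPolynomial (Fin 2) (QF a b c) => j p := by
      funext p
      induction p using MvPolynomial.induction_on with
      | C a => simp
      | add p q hp hq => rw [MvPolynomial.eval₂_add, hp, hq, map_add]
      | mul_X p i hp => rw [MvPolynomial.eval₂_mul, hp, MvPolynomial.eval₂_X, map_mul]
    rw [h5]
  rw [h, map_zero] at h3
  have h4 : j (MvPolynomial.map (algebraMap K (QF a b c)) f) = 0 := by
    rcases mul_eq_zero.1 h3.symm with h6 | h6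
    · exact absurd h6 (pow_ne_zero N hlam)
    · exact h6
  have h5 : MvPolynomial.map (algebraMap K (QF a b c)) f = 0 := hj (by rw [h4, map_zero])
  exact MvPolynomial.map_injective _ (algebraMap K (QF a b c)).injective (by rw [h5, map_zero])

end inj

end Groth.Agent.Lib.Helper8.Con
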