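import Mathlib
import Groth.Agent.Lib.Helper8.Con1
import Groth.Agent.Lib.Helper8.Con2
import Groth.Agent.Lib.Helper8.Con3
import Groth.Agent.Lib.Helper8.Con4

set_option backward.isDefEq.respectTransparency.types false
set_option autoImplicit false
set_option linter.unusedSectionVars false
set_option linter.style.haveILetI false

/-! # The embedding of the coordinate ring of the punctured conic into `L[T;T⁻¹]` -/

attribute [local instance] MvPolynomial.gradedAlgebra

namespace Groth.Agent.Lib.Helper8.Con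

open MvPolynomial LaurentPolynomial

variable {K : Type*} [Field K]

/-- The coordinate ring. -/
abbrev AA (q : MvPolynomial (Fin 2) K) : Type _ :=
  HomogeneousLocalization.Away (MvPolynomial.homogeneousSubmodule (Fin 2) K) q

theorem val_smul_one (q : MvPolynomial (Fin 2) K) (k : K) :
    (k • (1 : AA q)).val = algebraMap (MvPolynomial (Fin 2) K) (Localization.Away q)
      (MvPolynomial.C k) := by
  rw [HomogeneousLocalization.val_smul, HomogeneousLocalization.val_one, Algebra.smul_def, mul_one]
  rfl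

/-- The structure map `K → A`. -/
noncomputable def rho (q : MvPolynomial (Fin 2) K) : K →+* AA q where
  toFun k := k • (1 : AA q)
  map_one' := by
    apply HomogeneousLocalization.val_injective
    rw [val_smul_one]; simp
  map_zero' := by
    apply HomogeneousLocalization.val_injective
    rw [val_smul_one]; simp
  map_mul' x y := by
    apply HomogeneousLocalization.val_injective
    rw [HomogeneousLocalization.val_mul, val_smul_one, val_smul_one, val_smul_one, map_mul, map_mul]
  map_add' x y := by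
    apply HomogeneousLocalization.val_injective
    rw [HomogeneousLocalization.val_add, val_smul_one, val_smul_one, val_smul_one, map_add, map_add]

theorem val_rho (q : MvPolynomial (Fin 2) K) (k : K) :
    (rho q k).val = algebraMap (MvPolynomial (Fin 2) K) (Localization.Away q)
      (MvPolynomial.C k) := val_smul_one q k

theorem smul_eq_rho_mul (q : MvPolynomial (Fin 2) K) (k : K) (z : AA q) :
    k • z = rho q k * z := by
  apply HomogeneousLocalization.val_injective
  rw [HomogeneousLocalization.val_smul, HomogeneousLocalization.val_mul, val_rho,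
    Algebra.smul_def]
  rfl

variable {a b c : K} [Fact (Irreducible (quad a b c))]

theorem isUnit_psi_qf (ha : a ≠ 0) (hd : b ^ 2 - 4 * a * c ≠ 0) :
    IsUnit ((psi a b c).toRingHom (qf a b c)) := by
  change IsUnit (psi a b c (qf a b c))
  rw [psi_qf ha]
  apply IsUnit.mul
  · exact (IsUnit.mk0 _ (dd_ne_zero ha hd)).map LaurentPolynomial.C
  · exact isUnit_T 1

/-- The embedding `A → L[T;T⁻¹]`. -/
noncomputable def iota (ha : a ≠ 0) (hd : b ^ 2 - 4 * a * c ≠ 0) :
    AA (qf a b c) →+* (QF a b c)[T;T⁻¹] :=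
  (IsLocalization.Away.lift (qf a b c) (isUnit_psi_qf ha hd)).comp
    (algebraMap (AA (qf a b c)) (Localization.Away (qf a b c)))

theorem iota_apply (ha : a ≠ 0) (hd : b ^ 2 - 4 * a * c ≠ 0) (z : AA (qf a b c)) :
    iota ha hd z = IsLocalization.Away.lift (qf a b c) (isUnit_psi_qf ha hd) z.val := rfl

theorem qf_mem (a b c : K) : qf a b c ∈ MvPolynomial.homogeneousSubmodule (Fin 2) K 2 :=
  (mem_homogeneousSubmodule _ _).2 (qf_isHomogeneous a b c)

theorem iota_mk (ha : a ≠ 0) (hd : b ^ 2 - 4 * a * c ≠ 0) (n : ℕ) (x : MvPolynomial (Fin 2) K)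
    (hx : x ∈ MvPolynomial.homogeneousSubmodule (Fin 2) K (n • 2)) :
    iota ha hd (HomogeneousLocalization.Away.mk _ (qf_mem a b c) n x hx)
      * psi a b c (qf a b c) ^ n = psi a b c x := by
  rw [iota_apply, HomogeneousLocalization.Away.val_mk]
  have h1 : (Localization.mk x ⟨qf a b c ^ n, n, rfl⟩ : Localization.Away (qf a b c))
      * algebraMap _ _ (qf a b c ^ n) = algebraMap _ _ x := by
    rw [Localization.mk_eq_mk']
    exact IsLocalization.mk'_spec _ _ _
  have h2 := congrArg (IsLocalization.Away.lift (qf a b c) (isUnit_psi_qf ha hd)) h1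
  rw [map_mul, IsLocalization.Away.lift_eq, IsLocalization.Away.lift_eq] at h2
  rw [map_pow] at h2
  exact h2

theorem iota_rho (ha : a ≠ 0) (hd : b ^ 2 - 4 * a * c ≠ 0) (k : K) :
    iota ha hd (rho _ k) = LaurentPolynomial.C (algebraMap K (QF a b c) k) := by
  rw [iota_apply, val_rho, IsLocalization.Away.lift_eq]
  exact psi_C k

theorem iota_injective (ha : a ≠ 0) (hd : b ^ 2 - 4 * a * c ≠ 0) :
    Function.Injective (iota (a := a) (b := b) (c := c) ha hd) := by
  rw [injective_iff_map_eq_zero]
  intro z hz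
  obtain ⟨n, x, hx, rfl⟩ := HomogeneousLocalization.Away.mk_surjective _ (qf_mem a b c) z
  have h1 := iota_mk ha hd n x hx
  rw [hz, zero_mul] at h1
  have h2 : x = 0 := psi_injective_of_isHomogeneous ha hd x (n • 2)
    ((mem_homogeneousSubmodule _ _).1 hx) h1.symm
  subst h2
  apply HomogeneousLocalization.val_injective
  rw [HomogeneousLocalization.Away.val_mk, HomogeneousLocalization.val_zero, Localization.mk_zero]

/-- The unit `T (-1)`. -/
noncomputable def Tinv (L : Type*) [Field L] : (L[T;T⁻¹])ˣ :=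
  ⟨T (-1), T 1, by rw [← T_add]; simp, by rw [← T_add]; simp⟩

/-- The semilinear involution `w ↦ w⁻¹` of `L[T;T⁻¹]`. -/
noncomputable def tauB (ha : a ≠ 0) : (QF a b c)[T;T⁻¹] →+* (QF a b c)[T;T⁻¹] :=
  LaurentPolynomial.eval₂
    (LaurentPolynomial.C.comp ((conj ha : QF a b c →ₐ[K] QF a b c) : QF a b c →+* QF a b c))
    (Tinv (QF a b c))

theorem tauB_C (ha : a ≠ 0) (l : QF a b c) :
    tauB ha (LaurentPolynomial.C l) = LaurentPolynomial.C (conj ha l) := by
  unfold tauB
  rw [LaurentPolynomial.eval₂_C]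
  rfl

theorem tauB_T1 (ha : a ≠ 0) : tauB (a := a) (b := b) (c := c) ha (T 1) = T (-1) := by
  unfold tauB
  rw [LaurentPolynomial.eval₂_T]
  simp [Tinv]

theorem tauB_Tneg1 (ha : a ≠ 0) : tauB (a := a) (b := b) (c := c) ha (T (-1)) = T 1 := by
  unfold tauB
  rw [LaurentPolynomial.eval₂_T]
  simp [Tinv]

theorem tauB_psi (ha : a ≠ 0) (x : MvPolynomial (Fin 2) K) (N : ℕ) (hx : x.IsHomogeneous N) :
    tauB ha (psi a b c x) = (-T (-1)) ^ N * psi a b c x := by
  have hcomp : (tauB ha).comp (psi a b c).toRingHom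
      = MvPolynomial.eval₂Hom (algebraMap K (QF a b c)[T;T⁻¹])
          (fun i => (-T (-1)) * (![LaurentPolynomial.C (rt a b c)
            - LaurentPolynomial.C (rt' a b c) * T 1, 1 - T 1] : Fin 2 → (QF a b c)[T;T⁻¹]) i) := by
    apply MvPolynomial.ringHom_ext
    · intro k
      simp only [RingHom.comp_apply, AlgHom.toRingHom_eq_coe, RingHom.coe_coe, psi_C, tauB_C,
        MvPolynomial.coe_eval₂Hom, MvPolynomial.eval₂_C, AlgHom.commutes,
        LaurentPolynomial.algebraMap_apply]
    · intro i
      have hTT : (T (-1) : (QF a b c)[T;T⁻¹]) * T 1 = 1 := by rw [← T_add]; simp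
      fin_cases i
      · simp only [RingHom.comp_apply, AlgHom.toRingHom_eq_coe, RingHom.coe_coe,
          MvPolynomial.coe_eval₂Hom, MvPolynomial.eval₂_X, Fin.zero_eta, psi_X0, map_sub, map_mul,
          tauB_C, tauB_T1, conj_rt, conj_rt', Matrix.cons_val_zero]
        linear_combination (-LaurentPolynomial.C (rt' a b c)) * hTT
      · simp only [RingHom.comp_apply, AlgHom.toRingHom_eq_coe, RingHom.coe_coe,
          MvPolynomial.coe_eval₂Hom, MvPolynomial.eval₂_X, Fin.mk_one, psi_X1, map_sub, map_one,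
          tauB_T1, Matrix.cons_val_one, Matrix.cons_val_zero]
        linear_combination (-1 : (QF a b c)[T;T⁻¹]) * hTT
  have := congrArg (fun g : MvPolynomial (Fin 2) K →+* (QF a b c)[T;T⁻¹] => g x) hcomp
  simp only [RingHom.comp_apply, AlgHom.toRingHom_eq_coe, RingHom.coe_coe,
    MvPolynomial.coe_eval₂Hom] at this
  rw [this, eval₂_smul_of_isHomogeneous _ _ _ _ N hx]
  rfl

theorem tauB_iota (ha : a ≠ 0) (hd : b ^ 2 - 4 * a * c ≠ 0) (z : AA (qf a b c)) :
    tauB ha (iota ha hd z) = iota ha hd z := by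
  obtain ⟨n, x, hx, rfl⟩ := HomogeneousLocalization.Away.mk_surjective _ (qf_mem a b c) z
  have h1 := iota_mk ha hd n x hx
  have h2 := congrArg (tauB ha) h1
  rw [map_mul, map_pow, tauB_psi ha x (n • 2) ((mem_homogeneousSubmodule _ _).1 hx),
    tauB_psi ha (qf a b c) 2 (qf_isHomogeneous a b c), ← h1] at h2
  have hU : IsUnit ((-T (-1) : (QF a b c)[T;T⁻¹]) ^ (n • 2) * psi a b c (qf a b c) ^ n) := by
    apply IsUnit.mul
    · exact (IsUnit.neg (isUnit_T (R := QF a b c) (-1))).pow _
    · exact (isUnit_psi_qf ha hd).pow n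
  apply hU.mul_left_injective
  simp only
  rw [smul_eq_mul] at h2 ⊢
  rw [mul_pow, ← pow_mul, mul_comm 2 n] at h2
  linear_combination h2

end Groth.Agent.Lib.Helper8.Con
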