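import Mathlib
import Groth.Agent.Lib.Helper8.Con1
import Groth.Agent.Lib.Helper8.Con2
import Groth.Agent.Lib.Helper8.Con3
import Groth.Agent.Lib.Helper8.Con4
import Groth.Agent.Lib.Helper8.Con5

set_option backward.isDefEq.respectTransparency.types false
set_option autoImplicit false
set_option linter.unusedSectionVars false
set_option linter.style.haveILetI false

/-! # Base change of the coordinate ring of the punctured conic -/

attribute [local instance] MvPolynomial.gradedAlgebra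

namespace Groth.Agent.Lib.Helper8.Con

open MvPolynomial LaurentPolynomial TensorProduct

variable {K : Type*} [Field K]

/-- The `K`-algebra structure on the coordinate ring. -/
@[reducible] noncomputable def algAA (q : MvPolynomial (Fin 2) K) : Algebra K (AA q) :=
  (rho q).toAlgebra

attribute [local instance] algAA

variable {a b c : K} [Fact (Irreducible (quad a b c))]

/-- `iota` as a `K`-algebra homomorphism. -/
noncomputable def iotaA (ha : a ≠ 0) (hd : b ^ 2 - 4 * a * c ≠ 0) :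
    AA (qf a b c) →ₐ[K] (QF a b c)[T;T⁻¹] :=
  { iota ha hd with
    commutes' := fun k => by
      change iota ha hd (rho _ k) = _
      rw [iota_rho, LaurentPolynomial.algebraMap_apply] }

theorem iotaA_apply (ha : a ≠ 0) (hd : b ^ 2 - 4 * a * c ≠ 0) (z : AA (qf a b c)) :
    iotaA ha hd z = iota ha hd z := rfl

/-- The comparison map `L ⊗ A → L[T;T⁻¹]`. -/
noncomputable def Phi (ha : a ≠ 0) (hd : b ^ 2 - 4 * a * c ≠ 0) :
    QF a b c ⊗[K] AA (qf a b c) →ₐ[QF a b c] (QF a b c)[T;T⁻¹] :=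
  Algebra.TensorProduct.lift (Algebra.ofId _ _) (iotaA ha hd) fun _ _ => Commute.all _ _

theorem Phi_tmul (ha : a ≠ 0) (hd : b ^ 2 - 4 * a * c ≠ 0) (l : QF a b c) (z : AA (qf a b c)) :
    Phi ha hd (l ⊗ₜ z) = LaurentPolynomial.C l * iota ha hd z := by
  unfold Phi
  rw [Algebra.TensorProduct.lift_tmul, iotaA_apply]
  rfl

theorem exists_decomp (ha : a ≠ 0) (t : QF a b c ⊗[K] AA (qf a b c)) :
    ∃ z₀ z₁ : AA (qf a b c), t = (1 : QF a b c) ⊗ₜ z₀ + rt a b c ⊗ₜ z₁ := by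
  induction t using TensorProduct.induction_on with
  | zero => exact ⟨0, 0, by simp⟩
  | tmul l z =>
    obtain ⟨x, y, rfl⟩ := exists_repr ha l
    refine ⟨algebraMap K (AA (qf a b c)) x * z, algebraMap K (AA (qf a b c)) y * z, ?_⟩
    rw [add_tmul, Algebra.algebraMap_eq_smul_one, Algebra.algebraMap_eq_smul_one,
      smul_mul_assoc, one_mul, TensorProduct.smul_tmul, TensorProduct.smul_tmul,
      Algebra.smul_def, Algebra.smul_def]
  | add t₁ t₂ h₁ h₂ =>
    obtain ⟨z₀, z₁, rfl⟩ := h₁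
    obtain ⟨z₀', z₁', rfl⟩ := h₂
    refine ⟨z₀ + z₀', z₁ + z₁', ?_⟩
    rw [tmul_add, tmul_add]
    abel

theorem Phi_injective (ha : a ≠ 0) (hd : b ^ 2 - 4 * a * c ≠ 0) :
    Function.Injective (Phi (a := a) (b := b) (c := c) ha hd) := by
  rw [injective_iff_map_eq_zero]
  intro t ht
  obtain ⟨z₀, z₁, rfl⟩ := exists_decomp ha t
  rw [map_add, Phi_tmul, Phi_tmul, map_one, one_mul] at ht
  have h2 := congrArg (tauB ha) ht
  rw [map_add, map_mul, tauB_iota, tauB_iota, tauB_C, conj_rt, map_zero] at h2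
  have h3 : LaurentPolynomial.C (rt a b c - rt' a b c) * iota ha hd z₁ = 0 := by
    rw [map_sub]
    linear_combination ht - h2
  have hu : IsUnit (LaurentPolynomial.C (rt a b c - rt' a b c) : (QF a b c)[T;T⁻¹]) :=
    (IsUnit.mk0 _ (rt_sub_rt'_ne_zero ha hd)).map LaurentPolynomial.C
  have h4 : iota ha hd z₁ = 0 := by
    have := hu.mul_right_eq_zero.1 h3
    exact this
  have h5 : z₁ = 0 := iota_injective ha hd (by rw [h4, map_zero])
  rw [h4, mul_zero, add_zero] at ht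
  have h6 : z₀ = 0 := iota_injective ha hd (by rw [ht, map_zero])
  rw [h5, h6]
  simp

theorem mem_X0sq : (X 0 ^ 2 : MvPolynomial (Fin 2) K)
    ∈ MvPolynomial.homogeneousSubmodule (Fin 2) K (1 • 2) :=
  (mem_homogeneousSubmodule _ _).2 (by
    have := (isHomogeneous_X K (0 : Fin 2)).pow 2
    simpa using this)

theorem mem_X0X1 : (X 0 * X 1 : MvPolynomial (Fin 2) K)
    ∈ MvPolynomial.homogeneousSubmodule (Fin 2) K (1 • 2) :=
  (mem_homogeneousSubmodule _ _).2 (by
    have := (isHomogeneous_X K (0 : Fin 2)).mul (isHomogeneous_X K (1 : Fin 2))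
    simpa using this)

theorem mem_X1sq : (X 1 ^ 2 : MvPolynomial (Fin 2) K)
    ∈ MvPolynomial.homogeneousSubmodule (Fin 2) K (1 • 2) :=
  (mem_homogeneousSubmodule _ _).2 (by
    have := (isHomogeneous_X K (1 : Fin 2)).pow 2
    simpa using this)

/-- The elements `x²/q`, `xy/q`, `y²/q`. -/
noncomputable def u1 (a b c : K) : AA (qf a b c) :=
  HomogeneousLocalization.Away.mk _ (qf_mem a b c) 1 (X 0 ^ 2) mem_X0sq

noncomputable def v1 (a b c : K) : AA (qf a b c) :=
  HomogeneousLocalization.Away.mk _ (qf_mem a b c) 1 (X 0 * X 1) mem_X0X1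

noncomputable def s1 (a b c : K) : AA (qf a b c) :=
  HomogeneousLocalization.Away.mk _ (qf_mem a b c) 1 (X 1 ^ 2) mem_X1sq

theorem iota_u1 (ha : a ≠ 0) (hd : b ^ 2 - 4 * a * c ≠ 0) :
    iota ha hd (u1 a b c) * (LaurentPolynomial.C (dd a b c) * T 1)
      = (LaurentPolynomial.C (rt a b c) - LaurentPolynomial.C (rt' a b c) * T 1) ^ 2 := by
  have := iota_mk ha hd 1 (X 0 ^ 2) mem_X0sq
  rw [pow_one, psi_qf ha, map_pow, psi_X0] at this
  exact this

theorem iota_v1 (ha : a ≠ 0) (hd : b ^ 2 - 4 * a * c ≠ 0) :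
    iota ha hd (v1 a b c) * (LaurentPolynomial.C (dd a b c) * T 1)
      = (LaurentPolynomial.C (rt a b c) - LaurentPolynomial.C (rt' a b c) * T 1) * (1 - T 1) := by
  have := iota_mk ha hd 1 (X 0 * X 1) mem_X0X1
  rw [pow_one, psi_qf ha, map_mul, psi_X0, psi_X1] at this
  exact this

theorem iota_s1 (ha : a ≠ 0) (hd : b ^ 2 - 4 * a * c ≠ 0) :
    iota ha hd (s1 a b c) * (LaurentPolynomial.C (dd a b c) * T 1) = (1 - T 1) ^ 2 := by
  have := iota_mk ha hd 1 (X 1 ^ 2) mem_X1sq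
  rw [pow_one, psi_qf ha, map_pow, psi_X1] at this
  exact this

theorem C_dd : (LaurentPolynomial.C (dd a b c) : (QF a b c)[T;T⁻¹])
    = LaurentPolynomial.C (algebraMap K (QF a b c) a)
      * (LaurentPolynomial.C (rt a b c) - LaurentPolynomial.C (rt' a b c)) ^ 2 := by
  unfold dd
  simp only [map_mul, map_pow, map_sub]

/-- The preimage of `T 1`. -/
noncomputable def preT (a b c : K) [Fact (Irreducible (quad a b c))] :
    QF a b c ⊗[K] AA (qf a b c) :=
  (algebraMap K (QF a b c) a) ⊗ₜ u1 a b c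
    - (2 * algebraMap K (QF a b c) a * rt a b c) ⊗ₜ v1 a b c
    + (algebraMap K (QF a b c) a * rt a b c ^ 2) ⊗ₜ s1 a b c

/-- The preimage of `T (-1)`. -/
noncomputable def preT' (a b c : K) [Fact (Irreducible (quad a b c))] :
    QF a b c ⊗[K] AA (qf a b c) :=
  (algebraMap K (QF a b c) a) ⊗ₜ u1 a b c
    - (2 * algebraMap K (QF a b c) a * rt' a b c) ⊗ₜ v1 a b c
    + (algebraMap K (QF a b c) a * rt' a b c ^ 2) ⊗ₜ s1 a b c

theorem isUnit_dT (ha : a ≠ 0) (hd : b ^ 2 - 4 * a * c ≠ 0) :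
    IsUnit (LaurentPolynomial.C (dd a b c) * T 1 : (QF a b c)[T;T⁻¹]) := by
  apply IsUnit.mul
  · exact (IsUnit.mk0 _ (dd_ne_zero ha hd)).map LaurentPolynomial.C
  · exact isUnit_T 1

theorem Phi_preT (ha : a ≠ 0) (hd : b ^ 2 - 4 * a * c ≠ 0) :
    Phi ha hd (preT a b c) = T 1 := by
  apply (isUnit_dT ha hd).mul_left_injective
  simp only
  unfold preT
  rw [map_add, map_sub, Phi_tmul, Phi_tmul, Phi_tmul]
  have e1 := iota_u1 ha hd
  have e2 := iota_v1 ha hd
  have e3 := iota_s1 ha hd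
  have hdd := C_dd (a := a) (b := b) (c := c)
  simp only [map_mul, map_pow, map_ofNat]
  linear_combination (LaurentPolynomial.C (algebraMap K (QF a b c) a)) * e1
    - (2 * LaurentPolynomial.C (algebraMap K (QF a b c) a) * LaurentPolynomial.C (rt a b c)) * e2
    + (LaurentPolynomial.C (algebraMap K (QF a b c) a) * LaurentPolynomial.C (rt a b c) ^ 2) * e3
    + (-(T 1 * T 1)) * hdd

theorem Phi_preT' (ha : a ≠ 0) (hd : b ^ 2 - 4 * a * c ≠ 0) :
    Phi ha hd (preT' a b c) = T (-1) := by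
  apply (isUnit_dT ha hd).mul_left_injective
  simp only
  unfold preT'
  rw [map_add, map_sub, Phi_tmul, Phi_tmul, Phi_tmul]
  have e1 := iota_u1 ha hd
  have e2 := iota_v1 ha hd
  have e3 := iota_s1 ha hd
  have hdd := C_dd (a := a) (b := b) (c := c)
  have hTT : (T (-1) : (QF a b c)[T;T⁻¹]) * T 1 = 1 := by rw [← T_add]; simp
  simp only [map_mul, map_pow, map_ofNat]
  linear_combination (LaurentPolynomial.C (algebraMap K (QF a b c) a)) * e1
    - (2 * LaurentPolynomial.C (algebraMap K (QF a b c) a) * LaurentPolynomial.C (rt' a b c)) * e2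
    + (LaurentPolynomial.C (algebraMap K (QF a b c) a) * LaurentPolynomial.C (rt' a b c) ^ 2) * e3
    + (-1 : (QF a b c)[T;T⁻¹]) * hdd + (-LaurentPolynomial.C (dd a b c)) * hTT

theorem Phi_surjective (ha : a ≠ 0) (hd : b ^ 2 - 4 * a * c ≠ 0) :
    Function.Surjective (Phi (a := a) (b := b) (c := c) ha hd) := by
  have hT : ∀ n : ℤ, (T n : (QF a b c)[T;T⁻¹]) ∈ (Phi ha hd).range := by
    intro n
    obtain ⟨m, rfl | rfl⟩ := Int.eq_nat_or_neg n
    · have : (T (m : ℤ) : (QF a b c)[T;T⁻¹]) = T 1 ^ m := by rw [T_pow]; simp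
      rw [this]
      exact Subalgebra.pow_mem _ ((AlgHom.mem_range _).2 ⟨_, Phi_preT ha hd⟩) m
    · have : (T (-(m : ℤ)) : (QF a b c)[T;T⁻¹]) = T (-1) ^ m := by rw [T_pow]; simp
      rw [this]
      exact Subalgebra.pow_mem _ ((AlgHom.mem_range _).2 ⟨_, Phi_preT' ha hd⟩) m
  intro f
  change f ∈ (Phi ha hd).range
  induction f using LaurentPolynomial.induction_on' with
  | add p q hp hq => exact Subalgebra.add_mem _ hp hq
  | C_mul_T n l =>
    apply Subalgebra.mul_mem _ _ (hT n)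
    exact (AlgHom.mem_range _).2 ⟨l ⊗ₜ 1, by rw [Phi_tmul, map_one, mul_one]⟩

/-- `Phi` as an equivalence. -/
noncomputable def PhiE (ha : a ≠ 0) (hd : b ^ 2 - 4 * a * c ≠ 0) :
    QF a b c ⊗[K] AA (qf a b c) ≃ₐ[QF a b c] (QF a b c)[T;T⁻¹] :=
  AlgEquiv.ofBijective (Phi ha hd) ⟨Phi_injective ha hd, Phi_surjective ha hd⟩

theorem PhiE_apply (ha : a ≠ 0) (hd : b ^ 2 - 4 * a * c ≠ 0) (t : QF a b c ⊗[K] AA (qf a b c)) :
    PhiE ha hd t = Phi ha hd t := rfl

/-- A ring automorphism fixing `K` as an algebra homomorphism. -/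
noncomputable def gA (g : AA (qf a b c) ≃+* AA (qf a b c))
    (hg : ∀ k : K, g (rho _ k) = rho _ k) : AA (qf a b c) →ₐ[K] AA (qf a b c) :=
  { g.toRingHom with commutes' := hg }

/-- The `L`-linear extension of an automorphism. -/
noncomputable def gL (ha : a ≠ 0) (hd : b ^ 2 - 4 * a * c ≠ 0)
    (g : AA (qf a b c) ≃+* AA (qf a b c)) (hg : ∀ k : K, g (rho _ k) = rho _ k) :
    (QF a b c)[T;T⁻¹] →ₐ[QF a b c] (QF a b c)[T;T⁻¹] :=
  ((PhiE ha hd).toAlgHom.comp
    (Algebra.TensorProduct.map (AlgHom.id (QF a b c) (QF a b c)) (gA g hg))).comp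
      (PhiE ha hd).symm.toAlgHom

theorem gL_C_mul_iota (ha : a ≠ 0) (hd : b ^ 2 - 4 * a * c ≠ 0)
    (g : AA (qf a b c) ≃+* AA (qf a b c)) (hg : ∀ k : K, g (rho _ k) = rho _ k)
    (l : QF a b c) (z : AA (qf a b c)) :
    gL ha hd g hg (LaurentPolynomial.C l * iota ha hd z)
      = LaurentPolynomial.C l * iota ha hd (g z) := by
  have h1 : LaurentPolynomial.C l * iota ha hd z = PhiE ha hd (l ⊗ₜ z) := by
    rw [PhiE_apply, Phi_tmul]
  unfold gL
  rw [h1]
  change PhiE ha hd ((Algebra.TensorProduct.map (AlgHom.id _ _) (gA g hg))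
    ((PhiE ha hd).symm (PhiE ha hd (l ⊗ₜ z)))) = _
  rw [AlgEquiv.symm_apply_apply, Algebra.TensorProduct.map_tmul, PhiE_apply, Phi_tmul]
  rfl

theorem gL_iota (ha : a ≠ 0) (hd : b ^ 2 - 4 * a * c ≠ 0)
    (g : AA (qf a b c) ≃+* AA (qf a b c)) (hg : ∀ k : K, g (rho _ k) = rho _ k)
    (z : AA (qf a b c)) :
    gL ha hd g hg (iota ha hd z) = iota ha hd (g z) := by
  have := gL_C_mul_iota ha hd g hg 1 z
  simpa using this

/-- An `L`-algebra endomorphism of `L[T;T⁻¹]` is determined by its values on `iota A`. -/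
theorem algHom_ext_iota (ha : a ≠ 0) (hd : b ^ 2 - 4 * a * c ≠ 0)
    (h₁ h₂ : (QF a b c)[T;T⁻¹] →ₐ[QF a b c] (QF a b c)[T;T⁻¹])
    (h : ∀ z, h₁ (iota ha hd z) = h₂ (iota ha hd z)) : h₁ = h₂ := by
  have : h₁.comp (Phi ha hd) = h₂.comp (Phi ha hd) := by
    apply Algebra.TensorProduct.ext'
    intro l z
    simp only [AlgHom.comp_apply, Phi_tmul, map_mul, h]
    congr 1
    rw [LaurentPolynomial.C_eq_algebraMap, AlgHom.commutes, AlgHom.commutes]
  apply AlgHom.ext
  intro f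
  obtain ⟨t, rfl⟩ := Phi_surjective ha hd f
  exact congrArg (fun F : _ →ₐ[QF a b c] (QF a b c)[T;T⁻¹] => F t) this

theorem gL_tauB (ha : a ≠ 0) (hd : b ^ 2 - 4 * a * c ≠ 0)
    (g : AA (qf a b c) ≃+* AA (qf a b c)) (hg : ∀ k : K, g (rho _ k) = rho _ k)
    (f : (QF a b c)[T;T⁻¹]) :
    tauB ha (gL ha hd g hg f) = gL ha hd g hg (tauB ha f) := by
  obtain ⟨t, rfl⟩ := Phi_surjective ha hd f
  induction t using TensorProduct.induction_on with
  | zero => simp
  | tmul l z =>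
    rw [Phi_tmul, gL_C_mul_iota, map_mul, map_mul, tauB_C, tauB_iota, tauB_iota, gL_C_mul_iota]
  | add t₁ t₂ h₁ h₂ => simp only [map_add, h₁, h₂]

end Groth.Agent.Lib.Helper8.Con
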