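import Mathlib
import Groth.Agent.Lib.Helper8.Con1
import Groth.Agent.Lib.Helper8.Con2
import Groth.Agent.Lib.Helper8.Con3
import Groth.Agent.Lib.Helper8.Con4
import Groth.Agent.Lib.Helper8.Con5
import Groth.Agent.Lib.Helper8.Con6

set_option backward.isDefEq.respectTransparency.types false
set_option autoImplicit false
set_option linter.unusedSectionVars false
set_option linter.style.haveILetI false

/-! # Automorphisms of the punctured conic -/

attribute [local instance] MvPolynomial.gradedAlgebra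

namespace Groth.Agent.Lib.Helper8.Con

open MvPolynomial LaurentPolynomial TensorProduct

variable {K : Type*} [Field K]

/-- Images of `T m` under a ring endomorphism of `L[T;T⁻¹]`. -/
theorem hom_T {L : Type*} [Field L] (h : L[T;T⁻¹] →+* L[T;T⁻¹])
    (hC : ∀ l, h (LaurentPolynomial.C l) = LaurentPolynomial.C l) {c : L} {n : ℤ} (hc : c ≠ 0)
    (h1 : h (T 1) = LaurentPolynomial.C c * T n) (m : ℤ) :
    h (T m) = LaurentPolynomial.C (c ^ m) * T (n * m) := by
  have hnat : ∀ k : ℕ, h (T (k : ℤ)) = LaurentPolynomial.C (c ^ k) * T (n * k) := by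
    intro k
    have : (T (k : ℤ) : L[T;T⁻¹]) = T 1 ^ k := by rw [T_pow]; simp
    rw [this, map_pow, h1, mul_pow, T_pow, ← map_pow, mul_comm (k : ℤ) n]
  obtain ⟨k, rfl | rfl⟩ := Int.eq_nat_or_neg m
  · rw [hnat k, zpow_natCast]
  · have hk := hnat k
    have hu : IsUnit (h (T (k : ℤ))) := (isUnit_T (k : ℤ)).map h
    apply hu.mul_left_injective
    simp only
    rw [← map_mul, ← T_add, neg_add_cancel, T_zero, map_one, hk]
    rw [mul_mul_mul_comm, ← map_mul, ← T_add, zpow_neg, zpow_natCast, inv_mul_cancel₀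
      (pow_ne_zero _ hc), map_one, one_mul]
    have : n * -(k : ℤ) + n * k = 0 := by ring
    rw [this, T_zero]

theorem algHom_ext_T {L : Type*} [Field L] (h₁ h₂ : L[T;T⁻¹] →ₐ[L] L[T;T⁻¹])
    (h : h₁ (T 1) = h₂ (T 1)) : h₁ = h₂ := by
  have hu : IsUnit (h₁ (T 1)) := (isUnit_T 1).map h₁
  obtain ⟨c, n, hc, hcn⟩ := laurent_unit _ hu
  have hC : ∀ (h' : L[T;T⁻¹] →ₐ[L] L[T;T⁻¹]) (l : L),
      (h' : L[T;T⁻¹] →+* L[T;T⁻¹]) (LaurentPolynomial.C l) = LaurentPolynomial.C l := by
    intro h' l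
    rw [LaurentPolynomial.C_eq_algebraMap]
    exact h'.commutes l
  apply AlgHom.ext
  intro f
  induction f using LaurentPolynomial.induction_on' with
  | add p q hp hq => rw [map_add, map_add, hp, hq]
  | C_mul_T m l =>
    have e1 := hom_T (h₁ : L[T;T⁻¹] →+* L[T;T⁻¹]) (hC h₁) hc hcn m
    have e2 := hom_T (h₂ : L[T;T⁻¹] →+* L[T;T⁻¹]) (hC h₂) hc (h ▸ hcn) m
    have e3 : h₁ (T m) = h₂ (T m) := e1.trans e2.symm
    have e4 : h₁ (LaurentPolynomial.C l) = h₂ (LaurentPolynomial.C l) := (hC h₁ l).trans (hC h₂ l).symm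
    rw [map_mul, map_mul, e3, e4]

/-- The subgroup of `K`-linear ring automorphisms. -/
def Hfix (q : MvPolynomial (Fin 2) K) : Subgroup (AA q ≃+* AA q) where
  carrier := {g | ∀ k : K, g (rho q k) = rho q k}
  mul_mem' := by
    intro g h hg hh k
    rw [RingAut.mul_apply, hh k, hg k]
  one_mem' := fun k => rfl
  inv_mem' := by
    intro g hg k
    rw [RingAut.inv_apply, RingEquiv.symm_apply_eq, hg k]

variable {a b c : K} [Fact (Irreducible (quad a b c))]

section main

variable (ha : a ≠ 0) (hd : b ^ 2 - 4 * a * c ≠ 0)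

/-- The extension as a monoid homomorphism. -/
noncomputable def gLhom : Hfix (qf a b c) →* ((QF a b c)[T;T⁻¹] →ₐ[QF a b c] (QF a b c)[T;T⁻¹]) where
  toFun g := gL ha hd g.1 g.2
  map_one' := by
    apply algHom_ext_iota ha hd
    intro z
    rw [gL_iota]
    rfl
  map_mul' g h := by
    apply algHom_ext_iota ha hd
    intro z
    rw [gL_iota, AlgHom.mul_apply, gL_iota, gL_iota]
    rfl

theorem gLhom_iota (g : Hfix (qf a b c)) (z : AA (qf a b c)) :
    gLhom ha hd g (iota ha hd z) = iota ha hd (g.1 z) := gL_iota ha hd g.1 g.2 z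

theorem gLhom_tauB (g : Hfix (qf a b c)) (f : (QF a b c)[T;T⁻¹]) :
    tauB ha (gLhom ha hd g f) = gLhom ha hd g (tauB ha f) := gL_tauB ha hd g.1 g.2 f

theorem gLhom_C (g : Hfix (qf a b c)) (l : QF a b c) :
    (gLhom ha hd g : (QF a b c)[T;T⁻¹] →+* (QF a b c)[T;T⁻¹]) (LaurentPolynomial.C l)
      = LaurentPolynomial.C l := by
  rw [LaurentPolynomial.C_eq_algebraMap]
  exact (gLhom ha hd g).commutes l

/-- The value at `T 1`. -/
noncomputable def theta (g : Hfix (qf a b c)) : (QF a b c)[T;T⁻¹] := gLhom ha hd g (T 1)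

theorem theta_injective : Function.Injective (theta (a := a) (b := b) (c := c) ha hd) := by
  intro g h hgh
  have h1 : gLhom ha hd g = gLhom ha hd h := algHom_ext_T _ _ hgh
  apply Subtype.ext
  apply RingEquiv.ext
  intro z
  apply iota_injective ha hd
  rw [← gLhom_iota, ← gLhom_iota, h1]

theorem theta_mul (g h : Hfix (qf a b c)) :
    theta ha hd (g * h) = gLhom ha hd g (theta ha hd h) := by
  unfold theta
  rw [map_mul, AlgHom.mul_apply]

theorem theta_one : theta (a := a) (b := b) (c := c) ha hd 1 = T 1 := by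
  unfold theta
  rw [map_one, AlgHom.one_apply]

theorem theta_form (g : Hfix (qf a b c)) :
    ∃ cc : QF a b c, cc ≠ 0 ∧
      (theta ha hd g = LaurentPolynomial.C cc * T 1 ∨ theta ha hd g = LaurentPolynomial.C cc * T (-1)) := by
  have hu : IsUnit (theta ha hd g) := (isUnit_T 1).map (gLhom ha hd g)
  obtain ⟨cc, n, hc, hcn⟩ := laurent_unit _ hu
  have hu' : IsUnit (theta ha hd g⁻¹) := (isUnit_T 1).map (gLhom ha hd g⁻¹)
  obtain ⟨cc', m, hc', hcm⟩ := laurent_unit _ hu'
  have h1 : theta ha hd (g * g⁻¹) = T 1 := by rw [mul_inv_cancel, theta_one]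
  rw [theta_mul, hcm, map_mul] at h1
  have h2 := hom_T (gLhom ha hd g : (QF a b c)[T;T⁻¹] →+* (QF a b c)[T;T⁻¹]) (gLhom_C ha hd g) hc hcn m
  have h3 : gLhom ha hd g (LaurentPolynomial.C cc') = LaurentPolynomial.C cc' := gLhom_C ha hd g cc'
  have h2' : gLhom ha hd g (T m) = LaurentPolynomial.C (cc ^ m) * T (n * m) := h2
  rw [h3, h2', ← mul_assoc, ← map_mul] at h1
  have h4 : (LaurentPolynomial.C (cc' * cc ^ m) * T (n * m) : (QF a b c)[T;T⁻¹])
      = LaurentPolynomial.C 1 * T 1 := by rw [h1]; simp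
  have h5 := (C_mul_T_injective (mul_ne_zero hc' (zpow_ne_zero _ hc)) h4).2
  refine ⟨cc, hc, ?_⟩
  rcases Int.eq_one_or_neg_one_of_mul_eq_one h5 with h6 | h6
  · left; rw [hcn, h6]
  · right; rw [hcn, h6]

/-- In the `+` case, the constant has norm one. -/
theorem conj_of_plus (g : Hfix (qf a b c)) (cc : QF a b c) (hc : cc ≠ 0)
    (h : theta ha hd g = LaurentPolynomial.C cc * T 1) : conj ha cc = cc⁻¹ := by
  have h1 := gLhom_tauB ha hd g (T 1)
  have h2 := hom_T (gLhom ha hd g : (QF a b c)[T;T⁻¹] →+* (QF a b c)[T;T⁻¹]) (gLhom_C ha hd g) hc h (-1)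
  have h2' : gLhom ha hd g (T (-1)) = LaurentPolynomial.C (cc ^ (-1 : ℤ)) * T (1 * (-1)) := h2
  have h3 : gLhom ha hd g (T 1) = LaurentPolynomial.C cc * T 1 := h
  rw [tauB_T1, h2', h3, map_mul, tauB_C, tauB_T1] at h1
  have h4 := (C_mul_T_injective (by
    intro h0
    have := congrArg (conj ha) h0
    rw [conj_conj, map_zero] at this
    exact hc this) h1).1
  rw [h4, zpow_neg, zpow_one]

theorem theta_pow_plus (g : Hfix (qf a b c)) (cc : QF a b c)
    (h : theta ha hd g = LaurentPolynomial.C cc * T 1) (N : ℕ) :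
    theta ha hd (g ^ N) = LaurentPolynomial.C (cc ^ N) * T 1 := by
  induction N with
  | zero => rw [pow_zero, theta_one, pow_zero, map_one, one_mul]
  | succ N ih =>
    rw [pow_succ, theta_mul, h, map_mul]
    have h3 : gLhom ha hd (g ^ N) (LaurentPolynomial.C cc) = LaurentPolynomial.C cc :=
      gLhom_C ha hd (g ^ N) cc
    have h4 : gLhom ha hd (g ^ N) (T 1) = LaurentPolynomial.C (cc ^ N) * T 1 := ih
    rw [h3, h4, ← mul_assoc, ← map_mul, pow_succ, mul_comm cc]

end main

end Groth.Agent.Lib.Helper8.Con
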