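import Mathlib
import Groth.Agent.Lib.Helper8.Con1
import Groth.Agent.Lib.Helper8.Con2
import Groth.Agent.Lib.Helper8.Con3
import Groth.Agent.Lib.Helper8.Con4
import Groth.Agent.Lib.Helper8.Con5
import Groth.Agent.Lib.Helper8.Con6
import Groth.Agent.Lib.Helper8.Con7

set_option backward.isDefEq.respectTransparency.types false
set_option autoImplicit false
set_option linter.unusedSectionVars false
set_option linter.style.haveILetI false

/-! # Finite groups of automorphisms of the punctured conic -/

attribute [local instance] MvPolynomial.gradedAlgebra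

namespace Groth.Agent.Lib.Helper8.Con

open MvPolynomial LaurentPolynomial TensorProduct

variable {K : Type*} [Field K]

variable {a b c : K} [Fact (Irreducible (quad a b c))]

section main

variable (hK : ∀ n : ℕ, 0 < n → (Polynomial.X ^ n - 1 : Polynomial K).Splits)
variable (ha : a ≠ 0) (hd : b ^ 2 - 4 * a * c ≠ 0)

include hK in
theorem plus_const (g : Hfix (qf a b c)) (hfin : ∃ N : ℕ, 0 < N ∧ g ^ N = 1)
    (cc : QF a b c) (hc : cc ≠ 0) (h : theta ha hd g = LaurentPolynomial.C cc * T 1) :
    cc = 1 ∨ cc = -1 := by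
  obtain ⟨N, hN, hgN⟩ := hfin
  have h1 := theta_pow_plus ha hd g cc h N
  rw [hgN, theta_one] at h1
  have h2 : (LaurentPolynomial.C 1 * T 1 : (QF a b c)[T;T⁻¹]) = LaurentPolynomial.C (cc ^ N) * T 1 := by
    rw [← h1]; simp
  have h3 : cc ^ N = 1 := ((C_mul_T_injective one_ne_zero h2).1).symm
  have h4 : cc ∈ (algebraMap K (QF a b c)).range := by
    apply (hK N hN).mem_range_of_isRoot (Polynomial.X_pow_sub_C_ne_zero hN 1)
    simp [Polynomial.IsRoot, h3]
  obtain ⟨k, rfl⟩ := h4
  have h5 := conj_of_plus ha hd g _ hc h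
  rw [AlgHom.commutes] at h5
  have h6 : algebraMap K (QF a b c) k * algebraMap K (QF a b c) k = 1 := by
    nth_rewrite 2 [h5]
    exact mul_inv_cancel₀ hc
  have h7 : (algebraMap K (QF a b c) k - 1) * (algebraMap K (QF a b c) k + 1) = 0 := by
    linear_combination h6
  rcases mul_eq_zero.1 h7 with h8 | h8
  · left; linear_combination h8
  · right; linear_combination h8

include hK ha hd in
theorem sq_eq_one (g : Hfix (qf a b c)) (hfin : ∃ N : ℕ, 0 < N ∧ g ^ N = 1) : g * g = 1 := by
  apply theta_injective ha hd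
  rw [theta_one, theta_mul]
  obtain ⟨cc, hc, h | h⟩ := theta_form ha hd g
  · have h1 := plus_const hK ha hd g hfin cc hc h
    have h3 : gLhom ha hd g (LaurentPolynomial.C cc) = LaurentPolynomial.C cc := gLhom_C ha hd g cc
    have h4 : gLhom ha hd g (T 1) = LaurentPolynomial.C cc * T 1 := h
    rw [h, map_mul, h3, h4, ← mul_assoc, ← map_mul]
    rcases h1 with rfl | rfl <;> simp
  · have h2 := hom_T (gLhom ha hd g : (QF a b c)[T;T⁻¹] →+* (QF a b c)[T;T⁻¹])
      (gLhom_C ha hd g) hc h (-1)
    have h2' : gLhom ha hd g (T (-1)) = LaurentPolynomial.C (cc ^ (-1 : ℤ)) * T (-1 * -1) := h2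
    have h3 : gLhom ha hd g (LaurentPolynomial.C cc) = LaurentPolynomial.C cc := gLhom_C ha hd g cc
    rw [h, map_mul, h3, h2', ← mul_assoc, ← map_mul, zpow_neg, zpow_one, mul_inv_cancel₀ hc]
    simp

include hK ha hd in
theorem main_qf (G : Subgroup (AA (qf a b c) ≃+* AA (qf a b c))) [Finite G]
    (hG : G ≤ Hfix (qf a b c)) :
    (∀ g ∈ G, g ^ 2 = 1) ∧ Nat.card G ≤ 4 := by
  classical
  have hfin : ∀ g : G, ∃ N : ℕ, 0 < N ∧ (Subgroup.inclusion hG g) ^ N = 1 := by
    intro g
    obtain ⟨N, hN, hgN⟩ := (isOfFinOrder_of_finite g).exists_pow_eq_one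
    exact ⟨N, hN, by rw [← map_pow, hgN, map_one]⟩
  constructor
  · intro g hg
    have h1 := sq_eq_one hK ha hd (Subgroup.inclusion hG ⟨g, hg⟩) (hfin ⟨g, hg⟩)
    have h2 := congrArg (fun x : Hfix (qf a b c) => (x : AA (qf a b c) ≃+* AA (qf a b c))) h1
    simpa [pow_two] using h2
  · -- counting
    let th : G → (QF a b c)[T;T⁻¹] := fun g => theta ha hd (Subgroup.inclusion hG g)
    have hth : Function.Injective th :=
      (theta_injective ha hd).comp (Subgroup.inclusion_injective hG)
    have hplus : ∀ g : G, ∀ cc : QF a b c, cc ≠ 0 → th g = LaurentPolynomial.C cc * T 1 →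
        th g = T 1 ∨ th g = -T 1 := by
      intro g cc hc h
      rcases plus_const hK ha hd _ (hfin g) cc hc h with rfl | rfl
      · left; rw [h]; simp
      · right; rw [h]; simp
    obtain ⟨c₀, hc₀⟩ : ∃ c₀ : QF a b c, ∀ g : G,
        th g ∈ ({T 1, -T 1, LaurentPolynomial.C c₀ * T (-1), -(LaurentPolynomial.C c₀ * T (-1))} :
          Finset (QF a b c)[T;T⁻¹]) := by
      by_cases hex : ∃ g₀ : G, ∃ c₀ : QF a b c, c₀ ≠ 0 ∧ th g₀ = LaurentPolynomial.C c₀ * T (-1)
      · obtain ⟨g₀, c₀, hc₀, hg₀⟩ := hex
        refine ⟨c₀, fun g => ?_⟩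
        obtain ⟨cc, hc, h | h⟩ := theta_form ha hd (Subgroup.inclusion hG g)
        · rcases hplus g cc hc h with h' | h'
          · simp [h']
          · simp [h']
        · -- the product g₀ * g is of plus type
          have h1 : th (g₀ * g) = LaurentPolynomial.C (cc * c₀⁻¹) * T 1 := by
            change theta ha hd (Subgroup.inclusion hG (g₀ * g)) = _
            rw [map_mul, theta_mul, h, map_mul]
            have h2 := hom_T (gLhom ha hd (Subgroup.inclusion hG g₀) :
              (QF a b c)[T;T⁻¹] →+* (QF a b c)[T;T⁻¹])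
              (gLhom_C ha hd _) hc₀ hg₀ (-1)
            have h2' : gLhom ha hd (Subgroup.inclusion hG g₀) (T (-1))
                = LaurentPolynomial.C (c₀ ^ (-1 : ℤ)) * T (-1 * -1) := h2
            have h3 : gLhom ha hd (Subgroup.inclusion hG g₀) (LaurentPolynomial.C cc)
                = LaurentPolynomial.C cc := gLhom_C ha hd _ cc
            rw [h3, h2', ← mul_assoc, ← map_mul, zpow_neg, zpow_one]
            simp
          have h4 := plus_const hK ha hd _ (hfin (g₀ * g)) (cc * c₀⁻¹)
            (mul_ne_zero hc (inv_ne_zero hc₀)) h1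
          have h5 : th g = LaurentPolynomial.C cc * T (-1) := h
          rcases h4 with h4 | h4
          · have : cc = c₀ := by
              field_simp at h4
              exact h4
            rw [h5, this]; simp
          · have : cc = -c₀ := by
              field_simp at h4
              linear_combination h4
            rw [h5, this]; simp
      · refine ⟨1, fun g => ?_⟩
        obtain ⟨cc, hc, h | h⟩ := theta_form ha hd (Subgroup.inclusion hG g)
        · rcases hplus g cc hc h with h' | h'
          · simp [h']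
          · simp [h']
        · exact absurd ⟨g, cc, hc, h⟩ hex
    let F : Finset (QF a b c)[T;T⁻¹] :=
      {T 1, -T 1, LaurentPolynomial.C c₀ * T (-1), -(LaurentPolynomial.C c₀ * T (-1))}
    let f : G → F := fun g => ⟨th g, hc₀ g⟩
    have hf : Function.Injective f := by
      intro g h hgh
      exact hth (congrArg Subtype.val hgh)
    calc Nat.card G ≤ Nat.card F := Nat.card_le_card_of_injective f hf
      _ = F.card := by rw [Nat.card_eq_fintype_card, Fintype.card_coe]
      _ ≤ 4 := Finset.card_le_four

end main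

end Groth.Agent.Lib.Helper8.Con
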