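import Mathlib
import Groth.Agent.Lib.Helper8.Con8

set_option backward.isDefEq.respectTransparency.types false
set_option autoImplicit false
set_option linter.unusedSectionVars false
set_option linter.style.haveILetI false

/-! # Finite groups of automorphisms of the punctured conic: final form -/

attribute [local instance] MvPolynomial.gradedAlgebra

namespace Groth.Agent.Lib.Helper8.Con

universe u

theorem main (K : Type u) [Field K]
    (hK : ∀ n : ℕ, 0 < n → (Polynomial.X ^ n - 1 : Polynomial K).Splits)
    (q : MvPolynomial (Fin 2) K) (hq : q.IsHomogeneous 2) (hirr : Irreducible q)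
    (hdisc : (q.coeff (Finsupp.single 0 1 + Finsupp.single 1 1)) ^ 2 -
      4 * q.coeff (Finsupp.single 0 2) * q.coeff (Finsupp.single 1 2) ≠ 0)
    (G : Subgroup (HomogeneousLocalization.Away (MvPolynomial.homogeneousSubmodule (Fin 2) K) q ≃+*
      HomogeneousLocalization.Away (MvPolynomial.homogeneousSubmodule (Fin 2) K) q)) [Finite G]
    (hG : ∀ g ∈ G, ∀ (k : K)
      (z : HomogeneousLocalization.Away (MvPolynomial.homogeneousSubmodule (Fin 2) K) q),
      g (k • z) = k • g z) :
    (∀ g ∈ G, g ^ 2 = 1) ∧ Nat.card G ≤ 4 := by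
  obtain ⟨a, b, c, rfl⟩ : ∃ a b c : K, q = qf a b c := ⟨_, _, _, exists_qf q hq⟩
  rw [coeff_qf_0, coeff_qf_1, coeff_qf_2] at hdisc
  have ha := a_ne_zero_of_irreducible hirr
  haveI : Fact (Irreducible (quad a b c)) := ⟨quad_irreducible_of_irreducible hirr⟩
  apply main_qf hK ha hdisc G
  intro g hg k
  have h1 := hG g hg k 1
  rw [map_one] at h1
  exact h1

end Groth.Agent.Lib.Helper8.Con
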