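import Mathlib
import Groth.Prelude.Def_Conn

/-! Helper8: tools for induced connections on Hom modules (`Conn.IsHomConn`). -/

set_option autoImplicit false

universe v u

namespace Groth.Agent.Lib.Helper8.ConnHom

open TensorProduct

section contraction

variable {B : Type u} [CommRing B] {Ω : Type u} [AddCommGroup Ω] [Module B Ω]

/-- contraction `H ⊗ Ω → H` with a functional on `Ω`. -/
noncomputable def ctr (H : Type u) [AddCommGroup H] [Module B H] (θ : Ω →ₗ[B] B) :
    H ⊗[B] Ω →ₗ[B] H :=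
  (TensorProduct.rid B H).toLinearMap ∘ₗ TensorProduct.map LinearMap.id θ

@[simp] lemma ctr_tmul {H : Type u} [AddCommGroup H] [Module B H] (θ : Ω →ₗ[B] B) (h : H) (ω : Ω) :
    ctr H θ (h ⊗ₜ ω) = θ ω • h := by
  simp [ctr]

lemma ctr_map {H H' : Type u} [AddCommGroup H] [Module B H] [AddCommGroup H'] [Module B H']
    (θ : Ω →ₗ[B] B) (f : H →ₗ[B] H') (x : H ⊗[B] Ω) :
    ctr H' θ (TensorProduct.map f LinearMap.id x) = f (ctr H θ x) := by
  induction x using TensorProduct.induction_on with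
  | zero => simp
  | tmul h ω => simp
  | add x y hx hy => simp only [map_add, hx, hy]

/-- basis expansion in `H ⊗ Ω`. -/
lemma sum_ctr_tmul {ι : Type*} [Fintype ι] (bΩ : Module.Basis ι B Ω)
    {H : Type u} [AddCommGroup H] [Module B H] (x : H ⊗[B] Ω) :
    ∑ q, ctr H (bΩ.coord q) x ⊗ₜ[B] bΩ q = x := by
  induction x using TensorProduct.induction_on with
  | zero => simp
  | tmul h ω =>
    simp only [ctr_tmul, Module.Basis.coord_apply]
    conv_rhs => rw [← bΩ.sum_repr ω, TensorProduct.tmul_sum]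
    refine Finset.sum_congr rfl (fun q _ => ?_)
    rw [TensorProduct.smul_tmul]
  | add x y hx hy =>
    simp only [map_add, TensorProduct.add_tmul, Finset.sum_add_distrib, hx, hy]

/-- elements of `Hom(E,G) ⊗ Ω` are determined by their evaluations, when `Ω` is finite free. -/
lemma ext_of_eval [Module.Free B Ω] [Module.Finite B Ω]
    {E G : Type u} [AddCommGroup E] [Module B E] [AddCommGroup G] [Module B G]
    {x y : (E →ₗ[B] G) ⊗[B] Ω}
    (h : ∀ e : E, TensorProduct.map (LinearMap.applyₗ e : (E →ₗ[B] G) →ₗ[B] G) LinearMap.id x =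
      TensorProduct.map (LinearMap.applyₗ e : (E →ₗ[B] G) →ₗ[B] G) LinearMap.id y) : x = y := by
  let bΩ := Module.Free.chooseBasis B Ω
  rw [← sum_ctr_tmul bΩ x, ← sum_ctr_tmul bΩ y]
  refine Finset.sum_congr rfl (fun q _ => ?_)
  congr 1
  ext e
  have := congrArg (ctr G (bΩ.coord q)) (h e)
  rw [ctr_map, ctr_map] at this
  exact this

end contraction

section formulas

variable {B : Type u} [CommRing B] {Ω : Type u} [AddCommGroup Ω] [Module B Ω]
variable {E F G : Type u} [AddCommGroup E] [Module B E] [AddCommGroup F] [Module B F]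
  [AddCommGroup G] [Module B G]

/-- `(ev ⊗ 1) ∘ swapR (x ⊗ e) = (ev_e ⊗ 1) x`. -/
lemma eval_swapR (x : (E →ₗ[B] F) ⊗[B] Ω) (e : E) :
    TensorProduct.map (TensorProduct.lift (LinearMap.id : (E →ₗ[B] F) →ₗ[B] (E →ₗ[B] F)))
      (LinearMap.id : Ω →ₗ[B] Ω) (Conn.swapR (x ⊗ₜ[B] e)) =
    TensorProduct.map (LinearMap.applyₗ e : (E →ₗ[B] F) →ₗ[B] F) LinearMap.id x := by
  induction x using TensorProduct.induction_on with
  | zero => simp
  | tmul ψ ω => simp [Conn.swapR_tmul]
  | add x y hx hy => simp only [TensorProduct.add_tmul, map_add, hx, hy]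

/-- `(ev ⊗ 1) (assoc⁻¹ (φ ⊗ y)) = (φ ⊗ 1) y`. -/
lemma eval_assoc (φ : E →ₗ[B] F) (y : E ⊗[B] Ω) :
    TensorProduct.map (TensorProduct.lift (LinearMap.id : (E →ₗ[B] F) →ₗ[B] (E →ₗ[B] F)))
      (LinearMap.id : Ω →ₗ[B] Ω) ((TensorProduct.assoc B (E →ₗ[B] F) E Ω).symm (φ ⊗ₜ[B] y)) =
    TensorProduct.map φ LinearMap.id y := by
  induction y using TensorProduct.induction_on with
  | zero => simp
  | tmul e ω => simp
  | add x y hx hy => simp only [TensorProduct.tmul_add, map_add, hx, hy]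

end formulas

end Groth.Agent.Lib.Helper8.ConnHom
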