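import Mathlib

set_option backward.isDefEq.respectTransparency.types false
set_option autoImplicit false
set_option linter.unusedSectionVars false
set_option linter.style.haveILetI false

namespace Groth.Agent.Lib.Helper8.Crimp1

open Polynomial Module

variable {R : Type*} [CommRing R] {A : Type*} [CommRing A] [Algebra R A]

theorem decomp (b : Basis (Fin 2) R A) (h0 : b 0 = 1) (x : A) :
    x = (b.coord 0 x) • (1 : A) + (b.coord 1 x) • b 1 := by
  conv_lhs => rw [← b.sum_repr x]
  rw [Fin.sum_univ_two, h0]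
  rfl

theorem coord_comb (b : Basis (Fin 2) R A) (h0 : b 0 = 1) (a d : R) :
    b.coord 0 (a • (1 : A) + d • b 1) = a ∧ b.coord 1 (a • (1 : A) + d • b 1) = d := by
  rw [← h0]
  constructor <;> simp [Basis.coord_apply]

theorem comb_eq_zero (b : Basis (Fin 2) R A) (h0 : b 0 = 1) (a d : R)
    (h : a • (1 : A) + d • b 1 = 0) : a = 0 ∧ d = 0 := by
  have h1 := coord_comb b h0 a d
  rw [h] at h1
  simp only [map_zero] at h1
  exact ⟨h1.1.symm, h1.2.symm⟩

/-- discriminant of a quadratic algebra with basis `1, f`, `f^2 = P + Q f`. -/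
theorem discr_quad (c : Basis (Fin 2) R A) (h0 : c 0 = 1) (P Q : R)
    (hsq : c 1 * c 1 = P • (1 : A) + Q • c 1) :
    Algebra.discr R c = 4 * P + Q ^ 2 := by
  have tr : ∀ s : A, Algebra.trace R A s = c.repr (s * c 0) 0 + c.repr (s * c 1) 1 := by
    intro s
    rw [Algebra.trace_eq_matrix_trace c, Matrix.trace_fin_two]
    simp [Algebra.leftMulMatrix_eq_repr_mul]
  have r1 : c.repr (1 : A) = Finsupp.single 0 1 := by rw [← h0]; exact c.repr_self 0
  have rf : c.repr (c 1) = Finsupp.single 1 1 := c.repr_self 1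
  have t1 : Algebra.trace R A 1 = 2 := by
    rw [tr, one_mul, one_mul, h0, r1, rf]
    simp; norm_num
  have tf : Algebra.trace R A (c 1) = Q := by
    rw [tr, h0, mul_one, hsq, rf, map_add, map_smul, map_smul, r1, rf]
    simp
  have tff : Algebra.trace R A (c 1 * c 1) = 2 * P + Q ^ 2 := by
    have h3 : c 1 * c 1 * c 1 = (Q * P) • (1 : A) + (P + Q * Q) • c 1 := by
      rw [hsq, add_mul, smul_mul_assoc, smul_mul_assoc, one_mul, hsq]
      module
    rw [tr, h0, mul_one, h3, hsq, map_add, map_smul, map_smul, map_add, map_smul, map_smul, r1, rf]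
    simp; ring
  rw [Algebra.discr_def, Matrix.det_fin_two]
  simp only [Algebra.traceMatrix_apply, Algebra.traceForm_apply]
  rw [h0]
  simp only [one_mul, mul_one]
  rw [t1, tf, tff]; ring

theorem discr_change {ι : Type*} [Fintype ι] [DecidableEq ι] (b c : Basis ι R A) :
    ∃ u : R, IsUnit u ∧ Algebra.discr R b = u ^ 2 * Algebra.discr R c := by
  refine ⟨(c.toMatrix b).det, ?_, ?_⟩
  · have := c.isUnit_det b
    rwa [Basis.det_apply] at this
  · rw [← Algebra.discr_of_matrix_vecMul]
    congr 1
    ext i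
    rw [Matrix.vecMul, dotProduct]
    simp only [Matrix.map_apply]
    rw [← c.sum_toMatrix_smul_self b i]
    refine Finset.sum_congr rfl fun j _ => ?_
    rw [Algebra.smul_def, mul_comm]

end Groth.Agent.Lib.Helper8.Crimp1
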