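import Mathlib
import Groth.Agent.Lib.Helper8.Crimp1

set_option backward.isDefEq.respectTransparency.types false
set_option autoImplicit false
set_option linter.unusedSectionVars false
set_option linter.style.haveILetI false

namespace Groth.Agent.Lib.Helper8.Crimp2

open Polynomial Module Groth.Agent.Lib.Helper8.Crimp1

variable {R : Type*} [CommRing R] {A : Type*} [CommRing A] [Algebra R A]

/-- elements of `R·1 + w A` are combinations of `1` and `w • b 1`. -/
theorem mem_crimp_iff (b : Basis (Fin 2) R A) (h0 : b 0 = 1) (w : R) (x : A) :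
    x ∈ Submodule.span R {(1 : A)} ⊔ Ideal.span {w} • (⊤ : Submodule R A) ↔
      ∃ a d : R, x = a • (1 : A) + d • (w • b 1) := by
  constructor
  · intro hx
    obtain ⟨y, hy, z, hz, rfl⟩ := Submodule.mem_sup.mp hx
    obtain ⟨a, rfl⟩ := Submodule.mem_span_singleton.mp hy
    rw [Submodule.ideal_span_singleton_smul] at hz
    obtain ⟨z', -, rfl⟩ := (Submodule.mem_smul_pointwise_iff_exists _ _ _).mp hz
    refine ⟨a + w * b.coord 0 z', b.coord 1 z', ?_⟩
    conv_lhs => rw [decomp b h0 z']
    module
  · rintro ⟨a, d, rfl⟩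
    refine Submodule.add_mem _ (Submodule.mem_sup_left ?_) (Submodule.mem_sup_right ?_)
    · exact Submodule.smul_mem _ _ (Submodule.mem_span_singleton_self _)
    · rw [smul_smul]
      exact Submodule.smul_mem_smul (Ideal.mem_span_singleton.mpr (Dvd.intro_left d rfl))
        Submodule.mem_top

theorem structure_of_map (b : Basis (Fin 2) R A) (h0 : b 0 = 1) (S : Subalgebra R A) (w : R)
    (hJ : Submodule.map (b.coord 1) (Subalgebra.toSubmodule S) = Ideal.span {w}) :
    Subalgebra.toSubmodule S =
      Submodule.span R {(1 : A)} ⊔ Ideal.span {w} • (⊤ : Submodule R A) := by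
  ext x
  rw [mem_crimp_iff b h0, Subalgebra.mem_toSubmodule]
  have hwS : w • b 1 ∈ S := by
    have hw : w ∈ Submodule.map (b.coord 1) (Subalgebra.toSubmodule S) := by
      rw [hJ]; exact Ideal.mem_span_singleton_self w
    obtain ⟨s, hs, hsw⟩ := hw
    have := decomp b h0 s
    rw [hsw] at this
    have h2 : w • b 1 = s - (b.coord 0 s) • (1 : A) := by
      rw [eq_sub_iff_add_eq, add_comm]; exact this.symm
    rw [h2]
    exact S.sub_mem hs (S.smul_mem S.one_mem _)
  constructor
  · intro hx
    have hx1 : b.coord 1 x ∈ Ideal.span {w} := by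
      rw [← hJ]; exact ⟨x, hx, rfl⟩
    obtain ⟨d, hd⟩ := Ideal.mem_span_singleton.mp hx1
    refine ⟨b.coord 0 x, d, ?_⟩
    conv_lhs => rw [decomp b h0 x, hd]
    module
  · rintro ⟨a, d, rfl⟩
    exact S.add_mem (S.smul_mem S.one_mem _) (S.smul_mem hwS _)

theorem map_ne_bot [Nontrivial R] (b : Basis (Fin 2) R A) (h0 : b 0 = 1) (S : Subalgebra R A)
    (bS : Basis (Fin 2) R S) :
    Submodule.map (b.coord 1) (Subalgebra.toSubmodule S) ≠ ⊥ := by
  intro hbot
  have key : ∀ s : S, (s : A) = (b.coord 0 (s : A)) • (1 : A) := by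
    intro s
    have h1 : b.coord 1 (s : A) ∈ Submodule.map (b.coord 1) (Subalgebra.toSubmodule S) :=
      ⟨s, s.2, rfl⟩
    rw [hbot, Submodule.mem_bot] at h1
    have := decomp b h0 (s : A)
    rw [h1, zero_smul, add_zero] at this
    exact this
  have hli := Fintype.linearIndependent_iff.mp bS.linearIndependent
    ![b.coord 0 (bS 1 : A), - b.coord 0 (bS 0 : A)] ?_
  · have h1 := hli 0
    have h2 := hli 1
    simp only [Matrix.cons_val_zero, Matrix.cons_val_one, neg_eq_zero] at h1 h2
    have h3 := key (bS 0)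
    rw [h2, zero_smul] at h3
    exact bS.ne_zero 0 (Subtype.ext h3)
  · rw [Fin.sum_univ_two]
    apply Subtype.ext
    simp only [Matrix.cons_val_zero, Matrix.cons_val_one]
    push_cast
    have e0 := key (bS 0)
    have e1 := key (bS 1)
    set a0 := b.coord 0 (bS 0 : A) with ha0
    set a1 := b.coord 0 (bS 1 : A) with ha1
    rw [e0, e1]
    module

/-- basis `1, w • b 1` of the crimp. -/
theorem exists_basis [IsDomain R] (b : Basis (Fin 2) R A) (h0 : b 0 = 1) (S : Subalgebra R A)
    (w : R) (hw : w ≠ 0)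
    (hS : Subalgebra.toSubmodule S =
      Submodule.span R {(1 : A)} ⊔ Ideal.span {w} • (⊤ : Submodule R A)) :
    ∃ c : Basis (Fin 2) R S, c 0 = 1 ∧ ((c 1 : S) : A) = w • b 1 := by
  have hmem : ∀ x : A, x ∈ S ↔ ∃ a d : R, x = a • (1 : A) + d • (w • b 1) := by
    intro x
    rw [← mem_crimp_iff b h0, ← hS, Subalgebra.mem_toSubmodule]
  have hf : w • b 1 ∈ S := (hmem _).mpr ⟨0, 1, by simp⟩
  let v : Fin 2 → S := ![1, ⟨w • b 1, hf⟩]
  have hli : LinearIndependent R v := by
    rw [Fintype.linearIndependent_iff]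
    intro g hg
    rw [Fin.sum_univ_two] at hg
    have hg' := congrArg (Subtype.val) hg
    simp only [v, Matrix.cons_val_zero, Matrix.cons_val_one] at hg'
    push_cast at hg'
    rw [smul_smul] at hg'
    obtain ⟨h1, h2⟩ := comb_eq_zero b h0 _ _ hg'
    have h3 : g 1 = 0 := by
      rcases mul_eq_zero.mp h2 with h | h
      · exact h
      · exact absurd h hw
    intro i
    fin_cases i
    · exact h1
    · exact h3
  have hsp : ⊤ ≤ Submodule.span R (Set.range v) := by
    intro s _
    obtain ⟨a, d, hs⟩ := (hmem s).mp s.2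
    have : s = a • v 0 + d • v 1 := by
      apply Subtype.ext
      simp only [v, Matrix.cons_val_zero, Matrix.cons_val_one]
      push_cast
      exact hs
    rw [this]
    exact Submodule.add_mem _ (Submodule.smul_mem _ _ (Submodule.subset_span ⟨0, rfl⟩))
      (Submodule.smul_mem _ _ (Submodule.subset_span ⟨1, rfl⟩))
  refine ⟨Basis.mk hli hsp, ?_, ?_⟩
  · rw [Basis.mk_apply]; rfl
  · rw [Basis.mk_apply]; rfl

end Groth.Agent.Lib.Helper8.Crimp2
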