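import Mathlib
import Groth.Agent.Lib.Helper8.Crimp2

set_option backward.isDefEq.respectTransparency.types false
set_option autoImplicit false
set_option linter.unusedSectionVars false
set_option linter.style.haveILetI false

namespace Groth.Agent.Lib.Helper8.Crimp3

open Polynomial Module Groth.Agent.Lib.Helper8.Crimp1 Groth.Agent.Lib.Helper8.Crimp2

variable {R : Type*} [CommRing R] {A : Type*} [CommRing A] [Algebra R A]

theorem crimp_basis [IsDomain R] (b : Basis (Fin 2) R A) (h0 : b 0 = 1) (p q : R)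
    (hsq : b 1 * b 1 = p • (1 : A) + q • b 1) (S : Subalgebra R A)
    (w : R) (hw : w ≠ 0)
    (hS : Subalgebra.toSubmodule S =
      Submodule.span R {(1 : A)} ⊔ Ideal.span {w} • (⊤ : Submodule R A)) :
    ∃ c : Basis (Fin 2) R S, c 0 = 1 ∧ ((c 1 : S) : A) = w • b 1 ∧
      Algebra.discr R c = w ^ 2 * (4 * p + q ^ 2) := by
  obtain ⟨c, hc0, hc1⟩ := exists_basis b h0 S w hw hS
  refine ⟨c, hc0, hc1, ?_⟩
  rw [discr_quad c hc0 (w ^ 2 * p) (w * q)]
  · ring
  · apply Subtype.ext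
    push_cast
    rw [hc1, smul_mul_smul_comm, hsq]
    module

theorem crimp_of_basis [IsDomain R] (ϖ : R) (hϖ : ϖ ≠ 0)
    (hid : ∀ J : Ideal R, J ≠ ⊥ → ∃ n : ℕ, J = Ideal.span {ϖ ^ n})
    (b : Basis (Fin 2) R A) (h0 : b 0 = 1) (p q : R)
    (hsq : b 1 * b 1 = p • (1 : A) + q • b 1) (S : Subalgebra R A)
    (bS : Basis (Fin 2) R S) :
    ∃ n : ℕ, Subalgebra.toSubmodule S =
      Submodule.span R {(1 : A)} ⊔ Ideal.span {ϖ ^ n} • (⊤ : Submodule R A) ∧
      ∃ u : R, IsUnit u ∧ Algebra.discr R bS = u * (ϖ ^ (2 * n) * (4 * p + q ^ 2)) := by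
  obtain ⟨n, hn⟩ := hid _ (map_ne_bot b h0 S bS)
  have hS := structure_of_map b h0 S (ϖ ^ n) hn
  refine ⟨n, hS, ?_⟩
  obtain ⟨c, -, -, hc⟩ := crimp_basis b h0 p q hsq S (ϖ ^ n) (pow_ne_zero _ hϖ) hS
  obtain ⟨u, hu, hd⟩ := discr_change bS c
  refine ⟨u ^ 2, hu.pow 2, ?_⟩
  rw [hd, hc, ← pow_mul, mul_comm n 2]

/-- an algebra with basis `1, f` containing `y = α + β f` (β a unit) with `y^2 = γ`
is `R[y]/(y^2-γ)`. -/
theorem quad_iso [Nontrivial R] (c : Basis (Fin 2) R A) (h0 : c 0 = 1) (α β γ : R) (hβ : IsUnit β)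
    (hy : (α • (1 : A) + β • c 1) ^ 2 = γ • (1 : A)) :
    Nonempty (A ≃ₐ[R] AdjoinRoot (X ^ 2 - C γ : R[X])) := by
  classical
  set y : A := α • (1 : A) + β • c 1 with hydef
  have hg : (X ^ 2 - C γ : R[X]).Monic := monic_X_pow_sub_C γ (by norm_num)
  have hdeg : (X ^ 2 - C γ : R[X]).natDegree = 2 := natDegree_X_pow_sub_C
  have hroot : (X ^ 2 - C γ : R[X]).eval₂ (Algebra.ofId R A) y = 0 := by
    rw [eval₂_sub, eval₂_pow, eval₂_X, eval₂_C, hy, Algebra.smul_def, mul_one]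
    simp
  let f : AdjoinRoot (X ^ 2 - C γ : R[X]) →ₐ[R] A :=
    AdjoinRoot.liftAlgHom _ (Algebra.ofId R A) y hroot
  have hf : ∀ a d : R, f (AdjoinRoot.mk _ (C a * X + C d)) = a • y + d • (1 : A) := by
    intro a d
    rw [AdjoinRoot.liftAlgHom_mk, eval₂_add, eval₂_mul, eval₂_C, eval₂_C, eval₂_X]
    simp [Algebra.smul_def]
  obtain ⟨β', hβ'⟩ := isUnit_iff_exists_inv.mp hβ
  have hinj : Function.Injective f := by
    rw [injective_iff_map_eq_zero]
    intro z hz
    obtain ⟨P, rfl⟩ := AdjoinRoot.mk_surjective z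
    have hmod : AdjoinRoot.mk (X ^ 2 - C γ : R[X]) P = AdjoinRoot.mk _ (P %ₘ (X ^ 2 - C γ)) := by
      rw [AdjoinRoot.mk_eq_mk]
      refine ⟨P /ₘ (X ^ 2 - C γ), ?_⟩
      have := modByMonic_add_div P (X ^ 2 - C γ)
      rw [sub_eq_iff_eq_add, add_comm]
      exact this.symm
    have hdlt : (P %ₘ (X ^ 2 - C γ)).natDegree ≤ 1 := by
      have := natDegree_modByMonic_lt P hg (by
        intro h1
        have := congrArg natDegree h1
        rw [hdeg] at this
        simp at this)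
      rw [hdeg] at this
      omega
    obtain ⟨a, d, had⟩ := exists_eq_X_add_C_of_natDegree_le_one hdlt
    rw [hmod, had] at hz ⊢
    rw [hf a d, hydef] at hz
    have hz' : (a * α + d) • (1 : A) + (a * β) • c 1 = 0 := by
      rw [← hz]; module
    obtain ⟨h1, h2⟩ := comb_eq_zero c h0 _ _ hz'
    have ha : a = 0 := by
      have : a * β * β' = 0 := by rw [h2, zero_mul]
      rwa [mul_assoc, hβ', mul_one] at this
    have hd : d = 0 := by rw [ha, zero_mul, zero_add] at h1; exact h1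
    rw [ha, hd]
    simp
  have hsurj : Function.Surjective f := by
    intro x
    have hc1 : c 1 = β' • y - (β' * α) • (1 : A) := by
      rw [hydef, smul_add, smul_smul, smul_smul, mul_comm β' β, hβ', one_smul]
      module
    refine ⟨AdjoinRoot.mk _ (C (c.coord 1 x * β') * X + C (c.coord 0 x - c.coord 1 x * β' * α)), ?_⟩
    rw [hf]
    conv_rhs => rw [decomp c h0 x, hc1]
    module
  exact ⟨(AlgEquiv.ofBijective f ⟨hinj, hsurj⟩).symm⟩

end Groth.Agent.Lib.Helper8.Crimp3
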