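import Mathlib
import Groth.Agent.Lib.Helper8.Crimp3

set_option backward.isDefEq.respectTransparency.types false
set_option autoImplicit false
set_option linter.unusedSectionVars false
set_option linter.style.haveILetI false

namespace Groth.Agent.Lib.Helper8.Crimp4

open Polynomial Module Groth.Agent.Lib.Helper8.Crimp1 Groth.Agent.Lib.Helper8.Crimp2
  Groth.Agent.Lib.Helper8.Crimp3

universe u

variable {k : Type u} [Field k]

theorem hid (J : Ideal (PowerSeries k)) (hJ : J ≠ ⊥) :
    ∃ n : ℕ, J = Ideal.span {(PowerSeries.X : PowerSeries k) ^ n} :=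
  IsDiscreteValuationRing.ideal_eq_span_pow_irreducible hJ PowerSeries.X_irreducible

theorem X_ne : (PowerSeries.X : PowerSeries k) ≠ 0 := PowerSeries.X_ne_zero

theorem span_X_pow_eq {a b : ℕ} (u v : PowerSeries k) (hu : IsUnit u) (hv : IsUnit v)
    (h : Ideal.span {u * ((PowerSeries.X : PowerSeries k) ^ a * v)} =
      Ideal.span {(PowerSeries.X : PowerSeries k) ^ b}) : a = b := by
  have hX0 : (PowerSeries.X : PowerSeries k) ≠ 0 := PowerSeries.X_ne_zero
  have hXu : ¬ IsUnit (PowerSeries.X : PowerSeries k) := PowerSeries.X_irreducible.not_isUnit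
  have h1 : (PowerSeries.X : PowerSeries k) ^ b ∣ u * ((PowerSeries.X : PowerSeries k) ^ a * v) := by
    rw [← Ideal.mem_span_singleton, ← h]; exact Ideal.mem_span_singleton_self _
  have h2 : u * ((PowerSeries.X : PowerSeries k) ^ a * v) ∣ (PowerSeries.X : PowerSeries k) ^ b := by
    rw [← Ideal.mem_span_singleton, h]; exact Ideal.mem_span_singleton_self _
  rw [hu.dvd_mul_left, hv.dvd_mul_right, pow_dvd_pow_iff hX0 hXu] at h1
  rw [hu.mul_left_dvd, hv.mul_right_dvd, pow_dvd_pow_iff hX0 hXu] at h2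
  omega

section split

/-- the linear automorphism `(v0,v1) ↦ (v0, v1 - v0)` -/
noncomputable def φ (R : Type*) [CommRing R] : (Fin 2 → R) ≃ₗ[R] (Fin 2 → R) where
  toFun v := ![v 0, v 1 - v 0]
  invFun v := ![v 0, v 1 + v 0]
  map_add' v w := by
    ext i; fin_cases i <;> simp; ring
  map_smul' r v := by
    ext i; fin_cases i <;> simp; ring
  left_inv v := by
    ext i; fin_cases i <;> simp
  right_inv v := by
    ext i; fin_cases i <;> simp

noncomputable def bsplit (R : Type*) [CommRing R] : Basis (Fin 2) R (Fin 2 → R) :=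
  Basis.ofEquivFun (φ R)

theorem bsplit_zero (R : Type*) [CommRing R] : bsplit R 0 = 1 := by
  rw [bsplit, Basis.coe_ofEquivFun]
  ext i
  fin_cases i <;> simp [φ]

theorem bsplit_one (R : Type*) [CommRing R] : bsplit R 1 = ![0, 1] := by
  rw [bsplit, Basis.coe_ofEquivFun]
  ext i
  fin_cases i <;> simp [φ]

theorem bsplit_sq (R : Type*) [CommRing R] :
    bsplit R 1 * bsplit R 1 = (0 : R) • (1 : Fin 2 → R) + (1 : R) • bsplit R 1 := by
  rw [bsplit_one]
  ext i
  fin_cases i <;> simp

end split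

theorem main880 {k : Type u} [Field k] [IsAlgClosed k] [CharZero k] (b : ℕ) (S : Subalgebra (PowerSeries k) (Fin 2 → PowerSeries k)) :
    ((∃ bS : Module.Basis (Fin 2) (PowerSeries k) S,
      Ideal.span {Algebra.discr (PowerSeries k) ⇑bS} = Ideal.span {(PowerSeries.X : PowerSeries k) ^ b}) ↔
    ∃ n : ℕ, b = 2 * n ∧
      Subalgebra.toSubmodule S = Submodule.span (PowerSeries k) {(1 : (Fin 2 → PowerSeries k))} ⊔
        Ideal.span {(PowerSeries.X : PowerSeries k) ^ n} • (⊤ : Submodule (PowerSeries k) (Fin 2 → PowerSeries k))) ∧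
    (∀ n : ℕ, Subalgebra.toSubmodule S = Submodule.span (PowerSeries k) {(1 : (Fin 2 → PowerSeries k))} ⊔
        Ideal.span {(PowerSeries.X : PowerSeries k) ^ n} • (⊤ : Submodule (PowerSeries k) (Fin 2 → PowerSeries k)) →
      Nonempty (S ≃ₐ[PowerSeries k] AdjoinRoot (Polynomial.X ^ 2 - Polynomial.C ((PowerSeries.X : PowerSeries k) ^ (2 * n))))) := by
  refine ⟨⟨?_, ?_⟩, ?_⟩
  · rintro ⟨bS, hbS⟩
    obtain ⟨n, hS, u, hu, hd⟩ := crimp_of_basis (PowerSeries.X : PowerSeries k) X_ne hid
      (bsplit _) (bsplit_zero _) 0 1 (bsplit_sq _) S bS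
    refine ⟨n, ?_, hS⟩
    rw [hd] at hbS
    exact (span_X_pow_eq u _ hu (by norm_num) hbS).symm
  · rintro ⟨n, rfl, hS⟩
    obtain ⟨c, -, -, hc⟩ := crimp_basis (bsplit _) (bsplit_zero _) 0 1 (bsplit_sq _) S
      ((PowerSeries.X : PowerSeries k) ^ n) (pow_ne_zero _ X_ne) hS
    refine ⟨c, ?_⟩
    rw [hc]
    congr 2
    ring
  · intro n hS
    obtain ⟨c, hc0, hc1, -⟩ := crimp_basis (bsplit _) (bsplit_zero _) 0 1 (bsplit_sq _) S
      ((PowerSeries.X : PowerSeries k) ^ n) (pow_ne_zero _ X_ne) hS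
    have h2 : IsUnit (-2 : PowerSeries k) := by
      have : IsUnit (2 : k) := isUnit_iff_ne_zero.mpr two_ne_zero
      have := (this.map (algebraMap k (PowerSeries k))).neg
      rwa [map_ofNat] at this
    refine quad_iso c hc0 ((PowerSeries.X : PowerSeries k) ^ n) (-2) _ h2 ?_
    apply Subtype.ext
    push_cast
    rw [hc1, bsplit_one]
    funext i
    fin_cases i
    · simp only [Fin.zero_eta, Fin.isValue, Pi.pow_apply, Pi.add_apply, Pi.smul_apply, Pi.one_apply,
        smul_eq_mul, Matrix.cons_val_zero]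
      ring
    · simp only [Fin.mk_one, Fin.isValue, Pi.pow_apply, Pi.add_apply, Pi.smul_apply, Pi.one_apply,
        smul_eq_mul, Matrix.cons_val_one, Matrix.cons_val_fin_one]
      ring

end Groth.Agent.Lib.Helper8.Crimp4
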