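import Mathlib
import Groth.Agent.Lib.Helper8.Crimp4

set_option backward.isDefEq.respectTransparency.types false
set_option autoImplicit false
set_option linter.unusedSectionVars false
set_option linter.style.haveILetI false

namespace Groth.Agent.Lib.Helper8.Crimp5

open Polynomial Module Groth.Agent.Lib.Helper8.Crimp1 Groth.Agent.Lib.Helper8.Crimp2
  Groth.Agent.Lib.Helper8.Crimp3 Groth.Agent.Lib.Helper8.Crimp4

universe u

section ram

variable (R : Type*) [CommRing R] [Nontrivial R] (t : R)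

theorem monic_g : (X ^ 2 - C t : R[X]).Monic := monic_X_pow_sub_C t (by norm_num)

theorem natDegree_g : (X ^ 2 - C t : R[X]).natDegree = 2 := natDegree_X_pow_sub_C

noncomputable def bram : Basis (Fin 2) R (AdjoinRoot (X ^ 2 - C t : R[X])) :=
  (AdjoinRoot.powerBasis' (monic_g R t)).basis.reindex (finCongr (natDegree_g R t))

theorem bram_apply (i : Fin 2) : bram R t i = AdjoinRoot.root (X ^ 2 - C t : R[X]) ^ (i : ℕ) := by
  rw [bram, Basis.reindex_apply, PowerBasis.basis_eq_pow]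
  rfl

theorem bram_zero : bram R t 0 = 1 := by
  rw [bram_apply]; simp

theorem bram_one : bram R t 1 = AdjoinRoot.root (X ^ 2 - C t : R[X]) := by
  rw [bram_apply]; simp

theorem root_sq : AdjoinRoot.root (X ^ 2 - C t : R[X]) * AdjoinRoot.root (X ^ 2 - C t : R[X]) =
    t • (1 : AdjoinRoot (X ^ 2 - C t : R[X])) := by
  have h := AdjoinRoot.eval₂_root (X ^ 2 - C t : R[X])
  rw [eval₂_sub, eval₂_pow, eval₂_X, eval₂_C, sub_eq_zero] at h
  rw [← pow_two, h, Algebra.smul_def, mul_one]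
  rfl

theorem bram_sq : bram R t 1 * bram R t 1 =
    t • (1 : AdjoinRoot (X ^ 2 - C t : R[X])) + (0 : R) • bram R t 1 := by
  rw [bram_one, root_sq, zero_smul, add_zero]

end ram

theorem main881 {k : Type u} [Field k] [IsAlgClosed k] [CharZero k] (b : ℕ)
    (S : Subalgebra (PowerSeries k) (AdjoinRoot (Polynomial.X ^ 2 - Polynomial.C (PowerSeries.X : PowerSeries k)))) :
    ((∃ bS : Module.Basis (Fin 2) (PowerSeries k) S,
      Ideal.span {Algebra.discr (PowerSeries k) ⇑bS} = Ideal.span {(PowerSeries.X : PowerSeries k) ^ b}) ↔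
    ∃ n : ℕ, b = 2 * n + 1 ∧
      Subalgebra.toSubmodule S = Submodule.span (PowerSeries k) {(1 : (AdjoinRoot (Polynomial.X ^ 2 - Polynomial.C (PowerSeries.X : PowerSeries k))))} ⊔
        Ideal.span {(PowerSeries.X : PowerSeries k) ^ n} • (⊤ : Submodule (PowerSeries k) (AdjoinRoot (Polynomial.X ^ 2 - Polynomial.C (PowerSeries.X : PowerSeries k))))) ∧
    (∀ n : ℕ, Subalgebra.toSubmodule S = Submodule.span (PowerSeries k) {(1 : (AdjoinRoot (Polynomial.X ^ 2 - Polynomial.C (PowerSeries.X : PowerSeries k))))} ⊔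
        Ideal.span {(PowerSeries.X : PowerSeries k) ^ n} • (⊤ : Submodule (PowerSeries k) (AdjoinRoot (Polynomial.X ^ 2 - Polynomial.C (PowerSeries.X : PowerSeries k)))) →
      Nonempty (S ≃ₐ[PowerSeries k] AdjoinRoot (Polynomial.X ^ 2 - Polynomial.C ((PowerSeries.X : PowerSeries k) ^ (2 * n + 1))))) := by
  have h4 : IsUnit (4 : PowerSeries k) := by
    have : IsUnit (4 : k) := isUnit_iff_ne_zero.mpr (by norm_num)
    have := this.map (algebraMap k (PowerSeries k))
    rwa [map_ofNat] at this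
  refine ⟨⟨?_, ?_⟩, ?_⟩
  · rintro ⟨bS, hbS⟩
    obtain ⟨n, hS, u, hu, hd⟩ := crimp_of_basis (PowerSeries.X : PowerSeries k) X_ne hid
      (bram _ _) (bram_zero _ _) PowerSeries.X 0 (bram_sq _ _) S bS
    refine ⟨n, ?_, hS⟩
    rw [hd] at hbS
    have e : u * ((PowerSeries.X : PowerSeries k) ^ (2 * n) * (4 * PowerSeries.X + 0 ^ 2)) =
        u * ((PowerSeries.X : PowerSeries k) ^ (2 * n + 1) * 4) := by ring
    rw [e] at hbS
    exact (span_X_pow_eq u _ hu h4 hbS).symm
  · rintro ⟨n, rfl, hS⟩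
    obtain ⟨c, -, -, hc⟩ := crimp_basis (bram _ _) (bram_zero _ _) PowerSeries.X 0 (bram_sq _ _) S
      ((PowerSeries.X : PowerSeries k) ^ n) (pow_ne_zero _ X_ne) hS
    refine ⟨c, ?_⟩
    rw [hc, Ideal.span_singleton_eq_span_singleton]
    refine ⟨h4.unit⁻¹, ?_⟩
    have : (h4.unit⁻¹ : (PowerSeries k)ˣ) * (4 : PowerSeries k) = 1 := by
      rw [Units.inv_mul_eq_one]; rfl
    calc ((PowerSeries.X : PowerSeries k) ^ n) ^ 2 * (4 * PowerSeries.X + 0 ^ 2) * ↑(h4.unit⁻¹)
        = PowerSeries.X ^ (2 * n + 1) * (↑(h4.unit⁻¹) * 4) := by ring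
      _ = PowerSeries.X ^ (2 * n + 1) := by rw [this, mul_one]
  · intro n hS
    obtain ⟨c, hc0, hc1, -⟩ := crimp_basis (bram _ _) (bram_zero _ _) PowerSeries.X 0 (bram_sq _ _) S
      ((PowerSeries.X : PowerSeries k) ^ n) (pow_ne_zero _ X_ne) hS
    refine quad_iso c hc0 0 1 _ isUnit_one ?_
    apply Subtype.ext
    push_cast
    rw [hc1, bram_one, zero_smul, zero_add, one_smul, _root_.smul_pow, pow_two (AdjoinRoot.root _), root_sq,
      smul_smul]
    congr 1
    ring

end Groth.Agent.Lib.Helper8.Crimp5
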