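import Mathlib
set_option backward.isDefEq.respectTransparency.types false
set_option autoImplicit false

namespace Groth.Agent.Lib.Helper8.Cubic1

open MvPolynomial

abbrev V := Fin 4 → ℂ

/-- A symmetric trilinear polar form of a cubic `f`. -/
structure Polar (f : MvPolynomial (Fin 4) ℂ) where
  T : V → V → V → ℂ
  add₁ : ∀ x x' y z, T (x + x') y z = T x y z + T x' y z
  smul₁ : ∀ (a : ℂ) x y z, T (a • x) y z = a * T x y z
  swap₁₂ : ∀ x y z, T x y z = T y x z
  swap₂₃ : ∀ x y z, T x y z = T x z y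
  diag : ∀ x, T x x x = eval x f
  deriv : ∀ x i, eval x (pderiv i f) = 3 * T x x (Pi.single i 1)

theorem degree_succ {d : Fin 4 →₀ ℕ} {n : ℕ} (h : d.degree = n + 1) :
    ∃ i d', d = Finsupp.single i 1 + d' ∧ d'.degree = n := by
  have hd : d ≠ 0 := by
    rintro rfl
    simp at h
  obtain ⟨i, hi⟩ : ∃ i, d i ≠ 0 := by
    by_contra hcon
    push Not at hcon
    exact hd (Finsupp.ext hcon)
  refine ⟨i, d - Finsupp.single i 1, ?_, ?_⟩
  · ext j
    by_cases hj : j = i
    · subst hj
      simp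
      omega
    · simp [Ne.symm hj]
  · have h2 : d = Finsupp.single i 1 + (d - Finsupp.single i 1) := by
      ext j
      by_cases hj : j = i
      · subst hj
        simp
        omega
      · simp [Ne.symm hj]
    have h3 := congrArg Finsupp.degree h2
    rw [map_add, Finsupp.degree_single, h] at h3
    omega

theorem monomial_three {d : Fin 4 →₀ ℕ} (h : d.degree = 3) (r : ℂ) :
    ∃ i j k : Fin 4, monomial d r = C r * X i * X j * X k := by
  obtain ⟨i, d1, rfl, h1⟩ := degree_succ h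
  obtain ⟨j, d2, rfl, h2⟩ := degree_succ h1
  obtain ⟨k, d3, rfl, h3⟩ := degree_succ (n := 0) h2
  rw [Finsupp.degree_eq_zero_iff] at h3
  subst h3
  refine ⟨i, j, k, ?_⟩
  simp only [add_zero, X, C_apply, monomial_mul, mul_one]
  congr 1
  rw [zero_add, add_assoc]

noncomputable def polarMono (r : ℂ) (i j k : Fin 4) : Polar (C r * X i * X j * X k) where
  T x y z := r / 6 * (x i * y j * z k + x i * y k * z j + x j * y i * z k + x j * y k * z i
    + x k * y i * z j + x k * y j * z i)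
  add₁ x x' y z := by simp only [Pi.add_apply]; ring
  smul₁ a x y z := by simp only [Pi.smul_apply, smul_eq_mul]; ring
  swap₁₂ x y z := by ring
  swap₂₃ x y z := by ring
  diag x := by simp only [map_mul, eval_C, eval_X]; ring
  deriv x l := by
    simp only [Derivation.leibniz, pderiv_C, pderiv_X, smul_eq_mul, map_add,
      map_mul, eval_C, eval_X, Pi.single_apply]
    split_ifs <;> simp only [map_one, map_zero] <;> ring


noncomputable def polarZero : Polar (0 : MvPolynomial (Fin 4) ℂ) where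
  T _ _ _ := 0
  add₁ := by simp
  smul₁ := by simp
  swap₁₂ := by simp
  swap₂₃ := by simp
  diag := by simp
  deriv := by simp

noncomputable def polarAdd {f g : MvPolynomial (Fin 4) ℂ} (P : Polar f) (Q : Polar g) :
    Polar (f + g) where
  T x y z := P.T x y z + Q.T x y z
  add₁ x x' y z := by rw [P.add₁, Q.add₁]; ring
  smul₁ a x y z := by rw [P.smul₁, Q.smul₁]; ring
  swap₁₂ x y z := by rw [P.swap₁₂, Q.swap₁₂]
  swap₂₃ x y z := by rw [P.swap₂₃, Q.swap₂₃]
  diag x := by rw [P.diag, Q.diag, map_add]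
  deriv x i := by rw [map_add, map_add, P.deriv, Q.deriv]; ring

theorem exists_polar {f : MvPolynomial (Fin 4) ℂ} (hf : f.IsHomogeneous 3) :
    Nonempty (Polar f) := by
  induction hf using IsWeightedHomogeneous.induction_on with
  | zero => exact ⟨polarZero⟩
  | add p q hp hq ihp ihq => exact ⟨polarAdd ihp.some ihq.some⟩
  | monomial d r hr =>
    have h3 : d.degree = 3 := by rw [Finsupp.degree_eq_weight_one]; exact hr
    obtain ⟨i, j, k, h⟩ := monomial_three h3 r
    rw [h]
    exact ⟨polarMono r i j k⟩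

namespace Polar

variable {f : MvPolynomial (Fin 4) ℂ} (P : Polar f)

lemma swap₁₃ (x y z : V) : P.T x y z = P.T z y x := by
  rw [P.swap₁₂ x y z, P.swap₂₃ y x z, P.swap₁₂ y z x]

lemma add₂ (x y y' z : V) : P.T x (y + y') z = P.T x y z + P.T x y' z := by
  rw [P.swap₁₂, P.add₁, P.swap₁₂ y, P.swap₁₂ y']

lemma add₃ (x y z z' : V) : P.T x y (z + z') = P.T x y z + P.T x y z' := by
  rw [P.swap₁₃, P.add₁, P.swap₁₃ z, P.swap₁₃ z']

lemma smul₂ (a : ℂ) (x y z : V) : P.T x (a • y) z = a * P.T x y z := by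
  rw [P.swap₁₂, P.smul₁, P.swap₁₂ y]

lemma smul₃ (a : ℂ) (x y z : V) : P.T x y (a • z) = a * P.T x y z := by
  rw [P.swap₁₃, P.smul₁, P.swap₁₃ z]

lemma zero₁ (y z : V) : P.T 0 y z = 0 := by
  have := P.smul₁ 0 0 y z
  simpa using this

lemma zero₂ (x z : V) : P.T x 0 z = 0 := by rw [P.swap₁₂, P.zero₁]

lemma zero₃ (x y : V) : P.T x y 0 = 0 := by rw [P.swap₁₃, P.zero₁]

lemma neg₁ (x y z : V) : P.T (-x) y z = - P.T x y z := by
  have := P.smul₁ (-1) x y z
  simpa using this

lemma neg₂ (x y z : V) : P.T x (-y) z = - P.T x y z := by rw [P.swap₁₂, P.neg₁, P.swap₁₂ y]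

lemma neg₃ (x y z : V) : P.T x y (-z) = - P.T x y z := by rw [P.swap₁₃, P.neg₁, P.swap₁₃ z]

lemma sub₁ (x x' y z : V) : P.T (x - x') y z = P.T x y z - P.T x' y z := by
  rw [sub_eq_add_neg, P.add₁, P.neg₁]; ring

lemma sub₂ (x y y' z : V) : P.T x (y - y') z = P.T x y z - P.T x y' z := by
  rw [sub_eq_add_neg, P.add₂, P.neg₂]; ring

lemma sub₃ (x y z z' : V) : P.T x y (z - z') = P.T x y z - P.T x y z' := by
  rw [sub_eq_add_neg, P.add₃, P.neg₃]; ring

/-- `T a b ·` as a linear functional. -/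
noncomputable def lin (a b : V) : V →ₗ[ℂ] ℂ where
  toFun z := P.T a b z
  map_add' z z' := P.add₃ a b z z'
  map_smul' c z := by simp [P.smul₃]

@[simp] lemma lin_apply (a b z : V) : P.lin a b z = P.T a b z := rfl

/-- Expansion of `T (x + t y) (x + t y) z`. -/
lemma sq_add (x y z : V) (t : ℂ) :
    P.T (x + t • y) (x + t • y) z = P.T x x z + 2 * t * P.T x y z + t ^ 2 * P.T y y z := by
  simp only [P.add₁, P.add₂, P.smul₁, P.smul₂]
  rw [P.swap₁₂ y x z]
  ring

/-- Taylor expansion of the cubic along a line. -/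
lemma cube_add (x y : V) (t : ℂ) :
    eval (x + t • y) f = eval x f + 3 * t * P.T x x y + 3 * t ^ 2 * P.T x y y
      + t ^ 3 * eval y f := by
  rw [← P.diag, ← P.diag, ← P.diag]
  simp only [P.add₁, P.add₂, P.add₃, P.smul₁, P.smul₂, P.smul₃]
  rw [P.swap₂₃ x y x, P.swap₁₃ y x x, P.swap₁₂ y x y, P.swap₁₃ y y x]
  ring

include P in
lemma eval_smul (a : ℂ) (x : V) : eval (a • x) f = a ^ 3 * eval x f := by
  rw [← P.diag, ← P.diag]
  simp only [P.smul₁, P.smul₂, P.smul₃]
  ring

include P in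
lemma eval_zero : eval (0 : V) f = 0 := by
  rw [← P.diag, P.zero₁]

end Polar


/-! ### Substitution by a matrix, at the level of functions -/

lemma eval_aeval_matrix (A : Matrix (Fin 4) (Fin 4) ℂ) (f : MvPolynomial (Fin 4) ℂ) (v : V) :
    eval v (aeval (fun i : Fin 4 => ∑ j : Fin 4, C (A i j) * X j) f) = eval (A.mulVec v) f := by
  have h := comp_aeval_apply (f := fun i : Fin 4 => ∑ j : Fin 4, C (A i j) * X j)
    (aeval v : MvPolynomial (Fin 4) ℂ →ₐ[ℂ] ℂ) f
  simp only [aeval_eq_eval] at h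
  rw [h]
  congr 2
  funext i
  simp [Matrix.mulVec, dotProduct]

lemma preserves_iff (A : Matrix (Fin 4) (Fin 4) ℂ) (f : MvPolynomial (Fin 4) ℂ) (c : ℂ) :
    aeval (fun i : Fin 4 => ∑ j : Fin 4, C (A i j) * X j) f = C c * f ↔
      ∀ v : V, eval (A.mulVec v) f = c * eval v f := by
  constructor
  · intro h v
    rw [← eval_aeval_matrix, h, map_mul, eval_C]
  · intro h
    apply MvPolynomial.funext
    intro v
    rw [eval_aeval_matrix, h, map_mul, eval_C]

/-! ### Linear algebra helpers -/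

lemma exists_notMem_span_singleton (K : Submodule ℂ V) (h : 2 ≤ Module.finrank ℂ K) (b : V) :
    ∃ a ∈ K, a ∉ Submodule.span ℂ {b} := by
  by_contra hcon
  push Not at hcon
  have hle : K ≤ Submodule.span ℂ {b} := fun a ha => hcon a ha
  have h1 := Submodule.finrank_mono hle
  have h2 : Module.finrank ℂ (Submodule.span ℂ {b}) ≤ 1 := by
    have := finrank_span_le_card (R := ℂ) ({b} : Set V)
    simpa using this
  omega

/-- A 2-dimensional subspace containing a nonzero `e` is spanned by `e` and another vector. -/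
lemma two_dim (U : Submodule ℂ V) (hU : Module.finrank ℂ U = 2) (e : V) (he : e ≠ 0)
    (heU : e ∈ U) :
    ∃ u ∈ U, u ∉ Submodule.span ℂ {e} ∧ ∀ x ∈ U, ∃ α β : ℂ, x = α • e + β • u := by
  obtain ⟨u, huU, hu⟩ := exists_notMem_span_singleton U (by omega) e
  refine ⟨u, huU, hu, ?_⟩
  have hli : LinearIndependent ℂ ![e, u] := by
    rw [LinearIndependent.pair_iff' he]
    intro a ha
    exact hu (Submodule.mem_span_singleton.mpr ⟨a, ha⟩)
  have hfr : Module.finrank ℂ (Submodule.span ℂ (Set.range ![e, u])) = 2 := by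
    rw [finrank_span_eq_card hli]
    simp
  have hrange : Set.range ![e, u] = {e, u} := by
    ext x
    simp only [Matrix.range_cons, Matrix.range_empty, Set.union_empty, Set.mem_union,
      Set.mem_singleton_iff, Set.mem_insert_iff]
  rw [hrange] at hfr
  have hle : Submodule.span ℂ {e, u} ≤ U := by
    rw [Submodule.span_le]
    intro x hx
    rcases hx with rfl | rfl
    · exact heU
    · exact huU
  have heq : Submodule.span ℂ {e, u} = U :=
    Submodule.eq_of_le_of_finrank_eq hle (by rw [hfr, hU])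
  intro x hx
  rw [← heq, Submodule.mem_span_pair] at hx
  obtain ⟨a, b, rfl⟩ := hx
  exact ⟨a, b, rfl⟩


/-- There is a linear functional taking the value 1 on a given nonzero vector. -/
lemma exists_dual_one (e : V) (he : e ≠ 0) : ∃ χ : V →ₗ[ℂ] ℂ, χ e = 1 := by
  obtain ⟨k, hk⟩ : ∃ k, e k ≠ 0 := by
    by_contra hcon
    push Not at hcon
    exact he (funext hcon)
  refine ⟨(e k)⁻¹ • LinearMap.proj k, ?_⟩
  simp [hk]

/-- An endomorphism of `ℂ⁴` whose fixed space is a hyperplane and which maps `e` to `-e` is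
`x ↦ x - ψ x • e` for a linear functional `ψ` with `ψ e = 2`. -/
lemma matrix_refl (A : Matrix (Fin 4) (Fin 4) ℂ) (e : V) (he : e ≠ 0)
    (hker : Module.finrank ℂ ↥(LinearMap.ker (Matrix.toLin' A - LinearMap.id)) = 3)
    (hAe : A.mulVec e = -e) :
    ∃ ψ : V →ₗ[ℂ] ℂ, ψ e = 2 ∧ ∀ x, A.mulVec x = x - ψ x • e := by
  set N : V →ₗ[ℂ] V := Matrix.toLin' A - LinearMap.id with hN
  have hrk : Module.finrank ℂ (LinearMap.range N) = 1 := by
    have := LinearMap.finrank_range_add_finrank_ker N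
    rw [hker, Module.finrank_fin_fun] at this
    omega
  have hNe : N e = (-2 : ℂ) • e := by
    rw [hN, LinearMap.sub_apply, Matrix.toLin'_apply, hAe, LinearMap.id_apply]
    ext i
    simp
    ring
  have hne : (⟨N e, LinearMap.mem_range_self N e⟩ : LinearMap.range N) ≠ 0 := by
    intro h
    have h2 : N e = 0 := congrArg Subtype.val h
    rw [hNe] at h2
    have : e = 0 := by
      have h3 := congrArg (fun v => (-2 : ℂ)⁻¹ • v) h2
      simpa using h3
    exact he this
  have hall := (finrank_eq_one_iff_of_nonzero' _ hne).mp hrk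
  obtain ⟨χ, hχ⟩ := exists_dual_one e he
  refine ⟨-(χ ∘ₗ N), ?_, ?_⟩
  · simp [hNe, hχ]
  · intro x
    obtain ⟨c, hc⟩ := hall ⟨N x, LinearMap.mem_range_self N x⟩
    have hc' : c • N e = N x := congrArg Subtype.val hc
    have hNx : N x = (χ (N x)) • e := by
      rw [← hc', hNe]
      simp [hχ, smul_smul]
    have hAx : A.mulVec x = x + N x := by
      rw [hN, LinearMap.sub_apply, Matrix.toLin'_apply, LinearMap.id_apply]
      abel
    rw [hAx]
    nth_rewrite 1 [hNx]
    simp [sub_eq_add_neg]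


/-- The reflection `x ↦ x - φ x • e`. -/
noncomputable def reflLin (e : V) (φ : V →ₗ[ℂ] ℂ) : V →ₗ[ℂ] V := LinearMap.id - φ.smulRight e

@[simp] lemma reflLin_apply (e : V) (φ : V →ₗ[ℂ] ℂ) (x : V) : reflLin e φ x = x - φ x • e := by
  simp [reflLin]

lemma reflLin_reflLin {e : V} {φ : V →ₗ[ℂ] ℂ} (hφ : φ e = 2) (x : V) :
    reflLin e φ (reflLin e φ x) = x := by
  simp only [reflLin_apply, map_sub, map_smul, hφ]
  module

lemma reflLin_injective {e : V} {φ : V →ₗ[ℂ] ℂ} (hφ : φ e = 2) :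
    Function.Injective (reflLin e φ) :=
  Function.LeftInverse.injective (g := reflLin e φ) (reflLin_reflLin hφ)

/-- The matrix of the reflection. -/
noncomputable def reflMatrix (e : V) (φ : V →ₗ[ℂ] ℂ) : Matrix (Fin 4) (Fin 4) ℂ :=
  LinearMap.toMatrix' (reflLin e φ)

lemma reflMatrix_mulVec (e : V) (φ : V →ₗ[ℂ] ℂ) (x : V) :
    (reflMatrix e φ).mulVec x = x - φ x • e := by
  rw [reflMatrix, LinearMap.toMatrix'_mulVec, reflLin_apply]

lemma reflMatrix_mul_self {e : V} {φ : V →ₗ[ℂ] ℂ} (hφ : φ e = 2) :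
    reflMatrix e φ * reflMatrix e φ = 1 := by
  rw [reflMatrix, ← LinearMap.toMatrix'_comp, ← LinearMap.toMatrix'_id]
  congr 1
  apply LinearMap.ext
  intro x
  exact reflLin_reflLin hφ x

lemma ker_refl {e : V} (he : e ≠ 0) (φ : V →ₗ[ℂ] ℂ) :
    LinearMap.ker (Matrix.toLin' (reflMatrix e φ) - LinearMap.id) = LinearMap.ker φ := by
  ext x
  rw [LinearMap.mem_ker, LinearMap.mem_ker, LinearMap.sub_apply, Matrix.toLin'_apply,
    reflMatrix_mulVec, LinearMap.id_apply]
  constructor
  · intro h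
    have h2 : φ x • e = 0 := by
      have : x - φ x • e - x = -(φ x • e) := by abel
      rw [this] at h
      exact neg_eq_zero.mp h
    rcases smul_eq_zero.mp h2 with h3 | h3
    · exact h3
    · exact absurd h3 he
  · intro h
    rw [h]
    simp

lemma finrank_ker_dual {φ : V →ₗ[ℂ] ℂ} (hφ : φ ≠ 0) :
    Module.finrank ℂ (LinearMap.ker φ) = 3 := by
  have h := Module.Dual.finrank_ker_add_one_of_ne_zero (K := ℂ) (V₁ := V) (f := φ) hφ
  rw [Module.finrank_fin_fun] at h
  omega

lemma reflMatrix_finrank {e : V} (he : e ≠ 0) {φ : V →ₗ[ℂ] ℂ} (hφ : φ e = 2) :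
    Module.finrank ℂ ↥(LinearMap.ker (Matrix.toLin' (reflMatrix e φ) - LinearMap.id)) = 3 := by
  rw [ker_refl he]
  apply finrank_ker_dual
  rintro rfl
  simp at hφ

lemma reflMatrix_mulVec_self {e : V} {φ : V →ₗ[ℂ] ℂ} (hφ : φ e = 2) :
    (reflMatrix e φ).mulVec e = -e := by
  rw [reflMatrix_mulVec, hφ]
  module

lemma matrix_ext_mulVec {A B : Matrix (Fin 4) (Fin 4) ℂ} (h : ∀ x, A.mulVec x = B.mulVec x) :
    A = B := by
  apply Matrix.toLin'.injective
  apply LinearMap.ext
  intro x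
  rw [Matrix.toLin'_apply, Matrix.toLin'_apply, h]

end Groth.Agent.Lib.Helper8.Cubic1
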