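import Mathlib
import Groth.Agent.Lib.Helper8.Cubic2
set_option backward.isDefEq.respectTransparency.types false
set_option autoImplicit false

namespace Groth.Agent.Lib.Helper8.Cubic1

open MvPolynomial

variable {f : MvPolynomial (Fin 4) ℂ}

lemma ne_zero_of_notMem_span {e e' : V} (he' : e' ∉ Submodule.span ℂ {e}) : e' ≠ 0 := by
  rintro rfl
  exact he' (Submodule.zero_mem _)

lemma notMem_span_swap {e e' : V} (he : e ≠ 0) (he' : e' ∉ Submodule.span ℂ {e}) :
    e ∉ Submodule.span ℂ {e'} := by
  intro h
  rw [Submodule.mem_span_singleton] at h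
  obtain ⟨c, hc⟩ := h
  have hc0 : c ≠ 0 := by
    rintro rfl
    rw [zero_smul] at hc
    exact he hc.symm
  apply he'
  rw [Submodule.mem_span_singleton]
  refine ⟨c⁻¹, ?_⟩
  rw [← hc, smul_smul, inv_mul_cancel₀ hc0, one_smul]

/-- The restriction of the cubic to the line through two points, the first one Eckardt. -/
lemma line_formula (P : Polar f) {e e' : V} {φ : V →ₗ[ℂ] ℂ} (hφ : IsRefl P e φ)
    (hfe : eval e f = 0) (hfe' : eval e' f = 0) (a b : ℂ) :
    eval (a • e + b • e') f = 3 * a * b * P.T e e e' * (a + b * φ e') := by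
  rw [P.cube_add, P.eval_smul, hfe, hfe', P.smul₁, P.smul₂, P.smul₁, P.swap₁₃ e e' e', hφ.2 e']
  ring

/-- Transport of Eckardt points along a linear automorphism preserving the cubic. -/
lemma isEck_map (g : V →ₗ[ℂ] V) (hg : Function.Injective g) (hfg : ∀ x, eval (g x) f = eval x f)
    {e' : V} (hE : IsEck f e') : IsEck f (g e') := by
  obtain ⟨U, hinj, hU⟩ := hE
  refine ⟨fun i => (U i).map g, ?_, ?_⟩
  · intro i j hij
    exact hinj (Submodule.map_injective_of_injective hg hij)
  · intro i
    refine ⟨?_, Submodule.mem_map_of_mem (hU i).2.1, ?_⟩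
    · rw [← (hU i).1]
      exact (LinearEquiv.finrank_eq (Submodule.equivMapOfInjective g hg (U i))).symm
    · rintro _ ⟨u, hu, rfl⟩
      rw [hfg]
      exact (hU i).2.2 u hu

/-- If the cubic does not vanish on the line through two Eckardt points, the two points are not
on each other's tangent planes and the reflection functionals are inverse on them. -/
lemma line_nonvanishing (P : Polar f) {e e' : V} {φ φ' : V →ₗ[ℂ] ℂ} (hφ : IsRefl P e φ)
    (hφ' : IsRefl P e' φ') (hfe : eval e f = 0) (hfe' : eval e' f = 0)
    (hL : ¬ ∀ u ∈ Submodule.span ℂ {e, e'}, eval u f = 0) :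
    P.T e e e' ≠ 0 ∧ φ e' * φ' e = 1 := by
  have hT : P.T e e e' ≠ 0 := by
    intro h0
    apply hL
    intro u hu
    rw [Submodule.mem_span_pair] at hu
    obtain ⟨a, b, rfl⟩ := hu
    rw [line_formula P hφ hfe hfe', h0]
    ring
  refine ⟨hT, ?_⟩
  have h1 := hφ.2 e'
  have h2 := hφ'.2 e
  rw [h1] at h2
  have h3 : P.T e e e' * (φ e' * φ' e - 1) = 0 := by linear_combination -h2
  rcases mul_eq_zero.mp h3 with h4 | h4
  · exact absurd h4 hT
  · linear_combination h4

/-- **S18409**. -/
theorem line_two_eckardt (hf : f.IsHomogeneous 3) (hsm : Smooth f) {e e' : V} (he : e ≠ 0)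
    (he' : e' ∉ Submodule.span ℂ {e}) (hE : IsEck f e) (hE' : IsEck f e') :
    Xor (∀ u ∈ Submodule.span ℂ {e, e'}, eval u f = 0)
      (∃ e'' : V, e'' ∈ Submodule.span ℂ {e, e'} ∧ e'' ∉ Submodule.span ℂ {e} ∧
        e'' ∉ Submodule.span ℂ {e'} ∧ IsEck f e'' ∧
        ∀ u ∈ Submodule.span ℂ {e, e'}, eval u f = 0 →
          u ∈ Submodule.span ℂ {e} ∨ u ∈ Submodule.span ℂ {e'} ∨ u ∈ Submodule.span ℂ {e''}) := by
  obtain ⟨P⟩ := exists_polar hf
  have he'0 := ne_zero_of_notMem_span he'
  have hswap := notMem_span_swap he he'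
  obtain ⟨hfe, φ, hφ⟩ := exists_refl_of_eckardt P hsm he hE
  obtain ⟨hfe', φ', hφ'⟩ := exists_refl_of_eckardt P hsm he'0 hE'
  by_cases hL : ∀ u ∈ Submodule.span ℂ {e, e'}, eval u f = 0
  · left
    refine ⟨hL, ?_⟩
    rintro ⟨e'', he''L, he''1, he''2, -, hz⟩
    have hu1 : e + e' ∈ Submodule.span ℂ {e, e'} := by
      rw [Submodule.mem_span_pair]; exact ⟨1, 1, by simp⟩
    have hu2 : e + (2 : ℂ) • e' ∈ Submodule.span ℂ {e, e'} := by
      rw [Submodule.mem_span_pair]; exact ⟨1, 2, by simp⟩
    have key : ∀ t : ℂ, t ≠ 0 → e + t • e' ∈ Submodule.span ℂ {e, e'} →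
        e + t • e' ∈ Submodule.span ℂ {e''} := by
      intro t ht hu
      rcases hz _ hu (hL _ hu) with h | h | h
      · exfalso
        apply he'
        have h2 : t • e' ∈ Submodule.span ℂ {e} := by
          have := Submodule.sub_mem _ h (Submodule.mem_span_singleton_self e)
          simpa using this
        have h3 := Submodule.smul_mem _ t⁻¹ h2
        rwa [smul_smul, inv_mul_cancel₀ ht, one_smul] at h3
      · exfalso
        apply hswap
        have := Submodule.sub_mem _ h (Submodule.smul_mem _ t (Submodule.mem_span_singleton_self e'))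
        simpa using this
      · exact h
    have h1 := key 1 one_ne_zero (by simpa using hu1)
    have h2 := key 2 two_ne_zero hu2
    rw [one_smul] at h1
    rw [Submodule.mem_span_singleton] at h1 h2
    obtain ⟨α, hα⟩ := h1
    obtain ⟨β, hβ⟩ := h2
    have h3 : e' = (β - α) • e'' := by
      rw [sub_smul, hα, hβ]
      module
    have hne : β - α ≠ 0 := by
      intro h0
      rw [h0, zero_smul] at h3
      exact he'0 h3
    apply he''2
    rw [Submodule.mem_span_singleton]
    refine ⟨(β - α)⁻¹, ?_⟩
    rw [h3, smul_smul, inv_mul_cancel₀ hne, one_smul]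
  · right
    refine ⟨?_, hL⟩
    obtain ⟨hT, hss⟩ := line_nonvanishing P hφ hφ' hfe hfe' hL
    have hs : φ e' ≠ 0 := by
      intro h0
      rw [h0, zero_mul] at hss
      exact zero_ne_one hss
    refine ⟨reflLin e φ e', ?_, ?_, ?_, ?_, ?_⟩
    · rw [reflLin_apply, Submodule.mem_span_pair]
      exact ⟨-φ e', 1, by module⟩
    · intro h
      apply he'
      rw [reflLin_apply] at h
      have := Submodule.add_mem _ h (Submodule.smul_mem _ (φ e') (Submodule.mem_span_singleton_self e))
      simpa using this
    · intro h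
      apply hswap
      rw [reflLin_apply] at h
      have h2 : φ e' • e ∈ Submodule.span ℂ {e'} := by
        have := Submodule.sub_mem _ (Submodule.mem_span_singleton_self e') h
        simpa using this
      have h3 := Submodule.smul_mem _ (φ e')⁻¹ h2
      rwa [smul_smul, inv_mul_cancel₀ hs, one_smul] at h3
    · exact isEck_map (reflLin e φ) (reflLin_injective hφ.1)
        (fun x => by rw [reflLin_apply, hφ.invariant hfe]) hE'
    · intro u hu hfu
      rw [Submodule.mem_span_pair] at hu
      obtain ⟨a, b, rfl⟩ := hu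
      rw [line_formula P hφ hfe hfe'] at hfu
      have h4 : a * b * (a + b * φ e') = 0 := by
        have : P.T e e e' * (a * b * (a + b * φ e')) = 0 := by linear_combination (1 / 3 : ℂ) * hfu
        exact (mul_eq_zero.mp this).resolve_left hT
      rcases mul_eq_zero.mp h4 with h5 | h5
      · rcases mul_eq_zero.mp h5 with h6 | h6
        · right; left
          rw [h6, zero_smul, zero_add]
          exact Submodule.smul_mem _ _ (Submodule.mem_span_singleton_self e')
        · left
          rw [h6, zero_smul, add_zero]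
          exact Submodule.smul_mem _ _ (Submodule.mem_span_singleton_self e)
      · right; right
        rw [Submodule.mem_span_singleton]
        refine ⟨b, ?_⟩
        rw [reflLin_apply]
        have : a = -(b * φ e') := by linear_combination h5
        rw [this]
        module

end Groth.Agent.Lib.Helper8.Cubic1
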