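import Mathlib
import Groth.Agent.Lib.Helper8.Cubic3
set_option backward.isDefEq.respectTransparency.types false
set_option autoImplicit false

namespace Groth.Agent.Lib.Helper8.Cubic1

open MvPolynomial

variable {f : MvPolynomial (Fin 4) ℂ}

/-- If the line through two Eckardt points lies on the smooth cubic surface, each reflection
functional vanishes on the other point. -/
lemma refl_zero_of_line_subset (P : Polar f) (hsm : Smooth f) {e e' : V} (he : e ≠ 0)
    (he' : e' ∉ Submodule.span ℂ {e}) {φ φ' : V →ₗ[ℂ] ℂ} (hφ : IsRefl P e φ)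
    (hφ' : IsRefl P e' φ') (hL : ∀ u ∈ Submodule.span ℂ {e, e'}, eval u f = 0) :
    φ e' = 0 ∧ φ' e = 0 := by
  have he'0 := ne_zero_of_notMem_span he'
  have hswap := notMem_span_swap he he'
  have hfe : eval e f = 0 := hL e (Submodule.subset_span (by simp))
  have hfe' : eval e' f = 0 := hL e' (Submodule.subset_span (by simp))
  have hT0 : P.T e e e' = 0 := by
    have h1 := hL ((1 : ℂ) • e + (1 : ℂ) • e') (by rw [Submodule.mem_span_pair]; exact ⟨1, 1, rfl⟩)
    have h2 := hL ((1 : ℂ) • e + (-1 : ℂ) • e') (by rw [Submodule.mem_span_pair]; exact ⟨1, -1, rfl⟩)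
    rw [line_formula P hφ hfe hfe'] at h1 h2
    linear_combination (1 / 6 : ℂ) * h1 - (1 / 6 : ℂ) * h2
  have hT0' : P.T e' e' e = 0 := by rw [hφ.2 e', hT0, zero_mul]
  have hstar : ∀ x, P.T e e x * φ e' = P.T e' e' x * φ' e := by
    intro x
    have h1 := hφ.polar x e'
    have h2 := hφ'.polar x e
    rw [hT0, zero_mul, add_zero] at h1
    rw [hT0', zero_mul, add_zero, P.swap₂₃ x e e'] at h2
    rw [← h1, ← h2]
  have hs : φ e' = 0 := by
    by_contra hs
    obtain ⟨t, ht⟩ := exists_root_quadratic (φ e') (φ' e * φ e') (φ' e) hs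
    have hv0 : e + t • e' ≠ 0 := by
      intro h0
      apply hswap
      rw [Submodule.mem_span_singleton]
      refine ⟨-t, ?_⟩
      rw [neg_smul]
      exact (eq_neg_of_add_eq_zero_left h0).symm
    have hfv : eval (e + t • e') f = 0 := by
      apply hL
      rw [Submodule.mem_span_pair]
      exact ⟨1, t, by simp⟩
    obtain ⟨y, hy⟩ := P.not_singular hsm hv0 hfv
    apply hy
    have h1 := hφ.polar y e'
    rw [hT0, zero_mul, add_zero] at h1
    have h2 : φ e' * P.T (e + t • e') (e + t • e') y = 0 := by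
      rw [P.sq_add, P.swap₁₃ e e' y]
      have h3 := hstar y
      linear_combination (t * φ e') * h1 + (1 + t * φ e') * h3 + P.T e' e' y * ht
    exact (mul_eq_zero.mp h2).resolve_left hs
  refine ⟨hs, ?_⟩
  obtain ⟨y, hy⟩ := P.not_singular hsm he'0 hfe'
  have h1 := hstar y
  rw [hs, mul_zero] at h1
  exact (mul_eq_zero.mp h1.symm).resolve_left hy

/-- **S18410**. -/
theorem commute_of_line_subset (hf : f.IsHomogeneous 3) (hsm : Smooth f) {e e' : V} (he : e ≠ 0)
    (he' : e' ∉ Submodule.span ℂ {e})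
    (hL : ∀ u ∈ Submodule.span ℂ {e, e'}, eval u f = 0)
    {A A' : Matrix (Fin 4) (Fin 4) ℂ} (hA : IsInv f A e) (hA' : IsInv f A' e') :
    (∃ c : ℂ, A * A' = c • (A' * A)) ∧ (∃ d : ℂ, A.mulVec e' = d • e') ∧
      (∃ d : ℂ, A'.mulVec e = d • e) := by
  obtain ⟨P⟩ := exists_polar hf
  have he'0 := ne_zero_of_notMem_span he'
  have hfe : eval e f = 0 := hL e (Submodule.subset_span (by simp))
  have hfe' : eval e' f = 0 := hL e' (Submodule.subset_span (by simp))
  obtain ⟨φ, hφ, hAx⟩ := invol_refl P hsm he hfe hA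
  obtain ⟨φ', hφ', hA'x⟩ := invol_refl P hsm he'0 hfe' hA'
  obtain ⟨hs, hs'⟩ := refl_zero_of_line_subset P hsm he he' hφ hφ' hL
  refine ⟨⟨1, ?_⟩, ⟨1, ?_⟩, ⟨1, ?_⟩⟩
  · rw [one_smul]
    apply matrix_ext_mulVec
    intro x
    rw [← Matrix.mulVec_mulVec, ← Matrix.mulVec_mulVec, hA'x, hAx, hAx, hA'x]
    simp only [map_sub, map_smul, hs, hs', smul_eq_mul, mul_zero, sub_zero]
    module
  · rw [hAx, hs]
    simp
  · rw [hA'x, hs']
    simp

end Groth.Agent.Lib.Helper8.Cubic1
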