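import Mathlib
import Groth.Agent.Lib.Helper8.Cubic4
set_option backward.isDefEq.respectTransparency.types false
set_option autoImplicit false

namespace Groth.Agent.Lib.Helper8.Cubic1

open MvPolynomial

variable {f : MvPolynomial (Fin 4) ℂ}

lemma IsEck.eval_eq_zero {e : V} (hE : IsEck f e) : eval e f = 0 := by
  obtain ⟨U, -, hU⟩ := hE
  exact (hU 0).2.2 e (hU 0).2.1

lemma IsRefl.eval_reflLin {P : Polar f} {e : V} {φ : V →ₗ[ℂ] ℂ} (h : IsRefl P e φ)
    (hfe : eval e f = 0) (x : V) : eval (reflLin e φ x) f = eval x f := by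
  rw [reflLin_apply, h.invariant hfe]

/-- The reflection of the third collinear Eckardt point is the conjugate of the second by the
first. -/
lemma refl_conj (P : Polar f) (hsm : Smooth f) {e e' e'' : V} {φ φ' φ'' : V →ₗ[ℂ] ℂ}
    (hφ : IsRefl P e φ) (hφ' : IsRefl P e' φ') (hφ'' : IsRefl P e'' φ'')
    (hfe : eval e f = 0) (hfe' : eval e' f = 0) (hfe'' : eval e'' f = 0)
    (he''1 : e'' ∉ Submodule.span ℂ {e}) (he''2 : e'' ∉ Submodule.span ℂ {e'})
    (he''L : e'' ∈ Submodule.span ℂ {e, e'})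
    (hL : ¬ ∀ u ∈ Submodule.span ℂ {e, e'}, eval u f = 0) :
    ∀ x, reflLin e'' φ'' x = reflLin e φ (reflLin e' φ' (reflLin e φ x)) := by
  obtain ⟨hT, hss⟩ := line_nonvanishing P hφ hφ' hfe hfe' hL
  have he''0 := ne_zero_of_notMem_span he''1
  rw [Submodule.mem_span_pair] at he''L
  obtain ⟨a, b, hab⟩ := he''L
  have ha : a ≠ 0 := by
    rintro rfl
    apply he''2
    rw [← hab, zero_smul, zero_add]
    exact Submodule.smul_mem _ _ (Submodule.mem_span_singleton_self e')
  have hb : b ≠ 0 := by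
    rintro rfl
    apply he''1
    rw [← hab, zero_smul, add_zero]
    exact Submodule.smul_mem _ _ (Submodule.mem_span_singleton_self e)
  have hzero : a + b * φ e' = 0 := by
    have h1 := hfe''
    rw [← hab, line_formula P hφ hfe hfe'] at h1
    have h2 : (3 * a * b * P.T e e e') ≠ 0 := by
      simp [ha, hb, hT]
    exact (mul_eq_zero.mp h1).resolve_left h2
  have he''eq : e'' = b • reflLin e φ e' := by
    rw [← hab, reflLin_apply]
    have : a = -(b * φ e') := by linear_combination hzero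
    rw [this]
    module
  set χ : V →ₗ[ℂ] ℂ := b⁻¹ • (φ' ∘ₗ reflLin e φ) with hχdef
  have hχx : ∀ x, χ x • e'' = φ' (reflLin e φ x) • reflLin e φ e' := by
    intro x
    rw [hχdef, he''eq, LinearMap.smul_apply, LinearMap.comp_apply, smul_smul, smul_eq_mul,
      mul_comm b⁻¹, mul_assoc, inv_mul_cancel₀ hb, mul_one]
  have hcomp : ∀ x, reflLin e φ (reflLin e' φ' (reflLin e φ x)) = x - χ x • e'' := by
    intro x
    rw [hχx, reflLin_apply e' φ', map_sub, map_smul, reflLin_reflLin hφ.1]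
  have hχe : χ e'' = 2 := by
    rw [hχdef, LinearMap.smul_apply, LinearMap.comp_apply, he''eq, map_smul, reflLin_reflLin hφ.1,
      map_smul, hφ'.1, smul_eq_mul, smul_eq_mul, ← mul_assoc, inv_mul_cancel₀ hb, one_mul]
  have hinv : ∀ x, eval (x - χ x • e'') f = 1 * eval x f := by
    intro x
    rw [← hcomp, hφ.eval_reflLin hfe, hφ'.eval_reflLin hfe', hφ.eval_reflLin hfe, one_mul]
  have hχ : IsRefl P e'' χ := isRefl_of_invariant P hsm hfe'' χ hχe 1 hinv
  have := hχ.unique hφ'' (P.not_singular hsm he''0 hfe'')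
  intro x
  rw [hcomp, ← this, reflLin_apply]

/-- **S18411**. -/
theorem dihedral_three (hf : f.IsHomogeneous 3) (hsm : Smooth f) {e e' e'' : V} (he : e ≠ 0)
    (he' : e' ∉ Submodule.span ℂ {e}) (he''1 : e'' ∉ Submodule.span ℂ {e})
    (he''2 : e'' ∉ Submodule.span ℂ {e'}) (he''L : e'' ∈ Submodule.span ℂ {e, e'})
    (hE : IsEck f e) (hE' : IsEck f e') (hE'' : IsEck f e'')
    (hL : ¬ ∀ u ∈ Submodule.span ℂ {e, e'}, eval u f = 0)
    {A A' A'' : Matrix (Fin 4) (Fin 4) ℂ} (hA : IsInv f A e) (hA' : IsInv f A' e')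
    (hA'' : IsInv f A'' e'') :
    (¬ ∃ c : ℂ, A * A' = c • (1 : Matrix (Fin 4) (Fin 4) ℂ)) ∧
      (∃ c : ℂ, (A * A') ^ 3 = c • (1 : Matrix (Fin 4) (Fin 4) ℂ)) ∧
      ∃ c : ℂ, A'' = c • (A * A' * A) := by
  obtain ⟨P⟩ := exists_polar hf
  have he'0 := ne_zero_of_notMem_span he'
  have he''0 := ne_zero_of_notMem_span he''1
  have hfe := hE.eval_eq_zero
  have hfe' := hE'.eval_eq_zero
  have hfe'' := hE''.eval_eq_zero
  obtain ⟨φ, hφ, hAx⟩ := invol_refl P hsm he hfe hA
  obtain ⟨φ', hφ', hA'x⟩ := invol_refl P hsm he'0 hfe' hA'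
  obtain ⟨φ'', hφ'', hA''x⟩ := invol_refl P hsm he''0 hfe'' hA''
  have hR : ∀ x, A.mulVec x = reflLin e φ x := fun x => by rw [hAx, reflLin_apply]
  have hR' : ∀ x, A'.mulVec x = reflLin e' φ' x := fun x => by rw [hA'x, reflLin_apply]
  have hR'' : ∀ x, A''.mulVec x = reflLin e'' φ'' x := fun x => by rw [hA''x, reflLin_apply]
  have hcomm : Submodule.span ℂ {e', e} = Submodule.span ℂ {e, e'} := by rw [Set.pair_comm]
  have h1 := refl_conj P hsm hφ hφ' hφ'' hfe hfe' hfe'' he''1 he''2 he''L hL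
  have h2 := refl_conj P hsm hφ' hφ hφ'' hfe' hfe hfe'' he''2 he''1 (by rw [hcomm]; exact he''L)
    (by rw [hcomm]; exact hL)
  have hA1 : A'' = A * A' * A := by
    apply matrix_ext_mulVec
    intro x
    rw [← Matrix.mulVec_mulVec, ← Matrix.mulVec_mulVec, hR'', hR, hR', hR, h1]
  have hA2 : A'' = A' * A * A' := by
    apply matrix_ext_mulVec
    intro x
    rw [← Matrix.mulVec_mulVec, ← Matrix.mulVec_mulVec, hR'', hR', hR, hR', h2]
  obtain ⟨hT, hss⟩ := line_nonvanishing P hφ hφ' hfe hfe' hL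
  refine ⟨?_, ⟨1, ?_⟩, ⟨1, ?_⟩⟩
  · rintro ⟨c, hc⟩
    have h3 := congrArg (fun M : Matrix (Fin 4) (Fin 4) ℂ => M.mulVec e) hc
    simp only [← Matrix.mulVec_mulVec, Matrix.smul_mulVec, Matrix.one_mulVec] at h3
    rw [hA'x, hAx, map_sub, map_smul, hφ.1] at h3
    have hs' : φ' e ≠ 0 := by
      intro h0
      rw [h0, mul_zero] at hss
      exact zero_ne_one hss
    apply he'
    rw [Submodule.mem_span_singleton]
    refine ⟨-(φ' e)⁻¹ * c, ?_⟩
    have h4 : c • e = -(φ' e) • e' := by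
      rw [← h3]
      have : φ' e * φ e' = 1 := by rw [mul_comm]; exact hss
      rw [smul_eq_mul, this]
      module
    rw [mul_smul, h4, smul_smul]
    field_simp
    simp
  · rw [one_smul]
    have : (A * A') ^ 3 = (A * A' * A) * (A' * A * A') := by
      simp only [pow_succ, pow_zero, one_mul, Matrix.mul_assoc]
    rw [this, ← hA1, ← hA2, hA''.1]
  · rw [one_smul]
    exact hA1

end Groth.Agent.Lib.Helper8.Cubic1
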