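import Mathlib
import Groth.Agent.Lib.Helper8.CubicK1
set_option backward.isDefEq.respectTransparency.types false
set_option autoImplicit false
set_option linter.unusedSectionVars false

namespace Groth.Agent.Lib.Helper8.CubicK

open MvPolynomial

variable {k : Type*} [Field k] [CharZero k] [IsAlgClosed k] {f : MvPolynomial (Fin 4) k}

/-- The smoothness hypothesis of the statements. -/
def Smooth (f : MvPolynomial (Fin 4) k) : Prop :=
  ∀ v : (Fin 4 → k), v ≠ 0 → eval v f = 0 → ∃ i : Fin 4, eval v (pderiv i f) ≠ 0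

/-- The Eckardt point hypothesis of the statements. -/
def IsEck (f : MvPolynomial (Fin 4) k) (e : (Fin 4 → k)) : Prop :=
  ∃ U : Fin 3 → Submodule k (Fin 4 → k), Function.Injective U ∧
    ∀ i : Fin 3, Module.finrank k ↥(U i) = 2 ∧ e ∈ U i ∧ ∀ u ∈ U i, eval u f = 0

/-- The involution hypothesis of the statements. -/
def IsInv (f : MvPolynomial (Fin 4) k) (A : Matrix (Fin 4) (Fin 4) k) (e : (Fin 4 → k)) : Prop :=
  A * A = 1 ∧ Module.finrank k ↥(LinearMap.ker (Matrix.toLin' A - LinearMap.id)) = 3 ∧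
    A.mulVec e = -e ∧ ∃ c : k, aeval (fun i : Fin 4 => ∑ j : Fin 4, C (A i j) * X j) f = C c * f

lemma Polar.not_singular (P : Polar f) (hsm : Smooth f) {v : (Fin 4 → k)} (hv : v ≠ 0)
    (hfv : eval v f = 0) : ∃ y, P.T v v y ≠ 0 := by
  obtain ⟨i, hi⟩ := hsm v hv hfv
  rw [P.deriv] at hi
  exact ⟨Pi.single i 1, fun h => hi (by rw [h, mul_zero])⟩

/-- `φ` is the reflection functional of `e`: `φ e = 2` and `T x x e = T e e x * φ x`. -/
def IsRefl (P : Polar f) (e : (Fin 4 → k)) (φ : (Fin 4 → k) →ₗ[k] k) : Prop :=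
  φ e = 2 ∧ ∀ x, P.T x x e = P.T e e x * φ x

namespace IsRefl

variable {P : Polar f} {e : (Fin 4 → k)} {φ ψ : (Fin 4 → k) →ₗ[k] k}

lemma polar (h : IsRefl P e φ) (x y : (Fin 4 → k)) :
    2 * P.T x y e = P.T e e x * φ y + P.T e e y * φ x := by
  have h1 := h.2 (x + y)
  rw [P.add₁, P.add₂, P.add₂, P.add₃, map_add, h.2 x, h.2 y, P.swap₁₂ y x e] at h1
  linear_combination h1

lemma invariant (h : IsRefl P e φ) (hfe : eval e f = 0) (x : (Fin 4 → k)) :
    eval (x - φ x • e) f = eval x f := by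
  have h1 := P.cube_add x e (-φ x)
  rw [neg_smul, ← sub_eq_add_neg] at h1
  rw [h1, h.2 x, hfe, P.swap₁₃ x e e]
  ring

lemma unique (h₁ : IsRefl P e φ) (h₂ : IsRefl P e ψ) (hl : ∃ y, P.T e e y ≠ 0) : φ = ψ := by
  obtain ⟨y, hy⟩ := hl
  have key : ∀ x, P.T e e x ≠ 0 → φ x = ψ x := by
    intro x hx
    have := (h₁.2 x).symm.trans (h₂.2 x)
    exact mul_left_cancel₀ hx this
  apply LinearMap.ext
  intro x
  by_cases hx : P.T e e x = 0
  · have h3 : P.T e e (x + y) ≠ 0 := by rw [P.add₃, hx, zero_add]; exact hy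
    have h4 := key _ h3
    have h5 := key _ hy
    rw [map_add, map_add, h5] at h4
    exact add_right_cancel h4
  · exact key x hx

end IsRefl


lemma exists_root_quadratic (a b c : k) (ha : a ≠ 0) : ∃ t : k, a * (t * t) + b * t + c = 0 :=
  exists_quadratic_eq_zero ha (IsAlgClosed.exists_eq_mul_self _)

/-- If `f` vanishes on the affine line `v + t y`, the polar terms vanish. -/
lemma Polar.T_eq_zero_of_line (P : Polar f) (v y : (Fin 4 → k)) (h : ∀ t : k, eval (v + t • y) f = 0) :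
    eval v f = 0 ∧ P.T v v y = 0 ∧ P.T v y y = 0 ∧ eval y f = 0 := by
  have h0 := h 0
  have h1 := h 1
  have h2 := h (-1)
  have h3 := h 2
  rw [P.cube_add] at h0 h1 h2 h3
  have hv : eval v f = 0 := by linear_combination h0
  rw [hv] at h1 h2 h3
  have hB : P.T v y y = 0 := by linear_combination (1 / 6 : k) * h1 + (1 / 6 : k) * h2
  rw [hB] at h1 h2 h3
  have hC : eval y f = 0 := by linear_combination (1 / 6 : k) * h3 - (1 / 3 : k) * h1
  rw [hC] at h1
  have hA : P.T v v y = 0 := by linear_combination (1 / 3 : k) * h1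
  exact ⟨hv, hA, hB, hC⟩

/-- A quadratic form `x ↦ T x x y₀` has a nonzero root on any plane. -/
lemma Polar.exists_root_on_plane (P : Polar f) (a b y₀ : (Fin 4 → k))
    (ha : a ∉ Submodule.span k {b}) (hb : b ≠ 0) :
    ∃ s t : k, s • a + t • b ≠ 0 ∧ P.T (s • a + t • b) (s • a + t • b) y₀ = 0 := by
  by_cases hbb : P.T b b y₀ = 0
  · refine ⟨0, 1, ?_, ?_⟩
    · simpa using hb
    · simpa using hbb
  · obtain ⟨t, ht⟩ := exists_root_quadratic (P.T b b y₀) (2 * P.T a b y₀) (P.T a a y₀) hbb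
    refine ⟨1, t, ?_, ?_⟩
    · intro h0
      apply ha
      rw [Submodule.mem_span_singleton]
      refine ⟨-t, ?_⟩
      rw [one_smul] at h0
      rw [neg_smul]
      exact (eq_neg_of_add_eq_zero_left h0).symm
    · rw [one_smul, P.sq_add]
      linear_combination ht

/-- A cubic vanishing on a hyperplane is singular somewhere on it. -/
lemma Polar.singular_of_vanish_on_ker (P : Polar f) (ψ : (Fin 4 → k) →ₗ[k] k) (hψ : ψ ≠ 0)
    (h : ∀ x, ψ x = 0 → eval x f = 0) :
    ∃ v : (Fin 4 → k), v ≠ 0 ∧ eval v f = 0 ∧ ∀ y, P.T v v y = 0 := by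
  obtain ⟨y₀, hy₀⟩ : ∃ y₀, ψ y₀ ≠ 0 := by
    by_contra hcon
    push Not at hcon
    exact hψ (LinearMap.ext hcon)
  have hfr := finrank_ker_dual hψ
  obtain ⟨b, hbK, hb⟩ := exists_notMem_span_singleton (LinearMap.ker ψ) (by omega) 0
  have hb0 : b ≠ 0 := by
    intro h0
    apply hb
    rw [h0]
    exact Submodule.zero_mem _
  obtain ⟨a, haK, ha⟩ := exists_notMem_span_singleton (LinearMap.ker ψ) (by omega) b
  obtain ⟨s, t, hv0, hv⟩ := P.exists_root_on_plane a b y₀ ha hb0
  set v := s • a + t • b with hvdef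
  have hvK : ψ v = 0 := by
    rw [hvdef, map_add, map_smul, map_smul, LinearMap.mem_ker.mp haK, LinearMap.mem_ker.mp hbK]
    simp
  have hker : ∀ y, ψ y = 0 → P.T v v y = 0 := by
    intro y hy
    have := P.T_eq_zero_of_line v y (fun t => h _ (by rw [map_add, map_smul, hvK, hy]; simp))
    exact this.2.1
  refine ⟨v, hv0, h v hvK, ?_⟩
  intro y
  have hy' : ψ (y - (ψ y / ψ y₀) • y₀) = 0 := by
    rw [map_sub, map_smul, smul_eq_mul]
    field_simp
    ring
  have h1 := hker _ hy'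
  rw [P.sub₃, P.smul₃, hv] at h1
  linear_combination h1


/-- A reflection in `e` preserving the smooth cubic up to a scalar is the Eckardt reflection. -/
lemma isRefl_of_invariant (P : Polar f) (hsm : Smooth f) {e : (Fin 4 → k)} (hfe : eval e f = 0)
    (ψ : (Fin 4 → k) →ₗ[k] k) (hψ : ψ e = 2) (c : k)
    (h : ∀ x, eval (x - ψ x • e) f = c * eval x f) : IsRefl P e ψ := by
  have key : ∀ x, (c - 1) * eval x f = 3 * ψ x * (ψ x * P.T e e x - P.T x x e) := by
    intro x
    have h1 := P.cube_add x e (-ψ x)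
    rw [neg_smul, ← sub_eq_add_neg, h x, hfe, P.swap₁₃ x e e] at h1
    linear_combination h1
  have hψ0 : ψ ≠ 0 := by
    rintro rfl
    simp at hψ
  have hc : c = 1 := by
    by_contra hc
    have hvan : ∀ x, ψ x = 0 → eval x f = 0 := by
      intro x hx
      have := key x
      rw [hx] at this
      have h2 : (c - 1) * eval x f = 0 := by rw [this]; ring
      rcases mul_eq_zero.mp h2 with h3 | h3
      · exact absurd (sub_eq_zero.mp h3) hc
      · exact h3
    obtain ⟨v, hv0, hfv, hv⟩ := P.singular_of_vanish_on_ker ψ hψ0 hvan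
    obtain ⟨y, hy⟩ := P.not_singular hsm hv0 hfv
    exact hy (hv y)
  subst hc
  have key2 : ∀ x, ψ x ≠ 0 → P.T x x e = P.T e e x * ψ x := by
    intro x hx
    have := key x
    rw [sub_self, zero_mul] at this
    have h2 : ψ x * P.T e e x - P.T x x e = 0 := by
      rcases mul_eq_zero.mp this.symm with h3 | h3
      · rcases mul_eq_zero.mp h3 with h4 | h4
        · norm_num at h4
        · exact absurd h4 hx
      · exact h3
    linear_combination -h2
  refine ⟨hψ, ?_⟩
  intro x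
  by_cases hx : ψ x = 0
  · have h1 : ψ (x + e) ≠ 0 := by rw [map_add, hx, hψ]; norm_num
    have h2 := key2 _ h1
    rw [P.add₁, P.add₂, P.add₂, P.add₃, map_add, hx, hψ, P.diag, hfe, P.swap₁₃ x e e,
      P.swap₁₂ e x e, P.swap₁₃ x e e] at h2
    rw [hx]
    linear_combination h2
  · exact key2 x hx


lemma Polar.quad_expand (P : Polar f) (a b c : k) (x y z w : (Fin 4 → k)) :
    P.T (a • x + b • y + c • z) (a • x + b • y + c • z) w =
      a ^ 2 * P.T x x w + b ^ 2 * P.T y y w + c ^ 2 * P.T z z w + 2 * a * b * P.T x y w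
        + 2 * a * c * P.T x z w + 2 * b * c * P.T y z w := by
  simp only [P.add₁, P.add₂, P.smul₁, P.smul₂]
  rw [P.swap₁₂ y x w, P.swap₁₂ z x w, P.swap₁₂ z y w]
  ring

/-- An Eckardt point of a smooth cubic surface has a reflection functional. -/
lemma exists_refl_of_eckardt (P : Polar f) (hsm : Smooth f) {e : (Fin 4 → k)} (he : e ≠ 0)
    (hE : IsEck f e) : eval e f = 0 ∧ ∃ φ : (Fin 4 → k) →ₗ[k] k, IsRefl P e φ := by
  obtain ⟨U, hinj, hU⟩ := hE
  have hfe : eval e f = 0 := (hU 0).2.2 e (hU 0).2.1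
  refine ⟨hfe, ?_⟩
  have hline : ∀ i, ∀ u ∈ U i, P.T u u e = 0 ∧ P.T e e u = 0 := by
    intro i u hu
    have := P.T_eq_zero_of_line u e
      (fun t => (hU i).2.2 _ (add_mem hu (Submodule.smul_mem _ _ (hU i).2.1)))
    exact ⟨this.2.1, by rw [P.swap₁₃ e e u]; exact this.2.2.1⟩
  obtain ⟨y, hy⟩ := P.not_singular hsm he hfe
  have hℓ : P.lin e e ≠ 0 := fun h => hy (by simpa using LinearMap.congr_fun h y)
  have hfr := finrank_ker_dual hℓ
  obtain ⟨u0, hu0U, hu0, hspan0⟩ := two_dim (U 0) (hU 0).1 e he (hU 0).2.1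
  obtain ⟨u1, hu1U, hu1, hspan1⟩ := two_dim (U 1) (hU 1).1 e he (hU 1).2.1
  obtain ⟨u2, hu2U, hu2, hspan2⟩ := two_dim (U 2) (hU 2).1 e he (hU 2).2.1
  have hle : ∀ i, U i ≤ LinearMap.ker (P.lin e e) := fun i u hu => by
    rw [LinearMap.mem_ker]; exact (hline i u hu).2
  have hne : ∀ i j, i ≠ j → ¬ (U i ≤ U j) := by
    intro i j hij hle
    have h01 : U i = U j := Submodule.eq_of_le_of_finrank_eq hle (by rw [(hU i).1, (hU j).1])
    exact hij (hinj h01)
  have hsup : U 0 ⊔ U 1 = LinearMap.ker (P.lin e e) := by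
    apply Submodule.eq_of_le_of_finrank_le (sup_le (hle 0) (hle 1))
    have h1 := Submodule.finrank_sup_add_finrank_inf_eq (U 0) (U 1)
    have h2 : Module.finrank k ↥(U 0 ⊓ U 1) < Module.finrank k ↥(U 0) := by
      apply Submodule.finrank_lt_finrank_of_lt
      refine lt_of_le_of_ne inf_le_left ?_
      intro heq
      have : U 0 ≤ U 1 := by rw [← heq]; exact inf_le_right
      exact hne 0 1 (by decide) this
    rw [(hU 0).1, (hU 1).1] at h1
    rw [(hU 0).1] at h2
    rw [hfr]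
    omega
  have hdecomp : ∀ x, P.T e e x = 0 → ∃ γ β β' : k, x = γ • e + β • u0 + β' • u1 := by
    intro x hx
    have hxk : x ∈ LinearMap.ker (P.lin e e) := by rw [LinearMap.mem_ker]; exact hx
    rw [← hsup, Submodule.mem_sup] at hxk
    obtain ⟨a, ha, b, hb, rfl⟩ := hxk
    obtain ⟨α, β, rfl⟩ := hspan0 a ha
    obtain ⟨α', β', rfl⟩ := hspan1 b hb
    exact ⟨α + α', β, β', by module⟩
  -- the mixed term vanishes
  have hTe : P.T e e e = 0 := by rw [P.diag, hfe]
  have h0 := hline 0 u0 hu0U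
  have h1 := hline 1 u1 hu1U
  have hquad : ∀ γ β β' : k, P.T (γ • e + β • u0 + β' • u1) (γ • e + β • u0 + β' • u1) e
      = 2 * β * β' * P.T u0 u1 e := by
    intro γ β β'
    rw [P.quad_expand, hTe, h0.1, h1.1, P.swap₂₃ e u0 e, h0.2, P.swap₂₃ e u1 e, h1.2]
    ring
  have hmixed : P.T u0 u1 e = 0 := by
    obtain ⟨γ, β, β', h2⟩ := hdecomp u2 (hline 2 u2 hu2U).2
    have hβ : β ≠ 0 := by
      rintro rfl
      apply hne 2 1 (by decide)
      intro x hx
      obtain ⟨a, b, rfl⟩ := hspan2 x hx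
      rw [h2]
      exact add_mem (Submodule.smul_mem _ _ (hU 1).2.1) (Submodule.smul_mem _ _
        (add_mem (add_mem (Submodule.smul_mem _ _ (hU 1).2.1) (by simp))
          (Submodule.smul_mem _ _ hu1U)))
    have hβ' : β' ≠ 0 := by
      rintro rfl
      apply hne 2 0 (by decide)
      intro x hx
      obtain ⟨a, b, rfl⟩ := hspan2 x hx
      rw [h2]
      exact add_mem (Submodule.smul_mem _ _ (hU 0).2.1) (Submodule.smul_mem _ _
        (add_mem (add_mem (Submodule.smul_mem _ _ (hU 0).2.1) (Submodule.smul_mem _ _ hu0U))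
          (by simp)))
    have h3 := (hline 2 u2 hu2U).1
    rw [h2, hquad] at h3
    have : 2 * β * β' ≠ 0 := by simp [hβ, hβ']
    exact (mul_eq_zero.mp h3).resolve_left this
  have hvan : ∀ x, P.T e e x = 0 → P.T x x e = 0 := by
    intro x hx
    obtain ⟨γ, β, β', rfl⟩ := hdecomp x hx
    rw [hquad, hmixed, mul_zero]
  -- choose v₀ with ℓ v₀ = 1
  obtain ⟨v₀, hv₀⟩ : ∃ v₀, P.T e e v₀ = 1 := by
    refine ⟨(P.T e e y)⁻¹ • y, ?_⟩
    rw [P.smul₃, inv_mul_cancel₀ hy]
  refine ⟨(2 : k) • P.lin v₀ e - (P.T v₀ v₀ e) • P.lin e e, ?_, ?_⟩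
  · simp only [LinearMap.sub_apply, LinearMap.smul_apply, Polar.lin_apply, smul_eq_mul, hTe]
    rw [P.swap₁₃ v₀ e e, hv₀]
    ring
  · intro x
    have h2 : P.T e e (x - P.T e e x • v₀) = 0 := by
      rw [P.sub₃, P.smul₃, hv₀]; ring
    have h3 := hvan _ h2
    rw [sub_eq_add_neg, ← neg_smul, P.sq_add] at h3
    simp only [LinearMap.sub_apply, LinearMap.smul_apply, Polar.lin_apply, smul_eq_mul]
    rw [P.swap₁₃ v₀ e x, P.swap₂₃ x e v₀]
    linear_combination h3


/-- An involution as in the statements is the reflection of a reflection functional. -/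
lemma invol_refl (P : Polar f) (hsm : Smooth f) {e : (Fin 4 → k)} (he : e ≠ 0) (hfe : eval e f = 0)
    {A : Matrix (Fin 4) (Fin 4) k} (hA : IsInv f A e) :
    ∃ ψ : (Fin 4 → k) →ₗ[k] k, IsRefl P e ψ ∧ ∀ x, A.mulVec x = x - ψ x • e := by
  obtain ⟨_, hker, hAe, c, hc⟩ := hA
  obtain ⟨ψ, hψ, hAx⟩ := matrix_refl A e he hker hAe
  rw [preserves_iff] at hc
  exact ⟨ψ, isRefl_of_invariant P hsm hfe ψ hψ c (fun x => by rw [← hAx, hc]), hAx⟩

/-- The reflection matrix of a reflection functional is an involution as in the statements. -/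
lemma isInv_reflMatrix (P : Polar f) {e : (Fin 4 → k)} (he : e ≠ 0) (hfe : eval e f = 0)
    {φ : (Fin 4 → k) →ₗ[k] k} (hφ : IsRefl P e φ) : IsInv f (reflMatrix e φ) e := by
  refine ⟨reflMatrix_mul_self hφ.1, reflMatrix_finrank he hφ.1, reflMatrix_mulVec_self hφ.1, 1, ?_⟩
  rw [preserves_iff]
  intro v
  rw [reflMatrix_mulVec, hφ.invariant hfe, one_mul]

/-- **S18407**: the Eckardt involution exists and is unique. -/
theorem eckardt_existsUnique (hf : f.IsHomogeneous 3) (hsm : Smooth f) {e : (Fin 4 → k)} (he : e ≠ 0)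
    (hE : IsEck f e) : ∃! A : Matrix (Fin 4) (Fin 4) k, IsInv f A e := by
  obtain ⟨P⟩ := exists_polar hf
  obtain ⟨hfe, φ, hφ⟩ := exists_refl_of_eckardt P hsm he hE
  refine ⟨reflMatrix e φ, isInv_reflMatrix P he hfe hφ, ?_⟩
  intro A' hA'
  obtain ⟨ψ, hψ, hAx⟩ := invol_refl P hsm he hfe hA'
  have := hψ.unique hφ (P.not_singular hsm he hfe)
  subst this
  apply matrix_ext_mulVec
  intro x
  rw [hAx, reflMatrix_mulVec]

end Groth.Agent.Lib.Helper8.CubicK
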