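import Mathlib
import Groth.Agent.Lib.Helper8.CubicK5
set_option backward.isDefEq.respectTransparency.types false
set_option autoImplicit false
set_option linter.unusedSectionVars false

namespace Groth.Agent.Lib.Helper8.CubicK

variable {k : Type*} [Field k] [CharZero k] [IsAlgClosed k]

open Polynomial in
/-- A complex cubic without a multiple root has three distinct roots. -/
lemma exists_three_roots (c0 c1 c2 c3 : k) (h3 : c3 ≠ 0)
    (hsep : ∀ r : k, c3 * r ^ 3 + c2 * r ^ 2 + c1 * r + c0 = 0 →
      3 * c3 * r ^ 2 + 2 * c2 * r + c1 ≠ 0) :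
    ∃ r : Fin 3 → k, Function.Injective r ∧
      ∀ i, c3 * (r i) ^ 3 + c2 * (r i) ^ 2 + c1 * (r i) + c0 = 0 := by
  classical
  set Q : k[X] := C c3 * X ^ 3 + C c2 * X ^ 2 + C c1 * X + C c0 with hQ
  have hdeg : Q.natDegree = 3 := natDegree_cubic h3
  have hQ0 : Q ≠ 0 := by
    intro h0
    rw [h0] at hdeg
    simp at hdeg
  have hcard : Q.roots.card = 3 := by
    rw [← hdeg]
    exact splits_iff_card_roots.mp (IsAlgClosed.splits Q)
  have heval : ∀ r, Q.eval r = c3 * r ^ 3 + c2 * r ^ 2 + c1 * r + c0 := by
    intro r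
    simp [hQ]
  have hderiv : ∀ r, Q.derivative.eval r = 3 * c3 * r ^ 2 + 2 * c2 * r + c1 := by
    intro r
    simp [hQ]
    ring
  have hnodup : Q.roots.Nodup := by
    rw [Multiset.nodup_iff_count_le_one]
    intro r
    rw [count_roots]
    by_contra hlt
    push Not at hlt
    obtain ⟨hr1, hr2⟩ := (one_lt_rootMultiplicity_iff_isRoot hQ0).mp hlt
    rw [IsRoot, heval] at hr1
    rw [IsRoot, hderiv] at hr2
    exact hsep r hr1 hr2
  have hcard2 : Q.roots.toFinset.card = 3 := by
    rw [Multiset.toFinset_card_of_nodup hnodup, hcard]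
  obtain ⟨x, y, z, hxy, hxz, hyz, hs⟩ := Finset.card_eq_three.mp hcard2
  have hmem : ∀ r ∈ ({x, y, z} : Finset k), c3 * r ^ 3 + c2 * r ^ 2 + c1 * r + c0 = 0 := by
    intro r hr
    rw [← hs, Multiset.mem_toFinset, mem_roots hQ0, IsRoot, heval] at hr
    exact hr
  refine ⟨![x, y, z], ?_, ?_⟩
  · intro i j hij
    fin_cases i <;> fin_cases j <;> simp_all
  · intro i
    fin_cases i
    · exact hmem x (by simp)
    · exact hmem y (by simp)
    · exact hmem z (by simp)

open MvPolynomial

variable {f : MvPolynomial (Fin 4) k}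

lemma finrank_span_pair {e u : (Fin 4 → k)} (he : e ≠ 0) (hu : u ∉ Submodule.span k {e}) :
    Module.finrank k (Submodule.span k {e, u}) = 2 := by
  have hli : LinearIndependent k ![e, u] := by
    rw [LinearIndependent.pair_iff' he]
    intro a ha
    exact hu (Submodule.mem_span_singleton.mpr ⟨a, ha⟩)
  have hfr : Module.finrank k (Submodule.span k (Set.range ![e, u])) = 2 := by
    rw [finrank_span_eq_card hli]
    simp
  have hrange : Set.range ![e, u] = {e, u} := by
    ext x
    simp only [Matrix.range_cons, Matrix.range_empty, Set.union_empty, Set.mem_union,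
      Set.mem_singleton_iff, Set.mem_insert_iff]
  rwa [hrange] at hfr

lemma Polar.quad_expand₂ (P : Polar f) (a b : k) (x y w : (Fin 4 → k)) :
    P.T (a • x + b • y) (a • x + b • y) w =
      a ^ 2 * P.T x x w + 2 * a * b * P.T x y w + b ^ 2 * P.T y y w := by
  simp only [P.add₁, P.add₂, P.smul₁, P.smul₂]
  rw [P.swap₁₂ y x w]
  ring

/-- **S18408**: the isolated fixed point of a harmonic homology preserving a smooth cubic surface
is an Eckardt point. -/
theorem isEck_of_isInv (hf : f.IsHomogeneous 3) (hsm : Smooth f) {p : (Fin 4 → k)} (hp : p ≠ 0)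
    (hfp : eval p f = 0) {A : Matrix (Fin 4) (Fin 4) k} (hA : IsInv f A p) : IsEck f p := by
  obtain ⟨P⟩ := exists_polar hf
  obtain ⟨ψ, hψ, -⟩ := invol_refl P hsm hp hfp hA
  obtain ⟨y₀, hy₀⟩ := P.not_singular hsm hp hfp
  have hℓ : P.lin p p ≠ 0 := fun h => hy₀ (by simpa using LinearMap.congr_fun h y₀)
  have hfr := finrank_ker_dual hℓ
  have hTp : P.T p p p = 0 := by rw [P.diag, hfp]
  -- Step 1: the cubic does not vanish on the tangent plane
  obtain ⟨u, huH, hfu⟩ : ∃ u, P.T p p u = 0 ∧ eval u f ≠ 0 := by
    by_contra hcon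
    push Not at hcon
    obtain ⟨v, hv0, hfv, hv⟩ := P.singular_of_vanish_on_ker (P.lin p p) hℓ (fun x hx => hcon x hx)
    obtain ⟨y, hy⟩ := P.not_singular hsm hv0 hfv
    exact hy (hv y)
  -- invariance under translation by `p` on the tangent plane
  have hinv : ∀ x, P.T p p x = 0 → ∀ t : k, eval (x + t • p) f = eval x f := by
    intro x hx t
    rw [P.cube_add, hψ.2 x, hx, hfp, P.swap₁₃ x p p, hx]
    ring
  have hup : u ∉ Submodule.span k {p} := by
    intro h
    obtain ⟨c, rfl⟩ := Submodule.mem_span_singleton.mp h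
    apply hfu
    rw [P.eval_smul, hfp, mul_zero]
  have hfr2 := finrank_span_pair hp hup
  obtain ⟨w, hwH, hw⟩ : ∃ w, P.T p p w = 0 ∧ w ∉ Submodule.span k {p, u} := by
    by_contra hcon
    push Not at hcon
    have hle : LinearMap.ker (P.lin p p) ≤ Submodule.span k {p, u} :=
      fun x hx => hcon x (LinearMap.mem_ker.mp hx)
    have := Submodule.finrank_mono hle
    omega
  have hspan : ∀ y, P.T p p y = 0 → ∃ α β γ : k, y = α • p + β • u + γ • w := by
    have hle : Submodule.span k {p, u, w} ≤ LinearMap.ker (P.lin p p) := by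
      rw [Submodule.span_le]
      intro x hx
      simp only [Set.mem_insert_iff, Set.mem_singleton_iff] at hx
      rcases hx with rfl | rfl | rfl
      · exact LinearMap.mem_ker.mpr hTp
      · exact LinearMap.mem_ker.mpr huH
      · exact LinearMap.mem_ker.mpr hwH
    have hle2 : Submodule.span k {p, u} ≤ Submodule.span k {p, u, w} := by
      apply Submodule.span_mono
      intro x hx
      simp only [Set.mem_insert_iff, Set.mem_singleton_iff] at hx ⊢
      tauto
    have hfr3 : Module.finrank k (Submodule.span k {p, u, w}) = 3 := by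
      by_contra hne
      have h1 := Submodule.finrank_mono hle
      have h2 := Submodule.finrank_mono hle2
      have h3 : Module.finrank k (Submodule.span k {p, u, w}) = 2 := by omega
      have heq := Submodule.eq_of_le_of_finrank_eq hle2 (by rw [hfr2, h3])
      apply hw
      rw [heq]
      exact Submodule.subset_span (by simp)
    have heq := Submodule.eq_of_le_of_finrank_eq hle (by rw [hfr3, hfr])
    intro y hy
    have hmem : y ∈ Submodule.span k {p, u, w} := by
      rw [heq]
      exact LinearMap.mem_ker.mpr hy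
    rw [Submodule.mem_span_triple] at hmem
    obtain ⟨a, b, c, h⟩ := hmem
    exact ⟨a, b, c, h.symm⟩
  -- the binary cubic
  have hQ : ∀ r : k, eval (w + r • u) f
      = eval u f * r ^ 3 + (3 * P.T w u u) * r ^ 2 + (3 * P.T w w u) * r + eval w f := by
    intro r
    rw [P.cube_add]
    ring
  have hTvvu : ∀ r : k, 3 * P.T (w + r • u) (w + r • u) u
      = 3 * eval u f * r ^ 2 + 2 * (3 * P.T w u u) * r + (3 * P.T w w u) := by
    intro r
    rw [P.sq_add, P.diag]
    ring
  have hvnot : ∀ r : k, w + r • u ∉ Submodule.span k {p} := by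
    intro r h
    obtain ⟨c, hc⟩ := Submodule.mem_span_singleton.mp h
    apply hw
    rw [Submodule.mem_span_pair]
    exact ⟨c, -r, by linear_combination (norm := module) hc⟩
  have hvH : ∀ r : k, P.T p p (w + r • u) = 0 := by
    intro r
    rw [P.add₃, P.smul₃, hwH, huH]
    ring
  -- no multiple root
  have hsep : ∀ r : k, eval u f * r ^ 3 + (3 * P.T w u u) * r ^ 2 + (3 * P.T w w u) * r
      + eval w f = 0 → 3 * eval u f * r ^ 2 + 2 * (3 * P.T w u u) * r + (3 * P.T w w u) ≠ 0 := by
    intro r hr hr'
    rw [← hQ] at hr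
    rw [← hTvvu] at hr'
    have hvvu : P.T (w + r • u) (w + r • u) u = 0 := by
      rcases mul_eq_zero.mp hr' with h | h
      · norm_num at h
      · exact h
    have hvp := hvnot r
    have hvHr := hvH r
    set v := w + r • u with hv
    have hvvp : P.T v v p = 0 := by rw [hψ.2 v, hvHr, zero_mul]
    have hvvv : P.T v v v = 0 := by rw [P.diag]; exact hr
    have hvvw : P.T v v w = 0 := by
      have : w = v - r • u := by rw [hv]; module
      rw [this, P.sub₃, P.smul₃, hvvv, hvvu]
      ring
    have hvvH : ∀ y, P.T p p y = 0 → P.T v v y = 0 := by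
      intro y hy
      obtain ⟨α, β, γ, rfl⟩ := hspan y hy
      rw [P.add₃, P.add₃, P.smul₃, P.smul₃, P.smul₃, hvvp, hvvu, hvvw]
      ring
    obtain ⟨s, t, hz0, hz⟩ := P.exists_root_on_plane v p y₀ hvp hp
    have hzH : ∀ y, P.T p p y = 0 → P.T (s • v + t • p) (s • v + t • p) y = 0 := by
      intro y hy
      have h1 := hψ.polar v y
      rw [hvHr, hy, zero_mul, zero_mul, add_zero] at h1
      rw [P.quad_expand₂, hvvH y hy, hy, P.swap₂₃ v p y]
      linear_combination (s * t) * h1
    have hzall : ∀ y, P.T (s • v + t • p) (s • v + t • p) y = 0 := by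
      intro y
      have hy' : P.T p p (y - (P.T p p y / P.T p p y₀) • y₀) = 0 := by
        rw [P.sub₃, P.smul₃]
        field_simp
        ring
      have h1 := hzH _ hy'
      rw [P.sub₃, P.smul₃, hz] at h1
      linear_combination h1
    have hfz : eval (s • v + t • p) f = 0 := by
      rw [← P.diag]
      exact hzall _
    obtain ⟨y, hy⟩ := P.not_singular hsm hz0 hfz
    exact hy (hzall y)
  obtain ⟨r, hrinj, hr⟩ := exists_three_roots _ _ _ _ hfu hsep
  refine ⟨fun i => Submodule.span k {p, w + r i • u}, ?_, ?_⟩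
  · intro i j hij
    apply hrinj
    have hij' : Submodule.span k {p, w + r i • u} = Submodule.span k {p, w + r j • u} := hij
    have hmem : w + r i • u ∈ Submodule.span k {p, w + r j • u} := by
      rw [← hij']
      exact Submodule.subset_span (by simp)
    rw [Submodule.mem_span_pair] at hmem
    obtain ⟨α, β, h⟩ := hmem
    have hβ : β = 1 := by
      by_contra hβ
      have hβ' : 1 - β ≠ 0 := fun h0 => hβ (by linear_combination -h0)
      apply hw
      rw [Submodule.mem_span_pair]
      refine ⟨(1 - β)⁻¹ * α, (1 - β)⁻¹ * (β * r j - r i), ?_⟩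
      have h2 : (1 - β) • w = α • p + (β * r j - r i) • u := by
        linear_combination (norm := module) -h
      rw [mul_smul, mul_smul, ← smul_add, ← h2, smul_smul, inv_mul_cancel₀ hβ', one_smul]
    subst hβ
    by_contra hne
    have hne' : r j - r i ≠ 0 := fun h0 => hne (by linear_combination -h0)
    apply hup
    rw [Submodule.mem_span_singleton]
    refine ⟨-(r j - r i)⁻¹ * α, ?_⟩
    have h2 : (r j - r i) • u = -α • p := by
      linear_combination (norm := module) h
    have h3 : u = (r j - r i)⁻¹ • ((r j - r i) • u) := by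
      rw [smul_smul, inv_mul_cancel₀ hne', one_smul]
    rw [h3, h2]
    module
  · intro i
    refine ⟨finrank_span_pair hp (hvnot (r i)), Submodule.subset_span (by simp), ?_⟩
    intro x hx
    rw [Submodule.mem_span_pair] at hx
    obtain ⟨a, b, rfl⟩ := hx
    have h1 : P.T p p (b • (w + r i • u)) = 0 := by rw [P.smul₃, hvH, mul_zero]
    rw [add_comm, hinv _ h1, P.eval_smul, hQ, hr i, mul_zero]

end Groth.Agent.Lib.Helper8.CubicK
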