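import Mathlib
import Groth.Agent.Lib.Helper8.CubicK6
set_option backward.isDefEq.respectTransparency.types false
set_option autoImplicit false
set_option linter.unusedSectionVars false

namespace Groth.Agent.Lib.Helper8.CubicK

open MvPolynomial

lemma finite_ncard_le_three {α : Type*} (S : Set α)
    (h : ∀ g : Fin 4 → α, (∀ i, g i ∈ S) → ¬ Function.Injective g) :
    S.Finite ∧ S.ncard ≤ 3 := by
  classical
  have hfin : S.Finite := by
    by_contra hinf
    have e := Set.Infinite.natEmbedding S hinf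
    refine h (fun i => (e i : α)) (fun i => (e i).2) ?_
    intro i j hij
    have := e.injective (Subtype.ext hij)
    exact Fin.ext (by exact_mod_cast this)
  refine ⟨hfin, ?_⟩
  by_contra hgt
  push Not at hgt
  rw [Set.ncard_eq_toFinset_card S hfin] at hgt
  obtain ⟨t, hts, htc⟩ := Finset.exists_subset_card_eq (show 4 ≤ hfin.toFinset.card by omega)
  have e := (Finset.equivFinOfCardEq htc).symm
  refine h (fun i => (e i : α)) (fun i => ?_) ?_
  · have := hts (e i).2
    simpa using this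
  · intro i j hij
    exact e.injective (Subtype.ext hij)

variable {k : Type*} [Field k] [CharZero k] [IsAlgClosed k] {f : MvPolynomial (Fin 4) k}

/-- Four distinct lines through a point on a smooth cubic surface are impossible. -/
theorem no_four_lines (hf : f.IsHomogeneous 3) (hsm : Smooth f) {v : Fin 4 → k} (hv : v ≠ 0)
    (U : Fin 4 → Submodule k (Fin 4 → k)) (hinj : Function.Injective U)
    (hU : ∀ i, Module.finrank k ↥(U i) = 2 ∧ v ∈ U i ∧ ∀ u ∈ U i, eval u f = 0) : False := by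
  obtain ⟨P⟩ := exists_polar hf
  have hE : IsEck f v := by
    refine ⟨fun i => U (Fin.castSucc i), ?_, fun i => hU _⟩
    intro i j hij
    exact Fin.castSucc_injective _ (hinj hij)
  obtain ⟨hfv, φ, hφ⟩ := exists_refl_of_eckardt P hsm hv hE
  have hline : ∀ i, ∀ u ∈ U i, P.T v v u = 0 := by
    intro i u hu
    have := P.T_eq_zero_of_line u v
      (fun t => (hU i).2.2 _ (add_mem hu (Submodule.smul_mem _ _ (hU i).2.1)))
    rw [P.swap₁₃ v v u]
    exact this.2.2.1
  obtain ⟨y, hy⟩ := P.not_singular hsm hv hfv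
  have hℓ : P.lin v v ≠ 0 := fun h => hy (by simpa using LinearMap.congr_fun h y)
  have hfr := finrank_ker_dual hℓ
  have hinvH : ∀ x, P.T v v x = 0 → ∀ t : k, eval (x + t • v) f = eval x f := by
    intro x hx t
    rw [P.cube_add, hφ.2 x, hx, hfv, P.swap₁₃ x v v, hx]
    ring
  obtain ⟨u0, hu0U, hu0, hspan0⟩ := two_dim (U 0) (hU 0).1 v hv (hU 0).2.1
  obtain ⟨u1, hu1U, hu1, hspan1⟩ := two_dim (U 1) (hU 1).1 v hv (hU 1).2.1
  obtain ⟨u2, hu2U, hu2, hspan2⟩ := two_dim (U 2) (hU 2).1 v hv (hU 2).2.1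
  obtain ⟨u3, hu3U, hu3, hspan3⟩ := two_dim (U 3) (hU 3).1 v hv (hU 3).2.1
  have hle : ∀ i, U i ≤ LinearMap.ker (P.lin v v) := fun i u hu => by
    rw [LinearMap.mem_ker]; exact hline i u hu
  have hne : ∀ i j, i ≠ j → ¬ (U i ≤ U j) := by
    intro i j hij hle
    have h01 : U i = U j := Submodule.eq_of_le_of_finrank_eq hle (by rw [(hU i).1, (hU j).1])
    exact hij (hinj h01)
  have hsup : U 0 ⊔ U 1 = LinearMap.ker (P.lin v v) := by
    apply Submodule.eq_of_le_of_finrank_le (sup_le (hle 0) (hle 1))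
    have h1 := Submodule.finrank_sup_add_finrank_inf_eq (U 0) (U 1)
    have h2 : Module.finrank k ↥(U 0 ⊓ U 1) < Module.finrank k ↥(U 0) := by
      apply Submodule.finrank_lt_finrank_of_lt
      refine lt_of_le_of_ne inf_le_left ?_
      intro heq
      have : U 0 ≤ U 1 := by rw [← heq]; exact inf_le_right
      exact hne 0 1 (by decide) this
    rw [(hU 0).1, (hU 1).1] at h1
    rw [(hU 0).1] at h2
    rw [hfr]
    omega
  have hdecomp : ∀ x, P.T v v x = 0 → ∃ γ β β' : k, x = γ • v + β • u0 + β' • u1 := by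
    intro x hx
    have hxk : x ∈ LinearMap.ker (P.lin v v) := by rw [LinearMap.mem_ker]; exact hx
    rw [← hsup, Submodule.mem_sup] at hxk
    obtain ⟨a, ha, b, hb, rfl⟩ := hxk
    obtain ⟨α, β, rfl⟩ := hspan0 a ha
    obtain ⟨α', β', rfl⟩ := hspan1 b hb
    exact ⟨α + α', β, β', by module⟩
  have hfu0 : eval u0 f = 0 := (hU 0).2.2 u0 hu0U
  have hfu1 : eval u1 f = 0 := (hU 1).2.2 u1 hu1U
  have key : ∀ γ β β' : k, eval (γ • v + β • u0 + β' • u1) f
      = 3 * β * β' * (P.T u0 u0 u1 * β + P.T u0 u1 u1 * β') := by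
    intro γ β β'
    have h1 : P.T v v (β • u0 + β' • u1) = 0 := by
      rw [P.add₃, P.smul₃, P.smul₃, hline 0 u0 hu0U, hline 1 u1 hu1U]
      ring
    have h2 : γ • v + β • u0 + β' • u1 = (β • u0 + β' • u1) + γ • v := by module
    rw [h2, hinvH _ h1, P.cube_add, P.eval_smul, hfu0, hfu1, P.smul₁, P.smul₂, P.smul₁]
    ring
  -- the third and fourth lines
  have hthird : ∀ (i : Fin 4) (ui : Fin 4 → k), i ≠ 0 → i ≠ 1 → ui ∈ U i →
      (∀ x ∈ U i, ∃ α β : k, x = α • v + β • ui) →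
      ∃ γ β β' : k, ui = γ • v + β • u0 + β' • u1 ∧ β ≠ 0 ∧ β' ≠ 0 ∧
        P.T u0 u0 u1 * β + P.T u0 u1 u1 * β' = 0 := by
    intro i ui hi0 hi1 huiU hspani
    obtain ⟨γ, β, β', h2⟩ := hdecomp ui (hline i ui huiU)
    have hβ : β ≠ 0 := by
      rintro rfl
      apply hne i 1 hi1
      intro x hx
      obtain ⟨a, b, rfl⟩ := hspani x hx
      rw [h2]
      exact add_mem (Submodule.smul_mem _ _ (hU 1).2.1) (Submodule.smul_mem _ _
        (add_mem (add_mem (Submodule.smul_mem _ _ (hU 1).2.1) (by simp))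
          (Submodule.smul_mem _ _ hu1U)))
    have hβ' : β' ≠ 0 := by
      rintro rfl
      apply hne i 0 hi0
      intro x hx
      obtain ⟨a, b, rfl⟩ := hspani x hx
      rw [h2]
      exact add_mem (Submodule.smul_mem _ _ (hU 0).2.1) (Submodule.smul_mem _ _
        (add_mem (add_mem (Submodule.smul_mem _ _ (hU 0).2.1) (Submodule.smul_mem _ _ hu0U))
          (by simp)))
    refine ⟨γ, β, β', h2, hβ, hβ', ?_⟩
    have h3 := (hU i).2.2 ui huiU
    rw [h2, key] at h3
    have : (3 : k) * β * β' ≠ 0 := by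
      have h30 : (3 : k) ≠ 0 := by norm_num
      simp [hβ, hβ', h30]
    exact (mul_eq_zero.mp h3).resolve_left this
  obtain ⟨γ₂, β₂, β₂', h2eq, hβ₂, hβ₂', hrel2⟩ := hthird 2 u2 (by decide) (by decide) hu2U hspan2
  obtain ⟨γ₃, β₃, β₃', h3eq, hβ₃, hβ₃', hrel3⟩ := hthird 3 u3 (by decide) (by decide) hu3U hspan3
  have hD : β₂ * β₃' - β₃ * β₂' ≠ 0 := by
    intro hD
    apply hne 3 2 (by decide)
    intro x hx
    obtain ⟨a, b, rfl⟩ := hspan3 x hx
    have h4 : u3 = (β₂⁻¹ * (β₂ * γ₃ - β₃ * γ₂)) • v + (β₂⁻¹ * β₃) • u2 := by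
      have h5 : β₂ • u3 = (β₂ * γ₃ - β₃ * γ₂) • v + β₃ • u2 := by
        have hD' : β₂ * β₃' = β₃ * β₂' := by linear_combination hD
        rw [h3eq, h2eq]
        simp only [smul_add, smul_smul]
        rw [hD']
        module
      rw [mul_smul, mul_smul, ← smul_add, ← h5, smul_smul, inv_mul_cancel₀ hβ₂, one_smul]
    rw [h4]
    exact add_mem (Submodule.smul_mem _ _ (hU 2).2.1) (Submodule.smul_mem _ _
      (add_mem (Submodule.smul_mem _ _ (hU 2).2.1) (Submodule.smul_mem _ _ hu2U)))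
  have hA : P.T u0 u0 u1 = 0 := by
    have : P.T u0 u0 u1 * (β₂ * β₃' - β₃ * β₂') = 0 := by
      linear_combination β₃' * hrel2 - β₂' * hrel3
    exact (mul_eq_zero.mp this).resolve_right hD
  have hB : P.T u0 u1 u1 = 0 := by
    have : P.T u0 u1 u1 * (β₂ * β₃' - β₃ * β₂') = 0 := by
      linear_combination β₂ * hrel3 - β₃ * hrel2
    exact (mul_eq_zero.mp this).resolve_right hD
  have hvan : ∀ x, P.lin v v x = 0 → eval x f = 0 := by
    intro x hx
    obtain ⟨γ, β, β', rfl⟩ := hdecomp x hx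
    rw [key, hA, hB]
    ring
  obtain ⟨z, hz0, hfz, hz⟩ := P.singular_of_vanish_on_ker (P.lin v v) hℓ hvan
  obtain ⟨y', hy'⟩ := P.not_singular hsm hz0 hfz
  exact hy' (hz y')

/-- **S10897**. -/
theorem lines_through_point (hf : f.IsHomogeneous 3) (hsm : Smooth f) (v : Fin 4 → k) (hv : v ≠ 0)
    (hfv : eval v f = 0) :
    {U : Submodule k (Fin 4 → k) | v ∈ U ∧ (Module.finrank k ↥U = 2 ∧ ∀ u ∈ U, eval u f = 0)}.Finite ∧
      {U : Submodule k (Fin 4 → k) | v ∈ U ∧ (Module.finrank k ↥U = 2 ∧ ∀ u ∈ U, eval u f = 0)}.ncard ≤ 3 ∧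
      ∃ H : Submodule k (Fin 4 → k), Module.finrank k ↥H = 3 ∧
        ∀ U : Submodule k (Fin 4 → k), v ∈ U → (Module.finrank k ↥U = 2 ∧ ∀ u ∈ U, eval u f = 0) → U ≤ H := by
  obtain ⟨P⟩ := exists_polar hf
  have h1 := finite_ncard_le_three
    {U : Submodule k (Fin 4 → k) | v ∈ U ∧ (Module.finrank k ↥U = 2 ∧ ∀ u ∈ U, eval u f = 0)}
    (fun g hg hinj => no_four_lines hf hsm hv g hinj (fun i => ⟨(hg i).2.1, (hg i).1, (hg i).2.2⟩))
  refine ⟨h1.1, h1.2, LinearMap.ker (P.lin v v), ?_, ?_⟩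
  · obtain ⟨y, hy⟩ := P.not_singular hsm hv hfv
    have hℓ : P.lin v v ≠ 0 := fun h => hy (by simpa using LinearMap.congr_fun h y)
    exact finrank_ker_dual hℓ
  · intro U hvU hU u hu
    have := P.T_eq_zero_of_line u v
      (fun t => hU.2 _ (add_mem hu (Submodule.smul_mem _ _ hvU)))
    rw [LinearMap.mem_ker, Polar.lin_apply, P.swap₁₃ v v u]
    exact this.2.2.1

end Groth.Agent.Lib.Helper8.CubicK
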