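import Mathlib

set_option autoImplicit false
set_option backward.isDefEq.respectTransparency.types false
set_option linter.unusedSectionVars false

namespace Groth.Agent.Lib.Helper8.CycH1

open groupCohomology CategoryTheory

universe u

variable {k G : Type u} [CommRing k] [Group G] (A : Rep.{u} k G) (g : G)

/-- partial norms `F i z = Σ_{l<i} ρ(g^l) z` -/
noncomputable def F (i : ℕ) : A.V →ₗ[k] A.V := ∑ l ∈ Finset.range i, A.ρ (g ^ l)

theorem F_apply (i : ℕ) (z : A.V) : F A g i z = ∑ l ∈ Finset.range i, A.ρ (g ^ l) z := by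
  simp [F, LinearMap.sum_apply]

theorem F_zero (z : A.V) : F A g 0 z = 0 := by simp [F_apply]

theorem F_succ (i : ℕ) (z : A.V) : F A g (i + 1) z = F A g i z + A.ρ (g ^ i) z := by
  rw [F_apply, F_apply, Finset.sum_range_succ]

theorem F_one (z : A.V) : F A g 1 z = z := by
  rw [F_succ, F_zero, zero_add, pow_zero, map_one]; rfl

theorem F_add (i j : ℕ) (z : A.V) : F A g (i + j) z = F A g i z + A.ρ (g ^ i) (F A g j z) := by
  rw [F_apply, F_apply, F_apply, Finset.sum_range_add, map_sum]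
  congr 1
  apply Finset.sum_congr rfl
  intro l _
  rw [pow_add, map_mul]; rfl

variable {d : ℕ} (hd : orderOf g = d) (hd0 : 0 < d)
include hd hd0

theorem F_mul (z : A.V) (hz : F A g d z = 0) (q : ℕ) : F A g (d * q) z = 0 := by
  induction q with
  | zero => simp [F_zero]
  | succ q ih =>
    have hg : g ^ (d * q) = 1 := by rw [pow_mul, ← hd, pow_orderOf_eq_one, one_pow]
    rw [mul_add, mul_one, F_add, ih, hz, map_zero, add_zero]

theorem F_mod (z : A.V) (hz : F A g d z = 0) (i : ℕ) : F A g i z = F A g (i % d) z := by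
  have hg : g ^ (d * (i / d)) = 1 := by rw [pow_mul, ← hd, pow_orderOf_eq_one, one_pow]
  conv_lhs => rw [← Nat.div_add_mod i d]
  rw [F_add, F_mul A g hd hd0 z hz, hg, map_one, zero_add]; rfl

theorem F_eq_of_pow_eq (z : A.V) (hz : F A g d z = 0) {i j : ℕ} (h : g ^ i = g ^ j) :
    F A g i z = F A g j z := by
  have h1 : i ≡ j [MOD d] := by rw [← hd]; exact pow_eq_pow_iff_modEq.mp h
  rw [F_mod A g hd hd0 z hz i, F_mod A g hd hd0 z hz j, h1]

variable (hg : ∀ x : G, x ∈ Subgroup.zpowers g)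
include hg

theorem exists_pow (x : G) : ∃ i : ℕ, g ^ i = x := by
  obtain ⟨z, hz⟩ := Subgroup.mem_zpowers_iff.mp (hg x)
  refine ⟨(z % (d : ℤ)).toNat, ?_⟩
  have h1 : (0 : ℤ) ≤ z % (d : ℤ) := Int.emod_nonneg _ (by exact_mod_cast hd0.ne')
  rw [← zpow_natCast, Int.toNat_of_nonneg h1, ← hd, zpow_mod_orderOf, hz]

/-- the exponent of `x` -/
noncomputable def idx (x : G) : ℕ := Classical.choose (exists_pow g hd hd0 hg x)

theorem pow_idx (x : G) : g ^ idx g hd hd0 hg x = x :=
  Classical.choose_spec (exists_pow g hd hd0 hg x)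

/-- The cocycle attached to an element of the kernel of the norm. -/
noncomputable def cocL : LinearMap.ker (F A g d) →ₗ[k] cocycles₁ A where
  toFun z := ⟨fun x => F A g (idx g hd hd0 hg x) z.1, by
    rw [mem_cocycles₁_iff]
    intro x y
    have hz : F A g d z.1 = 0 := LinearMap.mem_ker.mp z.2
    have h1 : g ^ idx g hd hd0 hg (x * y) = g ^ (idx g hd hd0 hg x + idx g hd hd0 hg y) := by
      rw [pow_add, pow_idx, pow_idx, pow_idx]
    rw [F_eq_of_pow_eq A g hd hd0 z.1 hz h1, F_add, pow_idx, add_comm]⟩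
  map_add' z w := by
    apply cocycles₁_ext
    intro x
    change F A g _ (z.1 + w.1) = F A g _ z.1 + F A g _ w.1
    rw [map_add]
  map_smul' c z := by
    apply cocycles₁_ext
    intro x
    change F A g _ (c • z.1) = c • F A g _ z.1
    rw [map_smul]

theorem cocL_apply (z : LinearMap.ker (F A g d)) (x : G) :
    cocL A g hd hd0 hg z x = F A g (idx g hd hd0 hg x) z.1 := rfl

theorem cocL_gen (z : LinearMap.ker (F A g d)) : cocL A g hd hd0 hg z g = z.1 := by
  rw [cocL_apply]
  have hz : F A g d z.1 = 0 := LinearMap.mem_ker.mp z.2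
  have h1 : g ^ idx g hd hd0 hg g = g ^ 1 := by rw [pow_idx, pow_one]
  rw [F_eq_of_pow_eq A g hd hd0 z.1 hz h1, F_one]

omit hd hd0 hg in
theorem coc_pow (f : cocycles₁ A) (i : ℕ) : f (g ^ i) = F A g i (f g) := by
  induction i with
  | zero => rw [pow_zero, cocycles₁_map_one, F_zero]
  | succ i ih =>
    rw [pow_succ, (mem_cocycles₁_iff f).1 f.2 (g ^ i) g, ih, F_succ, add_comm]

omit hg in
theorem coc_gen_mem (f : cocycles₁ A) : f g ∈ LinearMap.ker (F A g d) := by
  rw [LinearMap.mem_ker, ← coc_pow, ← hd, pow_orderOf_eq_one, cocycles₁_map_one]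

theorem coc_eq (f : cocycles₁ A) : f = cocL A g hd hd0 hg ⟨f g, coc_gen_mem A g hd hd0 f⟩ := by
  apply cocycles₁_ext
  intro x
  rw [cocL_apply]
  conv_lhs => rw [← pow_idx g hd hd0 hg x]
  rw [coc_pow]

/-- the class map -/
noncomputable def Theta : LinearMap.ker (F A g d) →ₗ[k] H1 A :=
  (H1π A).hom ∘ₗ cocL A g hd hd0 hg

theorem Theta_apply (z : LinearMap.ker (F A g d)) :
    Theta A g hd hd0 hg z = H1π A (cocL A g hd hd0 hg z) := rfl

theorem Theta_surjective : Function.Surjective (Theta A g hd hd0 hg) := by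
  intro x
  induction x using H1_induction_on with
  | h f =>
    refine ⟨⟨f g, coc_gen_mem A g hd hd0 f⟩, ?_⟩
    rw [Theta_apply, ← coc_eq]

theorem Theta_eq_zero_iff (z : LinearMap.ker (F A g d)) :
    Theta A g hd hd0 hg z = 0 ↔ ∃ b : A.V, A.ρ g b - b = z.1 := by
  rw [Theta_apply, H1π_eq_zero_iff]
  constructor
  · rintro ⟨b, hb⟩
    refine ⟨b, ?_⟩
    have := congrFun hb g
    rw [d₀₁_hom_apply] at this
    rw [this]
    exact cocL_gen A g hd hd0 hg z
  · rintro ⟨b, hb⟩
    refine ⟨b, ?_⟩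
    set f : cocycles₁ A := ⟨(d₀₁ A).hom b, d₀₁_apply_mem_cocycles₁ b⟩ with hf
    have h1 := coc_eq A g hd hd0 hg f
    have h2 : f g = z.1 := by
      change (d₀₁ A).hom b g = z.1
      rw [d₀₁_hom_apply, hb]
    have h3 : (⟨f g, coc_gen_mem A g hd hd0 f⟩ : LinearMap.ker (F A g d)) = z :=
      Subtype.ext h2
    rw [h3] at h1
    rw [← h1]
    rfl

end Groth.Agent.Lib.Helper8.CycH1
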