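import Mathlib

set_option autoImplicit false
set_option linter.unusedSectionVars false
set_option linter.unusedVariables false
set_option linter.style.haveILetI false

/-!
# Index of the twisted diagonal hypersurface: elementary parts
-/

universe u

namespace Groth.Agent.Lib.Helper8.DI

open Polynomial

/-- `I(d, N)` -/
def Idx (d N : ℕ) : ℕ := ((Finset.Icc 1 N).filter (fun δ => δ ∣ d)).gcd (fun δ => d / δ)

lemma Idx_dvd_of_dvd_mul {d N k E : ℕ} (hd : 1 ≤ d) (hk : 1 ≤ k) (hkN : k ≤ N)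
    (h : d ∣ E * k) : Idx d N ∣ E := by
  have hδpos : 0 < Nat.gcd d k := Nat.gcd_pos_of_pos_left k hd
  have hδk : Nat.gcd d k ≤ k := Nat.le_of_dvd hk (Nat.gcd_dvd_right d k)
  have hδd : Nat.gcd d k ∣ d := Nat.gcd_dvd_left d k
  have h1 : Idx d N ∣ d / Nat.gcd d k := by
    unfold Idx
    exact Finset.gcd_dvd (f := fun δ => d / δ) (by
      rw [Finset.mem_filter, Finset.mem_Icc]
      exact ⟨⟨hδpos, hδk.trans hkN⟩, hδd⟩)
  refine h1.trans ?_
  have hcop : Nat.Coprime (d / Nat.gcd d k) (k / Nat.gcd d k) := Nat.coprime_div_gcd_div_gcd hδpos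
  have hδk' : Nat.gcd d k ∣ k := Nat.gcd_dvd_right d k
  obtain ⟨g, hg⟩ : ∃ g, g = Nat.gcd d k := ⟨_, rfl⟩
  rw [← hg] at hδpos hδd hcop hδk' ⊢
  obtain ⟨d', hd'⟩ := hδd
  obtain ⟨k', hk'⟩ := hδk'
  have e1 : d / g = d' := by
    rw [hd']
    exact Nat.mul_div_cancel_left _ hδpos
  have e2 : k / g = k' := by
    rw [hk']
    exact Nat.mul_div_cancel_left _ hδpos
  rw [e1, e2] at hcop
  rw [e1]
  have h2 : g * d' ∣ g * (E * k') := by
    rw [← hd']
    have : g * (E * k') = E * k := by
      rw [hk']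
      ring
    rw [this]
    exact h
  have h3 : d' ∣ E * k' := Nat.dvd_of_mul_dvd_mul_left hδpos h2
  exact hcop.dvd_of_dvd_mul_right h3

lemma natCast_gcd_mem (H : AddSubgroup ℤ) {ι : Type*} (s : Finset ι) (f : ι → ℕ)
    (h : ∀ a ∈ s, (f a : ℤ) ∈ H) : ((s.gcd f : ℕ) : ℤ) ∈ H := by
  classical
  induction s using Finset.induction_on with
  | empty => simp
  | insert a s ha ih =>
    rw [Finset.gcd_insert]
    have h1 : (f a : ℤ) ∈ H := h a (Finset.mem_insert_self a s)
    have h2 : ((s.gcd f : ℕ) : ℤ) ∈ H := ih (fun b hb => h b (Finset.mem_insert_of_mem hb))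
    change ((Nat.gcd (f a) (s.gcd f) : ℕ) : ℤ) ∈ H
    rw [Nat.gcd_eq_gcd_ab]
    refine H.add_mem ?_ ?_
    · rw [mul_comm, ← smul_eq_mul]
      exact H.zsmul_mem h1 _
    · rw [mul_comm, ← smul_eq_mul]
      exact H.zsmul_mem h2 _

section construct

variable (R : Type u) [CommRing R] [IsDomain R] [IsDiscreteValuationRing R]
  (K : Type u) [Field K] [Algebra R K] [IsFractionRing R K]

theorem irreducible_X_pow_sub (ϖ : R) (hϖ : Irreducible ϖ) (m : ℕ) (hm : 1 ≤ m) :
    Irreducible (X ^ m - C (algebraMap R K ϖ) : K[X]) := by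
  have hmonic : (X ^ m - C ϖ : R[X]).Monic := monic_X_pow_sub_C ϖ (by omega)
  have hdeg : (X ^ m - C ϖ : R[X]).natDegree = m := natDegree_X_pow_sub_C
  have hprime : (Ideal.span {ϖ} : Ideal R).IsPrime :=
    (Ideal.span_singleton_prime hϖ.ne_zero).mpr hϖ.prime
  have hE : (X ^ m - C ϖ : R[X]).IsEisensteinAt (Ideal.span {ϖ}) := by
    refine ⟨?_, ?_, ?_⟩
    · rw [hmonic.leadingCoeff]
      intro h1
      exact hprime.ne_top ((Ideal.eq_top_iff_one _).mpr h1)
    · intro n hn
      rw [hdeg] at hn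
      rw [coeff_sub, coeff_X_pow, if_neg (by omega), coeff_C, zero_sub]
      split_ifs
      · exact (Ideal.neg_mem_iff _).mpr (Ideal.mem_span_singleton_self ϖ)
      · simp
    · rw [coeff_sub, coeff_X_pow, if_neg (by omega), coeff_C_zero, zero_sub, Ideal.neg_mem_iff,
        Ideal.span_singleton_pow, Ideal.mem_span_singleton]
      intro h2
      obtain ⟨c, hc⟩ := h2
      have : ϖ * 1 = ϖ * (ϖ * c) := by rw [mul_one, ← mul_assoc, ← pow_two]; exact hc
      have h3 := mul_left_cancel₀ hϖ.ne_zero this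
      exact hϖ.not_isUnit (IsUnit.of_mul_eq_one c h3.symm)
  have hirr : Irreducible (X ^ m - C ϖ : R[X]) :=
    hE.irreducible hprime hmonic.isPrimitive (by rw [hdeg]; omega)
  have := (hmonic.irreducible_iff_irreducible_map_fraction_map (K := K)).mp hirr
  simpa using this

theorem degree_mem (ϖ : R) (hϖ : Irreducible ϖ) (d N : ℕ) (hd : 1 ≤ d) (δ : ℕ) (hδ1 : 1 ≤ δ)
    (hδN : δ ≤ N) (hδd : δ ∣ d) :
    ((d / δ : ℕ) : ℤ) ∈ {m : ℤ | ∃ (L : Type u) (_ : Field L) (_ : Algebra K L),
        FiniteDimensional K L ∧ m = (Module.finrank K L : ℤ) ∧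
        ∃ x : Fin (N + 1) → L, x ≠ 0 ∧
          x 0 ^ d = ∑ i : Fin N, algebraMap K L (algebraMap R K (ϖ ^ ((i : ℕ) + 1))) *
            x i.succ ^ d} := by
  classical
  obtain ⟨m, hm⟩ := hδd
  have hmpos : 1 ≤ m := by
    rcases Nat.eq_zero_or_pos m with h0 | h0
    · rw [h0, mul_zero] at hm; omega
    · exact h0
  have hdm : d / δ = m := by rw [hm]; exact Nat.mul_div_cancel_left _ (by omega)
  rw [hdm]
  let f : K[X] := X ^ m - C (algebraMap R K ϖ)
  have hf : Irreducible f := irreducible_X_pow_sub R K ϖ hϖ m hmpos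
  haveI : Fact (Irreducible f) := ⟨hf⟩
  have hf0 : f ≠ 0 := hf.ne_zero
  have hfdeg : f.natDegree = m := natDegree_X_pow_sub_C
  let pb := AdjoinRoot.powerBasis hf0
  refine ⟨AdjoinRoot f, inferInstance, inferInstance, pb.finite, ?_, ?_⟩
  · rw [pb.finrank, AdjoinRoot.powerBasis_dim, hfdeg]
  · let t : AdjoinRoot f := AdjoinRoot.root f
    have ht : t ^ m = algebraMap K (AdjoinRoot f) (algebraMap R K ϖ) := by
      have h1 : aeval t f = 0 := by
        rw [AdjoinRoot.aeval_eq, AdjoinRoot.mk_self]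
      simp only [f, map_sub, map_pow, aeval_X, aeval_C] at h1
      exact sub_eq_zero.mp h1
    refine ⟨fun i => if i = 0 then t else if (i : ℕ) = δ then 1 else 0, ?_, ?_⟩
    · intro h0
      have := congrFun h0 ⟨δ, by omega⟩
      have hne : (⟨δ, by omega⟩ : Fin (N + 1)) ≠ 0 := by
        intro h
        have := congrArg Fin.val h
        simp at this
        omega
      simp only [hne, if_false, if_true, Pi.zero_apply] at this
      exact one_ne_zero this
    · simp only [if_true]
      have hidx : δ - 1 < N := by omega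
      rw [Finset.sum_eq_single (⟨δ - 1, hidx⟩ : Fin N)]
      · have h1 : ((⟨δ - 1, hidx⟩ : Fin N).succ : Fin (N + 1)) ≠ 0 := Fin.succ_ne_zero _
        have h2 : (((⟨δ - 1, hidx⟩ : Fin N).succ : Fin (N + 1)) : ℕ) = δ := by
          simp; omega
        rw [if_neg h1, if_pos h2, one_pow, mul_one]
        have h3 : δ - 1 + 1 = δ := by omega
        simp only [h3]
        rw [map_pow, map_pow, ← ht, ← pow_mul, hm, mul_comm]
      · intro i _ hi
        have h1 : (i.succ : Fin (N + 1)) ≠ 0 := Fin.succ_ne_zero _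
        have h2 : ((i.succ : Fin (N + 1)) : ℕ) ≠ δ := by
          intro h
          apply hi
          apply Fin.ext
          simp at h
          simp
          omega
        rw [if_neg h1, if_neg h2, zero_pow (by omega), mul_zero]
      · intro h
        exact absurd (Finset.mem_univ _) h

end construct

end Groth.Agent.Lib.Helper8.DI
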