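import Mathlib
import Groth.Agent.Lib.Helper8.DI1

set_option autoImplicit false
set_option linter.unusedSectionVars false
set_option linter.unusedVariables false
set_option linter.style.haveILetI false
set_option linter.deprecated false

/-!
# Index of the twisted diagonal hypersurface: the valuation argument (separable case)
-/

universe u

namespace Groth.Agent.Lib.Helper8.DI

open IsDedekindDomain HeightOneSpectrum WithZero

section

variable (R : Type u) [CommRing R] [IsDomain R] [IsDiscreteValuationRing R]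
  (K : Type u) [Field K] [Algebra R K] [IsFractionRing R K]
  (E : Type u) [Field E] [Algebra K E] [Algebra R E] [IsScalarTower R K E]
  [FiniteDimensional K E] [Algebra.IsSeparable K E]

theorem Idx_dvd_mul_finrank (ϖ : R) (hϖ : Irreducible ϖ) (d N Q : ℕ) (hd : 1 ≤ d)
    (y : Fin (N + 1) → E) (hy : y ≠ 0)
    (heq : y 0 ^ d = ∑ i : Fin N, algebraMap R E (ϖ ^ (((i : ℕ) + 1) * Q)) * y i.succ ^ d) :
    Idx d N ∣ Q * Module.finrank K E := by
  classical
  haveI : FaithfulSMul R K := (faithfulSMul_iff_algebraMap_injective R K).mpr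
    (IsFractionRing.injective R K)
  haveI : Module.IsTorsionFree R E := Module.IsTorsionFree.trans_faithfulSMul R K E
  let S := integralClosure R E
  haveI : Module.IsTorsionFree R S := Subalgebra.instIsTorsionFree _
  haveI : IsDedekindDomain S := integralClosure.isDedekindDomain R K E
  haveI : Module.Finite R S := IsIntegralClosure.finite R K E S
  haveI : IsFractionRing S E := integralClosure.isFractionRing_of_finite_extension K E
  let p : Ideal R := IsLocalRing.maximalIdeal R
  have hp0 : p ≠ ⊥ := IsDiscreteValuationRing.not_a_field R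
  have hpϖ : p = Ideal.span {ϖ} := hϖ.maximalIdeal_eq
  have hsum := Ideal.sum_ramification_inertia (R := R) S K E (p := p) hp0
  rw [← hsum, Finset.mul_sum]
  refine Finset.dvd_sum fun P hP => ?_
  rw [← mul_assoc]
  refine Dvd.dvd.mul_right ?_ _
  -- the prime `P`
  have hP' := (IsDedekindDomain.mem_primesOverFinset_iff hp0 S).mp hP
  haveI hPprime : P.IsPrime := hP'.1
  haveI hPlies : P.LiesOver p := hP'.2
  have hPbot : P ≠ ⊥ := Ideal.ne_bot_of_liesOver_of_ne_bot hp0 P
  let w : HeightOneSpectrum S := ⟨P, hPprime, hPbot⟩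
  let v : HeightOneSpectrum R := ⟨p, inferInstance, hp0⟩
  haveI : w.asIdeal.LiesOver v.asIdeal := hPlies
  set e := Ideal.ramificationIdx' p P with he
  have hv : v.valuation K (algebraMap R K ϖ) = exp (-1 : ℤ) := by
    rw [valuation_of_algebraMap]
    exact intValuation_singleton v hϖ.ne_zero hpϖ
  have hw : w.valuation E (algebraMap R E ϖ) = exp (-(e : ℤ)) := by
    have h1 := valuation_liesOver E v w (algebraMap R K ϖ)
    rw [← IsScalarTower.algebraMap_apply, hv] at h1
    have h1' : exp (-1 : ℤ) ^ e = w.valuation E (algebraMap R E ϖ) := h1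
    rw [← h1', ← exp_nsmul]
    simp
  let W := w.valuation E
  have hinj : Function.Injective (algebraMap R E) := by
    rw [IsScalarTower.algebraMap_eq R K E]
    exact (algebraMap K E).injective.comp (IsFractionRing.injective R K)
  -- the terms
  let c : Fin (N + 1) → E := fun i => algebraMap R E (ϖ ^ ((i : ℕ) * Q))
  let s : Fin (N + 1) → E := fun i => if i = 0 then -(y 0 ^ d) else c i * y i ^ d
  have hc : ∀ i, W (c i) = exp (-(e : ℤ)) ^ ((i : ℕ) * Q) := by
    intro i
    show W (algebraMap R E (ϖ ^ ((i : ℕ) * Q))) = _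
    rw [map_pow, map_pow, hw]
  have hs : ∀ i, W (s i) = exp (-(e : ℤ)) ^ ((i : ℕ) * Q) * W (y i) ^ d := by
    intro i
    by_cases hi : i = 0
    · subst hi
      simp [s]
    · simp only [s, if_neg hi, map_mul, map_pow]
      rw [← hc i]
  have hsum0 : ∑ i, s i = 0 := by
    rw [Fin.sum_univ_succ]
    have h1 : ∀ i : Fin N, s i.succ = algebraMap R E (ϖ ^ (((i : ℕ) + 1) * Q)) * y i.succ ^ d := by
      intro i
      simp only [s, if_neg (Fin.succ_ne_zero i), c, Fin.val_succ]
    rw [Finset.sum_congr rfl (fun i _ => h1 i), ← heq]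
    simp [s]
  -- some term is non-zero
  obtain ⟨i₁, hi₁⟩ : ∃ i, y i ≠ 0 := by
    by_contra h
    push Not at h
    exact hy (funext h)
  have hexp_ne : ∀ n : ℕ, exp (-(e : ℤ)) ^ n ≠ 0 := fun n => pow_ne_zero _ exp_ne_zero
  have ha₁ : W (s i₁) ≠ 0 := by
    rw [hs]
    exact mul_ne_zero (hexp_ne _) (pow_ne_zero _ ((Valuation.ne_zero_iff _).mpr hi₁))
  obtain ⟨i₀, -, hi₀⟩ := Finset.exists_max_image Finset.univ (fun i => W (s i))
    ⟨i₁, Finset.mem_univ _⟩
  have ha₀ : W (s i₀) ≠ 0 := by
    intro h0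
    have := hi₀ i₁ (Finset.mem_univ _)
    rw [h0] at this
    exact ha₁ (le_antisymm this zero_le')
  obtain ⟨j, hj, hja⟩ : ∃ j, j ≠ i₀ ∧ W (s j) = W (s i₀) := by
    by_contra hcon
    push Not at hcon
    have hlt : ∀ j ∈ Finset.univ.erase i₀, W (s j) < W (s i₀) := by
      intro j hj
      have hj' : j ≠ i₀ := (Finset.mem_erase.mp hj).1
      exact lt_of_le_of_ne (hi₀ j (Finset.mem_univ _)) (hcon j hj')
    have h1 := Valuation.map_sum_lt W ha₀ hlt
    have h2 : s i₀ = -∑ j ∈ Finset.univ.erase i₀, s j := by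
      have := Finset.add_sum_erase Finset.univ s (Finset.mem_univ i₀)
      rw [hsum0] at this
      exact eq_neg_of_add_eq_zero_left this
    rw [h2, Valuation.map_neg] at h1
    exact lt_irrefl _ h1
  -- extract the integer equation
  have hyj : W (y j) ≠ 0 := by
    intro h0
    apply ha₀
    rw [← hja, hs, h0, zero_pow (by omega), mul_zero]
  have hyi : W (y i₀) ≠ 0 := by
    intro h0
    apply ha₀
    rw [hs, h0, zero_pow (by omega), mul_zero]
  have hkey : (((j : ℕ) * Q : ℕ) : ℤ) * (-(e : ℤ)) + (d : ℤ) * log (W (y j)) =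
      (((i₀ : ℕ) * Q : ℕ) : ℤ) * (-(e : ℤ)) + (d : ℤ) * log (W (y i₀)) := by
    have h1 := hja
    rw [hs, hs, ← exp_log hyj, ← exp_log hyi, ← exp_nsmul, ← exp_nsmul, ← exp_nsmul, ← exp_nsmul,
      ← exp_add, ← exp_add, exp_inj] at h1
    simpa [nsmul_eq_mul] using h1
  have hdvd : (d : ℤ) ∣ ((i₀ : ℕ) - (j : ℕ) : ℤ) * ((Q * e : ℕ) : ℤ) := by
    refine ⟨log (W (y i₀)) - log (W (y j)), ?_⟩
    push_cast at hkey ⊢
    linear_combination hkey
  have hdvd' : d ∣ (Q * e) * (((i₀ : ℕ) : ℤ) - ((j : ℕ) : ℤ)).natAbs := by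
    have := Int.natCast_dvd.mp hdvd
    rwa [Int.natAbs_mul, Int.natAbs_natCast, mul_comm] at this
  have hne : (i₀ : ℕ) ≠ (j : ℕ) := fun h => hj (Fin.ext h.symm)
  have hi₀N : (i₀ : ℕ) < N + 1 := i₀.2
  have hjN : (j : ℕ) < N + 1 := j.2
  exact Idx_dvd_of_dvd_mul hd (by omega) (by omega) hdvd'

end

end Groth.Agent.Lib.Helper8.DI
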