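import Mathlib
import Groth.Agent.Lib.Helper8.DI2

set_option autoImplicit false
set_option linter.unusedSectionVars false
set_option linter.unusedVariables false
set_option linter.style.haveILetI false
set_option linter.deprecated false

/-!
# Index of the twisted diagonal hypersurface: reduction to the separable case and assembly
-/

universe u

namespace Groth.Agent.Lib.Helper8.DI

open IntermediateField

lemma pow_finrank_mem_range (F' E' : Type*) [Field F'] [Field E'] [Algebra F' E']
    [IsPurelyInseparable F' E'] [FiniteDimensional F' E'] (x : E') :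
    x ^ Module.finrank F' E' ∈ (algebraMap F' E').range := by
  haveI : ExpChar F' (ringExpChar F') := ringExpChar.expChar F'
  obtain ⟨n, y, hmin⟩ := IsPurelyInseparable.minpoly_eq_X_pow_sub_C F' (ringExpChar F') x
  have hx : x ^ (ringExpChar F') ^ n = algebraMap F' E' y := by
    have h1 := minpoly.aeval F' x
    rw [hmin] at h1
    simp only [map_sub, map_pow, Polynomial.aeval_X, Polynomial.aeval_C] at h1
    exact sub_eq_zero.mp h1
  have hint : IsIntegral F' x := Algebra.IsIntegral.isIntegral x
  have hdeg : Module.finrank F' F'⟮x⟯ = (ringExpChar F') ^ n := by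
    rw [adjoin.finrank hint, hmin, Polynomial.natDegree_sub_C, Polynomial.natDegree_X_pow]
  have hmul := Module.finrank_mul_finrank F' F'⟮x⟯ E'
  rw [hdeg] at hmul
  rw [← hmul, pow_mul, hx, ← map_pow]
  exact ⟨_, rfl⟩

section

variable (R : Type u) [CommRing R] [IsDomain R] [IsDiscreteValuationRing R]
  (K : Type u) [Field K] [Algebra R K] [IsFractionRing R K]

theorem Idx_dvd_finrank (L : Type u) [Field L] [Algebra K L] [FiniteDimensional K L]
    (ϖ : R) (hϖ : Irreducible ϖ) (d N : ℕ) (hd : 1 ≤ d) (x : Fin (N + 1) → L) (hx : x ≠ 0)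
    (heq : x 0 ^ d = ∑ i : Fin N, algebraMap K L (algebraMap R K (ϖ ^ ((i : ℕ) + 1))) *
      x i.succ ^ d) : Idx d N ∣ Module.finrank K L := by
  classical
  let E : IntermediateField K L := separableClosure K L
  letI : Algebra R E := ((algebraMap K E).comp (algebraMap R K)).toAlgebra
  haveI : IsScalarTower R K E := IsScalarTower.of_algebraMap_eq (fun _ => rfl)
  haveI : IsPurelyInseparable E L := separableClosure.isPurelyInseparable K L
  haveI : Algebra.IsSeparable K E := separableClosure.isSeparable K L
  let q := ringExpChar K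
  haveI : ExpChar K q := ringExpChar.expChar K
  haveI : ExpChar E q := expChar_of_injective_algebraMap (algebraMap K E).injective q
  haveI : ExpChar L q := expChar_of_injective_algebraMap (algebraMap K L).injective q
  obtain ⟨n, hn⟩ := IsPurelyInseparable.finrank_eq_pow (F := E) L q
  choose y hy using fun i => pow_finrank_mem_range E L (x i)
  have hy0 : y ≠ 0 := by
    intro h0
    apply hx
    funext i
    have h1 := hy i
    rw [h0, Pi.zero_apply, map_zero] at h1
    exact pow_eq_zero_iff (Module.finrank_pos.ne') |>.mp h1.symm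
  have hRE : ∀ r : R, algebraMap E L (algebraMap R E r) = algebraMap K L (algebraMap R K r) := by
    intro r
    rfl
  have heqE : y 0 ^ d = ∑ i : Fin N,
      algebraMap R E (ϖ ^ (((i : ℕ) + 1) * Module.finrank E L)) * y i.succ ^ d := by
    apply (algebraMap E L).injective
    rw [map_pow, hy, map_sum, ← pow_mul, mul_comm, pow_mul, heq, hn, sum_pow_char_pow]
    refine Finset.sum_congr rfl fun i _ => ?_
    have hyi : algebraMap E L (y i.succ) = x i.succ ^ q ^ n := by rw [hy, hn]
    have e1 : algebraMap E L (algebraMap R E (ϖ ^ (((i : ℕ) + 1) * q ^ n)) * y i.succ ^ d) =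
        algebraMap K L (algebraMap R K (ϖ ^ (((i : ℕ) + 1) * q ^ n))) * (x i.succ ^ q ^ n) ^ d := by
      rw [map_mul, map_pow (algebraMap E L) (y i.succ) d, hyi, hRE]
    rw [e1, mul_pow, ← map_pow (algebraMap K L), ← map_pow (algebraMap R K), ← pow_mul,
      ← pow_mul, ← pow_mul, mul_comm d (q ^ n)]
  have h := Idx_dvd_mul_finrank R K E ϖ hϖ d N (Module.finrank E L) hd y hy0 heqE
  rwa [mul_comm, Module.finrank_mul_finrank] at h

theorem main (ϖ : R) (hϖ : Irreducible ϖ) (d N : ℕ) (hd : 1 ≤ d) (hN : 1 ≤ N) :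
    AddSubgroup.closure {m : ℤ | ∃ (L : Type u) (_ : Field L) (_ : Algebra K L),
        FiniteDimensional K L ∧ m = (Module.finrank K L : ℤ) ∧
        ∃ x : Fin (N + 1) → L, x ≠ 0 ∧
          x 0 ^ d = ∑ i : Fin N, algebraMap K L (algebraMap R K (ϖ ^ ((i : ℕ) + 1))) *
            x i.succ ^ d} =
      AddSubgroup.zmultiples
        ((((Finset.Icc 1 N).filter (fun δ => δ ∣ d)).gcd (fun δ => d / δ) : ℕ) : ℤ) := by
  refine le_antisymm ?_ ?_
  · refine (AddSubgroup.closure_le _).mpr ?_
    rintro m ⟨L, _, _, hfin, rfl, x, hx, heq⟩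
    rw [SetLike.mem_coe, Int.mem_zmultiples_iff]
    exact Int.natCast_dvd_natCast.mpr (Idx_dvd_finrank R K L ϖ hϖ d N hd x hx heq)
  · refine AddSubgroup.zmultiples_le_of_mem ?_
    refine natCast_gcd_mem _ _ _ fun δ hδ => ?_
    rw [Finset.mem_filter, Finset.mem_Icc] at hδ
    exact AddSubgroup.subset_closure (degree_mem R K ϖ hϖ d N hd δ hδ.1.1 hδ.1.2 hδ.2)

end

end Groth.Agent.Lib.Helper8.DI
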