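import Mathlib
import Groth.Agent.Lib.Helper8.DN1
import Groth.Prelude.Def_W4c6puncthilbintroLift

set_option backward.isDefEq.respectTransparency.types false
set_option autoImplicit false
set_option linter.unusedSectionVars false
set_option linter.style.haveILetI false

attribute [local instance] W4c6puncthilbintro.dualAlgebra

namespace Groth.Agent.Lib.Helper8.DN

open DualNumber TrivSqZeroExt W4c6puncthilbintro

universe u

variable {A : Type u} [CommRing A] {R : Type u} [CommRing R] [Algebra A R]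

lemma smul_mk (J : Ideal (DualNumber R)) (b : DualNumber A) (x : DualNumber R) :
    b • (Ideal.Quotient.mk J x) = Ideal.Quotient.mk J (dualMap A R b * x) := rfl

lemma dualMap_inl' (a : A) : dualMap A R (inl a) = inl (algebraMap A R a) := by
  rw [dualMap_inl]; rfl

lemma eps_mul_eq (x : DualNumber R) : (ε : DualNumber R) * x = inr x.fst := by
  ext <;> simp

/-- Flatness of `R[ε]/J` over `A[ε]` from the three elementary properties of `J`. -/
theorem flat_quot (I : Ideal R) [Module.Flat A (R ⧸ I)] (J : Ideal (DualNumber R))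
    (P1 : ∀ x ∈ J, x.fst ∈ I) (P2 : ∀ a ∈ I, ∃ x ∈ J, x.fst = a)
    (P3 : ∀ b : R, (inr b : DualNumber R) ∈ J → b ∈ I) :
    Module.Flat (DualNumber A) (DualNumber R ⧸ J) := by
  have hle : J ≤ RingHom.ker ((Ideal.Quotient.mk I).comp
      ((fstHom A R R : DualNumber R →ₐ[A] R) : DualNumber R →+* R)) := by
    intro x hx
    rw [RingHom.mem_ker, RingHom.comp_apply]
    exact Ideal.Quotient.eq_zero_iff_mem.mpr (P1 x hx)
  let ρr : DualNumber R ⧸ J →+* R ⧸ I := Ideal.Quotient.lift J _ hle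
  have hρmk : ∀ x : DualNumber R, ρr (Ideal.Quotient.mk J x) = Ideal.Quotient.mk I x.fst := by
    intro x
    rfl
  have key : ∀ x : DualNumber R, x.fst ∈ I →
      ∃ m' : DualNumber R ⧸ J, Ideal.Quotient.mk J x = (ε : DualNumber A) • m' := by
    intro x hx
    obtain ⟨y, hyJ, hy⟩ := P2 x.fst hx
    refine ⟨Ideal.Quotient.mk J (inl (x.snd - y.snd)), ?_⟩
    rw [smul_mk, dualMap_eps, eps_mul_eq, fst_inl]
    rw [Ideal.Quotient.eq]
    have : x - inr (x.snd - y.snd) = y := by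
      ext
      · simp [hy]
      · simp
    rw [this]
    exact hyJ
  have hρ' : ∀ m, ρr.toAddMonoidHom m = ρr m := fun _ => rfl
  refine flat_of_eps (N := R ⧸ I) ρr.toAddMonoidHom ?_ ?_ ?_ ?_
  · intro a m
    obtain ⟨x, rfl⟩ := Ideal.Quotient.mk_surjective m
    rw [smul_mk, dualMap_inl']
    rw [hρ', hρ', hρmk, hρmk, Algebra.smul_def]
    simp
  · intro n
    obtain ⟨r, rfl⟩ := Ideal.Quotient.mk_surjective n
    exact ⟨Ideal.Quotient.mk J (inl r), by rw [hρ', hρmk]; simp⟩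
  · intro m
    obtain ⟨x, rfl⟩ := Ideal.Quotient.mk_surjective m
    rw [hρ', hρmk, Ideal.Quotient.eq_zero_iff_mem]
    constructor
    · exact key x
    · rintro ⟨m', hm'⟩
      obtain ⟨y, rfl⟩ := Ideal.Quotient.mk_surjective m'
      rw [smul_mk, dualMap_eps, eps_mul_eq, Ideal.Quotient.eq] at hm'
      have := P1 _ hm'
      simpa using this
  · intro m hm
    obtain ⟨x, rfl⟩ := Ideal.Quotient.mk_surjective m
    rw [smul_mk, dualMap_eps, eps_mul_eq, Ideal.Quotient.eq_zero_iff_mem] at hm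
    exact key x (P3 _ hm)


lemma mem_liftIdeal (I : Ideal R) (φ : I →ₗ[R] R ⧸ I) (x : DualNumber R) :
    x ∈ liftIdeal I φ ↔ ∃ h : x.fst ∈ I, Ideal.Quotient.mk I x.snd = φ ⟨x.fst, h⟩ := Iff.rfl

lemma map_fst_eq (I : Ideal R) (J : Ideal (DualNumber R))
    (P1 : ∀ x ∈ J, x.fst ∈ I) (P2 : ∀ a ∈ I, ∃ x ∈ J, x.fst = a) :
    Ideal.map (fstHom A R R) J = I := by
  ext a
  rw [Ideal.mem_map_iff_of_surjective (fstHom A R R) (fun r => ⟨inl r, by simp⟩)]
  constructor
  · rintro ⟨x, hx, rfl⟩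
    exact P1 x hx
  · intro ha
    obtain ⟨x, hx, rfl⟩ := P2 a ha
    exact ⟨x, hx, rfl⟩

lemma P_of_map (I : Ideal R) (J : Ideal (DualNumber R))
    (h : Ideal.map (fstHom A R R) J = I) :
    (∀ x ∈ J, x.fst ∈ I) ∧ (∀ a ∈ I, ∃ x ∈ J, x.fst = a) := by
  constructor
  · intro x hx
    rw [← h]
    exact Ideal.mem_map_of_mem (fstHom A R R) hx
  · intro a ha
    rw [← h, Ideal.mem_map_iff_of_surjective (fstHom A R R) (fun r => ⟨inl r, by simp⟩)] at ha
    obtain ⟨x, hx, rfl⟩ := ha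
    exact ⟨x, hx, rfl⟩

theorem part1 (I : Ideal R) [Module.Flat A (R ⧸ I)] (φ : I →ₗ[R] R ⧸ I) :
    Module.Flat (DualNumber A) (DualNumber R ⧸ liftIdeal I φ) ∧
      Ideal.map (fstHom A R R) (liftIdeal I φ) = I := by
  have P1 : ∀ x ∈ liftIdeal I φ, x.fst ∈ I := fun x hx => hx.1
  have P2 : ∀ a ∈ I, ∃ x ∈ liftIdeal I φ, x.fst = a := by
    intro a ha
    obtain ⟨b, hb⟩ := Ideal.Quotient.mk_surjective (φ ⟨a, ha⟩)
    exact ⟨(a, b), ⟨ha, hb⟩, rfl⟩
  have P3 : ∀ b : R, (inr b : DualNumber R) ∈ liftIdeal I φ → b ∈ I := by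
    rintro b ⟨h, hb⟩
    have h0 : (⟨(inr b : DualNumber R).fst, h⟩ : I) = 0 := by
      ext; simp
    rw [h0, map_zero, snd_inr] at hb
    exact Ideal.Quotient.eq_zero_iff_mem.mp hb
  exact ⟨flat_quot I _ P1 P2 P3, map_fst_eq I _ P1 P2⟩

theorem part2 (I : Ideal R) : Function.Injective (liftIdeal I) := by
  intro φ ψ h
  ext ⟨a, ha⟩
  obtain ⟨b, hb⟩ := Ideal.Quotient.mk_surjective (φ ⟨a, ha⟩)
  have hmem : ((a, b) : DualNumber R) ∈ liftIdeal I φ := ⟨ha, hb⟩
  rw [h] at hmem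
  obtain ⟨_, h2⟩ := hmem
  rw [← hb]
  exact h2

theorem part3 (I : Ideal R) (J : Ideal (DualNumber R))
    (hflat : Module.Flat (DualNumber A) (DualNumber R ⧸ J))
    (hmap : Ideal.map (fstHom A R R) J = I) :
    ∃ φ : I →ₗ[R] R ⧸ I, J = liftIdeal I φ := by
  obtain ⟨P1, P2⟩ := P_of_map (A := A) I J hmap
  -- (0,b) ∈ J ↔ b ∈ I
  have P3 : ∀ b : R, (inr b : DualNumber R) ∈ J → b ∈ I := by
    intro b hb
    have h0 : (ε : DualNumber A) • (Ideal.Quotient.mk J (inl b)) = 0 := by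
      rw [smul_mk, dualMap_eps, eps_mul_eq, fst_inl]
      exact Ideal.Quotient.eq_zero_iff_mem.mpr hb
    obtain ⟨m', hm'⟩ := eps_torsion_of_flat (A := A) (M := DualNumber R ⧸ J)
      (Ideal.Quotient.mk J (inl b)) h0
    obtain ⟨y, rfl⟩ := Ideal.Quotient.mk_surjective m'
    rw [smul_mk, dualMap_eps, eps_mul_eq, Ideal.Quotient.eq] at hm'
    have := P1 _ hm'
    simpa using this
  have P3' : ∀ b ∈ I, (inr b : DualNumber R) ∈ J := by
    intro b hb
    obtain ⟨x, hx, rfl⟩ := P2 b hb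
    rw [← eps_mul_eq]
    exact J.mul_mem_left _ hx
  have huniq : ∀ x ∈ J, ∀ y ∈ J, x.fst = y.fst →
      Ideal.Quotient.mk I x.snd = Ideal.Quotient.mk I y.snd := by
    intro x hx y hy hxy
    rw [Ideal.Quotient.eq]
    apply P3
    have : (inr (x.snd - y.snd) : DualNumber R) = x - y := by
      ext
      · simp [hxy]
      · simp
    rw [this]
    exact J.sub_mem hx hy
  choose c hcJ hc using P2
  let φ : I →ₗ[R] R ⧸ I :=
    { toFun := fun a => Ideal.Quotient.mk I (c a.1 a.2).snd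
      map_add' := by
        intro a b
        rw [← map_add, ← snd_add]
        apply huniq _ (hcJ _ _) _ (J.add_mem (hcJ _ _) (hcJ _ _))
        rw [hc, fst_add, hc, hc]
        rfl
      map_smul' := by
        intro r a
        have h1 : (inl r : DualNumber R) * c a.1 a.2 ∈ J := J.mul_mem_left _ (hcJ _ _)
        have := huniq _ (hcJ (r • a).1 (r • a).2) _ h1 (by
          rw [hc, fst_mul, fst_inl, hc]; rfl)
        rw [this]
        simp [Algebra.smul_def] }
  refine ⟨φ, ?_⟩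
  ext x
  rw [mem_liftIdeal]
  constructor
  · intro hx
    refine ⟨P1 x hx, ?_⟩
    exact huniq x hx _ (hcJ _ _) (hc _ _).symm
  · rintro ⟨h, hx⟩
    have h1 : Ideal.Quotient.mk I x.snd = Ideal.Quotient.mk I (c x.fst h).snd := hx
    rw [Ideal.Quotient.eq] at h1
    have h2 := P3' _ h1
    have : x = c x.fst h + inr (x.snd - (c x.fst h).snd) := by
      ext
      · simp [hc]
      · simp
    rw [this]
    exact J.add_mem (hcJ _ _) h2

theorem main (A : Type u) [CommRing A] (R : Type u) [CommRing R]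
    [Algebra A R] (I : Ideal R) [Module.Flat A (R ⧸ I)] :
    (∀ φ : I →ₗ[R] R ⧸ I,
        Module.Flat (DualNumber A) (DualNumber R ⧸ W4c6puncthilbintro.liftIdeal I φ) ∧
          Ideal.map (TrivSqZeroExt.fstHom A R R) (W4c6puncthilbintro.liftIdeal I φ) = I) ∧
      Function.Injective (W4c6puncthilbintro.liftIdeal I) ∧
      ∀ J : Ideal (DualNumber R), Module.Flat (DualNumber A) (DualNumber R ⧸ J) →
        Ideal.map (TrivSqZeroExt.fstHom A R R) J = I →
          ∃ φ : I →ₗ[R] R ⧸ I, J = W4c6puncthilbintro.liftIdeal I φ :=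
  ⟨fun φ => part1 I φ, part2 I, fun J hJ hmap => part3 I J hJ hmap⟩

end Groth.Agent.Lib.Helper8.DN
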