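import Mathlib
import Groth.Prelude.Def_W4c3severiratdpLat

set_option autoImplicit false
set_option linter.unusedSectionVars false
set_option backward.isDefEq.respectTransparency.types false

/-!
# The del Pezzo lattices: list model, reflections, Weyl words
-/

namespace Groth.Agent.Lib.Helper8.DP

open W4c3severiratdp

/-! ### list model -/

/-- dot product of two lists -/
def dotL : List ℤ → List ℤ → ℤ
  | a :: l, b :: m => a * b + dotL l m
  | _, _ => 0

/-- the intersection form on lists -/
def formL : List ℤ → List ℤ → ℤ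
  | a :: l, b :: m => a * b - dotL l m
  | _, _ => 0

/-- the list of coordinates of a vector -/
def toL {δ : ℕ} (v : DP δ) : List ℤ := List.ofFn v

/-- the vector with a given list of coordinates -/
def ofL (δ : ℕ) (l : List ℤ) : DP δ := fun i => l.getD i 0

/-- the canonical class as a list -/
def canonL (δ : ℕ) : List ℤ := (-3) :: List.replicate δ (-1)

lemma toL_length {δ : ℕ} (v : DP δ) : (toL v).length = δ + 1 := by simp [toL]

lemma ofL_toL {δ : ℕ} (v : DP δ) : ofL δ (toL v) = v := by
  funext i
  unfold ofL toL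
  rw [List.getD_eq_getElem?_getD, List.getElem?_ofFn]
  have : (i : ℕ) < δ + 1 := i.2
  simp [this]

lemma toL_ofL {δ : ℕ} (l : List ℤ) (hl : l.length = δ + 1) : toL (ofL δ l) = l := by
  apply List.ext_getElem
  · simp [toL, hl]
  · intro i h1 h2
    unfold toL ofL
    rw [List.getElem_ofFn, List.getD_eq_getElem?_getD, List.getElem?_eq_getElem h2]
    simp

lemma toL_injective {δ : ℕ} : Function.Injective (toL (δ := δ)) := by
  intro v w h
  rw [← ofL_toL v, ← ofL_toL w, h]

lemma dotL_ofFn : ∀ (n : ℕ) (f g : Fin n → ℤ),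
    dotL (List.ofFn f) (List.ofFn g) = ∑ i, f i * g i := by
  intro n
  induction n with
  | zero => intro f g; simp [dotL]
  | succ n ih =>
    intro f g
    rw [List.ofFn_succ, List.ofFn_succ, dotL, ih, Fin.sum_univ_succ]

lemma formL_toL {δ : ℕ} (v w : DP δ) : formL (toL v) (toL w) = form v w := by
  unfold toL form
  rw [List.ofFn_succ, List.ofFn_succ, formL, dotL_ofFn]

lemma toL_canon (δ : ℕ) : toL (canon δ) = canonL δ := by
  unfold toL canonL canon
  rw [List.ofFn_succ]
  simp only [Fin.cases_zero, Fin.cases_succ]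
  congr 1
  rw [List.ofFn_const]

/-! ### bilinearity of the form -/

lemma form_comm {δ : ℕ} (v w : DP δ) : form v w = form w v := by
  unfold form
  rw [mul_comm]
  congr 1
  exact Finset.sum_congr rfl fun i _ => mul_comm _ _

lemma form_add_left {δ : ℕ} (v v' w : DP δ) : form (v + v') w = form v w + form v' w := by
  unfold form
  simp only [Pi.add_apply, add_mul, Finset.sum_add_distrib]
  ring

lemma form_smul_left {δ : ℕ} (c : ℤ) (v w : DP δ) : form (c • v) w = c * form v w := by
  unfold form
  simp only [Pi.smul_apply, smul_eq_mul, mul_assoc, ← Finset.mul_sum]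
  ring

lemma form_add_right {δ : ℕ} (v w w' : DP δ) : form v (w + w') = form v w + form v w' := by
  rw [form_comm, form_add_left, form_comm w, form_comm w']

lemma form_smul_right {δ : ℕ} (c : ℤ) (v w : DP δ) : form v (c • w) = c * form v w := by
  rw [form_comm, form_smul_left, form_comm]

/-- the linear form `v ↦ v · α` -/
def formLin {δ : ℕ} (α : DP δ) : DP δ →ₗ[ℤ] ℤ where
  toFun v := form v α
  map_add' v w := form_add_left v w α
  map_smul' c v := by rw [RingHom.id_apply, smul_eq_mul]; exact form_smul_left c v α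

/-- the reflection `v ↦ v + (v · α) α` as a linear map -/
def reflLin {δ : ℕ} (α : DP δ) : DP δ →ₗ[ℤ] DP δ :=
  LinearMap.id + (formLin α).smulRight α

lemma reflLin_apply {δ : ℕ} (α v : DP δ) : reflLin α v = v + form v α • α := by
  simp [reflLin, formLin]

lemma reflLin_involutive {δ : ℕ} (α : DP δ) (hα : form α α = -2) :
    Function.Involutive (reflLin α) := by
  intro v
  rw [reflLin_apply, reflLin_apply, form_add_left, form_smul_left, hα]
  have : form v α + form v α * -2 = -form v α := by ring
  rw [this, add_assoc, ← add_smul, add_neg_cancel, zero_smul, add_zero]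

/-- the reflection in a root as a linear equivalence -/
def refl {δ : ℕ} (α : DP δ) (hα : form α α = -2) : DP δ ≃ₗ[ℤ] DP δ :=
  LinearEquiv.ofInvolutive (reflLin α) (reflLin_involutive α hα)

lemma refl_apply {δ : ℕ} (α : DP δ) (hα : form α α = -2) (v : DP δ) :
    refl α hα v = v + form v α • α := reflLin_apply α v

lemma isWeyl_refl {δ : ℕ} (α : DP δ) (hα : form α α = -2) (hK : form (canon δ) α = 0) :
    IsWeyl (refl α hα) := by
  refine ⟨fun v w => ?_, ?_⟩
  · rw [refl_apply, refl_apply, form_add_left, form_add_right, form_add_right, form_smul_left,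
      form_smul_left, form_smul_right, form_smul_right, hα, form_comm α w]
    ring
  · rw [refl_apply, hK, zero_smul, add_zero]

lemma IsWeyl.trans {δ : ℕ} {g h : DP δ ≃ₗ[ℤ] DP δ} (hg : IsWeyl g) (hh : IsWeyl h) :
    IsWeyl (g.trans h) := by
  refine ⟨fun v w => ?_, ?_⟩
  · simp only [LinearEquiv.trans_apply]
    rw [hh.1, hg.1]
  · simp only [LinearEquiv.trans_apply]
    rw [hg.2, hh.2]

lemma IsWeyl.symm {δ : ℕ} {g : DP δ ≃ₗ[ℤ] DP δ} (hg : IsWeyl g) : IsWeyl g.symm := by
  refine ⟨fun v w => ?_, ?_⟩
  · have := hg.1 (g.symm v) (g.symm w)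
    simp only [LinearEquiv.apply_symm_apply] at this
    exact this.symm
  · have := hg.2
    rw [LinearEquiv.symm_apply_eq]
    exact this.symm

lemma isWeyl_refl_id {δ : ℕ} : IsWeyl (LinearEquiv.refl ℤ (DP δ)) :=
  ⟨fun _ _ => rfl, rfl⟩

/-! ### reflections on lists -/

/-- `v + c α` on lists -/
def addSmulL (c : ℤ) : List ℤ → List ℤ → List ℤ
  | a :: α, x :: v => (x + c * a) :: addSmulL c α v
  | _, _ => []

/-- the reflection on lists -/
def reflL (α v : List ℤ) : List ℤ := addSmulL (formL v α) α v

lemma addSmulL_ofFn (c : ℤ) : ∀ (n : ℕ) (f g : Fin n → ℤ),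
    addSmulL c (List.ofFn f) (List.ofFn g) = List.ofFn (fun i => g i + c * f i) := by
  intro n
  induction n with
  | zero => intro f g; simp [addSmulL]
  | succ n ih =>
    intro f g
    rw [List.ofFn_succ, List.ofFn_succ, addSmulL, ih, List.ofFn_succ (f := fun i => g i + c * f i)]

lemma toL_add_smul {δ : ℕ} (c : ℤ) (α v : DP δ) :
    toL (v + c • α) = addSmulL c (toL α) (toL v) := by
  unfold toL
  rw [addSmulL_ofFn]
  rfl

lemma toL_refl {δ : ℕ} (α : DP δ) (hα : form α α = -2) (v : DP δ) :
    toL (refl α hα v) = reflL (toL α) (toL v) := by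
  rw [refl_apply, toL_add_smul, reflL, formL_toL]

lemma addSmulL_zero : ∀ (α v : List ℤ), α.length = v.length → addSmulL 0 α v = v := by
  intro α
  induction α with
  | nil => intro v h; cases v with
    | nil => rfl
    | cons x v => simp at h
  | cons a α ih =>
    intro v h
    cases v with
    | nil => simp at h
    | cons x v =>
      simp only [List.length_cons, add_left_inj] at h
      rw [addSmulL, ih v h, zero_mul, add_zero]

lemma addSmulL_length (c : ℤ) : ∀ (α v : List ℤ), α.length = v.length →
    (addSmulL c α v).length = v.length := by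
  intro α
  induction α with
  | nil => intro v h; cases v with
    | nil => rfl
    | cons x v => simp at h
  | cons a α ih =>
    intro v h
    cases v with
    | nil => simp at h
    | cons x v =>
      simp only [List.length_cons, add_left_inj] at h
      simp [addSmulL, ih v h]

/-- apply a word of reflections -/
def applyW (w : List (List ℤ)) (v : List ℤ) : List ℤ := w.foldl (fun x α => reflL α x) v

/-- the root condition on lists -/
def rootOK (δ : ℕ) (α : List ℤ) : Bool :=
  α.length == δ + 1 && formL α α == -2 && formL (canonL δ) α == 0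

lemma rootOK_iff (δ : ℕ) (α : List ℤ) : rootOK δ α = true ↔
    α.length = δ + 1 ∧ formL α α = -2 ∧ formL (canonL δ) α = 0 := by
  simp [rootOK, and_assoc]

/-- a word of roots gives a Weyl group element computing `applyW` -/
theorem exists_weyl_of_word (δ : ℕ) : ∀ (w : List (List ℤ)), (∀ α ∈ w, rootOK δ α = true) →
    ∃ g : DP δ ≃ₗ[ℤ] DP δ, IsWeyl g ∧ ∀ v, toL (g v) = applyW w (toL v) := by
  intro w
  induction w with
  | nil => intro _; exact ⟨LinearEquiv.refl ℤ _, isWeyl_refl_id, fun v => rfl⟩
  | cons α w ih =>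
    intro h
    obtain ⟨g, hg, hgv⟩ := ih fun β hβ => h β (List.mem_cons_of_mem _ hβ)
    obtain ⟨h1, h2, h3⟩ := (rootOK_iff δ α).1 (h α List.mem_cons_self)
    have e : toL (ofL δ α) = α := toL_ofL α h1
    have hα : form (ofL δ α) (ofL δ α) = -2 := by rw [← formL_toL, e, h2]
    have hK : form (canon δ) (ofL δ α) = 0 := by rw [← formL_toL, e, toL_canon, h3]
    refine ⟨(refl (ofL δ α) hα).trans g, IsWeyl.trans (isWeyl_refl _ hα hK) hg, fun v => ?_⟩
    rw [LinearEquiv.trans_apply, hgv, toL_refl, e]
    rfl

/-- a word of roots orthogonal to `F` fixes `F` -/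
theorem applyW_fix (δ : ℕ) (F : List ℤ) (hF : F.length = δ + 1) : ∀ (w : List (List ℤ)),
    (∀ α ∈ w, α.length = δ + 1 ∧ formL F α = 0) → applyW w F = F := by
  intro w
  induction w with
  | nil => intro _; rfl
  | cons α w ih =>
    intro h
    obtain ⟨h1, h2⟩ := h α List.mem_cons_self
    have : reflL α F = F := by
      rw [reflL, h2, addSmulL_zero _ _ (by rw [h1, hF])]
    change applyW w (reflL α F) = F
    rw [this]
    exact ih fun β hβ => h β (List.mem_cons_of_mem _ hβ)

end Groth.Agent.Lib.Helper8.DP
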