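import Mathlib
import Groth.Agent.Lib.Helper8.DP1

set_option autoImplicit false
set_option linter.unusedSectionVars false
set_option backward.isDefEq.respectTransparency.types false

/-!
# The del Pezzo lattices: enumeration of classes with given degree and self-intersection
-/

namespace Groth.Agent.Lib.Helper8.DP

open W4c3severiratdp

/-- candidate coordinates `-B, …, B` -/
def cand (B : ℕ) : List ℤ := (List.range (2 * B + 1)).map (fun i : ℕ => (i : ℤ) - (B : ℤ))

/-- all lists of length `k` with entries in `[-B, B]`, sum `s` and sum of squares `q` -/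
def search : ℕ → ℕ → ℤ → ℤ → List (List ℤ)
  | 0, _, s, q => if s = 0 ∧ q = 0 then [[]] else []
  | k + 1, B, s, q =>
    if s * s ≤ ((k : ℤ) + 1) * q then
      (cand B).flatMap (fun b => if b * b ≤ q then
        (search k B (s - b) (q - b * b)).map (b :: ·) else [])
    else []

/-- sum of squares of a list -/
def sqSum (l : List ℤ) : ℤ := (l.map (fun b => b * b)).sum

lemma sqSum_nonneg (l : List ℤ) : 0 ≤ sqSum l := by
  unfold sqSum
  apply List.sum_nonneg
  intro x hx
  obtain ⟨b, _, rfl⟩ := List.mem_map.1 hx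
  exact mul_self_nonneg b

lemma sqSum_cons (b : ℤ) (l : List ℤ) : sqSum (b :: l) = b * b + sqSum l := by
  simp [sqSum]

/-- Cauchy–Schwarz for lists -/
lemma sum_sq_le (l : List ℤ) : l.sum * l.sum ≤ (l.length : ℤ) * sqSum l := by
  induction l with
  | nil => simp [sqSum]
  | cons b l ih =>
    rw [List.sum_cons, List.length_cons, sqSum_cons]
    push_cast
    have hq := sqSum_nonneg l
    set S := l.sum
    set Q := sqSum l
    set n : ℤ := (l.length : ℤ)
    have hn : 0 ≤ n := Int.natCast_nonneg _
    -- 2 b S ≤ n b² + Q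
    have key : 2 * b * S ≤ n * (b * b) + Q := by
      rcases hn.eq_or_lt with h0 | hpos
      · have hS : S * S ≤ 0 := by rw [← h0, zero_mul] at ih; exact ih
        have hS0 : S = 0 := by nlinarith [mul_self_nonneg S]
        rw [hS0, ← h0]; simp [hq]
      · by_contra hcon
        push Not at hcon
        have h1 : n * (2 * b * S) > n * (n * (b * b) + Q) := by nlinarith
        nlinarith [mul_self_nonneg (n * b - S)]
    nlinarith

lemma mem_cand (B : ℕ) (b : ℤ) (hb : |b| ≤ B) : b ∈ cand B := by
  rw [abs_le] at hb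
  unfold cand
  rw [List.mem_map]
  refine ⟨(b + B).toNat, ?_, ?_⟩
  · rw [List.mem_range]
    omega
  · rw [Int.toNat_of_nonneg (by omega)]; ring

theorem mem_search : ∀ (B : ℕ) (l : List ℤ), (∀ b ∈ l, |b| ≤ B) →
    l ∈ search l.length B l.sum (sqSum l) := by
  intro B l
  induction l with
  | nil => intro _; simp [search, sqSum]
  | cons b l ih =>
    intro h
    rw [List.length_cons, search]
    have hcs := sum_sq_le (b :: l)
    rw [List.length_cons] at hcs
    push_cast at hcs
    rw [if_pos hcs, List.mem_flatMap]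
    refine ⟨b, mem_cand B b (h b List.mem_cons_self), ?_⟩
    have hq : b * b ≤ sqSum (b :: l) := by
      rw [sqSum_cons]; linarith [sqSum_nonneg l]
    rw [if_pos hq, List.mem_map]
    refine ⟨l, ?_, rfl⟩
    have e1 : (b :: l).sum - b = l.sum := by simp
    have e2 : sqSum (b :: l) - b * b = sqSum l := by rw [sqSum_cons]; ring
    rw [e1, e2]
    exact ih fun c hc => h c (List.mem_cons_of_mem _ hc)

lemma abs_le_of_mem_sqSum (l : List ℤ) (B : ℕ) (h : sqSum l ≤ (B : ℤ) * B) :
    ∀ b ∈ l, |b| ≤ B := by
  induction l with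
  | nil => intro b hb; simp at hb
  | cons c l ih =>
    intro b hb
    rw [sqSum_cons] at h
    rcases List.mem_cons.1 hb with rfl | hb'
    · have h1 : b * b ≤ (B : ℤ) * B := by linarith [sqSum_nonneg l]
      exact abs_le_of_sq_le_sq' (by nlinarith) (Int.natCast_nonneg _) |>.1 |> fun _ => by
        rw [abs_le]; constructor <;> nlinarith [Int.natCast_nonneg B]
    · exact ih (by linarith [mul_self_nonneg c]) b hb'

/-- the classes `(a; b)` with `a = i - off` for `i < A`, `Σ b = 3a - e` and `Σ b² = a² + c`,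
with the `b` bounded by `|a| + c` -/
def classesL (δ A off : ℕ) (e c : ℤ) : List (List ℤ) :=
  (List.range A).flatMap (fun i : ℕ =>
    (search δ (((i : ℤ) - off).natAbs + c.natAbs) (3 * ((i : ℤ) - off) - e)
      (((i : ℤ) - off) * ((i : ℤ) - off) + c)).map ((((i : ℤ) - off)) :: ·))

lemma sum_ofFn_eq {n : ℕ} (f : Fin n → ℤ) : (List.ofFn f).sum = ∑ i, f i := by
  rw [List.sum_ofFn]

lemma sqSum_ofFn {n : ℕ} (f : Fin n → ℤ) : sqSum (List.ofFn f) = ∑ i, f i * f i := by
  unfold sqSum
  rw [List.map_ofFn, List.sum_ofFn]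
  rfl

lemma form_self {δ : ℕ} (v : DP δ) :
    form v v = v 0 * v 0 - sqSum (List.ofFn fun i : Fin δ => v i.succ) := by
  rw [sqSum_ofFn]; rfl

lemma form_canon {δ : ℕ} (v : DP δ) :
    form (canon δ) v = -3 * v 0 + (List.ofFn fun i : Fin δ => v i.succ).sum := by
  rw [sum_ofFn_eq]
  unfold form canon
  simp only [Fin.cases_zero, Fin.cases_succ, neg_mul, one_mul, Finset.sum_neg_distrib]
  ring

/-- soundness of the enumeration: a class with `v·v = -c`, `K·v = -e` whose first coordinate is in
range lies in the list -/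
theorem mem_classesL {δ : ℕ} (A off : ℕ) (e c : ℤ) (hc : 0 ≤ c) (v : DP δ)
    (h1 : form v v = -c) (h2 : form (canon δ) v = -e)
    (ha : 0 ≤ v 0 + off ∧ v 0 + off < A) : toL v ∈ classesL δ A off e c := by
  set b : List ℤ := List.ofFn fun i : Fin δ => v i.succ with hb
  have hlen : b.length = δ := by simp [hb]
  rw [form_self] at h1
  rw [form_canon] at h2
  have hsum : b.sum = 3 * v 0 - e := by linarith
  have hsq : sqSum b = v 0 * v 0 + c := by linarith
  unfold classesL
  rw [List.mem_flatMap]
  refine ⟨(v 0 + off).toNat, ?_, ?_⟩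
  · rw [List.mem_range]; omega
  · have e0 : (((v 0 + off).toNat : ℕ) : ℤ) - off = v 0 := by
      rw [Int.toNat_of_nonneg ha.1]; ring
    rw [e0, List.mem_map]
    refine ⟨b, ?_, ?_⟩
    · have hbound : ∀ x ∈ b, |x| ≤ (((v 0).natAbs + c.natAbs : ℕ) : ℤ) := by
        apply abs_le_of_mem_sqSum
        rw [hsq]
        push_cast
        rw [abs_of_nonneg hc]
        have hcc : c ≤ c * c := by
          rcases hc.eq_or_lt with h | h
          · rw [← h]; simp
          · nlinarith [Int.add_one_le_iff.2 h]
        nlinarith [abs_nonneg (v 0), abs_mul_abs_self (v 0), mul_nonneg (abs_nonneg (v 0)) hc]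
      have := mem_search _ b hbound
      rwa [hlen, hsum, hsq] at this
    · unfold toL
      rw [List.ofFn_succ]

end Groth.Agent.Lib.Helper8.DP
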