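import Mathlib
import Groth.Agent.Lib.Helper8.DP2

set_option autoImplicit false
set_option linter.unusedSectionVars false
set_option backward.isDefEq.respectTransparency.types false

/-!
# The del Pezzo lattices: certificate checker for orbits of the Weyl group
-/

namespace Groth.Agent.Lib.Helper8.DP

open W4c3severiratdp

/-- conic classes -/
def conicsL (δ : ℕ) : List (List ℤ) := classesL δ 12 0 2 0

/-- exceptional classes -/
def excL (δ : ℕ) : List (List ℤ) := classesL δ 9 1 1 1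

lemma cs_bound {δ : ℕ} (v : DP δ) :
    (List.ofFn fun i : Fin δ => v i.succ).sum * (List.ofFn fun i : Fin δ => v i.succ).sum ≤
      (δ : ℤ) * sqSum (List.ofFn fun i : Fin δ => v i.succ) := by
  have := sum_sq_le (List.ofFn fun i : Fin δ => v i.succ)
  simpa using this

theorem mem_conicsL {δ : ℕ} (hδ : δ ≤ 8) (v : DP δ) (hv : IsConic v) : toL v ∈ conicsL δ := by
  obtain ⟨h1, h2⟩ := hv
  refine mem_classesL 12 0 2 0 le_rfl v (by simpa using h1) (by simpa using h2) ?_
  have hcs := cs_bound v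
  have e1 := h1; have e2 := h2
  rw [form_self] at e1
  rw [form_canon] at e2
  set S := (List.ofFn fun i : Fin δ => v i.succ).sum
  set Q := sqSum (List.ofFn fun i : Fin δ => v i.succ)
  have hQ : Q = v 0 * v 0 := by linarith
  have hS : S = 3 * v 0 - 2 := by linarith
  have hδ' : (δ : ℤ) ≤ 8 := by exact_mod_cast hδ
  have hQ0 : 0 ≤ Q := sqSum_nonneg _
  have key : (3 * v 0 - 2) * (3 * v 0 - 2) ≤ 8 * (v 0 * v 0) := by
    rw [← hS, ← hQ]; nlinarith
  simp only [Nat.cast_zero, add_zero, Nat.cast_ofNat]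
  constructor <;> nlinarith

theorem mem_excL {δ : ℕ} (hδ : δ ≤ 8) (v : DP δ) (hv : IsExc v) : toL v ∈ excL δ := by
  obtain ⟨h1, h2⟩ := hv
  refine mem_classesL 9 1 1 1 zero_le_one v (by simpa using h1) (by simpa using h2) ?_
  have hcs := cs_bound v
  have e1 := h1; have e2 := h2
  rw [form_self] at e1
  rw [form_canon] at e2
  set S := (List.ofFn fun i : Fin δ => v i.succ).sum
  set Q := sqSum (List.ofFn fun i : Fin δ => v i.succ)
  have hQ : Q = v 0 * v 0 + 1 := by linarith
  have hS : S = 3 * v 0 - 1 := by linarith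
  have hδ' : (δ : ℤ) ≤ 8 := by exact_mod_cast hδ
  have hQ0 : 0 ≤ Q := sqSum_nonneg _
  have key : (3 * v 0 - 1) * (3 * v 0 - 1) ≤ 8 * (v 0 * v 0 + 1) := by
    rw [← hS, ← hQ]; nlinarith
  simp only [Nat.cast_one, Nat.cast_ofNat]
  constructor <;> nlinarith

/-! ### the checker -/

/-- look up roots by index -/
def wordOf (roots : List (List ℤ)) (idx : List ℕ) : List (List ℤ) :=
  idx.map (fun i => roots.getD i [])

/-- look up representatives -/
def repsOf (tbl : List (ℤ × List (List ℤ))) (k : ℤ) : List (List ℤ) :=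
  match tbl.find? (fun p => p.1 == k) with
  | some p => p.2
  | none => []

/-- check one table entry: the first word carries the class to `F`; the second word consists of
roots orthogonal to `F` and carries the class to one of the representatives -/
def checkEntry (roots : List (List ℤ)) (F : List ℤ) (reps : List (ℤ × List (List ℤ)))
    (e : List ℤ × List ℕ × List ℕ) : Bool :=
  e.2.1.all (fun i => decide (i < roots.length)) && e.2.2.all (fun i => decide (i < roots.length)) &&
  (applyW (wordOf roots e.2.1) e.1 == F) &&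
  (wordOf roots e.2.2).all (fun α => formL F α == 0) &&
  (repsOf reps (formL F e.1)).contains (applyW (wordOf roots e.2.2) e.1)

/-- check a whole table -/
def checkTable (δ : ℕ) (roots : List (List ℤ)) (F : List ℤ) (reps : List (ℤ × List (List ℤ)))
    (tab : List (List ℤ × List ℕ × List ℕ)) : Bool :=
  roots.all (rootOK δ) && (F.length == δ + 1) && tab.all (checkEntry roots F reps)

lemma wordOf_rootOK {δ : ℕ} {roots : List (List ℤ)} (hr : roots.all (rootOK δ) = true)
    {idx : List ℕ} (hidx : idx.all (fun i => decide (i < roots.length)) = true) :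
    ∀ α ∈ wordOf roots idx, rootOK δ α = true := by
  intro α hα
  unfold wordOf at hα
  obtain ⟨i, hi, rfl⟩ := List.mem_map.1 hα
  rw [List.all_eq_true] at hr hidx
  have hlt : i < roots.length := by simpa using hidx i hi
  rw [List.getD_eq_getElem _ _ hlt]
  exact hr _ (List.getElem_mem hlt)

/-- what a successful check gives -/
theorem exists_weyl_of_check {δ : ℕ} {roots : List (List ℤ)} {F : List ℤ}
    {reps : List (ℤ × List (List ℤ))} {tab : List (List ℤ × List ℕ × List ℕ)}
    (hchk : checkTable δ roots F reps tab = true) (v : DP δ) (hv : toL v ∈ tab.map (·.1)) :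
    (∃ g : DP δ ≃ₗ[ℤ] DP δ, IsWeyl g ∧ g v = ofL δ F) ∧
    (∃ g : DP δ ≃ₗ[ℤ] DP δ, IsWeyl g ∧ g (ofL δ F) = ofL δ F ∧
      toL (g v) ∈ repsOf reps (form (ofL δ F) v)) := by
  unfold checkTable at hchk
  simp only [Bool.and_eq_true, beq_iff_eq] at hchk
  obtain ⟨⟨hroots, hF⟩, htab⟩ := hchk
  obtain ⟨e, he, hev⟩ := List.mem_map.1 hv
  rw [List.all_eq_true] at htab
  have hchk := htab e he
  unfold checkEntry at hchk
  simp only [Bool.and_eq_true, beq_iff_eq] at hchk
  obtain ⟨⟨⟨⟨hA, hB⟩, hwA⟩, hperp⟩, hrep⟩ := hchk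
  have hFL : toL (ofL δ F) = F := toL_ofL F hF
  constructor
  · obtain ⟨g, hg, hgv⟩ := exists_weyl_of_word δ (wordOf roots e.2.1) (wordOf_rootOK hroots hA)
    refine ⟨g, hg, ?_⟩
    apply toL_injective
    rw [hgv, ← hev, hwA, hFL]
  · obtain ⟨g, hg, hgv⟩ := exists_weyl_of_word δ (wordOf roots e.2.2) (wordOf_rootOK hroots hB)
    refine ⟨g, hg, ?_, ?_⟩
    · apply toL_injective
      rw [hgv, hFL]
      apply applyW_fix δ F hF
      intro α hα
      refine ⟨((rootOK_iff δ α).1 (wordOf_rootOK hroots hB α hα)).1, ?_⟩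
      rw [List.all_eq_true] at hperp
      simpa using hperp α hα
    · rw [hgv, ← hev, ← formL_toL, hFL, ← hev]
      rw [List.contains_iff_mem] at hrep
      exact hrep

/-- Weyl group elements preserve conic classes -/
lemma IsWeyl.isConic {δ : ℕ} {g : DP δ ≃ₗ[ℤ] DP δ} (hg : IsWeyl g) {v : DP δ} (hv : IsConic v) :
    IsConic (g v) := by
  refine ⟨by rw [hg.1]; exact hv.1, ?_⟩
  have := hg.1 (canon δ) v
  rw [hg.2] at this
  rw [this]; exact hv.2

lemma IsWeyl.isExc {δ : ℕ} {g : DP δ ≃ₗ[ℤ] DP δ} (hg : IsWeyl g) {v : DP δ} (hv : IsExc v) :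
    IsExc (g v) := by
  refine ⟨by rw [hg.1]; exact hv.1, ?_⟩
  have := hg.1 (canon δ) v
  rw [hg.2] at this
  rw [this]; exact hv.2

/-- transitivity on pairs with a given intersection number, from a successful check -/
theorem pairs_of_check {δ : ℕ} {roots : List (List ℤ)} {F : List ℤ}
    {reps : List (ℤ × List (List ℤ))} {tab : List (List ℤ × List ℕ × List ℕ)}
    (hchk : checkTable δ roots F reps tab = true) (P : DP δ → Prop)
    (hP : ∀ v, P v → toL v ∈ tab.map (·.1))
    (hPg : ∀ (g : DP δ ≃ₗ[ℤ] DP δ), IsWeyl g → ∀ v, P v → P (g v))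
    (v₁ v₂ : DP δ) (hv₁ : P v₁) (hv₂ : P v₂) :
    ∃ g : DP δ ≃ₗ[ℤ] DP δ, IsWeyl g ∧ g v₁ = ofL δ F ∧ toL (g v₂) ∈ repsOf reps (form v₁ v₂) := by
  obtain ⟨⟨g₁, hg₁, hg₁v⟩, -⟩ := exists_weyl_of_check hchk v₁ (hP v₁ hv₁)
  obtain ⟨-, ⟨g₂, hg₂, hg₂F, hg₂v⟩⟩ :=
    exists_weyl_of_check hchk (g₁ v₂) (hP _ (hPg g₁ hg₁ v₂ hv₂))
  refine ⟨g₁.trans g₂, IsWeyl.trans hg₁ hg₂, ?_, ?_⟩
  · rw [LinearEquiv.trans_apply, hg₁v, hg₂F]
  · rw [LinearEquiv.trans_apply]
    rw [← hg₁v, hg₁.1] at hg₂v
    exact hg₂v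

end Groth.Agent.Lib.Helper8.DP
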