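import Mathlib
import Groth.Agent.Lib.Helper8.DP3

set_option autoImplicit false
set_option linter.unusedSectionVars false
set_option backward.isDefEq.respectTransparency.types false

/-!
# The del Pezzo lattices: transitivity on pairs
-/

namespace Groth.Agent.Lib.Helper8.DP

open W4c3severiratdp

lemma repsOf_mem {tbl : List (ℤ × List (List ℤ))} {k : ℤ} {x : List ℤ} (hx : x ∈ repsOf tbl k) :
    ∃ p ∈ tbl, p.1 = k ∧ repsOf tbl k = p.2 := by
  unfold repsOf at hx ⊢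
  cases h : tbl.find? (fun p => p.1 == k) with
  | none => rw [h] at hx; simp at hx
  | some p =>
    refine ⟨p, List.mem_of_find?_eq_some h, ?_, rfl⟩
    have := List.find?_some h
    simpa using this

/-- transitivity on pairs with intersection number `k`, if there is only one representative -/
theorem pairs_transitive {δ : ℕ} {roots : List (List ℤ)} {F : List ℤ}
    {reps : List (ℤ × List (List ℤ))} {tab : List (List ℤ × List ℕ × List ℕ)}
    (hchk : checkTable δ roots F reps tab = true) (P : DP δ → Prop)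
    (hP : ∀ v, P v → toL v ∈ tab.map (·.1))
    (hPg : ∀ (g : DP δ ≃ₗ[ℤ] DP δ), IsWeyl g → ∀ v, P v → P (g v))
    (k : ℤ) (hsub : ∀ p ∈ reps, p.1 = k → p.2.length ≤ 1)
    (v₁ v₂ w₁ w₂ : DP δ) (hv₁ : P v₁) (hv₂ : P v₂) (hw₁ : P w₁) (hw₂ : P w₂)
    (hv : form v₁ v₂ = k) (hw : form w₁ w₂ = k) :
    ∃ g : DP δ ≃ₗ[ℤ] DP δ, IsWeyl g ∧ g v₁ = w₁ ∧ g v₂ = w₂ := by
  obtain ⟨g, hg, hg1, hg2⟩ := pairs_of_check hchk P hP hPg v₁ v₂ hv₁ hv₂
  obtain ⟨h, hh, hh1, hh2⟩ := pairs_of_check hchk P hP hPg w₁ w₂ hw₁ hw₂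
  rw [hv] at hg2
  rw [hw] at hh2
  obtain ⟨p, hp, hpk, hpe⟩ := repsOf_mem hg2
  rw [hpe] at hg2 hh2
  have hlen := hsub p hp hpk
  have heq : toL (g v₂) = toL (h w₂) := by
    match hp2 : p.2, hlen, hg2, hh2 with
    | [], _, h1, _ => simp at h1
    | [x], _, h1, h2 =>
      rw [List.mem_singleton] at h1 h2
      rw [h1, h2]
    | _ :: _ :: _, h0, _, _ => simp at h0
  refine ⟨g.trans h.symm, IsWeyl.trans hg (IsWeyl.symm hh), ?_, ?_⟩
  · rw [LinearEquiv.trans_apply, hg1, ← hh1, LinearEquiv.symm_apply_apply]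
  · rw [LinearEquiv.trans_apply, toL_injective heq, LinearEquiv.symm_apply_apply]

lemma isConic_ofL {δ : ℕ} (l : List ℤ) (hl : l.length = δ + 1) (h1 : formL l l = 0)
    (h2 : formL (canonL δ) l = -2) : IsConic (ofL δ l) := by
  refine ⟨?_, ?_⟩
  · rw [← formL_toL, toL_ofL l hl, h1]
  · rw [← formL_toL, toL_ofL l hl, toL_canon, h2]

lemma isExc_ofL {δ : ℕ} (l : List ℤ) (hl : l.length = δ + 1) (h1 : formL l l = -1)
    (h2 : formL (canonL δ) l = -1) : IsExc (ofL δ l) := by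
  refine ⟨?_, ?_⟩
  · rw [← formL_toL, toL_ofL l hl, h1]
  · rw [← formL_toL, toL_ofL l hl, toL_canon, h2]

lemma form_ofL {δ : ℕ} (l m : List ℤ) (hl : l.length = δ + 1) (hm : m.length = δ + 1) :
    form (ofL δ l) (ofL δ m) = formL l m := by
  rw [← formL_toL, toL_ofL l hl, toL_ofL m hm]

end Groth.Agent.Lib.Helper8.DP
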