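import Mathlib
import Groth.Agent.Lib.Helper8.DP4

set_option autoImplicit false
set_option linter.unusedSectionVars false
set_option backward.isDefEq.respectTransparency.types false

/-!
# The del Pezzo lattices: counting conic classes, invariance under permutations
-/

namespace Groth.Agent.Lib.Helper8.DP

open W4c3severiratdp

/-- the check that all entries of a list of lists are conic classes -/
def allConic (δ : ℕ) (ls : List (List ℤ)) : Bool :=
  ls.all (fun l => l.length == δ + 1 && formL l l == 0 && formL (canonL δ) l == -2)

theorem ncard_conic {δ : ℕ} (hδ : δ ≤ 8) (ls : List (List ℤ)) (hls : conicsL δ = ls)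
    (hsorted : List.IsChain (· < ·) ls) (hall : allConic δ ls = true) :
    {v : DP δ | IsConic v}.ncard = ls.length := by
  classical
  have hnodup : ls.Nodup := by
    have hp : ls.Pairwise (· < ·) := List.isChain_iff_pairwise.1 hsorted
    exact hp.imp (fun h => ne_of_lt h)
  have hall' : ∀ l ∈ ls, l.length = δ + 1 ∧ formL l l = 0 ∧ formL (canonL δ) l = -2 := by
    intro l hl
    unfold allConic at hall
    rw [List.all_eq_true] at hall
    have := hall l hl
    simpa [and_assoc] using this
  have hset : {v : DP δ | IsConic v} = ((ls.map (ofL δ)).toFinset : Set (DP δ)) := by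
    ext v
    simp only [Set.mem_ofPred_eq, List.coe_toFinset, List.mem_map]
    constructor
    · intro hv
      exact ⟨toL v, hls ▸ mem_conicsL hδ v hv, ofL_toL v⟩
    · rintro ⟨l, hl, rfl⟩
      obtain ⟨h1, h2, h3⟩ := hall' l hl
      exact isConic_ofL l h1 h2 h3
  rw [hset, Set.ncard_coe_finset, List.toFinset_card_of_nodup, List.length_map]
  refine List.Nodup.map_on ?_ hnodup
  intro x hx y hy hxy
  rw [← toL_ofL x (hall' x hx).1, ← toL_ofL y (hall' y hy).1, hxy]

/-- conic classes are invariant under permutations of the exceptional coordinates -/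
lemma isConic_perm {δ : ℕ} (v t : DP δ) (σ : Equiv.Perm (Fin δ)) (h0 : v 0 = t 0)
    (h : ∀ i, v (σ i).succ = t i.succ) : IsConic v ↔ IsConic t := by
  have e1 : form v v = form t t := by
    unfold form
    rw [h0]
    congr 1
    rw [← Equiv.sum_comp σ (fun i => v i.succ * v i.succ)]
    exact Finset.sum_congr rfl fun i _ => by rw [h i]
  have e2 : form (canon δ) v = form (canon δ) t := by
    unfold form
    rw [h0]
    congr 1
    rw [← Equiv.sum_comp σ (fun i => canon δ i.succ * v i.succ)]
    refine Finset.sum_congr rfl fun i _ => ?_
    rw [h i]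
    simp [canon]
  unfold IsConic
  rw [e1, e2]

end Groth.Agent.Lib.Helper8.DP
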