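import Groth.Agent.Lib.Helper8.DP3

set_option autoImplicit false
set_option maxRecDepth 1000000

namespace Groth.Agent.Lib.Helper8.DP

/-- roots -/
def roots_c4 : List (List ℤ) := [
  [-1, -1, -1, -1, 0],
  [-1, -1, -1, 0, -1],
  [-1, -1, 0, -1, -1],
  [-1, 0, -1, -1, -1],
  [0, -1, 0, 0, 1],
  [0, -1, 0, 1, 0],
  [0, -1, 1, 0, 0],
  [0, 0, -1, 0, 1],
  [0, 0, -1, 1, 0],
  [0, 0, 0, -1, 1],
  [0, 0, 0, 1, -1],
  [0, 0, 1, -1, 0],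
  [0, 0, 1, 0, -1],
  [0, 1, -1, 0, 0],
  [0, 1, 0, -1, 0],
  [0, 1, 0, 0, -1],
  [1, 0, 1, 1, 1],
  [1, 1, 0, 1, 1],
  [1, 1, 1, 0, 1],
  [1, 1, 1, 1, 0]]

/-- base class -/
def base_c4 : List ℤ := [1, 1, 0, 0, 0]

/-- orbit representatives -/
def reps_c4 : List (ℤ × List (List ℤ)) := [
  (0, [[1, 1, 0, 0, 0]]),
  (1, [[1, 0, 0, 0, 1]])]

/-- table of classes with certificates -/
def tab_c4 : List (List ℤ × List ℕ × List ℕ) := [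
  ([1, 0, 0, 0, 1], [4], []),
  ([1, 0, 0, 1, 0], [5], [9]),
  ([1, 0, 1, 0, 0], [6], [7]),
  ([1, 1, 0, 0, 0], [], []),
  ([2, 1, 1, 1, 1], [3], [0])]

theorem tab_c4_eq : conicsL 4 = tab_c4.map (·.1) := by decide +kernel

theorem tab_c4_check : checkTable 4 roots_c4 base_c4 reps_c4 tab_c4 = true := by
  decide +kernel

end Groth.Agent.Lib.Helper8.DP
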