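import Groth.Agent.Lib.Helper8.DP3

set_option autoImplicit false
set_option maxRecDepth 1000000

namespace Groth.Agent.Lib.Helper8.DP

/-- roots -/
def roots_c6 : List (List ℤ) := [
  [-2, -1, -1, -1, -1, -1, -1],
  [-1, -1, -1, -1, 0, 0, 0],
  [-1, -1, -1, 0, -1, 0, 0],
  [-1, -1, -1, 0, 0, -1, 0],
  [-1, -1, -1, 0, 0, 0, -1],
  [-1, -1, 0, -1, -1, 0, 0],
  [-1, -1, 0, -1, 0, -1, 0],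
  [-1, -1, 0, -1, 0, 0, -1],
  [-1, -1, 0, 0, -1, -1, 0],
  [-1, -1, 0, 0, -1, 0, -1],
  [-1, -1, 0, 0, 0, -1, -1],
  [-1, 0, -1, -1, -1, 0, 0],
  [-1, 0, -1, -1, 0, -1, 0],
  [-1, 0, -1, -1, 0, 0, -1],
  [-1, 0, -1, 0, -1, -1, 0],
  [-1, 0, -1, 0, -1, 0, -1],
  [-1, 0, -1, 0, 0, -1, -1],
  [-1, 0, 0, -1, -1, -1, 0],
  [-1, 0, 0, -1, -1, 0, -1],
  [-1, 0, 0, -1, 0, -1, -1],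
  [-1, 0, 0, 0, -1, -1, -1],
  [0, -1, 0, 0, 0, 0, 1],
  [0, -1, 0, 0, 0, 1, 0],
  [0, -1, 0, 0, 1, 0, 0],
  [0, -1, 0, 1, 0, 0, 0],
  [0, -1, 1, 0, 0, 0, 0],
  [0, 0, -1, 0, 0, 0, 1],
  [0, 0, -1, 0, 0, 1, 0],
  [0, 0, -1, 0, 1, 0, 0],
  [0, 0, -1, 1, 0, 0, 0],
  [0, 0, 0, -1, 0, 0, 1],
  [0, 0, 0, -1, 0, 1, 0],
  [0, 0, 0, -1, 1, 0, 0],
  [0, 0, 0, 0, -1, 0, 1],
  [0, 0, 0, 0, -1, 1, 0],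
  [0, 0, 0, 0, 0, -1, 1],
  [0, 0, 0, 0, 0, 1, -1],
  [0, 0, 0, 0, 1, -1, 0],
  [0, 0, 0, 0, 1, 0, -1],
  [0, 0, 0, 1, -1, 0, 0],
  [0, 0, 0, 1, 0, -1, 0],
  [0, 0, 0, 1, 0, 0, -1],
  [0, 0, 1, -1, 0, 0, 0],
  [0, 0, 1, 0, -1, 0, 0],
  [0, 0, 1, 0, 0, -1, 0],
  [0, 0, 1, 0, 0, 0, -1],
  [0, 1, -1, 0, 0, 0, 0],
  [0, 1, 0, -1, 0, 0, 0],
  [0, 1, 0, 0, -1, 0, 0],
  [0, 1, 0, 0, 0, -1, 0],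
  [0, 1, 0, 0, 0, 0, -1],
  [1, 0, 0, 0, 1, 1, 1],
  [1, 0, 0, 1, 0, 1, 1],
  [1, 0, 0, 1, 1, 0, 1],
  [1, 0, 0, 1, 1, 1, 0],
  [1, 0, 1, 0, 0, 1, 1],
  [1, 0, 1, 0, 1, 0, 1],
  [1, 0, 1, 0, 1, 1, 0],
  [1, 0, 1, 1, 0, 0, 1],
  [1, 0, 1, 1, 0, 1, 0],
  [1, 0, 1, 1, 1, 0, 0],
  [1, 1, 0, 0, 0, 1, 1],
  [1, 1, 0, 0, 1, 0, 1],
  [1, 1, 0, 0, 1, 1, 0],
  [1, 1, 0, 1, 0, 0, 1],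
  [1, 1, 0, 1, 0, 1, 0],
  [1, 1, 0, 1, 1, 0, 0],
  [1, 1, 1, 0, 0, 0, 1],
  [1, 1, 1, 0, 0, 1, 0],
  [1, 1, 1, 0, 1, 0, 0],
  [1, 1, 1, 1, 0, 0, 0],
  [2, 1, 1, 1, 1, 1, 1]]

/-- base class -/
def base_c6 : List ℤ := [1, 1, 0, 0, 0, 0, 0]

/-- orbit representatives -/
def reps_c6 : List (ℤ × List (List ℤ)) := [
  (0, [[1, 1, 0, 0, 0, 0, 0]]),
  (1, [[1, 0, 0, 0, 0, 0, 1]]),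
  (2, [[2, 0, 0, 1, 1, 1, 1]])]

/-- table of classes with certificates -/
def tab_c6 : List (List ℤ × List ℕ × List ℕ) := [
  ([1, 0, 0, 0, 0, 0, 1], [21], []),
  ([1, 0, 0, 0, 0, 1, 0], [22], [35]),
  ([1, 0, 0, 0, 1, 0, 0], [23], [33]),
  ([1, 0, 0, 1, 0, 0, 0], [24], [30]),
  ([1, 0, 1, 0, 0, 0, 0], [25], [26]),
  ([1, 1, 0, 0, 0, 0, 0], [], []),
  ([2, 0, 0, 1, 1, 1, 1], [21, 17], []),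
  ([2, 0, 1, 0, 1, 1, 1], [21, 14], [29]),
  ([2, 0, 1, 1, 0, 1, 1], [21, 12], [28]),
  ([2, 0, 1, 1, 1, 0, 1], [21, 11], [27]),
  ([2, 0, 1, 1, 1, 1, 0], [22, 11], [26]),
  ([2, 1, 0, 0, 1, 1, 1], [20], [8]),
  ([2, 1, 0, 1, 0, 1, 1], [19], [6]),
  ([2, 1, 0, 1, 1, 0, 1], [18], [5]),
  ([2, 1, 0, 1, 1, 1, 0], [17], [35, 5]),
  ([2, 1, 1, 0, 0, 1, 1], [16], [3]),
  ([2, 1, 1, 0, 1, 0, 1], [15], [2]),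
  ([2, 1, 1, 0, 1, 1, 0], [14], [35, 2]),
  ([2, 1, 1, 1, 0, 0, 1], [13], [1]),
  ([2, 1, 1, 1, 0, 1, 0], [12], [35, 1]),
  ([2, 1, 1, 1, 1, 0, 0], [11], [33, 1]),
  ([3, 1, 1, 1, 1, 1, 2], [21, 0], [4]),
  ([3, 1, 1, 1, 1, 2, 1], [22, 0], [3]),
  ([3, 1, 1, 1, 2, 1, 1], [23, 0], [2]),
  ([3, 1, 1, 2, 1, 1, 1], [24, 0], [1]),
  ([3, 1, 2, 1, 1, 1, 1], [25, 0], [29, 1]),
  ([3, 2, 1, 1, 1, 1, 1], [0], [8, 1])]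

theorem tab_c6_eq : conicsL 6 = tab_c6.map (·.1) := by decide +kernel

theorem tab_c6_check : checkTable 6 roots_c6 base_c6 reps_c6 tab_c6 = true := by
  decide +kernel

end Groth.Agent.Lib.Helper8.DP
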