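import Groth.Agent.Lib.Helper8.DP3

set_option autoImplicit false
set_option maxRecDepth 1000000

namespace Groth.Agent.Lib.Helper8.DP

/-- roots -/
def roots_c7 : List (List ℤ) := [
  [-2, -1, -1, -1, -1, -1, -1, 0],
  [-2, -1, -1, -1, -1, -1, 0, -1],
  [-2, -1, -1, -1, -1, 0, -1, -1],
  [-2, -1, -1, -1, 0, -1, -1, -1],
  [-2, -1, -1, 0, -1, -1, -1, -1],
  [-2, -1, 0, -1, -1, -1, -1, -1],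
  [-2, 0, -1, -1, -1, -1, -1, -1],
  [-1, -1, -1, -1, 0, 0, 0, 0],
  [-1, -1, -1, 0, -1, 0, 0, 0],
  [-1, -1, -1, 0, 0, -1, 0, 0],
  [-1, -1, -1, 0, 0, 0, -1, 0],
  [-1, -1, -1, 0, 0, 0, 0, -1],
  [-1, -1, 0, -1, -1, 0, 0, 0],
  [-1, -1, 0, -1, 0, -1, 0, 0],
  [-1, -1, 0, -1, 0, 0, -1, 0],
  [-1, -1, 0, -1, 0, 0, 0, -1],
  [-1, -1, 0, 0, -1, -1, 0, 0],
  [-1, -1, 0, 0, -1, 0, -1, 0],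
  [-1, -1, 0, 0, -1, 0, 0, -1],
  [-1, -1, 0, 0, 0, -1, -1, 0],
  [-1, -1, 0, 0, 0, -1, 0, -1],
  [-1, -1, 0, 0, 0, 0, -1, -1],
  [-1, 0, -1, -1, -1, 0, 0, 0],
  [-1, 0, -1, -1, 0, -1, 0, 0],
  [-1, 0, -1, -1, 0, 0, -1, 0],
  [-1, 0, -1, -1, 0, 0, 0, -1],
  [-1, 0, -1, 0, -1, -1, 0, 0],
  [-1, 0, -1, 0, -1, 0, -1, 0],
  [-1, 0, -1, 0, -1, 0, 0, -1],
  [-1, 0, -1, 0, 0, -1, -1, 0],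
  [-1, 0, -1, 0, 0, -1, 0, -1],
  [-1, 0, -1, 0, 0, 0, -1, -1],
  [-1, 0, 0, -1, -1, -1, 0, 0],
  [-1, 0, 0, -1, -1, 0, -1, 0],
  [-1, 0, 0, -1, -1, 0, 0, -1],
  [-1, 0, 0, -1, 0, -1, -1, 0],
  [-1, 0, 0, -1, 0, -1, 0, -1],
  [-1, 0, 0, -1, 0, 0, -1, -1],
  [-1, 0, 0, 0, -1, -1, -1, 0],
  [-1, 0, 0, 0, -1, -1, 0, -1],
  [-1, 0, 0, 0, -1, 0, -1, -1],
  [-1, 0, 0, 0, 0, -1, -1, -1],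
  [0, -1, 0, 0, 0, 0, 0, 1],
  [0, -1, 0, 0, 0, 0, 1, 0],
  [0, -1, 0, 0, 0, 1, 0, 0],
  [0, -1, 0, 0, 1, 0, 0, 0],
  [0, -1, 0, 1, 0, 0, 0, 0],
  [0, -1, 1, 0, 0, 0, 0, 0],
  [0, 0, -1, 0, 0, 0, 0, 1],
  [0, 0, -1, 0, 0, 0, 1, 0],
  [0, 0, -1, 0, 0, 1, 0, 0],
  [0, 0, -1, 0, 1, 0, 0, 0],
  [0, 0, -1, 1, 0, 0, 0, 0],
  [0, 0, 0, -1, 0, 0, 0, 1],
  [0, 0, 0, -1, 0, 0, 1, 0],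
  [0, 0, 0, -1, 0, 1, 0, 0],
  [0, 0, 0, -1, 1, 0, 0, 0],
  [0, 0, 0, 0, -1, 0, 0, 1],
  [0, 0, 0, 0, -1, 0, 1, 0],
  [0, 0, 0, 0, -1, 1, 0, 0],
  [0, 0, 0, 0, 0, -1, 0, 1],
  [0, 0, 0, 0, 0, -1, 1, 0],
  [0, 0, 0, 0, 0, 0, -1, 1],
  [0, 0, 0, 0, 0, 0, 1, -1],
  [0, 0, 0, 0, 0, 1, -1, 0],
  [0, 0, 0, 0, 0, 1, 0, -1],
  [0, 0, 0, 0, 1, -1, 0, 0],
  [0, 0, 0, 0, 1, 0, -1, 0],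
  [0, 0, 0, 0, 1, 0, 0, -1],
  [0, 0, 0, 1, -1, 0, 0, 0],
  [0, 0, 0, 1, 0, -1, 0, 0],
  [0, 0, 0, 1, 0, 0, -1, 0],
  [0, 0, 0, 1, 0, 0, 0, -1],
  [0, 0, 1, -1, 0, 0, 0, 0],
  [0, 0, 1, 0, -1, 0, 0, 0],
  [0, 0, 1, 0, 0, -1, 0, 0],
  [0, 0, 1, 0, 0, 0, -1, 0],
  [0, 0, 1, 0, 0, 0, 0, -1],
  [0, 1, -1, 0, 0, 0, 0, 0],
  [0, 1, 0, -1, 0, 0, 0, 0],
  [0, 1, 0, 0, -1, 0, 0, 0],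
  [0, 1, 0, 0, 0, -1, 0, 0],
  [0, 1, 0, 0, 0, 0, -1, 0],
  [0, 1, 0, 0, 0, 0, 0, -1],
  [1, 0, 0, 0, 0, 1, 1, 1],
  [1, 0, 0, 0, 1, 0, 1, 1],
  [1, 0, 0, 0, 1, 1, 0, 1],
  [1, 0, 0, 0, 1, 1, 1, 0],
  [1, 0, 0, 1, 0, 0, 1, 1],
  [1, 0, 0, 1, 0, 1, 0, 1],
  [1, 0, 0, 1, 0, 1, 1, 0],
  [1, 0, 0, 1, 1, 0, 0, 1],
  [1, 0, 0, 1, 1, 0, 1, 0],
  [1, 0, 0, 1, 1, 1, 0, 0],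
  [1, 0, 1, 0, 0, 0, 1, 1],
  [1, 0, 1, 0, 0, 1, 0, 1],
  [1, 0, 1, 0, 0, 1, 1, 0],
  [1, 0, 1, 0, 1, 0, 0, 1],
  [1, 0, 1, 0, 1, 0, 1, 0],
  [1, 0, 1, 0, 1, 1, 0, 0],
  [1, 0, 1, 1, 0, 0, 0, 1],
  [1, 0, 1, 1, 0, 0, 1, 0],
  [1, 0, 1, 1, 0, 1, 0, 0],
  [1, 0, 1, 1, 1, 0, 0, 0],
  [1, 1, 0, 0, 0, 0, 1, 1],
  [1, 1, 0, 0, 0, 1, 0, 1],
  [1, 1, 0, 0, 0, 1, 1, 0],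
  [1, 1, 0, 0, 1, 0, 0, 1],
  [1, 1, 0, 0, 1, 0, 1, 0],
  [1, 1, 0, 0, 1, 1, 0, 0],
  [1, 1, 0, 1, 0, 0, 0, 1],
  [1, 1, 0, 1, 0, 0, 1, 0],
  [1, 1, 0, 1, 0, 1, 0, 0],
  [1, 1, 0, 1, 1, 0, 0, 0],
  [1, 1, 1, 0, 0, 0, 0, 1],
  [1, 1, 1, 0, 0, 0, 1, 0],
  [1, 1, 1, 0, 0, 1, 0, 0],
  [1, 1, 1, 0, 1, 0, 0, 0],
  [1, 1, 1, 1, 0, 0, 0, 0],
  [2, 0, 1, 1, 1, 1, 1, 1],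
  [2, 1, 0, 1, 1, 1, 1, 1],
  [2, 1, 1, 0, 1, 1, 1, 1],
  [2, 1, 1, 1, 0, 1, 1, 1],
  [2, 1, 1, 1, 1, 0, 1, 1],
  [2, 1, 1, 1, 1, 1, 0, 1],
  [2, 1, 1, 1, 1, 1, 1, 0]]

/-- base class -/
def base_c7 : List ℤ := [1, 1, 0, 0, 0, 0, 0, 0]

/-- orbit representatives -/
def reps_c7 : List (ℤ × List (List ℤ)) := [
  (0, [[1, 1, 0, 0, 0, 0, 0, 0]]),
  (1, [[1, 0, 0, 0, 0, 0, 0, 1]]),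
  (2, [[2, 0, 0, 0, 1, 1, 1, 1]]),
  (3, [[3, 0, 1, 1, 1, 1, 1, 2]]),
  (4, [[5, 1, 2, 2, 2, 2, 2, 2]])]

/-- table of classes with certificates -/
def tab_c7 : List (List ℤ × List ℕ × List ℕ) := [
  ([1, 0, 0, 0, 0, 0, 0, 1], [42], []),
  ([1, 0, 0, 0, 0, 0, 1, 0], [43], [62]),
  ([1, 0, 0, 0, 0, 1, 0, 0], [44], [60]),
  ([1, 0, 0, 0, 1, 0, 0, 0], [45], [57]),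
  ([1, 0, 0, 1, 0, 0, 0, 0], [46], [53]),
  ([1, 0, 1, 0, 0, 0, 0, 0], [47], [48]),
  ([1, 1, 0, 0, 0, 0, 0, 0], [], []),
  ([2, 0, 0, 0, 1, 1, 1, 1], [42, 38], []),
  ([2, 0, 0, 1, 0, 1, 1, 1], [42, 35], [56]),
  ([2, 0, 0, 1, 1, 0, 1, 1], [42, 33], [55]),
  ([2, 0, 0, 1, 1, 1, 0, 1], [42, 32], [54]),
  ([2, 0, 0, 1, 1, 1, 1, 0], [43, 32], [53]),
  ([2, 0, 1, 0, 0, 1, 1, 1], [42, 29], [51]),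
  ([2, 0, 1, 0, 1, 0, 1, 1], [42, 27], [50]),
  ([2, 0, 1, 0, 1, 1, 0, 1], [42, 26], [49]),
  ([2, 0, 1, 0, 1, 1, 1, 0], [43, 26], [48]),
  ([2, 0, 1, 1, 0, 0, 1, 1], [42, 24], [56, 50]),
  ([2, 0, 1, 1, 0, 1, 0, 1], [42, 23], [56, 49]),
  ([2, 0, 1, 1, 0, 1, 1, 0], [43, 23], [56, 48]),
  ([2, 0, 1, 1, 1, 0, 0, 1], [42, 22], [55, 49]),
  ([2, 0, 1, 1, 1, 0, 1, 0], [43, 22], [55, 48]),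
  ([2, 0, 1, 1, 1, 1, 0, 0], [44, 22], [54, 48]),
  ([2, 1, 0, 0, 0, 1, 1, 1], [41], [19]),
  ([2, 1, 0, 0, 1, 0, 1, 1], [40], [17]),
  ([2, 1, 0, 0, 1, 1, 0, 1], [39], [16]),
  ([2, 1, 0, 0, 1, 1, 1, 0], [38], [62, 16]),
  ([2, 1, 0, 1, 0, 0, 1, 1], [37], [14]),
  ([2, 1, 0, 1, 0, 1, 0, 1], [36], [13]),
  ([2, 1, 0, 1, 0, 1, 1, 0], [35], [62, 13]),
  ([2, 1, 0, 1, 1, 0, 0, 1], [34], [12]),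
  ([2, 1, 0, 1, 1, 0, 1, 0], [33], [62, 12]),
  ([2, 1, 0, 1, 1, 1, 0, 0], [32], [60, 12]),
  ([2, 1, 1, 0, 0, 0, 1, 1], [31], [10]),
  ([2, 1, 1, 0, 0, 1, 0, 1], [30], [9]),
  ([2, 1, 1, 0, 0, 1, 1, 0], [29], [62, 9]),
  ([2, 1, 1, 0, 1, 0, 0, 1], [28], [8]),
  ([2, 1, 1, 0, 1, 0, 1, 0], [27], [62, 8]),
  ([2, 1, 1, 0, 1, 1, 0, 0], [26], [60, 8]),
  ([2, 1, 1, 1, 0, 0, 0, 1], [25], [7]),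
  ([2, 1, 1, 1, 0, 0, 1, 0], [24], [62, 7]),
  ([2, 1, 1, 1, 0, 1, 0, 0], [23], [60, 7]),
  ([2, 1, 1, 1, 1, 0, 0, 0], [22], [57, 7]),
  ([3, 0, 1, 1, 1, 1, 1, 2], [42, 0], []),
  ([3, 0, 1, 1, 1, 1, 2, 1], [43, 1], [62]),
  ([3, 0, 1, 1, 1, 2, 1, 1], [44, 2], [60]),
  ([3, 0, 1, 1, 2, 1, 1, 1], [45, 3], [57]),
  ([3, 0, 1, 2, 1, 1, 1, 1], [46, 4], [53]),
  ([3, 0, 2, 1, 1, 1, 1, 1], [47, 5], [48]),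
  ([3, 1, 0, 1, 1, 1, 1, 2], [42, 5], [15]),
  ([3, 1, 0, 1, 1, 1, 2, 1], [43, 5], [14]),
  ([3, 1, 0, 1, 1, 2, 1, 1], [44, 5], [13]),
  ([3, 1, 0, 1, 2, 1, 1, 1], [45, 5], [12]),
  ([3, 1, 0, 2, 1, 1, 1, 1], [46, 5], [56, 12]),
  ([3, 1, 1, 0, 1, 1, 1, 2], [42, 4], [11]),
  ([3, 1, 1, 0, 1, 1, 2, 1], [43, 4], [10]),
  ([3, 1, 1, 0, 1, 2, 1, 1], [44, 4], [9]),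
  ([3, 1, 1, 0, 2, 1, 1, 1], [45, 4], [8]),
  ([3, 1, 1, 1, 0, 1, 1, 2], [42, 3], [56, 11]),
  ([3, 1, 1, 1, 0, 1, 2, 1], [43, 3], [56, 10]),
  ([3, 1, 1, 1, 0, 2, 1, 1], [44, 3], [56, 9]),
  ([3, 1, 1, 1, 1, 0, 1, 2], [42, 2], [55, 11]),
  ([3, 1, 1, 1, 1, 0, 2, 1], [43, 2], [55, 10]),
  ([3, 1, 1, 1, 1, 1, 0, 2], [42, 1], [54, 11]),
  ([3, 1, 1, 1, 1, 1, 2, 0], [43, 0], [53, 10]),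
  ([3, 1, 1, 1, 1, 2, 0, 1], [44, 1], [54, 9]),
  ([3, 1, 1, 1, 1, 2, 1, 0], [44, 0], [53, 9]),
  ([3, 1, 1, 1, 2, 0, 1, 1], [45, 2], [55, 8]),
  ([3, 1, 1, 1, 2, 1, 0, 1], [45, 1], [54, 8]),
  ([3, 1, 1, 1, 2, 1, 1, 0], [45, 0], [53, 8]),
  ([3, 1, 1, 2, 0, 1, 1, 1], [46, 3], [8, 7]),
  ([3, 1, 1, 2, 1, 0, 1, 1], [46, 2], [9, 7]),
  ([3, 1, 1, 2, 1, 1, 0, 1], [46, 1], [10, 7]),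
  ([3, 1, 1, 2, 1, 1, 1, 0], [46, 0], [11, 7]),
  ([3, 1, 2, 0, 1, 1, 1, 1], [47, 4], [51, 8]),
  ([3, 1, 2, 1, 0, 1, 1, 1], [47, 3], [12, 7]),
  ([3, 1, 2, 1, 1, 0, 1, 1], [47, 2], [13, 7]),
  ([3, 1, 2, 1, 1, 1, 0, 1], [47, 1], [14, 7]),
  ([3, 1, 2, 1, 1, 1, 1, 0], [47, 0], [15, 7]),
  ([3, 2, 0, 1, 1, 1, 1, 1], [5], [19, 12]),
  ([3, 2, 1, 0, 1, 1, 1, 1], [4], [19, 8]),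
  ([3, 2, 1, 1, 0, 1, 1, 1], [3], [19, 7]),
  ([3, 2, 1, 1, 1, 0, 1, 1], [2], [17, 7]),
  ([3, 2, 1, 1, 1, 1, 0, 1], [1], [16, 7]),
  ([3, 2, 1, 1, 1, 1, 1, 0], [0], [62, 16, 7]),
  ([4, 1, 1, 1, 1, 2, 2, 2], [22, 6], [19]),
  ([4, 1, 1, 1, 2, 1, 2, 2], [23, 6], [17]),
  ([4, 1, 1, 1, 2, 2, 1, 2], [24, 6], [16]),
  ([4, 1, 1, 1, 2, 2, 2, 1], [25, 6], [62, 16]),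
  ([4, 1, 1, 2, 1, 1, 2, 2], [26, 6], [14]),
  ([4, 1, 1, 2, 1, 2, 1, 2], [27, 6], [13]),
  ([4, 1, 1, 2, 1, 2, 2, 1], [28, 6], [62, 13]),
  ([4, 1, 1, 2, 2, 1, 1, 2], [29, 6], [12]),
  ([4, 1, 1, 2, 2, 1, 2, 1], [30, 6], [62, 12]),
  ([4, 1, 1, 2, 2, 2, 1, 1], [31, 6], [60, 12]),
  ([4, 1, 2, 1, 1, 1, 2, 2], [32, 6], [10]),
  ([4, 1, 2, 1, 1, 2, 1, 2], [33, 6], [9]),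
  ([4, 1, 2, 1, 1, 2, 2, 1], [34, 6], [62, 9]),
  ([4, 1, 2, 1, 2, 1, 1, 2], [35, 6], [8]),
  ([4, 1, 2, 1, 2, 1, 2, 1], [36, 6], [62, 8]),
  ([4, 1, 2, 1, 2, 2, 1, 1], [37, 6], [60, 8]),
  ([4, 1, 2, 2, 1, 1, 1, 2], [38, 6], [7]),
  ([4, 1, 2, 2, 1, 1, 2, 1], [39, 6], [62, 7]),
  ([4, 1, 2, 2, 1, 2, 1, 1], [40, 6], [60, 7]),
  ([4, 1, 2, 2, 2, 1, 1, 1], [41, 6], [57, 7]),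
  ([4, 2, 1, 1, 1, 1, 2, 2], [41, 2], [15, 10]),
  ([4, 2, 1, 1, 1, 2, 1, 2], [41, 1], [15, 9]),
  ([4, 2, 1, 1, 1, 2, 2, 1], [41, 0], [14, 9]),
  ([4, 2, 1, 1, 2, 1, 1, 2], [40, 1], [15, 8]),
  ([4, 2, 1, 1, 2, 1, 2, 1], [40, 0], [14, 8]),
  ([4, 2, 1, 1, 2, 2, 1, 1], [39, 0], [13, 8]),
  ([4, 2, 1, 2, 1, 1, 1, 2], [37, 1], [48, 7]),
  ([4, 2, 1, 2, 1, 1, 2, 1], [37, 0], [49, 7]),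
  ([4, 2, 1, 2, 1, 2, 1, 1], [36, 0], [50, 7]),
  ([4, 2, 1, 2, 2, 1, 1, 1], [34, 0], [51, 7]),
  ([4, 2, 2, 1, 1, 1, 1, 2], [31, 1], [53, 7]),
  ([4, 2, 2, 1, 1, 1, 2, 1], [31, 0], [54, 7]),
  ([4, 2, 2, 1, 1, 2, 1, 1], [30, 0], [55, 7]),
  ([4, 2, 2, 1, 2, 1, 1, 1], [28, 0], [56, 7]),
  ([4, 2, 2, 2, 1, 1, 1, 1], [25, 0], [7]),
  ([5, 1, 2, 2, 2, 2, 2, 2], [6], []),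
  ([5, 2, 1, 2, 2, 2, 2, 2], [6, 5], [19, 12]),
  ([5, 2, 2, 1, 2, 2, 2, 2], [6, 4], [19, 8]),
  ([5, 2, 2, 2, 1, 2, 2, 2], [6, 3], [19, 7]),
  ([5, 2, 2, 2, 2, 1, 2, 2], [6, 2], [17, 7]),
  ([5, 2, 2, 2, 2, 2, 1, 2], [6, 1], [16, 7]),
  ([5, 2, 2, 2, 2, 2, 2, 1], [6, 0], [62, 16, 7])]

theorem tab_c7_eq : conicsL 7 = tab_c7.map (·.1) := by decide +kernel

theorem tab_c7_check : checkTable 7 roots_c7 base_c7 reps_c7 tab_c7 = true := by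
  decide +kernel

end Groth.Agent.Lib.Helper8.DP
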