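import Groth.Agent.Lib.Helper8.DP3

set_option autoImplicit false
set_option maxRecDepth 1000000

namespace Groth.Agent.Lib.Helper8.DP

/-- roots -/
def roots_c8 : List (List ℤ) := [
  [-3, -2, -1, -1, -1, -1, -1, -1, -1],
  [-3, -1, -2, -1, -1, -1, -1, -1, -1],
  [-3, -1, -1, -2, -1, -1, -1, -1, -1],
  [-3, -1, -1, -1, -2, -1, -1, -1, -1],
  [-3, -1, -1, -1, -1, -2, -1, -1, -1],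
  [-3, -1, -1, -1, -1, -1, -2, -1, -1],
  [-3, -1, -1, -1, -1, -1, -1, -2, -1],
  [-3, -1, -1, -1, -1, -1, -1, -1, -2],
  [-2, -1, -1, -1, -1, -1, -1, 0, 0],
  [-2, -1, -1, -1, -1, -1, 0, -1, 0],
  [-2, -1, -1, -1, -1, -1, 0, 0, -1],
  [-2, -1, -1, -1, -1, 0, -1, -1, 0],
  [-2, -1, -1, -1, -1, 0, -1, 0, -1],
  [-2, -1, -1, -1, -1, 0, 0, -1, -1],
  [-2, -1, -1, -1, 0, -1, -1, -1, 0],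
  [-2, -1, -1, -1, 0, -1, -1, 0, -1],
  [-2, -1, -1, -1, 0, -1, 0, -1, -1],
  [-2, -1, -1, -1, 0, 0, -1, -1, -1],
  [-2, -1, -1, 0, -1, -1, -1, -1, 0],
  [-2, -1, -1, 0, -1, -1, -1, 0, -1],
  [-2, -1, -1, 0, -1, -1, 0, -1, -1],
  [-2, -1, -1, 0, -1, 0, -1, -1, -1],
  [-2, -1, -1, 0, 0, -1, -1, -1, -1],
  [-2, -1, 0, -1, -1, -1, -1, -1, 0],
  [-2, -1, 0, -1, -1, -1, -1, 0, -1],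
  [-2, -1, 0, -1, -1, -1, 0, -1, -1],
  [-2, -1, 0, -1, -1, 0, -1, -1, -1],
  [-2, -1, 0, -1, 0, -1, -1, -1, -1],
  [-2, -1, 0, 0, -1, -1, -1, -1, -1],
  [-2, 0, -1, -1, -1, -1, -1, -1, 0],
  [-2, 0, -1, -1, -1, -1, -1, 0, -1],
  [-2, 0, -1, -1, -1, -1, 0, -1, -1],
  [-2, 0, -1, -1, -1, 0, -1, -1, -1],
  [-2, 0, -1, -1, 0, -1, -1, -1, -1],
  [-2, 0, -1, 0, -1, -1, -1, -1, -1],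
  [-2, 0, 0, -1, -1, -1, -1, -1, -1],
  [-1, -1, -1, -1, 0, 0, 0, 0, 0],
  [-1, -1, -1, 0, -1, 0, 0, 0, 0],
  [-1, -1, -1, 0, 0, -1, 0, 0, 0],
  [-1, -1, -1, 0, 0, 0, -1, 0, 0],
  [-1, -1, -1, 0, 0, 0, 0, -1, 0],
  [-1, -1, -1, 0, 0, 0, 0, 0, -1],
  [-1, -1, 0, -1, -1, 0, 0, 0, 0],
  [-1, -1, 0, -1, 0, -1, 0, 0, 0],
  [-1, -1, 0, -1, 0, 0, -1, 0, 0],
  [-1, -1, 0, -1, 0, 0, 0, -1, 0],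
  [-1, -1, 0, -1, 0, 0, 0, 0, -1],
  [-1, -1, 0, 0, -1, -1, 0, 0, 0],
  [-1, -1, 0, 0, -1, 0, -1, 0, 0],
  [-1, -1, 0, 0, -1, 0, 0, -1, 0],
  [-1, -1, 0, 0, -1, 0, 0, 0, -1],
  [-1, -1, 0, 0, 0, -1, -1, 0, 0],
  [-1, -1, 0, 0, 0, -1, 0, -1, 0],
  [-1, -1, 0, 0, 0, -1, 0, 0, -1],
  [-1, -1, 0, 0, 0, 0, -1, -1, 0],
  [-1, -1, 0, 0, 0, 0, -1, 0, -1],
  [-1, -1, 0, 0, 0, 0, 0, -1, -1],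
  [-1, 0, -1, -1, -1, 0, 0, 0, 0],
  [-1, 0, -1, -1, 0, -1, 0, 0, 0],
  [-1, 0, -1, -1, 0, 0, -1, 0, 0],
  [-1, 0, -1, -1, 0, 0, 0, -1, 0],
  [-1, 0, -1, -1, 0, 0, 0, 0, -1],
  [-1, 0, -1, 0, -1, -1, 0, 0, 0],
  [-1, 0, -1, 0, -1, 0, -1, 0, 0],
  [-1, 0, -1, 0, -1, 0, 0, -1, 0],
  [-1, 0, -1, 0, -1, 0, 0, 0, -1],
  [-1, 0, -1, 0, 0, -1, -1, 0, 0],
  [-1, 0, -1, 0, 0, -1, 0, -1, 0],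
  [-1, 0, -1, 0, 0, -1, 0, 0, -1],
  [-1, 0, -1, 0, 0, 0, -1, -1, 0],
  [-1, 0, -1, 0, 0, 0, -1, 0, -1],
  [-1, 0, -1, 0, 0, 0, 0, -1, -1],
  [-1, 0, 0, -1, -1, -1, 0, 0, 0],
  [-1, 0, 0, -1, -1, 0, -1, 0, 0],
  [-1, 0, 0, -1, -1, 0, 0, -1, 0],
  [-1, 0, 0, -1, -1, 0, 0, 0, -1],
  [-1, 0, 0, -1, 0, -1, -1, 0, 0],
  [-1, 0, 0, -1, 0, -1, 0, -1, 0],
  [-1, 0, 0, -1, 0, -1, 0, 0, -1],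
  [-1, 0, 0, -1, 0, 0, -1, -1, 0],
  [-1, 0, 0, -1, 0, 0, -1, 0, -1],
  [-1, 0, 0, -1, 0, 0, 0, -1, -1],
  [-1, 0, 0, 0, -1, -1, -1, 0, 0],
  [-1, 0, 0, 0, -1, -1, 0, -1, 0],
  [-1, 0, 0, 0, -1, -1, 0, 0, -1],
  [-1, 0, 0, 0, -1, 0, -1, -1, 0],
  [-1, 0, 0, 0, -1, 0, -1, 0, -1],
  [-1, 0, 0, 0, -1, 0, 0, -1, -1],
  [-1, 0, 0, 0, 0, -1, -1, -1, 0],
  [-1, 0, 0, 0, 0, -1, -1, 0, -1],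
  [-1, 0, 0, 0, 0, -1, 0, -1, -1],
  [-1, 0, 0, 0, 0, 0, -1, -1, -1],
  [0, -1, 0, 0, 0, 0, 0, 0, 1],
  [0, -1, 0, 0, 0, 0, 0, 1, 0],
  [0, -1, 0, 0, 0, 0, 1, 0, 0],
  [0, -1, 0, 0, 0, 1, 0, 0, 0],
  [0, -1, 0, 0, 1, 0, 0, 0, 0],
  [0, -1, 0, 1, 0, 0, 0, 0, 0],
  [0, -1, 1, 0, 0, 0, 0, 0, 0],
  [0, 0, -1, 0, 0, 0, 0, 0, 1],
  [0, 0, -1, 0, 0, 0, 0, 1, 0],
  [0, 0, -1, 0, 0, 0, 1, 0, 0],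
  [0, 0, -1, 0, 0, 1, 0, 0, 0],
  [0, 0, -1, 0, 1, 0, 0, 0, 0],
  [0, 0, -1, 1, 0, 0, 0, 0, 0],
  [0, 0, 0, -1, 0, 0, 0, 0, 1],
  [0, 0, 0, -1, 0, 0, 0, 1, 0],
  [0, 0, 0, -1, 0, 0, 1, 0, 0],
  [0, 0, 0, -1, 0, 1, 0, 0, 0],
  [0, 0, 0, -1, 1, 0, 0, 0, 0],
  [0, 0, 0, 0, -1, 0, 0, 0, 1],
  [0, 0, 0, 0, -1, 0, 0, 1, 0],
  [0, 0, 0, 0, -1, 0, 1, 0, 0],
  [0, 0, 0, 0, -1, 1, 0, 0, 0],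
  [0, 0, 0, 0, 0, -1, 0, 0, 1],
  [0, 0, 0, 0, 0, -1, 0, 1, 0],
  [0, 0, 0, 0, 0, -1, 1, 0, 0],
  [0, 0, 0, 0, 0, 0, -1, 0, 1],
  [0, 0, 0, 0, 0, 0, -1, 1, 0],
  [0, 0, 0, 0, 0, 0, 0, -1, 1],
  [0, 0, 0, 0, 0, 0, 0, 1, -1],
  [0, 0, 0, 0, 0, 0, 1, -1, 0],
  [0, 0, 0, 0, 0, 0, 1, 0, -1],
  [0, 0, 0, 0, 0, 1, -1, 0, 0],
  [0, 0, 0, 0, 0, 1, 0, -1, 0],
  [0, 0, 0, 0, 0, 1, 0, 0, -1],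
  [0, 0, 0, 0, 1, -1, 0, 0, 0],
  [0, 0, 0, 0, 1, 0, -1, 0, 0],
  [0, 0, 0, 0, 1, 0, 0, -1, 0],
  [0, 0, 0, 0, 1, 0, 0, 0, -1],
  [0, 0, 0, 1, -1, 0, 0, 0, 0],
  [0, 0, 0, 1, 0, -1, 0, 0, 0],
  [0, 0, 0, 1, 0, 0, -1, 0, 0],
  [0, 0, 0, 1, 0, 0, 0, -1, 0],
  [0, 0, 0, 1, 0, 0, 0, 0, -1],
  [0, 0, 1, -1, 0, 0, 0, 0, 0],
  [0, 0, 1, 0, -1, 0, 0, 0, 0],
  [0, 0, 1, 0, 0, -1, 0, 0, 0],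
  [0, 0, 1, 0, 0, 0, -1, 0, 0],
  [0, 0, 1, 0, 0, 0, 0, -1, 0],
  [0, 0, 1, 0, 0, 0, 0, 0, -1],
  [0, 1, -1, 0, 0, 0, 0, 0, 0],
  [0, 1, 0, -1, 0, 0, 0, 0, 0],
  [0, 1, 0, 0, -1, 0, 0, 0, 0],
  [0, 1, 0, 0, 0, -1, 0, 0, 0],
  [0, 1, 0, 0, 0, 0, -1, 0, 0],
  [0, 1, 0, 0, 0, 0, 0, -1, 0],
  [0, 1, 0, 0, 0, 0, 0, 0, -1],
  [1, 0, 0, 0, 0, 0, 1, 1, 1],
  [1, 0, 0, 0, 0, 1, 0, 1, 1],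
  [1, 0, 0, 0, 0, 1, 1, 0, 1],
  [1, 0, 0, 0, 0, 1, 1, 1, 0],
  [1, 0, 0, 0, 1, 0, 0, 1, 1],
  [1, 0, 0, 0, 1, 0, 1, 0, 1],
  [1, 0, 0, 0, 1, 0, 1, 1, 0],
  [1, 0, 0, 0, 1, 1, 0, 0, 1],
  [1, 0, 0, 0, 1, 1, 0, 1, 0],
  [1, 0, 0, 0, 1, 1, 1, 0, 0],
  [1, 0, 0, 1, 0, 0, 0, 1, 1],
  [1, 0, 0, 1, 0, 0, 1, 0, 1],
  [1, 0, 0, 1, 0, 0, 1, 1, 0],
  [1, 0, 0, 1, 0, 1, 0, 0, 1],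
  [1, 0, 0, 1, 0, 1, 0, 1, 0],
  [1, 0, 0, 1, 0, 1, 1, 0, 0],
  [1, 0, 0, 1, 1, 0, 0, 0, 1],
  [1, 0, 0, 1, 1, 0, 0, 1, 0],
  [1, 0, 0, 1, 1, 0, 1, 0, 0],
  [1, 0, 0, 1, 1, 1, 0, 0, 0],
  [1, 0, 1, 0, 0, 0, 0, 1, 1],
  [1, 0, 1, 0, 0, 0, 1, 0, 1],
  [1, 0, 1, 0, 0, 0, 1, 1, 0],
  [1, 0, 1, 0, 0, 1, 0, 0, 1],
  [1, 0, 1, 0, 0, 1, 0, 1, 0],
  [1, 0, 1, 0, 0, 1, 1, 0, 0],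
  [1, 0, 1, 0, 1, 0, 0, 0, 1],
  [1, 0, 1, 0, 1, 0, 0, 1, 0],
  [1, 0, 1, 0, 1, 0, 1, 0, 0],
  [1, 0, 1, 0, 1, 1, 0, 0, 0],
  [1, 0, 1, 1, 0, 0, 0, 0, 1],
  [1, 0, 1, 1, 0, 0, 0, 1, 0],
  [1, 0, 1, 1, 0, 0, 1, 0, 0],
  [1, 0, 1, 1, 0, 1, 0, 0, 0],
  [1, 0, 1, 1, 1, 0, 0, 0, 0],
  [1, 1, 0, 0, 0, 0, 0, 1, 1],
  [1, 1, 0, 0, 0, 0, 1, 0, 1],
  [1, 1, 0, 0, 0, 0, 1, 1, 0],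
  [1, 1, 0, 0, 0, 1, 0, 0, 1],
  [1, 1, 0, 0, 0, 1, 0, 1, 0],
  [1, 1, 0, 0, 0, 1, 1, 0, 0],
  [1, 1, 0, 0, 1, 0, 0, 0, 1],
  [1, 1, 0, 0, 1, 0, 0, 1, 0],
  [1, 1, 0, 0, 1, 0, 1, 0, 0],
  [1, 1, 0, 0, 1, 1, 0, 0, 0],
  [1, 1, 0, 1, 0, 0, 0, 0, 1],
  [1, 1, 0, 1, 0, 0, 0, 1, 0],
  [1, 1, 0, 1, 0, 0, 1, 0, 0],
  [1, 1, 0, 1, 0, 1, 0, 0, 0],
  [1, 1, 0, 1, 1, 0, 0, 0, 0],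
  [1, 1, 1, 0, 0, 0, 0, 0, 1],
  [1, 1, 1, 0, 0, 0, 0, 1, 0],
  [1, 1, 1, 0, 0, 0, 1, 0, 0],
  [1, 1, 1, 0, 0, 1, 0, 0, 0],
  [1, 1, 1, 0, 1, 0, 0, 0, 0],
  [1, 1, 1, 1, 0, 0, 0, 0, 0],
  [2, 0, 0, 1, 1, 1, 1, 1, 1],
  [2, 0, 1, 0, 1, 1, 1, 1, 1],
  [2, 0, 1, 1, 0, 1, 1, 1, 1],
  [2, 0, 1, 1, 1, 0, 1, 1, 1],
  [2, 0, 1, 1, 1, 1, 0, 1, 1],
  [2, 0, 1, 1, 1, 1, 1, 0, 1],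
  [2, 0, 1, 1, 1, 1, 1, 1, 0],
  [2, 1, 0, 0, 1, 1, 1, 1, 1],
  [2, 1, 0, 1, 0, 1, 1, 1, 1],
  [2, 1, 0, 1, 1, 0, 1, 1, 1],
  [2, 1, 0, 1, 1, 1, 0, 1, 1],
  [2, 1, 0, 1, 1, 1, 1, 0, 1],
  [2, 1, 0, 1, 1, 1, 1, 1, 0],
  [2, 1, 1, 0, 0, 1, 1, 1, 1],
  [2, 1, 1, 0, 1, 0, 1, 1, 1],
  [2, 1, 1, 0, 1, 1, 0, 1, 1],
  [2, 1, 1, 0, 1, 1, 1, 0, 1],
  [2, 1, 1, 0, 1, 1, 1, 1, 0],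
  [2, 1, 1, 1, 0, 0, 1, 1, 1],
  [2, 1, 1, 1, 0, 1, 0, 1, 1],
  [2, 1, 1, 1, 0, 1, 1, 0, 1],
  [2, 1, 1, 1, 0, 1, 1, 1, 0],
  [2, 1, 1, 1, 1, 0, 0, 1, 1],
  [2, 1, 1, 1, 1, 0, 1, 0, 1],
  [2, 1, 1, 1, 1, 0, 1, 1, 0],
  [2, 1, 1, 1, 1, 1, 0, 0, 1],
  [2, 1, 1, 1, 1, 1, 0, 1, 0],
  [2, 1, 1, 1, 1, 1, 1, 0, 0],
  [3, 1, 1, 1, 1, 1, 1, 1, 2],
  [3, 1, 1, 1, 1, 1, 1, 2, 1],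
  [3, 1, 1, 1, 1, 1, 2, 1, 1],
  [3, 1, 1, 1, 1, 2, 1, 1, 1],
  [3, 1, 1, 1, 2, 1, 1, 1, 1],
  [3, 1, 1, 2, 1, 1, 1, 1, 1],
  [3, 1, 2, 1, 1, 1, 1, 1, 1],
  [3, 2, 1, 1, 1, 1, 1, 1, 1]]

/-- base class -/
def base_c8 : List ℤ := [1, 1, 0, 0, 0, 0, 0, 0, 0]

/-- orbit representatives -/
def reps_c8 : List (ℤ × List (List ℤ)) := [
  (0, [[1, 1, 0, 0, 0, 0, 0, 0, 0]]),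
  (1, [[1, 0, 0, 0, 0, 0, 0, 0, 1]]),
  (2, [[2, 0, 0, 0, 0, 1, 1, 1, 1]]),
  (3, [[3, 0, 0, 1, 1, 1, 1, 1, 2]]),
  (4, [[4, 0, 1, 1, 1, 1, 2, 2, 2], [5, 1, 0, 2, 2, 2, 2, 2, 2]]),
  (5, [[5, 0, 1, 2, 2, 2, 2, 2, 2]]),
  (6, [[7, 1, 2, 2, 2, 3, 3, 3, 3]]),
  (7, [[8, 1, 3, 3, 3, 3, 3, 3, 3]]),
  (8, [[11, 3, 4, 4, 4, 4, 4, 4, 4]])]

/-- table of classes with certificates -/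
def tab_c8 : List (List ℤ × List ℕ × List ℕ) := [
  ([1, 0, 0, 0, 0, 0, 0, 0, 1], [92], []),
  ([1, 0, 0, 0, 0, 0, 0, 1, 0], [93], [119]),
  ([1, 0, 0, 0, 0, 0, 1, 0, 0], [94], [117]),
  ([1, 0, 0, 0, 0, 1, 0, 0, 0], [95], [114]),
  ([1, 0, 0, 0, 1, 0, 0, 0, 0], [96], [110]),
  ([1, 0, 0, 1, 0, 0, 0, 0, 0], [97], [105]),
  ([1, 0, 1, 0, 0, 0, 0, 0, 0], [98], [99]),
  ([1, 1, 0, 0, 0, 0, 0, 0, 0], [], []),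
  ([2, 0, 0, 0, 0, 1, 1, 1, 1], [92, 88], []),
  ([2, 0, 0, 0, 1, 0, 1, 1, 1], [92, 85], [113]),
  ([2, 0, 0, 0, 1, 1, 0, 1, 1], [92, 83], [112]),
  ([2, 0, 0, 0, 1, 1, 1, 0, 1], [92, 82], [111]),
  ([2, 0, 0, 0, 1, 1, 1, 1, 0], [93, 82], [110]),
  ([2, 0, 0, 1, 0, 0, 1, 1, 1], [92, 79], [108]),
  ([2, 0, 0, 1, 0, 1, 0, 1, 1], [92, 77], [107]),
  ([2, 0, 0, 1, 0, 1, 1, 0, 1], [92, 76], [106]),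
  ([2, 0, 0, 1, 0, 1, 1, 1, 0], [93, 76], [105]),
  ([2, 0, 0, 1, 1, 0, 0, 1, 1], [92, 74], [113, 107]),
  ([2, 0, 0, 1, 1, 0, 1, 0, 1], [92, 73], [113, 106]),
  ([2, 0, 0, 1, 1, 0, 1, 1, 0], [93, 73], [113, 105]),
  ([2, 0, 0, 1, 1, 1, 0, 0, 1], [92, 72], [112, 106]),
  ([2, 0, 0, 1, 1, 1, 0, 1, 0], [93, 72], [112, 105]),
  ([2, 0, 0, 1, 1, 1, 1, 0, 0], [94, 72], [111, 105]),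
  ([2, 0, 1, 0, 0, 0, 1, 1, 1], [92, 69], [102]),
  ([2, 0, 1, 0, 0, 1, 0, 1, 1], [92, 67], [101]),
  ([2, 0, 1, 0, 0, 1, 1, 0, 1], [92, 66], [100]),
  ([2, 0, 1, 0, 0, 1, 1, 1, 0], [93, 66], [99]),
  ([2, 0, 1, 0, 1, 0, 0, 1, 1], [92, 64], [113, 101]),
  ([2, 0, 1, 0, 1, 0, 1, 0, 1], [92, 63], [113, 100]),
  ([2, 0, 1, 0, 1, 0, 1, 1, 0], [93, 63], [113, 99]),
  ([2, 0, 1, 0, 1, 1, 0, 0, 1], [92, 62], [112, 100]),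
  ([2, 0, 1, 0, 1, 1, 0, 1, 0], [93, 62], [112, 99]),
  ([2, 0, 1, 0, 1, 1, 1, 0, 0], [94, 62], [111, 99]),
  ([2, 0, 1, 1, 0, 0, 0, 1, 1], [92, 60], [108, 101]),
  ([2, 0, 1, 1, 0, 0, 1, 0, 1], [92, 59], [108, 100]),
  ([2, 0, 1, 1, 0, 0, 1, 1, 0], [93, 59], [108, 99]),
  ([2, 0, 1, 1, 0, 1, 0, 0, 1], [92, 58], [107, 100]),
  ([2, 0, 1, 1, 0, 1, 0, 1, 0], [93, 58], [107, 99]),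
  ([2, 0, 1, 1, 0, 1, 1, 0, 0], [94, 58], [106, 99]),
  ([2, 0, 1, 1, 1, 0, 0, 0, 1], [92, 57], [113, 107, 100]),
  ([2, 0, 1, 1, 1, 0, 0, 1, 0], [93, 57], [113, 107, 99]),
  ([2, 0, 1, 1, 1, 0, 1, 0, 0], [94, 57], [113, 106, 99]),
  ([2, 0, 1, 1, 1, 1, 0, 0, 0], [95, 57], [112, 106, 99]),
  ([2, 1, 0, 0, 0, 0, 1, 1, 1], [91], [54]),
  ([2, 1, 0, 0, 0, 1, 0, 1, 1], [90], [52]),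
  ([2, 1, 0, 0, 0, 1, 1, 0, 1], [89], [51]),
  ([2, 1, 0, 0, 0, 1, 1, 1, 0], [88], [119, 51]),
  ([2, 1, 0, 0, 1, 0, 0, 1, 1], [87], [49]),
  ([2, 1, 0, 0, 1, 0, 1, 0, 1], [86], [48]),
  ([2, 1, 0, 0, 1, 0, 1, 1, 0], [85], [119, 48]),
  ([2, 1, 0, 0, 1, 1, 0, 0, 1], [84], [47]),
  ([2, 1, 0, 0, 1, 1, 0, 1, 0], [83], [119, 47]),
  ([2, 1, 0, 0, 1, 1, 1, 0, 0], [82], [117, 47]),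
  ([2, 1, 0, 1, 0, 0, 0, 1, 1], [81], [45]),
  ([2, 1, 0, 1, 0, 0, 1, 0, 1], [80], [44]),
  ([2, 1, 0, 1, 0, 0, 1, 1, 0], [79], [119, 44]),
  ([2, 1, 0, 1, 0, 1, 0, 0, 1], [78], [43]),
  ([2, 1, 0, 1, 0, 1, 0, 1, 0], [77], [119, 43]),
  ([2, 1, 0, 1, 0, 1, 1, 0, 0], [76], [117, 43]),
  ([2, 1, 0, 1, 1, 0, 0, 0, 1], [75], [42]),
  ([2, 1, 0, 1, 1, 0, 0, 1, 0], [74], [119, 42]),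
  ([2, 1, 0, 1, 1, 0, 1, 0, 0], [73], [117, 42]),
  ([2, 1, 0, 1, 1, 1, 0, 0, 0], [72], [114, 42]),
  ([2, 1, 1, 0, 0, 0, 0, 1, 1], [71], [40]),
  ([2, 1, 1, 0, 0, 0, 1, 0, 1], [70], [39]),
  ([2, 1, 1, 0, 0, 0, 1, 1, 0], [69], [119, 39]),
  ([2, 1, 1, 0, 0, 1, 0, 0, 1], [68], [38]),
  ([2, 1, 1, 0, 0, 1, 0, 1, 0], [67], [119, 38]),
  ([2, 1, 1, 0, 0, 1, 1, 0, 0], [66], [117, 38]),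
  ([2, 1, 1, 0, 1, 0, 0, 0, 1], [65], [37]),
  ([2, 1, 1, 0, 1, 0, 0, 1, 0], [64], [119, 37]),
  ([2, 1, 1, 0, 1, 0, 1, 0, 0], [63], [117, 37]),
  ([2, 1, 1, 0, 1, 1, 0, 0, 0], [62], [114, 37]),
  ([2, 1, 1, 1, 0, 0, 0, 0, 1], [61], [36]),
  ([2, 1, 1, 1, 0, 0, 0, 1, 0], [60], [119, 36]),
  ([2, 1, 1, 1, 0, 0, 1, 0, 0], [59], [117, 36]),
  ([2, 1, 1, 1, 0, 1, 0, 0, 0], [58], [114, 36]),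
  ([2, 1, 1, 1, 1, 0, 0, 0, 0], [57], [110, 36]),
  ([3, 0, 0, 1, 1, 1, 1, 1, 2], [92, 23], []),
  ([3, 0, 0, 1, 1, 1, 1, 2, 1], [93, 24], [119]),
  ([3, 0, 0, 1, 1, 1, 2, 1, 1], [94, 25], [117]),
  ([3, 0, 0, 1, 1, 2, 1, 1, 1], [95, 26], [114]),
  ([3, 0, 0, 1, 2, 1, 1, 1, 1], [96, 27], [110]),
  ([3, 0, 0, 2, 1, 1, 1, 1, 1], [97, 28], [105]),
  ([3, 0, 1, 0, 1, 1, 1, 1, 2], [92, 18], [104]),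
  ([3, 0, 1, 0, 1, 1, 1, 2, 1], [93, 19], [119, 104]),
  ([3, 0, 1, 0, 1, 1, 2, 1, 1], [94, 20], [117, 104]),
  ([3, 0, 1, 0, 1, 2, 1, 1, 1], [95, 21], [114, 104]),
  ([3, 0, 1, 0, 2, 1, 1, 1, 1], [96, 22], [110, 104]),
  ([3, 0, 1, 1, 0, 1, 1, 1, 2], [92, 14], [103]),
  ([3, 0, 1, 1, 0, 1, 1, 2, 1], [93, 15], [119, 103]),
  ([3, 0, 1, 1, 0, 1, 2, 1, 1], [94, 16], [117, 103]),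
  ([3, 0, 1, 1, 0, 2, 1, 1, 1], [95, 17], [114, 103]),
  ([3, 0, 1, 1, 1, 0, 1, 1, 2], [92, 11], [102]),
  ([3, 0, 1, 1, 1, 0, 1, 2, 1], [93, 12], [119, 102]),
  ([3, 0, 1, 1, 1, 0, 2, 1, 1], [94, 13], [117, 102]),
  ([3, 0, 1, 1, 1, 1, 0, 1, 2], [92, 9], [101]),
  ([3, 0, 1, 1, 1, 1, 0, 2, 1], [93, 10], [119, 101]),
  ([3, 0, 1, 1, 1, 1, 1, 0, 2], [92, 8], [100]),
  ([3, 0, 1, 1, 1, 1, 1, 2, 0], [93, 8], [100, 99]),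
  ([3, 0, 1, 1, 1, 1, 2, 0, 1], [94, 10], [117, 100]),
  ([3, 0, 1, 1, 1, 1, 2, 1, 0], [94, 9], [101, 99]),
  ([3, 0, 1, 1, 1, 2, 0, 1, 1], [95, 13], [114, 101]),
  ([3, 0, 1, 1, 1, 2, 1, 0, 1], [95, 12], [114, 100]),
  ([3, 0, 1, 1, 1, 2, 1, 1, 0], [95, 11], [102, 99]),
  ([3, 0, 1, 1, 2, 0, 1, 1, 1], [96, 17], [110, 102]),
  ([3, 0, 1, 1, 2, 1, 0, 1, 1], [96, 16], [110, 101]),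
  ([3, 0, 1, 1, 2, 1, 1, 0, 1], [96, 15], [110, 100]),
  ([3, 0, 1, 1, 2, 1, 1, 1, 0], [96, 14], [103, 99]),
  ([3, 0, 1, 2, 0, 1, 1, 1, 1], [97, 22], [105, 103]),
  ([3, 0, 1, 2, 1, 0, 1, 1, 1], [97, 21], [105, 102]),
  ([3, 0, 1, 2, 1, 1, 0, 1, 1], [97, 20], [105, 101]),
  ([3, 0, 1, 2, 1, 1, 1, 0, 1], [97, 19], [105, 100]),
  ([3, 0, 1, 2, 1, 1, 1, 1, 0], [97, 18], [104, 99]),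
  ([3, 0, 2, 0, 1, 1, 1, 1, 1], [98, 28], [105, 99]),
  ([3, 0, 2, 1, 0, 1, 1, 1, 1], [98, 27], [110, 99]),
  ([3, 0, 2, 1, 1, 0, 1, 1, 1], [98, 26], [114, 99]),
  ([3, 0, 2, 1, 1, 1, 0, 1, 1], [98, 25], [117, 99]),
  ([3, 0, 2, 1, 1, 1, 1, 0, 1], [98, 24], [119, 99]),
  ([3, 0, 2, 1, 1, 1, 1, 1, 0], [98, 23], [99]),
  ([3, 1, 0, 0, 1, 1, 1, 1, 2], [92, 28], [50]),
  ([3, 1, 0, 0, 1, 1, 1, 2, 1], [93, 28], [49]),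
  ([3, 1, 0, 0, 1, 1, 2, 1, 1], [94, 28], [48]),
  ([3, 1, 0, 0, 1, 2, 1, 1, 1], [95, 28], [47]),
  ([3, 1, 0, 0, 2, 1, 1, 1, 1], [96, 28], [113, 47]),
  ([3, 1, 0, 1, 0, 1, 1, 1, 2], [92, 27], [46]),
  ([3, 1, 0, 1, 0, 1, 1, 2, 1], [93, 27], [45]),
  ([3, 1, 0, 1, 0, 1, 2, 1, 1], [94, 27], [44]),
  ([3, 1, 0, 1, 0, 2, 1, 1, 1], [95, 27], [43]),
  ([3, 1, 0, 1, 1, 0, 1, 1, 2], [92, 26], [113, 46]),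
  ([3, 1, 0, 1, 1, 0, 1, 2, 1], [93, 26], [113, 45]),
  ([3, 1, 0, 1, 1, 0, 2, 1, 1], [94, 26], [113, 44]),
  ([3, 1, 0, 1, 1, 1, 0, 1, 2], [92, 25], [112, 46]),
  ([3, 1, 0, 1, 1, 1, 0, 2, 1], [93, 25], [112, 45]),
  ([3, 1, 0, 1, 1, 1, 1, 0, 2], [92, 24], [111, 46]),
  ([3, 1, 0, 1, 1, 1, 1, 2, 0], [93, 23], [110, 45]),
  ([3, 1, 0, 1, 1, 1, 2, 0, 1], [94, 24], [111, 44]),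
  ([3, 1, 0, 1, 1, 1, 2, 1, 0], [94, 23], [110, 44]),
  ([3, 1, 0, 1, 1, 2, 0, 1, 1], [95, 25], [112, 43]),
  ([3, 1, 0, 1, 1, 2, 1, 0, 1], [95, 24], [111, 43]),
  ([3, 1, 0, 1, 1, 2, 1, 1, 0], [95, 23], [110, 43]),
  ([3, 1, 0, 1, 2, 0, 1, 1, 1], [96, 26], [43, 42]),
  ([3, 1, 0, 1, 2, 1, 0, 1, 1], [96, 25], [44, 42]),
  ([3, 1, 0, 1, 2, 1, 1, 0, 1], [96, 24], [45, 42]),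
  ([3, 1, 0, 1, 2, 1, 1, 1, 0], [96, 23], [46, 42]),
  ([3, 1, 0, 2, 0, 1, 1, 1, 1], [97, 27], [108, 43]),
  ([3, 1, 0, 2, 1, 0, 1, 1, 1], [97, 26], [47, 42]),
  ([3, 1, 0, 2, 1, 1, 0, 1, 1], [97, 25], [48, 42]),
  ([3, 1, 0, 2, 1, 1, 1, 0, 1], [97, 24], [49, 42]),
  ([3, 1, 0, 2, 1, 1, 1, 1, 0], [97, 23], [50, 42]),
  ([3, 1, 1, 0, 0, 1, 1, 1, 2], [92, 22], [41]),
  ([3, 1, 1, 0, 0, 1, 1, 2, 1], [93, 22], [40]),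
  ([3, 1, 1, 0, 0, 1, 2, 1, 1], [94, 22], [39]),
  ([3, 1, 1, 0, 0, 2, 1, 1, 1], [95, 22], [38]),
  ([3, 1, 1, 0, 1, 0, 1, 1, 2], [92, 21], [113, 41]),
  ([3, 1, 1, 0, 1, 0, 1, 2, 1], [93, 21], [113, 40]),
  ([3, 1, 1, 0, 1, 0, 2, 1, 1], [94, 21], [113, 39]),
  ([3, 1, 1, 0, 1, 1, 0, 1, 2], [92, 20], [112, 41]),
  ([3, 1, 1, 0, 1, 1, 0, 2, 1], [93, 20], [112, 40]),
  ([3, 1, 1, 0, 1, 1, 1, 0, 2], [92, 19], [111, 41]),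
  ([3, 1, 1, 0, 1, 1, 1, 2, 0], [93, 18], [110, 40]),
  ([3, 1, 1, 0, 1, 1, 2, 0, 1], [94, 19], [111, 39]),
  ([3, 1, 1, 0, 1, 1, 2, 1, 0], [94, 18], [110, 39]),
  ([3, 1, 1, 0, 1, 2, 0, 1, 1], [95, 20], [112, 38]),
  ([3, 1, 1, 0, 1, 2, 1, 0, 1], [95, 19], [111, 38]),
  ([3, 1, 1, 0, 1, 2, 1, 1, 0], [95, 18], [110, 38]),
  ([3, 1, 1, 0, 2, 0, 1, 1, 1], [96, 21], [38, 37]),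
  ([3, 1, 1, 0, 2, 1, 0, 1, 1], [96, 20], [39, 37]),
  ([3, 1, 1, 0, 2, 1, 1, 0, 1], [96, 19], [40, 37]),
  ([3, 1, 1, 0, 2, 1, 1, 1, 0], [96, 18], [41, 37]),
  ([3, 1, 1, 1, 0, 0, 1, 1, 2], [92, 17], [108, 41]),
  ([3, 1, 1, 1, 0, 0, 1, 2, 1], [93, 17], [108, 40]),
  ([3, 1, 1, 1, 0, 0, 2, 1, 1], [94, 17], [108, 39]),
  ([3, 1, 1, 1, 0, 1, 0, 1, 2], [92, 16], [107, 41]),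
  ([3, 1, 1, 1, 0, 1, 0, 2, 1], [93, 16], [107, 40]),
  ([3, 1, 1, 1, 0, 1, 1, 0, 2], [92, 15], [106, 41]),
  ([3, 1, 1, 1, 0, 1, 1, 2, 0], [93, 14], [105, 40]),
  ([3, 1, 1, 1, 0, 1, 2, 0, 1], [94, 15], [106, 39]),
  ([3, 1, 1, 1, 0, 1, 2, 1, 0], [94, 14], [105, 39]),
  ([3, 1, 1, 1, 0, 2, 0, 1, 1], [95, 16], [107, 38]),
  ([3, 1, 1, 1, 0, 2, 1, 0, 1], [95, 15], [106, 38]),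
  ([3, 1, 1, 1, 0, 2, 1, 1, 0], [95, 14], [105, 38]),
  ([3, 1, 1, 1, 1, 0, 0, 1, 2], [92, 13], [113, 107, 41]),
  ([3, 1, 1, 1, 1, 0, 0, 2, 1], [93, 13], [113, 107, 40]),
  ([3, 1, 1, 1, 1, 0, 1, 0, 2], [92, 12], [113, 106, 41]),
  ([3, 1, 1, 1, 1, 0, 1, 2, 0], [93, 11], [113, 105, 40]),
  ([3, 1, 1, 1, 1, 0, 2, 0, 1], [94, 12], [113, 106, 39]),
  ([3, 1, 1, 1, 1, 0, 2, 1, 0], [94, 11], [113, 105, 39]),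
  ([3, 1, 1, 1, 1, 1, 0, 0, 2], [92, 10], [112, 106, 41]),
  ([3, 1, 1, 1, 1, 1, 0, 2, 0], [93, 9], [112, 105, 40]),
  ([3, 1, 1, 1, 1, 1, 2, 0, 0], [94, 8], [111, 105, 39]),
  ([3, 1, 1, 1, 1, 2, 0, 0, 1], [95, 10], [112, 106, 38]),
  ([3, 1, 1, 1, 1, 2, 0, 1, 0], [95, 9], [112, 105, 38]),
  ([3, 1, 1, 1, 1, 2, 1, 0, 0], [95, 8], [111, 105, 38]),
  ([3, 1, 1, 1, 2, 0, 0, 1, 1], [96, 13], [107, 38, 37]),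
  ([3, 1, 1, 1, 2, 0, 1, 0, 1], [96, 12], [106, 38, 37]),
  ([3, 1, 1, 1, 2, 0, 1, 1, 0], [96, 11], [105, 38, 37]),
  ([3, 1, 1, 1, 2, 1, 0, 0, 1], [96, 10], [106, 39, 37]),
  ([3, 1, 1, 1, 2, 1, 0, 1, 0], [96, 9], [105, 39, 37]),
  ([3, 1, 1, 1, 2, 1, 1, 0, 0], [96, 8], [105, 40, 37]),
  ([3, 1, 1, 2, 0, 0, 1, 1, 1], [97, 17], [38, 36]),
  ([3, 1, 1, 2, 0, 1, 0, 1, 1], [97, 16], [39, 36]),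
  ([3, 1, 1, 2, 0, 1, 1, 0, 1], [97, 15], [40, 36]),
  ([3, 1, 1, 2, 0, 1, 1, 1, 0], [97, 14], [41, 36]),
  ([3, 1, 1, 2, 1, 0, 0, 1, 1], [97, 13], [112, 38, 36]),
  ([3, 1, 1, 2, 1, 0, 1, 0, 1], [97, 12], [111, 38, 36]),
  ([3, 1, 1, 2, 1, 0, 1, 1, 0], [97, 11], [110, 38, 36]),
  ([3, 1, 1, 2, 1, 1, 0, 0, 1], [97, 10], [111, 39, 36]),
  ([3, 1, 1, 2, 1, 1, 0, 1, 0], [97, 9], [110, 39, 36]),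
  ([3, 1, 1, 2, 1, 1, 1, 0, 0], [97, 8], [110, 40, 36]),
  ([3, 1, 2, 0, 0, 1, 1, 1, 1], [98, 22], [102, 38]),
  ([3, 1, 2, 0, 1, 0, 1, 1, 1], [98, 21], [47, 37]),
  ([3, 1, 2, 0, 1, 1, 0, 1, 1], [98, 20], [48, 37]),
  ([3, 1, 2, 0, 1, 1, 1, 0, 1], [98, 19], [49, 37]),
  ([3, 1, 2, 0, 1, 1, 1, 1, 0], [98, 18], [50, 37]),
  ([3, 1, 2, 1, 0, 0, 1, 1, 1], [98, 17], [43, 36]),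
  ([3, 1, 2, 1, 0, 1, 0, 1, 1], [98, 16], [44, 36]),
  ([3, 1, 2, 1, 0, 1, 1, 0, 1], [98, 15], [45, 36]),
  ([3, 1, 2, 1, 0, 1, 1, 1, 0], [98, 14], [46, 36]),
  ([3, 1, 2, 1, 1, 0, 0, 1, 1], [98, 13], [112, 43, 36]),
  ([3, 1, 2, 1, 1, 0, 1, 0, 1], [98, 12], [111, 43, 36]),
  ([3, 1, 2, 1, 1, 0, 1, 1, 0], [98, 11], [110, 43, 36]),
  ([3, 1, 2, 1, 1, 1, 0, 0, 1], [98, 10], [111, 44, 36]),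
  ([3, 1, 2, 1, 1, 1, 0, 1, 0], [98, 9], [110, 44, 36]),
  ([3, 1, 2, 1, 1, 1, 1, 0, 0], [98, 8], [110, 45, 36]),
  ([3, 2, 0, 0, 1, 1, 1, 1, 1], [28], [54, 47]),
  ([3, 2, 0, 1, 0, 1, 1, 1, 1], [27], [54, 43]),
  ([3, 2, 0, 1, 1, 0, 1, 1, 1], [26], [54, 42]),
  ([3, 2, 0, 1, 1, 1, 0, 1, 1], [25], [52, 42]),
  ([3, 2, 0, 1, 1, 1, 1, 0, 1], [24], [51, 42]),
  ([3, 2, 0, 1, 1, 1, 1, 1, 0], [23], [119, 51, 42]),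
  ([3, 2, 1, 0, 0, 1, 1, 1, 1], [22], [54, 38]),
  ([3, 2, 1, 0, 1, 0, 1, 1, 1], [21], [54, 37]),
  ([3, 2, 1, 0, 1, 1, 0, 1, 1], [20], [52, 37]),
  ([3, 2, 1, 0, 1, 1, 1, 0, 1], [19], [51, 37]),
  ([3, 2, 1, 0, 1, 1, 1, 1, 0], [18], [119, 51, 37]),
  ([3, 2, 1, 1, 0, 0, 1, 1, 1], [17], [54, 36]),
  ([3, 2, 1, 1, 0, 1, 0, 1, 1], [16], [52, 36]),
  ([3, 2, 1, 1, 0, 1, 1, 0, 1], [15], [51, 36]),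
  ([3, 2, 1, 1, 0, 1, 1, 1, 0], [14], [119, 51, 36]),
  ([3, 2, 1, 1, 1, 0, 0, 1, 1], [13], [49, 36]),
  ([3, 2, 1, 1, 1, 0, 1, 0, 1], [12], [48, 36]),
  ([3, 2, 1, 1, 1, 0, 1, 1, 0], [11], [119, 48, 36]),
  ([3, 2, 1, 1, 1, 1, 0, 0, 1], [10], [47, 36]),
  ([3, 2, 1, 1, 1, 1, 0, 1, 0], [9], [119, 47, 36]),
  ([3, 2, 1, 1, 1, 1, 1, 0, 0], [8], [117, 47, 36]),
  ([4, 0, 1, 1, 1, 1, 2, 2, 2], [92, 88, 11], []),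
  ([4, 0, 1, 1, 1, 2, 1, 2, 2], [92, 88, 9], [116]),
  ([4, 0, 1, 1, 1, 2, 2, 1, 2], [92, 88, 8], [115]),
  ([4, 0, 1, 1, 1, 2, 2, 2, 1], [93, 89, 8], [114]),
  ([4, 0, 1, 1, 2, 1, 1, 2, 2], [92, 85, 9], [112]),
  ([4, 0, 1, 1, 2, 1, 2, 1, 2], [92, 85, 8], [111]),
  ([4, 0, 1, 1, 2, 1, 2, 2, 1], [93, 86, 8], [110]),
  ([4, 0, 1, 1, 2, 2, 1, 1, 2], [92, 83, 8], [116, 111]),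
  ([4, 0, 1, 1, 2, 2, 1, 2, 1], [93, 84, 8], [116, 110]),
  ([4, 0, 1, 1, 2, 2, 2, 1, 1], [94, 84, 9], [115, 110]),
  ([4, 0, 1, 2, 1, 1, 1, 2, 2], [92, 79, 9], [107]),
  ([4, 0, 1, 2, 1, 1, 2, 1, 2], [92, 79, 8], [106]),
  ([4, 0, 1, 2, 1, 1, 2, 2, 1], [93, 80, 8], [105]),
  ([4, 0, 1, 2, 1, 2, 1, 1, 2], [92, 77, 8], [116, 106]),
  ([4, 0, 1, 2, 1, 2, 1, 2, 1], [93, 78, 8], [116, 105]),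
  ([4, 0, 1, 2, 1, 2, 2, 1, 1], [94, 78, 9], [115, 105]),
  ([4, 0, 1, 2, 2, 1, 1, 1, 2], [92, 74, 8], [112, 106]),
  ([4, 0, 1, 2, 2, 1, 1, 2, 1], [93, 75, 8], [112, 105]),
  ([4, 0, 1, 2, 2, 1, 2, 1, 1], [94, 75, 9], [111, 105]),
  ([4, 0, 1, 2, 2, 2, 1, 1, 1], [95, 75, 11], [116, 111, 105]),
  ([4, 0, 2, 1, 1, 1, 1, 2, 2], [92, 69, 9], [101]),
  ([4, 0, 2, 1, 1, 1, 2, 1, 2], [92, 69, 8], [100]),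
  ([4, 0, 2, 1, 1, 1, 2, 2, 1], [93, 70, 8], [99]),
  ([4, 0, 2, 1, 1, 2, 1, 1, 2], [92, 67, 8], [116, 100]),
  ([4, 0, 2, 1, 1, 2, 1, 2, 1], [93, 68, 8], [116, 99]),
  ([4, 0, 2, 1, 1, 2, 2, 1, 1], [94, 68, 9], [115, 99]),
  ([4, 0, 2, 1, 2, 1, 1, 1, 2], [92, 64, 8], [112, 100]),
  ([4, 0, 2, 1, 2, 1, 1, 2, 1], [93, 65, 8], [112, 99]),
  ([4, 0, 2, 1, 2, 1, 2, 1, 1], [94, 65, 9], [111, 99]),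
  ([4, 0, 2, 1, 2, 2, 1, 1, 1], [95, 65, 11], [116, 111, 99]),
  ([4, 0, 2, 2, 1, 1, 1, 1, 2], [92, 60, 8], [107, 100]),
  ([4, 0, 2, 2, 1, 1, 1, 2, 1], [93, 61, 8], [107, 99]),
  ([4, 0, 2, 2, 1, 1, 2, 1, 1], [94, 61, 9], [106, 99]),
  ([4, 0, 2, 2, 1, 2, 1, 1, 1], [95, 61, 11], [116, 106, 99]),
  ([4, 0, 2, 2, 2, 1, 1, 1, 1], [96, 61, 14], [112, 106, 99]),
  ([4, 1, 0, 1, 1, 1, 2, 2, 2], [72, 35], [54]),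
  ([4, 1, 0, 1, 1, 2, 1, 2, 2], [73, 35], [52]),
  ([4, 1, 0, 1, 1, 2, 2, 1, 2], [74, 35], [51]),
  ([4, 1, 0, 1, 1, 2, 2, 2, 1], [75, 35], [119, 51]),
  ([4, 1, 0, 1, 2, 1, 1, 2, 2], [76, 35], [49]),
  ([4, 1, 0, 1, 2, 1, 2, 1, 2], [77, 35], [48]),
  ([4, 1, 0, 1, 2, 1, 2, 2, 1], [78, 35], [119, 48]),
  ([4, 1, 0, 1, 2, 2, 1, 1, 2], [79, 35], [47]),
  ([4, 1, 0, 1, 2, 2, 1, 2, 1], [80, 35], [119, 47]),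
  ([4, 1, 0, 1, 2, 2, 2, 1, 1], [81, 35], [117, 47]),
  ([4, 1, 0, 2, 1, 1, 1, 2, 2], [82, 35], [45]),
  ([4, 1, 0, 2, 1, 1, 2, 1, 2], [83, 35], [44]),
  ([4, 1, 0, 2, 1, 1, 2, 2, 1], [84, 35], [119, 44]),
  ([4, 1, 0, 2, 1, 2, 1, 1, 2], [85, 35], [43]),
  ([4, 1, 0, 2, 1, 2, 1, 2, 1], [86, 35], [119, 43]),
  ([4, 1, 0, 2, 1, 2, 2, 1, 1], [87, 35], [117, 43]),
  ([4, 1, 0, 2, 2, 1, 1, 1, 2], [88, 35], [42]),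
  ([4, 1, 0, 2, 2, 1, 1, 2, 1], [89, 35], [119, 42]),
  ([4, 1, 0, 2, 2, 1, 2, 1, 1], [90, 35], [117, 42]),
  ([4, 1, 0, 2, 2, 2, 1, 1, 1], [91, 35], [114, 42]),
  ([4, 1, 1, 0, 1, 1, 2, 2, 2], [62, 34], [104, 54]),
  ([4, 1, 1, 0, 1, 2, 1, 2, 2], [63, 34], [104, 52]),
  ([4, 1, 1, 0, 1, 2, 2, 1, 2], [64, 34], [104, 51]),
  ([4, 1, 1, 0, 1, 2, 2, 2, 1], [65, 34], [119, 104, 51]),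
  ([4, 1, 1, 0, 2, 1, 1, 2, 2], [66, 34], [104, 49]),
  ([4, 1, 1, 0, 2, 1, 2, 1, 2], [67, 34], [104, 48]),
  ([4, 1, 1, 0, 2, 1, 2, 2, 1], [68, 34], [119, 104, 48]),
  ([4, 1, 1, 0, 2, 2, 1, 1, 2], [69, 34], [104, 47]),
  ([4, 1, 1, 0, 2, 2, 1, 2, 1], [70, 34], [119, 104, 47]),
  ([4, 1, 1, 0, 2, 2, 2, 1, 1], [71, 34], [117, 104, 47]),
  ([4, 1, 1, 1, 0, 1, 2, 2, 2], [58, 33], [103, 54]),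
  ([4, 1, 1, 1, 0, 2, 1, 2, 2], [59, 33], [103, 52]),
  ([4, 1, 1, 1, 0, 2, 2, 1, 2], [60, 33], [103, 51]),
  ([4, 1, 1, 1, 0, 2, 2, 2, 1], [61, 33], [119, 103, 51]),
  ([4, 1, 1, 1, 1, 0, 2, 2, 2], [57, 32], [102, 54]),
  ([4, 1, 1, 1, 1, 1, 1, 1, 3], [92, 0], [41]),
  ([4, 1, 1, 1, 1, 1, 1, 3, 1], [93, 0], [41, 40]),
  ([4, 1, 1, 1, 1, 1, 3, 1, 1], [94, 0], [41, 39]),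
  ([4, 1, 1, 1, 1, 2, 0, 2, 2], [57, 31], [101, 52]),
  ([4, 1, 1, 1, 1, 2, 2, 0, 2], [57, 30], [100, 51]),
  ([4, 1, 1, 1, 1, 2, 2, 2, 0], [57, 29], [100, 99, 51]),
  ([4, 1, 1, 1, 1, 3, 1, 1, 1], [95, 0], [41, 38]),
  ([4, 1, 1, 1, 2, 0, 1, 2, 2], [59, 32], [102, 49]),
  ([4, 1, 1, 1, 2, 0, 2, 1, 2], [60, 32], [102, 48]),
  ([4, 1, 1, 1, 2, 0, 2, 2, 1], [61, 32], [119, 102, 48]),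
  ([4, 1, 1, 1, 2, 1, 0, 2, 2], [58, 31], [101, 49]),
  ([4, 1, 1, 1, 2, 1, 2, 0, 2], [58, 30], [100, 48]),
  ([4, 1, 1, 1, 2, 1, 2, 2, 0], [58, 29], [100, 99, 48]),
  ([4, 1, 1, 1, 2, 2, 0, 1, 2], [60, 31], [101, 47]),
  ([4, 1, 1, 1, 2, 2, 0, 2, 1], [61, 31], [119, 101, 47]),
  ([4, 1, 1, 1, 2, 2, 1, 0, 2], [59, 30], [100, 47]),
  ([4, 1, 1, 1, 2, 2, 1, 2, 0], [59, 29], [100, 99, 47]),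
  ([4, 1, 1, 1, 2, 2, 2, 0, 1], [61, 30], [117, 100, 47]),
  ([4, 1, 1, 1, 2, 2, 2, 1, 0], [60, 29], [101, 99, 47]),
  ([4, 1, 1, 1, 3, 1, 1, 1, 1], [96, 0], [41, 37]),
  ([4, 1, 1, 2, 0, 1, 1, 2, 2], [66, 33], [103, 45]),
  ([4, 1, 1, 2, 0, 1, 2, 1, 2], [67, 33], [103, 44]),
  ([4, 1, 1, 2, 0, 1, 2, 2, 1], [68, 33], [119, 103, 44]),
  ([4, 1, 1, 2, 0, 2, 1, 1, 2], [69, 33], [103, 43]),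
  ([4, 1, 1, 2, 0, 2, 1, 2, 1], [70, 33], [119, 103, 43]),
  ([4, 1, 1, 2, 0, 2, 2, 1, 1], [71, 33], [117, 103, 43]),
  ([4, 1, 1, 2, 1, 0, 1, 2, 2], [63, 32], [102, 45]),
  ([4, 1, 1, 2, 1, 0, 2, 1, 2], [64, 32], [102, 44]),
  ([4, 1, 1, 2, 1, 0, 2, 2, 1], [65, 32], [119, 102, 44]),
  ([4, 1, 1, 2, 1, 1, 0, 2, 2], [62, 31], [101, 45]),
  ([4, 1, 1, 2, 1, 1, 2, 0, 2], [62, 30], [100, 44]),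
  ([4, 1, 1, 2, 1, 1, 2, 2, 0], [62, 29], [100, 99, 44]),
  ([4, 1, 1, 2, 1, 2, 0, 1, 2], [64, 31], [101, 43]),
  ([4, 1, 1, 2, 1, 2, 0, 2, 1], [65, 31], [119, 101, 43]),
  ([4, 1, 1, 2, 1, 2, 1, 0, 2], [63, 30], [100, 43]),
  ([4, 1, 1, 2, 1, 2, 1, 2, 0], [63, 29], [100, 99, 43]),
  ([4, 1, 1, 2, 1, 2, 2, 0, 1], [65, 30], [117, 100, 43]),
  ([4, 1, 1, 2, 1, 2, 2, 1, 0], [64, 29], [101, 99, 43]),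
  ([4, 1, 1, 2, 2, 0, 1, 1, 2], [69, 32], [102, 42]),
  ([4, 1, 1, 2, 2, 0, 1, 2, 1], [70, 32], [119, 102, 42]),
  ([4, 1, 1, 2, 2, 0, 2, 1, 1], [71, 32], [117, 102, 42]),
  ([4, 1, 1, 2, 2, 1, 0, 1, 2], [67, 31], [101, 42]),
  ([4, 1, 1, 2, 2, 1, 0, 2, 1], [68, 31], [119, 101, 42]),
  ([4, 1, 1, 2, 2, 1, 1, 0, 2], [66, 30], [100, 42]),
  ([4, 1, 1, 2, 2, 1, 1, 2, 0], [66, 29], [100, 99, 42]),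
  ([4, 1, 1, 2, 2, 1, 2, 0, 1], [68, 30], [117, 100, 42]),
  ([4, 1, 1, 2, 2, 1, 2, 1, 0], [67, 29], [101, 99, 42]),
  ([4, 1, 1, 2, 2, 2, 0, 1, 1], [71, 31], [114, 101, 42]),
  ([4, 1, 1, 2, 2, 2, 1, 0, 1], [70, 30], [114, 100, 42]),
  ([4, 1, 1, 2, 2, 2, 1, 1, 0], [69, 29], [102, 99, 42]),
  ([4, 1, 1, 3, 1, 1, 1, 1, 1], [97, 0], [41, 36]),
  ([4, 1, 2, 0, 1, 1, 1, 2, 2], [82, 34], [45, 40]),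
  ([4, 1, 2, 0, 1, 1, 2, 1, 2], [83, 34], [44, 39]),
  ([4, 1, 2, 0, 1, 1, 2, 2, 1], [84, 34], [119, 44, 39]),
  ([4, 1, 2, 0, 1, 2, 1, 1, 2], [85, 34], [43, 38]),
  ([4, 1, 2, 0, 1, 2, 1, 2, 1], [86, 34], [119, 43, 38]),
  ([4, 1, 2, 0, 1, 2, 2, 1, 1], [87, 34], [117, 43, 38]),
  ([4, 1, 2, 0, 2, 1, 1, 1, 2], [88, 34], [42, 37]),
  ([4, 1, 2, 0, 2, 1, 1, 2, 1], [89, 34], [119, 42, 37]),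
  ([4, 1, 2, 0, 2, 1, 2, 1, 1], [90, 34], [117, 42, 37]),
  ([4, 1, 2, 0, 2, 2, 1, 1, 1], [91, 34], [114, 42, 37]),
  ([4, 1, 2, 1, 0, 1, 1, 2, 2], [76, 33], [49, 40]),
  ([4, 1, 2, 1, 0, 1, 2, 1, 2], [77, 33], [48, 39]),
  ([4, 1, 2, 1, 0, 1, 2, 2, 1], [78, 33], [119, 48, 39]),
  ([4, 1, 2, 1, 0, 2, 1, 1, 2], [79, 33], [47, 38]),
  ([4, 1, 2, 1, 0, 2, 1, 2, 1], [80, 33], [119, 47, 38]),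
  ([4, 1, 2, 1, 0, 2, 2, 1, 1], [81, 33], [117, 47, 38]),
  ([4, 1, 2, 1, 1, 0, 1, 2, 2], [73, 32], [52, 40]),
  ([4, 1, 2, 1, 1, 0, 2, 1, 2], [74, 32], [51, 39]),
  ([4, 1, 2, 1, 1, 0, 2, 2, 1], [75, 32], [119, 51, 39]),
  ([4, 1, 2, 1, 1, 1, 0, 2, 2], [72, 31], [54, 40]),
  ([4, 1, 2, 1, 1, 1, 2, 0, 2], [72, 30], [54, 39]),
  ([4, 1, 2, 1, 1, 1, 2, 2, 0], [72, 29], [99, 54]),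
  ([4, 1, 2, 1, 1, 2, 0, 1, 2], [74, 31], [51, 38]),
  ([4, 1, 2, 1, 1, 2, 0, 2, 1], [75, 31], [119, 51, 38]),
  ([4, 1, 2, 1, 1, 2, 1, 0, 2], [73, 30], [52, 38]),
  ([4, 1, 2, 1, 1, 2, 1, 2, 0], [73, 29], [99, 52]),
  ([4, 1, 2, 1, 1, 2, 2, 0, 1], [75, 30], [117, 52, 38]),
  ([4, 1, 2, 1, 1, 2, 2, 1, 0], [74, 29], [99, 51]),
  ([4, 1, 2, 1, 2, 0, 1, 1, 2], [79, 32], [47, 37]),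
  ([4, 1, 2, 1, 2, 0, 1, 2, 1], [80, 32], [119, 47, 37]),
  ([4, 1, 2, 1, 2, 0, 2, 1, 1], [81, 32], [117, 47, 37]),
  ([4, 1, 2, 1, 2, 1, 0, 1, 2], [77, 31], [48, 37]),
  ([4, 1, 2, 1, 2, 1, 0, 2, 1], [78, 31], [119, 48, 37]),
  ([4, 1, 2, 1, 2, 1, 1, 0, 2], [76, 30], [49, 37]),
  ([4, 1, 2, 1, 2, 1, 1, 2, 0], [76, 29], [99, 49]),
  ([4, 1, 2, 1, 2, 1, 2, 0, 1], [78, 30], [117, 49, 37]),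
  ([4, 1, 2, 1, 2, 1, 2, 1, 0], [77, 29], [99, 48]),
  ([4, 1, 2, 1, 2, 2, 0, 1, 1], [81, 31], [114, 48, 37]),
  ([4, 1, 2, 1, 2, 2, 1, 0, 1], [80, 30], [114, 49, 37]),
  ([4, 1, 2, 1, 2, 2, 1, 1, 0], [79, 29], [99, 47]),
  ([4, 1, 2, 2, 0, 1, 1, 1, 2], [88, 33], [42, 36]),
  ([4, 1, 2, 2, 0, 1, 1, 2, 1], [89, 33], [119, 42, 36]),
  ([4, 1, 2, 2, 0, 1, 2, 1, 1], [90, 33], [117, 42, 36]),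
  ([4, 1, 2, 2, 0, 2, 1, 1, 1], [91, 33], [114, 42, 36]),
  ([4, 1, 2, 2, 1, 0, 1, 1, 2], [85, 32], [43, 36]),
  ([4, 1, 2, 2, 1, 0, 1, 2, 1], [86, 32], [119, 43, 36]),
  ([4, 1, 2, 2, 1, 0, 2, 1, 1], [87, 32], [117, 43, 36]),
  ([4, 1, 2, 2, 1, 1, 0, 1, 2], [83, 31], [44, 36]),
  ([4, 1, 2, 2, 1, 1, 0, 2, 1], [84, 31], [119, 44, 36]),
  ([4, 1, 2, 2, 1, 1, 1, 0, 2], [82, 30], [45, 36]),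
  ([4, 1, 2, 2, 1, 1, 1, 2, 0], [82, 29], [99, 45]),
  ([4, 1, 2, 2, 1, 1, 2, 0, 1], [84, 30], [117, 45, 36]),
  ([4, 1, 2, 2, 1, 1, 2, 1, 0], [83, 29], [99, 44]),
  ([4, 1, 2, 2, 1, 2, 0, 1, 1], [87, 31], [114, 44, 36]),
  ([4, 1, 2, 2, 1, 2, 1, 0, 1], [86, 30], [114, 45, 36]),
  ([4, 1, 2, 2, 1, 2, 1, 1, 0], [85, 29], [99, 43]),
  ([4, 1, 2, 2, 2, 0, 1, 1, 1], [91, 32], [110, 43, 36]),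
  ([4, 1, 2, 2, 2, 1, 0, 1, 1], [90, 31], [110, 44, 36]),
  ([4, 1, 2, 2, 2, 1, 1, 0, 1], [89, 30], [110, 45, 36]),
  ([4, 1, 2, 2, 2, 1, 1, 1, 0], [88, 29], [99, 42]),
  ([4, 1, 3, 1, 1, 1, 1, 1, 1], [98, 0], [99, 41]),
  ([4, 2, 0, 1, 1, 1, 1, 2, 2], [91, 25], [50, 45]),
  ([4, 2, 0, 1, 1, 1, 2, 1, 2], [91, 24], [50, 44]),
  ([4, 2, 0, 1, 1, 1, 2, 2, 1], [91, 23], [49, 44]),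
  ([4, 2, 0, 1, 1, 2, 1, 1, 2], [90, 24], [50, 43]),
  ([4, 2, 0, 1, 1, 2, 1, 2, 1], [90, 23], [49, 43]),
  ([4, 2, 0, 1, 1, 2, 2, 1, 1], [89, 23], [48, 43]),
  ([4, 2, 0, 1, 2, 1, 1, 1, 2], [87, 24], [105, 42]),
  ([4, 2, 0, 1, 2, 1, 1, 2, 1], [87, 23], [106, 42]),
  ([4, 2, 0, 1, 2, 1, 2, 1, 1], [86, 23], [107, 42]),
  ([4, 2, 0, 1, 2, 2, 1, 1, 1], [84, 23], [108, 42]),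
  ([4, 2, 0, 2, 1, 1, 1, 1, 2], [81, 24], [110, 42]),
  ([4, 2, 0, 2, 1, 1, 1, 2, 1], [81, 23], [111, 42]),
  ([4, 2, 0, 2, 1, 1, 2, 1, 1], [80, 23], [112, 42]),
  ([4, 2, 0, 2, 1, 2, 1, 1, 1], [78, 23], [113, 42]),
  ([4, 2, 0, 2, 2, 1, 1, 1, 1], [75, 23], [42]),
  ([4, 2, 1, 0, 1, 1, 1, 2, 2], [91, 20], [50, 40]),
  ([4, 2, 1, 0, 1, 1, 2, 1, 2], [91, 19], [50, 39]),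
  ([4, 2, 1, 0, 1, 1, 2, 2, 1], [91, 18], [49, 39]),
  ([4, 2, 1, 0, 1, 2, 1, 1, 2], [90, 19], [50, 38]),
  ([4, 2, 1, 0, 1, 2, 1, 2, 1], [90, 18], [49, 38]),
  ([4, 2, 1, 0, 1, 2, 2, 1, 1], [89, 18], [48, 38]),
  ([4, 2, 1, 0, 2, 1, 1, 1, 2], [87, 19], [99, 37]),
  ([4, 2, 1, 0, 2, 1, 1, 2, 1], [87, 18], [100, 37]),
  ([4, 2, 1, 0, 2, 1, 2, 1, 1], [86, 18], [101, 37]),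
  ([4, 2, 1, 0, 2, 2, 1, 1, 1], [84, 18], [102, 37]),
  ([4, 2, 1, 1, 0, 1, 1, 2, 2], [91, 16], [46, 40]),
  ([4, 2, 1, 1, 0, 1, 2, 1, 2], [91, 15], [46, 39]),
  ([4, 2, 1, 1, 0, 1, 2, 2, 1], [91, 14], [45, 39]),
  ([4, 2, 1, 1, 0, 2, 1, 1, 2], [90, 15], [46, 38]),
  ([4, 2, 1, 1, 0, 2, 1, 2, 1], [90, 14], [45, 38]),
  ([4, 2, 1, 1, 0, 2, 2, 1, 1], [89, 14], [44, 38]),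
  ([4, 2, 1, 1, 1, 0, 1, 2, 2], [91, 13], [113, 46, 40]),
  ([4, 2, 1, 1, 1, 0, 2, 1, 2], [91, 12], [113, 46, 39]),
  ([4, 2, 1, 1, 1, 0, 2, 2, 1], [91, 11], [113, 45, 39]),
  ([4, 2, 1, 1, 1, 1, 0, 2, 2], [90, 13], [112, 46, 40]),
  ([4, 2, 1, 1, 1, 1, 2, 0, 2], [89, 12], [111, 46, 39]),
  ([4, 2, 1, 1, 1, 1, 2, 2, 0], [88, 11], [110, 45, 39]),
  ([4, 2, 1, 1, 1, 2, 0, 1, 2], [90, 10], [112, 46, 38]),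
  ([4, 2, 1, 1, 1, 2, 0, 2, 1], [90, 9], [112, 45, 38]),
  ([4, 2, 1, 1, 1, 2, 1, 0, 2], [89, 10], [111, 46, 38]),
  ([4, 2, 1, 1, 1, 2, 1, 2, 0], [88, 9], [110, 45, 38]),
  ([4, 2, 1, 1, 1, 2, 2, 0, 1], [89, 8], [111, 44, 38]),
  ([4, 2, 1, 1, 1, 2, 2, 1, 0], [88, 8], [110, 44, 38]),
  ([4, 2, 1, 1, 2, 0, 1, 1, 2], [87, 12], [46, 38, 37]),
  ([4, 2, 1, 1, 2, 0, 1, 2, 1], [87, 11], [45, 38, 37]),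
  ([4, 2, 1, 1, 2, 0, 2, 1, 1], [86, 11], [44, 38, 37]),
  ([4, 2, 1, 1, 2, 1, 0, 1, 2], [87, 10], [46, 39, 37]),
  ([4, 2, 1, 1, 2, 1, 0, 2, 1], [87, 9], [45, 39, 37]),
  ([4, 2, 1, 1, 2, 1, 1, 0, 2], [86, 10], [46, 40, 37]),
  ([4, 2, 1, 1, 2, 1, 1, 2, 0], [85, 9], [45, 41, 37]),
  ([4, 2, 1, 1, 2, 1, 2, 0, 1], [86, 8], [44, 40, 37]),
  ([4, 2, 1, 1, 2, 1, 2, 1, 0], [85, 8], [44, 41, 37]),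
  ([4, 2, 1, 1, 2, 2, 0, 1, 1], [84, 9], [43, 39, 37]),
  ([4, 2, 1, 1, 2, 2, 1, 0, 1], [84, 8], [43, 40, 37]),
  ([4, 2, 1, 1, 2, 2, 1, 1, 0], [83, 8], [43, 41, 37]),
  ([4, 2, 1, 2, 0, 1, 1, 1, 2], [81, 15], [99, 36]),
  ([4, 2, 1, 2, 0, 1, 1, 2, 1], [81, 14], [100, 36]),
  ([4, 2, 1, 2, 0, 1, 2, 1, 1], [80, 14], [101, 36]),
  ([4, 2, 1, 2, 0, 2, 1, 1, 1], [78, 14], [102, 36]),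
  ([4, 2, 1, 2, 1, 0, 1, 1, 2], [81, 12], [50, 38, 36]),
  ([4, 2, 1, 2, 1, 0, 1, 2, 1], [81, 11], [49, 38, 36]),
  ([4, 2, 1, 2, 1, 0, 2, 1, 1], [80, 11], [48, 38, 36]),
  ([4, 2, 1, 2, 1, 1, 0, 1, 2], [81, 10], [50, 39, 36]),
  ([4, 2, 1, 2, 1, 1, 0, 2, 1], [81, 9], [49, 39, 36]),
  ([4, 2, 1, 2, 1, 1, 1, 0, 2], [80, 10], [50, 40, 36]),
  ([4, 2, 1, 2, 1, 1, 1, 2, 0], [79, 9], [49, 41, 36]),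
  ([4, 2, 1, 2, 1, 1, 2, 0, 1], [80, 8], [48, 40, 36]),
  ([4, 2, 1, 2, 1, 1, 2, 1, 0], [79, 8], [48, 41, 36]),
  ([4, 2, 1, 2, 1, 2, 0, 1, 1], [78, 9], [47, 39, 36]),
  ([4, 2, 1, 2, 1, 2, 1, 0, 1], [78, 8], [47, 40, 36]),
  ([4, 2, 1, 2, 1, 2, 1, 1, 0], [77, 8], [47, 41, 36]),
  ([4, 2, 1, 2, 2, 0, 1, 1, 1], [75, 11], [102, 42]),
  ([4, 2, 1, 2, 2, 1, 0, 1, 1], [75, 9], [101, 42]),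
  ([4, 2, 1, 2, 2, 1, 1, 0, 1], [75, 8], [100, 42]),
  ([4, 2, 1, 2, 2, 1, 1, 1, 0], [74, 8], [99, 42]),
  ([4, 2, 2, 0, 1, 1, 1, 1, 2], [71, 19], [110, 37]),
  ([4, 2, 2, 0, 1, 1, 1, 2, 1], [71, 18], [111, 37]),
  ([4, 2, 2, 0, 1, 1, 2, 1, 1], [70, 18], [112, 37]),
  ([4, 2, 2, 0, 1, 2, 1, 1, 1], [68, 18], [113, 37]),
  ([4, 2, 2, 0, 2, 1, 1, 1, 1], [65, 18], [37]),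
  ([4, 2, 2, 1, 0, 1, 1, 1, 2], [71, 15], [105, 36]),
  ([4, 2, 2, 1, 0, 1, 1, 2, 1], [71, 14], [106, 36]),
  ([4, 2, 2, 1, 0, 1, 2, 1, 1], [70, 14], [107, 36]),
  ([4, 2, 2, 1, 0, 2, 1, 1, 1], [68, 14], [108, 36]),
  ([4, 2, 2, 1, 1, 0, 1, 1, 2], [71, 12], [50, 43, 36]),
  ([4, 2, 2, 1, 1, 0, 1, 2, 1], [71, 11], [49, 43, 36]),
  ([4, 2, 2, 1, 1, 0, 2, 1, 1], [70, 11], [48, 43, 36]),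
  ([4, 2, 2, 1, 1, 1, 0, 1, 2], [71, 10], [50, 44, 36]),
  ([4, 2, 2, 1, 1, 1, 0, 2, 1], [71, 9], [49, 44, 36]),
  ([4, 2, 2, 1, 1, 1, 1, 0, 2], [70, 10], [50, 45, 36]),
  ([4, 2, 2, 1, 1, 1, 1, 2, 0], [69, 9], [49, 46, 36]),
  ([4, 2, 2, 1, 1, 1, 2, 0, 1], [70, 8], [48, 45, 36]),
  ([4, 2, 2, 1, 1, 1, 2, 1, 0], [69, 8], [48, 46, 36]),
  ([4, 2, 2, 1, 1, 2, 0, 1, 1], [68, 9], [47, 44, 36]),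
  ([4, 2, 2, 1, 1, 2, 1, 0, 1], [68, 8], [47, 45, 36]),
  ([4, 2, 2, 1, 1, 2, 1, 1, 0], [67, 8], [47, 46, 36]),
  ([4, 2, 2, 1, 2, 0, 1, 1, 1], [65, 11], [108, 37]),
  ([4, 2, 2, 1, 2, 1, 0, 1, 1], [65, 9], [107, 37]),
  ([4, 2, 2, 1, 2, 1, 1, 0, 1], [65, 8], [106, 37]),
  ([4, 2, 2, 1, 2, 1, 1, 1, 0], [64, 8], [105, 37]),
  ([4, 2, 2, 2, 0, 1, 1, 1, 1], [61, 14], [36]),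
  ([4, 2, 2, 2, 1, 0, 1, 1, 1], [61, 11], [113, 36]),
  ([4, 2, 2, 2, 1, 1, 0, 1, 1], [61, 9], [112, 36]),
  ([4, 2, 2, 2, 1, 1, 1, 0, 1], [61, 8], [111, 36]),
  ([4, 2, 2, 2, 1, 1, 1, 1, 0], [60, 8], [110, 36]),
  ([4, 3, 1, 1, 1, 1, 1, 1, 1], [0], [54, 47, 36]),
  ([5, 0, 1, 2, 2, 2, 2, 2, 2], [98, 35], []),
  ([5, 0, 2, 1, 2, 2, 2, 2, 2], [97, 34], [104]),
  ([5, 0, 2, 2, 1, 2, 2, 2, 2], [96, 33], [103]),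
  ([5, 0, 2, 2, 2, 1, 2, 2, 2], [95, 32], [102]),
  ([5, 0, 2, 2, 2, 2, 1, 2, 2], [94, 31], [101]),
  ([5, 0, 2, 2, 2, 2, 2, 1, 2], [93, 30], [100]),
  ([5, 0, 2, 2, 2, 2, 2, 2, 1], [92, 29], [99]),
  ([5, 1, 0, 2, 2, 2, 2, 2, 2], [35], []),
  ([5, 1, 1, 1, 1, 2, 2, 2, 3], [92, 88, 0], [53]),
  ([5, 1, 1, 1, 1, 2, 2, 3, 2], [93, 89, 0], [52]),
  ([5, 1, 1, 1, 1, 2, 3, 2, 2], [94, 90, 0], [51]),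
  ([5, 1, 1, 1, 1, 3, 2, 2, 2], [95, 91, 0], [116, 51]),
  ([5, 1, 1, 1, 2, 1, 2, 2, 3], [92, 85, 0], [50]),
  ([5, 1, 1, 1, 2, 1, 2, 3, 2], [93, 86, 0], [49]),
  ([5, 1, 1, 1, 2, 1, 3, 2, 2], [94, 87, 0], [48]),
  ([5, 1, 1, 1, 2, 2, 1, 2, 3], [92, 83, 0], [116, 50]),
  ([5, 1, 1, 1, 2, 2, 1, 3, 2], [93, 84, 0], [116, 49]),
  ([5, 1, 1, 1, 2, 2, 2, 1, 3], [92, 82, 0], [115, 50]),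
  ([5, 1, 1, 1, 2, 2, 2, 3, 1], [93, 82, 0], [114, 49]),
  ([5, 1, 1, 1, 2, 2, 3, 1, 2], [94, 84, 0], [115, 48]),
  ([5, 1, 1, 1, 2, 2, 3, 2, 1], [94, 83, 0], [114, 48]),
  ([5, 1, 1, 1, 2, 3, 1, 2, 2], [95, 87, 0], [48, 47]),
  ([5, 1, 1, 1, 2, 3, 2, 1, 2], [95, 86, 0], [49, 47]),
  ([5, 1, 1, 1, 2, 3, 2, 2, 1], [95, 85, 0], [50, 47]),
  ([5, 1, 1, 1, 3, 1, 2, 2, 2], [96, 91, 0], [112, 48]),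
  ([5, 1, 1, 1, 3, 2, 1, 2, 2], [96, 90, 0], [51, 47]),
  ([5, 1, 1, 1, 3, 2, 2, 1, 2], [96, 89, 0], [52, 47]),
  ([5, 1, 1, 1, 3, 2, 2, 2, 1], [96, 88, 0], [53, 47]),
  ([5, 1, 1, 2, 1, 1, 2, 2, 3], [92, 79, 0], [46]),
  ([5, 1, 1, 2, 1, 1, 2, 3, 2], [93, 80, 0], [45]),
  ([5, 1, 1, 2, 1, 1, 3, 2, 2], [94, 81, 0], [44]),
  ([5, 1, 1, 2, 1, 2, 1, 2, 3], [92, 77, 0], [116, 46]),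
  ([5, 1, 1, 2, 1, 2, 1, 3, 2], [93, 78, 0], [116, 45]),
  ([5, 1, 1, 2, 1, 2, 2, 1, 3], [92, 76, 0], [115, 46]),
  ([5, 1, 1, 2, 1, 2, 2, 3, 1], [93, 76, 0], [114, 45]),
  ([5, 1, 1, 2, 1, 2, 3, 1, 2], [94, 78, 0], [115, 44]),
  ([5, 1, 1, 2, 1, 2, 3, 2, 1], [94, 77, 0], [114, 44]),
  ([5, 1, 1, 2, 1, 3, 1, 2, 2], [95, 81, 0], [44, 43]),
  ([5, 1, 1, 2, 1, 3, 2, 1, 2], [95, 80, 0], [45, 43]),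
  ([5, 1, 1, 2, 1, 3, 2, 2, 1], [95, 79, 0], [46, 43]),
  ([5, 1, 1, 2, 2, 1, 1, 2, 3], [92, 74, 0], [112, 46]),
  ([5, 1, 1, 2, 2, 1, 1, 3, 2], [93, 75, 0], [112, 45]),
  ([5, 1, 1, 2, 2, 1, 2, 1, 3], [92, 73, 0], [111, 46]),
  ([5, 1, 1, 2, 2, 1, 2, 3, 1], [93, 73, 0], [110, 45]),
  ([5, 1, 1, 2, 2, 1, 3, 1, 2], [94, 75, 0], [111, 44]),
  ([5, 1, 1, 2, 2, 1, 3, 2, 1], [94, 74, 0], [110, 44]),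
  ([5, 1, 1, 2, 2, 2, 1, 1, 3], [92, 72, 0], [116, 111, 46]),
  ([5, 1, 1, 2, 2, 2, 1, 3, 1], [93, 72, 0], [116, 110, 45]),
  ([5, 1, 1, 2, 2, 2, 3, 1, 1], [94, 72, 0], [115, 110, 44]),
  ([5, 1, 1, 2, 2, 3, 1, 1, 2], [95, 75, 0], [111, 44, 43]),
  ([5, 1, 1, 2, 2, 3, 1, 2, 1], [95, 74, 0], [110, 44, 43]),
  ([5, 1, 1, 2, 2, 3, 2, 1, 1], [95, 73, 0], [110, 45, 43]),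
  ([5, 1, 1, 2, 3, 1, 1, 2, 2], [96, 81, 0], [44, 42]),
  ([5, 1, 1, 2, 3, 1, 2, 1, 2], [96, 80, 0], [45, 42]),
  ([5, 1, 1, 2, 3, 1, 2, 2, 1], [96, 79, 0], [46, 42]),
  ([5, 1, 1, 2, 3, 2, 1, 1, 2], [96, 78, 0], [115, 44, 42]),
  ([5, 1, 1, 2, 3, 2, 1, 2, 1], [96, 77, 0], [114, 44, 42]),
  ([5, 1, 1, 2, 3, 2, 2, 1, 1], [96, 76, 0], [114, 45, 42]),
  ([5, 1, 1, 3, 1, 1, 2, 2, 2], [97, 91, 0], [107, 44]),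
  ([5, 1, 1, 3, 1, 2, 1, 2, 2], [97, 90, 0], [51, 43]),
  ([5, 1, 1, 3, 1, 2, 2, 1, 2], [97, 89, 0], [52, 43]),
  ([5, 1, 1, 3, 1, 2, 2, 2, 1], [97, 88, 0], [53, 43]),
  ([5, 1, 1, 3, 2, 1, 1, 2, 2], [97, 87, 0], [48, 42]),
  ([5, 1, 1, 3, 2, 1, 2, 1, 2], [97, 86, 0], [49, 42]),
  ([5, 1, 1, 3, 2, 1, 2, 2, 1], [97, 85, 0], [50, 42]),
  ([5, 1, 1, 3, 2, 2, 1, 1, 2], [97, 84, 0], [115, 48, 42]),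
  ([5, 1, 1, 3, 2, 2, 1, 2, 1], [97, 83, 0], [114, 48, 42]),
  ([5, 1, 1, 3, 2, 2, 2, 1, 1], [97, 82, 0], [114, 49, 42]),
  ([5, 1, 2, 0, 2, 2, 2, 2, 2], [34], [104]),
  ([5, 1, 2, 1, 1, 1, 2, 2, 3], [92, 69, 0], [41]),
  ([5, 1, 2, 1, 1, 1, 2, 3, 2], [93, 70, 0], [40]),
  ([5, 1, 2, 1, 1, 1, 3, 2, 2], [94, 71, 0], [39]),
  ([5, 1, 2, 1, 1, 2, 1, 2, 3], [92, 67, 0], [116, 41]),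
  ([5, 1, 2, 1, 1, 2, 1, 3, 2], [93, 68, 0], [116, 40]),
  ([5, 1, 2, 1, 1, 2, 2, 1, 3], [92, 66, 0], [115, 41]),
  ([5, 1, 2, 1, 1, 2, 2, 3, 1], [93, 66, 0], [114, 40]),
  ([5, 1, 2, 1, 1, 2, 3, 1, 2], [94, 68, 0], [115, 39]),
  ([5, 1, 2, 1, 1, 2, 3, 2, 1], [94, 67, 0], [114, 39]),
  ([5, 1, 2, 1, 1, 3, 1, 2, 2], [95, 71, 0], [39, 38]),
  ([5, 1, 2, 1, 1, 3, 2, 1, 2], [95, 70, 0], [40, 38]),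
  ([5, 1, 2, 1, 1, 3, 2, 2, 1], [95, 69, 0], [41, 38]),
  ([5, 1, 2, 1, 2, 1, 1, 2, 3], [92, 64, 0], [112, 41]),
  ([5, 1, 2, 1, 2, 1, 1, 3, 2], [93, 65, 0], [112, 40]),
  ([5, 1, 2, 1, 2, 1, 2, 1, 3], [92, 63, 0], [111, 41]),
  ([5, 1, 2, 1, 2, 1, 2, 3, 1], [93, 63, 0], [110, 40]),
  ([5, 1, 2, 1, 2, 1, 3, 1, 2], [94, 65, 0], [111, 39]),
  ([5, 1, 2, 1, 2, 1, 3, 2, 1], [94, 64, 0], [110, 39]),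
  ([5, 1, 2, 1, 2, 2, 1, 1, 3], [92, 62, 0], [116, 111, 41]),
  ([5, 1, 2, 1, 2, 2, 1, 3, 1], [93, 62, 0], [116, 110, 40]),
  ([5, 1, 2, 1, 2, 2, 3, 1, 1], [94, 62, 0], [115, 110, 39]),
  ([5, 1, 2, 1, 2, 3, 1, 1, 2], [95, 65, 0], [111, 39, 38]),
  ([5, 1, 2, 1, 2, 3, 1, 2, 1], [95, 64, 0], [110, 39, 38]),
  ([5, 1, 2, 1, 2, 3, 2, 1, 1], [95, 63, 0], [110, 40, 38]),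
  ([5, 1, 2, 1, 3, 1, 1, 2, 2], [96, 71, 0], [39, 37]),
  ([5, 1, 2, 1, 3, 1, 2, 1, 2], [96, 70, 0], [40, 37]),
  ([5, 1, 2, 1, 3, 1, 2, 2, 1], [96, 69, 0], [41, 37]),
  ([5, 1, 2, 1, 3, 2, 1, 1, 2], [96, 68, 0], [115, 39, 37]),
  ([5, 1, 2, 1, 3, 2, 1, 2, 1], [96, 67, 0], [114, 39, 37]),
  ([5, 1, 2, 1, 3, 2, 2, 1, 1], [96, 66, 0], [114, 40, 37]),
  ([5, 1, 2, 2, 0, 2, 2, 2, 2], [33], [103]),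
  ([5, 1, 2, 2, 1, 1, 1, 2, 3], [92, 60, 0], [107, 41]),
  ([5, 1, 2, 2, 1, 1, 1, 3, 2], [93, 61, 0], [107, 40]),
  ([5, 1, 2, 2, 1, 1, 2, 1, 3], [92, 59, 0], [106, 41]),
  ([5, 1, 2, 2, 1, 1, 2, 3, 1], [93, 59, 0], [105, 40]),
  ([5, 1, 2, 2, 1, 1, 3, 1, 2], [94, 61, 0], [106, 39]),
  ([5, 1, 2, 2, 1, 1, 3, 2, 1], [94, 60, 0], [105, 39]),
  ([5, 1, 2, 2, 1, 2, 1, 1, 3], [92, 58, 0], [116, 106, 41]),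
  ([5, 1, 2, 2, 1, 2, 1, 3, 1], [93, 58, 0], [116, 105, 40]),
  ([5, 1, 2, 2, 1, 2, 3, 1, 1], [94, 58, 0], [115, 105, 39]),
  ([5, 1, 2, 2, 1, 3, 1, 1, 2], [95, 61, 0], [106, 39, 38]),
  ([5, 1, 2, 2, 1, 3, 1, 2, 1], [95, 60, 0], [105, 39, 38]),
  ([5, 1, 2, 2, 1, 3, 2, 1, 1], [95, 59, 0], [105, 40, 38]),
  ([5, 1, 2, 2, 2, 0, 2, 2, 2], [32], [102]),
  ([5, 1, 2, 2, 2, 1, 1, 1, 3], [92, 57, 0], [112, 106, 41]),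
  ([5, 1, 2, 2, 2, 1, 1, 3, 1], [93, 57, 0], [112, 105, 40]),
  ([5, 1, 2, 2, 2, 1, 3, 1, 1], [94, 57, 0], [111, 105, 39]),
  ([5, 1, 2, 2, 2, 2, 0, 2, 2], [31], [101]),
  ([5, 1, 2, 2, 2, 2, 2, 0, 2], [30], [100]),
  ([5, 1, 2, 2, 2, 2, 2, 2, 0], [29], [99]),
  ([5, 1, 2, 2, 2, 3, 1, 1, 1], [95, 57, 0], [111, 105, 39, 38]),
  ([5, 1, 2, 2, 3, 1, 1, 1, 2], [96, 61, 0], [106, 39, 37]),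
  ([5, 1, 2, 2, 3, 1, 1, 2, 1], [96, 60, 0], [105, 39, 37]),
  ([5, 1, 2, 2, 3, 1, 2, 1, 1], [96, 59, 0], [105, 40, 37]),
  ([5, 1, 2, 2, 3, 2, 1, 1, 1], [96, 58, 0], [115, 105, 39, 37]),
  ([5, 1, 2, 3, 1, 1, 1, 2, 2], [97, 71, 0], [39, 36]),
  ([5, 1, 2, 3, 1, 1, 2, 1, 2], [97, 70, 0], [40, 36]),
  ([5, 1, 2, 3, 1, 1, 2, 2, 1], [97, 69, 0], [41, 36]),
  ([5, 1, 2, 3, 1, 2, 1, 1, 2], [97, 68, 0], [115, 39, 36]),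
  ([5, 1, 2, 3, 1, 2, 1, 2, 1], [97, 67, 0], [114, 39, 36]),
  ([5, 1, 2, 3, 1, 2, 2, 1, 1], [97, 66, 0], [114, 40, 36]),
  ([5, 1, 2, 3, 2, 1, 1, 1, 2], [97, 65, 0], [111, 39, 36]),
  ([5, 1, 2, 3, 2, 1, 1, 2, 1], [97, 64, 0], [110, 39, 36]),
  ([5, 1, 2, 3, 2, 1, 2, 1, 1], [97, 63, 0], [110, 40, 36]),
  ([5, 1, 2, 3, 2, 2, 1, 1, 1], [97, 62, 0], [115, 110, 39, 36]),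
  ([5, 1, 3, 1, 1, 1, 2, 2, 2], [98, 91, 0], [101, 39]),
  ([5, 1, 3, 1, 1, 2, 1, 2, 2], [98, 90, 0], [51, 38]),
  ([5, 1, 3, 1, 1, 2, 2, 1, 2], [98, 89, 0], [52, 38]),
  ([5, 1, 3, 1, 1, 2, 2, 2, 1], [98, 88, 0], [53, 38]),
  ([5, 1, 3, 1, 2, 1, 1, 2, 2], [98, 87, 0], [48, 37]),
  ([5, 1, 3, 1, 2, 1, 2, 1, 2], [98, 86, 0], [49, 37]),
  ([5, 1, 3, 1, 2, 1, 2, 2, 1], [98, 85, 0], [50, 37]),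
  ([5, 1, 3, 1, 2, 2, 1, 1, 2], [98, 84, 0], [115, 48, 37]),
  ([5, 1, 3, 1, 2, 2, 1, 2, 1], [98, 83, 0], [114, 48, 37]),
  ([5, 1, 3, 1, 2, 2, 2, 1, 1], [98, 82, 0], [114, 49, 37]),
  ([5, 1, 3, 2, 1, 1, 1, 2, 2], [98, 81, 0], [44, 36]),
  ([5, 1, 3, 2, 1, 1, 2, 1, 2], [98, 80, 0], [45, 36]),
  ([5, 1, 3, 2, 1, 1, 2, 2, 1], [98, 79, 0], [46, 36]),
  ([5, 1, 3, 2, 1, 2, 1, 1, 2], [98, 78, 0], [115, 44, 36]),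
  ([5, 1, 3, 2, 1, 2, 1, 2, 1], [98, 77, 0], [114, 44, 36]),
  ([5, 1, 3, 2, 1, 2, 2, 1, 1], [98, 76, 0], [114, 45, 36]),
  ([5, 1, 3, 2, 2, 1, 1, 1, 2], [98, 75, 0], [111, 44, 36]),
  ([5, 1, 3, 2, 2, 1, 1, 2, 1], [98, 74, 0], [110, 44, 36]),
  ([5, 1, 3, 2, 2, 1, 2, 1, 1], [98, 73, 0], [110, 45, 36]),
  ([5, 1, 3, 2, 2, 2, 1, 1, 1], [98, 72, 0], [115, 110, 44, 36]),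
  ([5, 2, 0, 1, 2, 2, 2, 2, 2], [35, 28], [54, 47]),
  ([5, 2, 0, 2, 1, 2, 2, 2, 2], [35, 27], [54, 43]),
  ([5, 2, 0, 2, 2, 1, 2, 2, 2], [35, 26], [54, 42]),
  ([5, 2, 0, 2, 2, 2, 1, 2, 2], [35, 25], [52, 42]),
  ([5, 2, 0, 2, 2, 2, 2, 1, 2], [35, 24], [51, 42]),
  ([5, 2, 0, 2, 2, 2, 2, 2, 1], [35, 23], [119, 51, 42]),
  ([5, 2, 1, 0, 2, 2, 2, 2, 2], [34, 28], [104, 54, 47]),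
  ([5, 2, 1, 1, 1, 1, 2, 2, 3], [10, 7], [54, 41]),
  ([5, 2, 1, 1, 1, 1, 2, 3, 2], [9, 6], [101, 40]),
  ([5, 2, 1, 1, 1, 1, 3, 2, 2], [8, 5], [100, 39]),
  ([5, 2, 1, 1, 1, 2, 1, 2, 3], [12, 7], [52, 41]),
  ([5, 2, 1, 1, 1, 2, 1, 3, 2], [11, 6], [102, 40]),
  ([5, 2, 1, 1, 1, 2, 2, 1, 3], [13, 7], [51, 41]),
  ([5, 2, 1, 1, 1, 2, 2, 3, 1], [13, 6], [51, 41, 40]),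
  ([5, 2, 1, 1, 1, 2, 3, 1, 2], [11, 5], [102, 39]),
  ([5, 2, 1, 1, 1, 2, 3, 2, 1], [12, 5], [52, 41, 39]),
  ([5, 2, 1, 1, 1, 3, 1, 2, 2], [8, 4], [100, 38]),
  ([5, 2, 1, 1, 1, 3, 2, 1, 2], [9, 4], [101, 38]),
  ([5, 2, 1, 1, 1, 3, 2, 2, 1], [10, 4], [54, 41, 38]),
  ([5, 2, 1, 1, 2, 1, 1, 2, 3], [15, 7], [49, 41]),
  ([5, 2, 1, 1, 2, 1, 1, 3, 2], [14, 6], [103, 40]),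
  ([5, 2, 1, 1, 2, 1, 2, 1, 3], [16, 7], [48, 41]),
  ([5, 2, 1, 1, 2, 1, 2, 3, 1], [16, 6], [48, 41, 40]),
  ([5, 2, 1, 1, 2, 1, 3, 1, 2], [14, 5], [103, 39]),
  ([5, 2, 1, 1, 2, 1, 3, 2, 1], [15, 5], [49, 41, 39]),
  ([5, 2, 1, 1, 2, 2, 1, 1, 3], [17, 7], [47, 41]),
  ([5, 2, 1, 1, 2, 2, 1, 3, 1], [17, 6], [47, 41, 40]),
  ([5, 2, 1, 1, 2, 2, 3, 1, 1], [17, 5], [47, 41, 39]),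
  ([5, 2, 1, 1, 2, 3, 1, 1, 2], [14, 4], [103, 38]),
  ([5, 2, 1, 1, 2, 3, 1, 2, 1], [15, 4], [49, 41, 38]),
  ([5, 2, 1, 1, 2, 3, 2, 1, 1], [16, 4], [48, 41, 38]),
  ([5, 2, 1, 1, 3, 1, 1, 2, 2], [8, 3], [100, 37]),
  ([5, 2, 1, 1, 3, 1, 2, 1, 2], [9, 3], [101, 37]),
  ([5, 2, 1, 1, 3, 1, 2, 2, 1], [10, 3], [54, 41, 37]),
  ([5, 2, 1, 1, 3, 2, 1, 1, 2], [11, 3], [102, 37]),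
  ([5, 2, 1, 1, 3, 2, 1, 2, 1], [12, 3], [52, 41, 37]),
  ([5, 2, 1, 1, 3, 2, 2, 1, 1], [13, 3], [51, 41, 37]),
  ([5, 2, 1, 2, 0, 2, 2, 2, 2], [33, 27], [103, 54, 43]),
  ([5, 2, 1, 2, 1, 1, 1, 2, 3], [19, 7], [45, 41]),
  ([5, 2, 1, 2, 1, 1, 1, 3, 2], [18, 6], [104, 40]),
  ([5, 2, 1, 2, 1, 1, 2, 1, 3], [20, 7], [44, 41]),
  ([5, 2, 1, 2, 1, 1, 2, 3, 1], [20, 6], [44, 41, 40]),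
  ([5, 2, 1, 2, 1, 1, 3, 1, 2], [18, 5], [104, 39]),
  ([5, 2, 1, 2, 1, 1, 3, 2, 1], [19, 5], [45, 41, 39]),
  ([5, 2, 1, 2, 1, 2, 1, 1, 3], [21, 7], [43, 41]),
  ([5, 2, 1, 2, 1, 2, 1, 3, 1], [21, 6], [43, 41, 40]),
  ([5, 2, 1, 2, 1, 2, 3, 1, 1], [21, 5], [43, 41, 39]),
  ([5, 2, 1, 2, 1, 3, 1, 1, 2], [18, 4], [104, 38]),
  ([5, 2, 1, 2, 1, 3, 1, 2, 1], [19, 4], [45, 41, 38]),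
  ([5, 2, 1, 2, 1, 3, 2, 1, 1], [20, 4], [44, 41, 38]),
  ([5, 2, 1, 2, 2, 0, 2, 2, 2], [32, 26], [102, 54, 42]),
  ([5, 2, 1, 2, 2, 1, 1, 1, 3], [22, 7], [42, 41]),
  ([5, 2, 1, 2, 2, 1, 1, 3, 1], [22, 6], [42, 41, 40]),
  ([5, 2, 1, 2, 2, 1, 3, 1, 1], [22, 5], [42, 41, 39]),
  ([5, 2, 1, 2, 2, 2, 0, 2, 2], [31, 25], [101, 52, 42]),
  ([5, 2, 1, 2, 2, 2, 2, 0, 2], [30, 24], [100, 51, 42]),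
  ([5, 2, 1, 2, 2, 2, 2, 2, 0], [29, 23], [100, 99, 51, 42]),
  ([5, 2, 1, 2, 2, 3, 1, 1, 1], [22, 4], [42, 41, 38]),
  ([5, 2, 1, 2, 3, 1, 1, 1, 2], [18, 3], [104, 37]),
  ([5, 2, 1, 2, 3, 1, 1, 2, 1], [19, 3], [45, 41, 37]),
  ([5, 2, 1, 2, 3, 1, 2, 1, 1], [20, 3], [44, 41, 37]),
  ([5, 2, 1, 2, 3, 2, 1, 1, 1], [21, 3], [43, 41, 37]),
  ([5, 2, 1, 3, 1, 1, 1, 2, 2], [8, 2], [100, 36]),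
  ([5, 2, 1, 3, 1, 1, 2, 1, 2], [9, 2], [101, 36]),
  ([5, 2, 1, 3, 1, 1, 2, 2, 1], [10, 2], [54, 41, 36]),
  ([5, 2, 1, 3, 1, 2, 1, 1, 2], [11, 2], [102, 36]),
  ([5, 2, 1, 3, 1, 2, 1, 2, 1], [12, 2], [52, 41, 36]),
  ([5, 2, 1, 3, 1, 2, 2, 1, 1], [13, 2], [51, 41, 36]),
  ([5, 2, 1, 3, 2, 1, 1, 1, 2], [14, 2], [103, 36]),
  ([5, 2, 1, 3, 2, 1, 1, 2, 1], [15, 2], [49, 41, 36]),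
  ([5, 2, 1, 3, 2, 1, 2, 1, 1], [16, 2], [48, 41, 36]),
  ([5, 2, 1, 3, 2, 2, 1, 1, 1], [17, 2], [47, 41, 36]),
  ([5, 2, 2, 0, 1, 2, 2, 2, 2], [34, 22], [54, 43, 38]),
  ([5, 2, 2, 0, 2, 1, 2, 2, 2], [34, 21], [54, 42, 37]),
  ([5, 2, 2, 0, 2, 2, 1, 2, 2], [34, 20], [52, 42, 37]),
  ([5, 2, 2, 0, 2, 2, 2, 1, 2], [34, 19], [51, 42, 37]),
  ([5, 2, 2, 0, 2, 2, 2, 2, 1], [34, 18], [119, 51, 42, 37]),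
  ([5, 2, 2, 1, 0, 2, 2, 2, 2], [33, 22], [54, 47, 38]),
  ([5, 2, 2, 1, 1, 1, 1, 2, 3], [24, 7], [119, 40]),
  ([5, 2, 2, 1, 1, 1, 1, 3, 2], [23, 6], [40]),
  ([5, 2, 2, 1, 1, 1, 2, 1, 3], [25, 7], [117, 39]),
  ([5, 2, 2, 1, 1, 1, 2, 3, 1], [25, 6], [117, 40]),
  ([5, 2, 2, 1, 1, 1, 3, 1, 2], [23, 5], [39]),
  ([5, 2, 2, 1, 1, 1, 3, 2, 1], [24, 5], [119, 39]),
  ([5, 2, 2, 1, 1, 2, 1, 1, 3], [26, 7], [114, 38]),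
  ([5, 2, 2, 1, 1, 2, 1, 3, 1], [26, 6], [114, 40]),
  ([5, 2, 2, 1, 1, 2, 3, 1, 1], [26, 5], [114, 39]),
  ([5, 2, 2, 1, 1, 3, 1, 1, 2], [23, 4], [38]),
  ([5, 2, 2, 1, 1, 3, 1, 2, 1], [24, 4], [119, 38]),
  ([5, 2, 2, 1, 1, 3, 2, 1, 1], [25, 4], [117, 38]),
  ([5, 2, 2, 1, 2, 0, 2, 2, 2], [32, 21], [54, 47, 37]),
  ([5, 2, 2, 1, 2, 1, 1, 1, 3], [27, 7], [110, 37]),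
  ([5, 2, 2, 1, 2, 1, 1, 3, 1], [27, 6], [110, 40]),
  ([5, 2, 2, 1, 2, 1, 3, 1, 1], [27, 5], [110, 39]),
  ([5, 2, 2, 1, 2, 2, 0, 2, 2], [31, 20], [52, 48, 37]),
  ([5, 2, 2, 1, 2, 2, 2, 0, 2], [30, 19], [51, 49, 37]),
  ([5, 2, 2, 1, 2, 2, 2, 2, 0], [29, 18], [99, 54, 47]),
  ([5, 2, 2, 1, 2, 3, 1, 1, 1], [27, 4], [110, 38]),
  ([5, 2, 2, 1, 3, 1, 1, 1, 2], [23, 3], [37]),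
  ([5, 2, 2, 1, 3, 1, 1, 2, 1], [24, 3], [119, 37]),
  ([5, 2, 2, 1, 3, 1, 2, 1, 1], [25, 3], [117, 37]),
  ([5, 2, 2, 1, 3, 2, 1, 1, 1], [26, 3], [114, 37]),
  ([5, 2, 2, 2, 0, 1, 2, 2, 2], [33, 17], [54, 42, 36]),
  ([5, 2, 2, 2, 0, 2, 1, 2, 2], [33, 16], [52, 42, 36]),
  ([5, 2, 2, 2, 0, 2, 2, 1, 2], [33, 15], [51, 42, 36]),
  ([5, 2, 2, 2, 0, 2, 2, 2, 1], [33, 14], [119, 51, 42, 36]),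
  ([5, 2, 2, 2, 1, 0, 2, 2, 2], [32, 17], [54, 43, 36]),
  ([5, 2, 2, 2, 1, 1, 1, 1, 3], [28, 7], [105, 36]),
  ([5, 2, 2, 2, 1, 1, 1, 3, 1], [28, 6], [105, 40]),
  ([5, 2, 2, 2, 1, 1, 3, 1, 1], [28, 5], [105, 39]),
  ([5, 2, 2, 2, 1, 2, 0, 2, 2], [31, 16], [52, 44, 36]),
  ([5, 2, 2, 2, 1, 2, 2, 0, 2], [30, 15], [51, 45, 36]),
  ([5, 2, 2, 2, 1, 2, 2, 2, 0], [29, 14], [99, 54, 43]),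
  ([5, 2, 2, 2, 1, 3, 1, 1, 1], [28, 4], [105, 38]),
  ([5, 2, 2, 2, 2, 0, 1, 2, 2], [32, 13], [49, 43, 36]),
  ([5, 2, 2, 2, 2, 0, 2, 1, 2], [32, 12], [48, 43, 36]),
  ([5, 2, 2, 2, 2, 0, 2, 2, 1], [32, 11], [119, 48, 43, 36]),
  ([5, 2, 2, 2, 2, 1, 0, 2, 2], [31, 13], [49, 44, 36]),
  ([5, 2, 2, 2, 2, 1, 2, 0, 2], [30, 12], [48, 45, 36]),
  ([5, 2, 2, 2, 2, 1, 2, 2, 0], [29, 11], [99, 54, 42]),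
  ([5, 2, 2, 2, 2, 2, 0, 1, 2], [31, 10], [47, 44, 36]),
  ([5, 2, 2, 2, 2, 2, 0, 2, 1], [31, 9], [119, 47, 44, 36]),
  ([5, 2, 2, 2, 2, 2, 1, 0, 2], [30, 10], [47, 45, 36]),
  ([5, 2, 2, 2, 2, 2, 1, 2, 0], [29, 9], [99, 52, 42]),
  ([5, 2, 2, 2, 2, 2, 2, 0, 1], [30, 8], [117, 47, 45, 36]),
  ([5, 2, 2, 2, 2, 2, 2, 1, 0], [29, 8], [99, 51, 42]),
  ([5, 2, 2, 2, 3, 1, 1, 1, 1], [28, 3], [105, 37]),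
  ([5, 2, 2, 3, 1, 1, 1, 1, 2], [23, 2], [36]),
  ([5, 2, 2, 3, 1, 1, 1, 2, 1], [24, 2], [119, 36]),
  ([5, 2, 2, 3, 1, 1, 2, 1, 1], [25, 2], [117, 36]),
  ([5, 2, 2, 3, 1, 2, 1, 1, 1], [26, 2], [114, 36]),
  ([5, 2, 2, 3, 2, 1, 1, 1, 1], [27, 2], [110, 36]),
  ([5, 2, 3, 1, 1, 1, 1, 2, 2], [8, 1], [100, 40]),
  ([5, 2, 3, 1, 1, 1, 2, 1, 2], [9, 1], [101, 39]),
  ([5, 2, 3, 1, 1, 1, 2, 2, 1], [10, 1], [119, 101, 39]),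
  ([5, 2, 3, 1, 1, 2, 1, 1, 2], [11, 1], [102, 38]),
  ([5, 2, 3, 1, 1, 2, 1, 2, 1], [12, 1], [119, 102, 38]),
  ([5, 2, 3, 1, 1, 2, 2, 1, 1], [13, 1], [117, 102, 38]),
  ([5, 2, 3, 1, 2, 1, 1, 1, 2], [14, 1], [103, 37]),
  ([5, 2, 3, 1, 2, 1, 1, 2, 1], [15, 1], [119, 103, 37]),
  ([5, 2, 3, 1, 2, 1, 2, 1, 1], [16, 1], [117, 103, 37]),
  ([5, 2, 3, 1, 2, 2, 1, 1, 1], [17, 1], [114, 103, 37]),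
  ([5, 2, 3, 2, 1, 1, 1, 1, 2], [18, 1], [104, 36]),
  ([5, 2, 3, 2, 1, 1, 1, 2, 1], [19, 1], [119, 104, 36]),
  ([5, 2, 3, 2, 1, 1, 2, 1, 1], [20, 1], [117, 104, 36]),
  ([5, 2, 3, 2, 1, 2, 1, 1, 1], [21, 1], [114, 104, 36]),
  ([5, 2, 3, 2, 2, 1, 1, 1, 1], [22, 1], [110, 104, 36]),
  ([5, 3, 1, 1, 1, 1, 2, 2, 2], [91, 0], [50, 45, 39]),
  ([5, 3, 1, 1, 1, 2, 1, 2, 2], [90, 0], [50, 45, 38]),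
  ([5, 3, 1, 1, 1, 2, 2, 1, 2], [89, 0], [50, 44, 38]),
  ([5, 3, 1, 1, 1, 2, 2, 2, 1], [88, 0], [49, 44, 38]),
  ([5, 3, 1, 1, 2, 1, 1, 2, 2], [87, 0], [99, 45, 37]),
  ([5, 3, 1, 1, 2, 1, 2, 1, 2], [86, 0], [99, 44, 37]),
  ([5, 3, 1, 1, 2, 1, 2, 2, 1], [85, 0], [100, 44, 37]),
  ([5, 3, 1, 1, 2, 2, 1, 1, 2], [84, 0], [99, 43, 37]),
  ([5, 3, 1, 1, 2, 2, 1, 2, 1], [83, 0], [100, 43, 37]),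
  ([5, 3, 1, 1, 2, 2, 2, 1, 1], [82, 0], [101, 43, 37]),
  ([5, 3, 1, 2, 1, 1, 1, 2, 2], [81, 0], [99, 49, 36]),
  ([5, 3, 1, 2, 1, 1, 2, 1, 2], [80, 0], [99, 48, 36]),
  ([5, 3, 1, 2, 1, 1, 2, 2, 1], [79, 0], [100, 48, 36]),
  ([5, 3, 1, 2, 1, 2, 1, 1, 2], [78, 0], [99, 47, 36]),
  ([5, 3, 1, 2, 1, 2, 1, 2, 1], [77, 0], [100, 47, 36]),
  ([5, 3, 1, 2, 1, 2, 2, 1, 1], [76, 0], [101, 47, 36]),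
  ([5, 3, 1, 2, 2, 1, 1, 1, 2], [75, 0], [42, 41]),
  ([5, 3, 1, 2, 2, 1, 1, 2, 1], [74, 0], [42, 40]),
  ([5, 3, 1, 2, 2, 1, 2, 1, 1], [73, 0], [42, 39]),
  ([5, 3, 1, 2, 2, 2, 1, 1, 1], [72, 0], [42, 38]),
  ([5, 3, 2, 1, 1, 1, 1, 2, 2], [71, 0], [105, 49, 36]),
  ([5, 3, 2, 1, 1, 1, 2, 1, 2], [70, 0], [105, 48, 36]),
  ([5, 3, 2, 1, 1, 1, 2, 2, 1], [69, 0], [106, 48, 36]),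
  ([5, 3, 2, 1, 1, 2, 1, 1, 2], [68, 0], [105, 47, 36]),
  ([5, 3, 2, 1, 1, 2, 1, 2, 1], [67, 0], [106, 47, 36]),
  ([5, 3, 2, 1, 1, 2, 2, 1, 1], [66, 0], [107, 47, 36]),
  ([5, 3, 2, 1, 2, 1, 1, 1, 2], [65, 0], [46, 37]),
  ([5, 3, 2, 1, 2, 1, 1, 2, 1], [64, 0], [45, 37]),
  ([5, 3, 2, 1, 2, 1, 2, 1, 1], [63, 0], [44, 37]),
  ([5, 3, 2, 1, 2, 2, 1, 1, 1], [62, 0], [43, 37]),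
  ([5, 3, 2, 2, 1, 1, 1, 1, 2], [61, 0], [50, 36]),
  ([5, 3, 2, 2, 1, 1, 1, 2, 1], [60, 0], [49, 36]),
  ([5, 3, 2, 2, 1, 1, 2, 1, 1], [59, 0], [48, 36]),
  ([5, 3, 2, 2, 1, 2, 1, 1, 1], [58, 0], [47, 36]),
  ([5, 3, 2, 2, 2, 1, 1, 1, 1], [57, 0], [113, 47, 36]),
  ([6, 1, 1, 2, 2, 2, 2, 3, 3], [71, 35], [56]),
  ([6, 1, 1, 2, 2, 2, 3, 2, 3], [70, 35], [55]),
  ([6, 1, 1, 2, 2, 2, 3, 3, 2], [69, 35], [54]),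
  ([6, 1, 1, 2, 2, 3, 2, 2, 3], [68, 35], [53]),
  ([6, 1, 1, 2, 2, 3, 2, 3, 2], [67, 35], [52]),
  ([6, 1, 1, 2, 2, 3, 3, 2, 2], [66, 35], [51]),
  ([6, 1, 1, 2, 3, 2, 2, 2, 3], [65, 35], [50]),
  ([6, 1, 1, 2, 3, 2, 2, 3, 2], [64, 35], [49]),
  ([6, 1, 1, 2, 3, 2, 3, 2, 2], [63, 35], [48]),
  ([6, 1, 1, 2, 3, 3, 2, 2, 2], [62, 35], [47]),
  ([6, 1, 1, 3, 2, 2, 2, 2, 3], [61, 35], [46]),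
  ([6, 1, 1, 3, 2, 2, 2, 3, 2], [60, 35], [45]),
  ([6, 1, 1, 3, 2, 2, 3, 2, 2], [59, 35], [44]),
  ([6, 1, 1, 3, 2, 3, 2, 2, 2], [58, 35], [43]),
  ([6, 1, 1, 3, 3, 2, 2, 2, 2], [57, 35], [42]),
  ([6, 1, 2, 1, 2, 2, 2, 3, 3], [81, 34], [104, 56]),
  ([6, 1, 2, 1, 2, 2, 3, 2, 3], [80, 34], [104, 55]),
  ([6, 1, 2, 1, 2, 2, 3, 3, 2], [79, 34], [104, 54]),
  ([6, 1, 2, 1, 2, 3, 2, 2, 3], [78, 34], [104, 53]),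
  ([6, 1, 2, 1, 2, 3, 2, 3, 2], [77, 34], [104, 52]),
  ([6, 1, 2, 1, 2, 3, 3, 2, 2], [76, 34], [104, 51]),
  ([6, 1, 2, 1, 3, 2, 2, 2, 3], [75, 34], [104, 50]),
  ([6, 1, 2, 1, 3, 2, 2, 3, 2], [74, 34], [104, 49]),
  ([6, 1, 2, 1, 3, 2, 3, 2, 2], [73, 34], [104, 48]),
  ([6, 1, 2, 1, 3, 3, 2, 2, 2], [72, 34], [104, 47]),
  ([6, 1, 2, 2, 1, 2, 2, 3, 3], [87, 33], [103, 56]),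
  ([6, 1, 2, 2, 1, 2, 3, 2, 3], [86, 33], [103, 55]),
  ([6, 1, 2, 2, 1, 2, 3, 3, 2], [85, 33], [103, 54]),
  ([6, 1, 2, 2, 1, 3, 2, 2, 3], [84, 33], [103, 53]),
  ([6, 1, 2, 2, 1, 3, 2, 3, 2], [83, 33], [103, 52]),
  ([6, 1, 2, 2, 1, 3, 3, 2, 2], [82, 33], [103, 51]),
  ([6, 1, 2, 2, 2, 1, 2, 3, 3], [90, 32], [102, 56]),
  ([6, 1, 2, 2, 2, 1, 3, 2, 3], [89, 32], [102, 55]),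
  ([6, 1, 2, 2, 2, 1, 3, 3, 2], [88, 32], [102, 54]),
  ([6, 1, 2, 2, 2, 2, 1, 3, 3], [91, 31], [101, 56]),
  ([6, 1, 2, 2, 2, 2, 3, 1, 3], [91, 30], [100, 55]),
  ([6, 1, 2, 2, 2, 2, 3, 3, 1], [91, 29], [99, 54]),
  ([6, 1, 2, 2, 2, 3, 1, 2, 3], [89, 31], [101, 53]),
  ([6, 1, 2, 2, 2, 3, 1, 3, 2], [88, 31], [101, 52]),
  ([6, 1, 2, 2, 2, 3, 2, 1, 3], [90, 30], [100, 53]),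
  ([6, 1, 2, 2, 2, 3, 2, 3, 1], [90, 29], [99, 52]),
  ([6, 1, 2, 2, 2, 3, 3, 1, 2], [88, 30], [100, 51]),
  ([6, 1, 2, 2, 2, 3, 3, 2, 1], [89, 29], [99, 51]),
  ([6, 1, 2, 2, 3, 1, 2, 2, 3], [84, 32], [102, 50]),
  ([6, 1, 2, 2, 3, 1, 2, 3, 2], [83, 32], [102, 49]),
  ([6, 1, 2, 2, 3, 1, 3, 2, 2], [82, 32], [102, 48]),
  ([6, 1, 2, 2, 3, 2, 1, 2, 3], [86, 31], [101, 50]),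
  ([6, 1, 2, 2, 3, 2, 1, 3, 2], [85, 31], [101, 49]),
  ([6, 1, 2, 2, 3, 2, 2, 1, 3], [87, 30], [100, 50]),
  ([6, 1, 2, 2, 3, 2, 2, 3, 1], [87, 29], [99, 49]),
  ([6, 1, 2, 2, 3, 2, 3, 1, 2], [85, 30], [100, 48]),
  ([6, 1, 2, 2, 3, 2, 3, 2, 1], [86, 29], [99, 48]),
  ([6, 1, 2, 2, 3, 3, 1, 2, 2], [82, 31], [101, 47]),
  ([6, 1, 2, 2, 3, 3, 2, 1, 2], [83, 30], [100, 47]),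
  ([6, 1, 2, 2, 3, 3, 2, 2, 1], [84, 29], [99, 47]),
  ([6, 1, 2, 3, 1, 2, 2, 2, 3], [75, 33], [103, 46]),
  ([6, 1, 2, 3, 1, 2, 2, 3, 2], [74, 33], [103, 45]),
  ([6, 1, 2, 3, 1, 2, 3, 2, 2], [73, 33], [103, 44]),
  ([6, 1, 2, 3, 1, 3, 2, 2, 2], [72, 33], [103, 43]),
  ([6, 1, 2, 3, 2, 1, 2, 2, 3], [78, 32], [102, 46]),
  ([6, 1, 2, 3, 2, 1, 2, 3, 2], [77, 32], [102, 45]),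
  ([6, 1, 2, 3, 2, 1, 3, 2, 2], [76, 32], [102, 44]),
  ([6, 1, 2, 3, 2, 2, 1, 2, 3], [80, 31], [101, 46]),
  ([6, 1, 2, 3, 2, 2, 1, 3, 2], [79, 31], [101, 45]),
  ([6, 1, 2, 3, 2, 2, 2, 1, 3], [81, 30], [100, 46]),
  ([6, 1, 2, 3, 2, 2, 2, 3, 1], [81, 29], [99, 45]),
  ([6, 1, 2, 3, 2, 2, 3, 1, 2], [79, 30], [100, 44]),
  ([6, 1, 2, 3, 2, 2, 3, 2, 1], [80, 29], [99, 44]),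
  ([6, 1, 2, 3, 2, 3, 1, 2, 2], [76, 31], [101, 43]),
  ([6, 1, 2, 3, 2, 3, 2, 1, 2], [77, 30], [100, 43]),
  ([6, 1, 2, 3, 2, 3, 2, 2, 1], [78, 29], [99, 43]),
  ([6, 1, 2, 3, 3, 1, 2, 2, 2], [72, 32], [102, 42]),
  ([6, 1, 2, 3, 3, 2, 1, 2, 2], [73, 31], [101, 42]),
  ([6, 1, 2, 3, 3, 2, 2, 1, 2], [74, 30], [100, 42]),
  ([6, 1, 2, 3, 3, 2, 2, 2, 1], [75, 29], [99, 42]),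
  ([6, 1, 3, 1, 2, 2, 2, 2, 3], [61, 34], [46, 41]),
  ([6, 1, 3, 1, 2, 2, 2, 3, 2], [60, 34], [45, 40]),
  ([6, 1, 3, 1, 2, 2, 3, 2, 2], [59, 34], [44, 39]),
  ([6, 1, 3, 1, 2, 3, 2, 2, 2], [58, 34], [43, 38]),
  ([6, 1, 3, 1, 3, 2, 2, 2, 2], [57, 34], [42, 37]),
  ([6, 1, 3, 2, 1, 2, 2, 2, 3], [65, 33], [50, 41]),
  ([6, 1, 3, 2, 1, 2, 2, 3, 2], [64, 33], [49, 40]),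
  ([6, 1, 3, 2, 1, 2, 3, 2, 2], [63, 33], [48, 39]),
  ([6, 1, 3, 2, 1, 3, 2, 2, 2], [62, 33], [47, 38]),
  ([6, 1, 3, 2, 2, 1, 2, 2, 3], [68, 32], [53, 41]),
  ([6, 1, 3, 2, 2, 1, 2, 3, 2], [67, 32], [52, 40]),
  ([6, 1, 3, 2, 2, 1, 3, 2, 2], [66, 32], [51, 39]),
  ([6, 1, 3, 2, 2, 2, 1, 2, 3], [70, 31], [55, 41]),
  ([6, 1, 3, 2, 2, 2, 1, 3, 2], [69, 31], [54, 40]),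
  ([6, 1, 3, 2, 2, 2, 2, 1, 3], [71, 30], [56, 41]),
  ([6, 1, 3, 2, 2, 2, 2, 3, 1], [71, 29], [56, 40]),
  ([6, 1, 3, 2, 2, 2, 3, 1, 2], [69, 30], [54, 39]),
  ([6, 1, 3, 2, 2, 2, 3, 2, 1], [70, 29], [55, 39]),
  ([6, 1, 3, 2, 2, 3, 1, 2, 2], [66, 31], [51, 38]),
  ([6, 1, 3, 2, 2, 3, 2, 1, 2], [67, 30], [52, 38]),
  ([6, 1, 3, 2, 2, 3, 2, 2, 1], [68, 29], [53, 38]),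
  ([6, 1, 3, 2, 3, 1, 2, 2, 2], [62, 32], [47, 37]),
  ([6, 1, 3, 2, 3, 2, 1, 2, 2], [63, 31], [48, 37]),
  ([6, 1, 3, 2, 3, 2, 2, 1, 2], [64, 30], [49, 37]),
  ([6, 1, 3, 2, 3, 2, 2, 2, 1], [65, 29], [50, 37]),
  ([6, 1, 3, 3, 1, 2, 2, 2, 2], [57, 33], [42, 36]),
  ([6, 1, 3, 3, 2, 1, 2, 2, 2], [58, 32], [43, 36]),
  ([6, 1, 3, 3, 2, 2, 1, 2, 2], [59, 31], [44, 36]),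
  ([6, 1, 3, 3, 2, 2, 2, 1, 2], [60, 30], [45, 36]),
  ([6, 1, 3, 3, 2, 2, 2, 2, 1], [61, 29], [46, 36]),
  ([6, 2, 1, 1, 2, 2, 2, 3, 3], [84, 9, 6], [53, 49]),
  ([6, 2, 1, 1, 2, 2, 3, 2, 3], [84, 8, 5], [53, 48]),
  ([6, 2, 1, 1, 2, 2, 3, 3, 2], [83, 8, 5], [52, 48]),
  ([6, 2, 1, 1, 2, 3, 2, 2, 3], [86, 8, 4], [110, 47]),
  ([6, 2, 1, 1, 2, 3, 2, 3, 2], [85, 8, 4], [111, 47]),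
  ([6, 2, 1, 1, 2, 3, 3, 2, 2], [85, 9, 4], [112, 47]),
  ([6, 2, 1, 1, 3, 2, 2, 2, 3], [89, 8, 3], [114, 47]),
  ([6, 2, 1, 1, 3, 2, 2, 3, 2], [88, 8, 3], [115, 47]),
  ([6, 2, 1, 1, 3, 2, 3, 2, 2], [88, 9, 3], [116, 47]),
  ([6, 2, 1, 1, 3, 3, 2, 2, 2], [88, 11, 3], [47]),
  ([6, 2, 1, 2, 1, 2, 2, 3, 3], [78, 9, 6], [53, 45]),
  ([6, 2, 1, 2, 1, 2, 3, 2, 3], [78, 8, 5], [53, 44]),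
  ([6, 2, 1, 2, 1, 2, 3, 3, 2], [77, 8, 5], [52, 44]),
  ([6, 2, 1, 2, 1, 3, 2, 2, 3], [80, 8, 4], [105, 43]),
  ([6, 2, 1, 2, 1, 3, 2, 3, 2], [79, 8, 4], [106, 43]),
  ([6, 2, 1, 2, 1, 3, 3, 2, 2], [79, 9, 4], [107, 43]),
  ([6, 2, 1, 2, 2, 1, 2, 3, 3], [75, 9, 6], [50, 45]),
  ([6, 2, 1, 2, 2, 1, 3, 2, 3], [75, 8, 5], [50, 44]),
  ([6, 2, 1, 2, 2, 1, 3, 3, 2], [74, 8, 5], [49, 44]),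
  ([6, 2, 1, 2, 2, 2, 1, 3, 3], [75, 11, 6], [116, 50, 45]),
  ([6, 2, 1, 2, 2, 2, 3, 1, 3], [75, 11, 5], [115, 50, 44]),
  ([6, 2, 1, 2, 2, 2, 3, 3, 1], [74, 12, 5], [114, 49, 44]),
  ([6, 2, 1, 2, 2, 3, 1, 2, 3], [75, 8, 4], [50, 44, 43]),
  ([6, 2, 1, 2, 2, 3, 1, 3, 2], [74, 8, 4], [49, 44, 43]),
  ([6, 2, 1, 2, 2, 3, 2, 1, 3], [75, 9, 4], [50, 45, 43]),
  ([6, 2, 1, 2, 2, 3, 2, 3, 1], [74, 10, 4], [49, 46, 43]),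
  ([6, 2, 1, 2, 2, 3, 3, 1, 2], [73, 9, 4], [48, 45, 43]),
  ([6, 2, 1, 2, 2, 3, 3, 2, 1], [73, 10, 4], [48, 46, 43]),
  ([6, 2, 1, 2, 3, 1, 2, 2, 3], [80, 8, 3], [105, 42]),
  ([6, 2, 1, 2, 3, 1, 2, 3, 2], [79, 8, 3], [106, 42]),
  ([6, 2, 1, 2, 3, 1, 3, 2, 2], [79, 9, 3], [107, 42]),
  ([6, 2, 1, 2, 3, 2, 1, 2, 3], [78, 8, 3], [53, 44, 42]),
  ([6, 2, 1, 2, 3, 2, 1, 3, 2], [77, 8, 3], [52, 44, 42]),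
  ([6, 2, 1, 2, 3, 2, 2, 1, 3], [78, 9, 3], [53, 45, 42]),
  ([6, 2, 1, 2, 3, 2, 2, 3, 1], [77, 10, 3], [52, 46, 42]),
  ([6, 2, 1, 2, 3, 2, 3, 1, 2], [76, 9, 3], [51, 45, 42]),
  ([6, 2, 1, 2, 3, 2, 3, 2, 1], [76, 10, 3], [51, 46, 42]),
  ([6, 2, 1, 2, 3, 3, 1, 2, 2], [77, 11, 3], [107, 47]),
  ([6, 2, 1, 2, 3, 3, 2, 1, 2], [76, 11, 3], [106, 47]),
  ([6, 2, 1, 2, 3, 3, 2, 2, 1], [76, 12, 3], [105, 47]),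
  ([6, 2, 1, 3, 1, 2, 2, 2, 3], [89, 8, 2], [114, 43]),
  ([6, 2, 1, 3, 1, 2, 2, 3, 2], [88, 8, 2], [115, 43]),
  ([6, 2, 1, 3, 1, 2, 3, 2, 2], [88, 9, 2], [116, 43]),
  ([6, 2, 1, 3, 1, 3, 2, 2, 2], [88, 11, 2], [43]),
  ([6, 2, 1, 3, 2, 1, 2, 2, 3], [86, 8, 2], [110, 42]),
  ([6, 2, 1, 3, 2, 1, 2, 3, 2], [85, 8, 2], [111, 42]),
  ([6, 2, 1, 3, 2, 1, 3, 2, 2], [85, 9, 2], [112, 42]),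
  ([6, 2, 1, 3, 2, 2, 1, 2, 3], [84, 8, 2], [53, 48, 42]),
  ([6, 2, 1, 3, 2, 2, 1, 3, 2], [83, 8, 2], [52, 48, 42]),
  ([6, 2, 1, 3, 2, 2, 2, 1, 3], [84, 9, 2], [53, 49, 42]),
  ([6, 2, 1, 3, 2, 2, 2, 3, 1], [83, 10, 2], [52, 50, 42]),
  ([6, 2, 1, 3, 2, 2, 3, 1, 2], [82, 9, 2], [51, 49, 42]),
  ([6, 2, 1, 3, 2, 2, 3, 2, 1], [82, 10, 2], [51, 50, 42]),
  ([6, 2, 1, 3, 2, 3, 1, 2, 2], [83, 11, 2], [112, 43]),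
  ([6, 2, 1, 3, 2, 3, 2, 1, 2], [82, 11, 2], [111, 43]),
  ([6, 2, 1, 3, 2, 3, 2, 2, 1], [82, 12, 2], [110, 43]),
  ([6, 2, 1, 3, 3, 1, 2, 2, 2], [85, 14, 2], [42]),
  ([6, 2, 1, 3, 3, 2, 1, 2, 2], [83, 14, 2], [116, 42]),
  ([6, 2, 1, 3, 3, 2, 2, 1, 2], [82, 14, 2], [115, 42]),
  ([6, 2, 1, 3, 3, 2, 2, 2, 1], [82, 15, 2], [114, 42]),
  ([6, 2, 2, 1, 1, 2, 2, 3, 3], [68, 9, 6], [53, 40]),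
  ([6, 2, 2, 1, 1, 2, 3, 2, 3], [68, 8, 5], [53, 39]),
  ([6, 2, 2, 1, 1, 2, 3, 3, 2], [67, 8, 5], [52, 39]),
  ([6, 2, 2, 1, 1, 3, 2, 2, 3], [70, 8, 4], [99, 38]),
  ([6, 2, 2, 1, 1, 3, 2, 3, 2], [69, 8, 4], [100, 38]),
  ([6, 2, 2, 1, 1, 3, 3, 2, 2], [69, 9, 4], [101, 38]),
  ([6, 2, 2, 1, 2, 1, 2, 3, 3], [65, 9, 6], [50, 40]),
  ([6, 2, 2, 1, 2, 1, 3, 2, 3], [65, 8, 5], [50, 39]),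
  ([6, 2, 2, 1, 2, 1, 3, 3, 2], [64, 8, 5], [49, 39]),
  ([6, 2, 2, 1, 2, 2, 1, 3, 3], [65, 11, 6], [116, 50, 40]),
  ([6, 2, 2, 1, 2, 2, 3, 1, 3], [65, 11, 5], [115, 50, 39]),
  ([6, 2, 2, 1, 2, 2, 3, 3, 1], [64, 12, 5], [114, 49, 39]),
  ([6, 2, 2, 1, 2, 3, 1, 2, 3], [65, 8, 4], [50, 39, 38]),
  ([6, 2, 2, 1, 2, 3, 1, 3, 2], [64, 8, 4], [49, 39, 38]),
  ([6, 2, 2, 1, 2, 3, 2, 1, 3], [65, 9, 4], [50, 40, 38]),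
  ([6, 2, 2, 1, 2, 3, 2, 3, 1], [64, 10, 4], [49, 41, 38]),
  ([6, 2, 2, 1, 2, 3, 3, 1, 2], [63, 9, 4], [48, 40, 38]),
  ([6, 2, 2, 1, 2, 3, 3, 2, 1], [63, 10, 4], [48, 41, 38]),
  ([6, 2, 2, 1, 3, 1, 2, 2, 3], [70, 8, 3], [99, 37]),
  ([6, 2, 2, 1, 3, 1, 2, 3, 2], [69, 8, 3], [100, 37]),
  ([6, 2, 2, 1, 3, 1, 3, 2, 2], [69, 9, 3], [101, 37]),
  ([6, 2, 2, 1, 3, 2, 1, 2, 3], [68, 8, 3], [53, 39, 37]),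
  ([6, 2, 2, 1, 3, 2, 1, 3, 2], [67, 8, 3], [52, 39, 37]),
  ([6, 2, 2, 1, 3, 2, 2, 1, 3], [68, 9, 3], [53, 40, 37]),
  ([6, 2, 2, 1, 3, 2, 2, 3, 1], [67, 10, 3], [52, 41, 37]),
  ([6, 2, 2, 1, 3, 2, 3, 1, 2], [66, 9, 3], [51, 40, 37]),
  ([6, 2, 2, 1, 3, 2, 3, 2, 1], [66, 10, 3], [51, 41, 37]),
  ([6, 2, 2, 1, 3, 3, 1, 2, 2], [67, 11, 3], [101, 47]),
  ([6, 2, 2, 1, 3, 3, 2, 1, 2], [66, 11, 3], [100, 47]),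
  ([6, 2, 2, 1, 3, 3, 2, 2, 1], [66, 12, 3], [99, 47]),
  ([6, 2, 2, 2, 1, 1, 2, 3, 3], [61, 9, 6], [46, 40]),
  ([6, 2, 2, 2, 1, 1, 3, 2, 3], [61, 8, 5], [46, 39]),
  ([6, 2, 2, 2, 1, 1, 3, 3, 2], [60, 8, 5], [45, 39]),
  ([6, 2, 2, 2, 1, 2, 1, 3, 3], [61, 11, 6], [116, 46, 40]),
  ([6, 2, 2, 2, 1, 2, 3, 1, 3], [61, 11, 5], [115, 46, 39]),
  ([6, 2, 2, 2, 1, 2, 3, 3, 1], [60, 12, 5], [114, 45, 39]),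
  ([6, 2, 2, 2, 1, 3, 1, 2, 3], [61, 8, 4], [46, 39, 38]),
  ([6, 2, 2, 2, 1, 3, 1, 3, 2], [60, 8, 4], [45, 39, 38]),
  ([6, 2, 2, 2, 1, 3, 2, 1, 3], [61, 9, 4], [46, 40, 38]),
  ([6, 2, 2, 2, 1, 3, 2, 3, 1], [60, 10, 4], [45, 41, 38]),
  ([6, 2, 2, 2, 1, 3, 3, 1, 2], [59, 9, 4], [44, 40, 38]),
  ([6, 2, 2, 2, 1, 3, 3, 2, 1], [59, 10, 4], [44, 41, 38]),
  ([6, 2, 2, 2, 2, 1, 1, 3, 3], [61, 14, 6], [112, 46, 40]),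
  ([6, 2, 2, 2, 2, 1, 3, 1, 3], [61, 14, 5], [111, 46, 39]),
  ([6, 2, 2, 2, 2, 1, 3, 3, 1], [60, 15, 5], [110, 45, 39]),
  ([6, 2, 2, 2, 2, 3, 1, 1, 3], [61, 14, 4], [111, 46, 39, 38]),
  ([6, 2, 2, 2, 2, 3, 1, 3, 1], [60, 15, 4], [110, 45, 39, 38]),
  ([6, 2, 2, 2, 2, 3, 3, 1, 1], [59, 16, 4], [110, 44, 40, 38]),
  ([6, 2, 2, 2, 3, 1, 1, 2, 3], [61, 8, 3], [46, 39, 37]),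
  ([6, 2, 2, 2, 3, 1, 1, 3, 2], [60, 8, 3], [45, 39, 37]),
  ([6, 2, 2, 2, 3, 1, 2, 1, 3], [61, 9, 3], [46, 40, 37]),
  ([6, 2, 2, 2, 3, 1, 2, 3, 1], [60, 10, 3], [45, 41, 37]),
  ([6, 2, 2, 2, 3, 1, 3, 1, 2], [59, 9, 3], [44, 40, 37]),
  ([6, 2, 2, 2, 3, 1, 3, 2, 1], [59, 10, 3], [44, 41, 37]),
  ([6, 2, 2, 2, 3, 2, 1, 1, 3], [61, 11, 3], [115, 46, 39, 37]),
  ([6, 2, 2, 2, 3, 2, 1, 3, 1], [60, 12, 3], [114, 45, 39, 37]),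
  ([6, 2, 2, 2, 3, 2, 3, 1, 1], [59, 13, 3], [114, 44, 40, 37]),
  ([6, 2, 2, 2, 3, 3, 1, 1, 2], [58, 11, 3], [107, 100, 47]),
  ([6, 2, 2, 2, 3, 3, 1, 2, 1], [58, 12, 3], [107, 99, 47]),
  ([6, 2, 2, 2, 3, 3, 2, 1, 1], [58, 13, 3], [106, 99, 47]),
  ([6, 2, 2, 3, 1, 1, 2, 2, 3], [70, 8, 2], [99, 36]),
  ([6, 2, 2, 3, 1, 1, 2, 3, 2], [69, 8, 2], [100, 36]),
  ([6, 2, 2, 3, 1, 1, 3, 2, 2], [69, 9, 2], [101, 36]),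
  ([6, 2, 2, 3, 1, 2, 1, 2, 3], [68, 8, 2], [53, 39, 36]),
  ([6, 2, 2, 3, 1, 2, 1, 3, 2], [67, 8, 2], [52, 39, 36]),
  ([6, 2, 2, 3, 1, 2, 2, 1, 3], [68, 9, 2], [53, 40, 36]),
  ([6, 2, 2, 3, 1, 2, 2, 3, 1], [67, 10, 2], [52, 41, 36]),
  ([6, 2, 2, 3, 1, 2, 3, 1, 2], [66, 9, 2], [51, 40, 36]),
  ([6, 2, 2, 3, 1, 2, 3, 2, 1], [66, 10, 2], [51, 41, 36]),
  ([6, 2, 2, 3, 1, 3, 1, 2, 2], [67, 11, 2], [101, 43]),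
  ([6, 2, 2, 3, 1, 3, 2, 1, 2], [66, 11, 2], [100, 43]),
  ([6, 2, 2, 3, 1, 3, 2, 2, 1], [66, 12, 2], [99, 43]),
  ([6, 2, 2, 3, 2, 1, 1, 2, 3], [65, 8, 2], [50, 39, 36]),
  ([6, 2, 2, 3, 2, 1, 1, 3, 2], [64, 8, 2], [49, 39, 36]),
  ([6, 2, 2, 3, 2, 1, 2, 1, 3], [65, 9, 2], [50, 40, 36]),
  ([6, 2, 2, 3, 2, 1, 2, 3, 1], [64, 10, 2], [49, 41, 36]),
  ([6, 2, 2, 3, 2, 1, 3, 1, 2], [63, 9, 2], [48, 40, 36]),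
  ([6, 2, 2, 3, 2, 1, 3, 2, 1], [63, 10, 2], [48, 41, 36]),
  ([6, 2, 2, 3, 2, 2, 1, 1, 3], [65, 11, 2], [115, 50, 39, 36]),
  ([6, 2, 2, 3, 2, 2, 1, 3, 1], [64, 12, 2], [114, 49, 39, 36]),
  ([6, 2, 2, 3, 2, 2, 3, 1, 1], [63, 13, 2], [114, 48, 40, 36]),
  ([6, 2, 2, 3, 2, 3, 1, 1, 2], [62, 11, 2], [112, 100, 43]),
  ([6, 2, 2, 3, 2, 3, 1, 2, 1], [62, 12, 2], [112, 99, 43]),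
  ([6, 2, 2, 3, 2, 3, 2, 1, 1], [62, 13, 2], [111, 99, 43]),
  ([6, 2, 2, 3, 3, 1, 1, 2, 2], [64, 14, 2], [101, 42]),
  ([6, 2, 2, 3, 3, 1, 2, 1, 2], [63, 14, 2], [100, 42]),
  ([6, 2, 2, 3, 3, 1, 2, 2, 1], [63, 15, 2], [99, 42]),
  ([6, 2, 2, 3, 3, 2, 1, 1, 2], [62, 14, 2], [116, 100, 42]),
  ([6, 2, 2, 3, 3, 2, 1, 2, 1], [62, 15, 2], [116, 99, 42]),
  ([6, 2, 2, 3, 3, 2, 2, 1, 1], [62, 16, 2], [115, 99, 42]),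
  ([6, 2, 3, 1, 1, 2, 2, 2, 3], [89, 8, 1], [114, 38]),
  ([6, 2, 3, 1, 1, 2, 2, 3, 2], [88, 8, 1], [115, 38]),
  ([6, 2, 3, 1, 1, 2, 3, 2, 2], [88, 9, 1], [116, 38]),
  ([6, 2, 3, 1, 1, 3, 2, 2, 2], [88, 11, 1], [38]),
  ([6, 2, 3, 1, 2, 1, 2, 2, 3], [86, 8, 1], [110, 37]),
  ([6, 2, 3, 1, 2, 1, 2, 3, 2], [85, 8, 1], [111, 37]),
  ([6, 2, 3, 1, 2, 1, 3, 2, 2], [85, 9, 1], [112, 37]),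
  ([6, 2, 3, 1, 2, 2, 1, 2, 3], [84, 8, 1], [53, 48, 37]),
  ([6, 2, 3, 1, 2, 2, 1, 3, 2], [83, 8, 1], [52, 48, 37]),
  ([6, 2, 3, 1, 2, 2, 2, 1, 3], [84, 9, 1], [53, 49, 37]),
  ([6, 2, 3, 1, 2, 2, 2, 3, 1], [83, 10, 1], [52, 50, 37]),
  ([6, 2, 3, 1, 2, 2, 3, 1, 2], [82, 9, 1], [51, 49, 37]),
  ([6, 2, 3, 1, 2, 2, 3, 2, 1], [82, 10, 1], [51, 50, 37]),
  ([6, 2, 3, 1, 2, 3, 1, 2, 2], [83, 11, 1], [112, 38]),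
  ([6, 2, 3, 1, 2, 3, 2, 1, 2], [82, 11, 1], [111, 38]),
  ([6, 2, 3, 1, 2, 3, 2, 2, 1], [82, 12, 1], [110, 38]),
  ([6, 2, 3, 1, 3, 1, 2, 2, 2], [85, 14, 1], [37]),
  ([6, 2, 3, 1, 3, 2, 1, 2, 2], [83, 14, 1], [116, 37]),
  ([6, 2, 3, 1, 3, 2, 2, 1, 2], [82, 14, 1], [115, 37]),
  ([6, 2, 3, 1, 3, 2, 2, 2, 1], [82, 15, 1], [114, 37]),
  ([6, 2, 3, 2, 1, 1, 2, 2, 3], [80, 8, 1], [105, 36]),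
  ([6, 2, 3, 2, 1, 1, 2, 3, 2], [79, 8, 1], [106, 36]),
  ([6, 2, 3, 2, 1, 1, 3, 2, 2], [79, 9, 1], [107, 36]),
  ([6, 2, 3, 2, 1, 2, 1, 2, 3], [78, 8, 1], [53, 44, 36]),
  ([6, 2, 3, 2, 1, 2, 1, 3, 2], [77, 8, 1], [52, 44, 36]),
  ([6, 2, 3, 2, 1, 2, 2, 1, 3], [78, 9, 1], [53, 45, 36]),
  ([6, 2, 3, 2, 1, 2, 2, 3, 1], [77, 10, 1], [52, 46, 36]),
  ([6, 2, 3, 2, 1, 2, 3, 1, 2], [76, 9, 1], [51, 45, 36]),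
  ([6, 2, 3, 2, 1, 2, 3, 2, 1], [76, 10, 1], [51, 46, 36]),
  ([6, 2, 3, 2, 1, 3, 1, 2, 2], [77, 11, 1], [107, 38]),
  ([6, 2, 3, 2, 1, 3, 2, 1, 2], [76, 11, 1], [106, 38]),
  ([6, 2, 3, 2, 1, 3, 2, 2, 1], [76, 12, 1], [105, 38]),
  ([6, 2, 3, 2, 2, 1, 1, 2, 3], [75, 8, 1], [50, 44, 36]),
  ([6, 2, 3, 2, 2, 1, 1, 3, 2], [74, 8, 1], [49, 44, 36]),
  ([6, 2, 3, 2, 2, 1, 2, 1, 3], [75, 9, 1], [50, 45, 36]),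
  ([6, 2, 3, 2, 2, 1, 2, 3, 1], [74, 10, 1], [49, 46, 36]),
  ([6, 2, 3, 2, 2, 1, 3, 1, 2], [73, 9, 1], [48, 45, 36]),
  ([6, 2, 3, 2, 2, 1, 3, 2, 1], [73, 10, 1], [48, 46, 36]),
  ([6, 2, 3, 2, 2, 2, 1, 1, 3], [75, 11, 1], [115, 50, 44, 36]),
  ([6, 2, 3, 2, 2, 2, 1, 3, 1], [74, 12, 1], [114, 49, 44, 36]),
  ([6, 2, 3, 2, 2, 2, 3, 1, 1], [73, 13, 1], [114, 48, 45, 36]),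
  ([6, 2, 3, 2, 2, 3, 1, 1, 2], [72, 11, 1], [112, 106, 38]),
  ([6, 2, 3, 2, 2, 3, 1, 2, 1], [72, 12, 1], [112, 105, 38]),
  ([6, 2, 3, 2, 2, 3, 2, 1, 1], [72, 13, 1], [111, 105, 38]),
  ([6, 2, 3, 2, 3, 1, 1, 2, 2], [74, 14, 1], [107, 37]),
  ([6, 2, 3, 2, 3, 1, 2, 1, 2], [73, 14, 1], [106, 37]),
  ([6, 2, 3, 2, 3, 1, 2, 2, 1], [73, 15, 1], [105, 37]),
  ([6, 2, 3, 2, 3, 2, 1, 1, 2], [72, 14, 1], [116, 106, 37]),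
  ([6, 2, 3, 2, 3, 2, 1, 2, 1], [72, 15, 1], [116, 105, 37]),
  ([6, 2, 3, 2, 3, 2, 2, 1, 1], [72, 16, 1], [115, 105, 37]),
  ([6, 2, 3, 3, 1, 1, 2, 2, 2], [79, 18, 1], [36]),
  ([6, 2, 3, 3, 1, 2, 1, 2, 2], [77, 18, 1], [116, 36]),
  ([6, 2, 3, 3, 1, 2, 2, 1, 2], [76, 18, 1], [115, 36]),
  ([6, 2, 3, 3, 1, 2, 2, 2, 1], [76, 19, 1], [114, 36]),
  ([6, 2, 3, 3, 2, 1, 1, 2, 2], [74, 18, 1], [112, 36]),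
  ([6, 2, 3, 3, 2, 1, 2, 1, 2], [73, 18, 1], [111, 36]),
  ([6, 2, 3, 3, 2, 1, 2, 2, 1], [73, 19, 1], [110, 36]),
  ([6, 2, 3, 3, 2, 2, 1, 1, 2], [72, 18, 1], [116, 111, 36]),
  ([6, 2, 3, 3, 2, 2, 1, 2, 1], [72, 19, 1], [116, 110, 36]),
  ([6, 2, 3, 3, 2, 2, 2, 1, 1], [72, 20, 1], [115, 110, 36]),
  ([6, 3, 1, 1, 2, 2, 2, 2, 3], [61, 7], [54, 47, 41]),
  ([6, 3, 1, 1, 2, 2, 2, 3, 2], [60, 6], [101, 47, 40]),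
  ([6, 3, 1, 1, 2, 2, 3, 2, 2], [59, 5], [100, 47, 39]),
  ([6, 3, 1, 1, 2, 3, 2, 2, 2], [58, 4], [100, 48, 38]),
  ([6, 3, 1, 1, 3, 2, 2, 2, 2], [57, 3], [100, 51, 37]),
  ([6, 3, 1, 2, 1, 2, 2, 2, 3], [65, 7], [54, 43, 41]),
  ([6, 3, 1, 2, 1, 2, 2, 3, 2], [64, 6], [101, 43, 40]),
  ([6, 3, 1, 2, 1, 2, 3, 2, 2], [63, 5], [100, 43, 39]),
  ([6, 3, 1, 2, 1, 3, 2, 2, 2], [62, 4], [100, 44, 38]),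
  ([6, 3, 1, 2, 2, 1, 2, 2, 3], [68, 7], [54, 42, 41]),
  ([6, 3, 1, 2, 2, 1, 2, 3, 2], [67, 6], [101, 42, 40]),
  ([6, 3, 1, 2, 2, 1, 3, 2, 2], [66, 5], [100, 42, 39]),
  ([6, 3, 1, 2, 2, 2, 1, 2, 3], [70, 7], [52, 42, 41]),
  ([6, 3, 1, 2, 2, 2, 1, 3, 2], [69, 6], [102, 42, 40]),
  ([6, 3, 1, 2, 2, 2, 2, 1, 3], [71, 7], [51, 42, 41]),
  ([6, 3, 1, 2, 2, 2, 2, 3, 1], [71, 6], [51, 42, 41, 40]),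
  ([6, 3, 1, 2, 2, 2, 3, 1, 2], [69, 5], [102, 42, 39]),
  ([6, 3, 1, 2, 2, 2, 3, 2, 1], [70, 5], [52, 42, 41, 39]),
  ([6, 3, 1, 2, 2, 3, 1, 2, 2], [66, 4], [100, 42, 38]),
  ([6, 3, 1, 2, 2, 3, 2, 1, 2], [67, 4], [101, 42, 38]),
  ([6, 3, 1, 2, 2, 3, 2, 2, 1], [68, 4], [54, 42, 41, 38]),
  ([6, 3, 1, 2, 3, 1, 2, 2, 2], [62, 3], [100, 44, 37]),
  ([6, 3, 1, 2, 3, 2, 1, 2, 2], [63, 3], [100, 43, 37]),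
  ([6, 3, 1, 2, 3, 2, 2, 1, 2], [64, 3], [101, 43, 37]),
  ([6, 3, 1, 2, 3, 2, 2, 2, 1], [65, 3], [54, 43, 41, 37]),
  ([6, 3, 1, 3, 1, 2, 2, 2, 2], [57, 2], [100, 51, 36]),
  ([6, 3, 1, 3, 2, 1, 2, 2, 2], [58, 2], [100, 48, 36]),
  ([6, 3, 1, 3, 2, 2, 1, 2, 2], [59, 2], [100, 47, 36]),
  ([6, 3, 1, 3, 2, 2, 2, 1, 2], [60, 2], [101, 47, 36]),
  ([6, 3, 1, 3, 2, 2, 2, 2, 1], [61, 2], [54, 47, 41, 36]),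
  ([6, 3, 2, 1, 1, 2, 2, 2, 3], [75, 7], [114, 54, 38]),
  ([6, 3, 2, 1, 1, 2, 2, 3, 2], [74, 6], [51, 40]),
  ([6, 3, 2, 1, 1, 2, 3, 2, 2], [73, 5], [52, 39]),
  ([6, 3, 2, 1, 1, 3, 2, 2, 2], [72, 4], [54, 38]),
  ([6, 3, 2, 1, 2, 1, 2, 2, 3], [78, 7], [110, 54, 37]),
  ([6, 3, 2, 1, 2, 1, 2, 3, 2], [77, 6], [48, 40]),
  ([6, 3, 2, 1, 2, 1, 3, 2, 2], [76, 5], [49, 39]),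
  ([6, 3, 2, 1, 2, 2, 1, 2, 3], [80, 7], [110, 52, 37]),
  ([6, 3, 2, 1, 2, 2, 1, 3, 2], [79, 6], [47, 40]),
  ([6, 3, 2, 1, 2, 2, 2, 1, 3], [81, 7], [110, 51, 37]),
  ([6, 3, 2, 1, 2, 2, 2, 3, 1], [81, 6], [117, 47, 40]),
  ([6, 3, 2, 1, 2, 2, 3, 1, 2], [79, 5], [47, 39]),
  ([6, 3, 2, 1, 2, 2, 3, 2, 1], [80, 5], [119, 47, 39]),
  ([6, 3, 2, 1, 2, 3, 1, 2, 2], [76, 4], [49, 38]),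
  ([6, 3, 2, 1, 2, 3, 2, 1, 2], [77, 4], [48, 38]),
  ([6, 3, 2, 1, 2, 3, 2, 2, 1], [78, 4], [119, 48, 38]),
  ([6, 3, 2, 1, 3, 1, 2, 2, 2], [72, 3], [54, 37]),
  ([6, 3, 2, 1, 3, 2, 1, 2, 2], [73, 3], [52, 37]),
  ([6, 3, 2, 1, 3, 2, 2, 1, 2], [74, 3], [51, 37]),
  ([6, 3, 2, 1, 3, 2, 2, 2, 1], [75, 3], [119, 51, 37]),
  ([6, 3, 2, 2, 1, 1, 2, 2, 3], [84, 7], [105, 54, 36]),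
  ([6, 3, 2, 2, 1, 1, 2, 3, 2], [83, 6], [44, 40]),
  ([6, 3, 2, 2, 1, 1, 3, 2, 2], [82, 5], [45, 39]),
  ([6, 3, 2, 2, 1, 2, 1, 2, 3], [86, 7], [105, 52, 36]),
  ([6, 3, 2, 2, 1, 2, 1, 3, 2], [85, 6], [43, 40]),
  ([6, 3, 2, 2, 1, 2, 2, 1, 3], [87, 7], [105, 51, 36]),
  ([6, 3, 2, 2, 1, 2, 2, 3, 1], [87, 6], [117, 43, 40]),
  ([6, 3, 2, 2, 1, 2, 3, 1, 2], [85, 5], [43, 39]),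
  ([6, 3, 2, 2, 1, 2, 3, 2, 1], [86, 5], [119, 43, 39]),
  ([6, 3, 2, 2, 1, 3, 1, 2, 2], [82, 4], [45, 38]),
  ([6, 3, 2, 2, 1, 3, 2, 1, 2], [83, 4], [44, 38]),
  ([6, 3, 2, 2, 1, 3, 2, 2, 1], [84, 4], [119, 44, 38]),
  ([6, 3, 2, 2, 2, 1, 1, 2, 3], [89, 7], [105, 49, 36]),
  ([6, 3, 2, 2, 2, 1, 1, 3, 2], [88, 6], [42, 40]),
  ([6, 3, 2, 2, 2, 1, 2, 1, 3], [90, 7], [105, 48, 36]),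
  ([6, 3, 2, 2, 2, 1, 2, 3, 1], [90, 6], [117, 42, 40]),
  ([6, 3, 2, 2, 2, 1, 3, 1, 2], [88, 5], [42, 39]),
  ([6, 3, 2, 2, 2, 1, 3, 2, 1], [89, 5], [119, 42, 39]),
  ([6, 3, 2, 2, 2, 2, 1, 1, 3], [91, 7], [105, 47, 36]),
  ([6, 3, 2, 2, 2, 2, 1, 3, 1], [91, 6], [114, 42, 40]),
  ([6, 3, 2, 2, 2, 2, 3, 1, 1], [91, 5], [114, 42, 39]),
  ([6, 3, 2, 2, 2, 3, 1, 1, 2], [88, 4], [42, 38]),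
  ([6, 3, 2, 2, 2, 3, 1, 2, 1], [89, 4], [119, 42, 38]),
  ([6, 3, 2, 2, 2, 3, 2, 1, 1], [90, 4], [117, 42, 38]),
  ([6, 3, 2, 2, 3, 1, 1, 2, 2], [82, 3], [45, 37]),
  ([6, 3, 2, 2, 3, 1, 2, 1, 2], [83, 3], [44, 37]),
  ([6, 3, 2, 2, 3, 1, 2, 2, 1], [84, 3], [119, 44, 37]),
  ([6, 3, 2, 2, 3, 2, 1, 1, 2], [85, 3], [43, 37]),
  ([6, 3, 2, 2, 3, 2, 1, 2, 1], [86, 3], [119, 43, 37]),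
  ([6, 3, 2, 2, 3, 2, 2, 1, 1], [87, 3], [117, 43, 37]),
  ([6, 3, 2, 3, 1, 1, 2, 2, 2], [72, 2], [54, 36]),
  ([6, 3, 2, 3, 1, 2, 1, 2, 2], [73, 2], [52, 36]),
  ([6, 3, 2, 3, 1, 2, 2, 1, 2], [74, 2], [51, 36]),
  ([6, 3, 2, 3, 1, 2, 2, 2, 1], [75, 2], [119, 51, 36]),
  ([6, 3, 2, 3, 2, 1, 1, 2, 2], [76, 2], [49, 36]),
  ([6, 3, 2, 3, 2, 1, 2, 1, 2], [77, 2], [48, 36]),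
  ([6, 3, 2, 3, 2, 1, 2, 2, 1], [78, 2], [119, 48, 36]),
  ([6, 3, 2, 3, 2, 2, 1, 1, 2], [79, 2], [47, 36]),
  ([6, 3, 2, 3, 2, 2, 1, 2, 1], [80, 2], [119, 47, 36]),
  ([6, 3, 2, 3, 2, 2, 2, 1, 1], [81, 2], [117, 47, 36]),
  ([6, 3, 3, 1, 1, 2, 2, 2, 2], [57, 1], [102, 54, 38]),
  ([6, 3, 3, 1, 2, 1, 2, 2, 2], [58, 1], [103, 54, 37]),
  ([6, 3, 3, 1, 2, 2, 1, 2, 2], [59, 1], [103, 52, 37]),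
  ([6, 3, 3, 1, 2, 2, 2, 1, 2], [60, 1], [103, 51, 37]),
  ([6, 3, 3, 1, 2, 2, 2, 2, 1], [61, 1], [119, 103, 51, 37]),
  ([6, 3, 3, 2, 1, 1, 2, 2, 2], [62, 1], [104, 54, 36]),
  ([6, 3, 3, 2, 1, 2, 1, 2, 2], [63, 1], [104, 52, 36]),
  ([6, 3, 3, 2, 1, 2, 2, 1, 2], [64, 1], [104, 51, 36]),
  ([6, 3, 3, 2, 1, 2, 2, 2, 1], [65, 1], [119, 104, 51, 36]),
  ([6, 3, 3, 2, 2, 1, 1, 2, 2], [66, 1], [104, 49, 36]),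
  ([6, 3, 3, 2, 2, 1, 2, 1, 2], [67, 1], [104, 48, 36]),
  ([6, 3, 3, 2, 2, 1, 2, 2, 1], [68, 1], [119, 104, 48, 36]),
  ([6, 3, 3, 2, 2, 2, 1, 1, 2], [69, 1], [104, 47, 36]),
  ([6, 3, 3, 2, 2, 2, 1, 2, 1], [70, 1], [119, 104, 47, 36]),
  ([6, 3, 3, 2, 2, 2, 2, 1, 1], [71, 1], [117, 104, 47, 36]),
  ([7, 1, 2, 2, 2, 3, 3, 3, 3], [98, 35, 22], []),
  ([7, 1, 2, 2, 3, 2, 3, 3, 3], [98, 35, 21], [113]),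
  ([7, 1, 2, 2, 3, 3, 2, 3, 3], [98, 35, 20], [112]),
  ([7, 1, 2, 2, 3, 3, 3, 2, 3], [98, 35, 19], [111]),
  ([7, 1, 2, 2, 3, 3, 3, 3, 2], [98, 35, 18], [110]),
  ([7, 1, 2, 3, 2, 2, 3, 3, 3], [98, 35, 17], [108]),
  ([7, 1, 2, 3, 2, 3, 2, 3, 3], [98, 35, 16], [107]),
  ([7, 1, 2, 3, 2, 3, 3, 2, 3], [98, 35, 15], [106]),
  ([7, 1, 2, 3, 2, 3, 3, 3, 2], [98, 35, 14], [105]),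
  ([7, 1, 2, 3, 3, 2, 2, 3, 3], [98, 35, 13], [113, 107]),
  ([7, 1, 2, 3, 3, 2, 3, 2, 3], [98, 35, 12], [113, 106]),
  ([7, 1, 2, 3, 3, 2, 3, 3, 2], [98, 35, 11], [113, 105]),
  ([7, 1, 2, 3, 3, 3, 2, 2, 3], [98, 35, 10], [112, 106]),
  ([7, 1, 2, 3, 3, 3, 2, 3, 2], [98, 35, 9], [112, 105]),
  ([7, 1, 2, 3, 3, 3, 3, 2, 2], [98, 35, 8], [111, 105]),
  ([7, 1, 3, 2, 2, 2, 3, 3, 3], [97, 34, 17], [102]),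
  ([7, 1, 3, 2, 2, 3, 2, 3, 3], [97, 34, 16], [101]),
  ([7, 1, 3, 2, 2, 3, 3, 2, 3], [97, 34, 15], [100]),
  ([7, 1, 3, 2, 2, 3, 3, 3, 2], [97, 34, 14], [99]),
  ([7, 1, 3, 2, 3, 2, 2, 3, 3], [97, 34, 13], [113, 101]),
  ([7, 1, 3, 2, 3, 2, 3, 2, 3], [97, 34, 12], [113, 100]),
  ([7, 1, 3, 2, 3, 2, 3, 3, 2], [97, 34, 11], [113, 99]),
  ([7, 1, 3, 2, 3, 3, 2, 2, 3], [97, 34, 10], [112, 100]),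
  ([7, 1, 3, 2, 3, 3, 2, 3, 2], [97, 34, 9], [112, 99]),
  ([7, 1, 3, 2, 3, 3, 3, 2, 2], [97, 34, 8], [111, 99]),
  ([7, 1, 3, 3, 2, 2, 2, 3, 3], [96, 33, 13], [108, 101]),
  ([7, 1, 3, 3, 2, 2, 3, 2, 3], [96, 33, 12], [108, 100]),
  ([7, 1, 3, 3, 2, 2, 3, 3, 2], [96, 33, 11], [108, 99]),
  ([7, 1, 3, 3, 2, 3, 2, 2, 3], [96, 33, 10], [107, 100]),
  ([7, 1, 3, 3, 2, 3, 2, 3, 2], [96, 33, 9], [107, 99]),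
  ([7, 1, 3, 3, 2, 3, 3, 2, 2], [96, 33, 8], [106, 99]),
  ([7, 1, 3, 3, 3, 2, 2, 2, 3], [95, 32, 10], [113, 107, 100]),
  ([7, 1, 3, 3, 3, 2, 2, 3, 2], [95, 32, 9], [113, 107, 99]),
  ([7, 1, 3, 3, 3, 2, 3, 2, 2], [95, 32, 8], [113, 106, 99]),
  ([7, 1, 3, 3, 3, 3, 2, 2, 2], [94, 31, 8], [112, 106, 99]),
  ([7, 2, 1, 2, 2, 3, 3, 3, 3], [35, 22], [56, 51]),
  ([7, 2, 1, 2, 3, 2, 3, 3, 3], [35, 21], [56, 48]),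
  ([7, 2, 1, 2, 3, 3, 2, 3, 3], [35, 20], [56, 47]),
  ([7, 2, 1, 2, 3, 3, 3, 2, 3], [35, 19], [55, 47]),
  ([7, 2, 1, 2, 3, 3, 3, 3, 2], [35, 18], [54, 47]),
  ([7, 2, 1, 3, 2, 2, 3, 3, 3], [35, 17], [56, 44]),
  ([7, 2, 1, 3, 2, 3, 2, 3, 3], [35, 16], [56, 43]),
  ([7, 2, 1, 3, 2, 3, 3, 2, 3], [35, 15], [55, 43]),
  ([7, 2, 1, 3, 2, 3, 3, 3, 2], [35, 14], [54, 43]),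
  ([7, 2, 1, 3, 3, 2, 2, 3, 3], [35, 13], [56, 42]),
  ([7, 2, 1, 3, 3, 2, 3, 2, 3], [35, 12], [55, 42]),
  ([7, 2, 1, 3, 3, 2, 3, 3, 2], [35, 11], [54, 42]),
  ([7, 2, 1, 3, 3, 3, 2, 2, 3], [35, 10], [53, 42]),
  ([7, 2, 1, 3, 3, 3, 2, 3, 2], [35, 9], [52, 42]),
  ([7, 2, 1, 3, 3, 3, 3, 2, 2], [35, 8], [51, 42]),
  ([7, 2, 2, 1, 2, 3, 3, 3, 3], [34, 27], [104, 56, 51]),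
  ([7, 2, 2, 1, 3, 2, 3, 3, 3], [34, 26], [104, 56, 48]),
  ([7, 2, 2, 1, 3, 3, 2, 3, 3], [34, 25], [104, 56, 47]),
  ([7, 2, 2, 1, 3, 3, 3, 2, 3], [34, 24], [104, 55, 47]),
  ([7, 2, 2, 1, 3, 3, 3, 3, 2], [34, 23], [104, 54, 47]),
  ([7, 2, 2, 2, 1, 3, 3, 3, 3], [33, 28], [103, 56, 51]),
  ([7, 2, 2, 2, 2, 2, 2, 3, 4], [93, 7], [100, 41]),
  ([7, 2, 2, 2, 2, 2, 2, 4, 3], [92, 6], [99, 40]),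
  ([7, 2, 2, 2, 2, 2, 3, 2, 4], [94, 7], [101, 41]),
  ([7, 2, 2, 2, 2, 2, 3, 4, 2], [94, 6], [101, 40]),
  ([7, 2, 2, 2, 2, 2, 4, 2, 3], [92, 5], [99, 39]),
  ([7, 2, 2, 2, 2, 2, 4, 3, 2], [93, 5], [100, 39]),
  ([7, 2, 2, 2, 2, 3, 2, 2, 4], [95, 7], [102, 41]),
  ([7, 2, 2, 2, 2, 3, 2, 4, 2], [95, 6], [102, 40]),
  ([7, 2, 2, 2, 2, 3, 4, 2, 2], [95, 5], [102, 39]),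
  ([7, 2, 2, 2, 2, 4, 2, 2, 3], [92, 4], [99, 38]),
  ([7, 2, 2, 2, 2, 4, 2, 3, 2], [93, 4], [100, 38]),
  ([7, 2, 2, 2, 2, 4, 3, 2, 2], [94, 4], [101, 38]),
  ([7, 2, 2, 2, 3, 1, 3, 3, 3], [32, 28], [102, 56, 48]),
  ([7, 2, 2, 2, 3, 2, 2, 2, 4], [96, 7], [103, 41]),
  ([7, 2, 2, 2, 3, 2, 2, 4, 2], [96, 6], [103, 40]),
  ([7, 2, 2, 2, 3, 2, 4, 2, 2], [96, 5], [103, 39]),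
  ([7, 2, 2, 2, 3, 3, 1, 3, 3], [31, 28], [101, 56, 47]),
  ([7, 2, 2, 2, 3, 3, 3, 1, 3], [30, 28], [100, 55, 47]),
  ([7, 2, 2, 2, 3, 3, 3, 3, 1], [29, 28], [99, 54, 47]),
  ([7, 2, 2, 2, 3, 4, 2, 2, 2], [96, 4], [103, 38]),
  ([7, 2, 2, 2, 4, 2, 2, 2, 3], [92, 3], [99, 37]),
  ([7, 2, 2, 2, 4, 2, 2, 3, 2], [93, 3], [100, 37]),
  ([7, 2, 2, 2, 4, 2, 3, 2, 2], [94, 3], [101, 37]),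
  ([7, 2, 2, 2, 4, 3, 2, 2, 2], [95, 3], [102, 37]),
  ([7, 2, 2, 3, 1, 2, 3, 3, 3], [33, 26], [103, 56, 44]),
  ([7, 2, 2, 3, 1, 3, 2, 3, 3], [33, 25], [103, 56, 43]),
  ([7, 2, 2, 3, 1, 3, 3, 2, 3], [33, 24], [103, 55, 43]),
  ([7, 2, 2, 3, 1, 3, 3, 3, 2], [33, 23], [103, 54, 43]),
  ([7, 2, 2, 3, 2, 1, 3, 3, 3], [32, 27], [102, 56, 44]),
  ([7, 2, 2, 3, 2, 2, 2, 2, 4], [97, 7], [104, 41]),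
  ([7, 2, 2, 3, 2, 2, 2, 4, 2], [97, 6], [104, 40]),
  ([7, 2, 2, 3, 2, 2, 4, 2, 2], [97, 5], [104, 39]),
  ([7, 2, 2, 3, 2, 3, 1, 3, 3], [31, 27], [101, 56, 43]),
  ([7, 2, 2, 3, 2, 3, 3, 1, 3], [30, 27], [100, 55, 43]),
  ([7, 2, 2, 3, 2, 3, 3, 3, 1], [29, 27], [99, 54, 43]),
  ([7, 2, 2, 3, 2, 4, 2, 2, 2], [97, 4], [104, 38]),
  ([7, 2, 2, 3, 3, 1, 2, 3, 3], [32, 25], [102, 56, 42]),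
  ([7, 2, 2, 3, 3, 1, 3, 2, 3], [32, 24], [102, 55, 42]),
  ([7, 2, 2, 3, 3, 1, 3, 3, 2], [32, 23], [102, 54, 42]),
  ([7, 2, 2, 3, 3, 2, 1, 3, 3], [31, 26], [101, 56, 42]),
  ([7, 2, 2, 3, 3, 2, 3, 1, 3], [30, 26], [100, 55, 42]),
  ([7, 2, 2, 3, 3, 2, 3, 3, 1], [29, 26], [99, 54, 42]),
  ([7, 2, 2, 3, 3, 3, 1, 2, 3], [31, 24], [101, 53, 42]),
  ([7, 2, 2, 3, 3, 3, 1, 3, 2], [31, 23], [101, 52, 42]),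
  ([7, 2, 2, 3, 3, 3, 2, 1, 3], [30, 25], [100, 53, 42]),
  ([7, 2, 2, 3, 3, 3, 2, 3, 1], [29, 25], [99, 52, 42]),
  ([7, 2, 2, 3, 3, 3, 3, 1, 2], [30, 23], [100, 51, 42]),
  ([7, 2, 2, 3, 3, 3, 3, 2, 1], [29, 24], [99, 51, 42]),
  ([7, 2, 2, 3, 4, 2, 2, 2, 2], [97, 3], [104, 37]),
  ([7, 2, 2, 4, 2, 2, 2, 2, 3], [92, 2], [99, 36]),
  ([7, 2, 2, 4, 2, 2, 2, 3, 2], [93, 2], [100, 36]),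
  ([7, 2, 2, 4, 2, 2, 3, 2, 2], [94, 2], [101, 36]),
  ([7, 2, 2, 4, 2, 3, 2, 2, 2], [95, 2], [102, 36]),
  ([7, 2, 2, 4, 3, 2, 2, 2, 2], [96, 2], [103, 36]),
  ([7, 2, 3, 1, 2, 2, 3, 3, 3], [34, 17], [56, 44, 39]),
  ([7, 2, 3, 1, 2, 3, 2, 3, 3], [34, 16], [56, 43, 38]),
  ([7, 2, 3, 1, 2, 3, 3, 2, 3], [34, 15], [55, 43, 38]),
  ([7, 2, 3, 1, 2, 3, 3, 3, 2], [34, 14], [54, 43, 38]),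
  ([7, 2, 3, 1, 3, 2, 2, 3, 3], [34, 13], [56, 42, 37]),
  ([7, 2, 3, 1, 3, 2, 3, 2, 3], [34, 12], [55, 42, 37]),
  ([7, 2, 3, 1, 3, 2, 3, 3, 2], [34, 11], [54, 42, 37]),
  ([7, 2, 3, 1, 3, 3, 2, 2, 3], [34, 10], [53, 42, 37]),
  ([7, 2, 3, 1, 3, 3, 2, 3, 2], [34, 9], [52, 42, 37]),
  ([7, 2, 3, 1, 3, 3, 3, 2, 2], [34, 8], [51, 42, 37]),
  ([7, 2, 3, 2, 1, 2, 3, 3, 3], [33, 21], [56, 48, 39]),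
  ([7, 2, 3, 2, 1, 3, 2, 3, 3], [33, 20], [56, 47, 38]),
  ([7, 2, 3, 2, 1, 3, 3, 2, 3], [33, 19], [55, 47, 38]),
  ([7, 2, 3, 2, 1, 3, 3, 3, 2], [33, 18], [54, 47, 38]),
  ([7, 2, 3, 2, 2, 1, 3, 3, 3], [32, 22], [56, 51, 39]),
  ([7, 2, 3, 2, 2, 2, 2, 2, 4], [98, 7], [41]),
  ([7, 2, 3, 2, 2, 2, 2, 4, 2], [98, 6], [40]),
  ([7, 2, 3, 2, 2, 2, 4, 2, 2], [98, 5], [39]),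
  ([7, 2, 3, 2, 2, 3, 1, 3, 3], [31, 22], [56, 51, 38]),
  ([7, 2, 3, 2, 2, 3, 3, 1, 3], [30, 22], [55, 52, 38]),
  ([7, 2, 3, 2, 2, 3, 3, 3, 1], [29, 22], [54, 53, 38]),
  ([7, 2, 3, 2, 2, 4, 2, 2, 2], [98, 4], [38]),
  ([7, 2, 3, 2, 3, 1, 2, 3, 3], [32, 20], [56, 47, 37]),
  ([7, 2, 3, 2, 3, 1, 3, 2, 3], [32, 19], [55, 47, 37]),
  ([7, 2, 3, 2, 3, 1, 3, 3, 2], [32, 18], [54, 47, 37]),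
  ([7, 2, 3, 2, 3, 2, 1, 3, 3], [31, 21], [56, 48, 37]),
  ([7, 2, 3, 2, 3, 2, 3, 1, 3], [30, 21], [55, 49, 37]),
  ([7, 2, 3, 2, 3, 2, 3, 3, 1], [29, 21], [54, 50, 37]),
  ([7, 2, 3, 2, 3, 3, 1, 2, 3], [31, 19], [53, 48, 37]),
  ([7, 2, 3, 2, 3, 3, 1, 3, 2], [31, 18], [52, 48, 37]),
  ([7, 2, 3, 2, 3, 3, 2, 1, 3], [30, 20], [53, 49, 37]),
  ([7, 2, 3, 2, 3, 3, 2, 3, 1], [29, 20], [52, 50, 37]),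
  ([7, 2, 3, 2, 3, 3, 3, 1, 2], [30, 18], [51, 49, 37]),
  ([7, 2, 3, 2, 3, 3, 3, 2, 1], [29, 19], [51, 50, 37]),
  ([7, 2, 3, 2, 4, 2, 2, 2, 2], [98, 3], [37]),
  ([7, 2, 3, 3, 1, 2, 2, 3, 3], [33, 13], [56, 42, 36]),
  ([7, 2, 3, 3, 1, 2, 3, 2, 3], [33, 12], [55, 42, 36]),
  ([7, 2, 3, 3, 1, 2, 3, 3, 2], [33, 11], [54, 42, 36]),
  ([7, 2, 3, 3, 1, 3, 2, 2, 3], [33, 10], [53, 42, 36]),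
  ([7, 2, 3, 3, 1, 3, 2, 3, 2], [33, 9], [52, 42, 36]),
  ([7, 2, 3, 3, 1, 3, 3, 2, 2], [33, 8], [51, 42, 36]),
  ([7, 2, 3, 3, 2, 1, 2, 3, 3], [32, 16], [56, 43, 36]),
  ([7, 2, 3, 3, 2, 1, 3, 2, 3], [32, 15], [55, 43, 36]),
  ([7, 2, 3, 3, 2, 1, 3, 3, 2], [32, 14], [54, 43, 36]),
  ([7, 2, 3, 3, 2, 2, 1, 3, 3], [31, 17], [56, 44, 36]),
  ([7, 2, 3, 3, 2, 2, 3, 1, 3], [30, 17], [55, 45, 36]),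
  ([7, 2, 3, 3, 2, 2, 3, 3, 1], [29, 17], [54, 46, 36]),
  ([7, 2, 3, 3, 2, 3, 1, 2, 3], [31, 15], [53, 44, 36]),
  ([7, 2, 3, 3, 2, 3, 1, 3, 2], [31, 14], [52, 44, 36]),
  ([7, 2, 3, 3, 2, 3, 2, 1, 3], [30, 16], [53, 45, 36]),
  ([7, 2, 3, 3, 2, 3, 2, 3, 1], [29, 16], [52, 46, 36]),
  ([7, 2, 3, 3, 2, 3, 3, 1, 2], [30, 14], [51, 45, 36]),
  ([7, 2, 3, 3, 2, 3, 3, 2, 1], [29, 15], [51, 46, 36]),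
  ([7, 2, 3, 3, 3, 1, 2, 2, 3], [32, 10], [50, 43, 36]),
  ([7, 2, 3, 3, 3, 1, 2, 3, 2], [32, 9], [49, 43, 36]),
  ([7, 2, 3, 3, 3, 1, 3, 2, 2], [32, 8], [48, 43, 36]),
  ([7, 2, 3, 3, 3, 2, 1, 2, 3], [31, 12], [50, 44, 36]),
  ([7, 2, 3, 3, 3, 2, 1, 3, 2], [31, 11], [49, 44, 36]),
  ([7, 2, 3, 3, 3, 2, 2, 1, 3], [30, 13], [50, 45, 36]),
  ([7, 2, 3, 3, 3, 2, 2, 3, 1], [29, 13], [49, 46, 36]),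
  ([7, 2, 3, 3, 3, 2, 3, 1, 2], [30, 11], [48, 45, 36]),
  ([7, 2, 3, 3, 3, 2, 3, 2, 1], [29, 12], [48, 46, 36]),
  ([7, 2, 3, 3, 3, 3, 1, 2, 2], [31, 8], [47, 44, 36]),
  ([7, 2, 3, 3, 3, 3, 2, 1, 2], [30, 9], [47, 45, 36]),
  ([7, 2, 3, 3, 3, 3, 2, 2, 1], [29, 10], [47, 46, 36]),
  ([7, 2, 3, 4, 2, 2, 2, 2, 2], [98, 2], [36]),
  ([7, 2, 4, 2, 2, 2, 2, 2, 3], [92, 1], [99, 41]),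
  ([7, 2, 4, 2, 2, 2, 2, 3, 2], [93, 1], [100, 40]),
  ([7, 2, 4, 2, 2, 2, 3, 2, 2], [94, 1], [101, 39]),
  ([7, 2, 4, 2, 2, 3, 2, 2, 2], [95, 1], [102, 38]),
  ([7, 2, 4, 2, 3, 2, 2, 2, 2], [96, 1], [103, 37]),
  ([7, 2, 4, 3, 2, 2, 2, 2, 2], [97, 1], [104, 36]),
  ([7, 3, 1, 2, 2, 2, 3, 3, 3], [72, 35, 0], [53, 49, 44]),
  ([7, 3, 1, 2, 2, 3, 2, 3, 3], [73, 35, 0], [105, 49, 43]),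
  ([7, 3, 1, 2, 2, 3, 3, 2, 3], [74, 35, 0], [105, 48, 43]),
  ([7, 3, 1, 2, 2, 3, 3, 3, 2], [75, 35, 0], [106, 48, 43]),
  ([7, 3, 1, 2, 3, 2, 2, 3, 3], [76, 35, 0], [105, 52, 42]),
  ([7, 3, 1, 2, 3, 2, 3, 2, 3], [77, 35, 0], [105, 51, 42]),
  ([7, 3, 1, 2, 3, 2, 3, 3, 2], [78, 35, 0], [106, 51, 42]),
  ([7, 3, 1, 2, 3, 3, 2, 2, 3], [79, 35, 0], [47, 46]),
  ([7, 3, 1, 2, 3, 3, 2, 3, 2], [80, 35, 0], [47, 45]),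
  ([7, 3, 1, 2, 3, 3, 3, 2, 2], [81, 35, 0], [47, 44]),
  ([7, 3, 1, 3, 2, 2, 2, 3, 3], [82, 35, 0], [110, 52, 42]),
  ([7, 3, 1, 3, 2, 2, 3, 2, 3], [83, 35, 0], [110, 51, 42]),
  ([7, 3, 1, 3, 2, 2, 3, 3, 2], [84, 35, 0], [111, 51, 42]),
  ([7, 3, 1, 3, 2, 3, 2, 2, 3], [85, 35, 0], [50, 43]),
  ([7, 3, 1, 3, 2, 3, 2, 3, 2], [86, 35, 0], [49, 43]),
  ([7, 3, 1, 3, 2, 3, 3, 2, 2], [87, 35, 0], [48, 43]),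
  ([7, 3, 1, 3, 3, 2, 2, 2, 3], [88, 35, 0], [53, 42]),
  ([7, 3, 1, 3, 3, 2, 2, 3, 2], [89, 35, 0], [52, 42]),
  ([7, 3, 1, 3, 3, 2, 3, 2, 2], [90, 35, 0], [51, 42]),
  ([7, 3, 1, 3, 3, 3, 2, 2, 2], [91, 35, 0], [116, 51, 42]),
  ([7, 3, 2, 1, 2, 2, 3, 3, 3], [62, 34, 0], [53, 49, 39]),
  ([7, 3, 2, 1, 2, 3, 2, 3, 3], [63, 34, 0], [99, 49, 38]),
  ([7, 3, 2, 1, 2, 3, 3, 2, 3], [64, 34, 0], [99, 48, 38]),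
  ([7, 3, 2, 1, 2, 3, 3, 3, 2], [65, 34, 0], [100, 48, 38]),
  ([7, 3, 2, 1, 3, 2, 2, 3, 3], [66, 34, 0], [99, 52, 37]),
  ([7, 3, 2, 1, 3, 2, 3, 2, 3], [67, 34, 0], [99, 51, 37]),
  ([7, 3, 2, 1, 3, 2, 3, 3, 2], [68, 34, 0], [100, 51, 37]),
  ([7, 3, 2, 1, 3, 3, 2, 2, 3], [69, 34, 0], [47, 41]),
  ([7, 3, 2, 1, 3, 3, 2, 3, 2], [70, 34, 0], [47, 40]),
  ([7, 3, 2, 1, 3, 3, 3, 2, 2], [71, 34, 0], [47, 39]),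
  ([7, 3, 2, 2, 1, 2, 3, 3, 3], [58, 33, 0], [53, 45, 39]),
  ([7, 3, 2, 2, 1, 3, 2, 3, 3], [59, 33, 0], [99, 45, 38]),
  ([7, 3, 2, 2, 1, 3, 3, 2, 3], [60, 33, 0], [99, 44, 38]),
  ([7, 3, 2, 2, 1, 3, 3, 3, 2], [61, 33, 0], [100, 44, 38]),
  ([7, 3, 2, 2, 2, 1, 3, 3, 3], [57, 32, 0], [50, 45, 39]),
  ([7, 3, 2, 2, 2, 2, 2, 2, 4], [7], [41]),
  ([7, 3, 2, 2, 2, 2, 2, 4, 2], [6], [40]),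
  ([7, 3, 2, 2, 2, 2, 4, 2, 2], [5], [39]),
  ([7, 3, 2, 2, 2, 3, 1, 3, 3], [57, 31, 0], [50, 45, 39, 38]),
  ([7, 3, 2, 2, 2, 3, 3, 1, 3], [57, 30, 0], [50, 44, 40, 38]),
  ([7, 3, 2, 2, 2, 3, 3, 3, 1], [57, 29, 0], [49, 44, 41, 38]),
  ([7, 3, 2, 2, 2, 4, 2, 2, 2], [4], [38]),
  ([7, 3, 2, 2, 3, 1, 2, 3, 3], [59, 32, 0], [99, 45, 37]),
  ([7, 3, 2, 2, 3, 1, 3, 2, 3], [60, 32, 0], [99, 44, 37]),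
  ([7, 3, 2, 2, 3, 1, 3, 3, 2], [61, 32, 0], [100, 44, 37]),
  ([7, 3, 2, 2, 3, 2, 1, 3, 3], [58, 31, 0], [53, 45, 39, 37]),
  ([7, 3, 2, 2, 3, 2, 3, 1, 3], [58, 30, 0], [53, 44, 40, 37]),
  ([7, 3, 2, 2, 3, 2, 3, 3, 1], [58, 29, 0], [52, 44, 41, 37]),
  ([7, 3, 2, 2, 3, 3, 1, 2, 3], [60, 31, 0], [107, 47, 41]),
  ([7, 3, 2, 2, 3, 3, 1, 3, 2], [61, 31, 0], [107, 47, 40]),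
  ([7, 3, 2, 2, 3, 3, 2, 1, 3], [59, 30, 0], [106, 47, 41]),
  ([7, 3, 2, 2, 3, 3, 2, 3, 1], [59, 29, 0], [105, 47, 40]),
  ([7, 3, 2, 2, 3, 3, 3, 1, 2], [61, 30, 0], [106, 47, 39]),
  ([7, 3, 2, 2, 3, 3, 3, 2, 1], [60, 29, 0], [105, 47, 39]),
  ([7, 3, 2, 2, 4, 2, 2, 2, 2], [3], [37]),
  ([7, 3, 2, 3, 1, 2, 2, 3, 3], [66, 33, 0], [99, 52, 36]),
  ([7, 3, 2, 3, 1, 2, 3, 2, 3], [67, 33, 0], [99, 51, 36]),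
  ([7, 3, 2, 3, 1, 2, 3, 3, 2], [68, 33, 0], [100, 51, 36]),
  ([7, 3, 2, 3, 1, 3, 2, 2, 3], [69, 33, 0], [43, 41]),
  ([7, 3, 2, 3, 1, 3, 2, 3, 2], [70, 33, 0], [43, 40]),
  ([7, 3, 2, 3, 1, 3, 3, 2, 2], [71, 33, 0], [43, 39]),
  ([7, 3, 2, 3, 2, 1, 2, 3, 3], [63, 32, 0], [99, 49, 36]),
  ([7, 3, 2, 3, 2, 1, 3, 2, 3], [64, 32, 0], [99, 48, 36]),
  ([7, 3, 2, 3, 2, 1, 3, 3, 2], [65, 32, 0], [100, 48, 36]),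
  ([7, 3, 2, 3, 2, 2, 1, 3, 3], [62, 31, 0], [53, 49, 39, 36]),
  ([7, 3, 2, 3, 2, 2, 3, 1, 3], [62, 30, 0], [53, 48, 40, 36]),
  ([7, 3, 2, 3, 2, 2, 3, 3, 1], [62, 29, 0], [52, 48, 41, 36]),
  ([7, 3, 2, 3, 2, 3, 1, 2, 3], [64, 31, 0], [112, 43, 41]),
  ([7, 3, 2, 3, 2, 3, 1, 3, 2], [65, 31, 0], [112, 43, 40]),
  ([7, 3, 2, 3, 2, 3, 2, 1, 3], [63, 30, 0], [111, 43, 41]),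
  ([7, 3, 2, 3, 2, 3, 2, 3, 1], [63, 29, 0], [110, 43, 40]),
  ([7, 3, 2, 3, 2, 3, 3, 1, 2], [65, 30, 0], [111, 43, 39]),
  ([7, 3, 2, 3, 2, 3, 3, 2, 1], [64, 29, 0], [110, 43, 39]),
  ([7, 3, 2, 3, 3, 1, 2, 2, 3], [69, 32, 0], [42, 41]),
  ([7, 3, 2, 3, 3, 1, 2, 3, 2], [70, 32, 0], [42, 40]),
  ([7, 3, 2, 3, 3, 1, 3, 2, 2], [71, 32, 0], [42, 39]),
  ([7, 3, 2, 3, 3, 2, 1, 2, 3], [67, 31, 0], [116, 42, 41]),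
  ([7, 3, 2, 3, 3, 2, 1, 3, 2], [68, 31, 0], [116, 42, 40]),
  ([7, 3, 2, 3, 3, 2, 2, 1, 3], [66, 30, 0], [115, 42, 41]),
  ([7, 3, 2, 3, 3, 2, 2, 3, 1], [66, 29, 0], [114, 42, 40]),
  ([7, 3, 2, 3, 3, 2, 3, 1, 2], [68, 30, 0], [115, 42, 39]),
  ([7, 3, 2, 3, 3, 2, 3, 2, 1], [67, 29, 0], [114, 42, 39]),
  ([7, 3, 2, 3, 3, 3, 1, 2, 2], [71, 31, 0], [47, 39, 36]),
  ([7, 3, 2, 3, 3, 3, 2, 1, 2], [70, 30, 0], [47, 40, 36]),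
  ([7, 3, 2, 3, 3, 3, 2, 2, 1], [69, 29, 0], [47, 41, 36]),
  ([7, 3, 2, 4, 2, 2, 2, 2, 2], [2], [36]),
  ([7, 3, 3, 1, 2, 2, 2, 3, 3], [82, 34, 0], [110, 52, 37]),
  ([7, 3, 3, 1, 2, 2, 3, 2, 3], [83, 34, 0], [110, 51, 37]),
  ([7, 3, 3, 1, 2, 2, 3, 3, 2], [84, 34, 0], [111, 51, 37]),
  ([7, 3, 3, 1, 2, 3, 2, 2, 3], [85, 34, 0], [50, 38]),
  ([7, 3, 3, 1, 2, 3, 2, 3, 2], [86, 34, 0], [49, 38]),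
  ([7, 3, 3, 1, 2, 3, 3, 2, 2], [87, 34, 0], [48, 38]),
  ([7, 3, 3, 1, 3, 2, 2, 2, 3], [88, 34, 0], [53, 37]),
  ([7, 3, 3, 1, 3, 2, 2, 3, 2], [89, 34, 0], [52, 37]),
  ([7, 3, 3, 1, 3, 2, 3, 2, 2], [90, 34, 0], [51, 37]),
  ([7, 3, 3, 1, 3, 3, 2, 2, 2], [91, 34, 0], [116, 51, 37]),
  ([7, 3, 3, 2, 1, 2, 2, 3, 3], [76, 33, 0], [105, 52, 36]),
  ([7, 3, 3, 2, 1, 2, 3, 2, 3], [77, 33, 0], [105, 51, 36]),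
  ([7, 3, 3, 2, 1, 2, 3, 3, 2], [78, 33, 0], [106, 51, 36]),
  ([7, 3, 3, 2, 1, 3, 2, 2, 3], [79, 33, 0], [46, 38]),
  ([7, 3, 3, 2, 1, 3, 2, 3, 2], [80, 33, 0], [45, 38]),
  ([7, 3, 3, 2, 1, 3, 3, 2, 2], [81, 33, 0], [44, 38]),
  ([7, 3, 3, 2, 2, 1, 2, 3, 3], [73, 32, 0], [105, 49, 36]),
  ([7, 3, 3, 2, 2, 1, 3, 2, 3], [74, 32, 0], [105, 48, 36]),
  ([7, 3, 3, 2, 2, 1, 3, 3, 2], [75, 32, 0], [106, 48, 36]),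
  ([7, 3, 3, 2, 2, 2, 1, 3, 3], [72, 31, 0], [53, 49, 44, 36]),
  ([7, 3, 3, 2, 2, 2, 3, 1, 3], [72, 30, 0], [53, 48, 45, 36]),
  ([7, 3, 3, 2, 2, 2, 3, 3, 1], [72, 29, 0], [52, 48, 46, 36]),
  ([7, 3, 3, 2, 2, 3, 1, 2, 3], [74, 31, 0], [112, 46, 38]),
  ([7, 3, 3, 2, 2, 3, 1, 3, 2], [75, 31, 0], [112, 45, 38]),
  ([7, 3, 3, 2, 2, 3, 2, 1, 3], [73, 30, 0], [111, 46, 38]),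
  ([7, 3, 3, 2, 2, 3, 2, 3, 1], [73, 29, 0], [110, 45, 38]),
  ([7, 3, 3, 2, 2, 3, 3, 1, 2], [75, 30, 0], [111, 44, 38]),
  ([7, 3, 3, 2, 2, 3, 3, 2, 1], [74, 29, 0], [110, 44, 38]),
  ([7, 3, 3, 2, 3, 1, 2, 2, 3], [79, 32, 0], [46, 37]),
  ([7, 3, 3, 2, 3, 1, 2, 3, 2], [80, 32, 0], [45, 37]),
  ([7, 3, 3, 2, 3, 1, 3, 2, 2], [81, 32, 0], [44, 37]),
  ([7, 3, 3, 2, 3, 2, 1, 2, 3], [77, 31, 0], [116, 46, 37]),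
  ([7, 3, 3, 2, 3, 2, 1, 3, 2], [78, 31, 0], [116, 45, 37]),
  ([7, 3, 3, 2, 3, 2, 2, 1, 3], [76, 30, 0], [115, 46, 37]),
  ([7, 3, 3, 2, 3, 2, 2, 3, 1], [76, 29, 0], [114, 45, 37]),
  ([7, 3, 3, 2, 3, 2, 3, 1, 2], [78, 30, 0], [115, 44, 37]),
  ([7, 3, 3, 2, 3, 2, 3, 2, 1], [77, 29, 0], [114, 44, 37]),
  ([7, 3, 3, 2, 3, 3, 1, 2, 2], [81, 31, 0], [47, 44, 36]),
  ([7, 3, 3, 2, 3, 3, 2, 1, 2], [80, 30, 0], [47, 45, 36]),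
  ([7, 3, 3, 2, 3, 3, 2, 2, 1], [79, 29, 0], [47, 46, 36]),
  ([7, 3, 3, 3, 1, 2, 2, 2, 3], [88, 33, 0], [53, 36]),
  ([7, 3, 3, 3, 1, 2, 2, 3, 2], [89, 33, 0], [52, 36]),
  ([7, 3, 3, 3, 1, 2, 3, 2, 2], [90, 33, 0], [51, 36]),
  ([7, 3, 3, 3, 1, 3, 2, 2, 2], [91, 33, 0], [116, 51, 36]),
  ([7, 3, 3, 3, 2, 1, 2, 2, 3], [85, 32, 0], [50, 36]),
  ([7, 3, 3, 3, 2, 1, 2, 3, 2], [86, 32, 0], [49, 36]),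
  ([7, 3, 3, 3, 2, 1, 3, 2, 2], [87, 32, 0], [48, 36]),
  ([7, 3, 3, 3, 2, 2, 1, 2, 3], [83, 31, 0], [116, 50, 36]),
  ([7, 3, 3, 3, 2, 2, 1, 3, 2], [84, 31, 0], [116, 49, 36]),
  ([7, 3, 3, 3, 2, 2, 2, 1, 3], [82, 30, 0], [115, 50, 36]),
  ([7, 3, 3, 3, 2, 2, 2, 3, 1], [82, 29, 0], [114, 49, 36]),
  ([7, 3, 3, 3, 2, 2, 3, 1, 2], [84, 30, 0], [115, 48, 36]),
  ([7, 3, 3, 3, 2, 2, 3, 2, 1], [83, 29, 0], [114, 48, 36]),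
  ([7, 3, 3, 3, 2, 3, 1, 2, 2], [87, 31, 0], [48, 47, 36]),
  ([7, 3, 3, 3, 2, 3, 2, 1, 2], [86, 30, 0], [49, 47, 36]),
  ([7, 3, 3, 3, 2, 3, 2, 2, 1], [85, 29, 0], [50, 47, 36]),
  ([7, 3, 3, 3, 3, 1, 2, 2, 2], [91, 32, 0], [112, 48, 36]),
  ([7, 3, 3, 3, 3, 2, 1, 2, 2], [90, 31, 0], [51, 47, 36]),
  ([7, 3, 3, 3, 3, 2, 2, 1, 2], [89, 30, 0], [52, 47, 36]),
  ([7, 3, 3, 3, 3, 2, 2, 2, 1], [88, 29, 0], [53, 47, 36]),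
  ([7, 3, 4, 2, 2, 2, 2, 2, 2], [1], [104, 36]),
  ([7, 4, 2, 2, 2, 2, 2, 2, 3], [7, 0], [105, 54, 47, 36]),
  ([7, 4, 2, 2, 2, 2, 2, 3, 2], [6, 0], [51, 42, 40]),
  ([7, 4, 2, 2, 2, 2, 3, 2, 2], [5, 0], [52, 42, 39]),
  ([7, 4, 2, 2, 2, 3, 2, 2, 2], [4, 0], [54, 42, 38]),
  ([7, 4, 2, 2, 3, 2, 2, 2, 2], [3, 0], [54, 43, 37]),
  ([7, 4, 2, 3, 2, 2, 2, 2, 2], [2, 0], [54, 47, 36]),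
  ([7, 4, 3, 2, 2, 2, 2, 2, 2], [1, 0], [104, 54, 47, 36]),
  ([8, 1, 3, 3, 3, 3, 3, 3, 3], [92, 29, 0], []),
  ([8, 2, 2, 2, 3, 3, 3, 3, 4], [93, 82, 7], [50]),
  ([8, 2, 2, 2, 3, 3, 3, 4, 3], [92, 82, 6], [49]),
  ([8, 2, 2, 2, 3, 3, 4, 3, 3], [92, 83, 5], [48]),
  ([8, 2, 2, 2, 3, 4, 3, 3, 3], [92, 85, 4], [47]),
  ([8, 2, 2, 2, 4, 3, 3, 3, 3], [92, 88, 3], [113, 47]),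
  ([8, 2, 2, 3, 2, 3, 3, 3, 4], [93, 76, 7], [46]),
  ([8, 2, 2, 3, 2, 3, 3, 4, 3], [92, 76, 6], [45]),
  ([8, 2, 2, 3, 2, 3, 4, 3, 3], [92, 77, 5], [44]),
  ([8, 2, 2, 3, 2, 4, 3, 3, 3], [92, 79, 4], [43]),
  ([8, 2, 2, 3, 3, 2, 3, 3, 4], [93, 73, 7], [113, 46]),
  ([8, 2, 2, 3, 3, 2, 3, 4, 3], [92, 73, 6], [113, 45]),
  ([8, 2, 2, 3, 3, 2, 4, 3, 3], [92, 74, 5], [113, 44]),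
  ([8, 2, 2, 3, 3, 3, 2, 3, 4], [93, 72, 7], [112, 46]),
  ([8, 2, 2, 3, 3, 3, 2, 4, 3], [92, 72, 6], [112, 45]),
  ([8, 2, 2, 3, 3, 3, 3, 2, 4], [94, 72, 7], [111, 46]),
  ([8, 2, 2, 3, 3, 3, 3, 4, 2], [94, 72, 6], [110, 45]),
  ([8, 2, 2, 3, 3, 3, 4, 2, 3], [92, 72, 5], [111, 44]),
  ([8, 2, 2, 3, 3, 3, 4, 3, 2], [93, 72, 5], [110, 44]),
  ([8, 2, 2, 3, 3, 4, 2, 3, 3], [92, 74, 4], [112, 43]),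
  ([8, 2, 2, 3, 3, 4, 3, 2, 3], [92, 73, 4], [111, 43]),
  ([8, 2, 2, 3, 3, 4, 3, 3, 2], [93, 73, 4], [110, 43]),
  ([8, 2, 2, 3, 4, 2, 3, 3, 3], [92, 79, 3], [43, 42]),
  ([8, 2, 2, 3, 4, 3, 2, 3, 3], [92, 77, 3], [44, 42]),
  ([8, 2, 2, 3, 4, 3, 3, 2, 3], [92, 76, 3], [45, 42]),
  ([8, 2, 2, 3, 4, 3, 3, 3, 2], [93, 76, 3], [46, 42]),
  ([8, 2, 2, 4, 2, 3, 3, 3, 3], [92, 88, 2], [108, 43]),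
  ([8, 2, 2, 4, 3, 2, 3, 3, 3], [92, 85, 2], [47, 42]),
  ([8, 2, 2, 4, 3, 3, 2, 3, 3], [92, 83, 2], [48, 42]),
  ([8, 2, 2, 4, 3, 3, 3, 2, 3], [92, 82, 2], [49, 42]),
  ([8, 2, 2, 4, 3, 3, 3, 3, 2], [93, 82, 2], [50, 42]),
  ([8, 2, 3, 2, 2, 3, 3, 3, 4], [93, 66, 7], [41]),
  ([8, 2, 3, 2, 2, 3, 3, 4, 3], [92, 66, 6], [40]),
  ([8, 2, 3, 2, 2, 3, 4, 3, 3], [92, 67, 5], [39]),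
  ([8, 2, 3, 2, 2, 4, 3, 3, 3], [92, 69, 4], [38]),
  ([8, 2, 3, 2, 3, 2, 3, 3, 4], [93, 63, 7], [113, 41]),
  ([8, 2, 3, 2, 3, 2, 3, 4, 3], [92, 63, 6], [113, 40]),
  ([8, 2, 3, 2, 3, 2, 4, 3, 3], [92, 64, 5], [113, 39]),
  ([8, 2, 3, 2, 3, 3, 2, 3, 4], [93, 62, 7], [112, 41]),
  ([8, 2, 3, 2, 3, 3, 2, 4, 3], [92, 62, 6], [112, 40]),
  ([8, 2, 3, 2, 3, 3, 3, 2, 4], [94, 62, 7], [111, 41]),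
  ([8, 2, 3, 2, 3, 3, 3, 4, 2], [94, 62, 6], [110, 40]),
  ([8, 2, 3, 2, 3, 3, 4, 2, 3], [92, 62, 5], [111, 39]),
  ([8, 2, 3, 2, 3, 3, 4, 3, 2], [93, 62, 5], [110, 39]),
  ([8, 2, 3, 2, 3, 4, 2, 3, 3], [92, 64, 4], [112, 38]),
  ([8, 2, 3, 2, 3, 4, 3, 2, 3], [92, 63, 4], [111, 38]),
  ([8, 2, 3, 2, 3, 4, 3, 3, 2], [93, 63, 4], [110, 38]),
  ([8, 2, 3, 2, 4, 2, 3, 3, 3], [92, 69, 3], [38, 37]),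
  ([8, 2, 3, 2, 4, 3, 2, 3, 3], [92, 67, 3], [39, 37]),
  ([8, 2, 3, 2, 4, 3, 3, 2, 3], [92, 66, 3], [40, 37]),
  ([8, 2, 3, 2, 4, 3, 3, 3, 2], [93, 66, 3], [41, 37]),
  ([8, 2, 3, 3, 2, 2, 3, 3, 4], [93, 59, 7], [108, 41]),
  ([8, 2, 3, 3, 2, 2, 3, 4, 3], [92, 59, 6], [108, 40]),
  ([8, 2, 3, 3, 2, 2, 4, 3, 3], [92, 60, 5], [108, 39]),
  ([8, 2, 3, 3, 2, 3, 2, 3, 4], [93, 58, 7], [107, 41]),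
  ([8, 2, 3, 3, 2, 3, 2, 4, 3], [92, 58, 6], [107, 40]),
  ([8, 2, 3, 3, 2, 3, 3, 2, 4], [94, 58, 7], [106, 41]),
  ([8, 2, 3, 3, 2, 3, 3, 4, 2], [94, 58, 6], [105, 40]),
  ([8, 2, 3, 3, 2, 3, 4, 2, 3], [92, 58, 5], [106, 39]),
  ([8, 2, 3, 3, 2, 3, 4, 3, 2], [93, 58, 5], [105, 39]),
  ([8, 2, 3, 3, 2, 4, 2, 3, 3], [92, 60, 4], [107, 38]),
  ([8, 2, 3, 3, 2, 4, 3, 2, 3], [92, 59, 4], [106, 38]),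
  ([8, 2, 3, 3, 2, 4, 3, 3, 2], [93, 59, 4], [105, 38]),
  ([8, 2, 3, 3, 3, 2, 2, 3, 4], [93, 57, 7], [113, 107, 41]),
  ([8, 2, 3, 3, 3, 2, 2, 4, 3], [92, 57, 6], [113, 107, 40]),
  ([8, 2, 3, 3, 3, 2, 3, 2, 4], [94, 57, 7], [113, 106, 41]),
  ([8, 2, 3, 3, 3, 2, 3, 4, 2], [94, 57, 6], [113, 105, 40]),
  ([8, 2, 3, 3, 3, 2, 4, 2, 3], [92, 57, 5], [113, 106, 39]),
  ([8, 2, 3, 3, 3, 2, 4, 3, 2], [93, 57, 5], [113, 105, 39]),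
  ([8, 2, 3, 3, 3, 3, 2, 2, 4], [95, 57, 7], [112, 106, 41]),
  ([8, 2, 3, 3, 3, 3, 2, 4, 2], [95, 57, 6], [112, 105, 40]),
  ([8, 2, 3, 3, 3, 3, 4, 2, 2], [95, 57, 5], [111, 105, 39]),
  ([8, 2, 3, 3, 3, 4, 2, 2, 3], [92, 57, 4], [112, 106, 38]),
  ([8, 2, 3, 3, 3, 4, 2, 3, 2], [93, 57, 4], [112, 105, 38]),
  ([8, 2, 3, 3, 3, 4, 3, 2, 2], [94, 57, 4], [111, 105, 38]),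
  ([8, 2, 3, 3, 4, 2, 2, 3, 3], [92, 60, 3], [107, 38, 37]),
  ([8, 2, 3, 3, 4, 2, 3, 2, 3], [92, 59, 3], [106, 38, 37]),
  ([8, 2, 3, 3, 4, 2, 3, 3, 2], [93, 59, 3], [105, 38, 37]),
  ([8, 2, 3, 3, 4, 3, 2, 2, 3], [92, 58, 3], [106, 39, 37]),
  ([8, 2, 3, 3, 4, 3, 2, 3, 2], [93, 58, 3], [105, 39, 37]),
  ([8, 2, 3, 3, 4, 3, 3, 2, 2], [94, 58, 3], [105, 40, 37]),
  ([8, 2, 3, 4, 2, 2, 3, 3, 3], [92, 69, 2], [38, 36]),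
  ([8, 2, 3, 4, 2, 3, 2, 3, 3], [92, 67, 2], [39, 36]),
  ([8, 2, 3, 4, 2, 3, 3, 2, 3], [92, 66, 2], [40, 36]),
  ([8, 2, 3, 4, 2, 3, 3, 3, 2], [93, 66, 2], [41, 36]),
  ([8, 2, 3, 4, 3, 2, 2, 3, 3], [92, 64, 2], [112, 38, 36]),
  ([8, 2, 3, 4, 3, 2, 3, 2, 3], [92, 63, 2], [111, 38, 36]),
  ([8, 2, 3, 4, 3, 2, 3, 3, 2], [93, 63, 2], [110, 38, 36]),
  ([8, 2, 3, 4, 3, 3, 2, 2, 3], [92, 62, 2], [111, 39, 36]),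
  ([8, 2, 3, 4, 3, 3, 2, 3, 2], [93, 62, 2], [110, 39, 36]),
  ([8, 2, 3, 4, 3, 3, 3, 2, 2], [94, 62, 2], [110, 40, 36]),
  ([8, 2, 4, 2, 2, 3, 3, 3, 3], [92, 88, 1], [102, 38]),
  ([8, 2, 4, 2, 3, 2, 3, 3, 3], [92, 85, 1], [47, 37]),
  ([8, 2, 4, 2, 3, 3, 2, 3, 3], [92, 83, 1], [48, 37]),
  ([8, 2, 4, 2, 3, 3, 3, 2, 3], [92, 82, 1], [49, 37]),
  ([8, 2, 4, 2, 3, 3, 3, 3, 2], [93, 82, 1], [50, 37]),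
  ([8, 2, 4, 3, 2, 2, 3, 3, 3], [92, 79, 1], [43, 36]),
  ([8, 2, 4, 3, 2, 3, 2, 3, 3], [92, 77, 1], [44, 36]),
  ([8, 2, 4, 3, 2, 3, 3, 2, 3], [92, 76, 1], [45, 36]),
  ([8, 2, 4, 3, 2, 3, 3, 3, 2], [93, 76, 1], [46, 36]),
  ([8, 2, 4, 3, 3, 2, 2, 3, 3], [92, 74, 1], [112, 43, 36]),
  ([8, 2, 4, 3, 3, 2, 3, 2, 3], [92, 73, 1], [111, 43, 36]),
  ([8, 2, 4, 3, 3, 2, 3, 3, 2], [93, 73, 1], [110, 43, 36]),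
  ([8, 2, 4, 3, 3, 3, 2, 2, 3], [92, 72, 1], [111, 44, 36]),
  ([8, 2, 4, 3, 3, 3, 2, 3, 2], [93, 72, 1], [110, 44, 36]),
  ([8, 2, 4, 3, 3, 3, 3, 2, 2], [94, 72, 1], [110, 45, 36]),
  ([8, 3, 1, 3, 3, 3, 3, 3, 3], [35, 0], [56, 51, 42]),
  ([8, 3, 2, 2, 2, 3, 3, 3, 4], [88, 7], [100, 51, 41]),
  ([8, 3, 2, 2, 2, 3, 3, 4, 3], [89, 6], [99, 51, 40]),
  ([8, 3, 2, 2, 2, 3, 4, 3, 3], [90, 5], [99, 52, 39]),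
  ([8, 3, 2, 2, 2, 4, 3, 3, 3], [91, 4], [99, 54, 38]),
  ([8, 3, 2, 2, 3, 2, 3, 3, 4], [85, 7], [100, 48, 41]),
  ([8, 3, 2, 2, 3, 2, 3, 4, 3], [86, 6], [99, 48, 40]),
  ([8, 3, 2, 2, 3, 2, 4, 3, 3], [87, 5], [99, 49, 39]),
  ([8, 3, 2, 2, 3, 3, 2, 3, 4], [83, 7], [100, 47, 41]),
  ([8, 3, 2, 2, 3, 3, 2, 4, 3], [84, 6], [99, 47, 40]),
  ([8, 3, 2, 2, 3, 3, 3, 2, 4], [82, 7], [101, 47, 41]),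
  ([8, 3, 2, 2, 3, 3, 3, 4, 2], [82, 6], [101, 47, 40]),
  ([8, 3, 2, 2, 3, 3, 4, 2, 3], [84, 5], [99, 47, 39]),
  ([8, 3, 2, 2, 3, 3, 4, 3, 2], [83, 5], [100, 47, 39]),
  ([8, 3, 2, 2, 3, 4, 2, 3, 3], [87, 4], [99, 49, 38]),
  ([8, 3, 2, 2, 3, 4, 3, 2, 3], [86, 4], [99, 48, 38]),
  ([8, 3, 2, 2, 3, 4, 3, 3, 2], [85, 4], [100, 48, 38]),
  ([8, 3, 2, 2, 4, 2, 3, 3, 3], [91, 3], [99, 54, 37]),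
  ([8, 3, 2, 2, 4, 3, 2, 3, 3], [90, 3], [99, 52, 37]),
  ([8, 3, 2, 2, 4, 3, 3, 2, 3], [89, 3], [99, 51, 37]),
  ([8, 3, 2, 2, 4, 3, 3, 3, 2], [88, 3], [100, 51, 37]),
  ([8, 3, 2, 3, 2, 2, 3, 3, 4], [79, 7], [100, 44, 41]),
  ([8, 3, 2, 3, 2, 2, 3, 4, 3], [80, 6], [99, 44, 40]),
  ([8, 3, 2, 3, 2, 2, 4, 3, 3], [81, 5], [99, 45, 39]),
  ([8, 3, 2, 3, 2, 3, 2, 3, 4], [77, 7], [100, 43, 41]),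
  ([8, 3, 2, 3, 2, 3, 2, 4, 3], [78, 6], [99, 43, 40]),
  ([8, 3, 2, 3, 2, 3, 3, 2, 4], [76, 7], [101, 43, 41]),
  ([8, 3, 2, 3, 2, 3, 3, 4, 2], [76, 6], [101, 43, 40]),
  ([8, 3, 2, 3, 2, 3, 4, 2, 3], [78, 5], [99, 43, 39]),
  ([8, 3, 2, 3, 2, 3, 4, 3, 2], [77, 5], [100, 43, 39]),
  ([8, 3, 2, 3, 2, 4, 2, 3, 3], [81, 4], [99, 45, 38]),
  ([8, 3, 2, 3, 2, 4, 3, 2, 3], [80, 4], [99, 44, 38]),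
  ([8, 3, 2, 3, 2, 4, 3, 3, 2], [79, 4], [100, 44, 38]),
  ([8, 3, 2, 3, 3, 2, 2, 3, 4], [74, 7], [100, 42, 41]),
  ([8, 3, 2, 3, 3, 2, 2, 4, 3], [75, 6], [99, 42, 40]),
  ([8, 3, 2, 3, 3, 2, 3, 2, 4], [73, 7], [101, 42, 41]),
  ([8, 3, 2, 3, 3, 2, 3, 4, 2], [73, 6], [101, 42, 40]),
  ([8, 3, 2, 3, 3, 2, 4, 2, 3], [75, 5], [99, 42, 39]),
  ([8, 3, 2, 3, 3, 2, 4, 3, 2], [74, 5], [100, 42, 39]),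
  ([8, 3, 2, 3, 3, 3, 2, 2, 4], [72, 7], [102, 42, 41]),
  ([8, 3, 2, 3, 3, 3, 2, 4, 2], [72, 6], [102, 42, 40]),
  ([8, 3, 2, 3, 3, 3, 4, 2, 2], [72, 5], [102, 42, 39]),
  ([8, 3, 2, 3, 3, 4, 2, 2, 3], [75, 4], [99, 42, 38]),
  ([8, 3, 2, 3, 3, 4, 2, 3, 2], [74, 4], [100, 42, 38]),
  ([8, 3, 2, 3, 3, 4, 3, 2, 2], [73, 4], [101, 42, 38]),
  ([8, 3, 2, 3, 4, 2, 2, 3, 3], [81, 3], [99, 45, 37]),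
  ([8, 3, 2, 3, 4, 2, 3, 2, 3], [80, 3], [99, 44, 37]),
  ([8, 3, 2, 3, 4, 2, 3, 3, 2], [79, 3], [100, 44, 37]),
  ([8, 3, 2, 3, 4, 3, 2, 2, 3], [78, 3], [99, 43, 37]),
  ([8, 3, 2, 3, 4, 3, 2, 3, 2], [77, 3], [100, 43, 37]),
  ([8, 3, 2, 3, 4, 3, 3, 2, 2], [76, 3], [101, 43, 37]),
  ([8, 3, 2, 4, 2, 2, 3, 3, 3], [91, 2], [99, 54, 36]),
  ([8, 3, 2, 4, 2, 3, 2, 3, 3], [90, 2], [99, 52, 36]),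
  ([8, 3, 2, 4, 2, 3, 3, 2, 3], [89, 2], [99, 51, 36]),
  ([8, 3, 2, 4, 2, 3, 3, 3, 2], [88, 2], [100, 51, 36]),
  ([8, 3, 2, 4, 3, 2, 2, 3, 3], [87, 2], [99, 49, 36]),
  ([8, 3, 2, 4, 3, 2, 3, 2, 3], [86, 2], [99, 48, 36]),
  ([8, 3, 2, 4, 3, 2, 3, 3, 2], [85, 2], [100, 48, 36]),
  ([8, 3, 2, 4, 3, 3, 2, 2, 3], [84, 2], [99, 47, 36]),
  ([8, 3, 2, 4, 3, 3, 2, 3, 2], [83, 2], [100, 47, 36]),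
  ([8, 3, 2, 4, 3, 3, 3, 2, 2], [82, 2], [101, 47, 36]),
  ([8, 3, 3, 1, 3, 3, 3, 3, 3], [34, 0], [56, 51, 42, 37]),
  ([8, 3, 3, 2, 2, 2, 3, 3, 4], [69, 7], [54, 41]),
  ([8, 3, 3, 2, 2, 2, 3, 4, 3], [70, 6], [55, 40]),
  ([8, 3, 3, 2, 2, 2, 4, 3, 3], [71, 5], [56, 39]),
  ([8, 3, 3, 2, 2, 3, 2, 3, 4], [67, 7], [52, 41]),
  ([8, 3, 3, 2, 2, 3, 2, 4, 3], [68, 6], [53, 40]),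
  ([8, 3, 3, 2, 2, 3, 3, 2, 4], [66, 7], [51, 41]),
  ([8, 3, 3, 2, 2, 3, 3, 4, 2], [66, 6], [51, 40]),
  ([8, 3, 3, 2, 2, 3, 4, 2, 3], [68, 5], [53, 39]),
  ([8, 3, 3, 2, 2, 3, 4, 3, 2], [67, 5], [52, 39]),
  ([8, 3, 3, 2, 2, 4, 2, 3, 3], [71, 4], [56, 38]),
  ([8, 3, 3, 2, 2, 4, 3, 2, 3], [70, 4], [55, 38]),
  ([8, 3, 3, 2, 2, 4, 3, 3, 2], [69, 4], [54, 38]),
  ([8, 3, 3, 2, 3, 2, 2, 3, 4], [64, 7], [49, 41]),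
  ([8, 3, 3, 2, 3, 2, 2, 4, 3], [65, 6], [50, 40]),
  ([8, 3, 3, 2, 3, 2, 3, 2, 4], [63, 7], [48, 41]),
  ([8, 3, 3, 2, 3, 2, 3, 4, 2], [63, 6], [48, 40]),
  ([8, 3, 3, 2, 3, 2, 4, 2, 3], [65, 5], [50, 39]),
  ([8, 3, 3, 2, 3, 2, 4, 3, 2], [64, 5], [49, 39]),
  ([8, 3, 3, 2, 3, 3, 2, 2, 4], [62, 7], [47, 41]),
  ([8, 3, 3, 2, 3, 3, 2, 4, 2], [62, 6], [47, 40]),
  ([8, 3, 3, 2, 3, 3, 4, 2, 2], [62, 5], [47, 39]),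
  ([8, 3, 3, 2, 3, 4, 2, 2, 3], [65, 4], [50, 38]),
  ([8, 3, 3, 2, 3, 4, 2, 3, 2], [64, 4], [49, 38]),
  ([8, 3, 3, 2, 3, 4, 3, 2, 2], [63, 4], [48, 38]),
  ([8, 3, 3, 2, 4, 2, 2, 3, 3], [71, 3], [56, 37]),
  ([8, 3, 3, 2, 4, 2, 3, 2, 3], [70, 3], [55, 37]),
  ([8, 3, 3, 2, 4, 2, 3, 3, 2], [69, 3], [54, 37]),
  ([8, 3, 3, 2, 4, 3, 2, 2, 3], [68, 3], [53, 37]),
  ([8, 3, 3, 2, 4, 3, 2, 3, 2], [67, 3], [52, 37]),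
  ([8, 3, 3, 2, 4, 3, 3, 2, 2], [66, 3], [51, 37]),
  ([8, 3, 3, 3, 1, 3, 3, 3, 3], [33, 0], [56, 51, 42, 36]),
  ([8, 3, 3, 3, 2, 2, 2, 3, 4], [60, 7], [45, 41]),
  ([8, 3, 3, 3, 2, 2, 2, 4, 3], [61, 6], [46, 40]),
  ([8, 3, 3, 3, 2, 2, 3, 2, 4], [59, 7], [44, 41]),
  ([8, 3, 3, 3, 2, 2, 3, 4, 2], [59, 6], [44, 40]),
  ([8, 3, 3, 3, 2, 2, 4, 2, 3], [61, 5], [46, 39]),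
  ([8, 3, 3, 3, 2, 2, 4, 3, 2], [60, 5], [45, 39]),
  ([8, 3, 3, 3, 2, 3, 2, 2, 4], [58, 7], [43, 41]),
  ([8, 3, 3, 3, 2, 3, 2, 4, 2], [58, 6], [43, 40]),
  ([8, 3, 3, 3, 2, 3, 4, 2, 2], [58, 5], [43, 39]),
  ([8, 3, 3, 3, 2, 4, 2, 2, 3], [61, 4], [46, 38]),
  ([8, 3, 3, 3, 2, 4, 2, 3, 2], [60, 4], [45, 38]),
  ([8, 3, 3, 3, 2, 4, 3, 2, 2], [59, 4], [44, 38]),
  ([8, 3, 3, 3, 3, 1, 3, 3, 3], [32, 0], [56, 48, 43, 36]),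
  ([8, 3, 3, 3, 3, 2, 2, 2, 4], [57, 7], [42, 41]),
  ([8, 3, 3, 3, 3, 2, 2, 4, 2], [57, 6], [42, 40]),
  ([8, 3, 3, 3, 3, 2, 4, 2, 2], [57, 5], [42, 39]),
  ([8, 3, 3, 3, 3, 3, 1, 3, 3], [31, 0], [56, 47, 44, 36]),
  ([8, 3, 3, 3, 3, 3, 3, 1, 3], [30, 0], [55, 47, 45, 36]),
  ([8, 3, 3, 3, 3, 3, 3, 3, 1], [29, 0], [54, 47, 46, 36]),
  ([8, 3, 3, 3, 3, 4, 2, 2, 2], [57, 4], [42, 38]),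
  ([8, 3, 3, 3, 4, 2, 2, 2, 3], [61, 3], [46, 37]),
  ([8, 3, 3, 3, 4, 2, 2, 3, 2], [60, 3], [45, 37]),
  ([8, 3, 3, 3, 4, 2, 3, 2, 2], [59, 3], [44, 37]),
  ([8, 3, 3, 3, 4, 3, 2, 2, 2], [58, 3], [43, 37]),
  ([8, 3, 3, 4, 2, 2, 2, 3, 3], [71, 2], [56, 36]),
  ([8, 3, 3, 4, 2, 2, 3, 2, 3], [70, 2], [55, 36]),
  ([8, 3, 3, 4, 2, 2, 3, 3, 2], [69, 2], [54, 36]),
  ([8, 3, 3, 4, 2, 3, 2, 2, 3], [68, 2], [53, 36]),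
  ([8, 3, 3, 4, 2, 3, 2, 3, 2], [67, 2], [52, 36]),
  ([8, 3, 3, 4, 2, 3, 3, 2, 2], [66, 2], [51, 36]),
  ([8, 3, 3, 4, 3, 2, 2, 2, 3], [65, 2], [50, 36]),
  ([8, 3, 3, 4, 3, 2, 2, 3, 2], [64, 2], [49, 36]),
  ([8, 3, 3, 4, 3, 2, 3, 2, 2], [63, 2], [48, 36]),
  ([8, 3, 3, 4, 3, 3, 2, 2, 2], [62, 2], [47, 36]),
  ([8, 3, 4, 2, 2, 2, 3, 3, 3], [91, 1], [101, 56, 39]),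
  ([8, 3, 4, 2, 2, 3, 2, 3, 3], [90, 1], [102, 56, 38]),
  ([8, 3, 4, 2, 2, 3, 3, 2, 3], [89, 1], [102, 55, 38]),
  ([8, 3, 4, 2, 2, 3, 3, 3, 2], [88, 1], [102, 54, 38]),
  ([8, 3, 4, 2, 3, 2, 2, 3, 3], [87, 1], [103, 56, 37]),
  ([8, 3, 4, 2, 3, 2, 3, 2, 3], [86, 1], [103, 55, 37]),
  ([8, 3, 4, 2, 3, 2, 3, 3, 2], [85, 1], [103, 54, 37]),
  ([8, 3, 4, 2, 3, 3, 2, 2, 3], [84, 1], [103, 53, 37]),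
  ([8, 3, 4, 2, 3, 3, 2, 3, 2], [83, 1], [103, 52, 37]),
  ([8, 3, 4, 2, 3, 3, 3, 2, 2], [82, 1], [103, 51, 37]),
  ([8, 3, 4, 3, 2, 2, 2, 3, 3], [81, 1], [104, 56, 36]),
  ([8, 3, 4, 3, 2, 2, 3, 2, 3], [80, 1], [104, 55, 36]),
  ([8, 3, 4, 3, 2, 2, 3, 3, 2], [79, 1], [104, 54, 36]),
  ([8, 3, 4, 3, 2, 3, 2, 2, 3], [78, 1], [104, 53, 36]),
  ([8, 3, 4, 3, 2, 3, 2, 3, 2], [77, 1], [104, 52, 36]),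
  ([8, 3, 4, 3, 2, 3, 3, 2, 2], [76, 1], [104, 51, 36]),
  ([8, 3, 4, 3, 3, 2, 2, 2, 3], [75, 1], [104, 50, 36]),
  ([8, 3, 4, 3, 3, 2, 2, 3, 2], [74, 1], [104, 49, 36]),
  ([8, 3, 4, 3, 3, 2, 3, 2, 2], [73, 1], [104, 48, 36]),
  ([8, 3, 4, 3, 3, 3, 2, 2, 2], [72, 1], [104, 47, 36]),
  ([8, 4, 2, 2, 2, 3, 3, 3, 3], [91, 4, 0], [99, 49, 44, 38]),
  ([8, 4, 2, 2, 3, 2, 3, 3, 3], [91, 3, 0], [99, 52, 44, 37]),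
  ([8, 4, 2, 2, 3, 3, 2, 3, 3], [90, 3, 0], [47, 46, 40]),
  ([8, 4, 2, 2, 3, 3, 3, 2, 3], [89, 3, 0], [47, 46, 39]),
  ([8, 4, 2, 2, 3, 3, 3, 3, 2], [88, 3, 0], [47, 45, 39]),
  ([8, 4, 2, 3, 2, 2, 3, 3, 3], [91, 2, 0], [99, 52, 48, 36]),
  ([8, 4, 2, 3, 2, 3, 2, 3, 3], [90, 2, 0], [50, 43, 40]),
  ([8, 4, 2, 3, 2, 3, 3, 2, 3], [89, 2, 0], [50, 43, 39]),
  ([8, 4, 2, 3, 2, 3, 3, 3, 2], [88, 2, 0], [49, 43, 39]),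
  ([8, 4, 2, 3, 3, 2, 2, 3, 3], [87, 2, 0], [53, 42, 40]),
  ([8, 4, 2, 3, 3, 2, 3, 2, 3], [86, 2, 0], [53, 42, 39]),
  ([8, 4, 2, 3, 3, 2, 3, 3, 2], [85, 2, 0], [52, 42, 39]),
  ([8, 4, 2, 3, 3, 3, 2, 2, 3], [84, 2, 0], [99, 47, 36]),
  ([8, 4, 2, 3, 3, 3, 2, 3, 2], [83, 2, 0], [100, 47, 36]),
  ([8, 4, 2, 3, 3, 3, 3, 2, 2], [82, 2, 0], [101, 47, 36]),
  ([8, 4, 3, 2, 2, 2, 3, 3, 3], [91, 1, 0], [105, 52, 48, 36]),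
  ([8, 4, 3, 2, 2, 3, 2, 3, 3], [90, 1, 0], [50, 45, 38]),
  ([8, 4, 3, 2, 2, 3, 3, 2, 3], [89, 1, 0], [50, 44, 38]),
  ([8, 4, 3, 2, 2, 3, 3, 3, 2], [88, 1, 0], [49, 44, 38]),
  ([8, 4, 3, 2, 3, 2, 2, 3, 3], [87, 1, 0], [53, 45, 37]),
  ([8, 4, 3, 2, 3, 2, 3, 2, 3], [86, 1, 0], [53, 44, 37]),
  ([8, 4, 3, 2, 3, 2, 3, 3, 2], [85, 1, 0], [52, 44, 37]),
  ([8, 4, 3, 2, 3, 3, 2, 2, 3], [84, 1, 0], [105, 47, 36]),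
  ([8, 4, 3, 2, 3, 3, 2, 3, 2], [83, 1, 0], [106, 47, 36]),
  ([8, 4, 3, 2, 3, 3, 3, 2, 2], [82, 1, 0], [107, 47, 36]),
  ([8, 4, 3, 3, 2, 2, 2, 3, 3], [81, 1, 0], [53, 49, 36]),
  ([8, 4, 3, 3, 2, 2, 3, 2, 3], [80, 1, 0], [53, 48, 36]),
  ([8, 4, 3, 3, 2, 2, 3, 3, 2], [79, 1, 0], [52, 48, 36]),
  ([8, 4, 3, 3, 2, 3, 2, 2, 3], [78, 1, 0], [110, 47, 36]),
  ([8, 4, 3, 3, 2, 3, 2, 3, 2], [77, 1, 0], [111, 47, 36]),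
  ([8, 4, 3, 3, 2, 3, 3, 2, 2], [76, 1, 0], [112, 47, 36]),
  ([8, 4, 3, 3, 3, 2, 2, 2, 3], [75, 1, 0], [114, 47, 36]),
  ([8, 4, 3, 3, 3, 2, 2, 3, 2], [74, 1, 0], [115, 47, 36]),
  ([8, 4, 3, 3, 3, 2, 3, 2, 2], [73, 1, 0], [116, 47, 36]),
  ([8, 4, 3, 3, 3, 3, 2, 2, 2], [72, 1, 0], [47, 36]),
  ([9, 2, 3, 3, 3, 3, 3, 4, 4], [35, 8, 1], [56]),
  ([9, 2, 3, 3, 3, 3, 4, 3, 4], [35, 9, 1], [55]),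
  ([9, 2, 3, 3, 3, 3, 4, 4, 3], [35, 10, 1], [54]),
  ([9, 2, 3, 3, 3, 4, 3, 3, 4], [35, 11, 1], [53]),
  ([9, 2, 3, 3, 3, 4, 3, 4, 3], [35, 12, 1], [52]),
  ([9, 2, 3, 3, 3, 4, 4, 3, 3], [35, 13, 1], [51]),
  ([9, 2, 3, 3, 4, 3, 3, 3, 4], [35, 14, 1], [50]),
  ([9, 2, 3, 3, 4, 3, 3, 4, 3], [35, 15, 1], [49]),
  ([9, 2, 3, 3, 4, 3, 4, 3, 3], [35, 16, 1], [48]),
  ([9, 2, 3, 3, 4, 4, 3, 3, 3], [35, 17, 1], [47]),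
  ([9, 2, 3, 4, 3, 3, 3, 3, 4], [35, 18, 1], [46]),
  ([9, 2, 3, 4, 3, 3, 3, 4, 3], [35, 19, 1], [45]),
  ([9, 2, 3, 4, 3, 3, 4, 3, 3], [35, 20, 1], [44]),
  ([9, 2, 3, 4, 3, 4, 3, 3, 3], [35, 21, 1], [43]),
  ([9, 2, 3, 4, 4, 3, 3, 3, 3], [35, 22, 1], [42]),
  ([9, 2, 4, 3, 3, 3, 3, 3, 4], [92, 23, 1], [41]),
  ([9, 2, 4, 3, 3, 3, 3, 4, 3], [93, 24, 1], [40]),
  ([9, 2, 4, 3, 3, 3, 4, 3, 3], [94, 25, 1], [39]),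
  ([9, 2, 4, 3, 3, 4, 3, 3, 3], [95, 26, 1], [38]),
  ([9, 2, 4, 3, 4, 3, 3, 3, 3], [96, 27, 1], [37]),
  ([9, 2, 4, 4, 3, 3, 3, 3, 3], [97, 28, 1], [36]),
  ([9, 3, 2, 3, 3, 3, 3, 4, 4], [71, 35, 0], [50, 45]),
  ([9, 3, 2, 3, 3, 3, 4, 3, 4], [70, 35, 0], [50, 44]),
  ([9, 3, 2, 3, 3, 3, 4, 4, 3], [69, 35, 0], [49, 44]),
  ([9, 3, 2, 3, 3, 4, 3, 3, 4], [68, 35, 0], [50, 43]),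
  ([9, 3, 2, 3, 3, 4, 3, 4, 3], [67, 35, 0], [49, 43]),
  ([9, 3, 2, 3, 3, 4, 4, 3, 3], [66, 35, 0], [48, 43]),
  ([9, 3, 2, 3, 4, 3, 3, 3, 4], [65, 35, 0], [105, 42]),
  ([9, 3, 2, 3, 4, 3, 3, 4, 3], [64, 35, 0], [106, 42]),
  ([9, 3, 2, 3, 4, 3, 4, 3, 3], [63, 35, 0], [107, 42]),
  ([9, 3, 2, 3, 4, 4, 3, 3, 3], [62, 35, 0], [108, 42]),
  ([9, 3, 2, 4, 3, 3, 3, 3, 4], [61, 35, 0], [110, 42]),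
  ([9, 3, 2, 4, 3, 3, 3, 4, 3], [60, 35, 0], [111, 42]),
  ([9, 3, 2, 4, 3, 3, 4, 3, 3], [59, 35, 0], [112, 42]),
  ([9, 3, 2, 4, 3, 4, 3, 3, 3], [58, 35, 0], [113, 42]),
  ([9, 3, 2, 4, 4, 3, 3, 3, 3], [57, 35, 0], [42]),
  ([9, 3, 3, 2, 3, 3, 3, 4, 4], [81, 34, 0], [50, 40]),
  ([9, 3, 3, 2, 3, 3, 4, 3, 4], [80, 34, 0], [50, 39]),
  ([9, 3, 3, 2, 3, 3, 4, 4, 3], [79, 34, 0], [49, 39]),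
  ([9, 3, 3, 2, 3, 4, 3, 3, 4], [78, 34, 0], [50, 38]),
  ([9, 3, 3, 2, 3, 4, 3, 4, 3], [77, 34, 0], [49, 38]),
  ([9, 3, 3, 2, 3, 4, 4, 3, 3], [76, 34, 0], [48, 38]),
  ([9, 3, 3, 2, 4, 3, 3, 3, 4], [75, 34, 0], [99, 37]),
  ([9, 3, 3, 2, 4, 3, 3, 4, 3], [74, 34, 0], [100, 37]),
  ([9, 3, 3, 2, 4, 3, 4, 3, 3], [73, 34, 0], [101, 37]),
  ([9, 3, 3, 2, 4, 4, 3, 3, 3], [72, 34, 0], [102, 37]),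
  ([9, 3, 3, 3, 2, 3, 3, 4, 4], [87, 33, 0], [46, 40]),
  ([9, 3, 3, 3, 2, 3, 4, 3, 4], [86, 33, 0], [46, 39]),
  ([9, 3, 3, 3, 2, 3, 4, 4, 3], [85, 33, 0], [45, 39]),
  ([9, 3, 3, 3, 2, 4, 3, 3, 4], [84, 33, 0], [46, 38]),
  ([9, 3, 3, 3, 2, 4, 3, 4, 3], [83, 33, 0], [45, 38]),
  ([9, 3, 3, 3, 2, 4, 4, 3, 3], [82, 33, 0], [44, 38]),
  ([9, 3, 3, 3, 3, 2, 3, 4, 4], [90, 32, 0], [113, 46, 40]),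
  ([9, 3, 3, 3, 3, 2, 4, 3, 4], [89, 32, 0], [113, 46, 39]),
  ([9, 3, 3, 3, 3, 2, 4, 4, 3], [88, 32, 0], [113, 45, 39]),
  ([9, 3, 3, 3, 3, 3, 2, 4, 4], [91, 31, 0], [112, 46, 40]),
  ([9, 3, 3, 3, 3, 3, 4, 2, 4], [91, 30, 0], [111, 46, 39]),
  ([9, 3, 3, 3, 3, 3, 4, 4, 2], [91, 29, 0], [110, 45, 39]),
  ([9, 3, 3, 3, 3, 4, 2, 3, 4], [89, 31, 0], [112, 46, 38]),
  ([9, 3, 3, 3, 3, 4, 2, 4, 3], [88, 31, 0], [112, 45, 38]),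
  ([9, 3, 3, 3, 3, 4, 3, 2, 4], [90, 30, 0], [111, 46, 38]),
  ([9, 3, 3, 3, 3, 4, 3, 4, 2], [90, 29, 0], [110, 45, 38]),
  ([9, 3, 3, 3, 3, 4, 4, 2, 3], [88, 30, 0], [111, 44, 38]),
  ([9, 3, 3, 3, 3, 4, 4, 3, 2], [89, 29, 0], [110, 44, 38]),
  ([9, 3, 3, 3, 4, 2, 3, 3, 4], [84, 32, 0], [46, 38, 37]),
  ([9, 3, 3, 3, 4, 2, 3, 4, 3], [83, 32, 0], [45, 38, 37]),
  ([9, 3, 3, 3, 4, 2, 4, 3, 3], [82, 32, 0], [44, 38, 37]),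
  ([9, 3, 3, 3, 4, 3, 2, 3, 4], [86, 31, 0], [46, 39, 37]),
  ([9, 3, 3, 3, 4, 3, 2, 4, 3], [85, 31, 0], [45, 39, 37]),
  ([9, 3, 3, 3, 4, 3, 3, 2, 4], [87, 30, 0], [46, 40, 37]),
  ([9, 3, 3, 3, 4, 3, 3, 4, 2], [87, 29, 0], [45, 41, 37]),
  ([9, 3, 3, 3, 4, 3, 4, 2, 3], [85, 30, 0], [44, 40, 37]),
  ([9, 3, 3, 3, 4, 3, 4, 3, 2], [86, 29, 0], [44, 41, 37]),
  ([9, 3, 3, 3, 4, 4, 2, 3, 3], [82, 31, 0], [43, 39, 37]),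
  ([9, 3, 3, 3, 4, 4, 3, 2, 3], [83, 30, 0], [43, 40, 37]),
  ([9, 3, 3, 3, 4, 4, 3, 3, 2], [84, 29, 0], [43, 41, 37]),
  ([9, 3, 3, 4, 2, 3, 3, 3, 4], [75, 33, 0], [99, 36]),
  ([9, 3, 3, 4, 2, 3, 3, 4, 3], [74, 33, 0], [100, 36]),
  ([9, 3, 3, 4, 2, 3, 4, 3, 3], [73, 33, 0], [101, 36]),
  ([9, 3, 3, 4, 2, 4, 3, 3, 3], [72, 33, 0], [102, 36]),
  ([9, 3, 3, 4, 3, 2, 3, 3, 4], [78, 32, 0], [50, 38, 36]),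
  ([9, 3, 3, 4, 3, 2, 3, 4, 3], [77, 32, 0], [49, 38, 36]),
  ([9, 3, 3, 4, 3, 2, 4, 3, 3], [76, 32, 0], [48, 38, 36]),
  ([9, 3, 3, 4, 3, 3, 2, 3, 4], [80, 31, 0], [50, 39, 36]),
  ([9, 3, 3, 4, 3, 3, 2, 4, 3], [79, 31, 0], [49, 39, 36]),
  ([9, 3, 3, 4, 3, 3, 3, 2, 4], [81, 30, 0], [50, 40, 36]),
  ([9, 3, 3, 4, 3, 3, 3, 4, 2], [81, 29, 0], [49, 41, 36]),
  ([9, 3, 3, 4, 3, 3, 4, 2, 3], [79, 30, 0], [48, 40, 36]),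
  ([9, 3, 3, 4, 3, 3, 4, 3, 2], [80, 29, 0], [48, 41, 36]),
  ([9, 3, 3, 4, 3, 4, 2, 3, 3], [76, 31, 0], [47, 39, 36]),
  ([9, 3, 3, 4, 3, 4, 3, 2, 3], [77, 30, 0], [47, 40, 36]),
  ([9, 3, 3, 4, 3, 4, 3, 3, 2], [78, 29, 0], [47, 41, 36]),
  ([9, 3, 3, 4, 4, 2, 3, 3, 3], [72, 32, 0], [102, 42]),
  ([9, 3, 3, 4, 4, 3, 2, 3, 3], [73, 31, 0], [101, 42]),
  ([9, 3, 3, 4, 4, 3, 3, 2, 3], [74, 30, 0], [100, 42]),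
  ([9, 3, 3, 4, 4, 3, 3, 3, 2], [75, 29, 0], [99, 42]),
  ([9, 3, 4, 2, 3, 3, 3, 3, 4], [61, 34, 0], [110, 37]),
  ([9, 3, 4, 2, 3, 3, 3, 4, 3], [60, 34, 0], [111, 37]),
  ([9, 3, 4, 2, 3, 3, 4, 3, 3], [59, 34, 0], [112, 37]),
  ([9, 3, 4, 2, 3, 4, 3, 3, 3], [58, 34, 0], [113, 37]),
  ([9, 3, 4, 2, 4, 3, 3, 3, 3], [57, 34, 0], [37]),
  ([9, 3, 4, 3, 2, 3, 3, 3, 4], [65, 33, 0], [105, 36]),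
  ([9, 3, 4, 3, 2, 3, 3, 4, 3], [64, 33, 0], [106, 36]),
  ([9, 3, 4, 3, 2, 3, 4, 3, 3], [63, 33, 0], [107, 36]),
  ([9, 3, 4, 3, 2, 4, 3, 3, 3], [62, 33, 0], [108, 36]),
  ([9, 3, 4, 3, 3, 2, 3, 3, 4], [68, 32, 0], [50, 43, 36]),
  ([9, 3, 4, 3, 3, 2, 3, 4, 3], [67, 32, 0], [49, 43, 36]),
  ([9, 3, 4, 3, 3, 2, 4, 3, 3], [66, 32, 0], [48, 43, 36]),
  ([9, 3, 4, 3, 3, 3, 2, 3, 4], [70, 31, 0], [50, 44, 36]),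
  ([9, 3, 4, 3, 3, 3, 2, 4, 3], [69, 31, 0], [49, 44, 36]),
  ([9, 3, 4, 3, 3, 3, 3, 2, 4], [71, 30, 0], [50, 45, 36]),
  ([9, 3, 4, 3, 3, 3, 3, 4, 2], [71, 29, 0], [49, 46, 36]),
  ([9, 3, 4, 3, 3, 3, 4, 2, 3], [69, 30, 0], [48, 45, 36]),
  ([9, 3, 4, 3, 3, 3, 4, 3, 2], [70, 29, 0], [48, 46, 36]),
  ([9, 3, 4, 3, 3, 4, 2, 3, 3], [66, 31, 0], [47, 44, 36]),
  ([9, 3, 4, 3, 3, 4, 3, 2, 3], [67, 30, 0], [47, 45, 36]),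
  ([9, 3, 4, 3, 3, 4, 3, 3, 2], [68, 29, 0], [47, 46, 36]),
  ([9, 3, 4, 3, 4, 2, 3, 3, 3], [62, 32, 0], [108, 37]),
  ([9, 3, 4, 3, 4, 3, 2, 3, 3], [63, 31, 0], [107, 37]),
  ([9, 3, 4, 3, 4, 3, 3, 2, 3], [64, 30, 0], [106, 37]),
  ([9, 3, 4, 3, 4, 3, 3, 3, 2], [65, 29, 0], [105, 37]),
  ([9, 3, 4, 4, 2, 3, 3, 3, 3], [57, 33, 0], [36]),
  ([9, 3, 4, 4, 3, 2, 3, 3, 3], [58, 32, 0], [113, 36]),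
  ([9, 3, 4, 4, 3, 3, 2, 3, 3], [59, 31, 0], [112, 36]),
  ([9, 3, 4, 4, 3, 3, 3, 2, 3], [60, 30, 0], [111, 36]),
  ([9, 3, 4, 4, 3, 3, 3, 3, 2], [61, 29, 0], [110, 36]),
  ([9, 4, 2, 3, 3, 3, 3, 3, 4], [23, 7], [100, 51, 42, 41]),
  ([9, 4, 2, 3, 3, 3, 3, 4, 3], [24, 6], [99, 51, 42, 40]),
  ([9, 4, 2, 3, 3, 3, 4, 3, 3], [25, 5], [99, 52, 42, 39]),
  ([9, 4, 2, 3, 3, 4, 3, 3, 3], [26, 4], [99, 54, 42, 38]),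
  ([9, 4, 2, 3, 4, 3, 3, 3, 3], [27, 3], [99, 54, 43, 37]),
  ([9, 4, 2, 4, 3, 3, 3, 3, 3], [28, 2], [99, 54, 47, 36]),
  ([9, 4, 3, 2, 3, 3, 3, 3, 4], [18, 7], [54, 47, 41]),
  ([9, 4, 3, 2, 3, 3, 3, 4, 3], [19, 6], [55, 47, 40]),
  ([9, 4, 3, 2, 3, 3, 4, 3, 3], [20, 5], [56, 47, 39]),
  ([9, 4, 3, 2, 3, 4, 3, 3, 3], [21, 4], [56, 48, 38]),
  ([9, 4, 3, 2, 4, 3, 3, 3, 3], [22, 3], [56, 51, 37]),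
  ([9, 4, 3, 3, 2, 3, 3, 3, 4], [14, 7], [54, 43, 41]),
  ([9, 4, 3, 3, 2, 3, 3, 4, 3], [15, 6], [55, 43, 40]),
  ([9, 4, 3, 3, 2, 3, 4, 3, 3], [16, 5], [56, 43, 39]),
  ([9, 4, 3, 3, 2, 4, 3, 3, 3], [17, 4], [56, 44, 38]),
  ([9, 4, 3, 3, 3, 2, 3, 3, 4], [11, 7], [54, 42, 41]),
  ([9, 4, 3, 3, 3, 2, 3, 4, 3], [12, 6], [55, 42, 40]),
  ([9, 4, 3, 3, 3, 2, 4, 3, 3], [13, 5], [56, 42, 39]),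
  ([9, 4, 3, 3, 3, 3, 2, 3, 4], [9, 7], [52, 42, 41]),
  ([9, 4, 3, 3, 3, 3, 2, 4, 3], [10, 6], [53, 42, 40]),
  ([9, 4, 3, 3, 3, 3, 3, 2, 4], [8, 7], [51, 42, 41]),
  ([9, 4, 3, 3, 3, 3, 3, 4, 2], [8, 6], [51, 42, 40]),
  ([9, 4, 3, 3, 3, 3, 4, 2, 3], [10, 5], [53, 42, 39]),
  ([9, 4, 3, 3, 3, 3, 4, 3, 2], [9, 5], [52, 42, 39]),
  ([9, 4, 3, 3, 3, 4, 2, 3, 3], [13, 4], [56, 42, 38]),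
  ([9, 4, 3, 3, 3, 4, 3, 2, 3], [12, 4], [55, 42, 38]),
  ([9, 4, 3, 3, 3, 4, 3, 3, 2], [11, 4], [54, 42, 38]),
  ([9, 4, 3, 3, 4, 2, 3, 3, 3], [17, 3], [56, 44, 37]),
  ([9, 4, 3, 3, 4, 3, 2, 3, 3], [16, 3], [56, 43, 37]),
  ([9, 4, 3, 3, 4, 3, 3, 2, 3], [15, 3], [55, 43, 37]),
  ([9, 4, 3, 3, 4, 3, 3, 3, 2], [14, 3], [54, 43, 37]),
  ([9, 4, 3, 4, 2, 3, 3, 3, 3], [22, 2], [56, 51, 36]),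
  ([9, 4, 3, 4, 3, 2, 3, 3, 3], [21, 2], [56, 48, 36]),
  ([9, 4, 3, 4, 3, 3, 2, 3, 3], [20, 2], [56, 47, 36]),
  ([9, 4, 3, 4, 3, 3, 3, 2, 3], [19, 2], [55, 47, 36]),
  ([9, 4, 3, 4, 3, 3, 3, 3, 2], [18, 2], [54, 47, 36]),
  ([9, 4, 4, 2, 3, 3, 3, 3, 3], [28, 1], [103, 56, 51, 37]),
  ([9, 4, 4, 3, 2, 3, 3, 3, 3], [27, 1], [104, 56, 51, 36]),
  ([9, 4, 4, 3, 3, 2, 3, 3, 3], [26, 1], [104, 56, 48, 36]),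
  ([9, 4, 4, 3, 3, 3, 2, 3, 3], [25, 1], [104, 56, 47, 36]),
  ([9, 4, 4, 3, 3, 3, 3, 2, 3], [24, 1], [104, 55, 47, 36]),
  ([9, 4, 4, 3, 3, 3, 3, 3, 2], [23, 1], [104, 54, 47, 36]),
  ([10, 3, 3, 3, 3, 4, 4, 4, 4], [57, 35, 1], [56, 51]),
  ([10, 3, 3, 3, 4, 3, 4, 4, 4], [58, 35, 1], [56, 48]),
  ([10, 3, 3, 3, 4, 4, 3, 4, 4], [59, 35, 1], [56, 47]),
  ([10, 3, 3, 3, 4, 4, 4, 3, 4], [60, 35, 1], [55, 47]),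
  ([10, 3, 3, 3, 4, 4, 4, 4, 3], [61, 35, 1], [54, 47]),
  ([10, 3, 3, 4, 3, 3, 4, 4, 4], [62, 35, 1], [56, 44]),
  ([10, 3, 3, 4, 3, 4, 3, 4, 4], [63, 35, 1], [56, 43]),
  ([10, 3, 3, 4, 3, 4, 4, 3, 4], [64, 35, 1], [55, 43]),
  ([10, 3, 3, 4, 3, 4, 4, 4, 3], [65, 35, 1], [54, 43]),
  ([10, 3, 3, 4, 4, 3, 3, 4, 4], [66, 35, 1], [56, 42]),
  ([10, 3, 3, 4, 4, 3, 4, 3, 4], [67, 35, 1], [55, 42]),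
  ([10, 3, 3, 4, 4, 3, 4, 4, 3], [68, 35, 1], [54, 42]),
  ([10, 3, 3, 4, 4, 4, 3, 3, 4], [69, 35, 1], [53, 42]),
  ([10, 3, 3, 4, 4, 4, 3, 4, 3], [70, 35, 1], [52, 42]),
  ([10, 3, 3, 4, 4, 4, 4, 3, 3], [71, 35, 1], [51, 42]),
  ([10, 3, 4, 3, 3, 3, 4, 4, 4], [72, 35, 1], [56, 39]),
  ([10, 3, 4, 3, 3, 4, 3, 4, 4], [73, 35, 1], [56, 38]),
  ([10, 3, 4, 3, 3, 4, 4, 3, 4], [74, 35, 1], [55, 38]),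
  ([10, 3, 4, 3, 3, 4, 4, 4, 3], [75, 35, 1], [54, 38]),
  ([10, 3, 4, 3, 4, 3, 3, 4, 4], [76, 35, 1], [56, 37]),
  ([10, 3, 4, 3, 4, 3, 4, 3, 4], [77, 35, 1], [55, 37]),
  ([10, 3, 4, 3, 4, 3, 4, 4, 3], [78, 35, 1], [54, 37]),
  ([10, 3, 4, 3, 4, 4, 3, 3, 4], [79, 35, 1], [53, 37]),
  ([10, 3, 4, 3, 4, 4, 3, 4, 3], [80, 35, 1], [52, 37]),
  ([10, 3, 4, 3, 4, 4, 4, 3, 3], [81, 35, 1], [51, 37]),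
  ([10, 3, 4, 4, 3, 3, 3, 4, 4], [82, 35, 1], [56, 36]),
  ([10, 3, 4, 4, 3, 3, 4, 3, 4], [83, 35, 1], [55, 36]),
  ([10, 3, 4, 4, 3, 3, 4, 4, 3], [84, 35, 1], [54, 36]),
  ([10, 3, 4, 4, 3, 4, 3, 3, 4], [85, 35, 1], [53, 36]),
  ([10, 3, 4, 4, 3, 4, 3, 4, 3], [86, 35, 1], [52, 36]),
  ([10, 3, 4, 4, 3, 4, 4, 3, 3], [87, 35, 1], [51, 36]),
  ([10, 3, 4, 4, 4, 3, 3, 3, 4], [88, 35, 1], [50, 36]),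
  ([10, 3, 4, 4, 4, 3, 3, 4, 3], [89, 35, 1], [49, 36]),
  ([10, 3, 4, 4, 4, 3, 4, 3, 3], [90, 35, 1], [48, 36]),
  ([10, 3, 4, 4, 4, 4, 3, 3, 3], [91, 35, 1], [47, 36]),
  ([10, 4, 3, 3, 3, 3, 4, 4, 4], [90, 13, 5], [50, 45, 39]),
  ([10, 4, 3, 3, 3, 4, 3, 4, 4], [91, 13, 4], [50, 45, 38]),
  ([10, 4, 3, 3, 3, 4, 4, 3, 4], [91, 12, 4], [50, 44, 38]),
  ([10, 4, 3, 3, 3, 4, 4, 4, 3], [91, 11, 4], [49, 44, 38]),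
  ([10, 4, 3, 3, 4, 3, 3, 4, 4], [91, 16, 3], [99, 45, 37]),
  ([10, 4, 3, 3, 4, 3, 4, 3, 4], [91, 15, 3], [99, 44, 37]),
  ([10, 4, 3, 3, 4, 3, 4, 4, 3], [91, 14, 3], [100, 44, 37]),
  ([10, 4, 3, 3, 4, 4, 3, 3, 4], [90, 15, 3], [99, 43, 37]),
  ([10, 4, 3, 3, 4, 4, 3, 4, 3], [90, 14, 3], [100, 43, 37]),
  ([10, 4, 3, 3, 4, 4, 4, 3, 3], [89, 14, 3], [101, 43, 37]),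
  ([10, 4, 3, 4, 3, 3, 3, 4, 4], [91, 20, 2], [99, 49, 36]),
  ([10, 4, 3, 4, 3, 3, 4, 3, 4], [91, 19, 2], [99, 48, 36]),
  ([10, 4, 3, 4, 3, 3, 4, 4, 3], [91, 18, 2], [100, 48, 36]),
  ([10, 4, 3, 4, 3, 4, 3, 3, 4], [90, 19, 2], [99, 47, 36]),
  ([10, 4, 3, 4, 3, 4, 3, 4, 3], [90, 18, 2], [100, 47, 36]),
  ([10, 4, 3, 4, 3, 4, 4, 3, 3], [89, 18, 2], [101, 47, 36]),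
  ([10, 4, 3, 4, 4, 3, 3, 3, 4], [87, 19, 2], [42, 41]),
  ([10, 4, 3, 4, 4, 3, 3, 4, 3], [87, 18, 2], [42, 40]),
  ([10, 4, 3, 4, 4, 3, 4, 3, 3], [86, 18, 2], [42, 39]),
  ([10, 4, 3, 4, 4, 4, 3, 3, 3], [84, 18, 2], [42, 38]),
  ([10, 4, 4, 3, 3, 3, 3, 4, 4], [91, 25, 1], [105, 49, 36]),
  ([10, 4, 4, 3, 3, 3, 4, 3, 4], [91, 24, 1], [105, 48, 36]),
  ([10, 4, 4, 3, 3, 3, 4, 4, 3], [91, 23, 1], [106, 48, 36]),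
  ([10, 4, 4, 3, 3, 4, 3, 3, 4], [90, 24, 1], [105, 47, 36]),
  ([10, 4, 4, 3, 3, 4, 3, 4, 3], [90, 23, 1], [106, 47, 36]),
  ([10, 4, 4, 3, 3, 4, 4, 3, 3], [89, 23, 1], [107, 47, 36]),
  ([10, 4, 4, 3, 4, 3, 3, 3, 4], [87, 24, 1], [46, 37]),
  ([10, 4, 4, 3, 4, 3, 3, 4, 3], [87, 23, 1], [45, 37]),
  ([10, 4, 4, 3, 4, 3, 4, 3, 3], [86, 23, 1], [44, 37]),
  ([10, 4, 4, 3, 4, 4, 3, 3, 3], [84, 23, 1], [43, 37]),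
  ([10, 4, 4, 4, 3, 3, 3, 3, 4], [81, 24, 1], [50, 36]),
  ([10, 4, 4, 4, 3, 3, 3, 4, 3], [81, 23, 1], [49, 36]),
  ([10, 4, 4, 4, 3, 3, 4, 3, 3], [80, 23, 1], [48, 36]),
  ([10, 4, 4, 4, 3, 4, 3, 3, 3], [78, 23, 1], [47, 36]),
  ([10, 4, 4, 4, 4, 3, 3, 3, 3], [75, 23, 1], [113, 47, 36]),
  ([11, 3, 4, 4, 4, 4, 4, 4, 4], [35, 1], []),
  ([11, 4, 3, 4, 4, 4, 4, 4, 4], [35, 1, 0], [56, 51, 42]),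
  ([11, 4, 4, 3, 4, 4, 4, 4, 4], [34, 2, 0], [56, 51, 37]),
  ([11, 4, 4, 4, 3, 4, 4, 4, 4], [33, 3, 0], [56, 51, 36]),
  ([11, 4, 4, 4, 4, 3, 4, 4, 4], [32, 4, 0], [56, 48, 36]),
  ([11, 4, 4, 4, 4, 4, 3, 4, 4], [31, 5, 0], [56, 47, 36]),
  ([11, 4, 4, 4, 4, 4, 4, 3, 4], [30, 6, 0], [55, 47, 36]),
  ([11, 4, 4, 4, 4, 4, 4, 4, 3], [29, 7, 0], [54, 47, 36])]

theorem tab_c8_eq : conicsL 8 = tab_c8.map (·.1) := by decide +kernel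

theorem tab_c8_check : checkTable 8 roots_c8 base_c8 reps_c8 tab_c8 = true := by
  decide +kernel

end Groth.Agent.Lib.Helper8.DP
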