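import Groth.Agent.Lib.Helper8.DP5
import Groth.Agent.Lib.Helper8.DPC2
import Groth.Agent.Lib.Helper8.DPC3
import Groth.Agent.Lib.Helper8.DPC4
import Groth.Agent.Lib.Helper8.DPC5
import Groth.Agent.Lib.Helper8.DPC6
import Groth.Agent.Lib.Helper8.DPC7
import Groth.Agent.Lib.Helper8.DPC8

set_option autoImplicit false
set_option maxRecDepth 1000000

/-!
# The del Pezzo lattices: numbers of conic classes
-/

namespace Groth.Agent.Lib.Helper8.DP

open W4c3severiratdp

theorem ncard_conic_2 : {v : DP 2 | IsConic v}.ncard = 2 := by
  rw [ncard_conic (by decide) _ tab_c2_eq (by decide +kernel) (by decide +kernel), List.length_map]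
  decide +kernel

theorem ncard_conic_3 : {v : DP 3 | IsConic v}.ncard = 3 := by
  rw [ncard_conic (by decide) _ tab_c3_eq (by decide +kernel) (by decide +kernel), List.length_map]
  decide +kernel

theorem ncard_conic_4 : {v : DP 4 | IsConic v}.ncard = 5 := by
  rw [ncard_conic (by decide) _ tab_c4_eq (by decide +kernel) (by decide +kernel), List.length_map]
  decide +kernel

theorem ncard_conic_5 : {v : DP 5 | IsConic v}.ncard = 10 := by
  rw [ncard_conic (by decide) _ tab_c5_eq (by decide +kernel) (by decide +kernel), List.length_map]
  decide +kernel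

theorem ncard_conic_6 : {v : DP 6 | IsConic v}.ncard = 27 := by
  rw [ncard_conic (by decide) _ tab_c6_eq (by decide +kernel) (by decide +kernel), List.length_map]
  decide +kernel

theorem ncard_conic_7 : {v : DP 7 | IsConic v}.ncard = 126 := by
  rw [ncard_conic (by decide) _ tab_c7_eq (by decide +kernel) (by decide +kernel), List.length_map]
  decide +kernel

theorem ncard_conic_8 : {v : DP 8 | IsConic v}.ncard = 2160 := by
  rw [ncard_conic (by decide) _ tab_c8_eq (by decide +kernel) (by decide +kernel), List.length_map]
  decide +kernel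

end Groth.Agent.Lib.Helper8.DP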