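import Groth.Agent.Lib.Helper8.DP5
import Groth.Agent.Lib.Helper8.DPC8

set_option autoImplicit false
set_option maxRecDepth 1000000

/-!
# The del Pezzo lattices: the fifteen types of conic classes for `δ = 8`
-/

namespace Groth.Agent.Lib.Helper8.DP

open W4c3severiratdp

/-- the fifteen types -/
def types15L : List (List ℤ) := [
  [1, 1, 0, 0, 0, 0, 0, 0, 0],
  [2, 1, 1, 1, 1, 0, 0, 0, 0],
  [3, 2, 1, 1, 1, 1, 1, 0, 0],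
  [4, 2, 2, 2, 1, 1, 1, 1, 0],
  [4, 3, 1, 1, 1, 1, 1, 1, 1],
  [5, 2, 2, 2, 2, 2, 2, 1, 0],
  [5, 3, 2, 2, 2, 1, 1, 1, 1],
  [6, 3, 3, 2, 2, 2, 2, 1, 1],
  [7, 3, 3, 3, 3, 2, 2, 2, 1],
  [7, 4, 3, 2, 2, 2, 2, 2, 2],
  [8, 4, 3, 3, 3, 3, 2, 2, 2],
  [8, 3, 3, 3, 3, 3, 3, 3, 1],
  [9, 4, 4, 3, 3, 3, 3, 3, 2],
  [10, 4, 4, 4, 4, 3, 3, 3, 3],
  [11, 4, 4, 4, 4, 4, 4, 4, 3]]

theorem sorted_mem_types : ∀ l ∈ tab_c8.map (·.1), l.tail.SortedGE → l ∈ types15L := by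
  decide +kernel

theorem types15L_conic : ∀ l ∈ types15L,
    l.length = 8 + 1 ∧ formL l l = 0 ∧ formL (canonL 8) l = -2 := by
  decide +kernel

lemma ofL9 (a0 a1 a2 a3 a4 a5 a6 a7 a8 : ℤ) :
    ofL 8 [a0, a1, a2, a3, a4, a5, a6, a7, a8] = ![a0, a1, a2, a3, a4, a5, a6, a7, a8] := by
  funext i; fin_cases i <;> rfl

end Groth.Agent.Lib.Helper8.DP
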