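import Mathlib
import Groth.Agent.Lib.Helper8.DP4

set_option autoImplicit false
set_option linter.unusedSectionVars false
set_option backward.isDefEq.respectTransparency.types false

/-!
# The del Pezzo lattice for `δ = 8`: triples of exceptional classes with sum `L - 2K`
-/

namespace Groth.Agent.Lib.Helper8.DP

open W4c3severiratdp

/-- difference of lists -/
def subL : List ℤ → List ℤ → List ℤ
  | a :: l, b :: m => (a - b) :: subL l m
  | _, _ => []

lemma subL_ofFn : ∀ (n : ℕ) (f g : Fin n → ℤ),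
    subL (List.ofFn f) (List.ofFn g) = List.ofFn (fun i => f i - g i) := by
  intro n
  induction n with
  | zero => intro f g; simp [subL]
  | succ n ih =>
    intro f g
    rw [List.ofFn_succ, List.ofFn_succ, subL, ih, List.ofFn_succ (f := fun i => f i - g i)]

lemma toL_sub {δ : ℕ} (v w : DP δ) : toL (v - w) = subL (toL v) (toL w) := by
  unfold toL
  rw [subL_ofFn]
  rfl

/-- the exceptional class condition on lists -/
def isExcL (δ : ℕ) (l : List ℤ) : Bool :=
  l.length == δ + 1 && formL l l == -1 && formL (canonL δ) l == -1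

lemma isExcL_toL {δ : ℕ} (v : DP δ) (hv : IsExc v) : isExcL δ (toL v) = true := by
  unfold isExcL
  simp only [Bool.and_eq_true, beq_iff_eq]
  refine ⟨⟨toL_length v, ?_⟩, ?_⟩
  · rw [formL_toL]; exact hv.1
  · rw [← toL_canon, formL_toL]; exact hv.2

lemma isExc_of_isExcL {δ : ℕ} (l : List ℤ) (h : isExcL δ l = true) : IsExc (ofL δ l) := by
  unfold isExcL at h
  simp only [Bool.and_eq_true, beq_iff_eq] at h
  exact isExc_ofL l h.1.1 h.1.2 h.2

/-- pairs `(a, b)` with `a` among `as`, `b` among `bs` and `T - a - b` exceptional -/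
def tripPairs (as bs : List (List ℤ)) (T : List ℤ) : List (List ℤ × List ℤ) :=
  as.flatMap (fun a => (bs.filter (fun b => isExcL 8 (subL (subL T a) b))).map (fun b => (a, b)))

/-- the six permutations of three letters -/
def perm3 : List (List ℕ) := [[0, 1, 2], [0, 2, 1], [1, 0, 2], [1, 2, 0], [2, 0, 1], [2, 1, 0]]

/-- the six permutations of three letters as equivalences -/
def permOf (pc : ℕ) : Equiv.Perm (Fin 3) :=
  if pc = 0 then 1 else if pc = 1 then Equiv.swap 1 2 else if pc = 2 then Equiv.swap 0 1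
  else if pc = 3 then finRotate 3 else if pc = 4 then (finRotate 3)⁻¹ else Equiv.swap 0 2

lemma permOf_apply : ∀ pc < 6, ∀ i : Fin 3,
    ((permOf pc i : Fin 3) : ℕ) = (perm3.getD pc []).getD (i : ℕ) 0 := by
  decide

/-- check one triple entry -/
def checkTriple (roots : List (List ℤ)) (E₀ T : List ℤ) (R : List (List (List ℤ)))
    (e : List ℤ × List ℤ × List ℕ × ℕ × ℕ) : Bool :=
  e.2.2.1.all (fun i => decide (i < roots.length)) &&
  (wordOf roots e.2.2.1).all (fun α => formL E₀ α == 0) &&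
  decide (e.2.2.2.1 < 4) && decide (e.2.2.2.2 < 6) &&
  (List.range 3).all (fun i =>
    [applyW (wordOf roots e.2.2.1) e.1, applyW (wordOf roots e.2.2.1) e.2.1,
      applyW (wordOf roots e.2.2.1) (subL (subL T e.1) e.2.1)].getD
        ((perm3.getD e.2.2.2.2 []).getD i 0) []
    == (R.getD e.2.2.2.1 []).getD i [])

/-- the standard form of a triple, relative to the base class `E₀` -/
theorem triple_std {roots : List (List ℤ)} {E₀ T : List ℤ} {R : List (List (List ℤ))}
    {reps : List (ℤ × List (List ℤ))} {tab : List (List ℤ × List ℕ × List ℕ)}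
    {ttab : List (List ℤ × List ℤ × List ℕ × ℕ × ℕ)}
    (hchkE : checkTable 8 roots E₀ reps tab = true) (htabE : excL 8 = tab.map (·.1))
    (hTlen : T.length = 8 + 1)
    (hT : ofL 8 T = ofL 8 E₀ - (2 : ℕ) • canon 8)
    (httab : tripPairs (reps.flatMap (·.2)) (tab.map (·.1)) T = ttab.map (fun e => (e.1, e.2.1)))
    (hcheck : ttab.all (checkTriple roots E₀ T R) = true)
    (t : Fin 3 → DP 8) (ht : ∀ i, IsExc (t i)) (hsum : t 0 + t 1 + t 2 = ofL 8 T) :
    ∃ j < 4, ∃ g : DP 8 ≃ₗ[ℤ] DP 8, IsWeyl g ∧ g (ofL 8 E₀) = ofL 8 E₀ ∧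
      ∃ σ : Equiv.Perm (Fin 3), ∀ i : Fin 3, toL (g (t (σ i))) = (R.getD j []).getD (i : ℕ) [] := by
  have hmemE : ∀ v : DP 8, IsExc v → toL v ∈ tab.map (·.1) := fun v hv =>
    htabE ▸ mem_excL le_rfl v hv
  -- step 1: normalise the first class
  obtain ⟨-, ⟨g₁, hg₁, hg₁E, hg₁v⟩⟩ := exists_weyl_of_check hchkE (t 0) (hmemE _ (ht 0))
  obtain ⟨p, hp, -, hpe⟩ := repsOf_mem hg₁v
  rw [hpe] at hg₁v
  have ha : toL (g₁ (t 0)) ∈ reps.flatMap (·.2) := List.mem_flatMap.2 ⟨p, hp, hg₁v⟩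
  have ht' : ∀ i, IsExc (g₁ (t i)) := fun i => IsWeyl.isExc hg₁ (ht i)
  have hsum' : g₁ (t 0) + g₁ (t 1) + g₁ (t 2) = ofL 8 T := by
    rw [← map_add, ← map_add, hsum, hT, map_sub, map_nsmul, hg₁E, hg₁.2]
  have h2 : g₁ (t 2) = ofL 8 T - g₁ (t 0) - g₁ (t 1) := by rw [← hsum']; abel
  have htl2 : toL (g₁ (t 2)) = subL (subL T (toL (g₁ (t 0)))) (toL (g₁ (t 1))) := by
    rw [h2, toL_sub, toL_sub, toL_ofL T hTlen]
  -- step 2: look up the table
  have hpair : (toL (g₁ (t 0)), toL (g₁ (t 1))) ∈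
      tripPairs (reps.flatMap (·.2)) (tab.map (·.1)) T := by
    unfold tripPairs
    rw [List.mem_flatMap]
    refine ⟨_, ha, ?_⟩
    rw [List.mem_map]
    refine ⟨toL (g₁ (t 1)), ?_, rfl⟩
    rw [List.mem_filter]
    refine ⟨hmemE _ (ht' 1), ?_⟩
    rw [← htl2]
    exact isExcL_toL _ (ht' 2)
  rw [httab, List.mem_map] at hpair
  obtain ⟨e, he, hee⟩ := hpair
  rw [List.all_eq_true] at hcheck
  have hc := hcheck e he
  unfold checkTriple at hc
  simp only [Bool.and_eq_true, decide_eq_true_eq] at hc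
  obtain ⟨⟨⟨⟨hidx, hperp⟩, hj⟩, hpc⟩, hall⟩ := hc
  have he1 : e.1 = toL (g₁ (t 0)) := (Prod.ext_iff.1 hee).1
  have he2 : e.2.1 = toL (g₁ (t 1)) := (Prod.ext_iff.1 hee).2
  -- the table check
  unfold checkTable at hchkE
  simp only [Bool.and_eq_true, beq_iff_eq] at hchkE
  obtain ⟨⟨hroots, hE₀len⟩, -⟩ := hchkE
  have hE₀L : toL (ofL 8 E₀) = E₀ := toL_ofL E₀ hE₀len
  obtain ⟨g₂, hg₂, hg₂v⟩ := exists_weyl_of_word 8 (wordOf roots e.2.2.1) (wordOf_rootOK hroots hidx)
  have hg₂E : g₂ (ofL 8 E₀) = ofL 8 E₀ := by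
    apply toL_injective
    rw [hg₂v, hE₀L]
    apply applyW_fix 8 E₀ hE₀len
    intro α hα
    refine ⟨((rootOK_iff 8 α).1 (wordOf_rootOK hroots hidx α hα)).1, ?_⟩
    rw [List.all_eq_true] at hperp
    simpa using hperp α hα
  refine ⟨e.2.2.2.1, hj, g₁.trans g₂, IsWeyl.trans hg₁ hg₂, ?_, permOf e.2.2.2.2, fun i => ?_⟩
  · rw [LinearEquiv.trans_apply, hg₁E, hg₂E]
  · rw [List.all_eq_true] at hall
    have hi := hall (i : ℕ) (List.mem_range.2 i.2)
    rw [beq_iff_eq, ← permOf_apply _ hpc i] at hi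
    rw [← hi, LinearEquiv.trans_apply, hg₂v, he1, he2, ← htl2]
    generalize permOf e.2.2.2.2 i = k
    fin_cases k <;> rfl

end Groth.Agent.Lib.Helper8.DP
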