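import Groth.Agent.Lib.Helper8.DP3

set_option autoImplicit false
set_option maxRecDepth 1000000

namespace Groth.Agent.Lib.Helper8.DP

/-- roots -/
def roots_e8 : List (List ℤ) := [
  [-3, -2, -1, -1, -1, -1, -1, -1, -1],
  [-3, -1, -2, -1, -1, -1, -1, -1, -1],
  [-3, -1, -1, -2, -1, -1, -1, -1, -1],
  [-3, -1, -1, -1, -2, -1, -1, -1, -1],
  [-3, -1, -1, -1, -1, -2, -1, -1, -1],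
  [-3, -1, -1, -1, -1, -1, -2, -1, -1],
  [-3, -1, -1, -1, -1, -1, -1, -2, -1],
  [-3, -1, -1, -1, -1, -1, -1, -1, -2],
  [-2, -1, -1, -1, -1, -1, -1, 0, 0],
  [-2, -1, -1, -1, -1, -1, 0, -1, 0],
  [-2, -1, -1, -1, -1, -1, 0, 0, -1],
  [-2, -1, -1, -1, -1, 0, -1, -1, 0],
  [-2, -1, -1, -1, -1, 0, -1, 0, -1],
  [-2, -1, -1, -1, -1, 0, 0, -1, -1],
  [-2, -1, -1, -1, 0, -1, -1, -1, 0],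
  [-2, -1, -1, -1, 0, -1, -1, 0, -1],
  [-2, -1, -1, -1, 0, -1, 0, -1, -1],
  [-2, -1, -1, -1, 0, 0, -1, -1, -1],
  [-2, -1, -1, 0, -1, -1, -1, -1, 0],
  [-2, -1, -1, 0, -1, -1, -1, 0, -1],
  [-2, -1, -1, 0, -1, -1, 0, -1, -1],
  [-2, -1, -1, 0, -1, 0, -1, -1, -1],
  [-2, -1, -1, 0, 0, -1, -1, -1, -1],
  [-2, -1, 0, -1, -1, -1, -1, -1, 0],
  [-2, -1, 0, -1, -1, -1, -1, 0, -1],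
  [-2, -1, 0, -1, -1, -1, 0, -1, -1],
  [-2, -1, 0, -1, -1, 0, -1, -1, -1],
  [-2, -1, 0, -1, 0, -1, -1, -1, -1],
  [-2, -1, 0, 0, -1, -1, -1, -1, -1],
  [-2, 0, -1, -1, -1, -1, -1, -1, 0],
  [-2, 0, -1, -1, -1, -1, -1, 0, -1],
  [-2, 0, -1, -1, -1, -1, 0, -1, -1],
  [-2, 0, -1, -1, -1, 0, -1, -1, -1],
  [-2, 0, -1, -1, 0, -1, -1, -1, -1],
  [-2, 0, -1, 0, -1, -1, -1, -1, -1],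
  [-2, 0, 0, -1, -1, -1, -1, -1, -1],
  [-1, -1, -1, -1, 0, 0, 0, 0, 0],
  [-1, -1, -1, 0, -1, 0, 0, 0, 0],
  [-1, -1, -1, 0, 0, -1, 0, 0, 0],
  [-1, -1, -1, 0, 0, 0, -1, 0, 0],
  [-1, -1, -1, 0, 0, 0, 0, -1, 0],
  [-1, -1, -1, 0, 0, 0, 0, 0, -1],
  [-1, -1, 0, -1, -1, 0, 0, 0, 0],
  [-1, -1, 0, -1, 0, -1, 0, 0, 0],
  [-1, -1, 0, -1, 0, 0, -1, 0, 0],
  [-1, -1, 0, -1, 0, 0, 0, -1, 0],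
  [-1, -1, 0, -1, 0, 0, 0, 0, -1],
  [-1, -1, 0, 0, -1, -1, 0, 0, 0],
  [-1, -1, 0, 0, -1, 0, -1, 0, 0],
  [-1, -1, 0, 0, -1, 0, 0, -1, 0],
  [-1, -1, 0, 0, -1, 0, 0, 0, -1],
  [-1, -1, 0, 0, 0, -1, -1, 0, 0],
  [-1, -1, 0, 0, 0, -1, 0, -1, 0],
  [-1, -1, 0, 0, 0, -1, 0, 0, -1],
  [-1, -1, 0, 0, 0, 0, -1, -1, 0],
  [-1, -1, 0, 0, 0, 0, -1, 0, -1],
  [-1, -1, 0, 0, 0, 0, 0, -1, -1],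
  [-1, 0, -1, -1, -1, 0, 0, 0, 0],
  [-1, 0, -1, -1, 0, -1, 0, 0, 0],
  [-1, 0, -1, -1, 0, 0, -1, 0, 0],
  [-1, 0, -1, -1, 0, 0, 0, -1, 0],
  [-1, 0, -1, -1, 0, 0, 0, 0, -1],
  [-1, 0, -1, 0, -1, -1, 0, 0, 0],
  [-1, 0, -1, 0, -1, 0, -1, 0, 0],
  [-1, 0, -1, 0, -1, 0, 0, -1, 0],
  [-1, 0, -1, 0, -1, 0, 0, 0, -1],
  [-1, 0, -1, 0, 0, -1, -1, 0, 0],
  [-1, 0, -1, 0, 0, -1, 0, -1, 0],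
  [-1, 0, -1, 0, 0, -1, 0, 0, -1],
  [-1, 0, -1, 0, 0, 0, -1, -1, 0],
  [-1, 0, -1, 0, 0, 0, -1, 0, -1],
  [-1, 0, -1, 0, 0, 0, 0, -1, -1],
  [-1, 0, 0, -1, -1, -1, 0, 0, 0],
  [-1, 0, 0, -1, -1, 0, -1, 0, 0],
  [-1, 0, 0, -1, -1, 0, 0, -1, 0],
  [-1, 0, 0, -1, -1, 0, 0, 0, -1],
  [-1, 0, 0, -1, 0, -1, -1, 0, 0],
  [-1, 0, 0, -1, 0, -1, 0, -1, 0],
  [-1, 0, 0, -1, 0, -1, 0, 0, -1],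
  [-1, 0, 0, -1, 0, 0, -1, -1, 0],
  [-1, 0, 0, -1, 0, 0, -1, 0, -1],
  [-1, 0, 0, -1, 0, 0, 0, -1, -1],
  [-1, 0, 0, 0, -1, -1, -1, 0, 0],
  [-1, 0, 0, 0, -1, -1, 0, -1, 0],
  [-1, 0, 0, 0, -1, -1, 0, 0, -1],
  [-1, 0, 0, 0, -1, 0, -1, -1, 0],
  [-1, 0, 0, 0, -1, 0, -1, 0, -1],
  [-1, 0, 0, 0, -1, 0, 0, -1, -1],
  [-1, 0, 0, 0, 0, -1, -1, -1, 0],
  [-1, 0, 0, 0, 0, -1, -1, 0, -1],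
  [-1, 0, 0, 0, 0, -1, 0, -1, -1],
  [-1, 0, 0, 0, 0, 0, -1, -1, -1],
  [0, -1, 0, 0, 0, 0, 0, 0, 1],
  [0, -1, 0, 0, 0, 0, 0, 1, 0],
  [0, -1, 0, 0, 0, 0, 1, 0, 0],
  [0, -1, 0, 0, 0, 1, 0, 0, 0],
  [0, -1, 0, 0, 1, 0, 0, 0, 0],
  [0, -1, 0, 1, 0, 0, 0, 0, 0],
  [0, -1, 1, 0, 0, 0, 0, 0, 0],
  [0, 0, -1, 0, 0, 0, 0, 0, 1],
  [0, 0, -1, 0, 0, 0, 0, 1, 0],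
  [0, 0, -1, 0, 0, 0, 1, 0, 0],
  [0, 0, -1, 0, 0, 1, 0, 0, 0],
  [0, 0, -1, 0, 1, 0, 0, 0, 0],
  [0, 0, -1, 1, 0, 0, 0, 0, 0],
  [0, 0, 0, -1, 0, 0, 0, 0, 1],
  [0, 0, 0, -1, 0, 0, 0, 1, 0],
  [0, 0, 0, -1, 0, 0, 1, 0, 0],
  [0, 0, 0, -1, 0, 1, 0, 0, 0],
  [0, 0, 0, -1, 1, 0, 0, 0, 0],
  [0, 0, 0, 0, -1, 0, 0, 0, 1],
  [0, 0, 0, 0, -1, 0, 0, 1, 0],
  [0, 0, 0, 0, -1, 0, 1, 0, 0],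
  [0, 0, 0, 0, -1, 1, 0, 0, 0],
  [0, 0, 0, 0, 0, -1, 0, 0, 1],
  [0, 0, 0, 0, 0, -1, 0, 1, 0],
  [0, 0, 0, 0, 0, -1, 1, 0, 0],
  [0, 0, 0, 0, 0, 0, -1, 0, 1],
  [0, 0, 0, 0, 0, 0, -1, 1, 0],
  [0, 0, 0, 0, 0, 0, 0, -1, 1],
  [0, 0, 0, 0, 0, 0, 0, 1, -1],
  [0, 0, 0, 0, 0, 0, 1, -1, 0],
  [0, 0, 0, 0, 0, 0, 1, 0, -1],
  [0, 0, 0, 0, 0, 1, -1, 0, 0],
  [0, 0, 0, 0, 0, 1, 0, -1, 0],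
  [0, 0, 0, 0, 0, 1, 0, 0, -1],
  [0, 0, 0, 0, 1, -1, 0, 0, 0],
  [0, 0, 0, 0, 1, 0, -1, 0, 0],
  [0, 0, 0, 0, 1, 0, 0, -1, 0],
  [0, 0, 0, 0, 1, 0, 0, 0, -1],
  [0, 0, 0, 1, -1, 0, 0, 0, 0],
  [0, 0, 0, 1, 0, -1, 0, 0, 0],
  [0, 0, 0, 1, 0, 0, -1, 0, 0],
  [0, 0, 0, 1, 0, 0, 0, -1, 0],
  [0, 0, 0, 1, 0, 0, 0, 0, -1],
  [0, 0, 1, -1, 0, 0, 0, 0, 0],
  [0, 0, 1, 0, -1, 0, 0, 0, 0],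
  [0, 0, 1, 0, 0, -1, 0, 0, 0],
  [0, 0, 1, 0, 0, 0, -1, 0, 0],
  [0, 0, 1, 0, 0, 0, 0, -1, 0],
  [0, 0, 1, 0, 0, 0, 0, 0, -1],
  [0, 1, -1, 0, 0, 0, 0, 0, 0],
  [0, 1, 0, -1, 0, 0, 0, 0, 0],
  [0, 1, 0, 0, -1, 0, 0, 0, 0],
  [0, 1, 0, 0, 0, -1, 0, 0, 0],
  [0, 1, 0, 0, 0, 0, -1, 0, 0],
  [0, 1, 0, 0, 0, 0, 0, -1, 0],
  [0, 1, 0, 0, 0, 0, 0, 0, -1],
  [1, 0, 0, 0, 0, 0, 1, 1, 1],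
  [1, 0, 0, 0, 0, 1, 0, 1, 1],
  [1, 0, 0, 0, 0, 1, 1, 0, 1],
  [1, 0, 0, 0, 0, 1, 1, 1, 0],
  [1, 0, 0, 0, 1, 0, 0, 1, 1],
  [1, 0, 0, 0, 1, 0, 1, 0, 1],
  [1, 0, 0, 0, 1, 0, 1, 1, 0],
  [1, 0, 0, 0, 1, 1, 0, 0, 1],
  [1, 0, 0, 0, 1, 1, 0, 1, 0],
  [1, 0, 0, 0, 1, 1, 1, 0, 0],
  [1, 0, 0, 1, 0, 0, 0, 1, 1],
  [1, 0, 0, 1, 0, 0, 1, 0, 1],
  [1, 0, 0, 1, 0, 0, 1, 1, 0],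
  [1, 0, 0, 1, 0, 1, 0, 0, 1],
  [1, 0, 0, 1, 0, 1, 0, 1, 0],
  [1, 0, 0, 1, 0, 1, 1, 0, 0],
  [1, 0, 0, 1, 1, 0, 0, 0, 1],
  [1, 0, 0, 1, 1, 0, 0, 1, 0],
  [1, 0, 0, 1, 1, 0, 1, 0, 0],
  [1, 0, 0, 1, 1, 1, 0, 0, 0],
  [1, 0, 1, 0, 0, 0, 0, 1, 1],
  [1, 0, 1, 0, 0, 0, 1, 0, 1],
  [1, 0, 1, 0, 0, 0, 1, 1, 0],
  [1, 0, 1, 0, 0, 1, 0, 0, 1],
  [1, 0, 1, 0, 0, 1, 0, 1, 0],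
  [1, 0, 1, 0, 0, 1, 1, 0, 0],
  [1, 0, 1, 0, 1, 0, 0, 0, 1],
  [1, 0, 1, 0, 1, 0, 0, 1, 0],
  [1, 0, 1, 0, 1, 0, 1, 0, 0],
  [1, 0, 1, 0, 1, 1, 0, 0, 0],
  [1, 0, 1, 1, 0, 0, 0, 0, 1],
  [1, 0, 1, 1, 0, 0, 0, 1, 0],
  [1, 0, 1, 1, 0, 0, 1, 0, 0],
  [1, 0, 1, 1, 0, 1, 0, 0, 0],
  [1, 0, 1, 1, 1, 0, 0, 0, 0],
  [1, 1, 0, 0, 0, 0, 0, 1, 1],
  [1, 1, 0, 0, 0, 0, 1, 0, 1],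
  [1, 1, 0, 0, 0, 0, 1, 1, 0],
  [1, 1, 0, 0, 0, 1, 0, 0, 1],
  [1, 1, 0, 0, 0, 1, 0, 1, 0],
  [1, 1, 0, 0, 0, 1, 1, 0, 0],
  [1, 1, 0, 0, 1, 0, 0, 0, 1],
  [1, 1, 0, 0, 1, 0, 0, 1, 0],
  [1, 1, 0, 0, 1, 0, 1, 0, 0],
  [1, 1, 0, 0, 1, 1, 0, 0, 0],
  [1, 1, 0, 1, 0, 0, 0, 0, 1],
  [1, 1, 0, 1, 0, 0, 0, 1, 0],
  [1, 1, 0, 1, 0, 0, 1, 0, 0],
  [1, 1, 0, 1, 0, 1, 0, 0, 0],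
  [1, 1, 0, 1, 1, 0, 0, 0, 0],
  [1, 1, 1, 0, 0, 0, 0, 0, 1],
  [1, 1, 1, 0, 0, 0, 0, 1, 0],
  [1, 1, 1, 0, 0, 0, 1, 0, 0],
  [1, 1, 1, 0, 0, 1, 0, 0, 0],
  [1, 1, 1, 0, 1, 0, 0, 0, 0],
  [1, 1, 1, 1, 0, 0, 0, 0, 0],
  [2, 0, 0, 1, 1, 1, 1, 1, 1],
  [2, 0, 1, 0, 1, 1, 1, 1, 1],
  [2, 0, 1, 1, 0, 1, 1, 1, 1],
  [2, 0, 1, 1, 1, 0, 1, 1, 1],
  [2, 0, 1, 1, 1, 1, 0, 1, 1],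
  [2, 0, 1, 1, 1, 1, 1, 0, 1],
  [2, 0, 1, 1, 1, 1, 1, 1, 0],
  [2, 1, 0, 0, 1, 1, 1, 1, 1],
  [2, 1, 0, 1, 0, 1, 1, 1, 1],
  [2, 1, 0, 1, 1, 0, 1, 1, 1],
  [2, 1, 0, 1, 1, 1, 0, 1, 1],
  [2, 1, 0, 1, 1, 1, 1, 0, 1],
  [2, 1, 0, 1, 1, 1, 1, 1, 0],
  [2, 1, 1, 0, 0, 1, 1, 1, 1],
  [2, 1, 1, 0, 1, 0, 1, 1, 1],
  [2, 1, 1, 0, 1, 1, 0, 1, 1],
  [2, 1, 1, 0, 1, 1, 1, 0, 1],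
  [2, 1, 1, 0, 1, 1, 1, 1, 0],
  [2, 1, 1, 1, 0, 0, 1, 1, 1],
  [2, 1, 1, 1, 0, 1, 0, 1, 1],
  [2, 1, 1, 1, 0, 1, 1, 0, 1],
  [2, 1, 1, 1, 0, 1, 1, 1, 0],
  [2, 1, 1, 1, 1, 0, 0, 1, 1],
  [2, 1, 1, 1, 1, 0, 1, 0, 1],
  [2, 1, 1, 1, 1, 0, 1, 1, 0],
  [2, 1, 1, 1, 1, 1, 0, 0, 1],
  [2, 1, 1, 1, 1, 1, 0, 1, 0],
  [2, 1, 1, 1, 1, 1, 1, 0, 0],
  [3, 1, 1, 1, 1, 1, 1, 1, 2],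
  [3, 1, 1, 1, 1, 1, 1, 2, 1],
  [3, 1, 1, 1, 1, 1, 2, 1, 1],
  [3, 1, 1, 1, 1, 2, 1, 1, 1],
  [3, 1, 1, 1, 2, 1, 1, 1, 1],
  [3, 1, 1, 2, 1, 1, 1, 1, 1],
  [3, 1, 2, 1, 1, 1, 1, 1, 1],
  [3, 2, 1, 1, 1, 1, 1, 1, 1]]

/-- base class -/
def base_e8 : List ℤ := [0, 0, 0, 0, 0, 0, 0, 0, -1]

/-- orbit representatives -/
def reps_e8 : List (ℤ × List (List ℤ)) := [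
  (-1, [[0, 0, 0, 0, 0, 0, 0, 0, -1]]),
  (0, [[0, -1, 0, 0, 0, 0, 0, 0, 0]]),
  (1, [[1, 0, 0, 0, 0, 0, 0, 1, 1]]),
  (2, [[3, 0, 1, 1, 1, 1, 1, 1, 2]]),
  (3, [[6, 2, 2, 2, 2, 2, 2, 2, 3]])]

/-- table of classes with certificates -/
def tab_e8 : List (List ℤ × List ℕ × List ℕ) := [
  ([0, -1, 0, 0, 0, 0, 0, 0, 0], [92], []),
  ([0, 0, -1, 0, 0, 0, 0, 0, 0], [99], [98]),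
  ([0, 0, 0, -1, 0, 0, 0, 0, 0], [105], [97]),
  ([0, 0, 0, 0, -1, 0, 0, 0, 0], [110], [96]),
  ([0, 0, 0, 0, 0, -1, 0, 0, 0], [114], [95]),
  ([0, 0, 0, 0, 0, 0, -1, 0, 0], [117], [94]),
  ([0, 0, 0, 0, 0, 0, 0, -1, 0], [119], [93]),
  ([0, 0, 0, 0, 0, 0, 0, 0, -1], [], []),
  ([1, 0, 0, 0, 0, 0, 0, 1, 1], [92, 56], []),
  ([1, 0, 0, 0, 0, 0, 1, 0, 1], [92, 55], [118]),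
  ([1, 0, 0, 0, 0, 0, 1, 1, 0], [91], [54]),
  ([1, 0, 0, 0, 0, 1, 0, 0, 1], [92, 53], [115]),
  ([1, 0, 0, 0, 0, 1, 0, 1, 0], [90], [52]),
  ([1, 0, 0, 0, 0, 1, 1, 0, 0], [89], [51]),
  ([1, 0, 0, 0, 1, 0, 0, 0, 1], [92, 50], [111]),
  ([1, 0, 0, 0, 1, 0, 0, 1, 0], [87], [49]),
  ([1, 0, 0, 0, 1, 0, 1, 0, 0], [86], [48]),
  ([1, 0, 0, 0, 1, 1, 0, 0, 0], [84], [47]),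
  ([1, 0, 0, 1, 0, 0, 0, 0, 1], [92, 46], [106]),
  ([1, 0, 0, 1, 0, 0, 0, 1, 0], [81], [45]),
  ([1, 0, 0, 1, 0, 0, 1, 0, 0], [80], [44]),
  ([1, 0, 0, 1, 0, 1, 0, 0, 0], [78], [43]),
  ([1, 0, 0, 1, 1, 0, 0, 0, 0], [75], [42]),
  ([1, 0, 1, 0, 0, 0, 0, 0, 1], [92, 41], [100]),
  ([1, 0, 1, 0, 0, 0, 0, 1, 0], [71], [40]),
  ([1, 0, 1, 0, 0, 0, 1, 0, 0], [70], [39]),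
  ([1, 0, 1, 0, 0, 1, 0, 0, 0], [68], [38]),
  ([1, 0, 1, 0, 1, 0, 0, 0, 0], [65], [37]),
  ([1, 0, 1, 1, 0, 0, 0, 0, 0], [61], [36]),
  ([1, 1, 0, 0, 0, 0, 0, 0, 1], [99, 41], [93]),
  ([1, 1, 0, 0, 0, 0, 0, 1, 0], [56], [98, 40]),
  ([1, 1, 0, 0, 0, 0, 1, 0, 0], [55], [98, 39]),
  ([1, 1, 0, 0, 0, 1, 0, 0, 0], [53], [98, 38]),
  ([1, 1, 0, 0, 1, 0, 0, 0, 0], [50], [98, 37]),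
  ([1, 1, 0, 1, 0, 0, 0, 0, 0], [46], [98, 36]),
  ([1, 1, 1, 0, 0, 0, 0, 0, 0], [41], [97, 36]),
  ([2, 0, 0, 0, 1, 1, 1, 1, 1], [92, 28], [82]),
  ([2, 0, 0, 1, 0, 1, 1, 1, 1], [92, 27], [76]),
  ([2, 0, 0, 1, 1, 0, 1, 1, 1], [92, 26], [73]),
  ([2, 0, 0, 1, 1, 1, 0, 1, 1], [92, 25], [72]),
  ([2, 0, 0, 1, 1, 1, 1, 0, 1], [92, 24], [118, 72]),
  ([2, 0, 0, 1, 1, 1, 1, 1, 0], [35], [23]),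
  ([2, 0, 1, 0, 0, 1, 1, 1, 1], [92, 22], [66]),
  ([2, 0, 1, 0, 1, 0, 1, 1, 1], [92, 21], [63]),
  ([2, 0, 1, 0, 1, 1, 0, 1, 1], [92, 20], [62]),
  ([2, 0, 1, 0, 1, 1, 1, 0, 1], [92, 19], [118, 62]),
  ([2, 0, 1, 0, 1, 1, 1, 1, 0], [34], [18]),
  ([2, 0, 1, 1, 0, 0, 1, 1, 1], [92, 17], [59]),
  ([2, 0, 1, 1, 0, 1, 0, 1, 1], [92, 16], [58]),
  ([2, 0, 1, 1, 0, 1, 1, 0, 1], [92, 15], [118, 58]),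
  ([2, 0, 1, 1, 0, 1, 1, 1, 0], [33], [14]),
  ([2, 0, 1, 1, 1, 0, 0, 1, 1], [92, 13], [57]),
  ([2, 0, 1, 1, 1, 0, 1, 0, 1], [92, 12], [118, 57]),
  ([2, 0, 1, 1, 1, 0, 1, 1, 0], [32], [11]),
  ([2, 0, 1, 1, 1, 1, 0, 0, 1], [92, 10], [115, 57]),
  ([2, 0, 1, 1, 1, 1, 0, 1, 0], [31], [9]),
  ([2, 0, 1, 1, 1, 1, 1, 0, 0], [30], [8]),
  ([2, 1, 0, 0, 0, 1, 1, 1, 1], [99, 22], [51]),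
  ([2, 1, 0, 0, 1, 0, 1, 1, 1], [99, 21], [48]),
  ([2, 1, 0, 0, 1, 1, 0, 1, 1], [99, 20], [47]),
  ([2, 1, 0, 0, 1, 1, 1, 0, 1], [99, 19], [118, 47]),
  ([2, 1, 0, 0, 1, 1, 1, 1, 0], [28], [98, 18]),
  ([2, 1, 0, 1, 0, 0, 1, 1, 1], [99, 17], [44]),
  ([2, 1, 0, 1, 0, 1, 0, 1, 1], [99, 16], [43]),
  ([2, 1, 0, 1, 0, 1, 1, 0, 1], [99, 15], [118, 43]),
  ([2, 1, 0, 1, 0, 1, 1, 1, 0], [27], [98, 14]),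
  ([2, 1, 0, 1, 1, 0, 0, 1, 1], [99, 13], [42]),
  ([2, 1, 0, 1, 1, 0, 1, 0, 1], [99, 12], [118, 42]),
  ([2, 1, 0, 1, 1, 0, 1, 1, 0], [26], [98, 11]),
  ([2, 1, 0, 1, 1, 1, 0, 0, 1], [99, 10], [115, 42]),
  ([2, 1, 0, 1, 1, 1, 0, 1, 0], [25], [98, 9]),
  ([2, 1, 0, 1, 1, 1, 1, 0, 0], [24], [98, 8]),
  ([2, 1, 1, 0, 0, 0, 1, 1, 1], [105, 17], [39]),
  ([2, 1, 1, 0, 0, 1, 0, 1, 1], [105, 16], [38]),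
  ([2, 1, 1, 0, 0, 1, 1, 0, 1], [105, 15], [118, 38]),
  ([2, 1, 1, 0, 0, 1, 1, 1, 0], [22], [97, 14]),
  ([2, 1, 1, 0, 1, 0, 0, 1, 1], [105, 13], [37]),
  ([2, 1, 1, 0, 1, 0, 1, 0, 1], [105, 12], [118, 37]),
  ([2, 1, 1, 0, 1, 0, 1, 1, 0], [21], [97, 11]),
  ([2, 1, 1, 0, 1, 1, 0, 0, 1], [105, 10], [115, 37]),
  ([2, 1, 1, 0, 1, 1, 0, 1, 0], [20], [97, 9]),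
  ([2, 1, 1, 0, 1, 1, 1, 0, 0], [19], [97, 8]),
  ([2, 1, 1, 1, 0, 0, 0, 1, 1], [110, 13], [36]),
  ([2, 1, 1, 1, 0, 0, 1, 0, 1], [110, 12], [118, 36]),
  ([2, 1, 1, 1, 0, 0, 1, 1, 0], [17], [96, 11]),
  ([2, 1, 1, 1, 0, 1, 0, 0, 1], [110, 10], [115, 36]),
  ([2, 1, 1, 1, 0, 1, 0, 1, 0], [16], [96, 9]),
  ([2, 1, 1, 1, 0, 1, 1, 0, 0], [15], [96, 8]),
  ([2, 1, 1, 1, 1, 0, 0, 0, 1], [114, 10], [111, 36]),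
  ([2, 1, 1, 1, 1, 0, 0, 1, 0], [13], [95, 9]),
  ([2, 1, 1, 1, 1, 0, 1, 0, 0], [12], [95, 8]),
  ([2, 1, 1, 1, 1, 1, 0, 0, 0], [10], [94, 8]),
  ([3, 0, 1, 1, 1, 1, 1, 1, 2], [92, 0], []),
  ([3, 0, 1, 1, 1, 1, 1, 2, 1], [92, 6], [29]),
  ([3, 0, 1, 1, 1, 1, 2, 1, 1], [92, 5], [118, 29]),
  ([3, 0, 1, 1, 1, 2, 1, 1, 1], [92, 4], [115, 29]),
  ([3, 0, 1, 1, 2, 1, 1, 1, 1], [92, 3], [111, 29]),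
  ([3, 0, 1, 2, 1, 1, 1, 1, 1], [92, 2], [106, 29]),
  ([3, 0, 2, 1, 1, 1, 1, 1, 1], [92, 1], [100, 29]),
  ([3, 1, 0, 1, 1, 1, 1, 1, 2], [99, 1], [98]),
  ([3, 1, 0, 1, 1, 1, 1, 2, 1], [99, 6], [23]),
  ([3, 1, 0, 1, 1, 1, 2, 1, 1], [99, 5], [118, 23]),
  ([3, 1, 0, 1, 1, 2, 1, 1, 1], [99, 4], [115, 23]),
  ([3, 1, 0, 1, 2, 1, 1, 1, 1], [99, 3], [111, 23]),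
  ([3, 1, 0, 2, 1, 1, 1, 1, 1], [99, 2], [106, 23]),
  ([3, 1, 1, 0, 1, 1, 1, 1, 2], [105, 2], [97]),
  ([3, 1, 1, 0, 1, 1, 1, 2, 1], [105, 6], [18]),
  ([3, 1, 1, 0, 1, 1, 2, 1, 1], [105, 5], [118, 18]),
  ([3, 1, 1, 0, 1, 2, 1, 1, 1], [105, 4], [115, 18]),
  ([3, 1, 1, 0, 2, 1, 1, 1, 1], [105, 3], [111, 18]),
  ([3, 1, 1, 1, 0, 1, 1, 1, 2], [110, 3], [96]),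
  ([3, 1, 1, 1, 0, 1, 1, 2, 1], [110, 6], [14]),
  ([3, 1, 1, 1, 0, 1, 2, 1, 1], [110, 5], [118, 14]),
  ([3, 1, 1, 1, 0, 2, 1, 1, 1], [110, 4], [115, 14]),
  ([3, 1, 1, 1, 1, 0, 1, 1, 2], [114, 4], [95]),
  ([3, 1, 1, 1, 1, 0, 1, 2, 1], [114, 6], [11]),
  ([3, 1, 1, 1, 1, 0, 2, 1, 1], [114, 5], [118, 11]),
  ([3, 1, 1, 1, 1, 1, 0, 1, 2], [117, 5], [94]),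
  ([3, 1, 1, 1, 1, 1, 0, 2, 1], [117, 6], [9]),
  ([3, 1, 1, 1, 1, 1, 1, 0, 2], [119, 6], [93]),
  ([3, 1, 1, 1, 1, 1, 1, 2, 0], [6], [54, 9]),
  ([3, 1, 1, 1, 1, 1, 2, 0, 1], [119, 5], [9, 8]),
  ([3, 1, 1, 1, 1, 1, 2, 1, 0], [5], [54, 8]),
  ([3, 1, 1, 1, 1, 2, 0, 1, 1], [117, 4], [115, 9]),
  ([3, 1, 1, 1, 1, 2, 1, 0, 1], [119, 4], [11, 8]),
  ([3, 1, 1, 1, 1, 2, 1, 1, 0], [4], [52, 8]),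
  ([3, 1, 1, 1, 2, 0, 1, 1, 1], [114, 3], [111, 11]),
  ([3, 1, 1, 1, 2, 1, 0, 1, 1], [117, 3], [111, 9]),
  ([3, 1, 1, 1, 2, 1, 1, 0, 1], [119, 3], [14, 8]),
  ([3, 1, 1, 1, 2, 1, 1, 1, 0], [3], [49, 8]),
  ([3, 1, 1, 2, 0, 1, 1, 1, 1], [110, 2], [106, 14]),
  ([3, 1, 1, 2, 1, 0, 1, 1, 1], [114, 2], [106, 11]),
  ([3, 1, 1, 2, 1, 1, 0, 1, 1], [117, 2], [106, 9]),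
  ([3, 1, 1, 2, 1, 1, 1, 0, 1], [119, 2], [18, 8]),
  ([3, 1, 1, 2, 1, 1, 1, 1, 0], [2], [45, 8]),
  ([3, 1, 2, 0, 1, 1, 1, 1, 1], [105, 1], [100, 18]),
  ([3, 1, 2, 1, 0, 1, 1, 1, 1], [110, 1], [100, 14]),
  ([3, 1, 2, 1, 1, 0, 1, 1, 1], [114, 1], [100, 11]),
  ([3, 1, 2, 1, 1, 1, 0, 1, 1], [117, 1], [100, 9]),
  ([3, 1, 2, 1, 1, 1, 1, 0, 1], [119, 1], [23, 8]),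
  ([3, 1, 2, 1, 1, 1, 1, 1, 0], [1], [40, 8]),
  ([3, 2, 0, 1, 1, 1, 1, 1, 1], [99, 0], [93, 23]),
  ([3, 2, 1, 0, 1, 1, 1, 1, 1], [105, 0], [93, 18]),
  ([3, 2, 1, 1, 0, 1, 1, 1, 1], [110, 0], [93, 14]),
  ([3, 2, 1, 1, 1, 0, 1, 1, 1], [114, 0], [93, 11]),
  ([3, 2, 1, 1, 1, 1, 0, 1, 1], [117, 0], [93, 9]),
  ([3, 2, 1, 1, 1, 1, 1, 0, 1], [119, 0], [29, 8]),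
  ([3, 2, 1, 1, 1, 1, 1, 1, 0], [0], [98, 40, 8]),
  ([4, 1, 1, 1, 1, 1, 2, 2, 2], [10, 7], [54]),
  ([4, 1, 1, 1, 1, 2, 1, 2, 2], [12, 7], [52]),
  ([4, 1, 1, 1, 1, 2, 2, 1, 2], [13, 7], [51]),
  ([4, 1, 1, 1, 1, 2, 2, 2, 1], [91, 4], [82, 14]),
  ([4, 1, 1, 1, 2, 1, 1, 2, 2], [15, 7], [49]),
  ([4, 1, 1, 1, 2, 1, 2, 1, 2], [16, 7], [48]),
  ([4, 1, 1, 1, 2, 1, 2, 2, 1], [91, 3], [82, 11]),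
  ([4, 1, 1, 1, 2, 2, 1, 1, 2], [17, 7], [47]),
  ([4, 1, 1, 1, 2, 2, 1, 2, 1], [90, 3], [82, 9]),
  ([4, 1, 1, 1, 2, 2, 2, 1, 1], [89, 3], [36, 8]),
  ([4, 1, 1, 2, 1, 1, 1, 2, 2], [19, 7], [45]),
  ([4, 1, 1, 2, 1, 1, 2, 1, 2], [20, 7], [44]),
  ([4, 1, 1, 2, 1, 1, 2, 2, 1], [91, 2], [76, 11]),
  ([4, 1, 1, 2, 1, 2, 1, 1, 2], [21, 7], [43]),
  ([4, 1, 1, 2, 1, 2, 1, 2, 1], [90, 2], [76, 9]),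
  ([4, 1, 1, 2, 1, 2, 2, 1, 1], [89, 2], [37, 8]),
  ([4, 1, 1, 2, 2, 1, 1, 1, 2], [22, 7], [42]),
  ([4, 1, 1, 2, 2, 1, 1, 2, 1], [87, 2], [73, 9]),
  ([4, 1, 1, 2, 2, 1, 2, 1, 1], [86, 2], [38, 8]),
  ([4, 1, 1, 2, 2, 2, 1, 1, 1], [84, 2], [39, 8]),
  ([4, 1, 2, 1, 1, 1, 1, 2, 2], [24, 7], [40]),
  ([4, 1, 2, 1, 1, 1, 2, 1, 2], [25, 7], [39]),
  ([4, 1, 2, 1, 1, 1, 2, 2, 1], [91, 1], [66, 11]),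
  ([4, 1, 2, 1, 1, 2, 1, 1, 2], [26, 7], [38]),
  ([4, 1, 2, 1, 1, 2, 1, 2, 1], [90, 1], [66, 9]),
  ([4, 1, 2, 1, 1, 2, 2, 1, 1], [89, 1], [42, 8]),
  ([4, 1, 2, 1, 2, 1, 1, 1, 2], [27, 7], [37]),
  ([4, 1, 2, 1, 2, 1, 1, 2, 1], [87, 1], [63, 9]),
  ([4, 1, 2, 1, 2, 1, 2, 1, 1], [86, 1], [43, 8]),
  ([4, 1, 2, 1, 2, 2, 1, 1, 1], [84, 1], [44, 8]),
  ([4, 1, 2, 2, 1, 1, 1, 1, 2], [28, 7], [36]),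
  ([4, 1, 2, 2, 1, 1, 1, 2, 1], [81, 1], [59, 9]),
  ([4, 1, 2, 2, 1, 1, 2, 1, 1], [80, 1], [47, 8]),
  ([4, 1, 2, 2, 1, 2, 1, 1, 1], [78, 1], [48, 8]),
  ([4, 1, 2, 2, 2, 1, 1, 1, 1], [75, 1], [51, 8]),
  ([4, 2, 1, 1, 1, 1, 1, 2, 2], [30, 7], [98, 40]),
  ([4, 2, 1, 1, 1, 1, 2, 1, 2], [31, 7], [98, 39]),
  ([4, 2, 1, 1, 1, 1, 2, 2, 1], [91, 0], [51, 11]),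
  ([4, 2, 1, 1, 1, 2, 1, 1, 2], [32, 7], [98, 38]),
  ([4, 2, 1, 1, 1, 2, 1, 2, 1], [90, 0], [51, 9]),
  ([4, 2, 1, 1, 1, 2, 2, 1, 1], [89, 0], [57, 8]),
  ([4, 2, 1, 1, 2, 1, 1, 1, 2], [33, 7], [98, 37]),
  ([4, 2, 1, 1, 2, 1, 1, 2, 1], [87, 0], [48, 9]),
  ([4, 2, 1, 1, 2, 1, 2, 1, 1], [86, 0], [58, 8]),
  ([4, 2, 1, 1, 2, 2, 1, 1, 1], [84, 0], [59, 8]),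
  ([4, 2, 1, 2, 1, 1, 1, 1, 2], [34, 7], [98, 36]),
  ([4, 2, 1, 2, 1, 1, 1, 2, 1], [81, 0], [44, 9]),
  ([4, 2, 1, 2, 1, 1, 2, 1, 1], [80, 0], [62, 8]),
  ([4, 2, 1, 2, 1, 2, 1, 1, 1], [78, 0], [63, 8]),
  ([4, 2, 1, 2, 2, 1, 1, 1, 1], [75, 0], [66, 8]),
  ([4, 2, 2, 1, 1, 1, 1, 1, 2], [35, 7], [97, 36]),
  ([4, 2, 2, 1, 1, 1, 1, 2, 1], [71, 0], [39, 9]),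
  ([4, 2, 2, 1, 1, 1, 2, 1, 1], [70, 0], [72, 8]),
  ([4, 2, 2, 1, 1, 2, 1, 1, 1], [68, 0], [73, 8]),
  ([4, 2, 2, 1, 2, 1, 1, 1, 1], [65, 0], [76, 8]),
  ([4, 2, 2, 2, 1, 1, 1, 1, 1], [61, 0], [82, 8]),
  ([5, 1, 1, 2, 2, 2, 2, 2, 2], [41, 7], [23]),
  ([5, 1, 2, 1, 2, 2, 2, 2, 2], [46, 7], [18]),
  ([5, 1, 2, 2, 1, 2, 2, 2, 2], [50, 7], [14]),
  ([5, 1, 2, 2, 2, 1, 2, 2, 2], [53, 7], [11]),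
  ([5, 1, 2, 2, 2, 2, 1, 2, 2], [55, 7], [9]),
  ([5, 1, 2, 2, 2, 2, 2, 1, 2], [56, 7], [8]),
  ([5, 1, 2, 2, 2, 2, 2, 2, 1], [35, 1], [93, 8]),
  ([5, 2, 1, 1, 2, 2, 2, 2, 2], [61, 7], [98, 18]),
  ([5, 2, 1, 2, 1, 2, 2, 2, 2], [65, 7], [98, 14]),
  ([5, 2, 1, 2, 2, 1, 2, 2, 2], [68, 7], [98, 11]),
  ([5, 2, 1, 2, 2, 2, 1, 2, 2], [70, 7], [98, 9]),
  ([5, 2, 1, 2, 2, 2, 2, 1, 2], [71, 7], [98, 8]),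
  ([5, 2, 1, 2, 2, 2, 2, 2, 1], [35, 0], [100, 8]),
  ([5, 2, 2, 1, 1, 2, 2, 2, 2], [75, 7], [97, 14]),
  ([5, 2, 2, 1, 2, 1, 2, 2, 2], [78, 7], [97, 11]),
  ([5, 2, 2, 1, 2, 2, 1, 2, 2], [80, 7], [97, 9]),
  ([5, 2, 2, 1, 2, 2, 2, 1, 2], [81, 7], [97, 8]),
  ([5, 2, 2, 1, 2, 2, 2, 2, 1], [34, 0], [106, 8]),
  ([5, 2, 2, 2, 1, 1, 2, 2, 2], [84, 7], [96, 11]),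
  ([5, 2, 2, 2, 1, 2, 1, 2, 2], [86, 7], [96, 9]),
  ([5, 2, 2, 2, 1, 2, 2, 1, 2], [87, 7], [96, 8]),
  ([5, 2, 2, 2, 1, 2, 2, 2, 1], [33, 0], [111, 8]),
  ([5, 2, 2, 2, 2, 1, 1, 2, 2], [89, 7], [95, 9]),
  ([5, 2, 2, 2, 2, 1, 2, 1, 2], [90, 7], [95, 8]),
  ([5, 2, 2, 2, 2, 1, 2, 2, 1], [32, 0], [115, 8]),
  ([5, 2, 2, 2, 2, 2, 1, 1, 2], [91, 7], [94, 8]),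
  ([5, 2, 2, 2, 2, 2, 1, 2, 1], [31, 0], [118, 8]),
  ([5, 2, 2, 2, 2, 2, 2, 1, 1], [30, 0], [8]),
  ([6, 2, 2, 2, 2, 2, 2, 2, 3], [7], []),
  ([6, 2, 2, 2, 2, 2, 2, 3, 2], [7, 6], [54, 9]),
  ([6, 2, 2, 2, 2, 2, 3, 2, 2], [7, 5], [54, 8]),
  ([6, 2, 2, 2, 2, 3, 2, 2, 2], [7, 4], [52, 8]),
  ([6, 2, 2, 2, 3, 2, 2, 2, 2], [7, 3], [49, 8]),
  ([6, 2, 2, 3, 2, 2, 2, 2, 2], [7, 2], [45, 8]),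
  ([6, 2, 3, 2, 2, 2, 2, 2, 2], [7, 1], [40, 8]),
  ([6, 3, 2, 2, 2, 2, 2, 2, 2], [7, 0], [98, 40, 8])]

theorem tab_e8_eq : excL 8 = tab_e8.map (·.1) := by decide +kernel

theorem tab_e8_check : checkTable 8 roots_e8 base_e8 reps_e8 tab_e8 = true := by
  decide +kernel

end Groth.Agent.Lib.Helper8.DP
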