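import Groth.Agent.Lib.Helper8.DP8
import Groth.Agent.Lib.Helper8.DPE8

set_option autoImplicit false
set_option maxRecDepth 1000000

namespace Groth.Agent.Lib.Helper8.DP

/-- the class `E₀ - 2K` -/
def tsum_e8 : List ℤ := [6, 2, 2, 2, 2, 2, 2, 2, 1]

/-- the four representative triples -/
def trips_e8 : List (List (List ℤ)) := [
  [[0, 0, 0, 0, 0, 0, 0, 0, -1], [0, -1, 0, 0, 0, 0, 0, 0, 0], [6, 3, 2, 2, 2, 2, 2, 2, 2]],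
  [[0, 0, 0, 0, 0, 0, 0, 0, -1], [0, 0, 0, 0, 0, 0, 0, 0, -1], [6, 2, 2, 2, 2, 2, 2, 2, 3]],
  [[0, 0, 0, 0, 0, 0, 0, 0, -1], [1, 0, 0, 0, 0, 0, 0, 1, 1], [5, 2, 2, 2, 2, 2, 2, 1, 1]],
  [[0, -1, 0, 0, 0, 0, 0, 0, 0], [1, 1, 0, 0, 0, 0, 0, 1, 0], [5, 2, 2, 2, 2, 2, 2, 1, 1]]]

/-- table of triples with certificates -/
def ttab_e8 : List (List ℤ × List ℤ × List ℕ × ℕ × ℕ) := [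
  ([0, 0, 0, 0, 0, 0, 0, 0, -1], [0, -1, 0, 0, 0, 0, 0, 0, 0], [], 0, 0),
  ([0, 0, 0, 0, 0, 0, 0, 0, -1], [0, 0, -1, 0, 0, 0, 0, 0, 0], [98], 0, 0),
  ([0, 0, 0, 0, 0, 0, 0, 0, -1], [0, 0, 0, -1, 0, 0, 0, 0, 0], [97], 0, 0),
  ([0, 0, 0, 0, 0, 0, 0, 0, -1], [0, 0, 0, 0, -1, 0, 0, 0, 0], [96], 0, 0),
  ([0, 0, 0, 0, 0, 0, 0, 0, -1], [0, 0, 0, 0, 0, -1, 0, 0, 0], [95], 0, 0),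
  ([0, 0, 0, 0, 0, 0, 0, 0, -1], [0, 0, 0, 0, 0, 0, -1, 0, 0], [94], 0, 0),
  ([0, 0, 0, 0, 0, 0, 0, 0, -1], [0, 0, 0, 0, 0, 0, 0, -1, 0], [93], 0, 0),
  ([0, 0, 0, 0, 0, 0, 0, 0, -1], [0, 0, 0, 0, 0, 0, 0, 0, -1], [], 1, 0),
  ([0, 0, 0, 0, 0, 0, 0, 0, -1], [1, 0, 0, 0, 0, 0, 0, 1, 1], [], 2, 0),
  ([0, 0, 0, 0, 0, 0, 0, 0, -1], [1, 0, 0, 0, 0, 0, 1, 0, 1], [118], 2, 0),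
  ([0, 0, 0, 0, 0, 0, 0, 0, -1], [1, 0, 0, 0, 0, 0, 1, 1, 0], [54], 0, 0),
  ([0, 0, 0, 0, 0, 0, 0, 0, -1], [1, 0, 0, 0, 0, 1, 0, 0, 1], [115], 2, 0),
  ([0, 0, 0, 0, 0, 0, 0, 0, -1], [1, 0, 0, 0, 0, 1, 0, 1, 0], [52], 0, 0),
  ([0, 0, 0, 0, 0, 0, 0, 0, -1], [1, 0, 0, 0, 0, 1, 1, 0, 0], [51], 0, 0),
  ([0, 0, 0, 0, 0, 0, 0, 0, -1], [1, 0, 0, 0, 1, 0, 0, 0, 1], [111], 2, 0),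
  ([0, 0, 0, 0, 0, 0, 0, 0, -1], [1, 0, 0, 0, 1, 0, 0, 1, 0], [49], 0, 0),
  ([0, 0, 0, 0, 0, 0, 0, 0, -1], [1, 0, 0, 0, 1, 0, 1, 0, 0], [48], 0, 0),
  ([0, 0, 0, 0, 0, 0, 0, 0, -1], [1, 0, 0, 0, 1, 1, 0, 0, 0], [47], 0, 0),
  ([0, 0, 0, 0, 0, 0, 0, 0, -1], [1, 0, 0, 1, 0, 0, 0, 0, 1], [106], 2, 0),
  ([0, 0, 0, 0, 0, 0, 0, 0, -1], [1, 0, 0, 1, 0, 0, 0, 1, 0], [45], 0, 0),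
  ([0, 0, 0, 0, 0, 0, 0, 0, -1], [1, 0, 0, 1, 0, 0, 1, 0, 0], [44], 0, 0),
  ([0, 0, 0, 0, 0, 0, 0, 0, -1], [1, 0, 0, 1, 0, 1, 0, 0, 0], [43], 0, 0),
  ([0, 0, 0, 0, 0, 0, 0, 0, -1], [1, 0, 0, 1, 1, 0, 0, 0, 0], [42], 0, 0),
  ([0, 0, 0, 0, 0, 0, 0, 0, -1], [1, 0, 1, 0, 0, 0, 0, 0, 1], [100], 2, 0),
  ([0, 0, 0, 0, 0, 0, 0, 0, -1], [1, 0, 1, 0, 0, 0, 0, 1, 0], [40], 0, 0),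
  ([0, 0, 0, 0, 0, 0, 0, 0, -1], [1, 0, 1, 0, 0, 0, 1, 0, 0], [39], 0, 0),
  ([0, 0, 0, 0, 0, 0, 0, 0, -1], [1, 0, 1, 0, 0, 1, 0, 0, 0], [38], 0, 0),
  ([0, 0, 0, 0, 0, 0, 0, 0, -1], [1, 0, 1, 0, 1, 0, 0, 0, 0], [37], 0, 0),
  ([0, 0, 0, 0, 0, 0, 0, 0, -1], [1, 0, 1, 1, 0, 0, 0, 0, 0], [36], 0, 0),
  ([0, 0, 0, 0, 0, 0, 0, 0, -1], [1, 1, 0, 0, 0, 0, 0, 0, 1], [93], 2, 0),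
  ([0, 0, 0, 0, 0, 0, 0, 0, -1], [1, 1, 0, 0, 0, 0, 0, 1, 0], [98, 40], 0, 0),
  ([0, 0, 0, 0, 0, 0, 0, 0, -1], [1, 1, 0, 0, 0, 0, 1, 0, 0], [98, 39], 0, 0),
  ([0, 0, 0, 0, 0, 0, 0, 0, -1], [1, 1, 0, 0, 0, 1, 0, 0, 0], [98, 38], 0, 0),
  ([0, 0, 0, 0, 0, 0, 0, 0, -1], [1, 1, 0, 0, 1, 0, 0, 0, 0], [98, 37], 0, 0),
  ([0, 0, 0, 0, 0, 0, 0, 0, -1], [1, 1, 0, 1, 0, 0, 0, 0, 0], [98, 36], 0, 0),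
  ([0, 0, 0, 0, 0, 0, 0, 0, -1], [1, 1, 1, 0, 0, 0, 0, 0, 0], [97, 36], 0, 0),
  ([0, 0, 0, 0, 0, 0, 0, 0, -1], [2, 0, 0, 0, 1, 1, 1, 1, 1], [82], 2, 0),
  ([0, 0, 0, 0, 0, 0, 0, 0, -1], [2, 0, 0, 1, 0, 1, 1, 1, 1], [76], 2, 0),
  ([0, 0, 0, 0, 0, 0, 0, 0, -1], [2, 0, 0, 1, 1, 0, 1, 1, 1], [73], 2, 0),
  ([0, 0, 0, 0, 0, 0, 0, 0, -1], [2, 0, 0, 1, 1, 1, 0, 1, 1], [72], 2, 0),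
  ([0, 0, 0, 0, 0, 0, 0, 0, -1], [2, 0, 0, 1, 1, 1, 1, 0, 1], [118, 72], 2, 0),
  ([0, 0, 0, 0, 0, 0, 0, 0, -1], [2, 0, 0, 1, 1, 1, 1, 1, 0], [23], 0, 0),
  ([0, 0, 0, 0, 0, 0, 0, 0, -1], [2, 0, 1, 0, 0, 1, 1, 1, 1], [66], 2, 0),
  ([0, 0, 0, 0, 0, 0, 0, 0, -1], [2, 0, 1, 0, 1, 0, 1, 1, 1], [63], 2, 0),
  ([0, 0, 0, 0, 0, 0, 0, 0, -1], [2, 0, 1, 0, 1, 1, 0, 1, 1], [62], 2, 0),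
  ([0, 0, 0, 0, 0, 0, 0, 0, -1], [2, 0, 1, 0, 1, 1, 1, 0, 1], [118, 62], 2, 0),
  ([0, 0, 0, 0, 0, 0, 0, 0, -1], [2, 0, 1, 0, 1, 1, 1, 1, 0], [18], 0, 0),
  ([0, 0, 0, 0, 0, 0, 0, 0, -1], [2, 0, 1, 1, 0, 0, 1, 1, 1], [59], 2, 0),
  ([0, 0, 0, 0, 0, 0, 0, 0, -1], [2, 0, 1, 1, 0, 1, 0, 1, 1], [58], 2, 0),
  ([0, 0, 0, 0, 0, 0, 0, 0, -1], [2, 0, 1, 1, 0, 1, 1, 0, 1], [118, 58], 2, 0),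
  ([0, 0, 0, 0, 0, 0, 0, 0, -1], [2, 0, 1, 1, 0, 1, 1, 1, 0], [14], 0, 0),
  ([0, 0, 0, 0, 0, 0, 0, 0, -1], [2, 0, 1, 1, 1, 0, 0, 1, 1], [57], 2, 0),
  ([0, 0, 0, 0, 0, 0, 0, 0, -1], [2, 0, 1, 1, 1, 0, 1, 0, 1], [118, 57], 2, 0),
  ([0, 0, 0, 0, 0, 0, 0, 0, -1], [2, 0, 1, 1, 1, 0, 1, 1, 0], [11], 0, 0),
  ([0, 0, 0, 0, 0, 0, 0, 0, -1], [2, 0, 1, 1, 1, 1, 0, 0, 1], [115, 57], 2, 0),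
  ([0, 0, 0, 0, 0, 0, 0, 0, -1], [2, 0, 1, 1, 1, 1, 0, 1, 0], [9], 0, 0),
  ([0, 0, 0, 0, 0, 0, 0, 0, -1], [2, 0, 1, 1, 1, 1, 1, 0, 0], [8], 0, 0),
  ([0, 0, 0, 0, 0, 0, 0, 0, -1], [2, 1, 0, 0, 0, 1, 1, 1, 1], [51], 2, 0),
  ([0, 0, 0, 0, 0, 0, 0, 0, -1], [2, 1, 0, 0, 1, 0, 1, 1, 1], [48], 2, 0),
  ([0, 0, 0, 0, 0, 0, 0, 0, -1], [2, 1, 0, 0, 1, 1, 0, 1, 1], [47], 2, 0),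
  ([0, 0, 0, 0, 0, 0, 0, 0, -1], [2, 1, 0, 0, 1, 1, 1, 0, 1], [118, 47], 2, 0),
  ([0, 0, 0, 0, 0, 0, 0, 0, -1], [2, 1, 0, 0, 1, 1, 1, 1, 0], [98, 18], 0, 0),
  ([0, 0, 0, 0, 0, 0, 0, 0, -1], [2, 1, 0, 1, 0, 0, 1, 1, 1], [44], 2, 0),
  ([0, 0, 0, 0, 0, 0, 0, 0, -1], [2, 1, 0, 1, 0, 1, 0, 1, 1], [43], 2, 0),
  ([0, 0, 0, 0, 0, 0, 0, 0, -1], [2, 1, 0, 1, 0, 1, 1, 0, 1], [118, 43], 2, 0),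
  ([0, 0, 0, 0, 0, 0, 0, 0, -1], [2, 1, 0, 1, 0, 1, 1, 1, 0], [98, 14], 0, 0),
  ([0, 0, 0, 0, 0, 0, 0, 0, -1], [2, 1, 0, 1, 1, 0, 0, 1, 1], [42], 2, 0),
  ([0, 0, 0, 0, 0, 0, 0, 0, -1], [2, 1, 0, 1, 1, 0, 1, 0, 1], [118, 42], 2, 0),
  ([0, 0, 0, 0, 0, 0, 0, 0, -1], [2, 1, 0, 1, 1, 0, 1, 1, 0], [98, 11], 0, 0),
  ([0, 0, 0, 0, 0, 0, 0, 0, -1], [2, 1, 0, 1, 1, 1, 0, 0, 1], [115, 42], 2, 0),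
  ([0, 0, 0, 0, 0, 0, 0, 0, -1], [2, 1, 0, 1, 1, 1, 0, 1, 0], [98, 9], 0, 0),
  ([0, 0, 0, 0, 0, 0, 0, 0, -1], [2, 1, 0, 1, 1, 1, 1, 0, 0], [98, 8], 0, 0),
  ([0, 0, 0, 0, 0, 0, 0, 0, -1], [2, 1, 1, 0, 0, 0, 1, 1, 1], [39], 2, 0),
  ([0, 0, 0, 0, 0, 0, 0, 0, -1], [2, 1, 1, 0, 0, 1, 0, 1, 1], [38], 2, 0),
  ([0, 0, 0, 0, 0, 0, 0, 0, -1], [2, 1, 1, 0, 0, 1, 1, 0, 1], [118, 38], 2, 0),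
  ([0, 0, 0, 0, 0, 0, 0, 0, -1], [2, 1, 1, 0, 0, 1, 1, 1, 0], [97, 14], 0, 0),
  ([0, 0, 0, 0, 0, 0, 0, 0, -1], [2, 1, 1, 0, 1, 0, 0, 1, 1], [37], 2, 0),
  ([0, 0, 0, 0, 0, 0, 0, 0, -1], [2, 1, 1, 0, 1, 0, 1, 0, 1], [118, 37], 2, 0),
  ([0, 0, 0, 0, 0, 0, 0, 0, -1], [2, 1, 1, 0, 1, 0, 1, 1, 0], [97, 11], 0, 0),
  ([0, 0, 0, 0, 0, 0, 0, 0, -1], [2, 1, 1, 0, 1, 1, 0, 0, 1], [115, 37], 2, 0),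
  ([0, 0, 0, 0, 0, 0, 0, 0, -1], [2, 1, 1, 0, 1, 1, 0, 1, 0], [97, 9], 0, 0),
  ([0, 0, 0, 0, 0, 0, 0, 0, -1], [2, 1, 1, 0, 1, 1, 1, 0, 0], [97, 8], 0, 0),
  ([0, 0, 0, 0, 0, 0, 0, 0, -1], [2, 1, 1, 1, 0, 0, 0, 1, 1], [36], 2, 0),
  ([0, 0, 0, 0, 0, 0, 0, 0, -1], [2, 1, 1, 1, 0, 0, 1, 0, 1], [118, 36], 2, 0),
  ([0, 0, 0, 0, 0, 0, 0, 0, -1], [2, 1, 1, 1, 0, 0, 1, 1, 0], [96, 11], 0, 0),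
  ([0, 0, 0, 0, 0, 0, 0, 0, -1], [2, 1, 1, 1, 0, 1, 0, 0, 1], [115, 36], 2, 0),
  ([0, 0, 0, 0, 0, 0, 0, 0, -1], [2, 1, 1, 1, 0, 1, 0, 1, 0], [96, 9], 0, 0),
  ([0, 0, 0, 0, 0, 0, 0, 0, -1], [2, 1, 1, 1, 0, 1, 1, 0, 0], [96, 8], 0, 0),
  ([0, 0, 0, 0, 0, 0, 0, 0, -1], [2, 1, 1, 1, 1, 0, 0, 0, 1], [111, 36], 2, 0),
  ([0, 0, 0, 0, 0, 0, 0, 0, -1], [2, 1, 1, 1, 1, 0, 0, 1, 0], [95, 9], 0, 0),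
  ([0, 0, 0, 0, 0, 0, 0, 0, -1], [2, 1, 1, 1, 1, 0, 1, 0, 0], [95, 8], 0, 0),
  ([0, 0, 0, 0, 0, 0, 0, 0, -1], [2, 1, 1, 1, 1, 1, 0, 0, 0], [94, 8], 0, 0),
  ([0, 0, 0, 0, 0, 0, 0, 0, -1], [3, 0, 1, 1, 1, 1, 1, 1, 2], [98, 40, 8], 0, 1),
  ([0, 0, 0, 0, 0, 0, 0, 0, -1], [3, 0, 1, 1, 1, 1, 1, 2, 1], [29], 2, 0),
  ([0, 0, 0, 0, 0, 0, 0, 0, -1], [3, 0, 1, 1, 1, 1, 2, 1, 1], [118, 29], 2, 0),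
  ([0, 0, 0, 0, 0, 0, 0, 0, -1], [3, 0, 1, 1, 1, 2, 1, 1, 1], [115, 29], 2, 0),
  ([0, 0, 0, 0, 0, 0, 0, 0, -1], [3, 0, 1, 1, 2, 1, 1, 1, 1], [111, 29], 2, 0),
  ([0, 0, 0, 0, 0, 0, 0, 0, -1], [3, 0, 1, 2, 1, 1, 1, 1, 1], [106, 29], 2, 0),
  ([0, 0, 0, 0, 0, 0, 0, 0, -1], [3, 0, 2, 1, 1, 1, 1, 1, 1], [100, 29], 2, 0),
  ([0, 0, 0, 0, 0, 0, 0, 0, -1], [3, 1, 0, 1, 1, 1, 1, 1, 2], [40, 8], 0, 1),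
  ([0, 0, 0, 0, 0, 0, 0, 0, -1], [3, 1, 0, 1, 1, 1, 1, 2, 1], [23], 2, 0),
  ([0, 0, 0, 0, 0, 0, 0, 0, -1], [3, 1, 0, 1, 1, 1, 2, 1, 1], [118, 23], 2, 0),
  ([0, 0, 0, 0, 0, 0, 0, 0, -1], [3, 1, 0, 1, 1, 2, 1, 1, 1], [115, 23], 2, 0),
  ([0, 0, 0, 0, 0, 0, 0, 0, -1], [3, 1, 0, 1, 2, 1, 1, 1, 1], [111, 23], 2, 0),
  ([0, 0, 0, 0, 0, 0, 0, 0, -1], [3, 1, 0, 2, 1, 1, 1, 1, 1], [106, 23], 2, 0),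
  ([0, 0, 0, 0, 0, 0, 0, 0, -1], [3, 1, 1, 0, 1, 1, 1, 1, 2], [45, 8], 0, 1),
  ([0, 0, 0, 0, 0, 0, 0, 0, -1], [3, 1, 1, 0, 1, 1, 1, 2, 1], [18], 2, 0),
  ([0, 0, 0, 0, 0, 0, 0, 0, -1], [3, 1, 1, 0, 1, 1, 2, 1, 1], [118, 18], 2, 0),
  ([0, 0, 0, 0, 0, 0, 0, 0, -1], [3, 1, 1, 0, 1, 2, 1, 1, 1], [115, 18], 2, 0),
  ([0, 0, 0, 0, 0, 0, 0, 0, -1], [3, 1, 1, 0, 2, 1, 1, 1, 1], [111, 18], 2, 0),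
  ([0, 0, 0, 0, 0, 0, 0, 0, -1], [3, 1, 1, 1, 0, 1, 1, 1, 2], [49, 8], 0, 1),
  ([0, 0, 0, 0, 0, 0, 0, 0, -1], [3, 1, 1, 1, 0, 1, 1, 2, 1], [14], 2, 0),
  ([0, 0, 0, 0, 0, 0, 0, 0, -1], [3, 1, 1, 1, 0, 1, 2, 1, 1], [118, 14], 2, 0),
  ([0, 0, 0, 0, 0, 0, 0, 0, -1], [3, 1, 1, 1, 0, 2, 1, 1, 1], [115, 14], 2, 0),
  ([0, 0, 0, 0, 0, 0, 0, 0, -1], [3, 1, 1, 1, 1, 0, 1, 1, 2], [52, 8], 0, 1),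
  ([0, 0, 0, 0, 0, 0, 0, 0, -1], [3, 1, 1, 1, 1, 0, 1, 2, 1], [11], 2, 0),
  ([0, 0, 0, 0, 0, 0, 0, 0, -1], [3, 1, 1, 1, 1, 0, 2, 1, 1], [118, 11], 2, 0),
  ([0, 0, 0, 0, 0, 0, 0, 0, -1], [3, 1, 1, 1, 1, 1, 0, 1, 2], [54, 8], 0, 1),
  ([0, 0, 0, 0, 0, 0, 0, 0, -1], [3, 1, 1, 1, 1, 1, 0, 2, 1], [9], 2, 0),
  ([0, 0, 0, 0, 0, 0, 0, 0, -1], [3, 1, 1, 1, 1, 1, 1, 0, 2], [54, 9], 0, 1),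
  ([0, 0, 0, 0, 0, 0, 0, 0, -1], [3, 1, 1, 1, 1, 1, 1, 2, 0], [54, 9], 0, 0),
  ([0, 0, 0, 0, 0, 0, 0, 0, -1], [3, 1, 1, 1, 1, 1, 2, 0, 1], [9, 8], 2, 0),
  ([0, 0, 0, 0, 0, 0, 0, 0, -1], [3, 1, 1, 1, 1, 1, 2, 1, 0], [54, 8], 0, 0),
  ([0, 0, 0, 0, 0, 0, 0, 0, -1], [3, 1, 1, 1, 1, 2, 0, 1, 1], [115, 9], 2, 0),
  ([0, 0, 0, 0, 0, 0, 0, 0, -1], [3, 1, 1, 1, 1, 2, 1, 0, 1], [11, 8], 2, 0),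
  ([0, 0, 0, 0, 0, 0, 0, 0, -1], [3, 1, 1, 1, 1, 2, 1, 1, 0], [52, 8], 0, 0),
  ([0, 0, 0, 0, 0, 0, 0, 0, -1], [3, 1, 1, 1, 2, 0, 1, 1, 1], [111, 11], 2, 0),
  ([0, 0, 0, 0, 0, 0, 0, 0, -1], [3, 1, 1, 1, 2, 1, 0, 1, 1], [111, 9], 2, 0),
  ([0, 0, 0, 0, 0, 0, 0, 0, -1], [3, 1, 1, 1, 2, 1, 1, 0, 1], [14, 8], 2, 0),
  ([0, 0, 0, 0, 0, 0, 0, 0, -1], [3, 1, 1, 1, 2, 1, 1, 1, 0], [49, 8], 0, 0),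
  ([0, 0, 0, 0, 0, 0, 0, 0, -1], [3, 1, 1, 2, 0, 1, 1, 1, 1], [106, 14], 2, 0),
  ([0, 0, 0, 0, 0, 0, 0, 0, -1], [3, 1, 1, 2, 1, 0, 1, 1, 1], [106, 11], 2, 0),
  ([0, 0, 0, 0, 0, 0, 0, 0, -1], [3, 1, 1, 2, 1, 1, 0, 1, 1], [106, 9], 2, 0),
  ([0, 0, 0, 0, 0, 0, 0, 0, -1], [3, 1, 1, 2, 1, 1, 1, 0, 1], [18, 8], 2, 0),
  ([0, 0, 0, 0, 0, 0, 0, 0, -1], [3, 1, 1, 2, 1, 1, 1, 1, 0], [45, 8], 0, 0),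
  ([0, 0, 0, 0, 0, 0, 0, 0, -1], [3, 1, 2, 0, 1, 1, 1, 1, 1], [100, 18], 2, 0),
  ([0, 0, 0, 0, 0, 0, 0, 0, -1], [3, 1, 2, 1, 0, 1, 1, 1, 1], [100, 14], 2, 0),
  ([0, 0, 0, 0, 0, 0, 0, 0, -1], [3, 1, 2, 1, 1, 0, 1, 1, 1], [100, 11], 2, 0),
  ([0, 0, 0, 0, 0, 0, 0, 0, -1], [3, 1, 2, 1, 1, 1, 0, 1, 1], [100, 9], 2, 0),
  ([0, 0, 0, 0, 0, 0, 0, 0, -1], [3, 1, 2, 1, 1, 1, 1, 0, 1], [23, 8], 2, 0),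
  ([0, 0, 0, 0, 0, 0, 0, 0, -1], [3, 1, 2, 1, 1, 1, 1, 1, 0], [40, 8], 0, 0),
  ([0, 0, 0, 0, 0, 0, 0, 0, -1], [3, 2, 0, 1, 1, 1, 1, 1, 1], [93, 23], 2, 0),
  ([0, 0, 0, 0, 0, 0, 0, 0, -1], [3, 2, 1, 0, 1, 1, 1, 1, 1], [93, 18], 2, 0),
  ([0, 0, 0, 0, 0, 0, 0, 0, -1], [3, 2, 1, 1, 0, 1, 1, 1, 1], [93, 14], 2, 0),
  ([0, 0, 0, 0, 0, 0, 0, 0, -1], [3, 2, 1, 1, 1, 0, 1, 1, 1], [93, 11], 2, 0),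
  ([0, 0, 0, 0, 0, 0, 0, 0, -1], [3, 2, 1, 1, 1, 1, 0, 1, 1], [93, 9], 2, 0),
  ([0, 0, 0, 0, 0, 0, 0, 0, -1], [3, 2, 1, 1, 1, 1, 1, 0, 1], [29, 8], 2, 0),
  ([0, 0, 0, 0, 0, 0, 0, 0, -1], [3, 2, 1, 1, 1, 1, 1, 1, 0], [98, 40, 8], 0, 0),
  ([0, 0, 0, 0, 0, 0, 0, 0, -1], [4, 1, 1, 1, 1, 1, 2, 2, 2], [94, 8], 0, 1),
  ([0, 0, 0, 0, 0, 0, 0, 0, -1], [4, 1, 1, 1, 1, 2, 1, 2, 2], [95, 8], 0, 1),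
  ([0, 0, 0, 0, 0, 0, 0, 0, -1], [4, 1, 1, 1, 1, 2, 2, 1, 2], [95, 9], 0, 1),
  ([0, 0, 0, 0, 0, 0, 0, 0, -1], [4, 1, 1, 1, 1, 2, 2, 2, 1], [82, 14], 2, 0),
  ([0, 0, 0, 0, 0, 0, 0, 0, -1], [4, 1, 1, 1, 2, 1, 1, 2, 2], [96, 8], 0, 1),
  ([0, 0, 0, 0, 0, 0, 0, 0, -1], [4, 1, 1, 1, 2, 1, 2, 1, 2], [96, 9], 0, 1),
  ([0, 0, 0, 0, 0, 0, 0, 0, -1], [4, 1, 1, 1, 2, 1, 2, 2, 1], [82, 11], 2, 0),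
  ([0, 0, 0, 0, 0, 0, 0, 0, -1], [4, 1, 1, 1, 2, 2, 1, 1, 2], [96, 11], 0, 1),
  ([0, 0, 0, 0, 0, 0, 0, 0, -1], [4, 1, 1, 1, 2, 2, 1, 2, 1], [82, 9], 2, 0),
  ([0, 0, 0, 0, 0, 0, 0, 0, -1], [4, 1, 1, 1, 2, 2, 2, 1, 1], [36, 8], 2, 0),
  ([0, 0, 0, 0, 0, 0, 0, 0, -1], [4, 1, 1, 2, 1, 1, 1, 2, 2], [97, 8], 0, 1),
  ([0, 0, 0, 0, 0, 0, 0, 0, -1], [4, 1, 1, 2, 1, 1, 2, 1, 2], [97, 9], 0, 1),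
  ([0, 0, 0, 0, 0, 0, 0, 0, -1], [4, 1, 1, 2, 1, 1, 2, 2, 1], [76, 11], 2, 0),
  ([0, 0, 0, 0, 0, 0, 0, 0, -1], [4, 1, 1, 2, 1, 2, 1, 1, 2], [97, 11], 0, 1),
  ([0, 0, 0, 0, 0, 0, 0, 0, -1], [4, 1, 1, 2, 1, 2, 1, 2, 1], [76, 9], 2, 0),
  ([0, 0, 0, 0, 0, 0, 0, 0, -1], [4, 1, 1, 2, 1, 2, 2, 1, 1], [37, 8], 2, 0),
  ([0, 0, 0, 0, 0, 0, 0, 0, -1], [4, 1, 1, 2, 2, 1, 1, 1, 2], [97, 14], 0, 1),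
  ([0, 0, 0, 0, 0, 0, 0, 0, -1], [4, 1, 1, 2, 2, 1, 1, 2, 1], [73, 9], 2, 0),
  ([0, 0, 0, 0, 0, 0, 0, 0, -1], [4, 1, 1, 2, 2, 1, 2, 1, 1], [38, 8], 2, 0),
  ([0, 0, 0, 0, 0, 0, 0, 0, -1], [4, 1, 1, 2, 2, 2, 1, 1, 1], [39, 8], 2, 0),
  ([0, 0, 0, 0, 0, 0, 0, 0, -1], [4, 1, 2, 1, 1, 1, 1, 2, 2], [98, 8], 0, 1),
  ([0, 0, 0, 0, 0, 0, 0, 0, -1], [4, 1, 2, 1, 1, 1, 2, 1, 2], [98, 9], 0, 1),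
  ([0, 0, 0, 0, 0, 0, 0, 0, -1], [4, 1, 2, 1, 1, 1, 2, 2, 1], [66, 11], 2, 0),
  ([0, 0, 0, 0, 0, 0, 0, 0, -1], [4, 1, 2, 1, 1, 2, 1, 1, 2], [98, 11], 0, 1),
  ([0, 0, 0, 0, 0, 0, 0, 0, -1], [4, 1, 2, 1, 1, 2, 1, 2, 1], [66, 9], 2, 0),
  ([0, 0, 0, 0, 0, 0, 0, 0, -1], [4, 1, 2, 1, 1, 2, 2, 1, 1], [42, 8], 2, 0),
  ([0, 0, 0, 0, 0, 0, 0, 0, -1], [4, 1, 2, 1, 2, 1, 1, 1, 2], [98, 14], 0, 1),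
  ([0, 0, 0, 0, 0, 0, 0, 0, -1], [4, 1, 2, 1, 2, 1, 1, 2, 1], [63, 9], 2, 0),
  ([0, 0, 0, 0, 0, 0, 0, 0, -1], [4, 1, 2, 1, 2, 1, 2, 1, 1], [43, 8], 2, 0),
  ([0, 0, 0, 0, 0, 0, 0, 0, -1], [4, 1, 2, 1, 2, 2, 1, 1, 1], [44, 8], 2, 0),
  ([0, 0, 0, 0, 0, 0, 0, 0, -1], [4, 1, 2, 2, 1, 1, 1, 1, 2], [98, 18], 0, 1),
  ([0, 0, 0, 0, 0, 0, 0, 0, -1], [4, 1, 2, 2, 1, 1, 1, 2, 1], [59, 9], 2, 0),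
  ([0, 0, 0, 0, 0, 0, 0, 0, -1], [4, 1, 2, 2, 1, 1, 2, 1, 1], [47, 8], 2, 0),
  ([0, 0, 0, 0, 0, 0, 0, 0, -1], [4, 1, 2, 2, 1, 2, 1, 1, 1], [48, 8], 2, 0),
  ([0, 0, 0, 0, 0, 0, 0, 0, -1], [4, 1, 2, 2, 2, 1, 1, 1, 1], [51, 8], 2, 0),
  ([0, 0, 0, 0, 0, 0, 0, 0, -1], [4, 2, 1, 1, 1, 1, 1, 2, 2], [8], 0, 1),
  ([0, 0, 0, 0, 0, 0, 0, 0, -1], [4, 2, 1, 1, 1, 1, 2, 1, 2], [9], 0, 1),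
  ([0, 0, 0, 0, 0, 0, 0, 0, -1], [4, 2, 1, 1, 1, 1, 2, 2, 1], [51, 11], 2, 0),
  ([0, 0, 0, 0, 0, 0, 0, 0, -1], [4, 2, 1, 1, 1, 2, 1, 1, 2], [11], 0, 1),
  ([0, 0, 0, 0, 0, 0, 0, 0, -1], [4, 2, 1, 1, 1, 2, 1, 2, 1], [51, 9], 2, 0),
  ([0, 0, 0, 0, 0, 0, 0, 0, -1], [4, 2, 1, 1, 1, 2, 2, 1, 1], [57, 8], 2, 0),
  ([0, 0, 0, 0, 0, 0, 0, 0, -1], [4, 2, 1, 1, 2, 1, 1, 1, 2], [14], 0, 1),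
  ([0, 0, 0, 0, 0, 0, 0, 0, -1], [4, 2, 1, 1, 2, 1, 1, 2, 1], [48, 9], 2, 0),
  ([0, 0, 0, 0, 0, 0, 0, 0, -1], [4, 2, 1, 1, 2, 1, 2, 1, 1], [58, 8], 2, 0),
  ([0, 0, 0, 0, 0, 0, 0, 0, -1], [4, 2, 1, 1, 2, 2, 1, 1, 1], [59, 8], 2, 0),
  ([0, 0, 0, 0, 0, 0, 0, 0, -1], [4, 2, 1, 2, 1, 1, 1, 1, 2], [18], 0, 1),
  ([0, 0, 0, 0, 0, 0, 0, 0, -1], [4, 2, 1, 2, 1, 1, 1, 2, 1], [44, 9], 2, 0),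
  ([0, 0, 0, 0, 0, 0, 0, 0, -1], [4, 2, 1, 2, 1, 1, 2, 1, 1], [62, 8], 2, 0),
  ([0, 0, 0, 0, 0, 0, 0, 0, -1], [4, 2, 1, 2, 1, 2, 1, 1, 1], [63, 8], 2, 0),
  ([0, 0, 0, 0, 0, 0, 0, 0, -1], [4, 2, 1, 2, 2, 1, 1, 1, 1], [66, 8], 2, 0),
  ([0, 0, 0, 0, 0, 0, 0, 0, -1], [4, 2, 2, 1, 1, 1, 1, 1, 2], [23], 0, 1),
  ([0, 0, 0, 0, 0, 0, 0, 0, -1], [4, 2, 2, 1, 1, 1, 1, 2, 1], [39, 9], 2, 0),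
  ([0, 0, 0, 0, 0, 0, 0, 0, -1], [4, 2, 2, 1, 1, 1, 2, 1, 1], [72, 8], 2, 0),
  ([0, 0, 0, 0, 0, 0, 0, 0, -1], [4, 2, 2, 1, 1, 2, 1, 1, 1], [73, 8], 2, 0),
  ([0, 0, 0, 0, 0, 0, 0, 0, -1], [4, 2, 2, 1, 2, 1, 1, 1, 1], [76, 8], 2, 0),
  ([0, 0, 0, 0, 0, 0, 0, 0, -1], [4, 2, 2, 2, 1, 1, 1, 1, 1], [82, 8], 2, 0),
  ([0, 0, 0, 0, 0, 0, 0, 0, -1], [5, 1, 1, 2, 2, 2, 2, 2, 2], [97, 36], 0, 1),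
  ([0, 0, 0, 0, 0, 0, 0, 0, -1], [5, 1, 2, 1, 2, 2, 2, 2, 2], [98, 36], 0, 1),
  ([0, 0, 0, 0, 0, 0, 0, 0, -1], [5, 1, 2, 2, 1, 2, 2, 2, 2], [98, 37], 0, 1),
  ([0, 0, 0, 0, 0, 0, 0, 0, -1], [5, 1, 2, 2, 2, 1, 2, 2, 2], [98, 38], 0, 1),
  ([0, 0, 0, 0, 0, 0, 0, 0, -1], [5, 1, 2, 2, 2, 2, 1, 2, 2], [98, 39], 0, 1),
  ([0, 0, 0, 0, 0, 0, 0, 0, -1], [5, 1, 2, 2, 2, 2, 2, 1, 2], [98, 40], 0, 1),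
  ([0, 0, 0, 0, 0, 0, 0, 0, -1], [5, 1, 2, 2, 2, 2, 2, 2, 1], [93, 8], 2, 0),
  ([0, 0, 0, 0, 0, 0, 0, 0, -1], [5, 2, 1, 1, 2, 2, 2, 2, 2], [36], 0, 1),
  ([0, 0, 0, 0, 0, 0, 0, 0, -1], [5, 2, 1, 2, 1, 2, 2, 2, 2], [37], 0, 1),
  ([0, 0, 0, 0, 0, 0, 0, 0, -1], [5, 2, 1, 2, 2, 1, 2, 2, 2], [38], 0, 1),
  ([0, 0, 0, 0, 0, 0, 0, 0, -1], [5, 2, 1, 2, 2, 2, 1, 2, 2], [39], 0, 1),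
  ([0, 0, 0, 0, 0, 0, 0, 0, -1], [5, 2, 1, 2, 2, 2, 2, 1, 2], [40], 0, 1),
  ([0, 0, 0, 0, 0, 0, 0, 0, -1], [5, 2, 1, 2, 2, 2, 2, 2, 1], [100, 8], 2, 0),
  ([0, 0, 0, 0, 0, 0, 0, 0, -1], [5, 2, 2, 1, 1, 2, 2, 2, 2], [42], 0, 1),
  ([0, 0, 0, 0, 0, 0, 0, 0, -1], [5, 2, 2, 1, 2, 1, 2, 2, 2], [43], 0, 1),
  ([0, 0, 0, 0, 0, 0, 0, 0, -1], [5, 2, 2, 1, 2, 2, 1, 2, 2], [44], 0, 1),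
  ([0, 0, 0, 0, 0, 0, 0, 0, -1], [5, 2, 2, 1, 2, 2, 2, 1, 2], [45], 0, 1),
  ([0, 0, 0, 0, 0, 0, 0, 0, -1], [5, 2, 2, 1, 2, 2, 2, 2, 1], [106, 8], 2, 0),
  ([0, 0, 0, 0, 0, 0, 0, 0, -1], [5, 2, 2, 2, 1, 1, 2, 2, 2], [47], 0, 1),
  ([0, 0, 0, 0, 0, 0, 0, 0, -1], [5, 2, 2, 2, 1, 2, 1, 2, 2], [48], 0, 1),
  ([0, 0, 0, 0, 0, 0, 0, 0, -1], [5, 2, 2, 2, 1, 2, 2, 1, 2], [49], 0, 1),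
  ([0, 0, 0, 0, 0, 0, 0, 0, -1], [5, 2, 2, 2, 1, 2, 2, 2, 1], [111, 8], 2, 0),
  ([0, 0, 0, 0, 0, 0, 0, 0, -1], [5, 2, 2, 2, 2, 1, 1, 2, 2], [51], 0, 1),
  ([0, 0, 0, 0, 0, 0, 0, 0, -1], [5, 2, 2, 2, 2, 1, 2, 1, 2], [52], 0, 1),
  ([0, 0, 0, 0, 0, 0, 0, 0, -1], [5, 2, 2, 2, 2, 1, 2, 2, 1], [115, 8], 2, 0),
  ([0, 0, 0, 0, 0, 0, 0, 0, -1], [5, 2, 2, 2, 2, 2, 1, 1, 2], [54], 0, 1),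
  ([0, 0, 0, 0, 0, 0, 0, 0, -1], [5, 2, 2, 2, 2, 2, 1, 2, 1], [118, 8], 2, 0),
  ([0, 0, 0, 0, 0, 0, 0, 0, -1], [5, 2, 2, 2, 2, 2, 2, 1, 1], [8], 2, 0),
  ([0, 0, 0, 0, 0, 0, 0, 0, -1], [6, 2, 2, 2, 2, 2, 2, 2, 3], [], 1, 1),
  ([0, 0, 0, 0, 0, 0, 0, 0, -1], [6, 2, 2, 2, 2, 2, 2, 3, 2], [93], 0, 1),
  ([0, 0, 0, 0, 0, 0, 0, 0, -1], [6, 2, 2, 2, 2, 2, 3, 2, 2], [94], 0, 1),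
  ([0, 0, 0, 0, 0, 0, 0, 0, -1], [6, 2, 2, 2, 2, 3, 2, 2, 2], [95], 0, 1),
  ([0, 0, 0, 0, 0, 0, 0, 0, -1], [6, 2, 2, 2, 3, 2, 2, 2, 2], [96], 0, 1),
  ([0, 0, 0, 0, 0, 0, 0, 0, -1], [6, 2, 2, 3, 2, 2, 2, 2, 2], [97], 0, 1),
  ([0, 0, 0, 0, 0, 0, 0, 0, -1], [6, 2, 3, 2, 2, 2, 2, 2, 2], [98], 0, 1),
  ([0, 0, 0, 0, 0, 0, 0, 0, -1], [6, 3, 2, 2, 2, 2, 2, 2, 2], [], 0, 1),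
  ([0, -1, 0, 0, 0, 0, 0, 0, 0], [0, 0, 0, 0, 0, 0, 0, 0, -1], [], 0, 2),
  ([0, -1, 0, 0, 0, 0, 0, 0, 0], [1, 1, 0, 0, 0, 0, 0, 1, 0], [], 3, 0),
  ([0, -1, 0, 0, 0, 0, 0, 0, 0], [1, 1, 0, 0, 0, 0, 1, 0, 0], [118], 3, 0),
  ([0, -1, 0, 0, 0, 0, 0, 0, 0], [1, 1, 0, 0, 0, 1, 0, 0, 0], [115], 3, 0),
  ([0, -1, 0, 0, 0, 0, 0, 0, 0], [1, 1, 0, 0, 1, 0, 0, 0, 0], [111], 3, 0),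
  ([0, -1, 0, 0, 0, 0, 0, 0, 0], [1, 1, 0, 1, 0, 0, 0, 0, 0], [106], 3, 0),
  ([0, -1, 0, 0, 0, 0, 0, 0, 0], [1, 1, 1, 0, 0, 0, 0, 0, 0], [100], 3, 0),
  ([0, -1, 0, 0, 0, 0, 0, 0, 0], [2, 1, 0, 0, 1, 1, 1, 1, 0], [82], 3, 0),
  ([0, -1, 0, 0, 0, 0, 0, 0, 0], [2, 1, 0, 1, 0, 1, 1, 1, 0], [76], 3, 0),
  ([0, -1, 0, 0, 0, 0, 0, 0, 0], [2, 1, 0, 1, 1, 0, 1, 1, 0], [73], 3, 0),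
  ([0, -1, 0, 0, 0, 0, 0, 0, 0], [2, 1, 0, 1, 1, 1, 0, 1, 0], [72], 3, 0),
  ([0, -1, 0, 0, 0, 0, 0, 0, 0], [2, 1, 0, 1, 1, 1, 1, 0, 0], [118, 72], 3, 0),
  ([0, -1, 0, 0, 0, 0, 0, 0, 0], [2, 1, 1, 0, 0, 1, 1, 1, 0], [66], 3, 0),
  ([0, -1, 0, 0, 0, 0, 0, 0, 0], [2, 1, 1, 0, 1, 0, 1, 1, 0], [63], 3, 0),
  ([0, -1, 0, 0, 0, 0, 0, 0, 0], [2, 1, 1, 0, 1, 1, 0, 1, 0], [62], 3, 0),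
  ([0, -1, 0, 0, 0, 0, 0, 0, 0], [2, 1, 1, 0, 1, 1, 1, 0, 0], [118, 62], 3, 0),
  ([0, -1, 0, 0, 0, 0, 0, 0, 0], [2, 1, 1, 1, 0, 0, 1, 1, 0], [59], 3, 0),
  ([0, -1, 0, 0, 0, 0, 0, 0, 0], [2, 1, 1, 1, 0, 1, 0, 1, 0], [58], 3, 0),
  ([0, -1, 0, 0, 0, 0, 0, 0, 0], [2, 1, 1, 1, 0, 1, 1, 0, 0], [118, 58], 3, 0),
  ([0, -1, 0, 0, 0, 0, 0, 0, 0], [2, 1, 1, 1, 1, 0, 0, 1, 0], [57], 3, 0),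
  ([0, -1, 0, 0, 0, 0, 0, 0, 0], [2, 1, 1, 1, 1, 0, 1, 0, 0], [118, 57], 3, 0),
  ([0, -1, 0, 0, 0, 0, 0, 0, 0], [2, 1, 1, 1, 1, 1, 0, 0, 0], [115, 57], 3, 0),
  ([0, -1, 0, 0, 0, 0, 0, 0, 0], [3, 1, 1, 1, 1, 1, 1, 2, 0], [29], 3, 0),
  ([0, -1, 0, 0, 0, 0, 0, 0, 0], [3, 1, 1, 1, 1, 1, 2, 1, 0], [118, 29], 3, 0),
  ([0, -1, 0, 0, 0, 0, 0, 0, 0], [3, 1, 1, 1, 1, 2, 1, 1, 0], [115, 29], 3, 0),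
  ([0, -1, 0, 0, 0, 0, 0, 0, 0], [3, 1, 1, 1, 2, 1, 1, 1, 0], [111, 29], 3, 0),
  ([0, -1, 0, 0, 0, 0, 0, 0, 0], [3, 1, 1, 2, 1, 1, 1, 1, 0], [106, 29], 3, 0),
  ([0, -1, 0, 0, 0, 0, 0, 0, 0], [3, 1, 2, 1, 1, 1, 1, 1, 0], [100, 29], 3, 0),
  ([0, -1, 0, 0, 0, 0, 0, 0, 0], [3, 2, 0, 1, 1, 1, 1, 1, 1], [100, 29], 3, 1),
  ([0, -1, 0, 0, 0, 0, 0, 0, 0], [3, 2, 1, 0, 1, 1, 1, 1, 1], [106, 29], 3, 1),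
  ([0, -1, 0, 0, 0, 0, 0, 0, 0], [3, 2, 1, 1, 0, 1, 1, 1, 1], [111, 29], 3, 1),
  ([0, -1, 0, 0, 0, 0, 0, 0, 0], [3, 2, 1, 1, 1, 0, 1, 1, 1], [115, 29], 3, 1),
  ([0, -1, 0, 0, 0, 0, 0, 0, 0], [3, 2, 1, 1, 1, 1, 0, 1, 1], [118, 29], 3, 1),
  ([0, -1, 0, 0, 0, 0, 0, 0, 0], [3, 2, 1, 1, 1, 1, 1, 0, 1], [29], 3, 1),
  ([0, -1, 0, 0, 0, 0, 0, 0, 0], [4, 2, 1, 1, 1, 1, 2, 2, 1], [115, 57], 3, 1),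
  ([0, -1, 0, 0, 0, 0, 0, 0, 0], [4, 2, 1, 1, 1, 2, 1, 2, 1], [118, 57], 3, 1),
  ([0, -1, 0, 0, 0, 0, 0, 0, 0], [4, 2, 1, 1, 1, 2, 2, 1, 1], [57], 3, 1),
  ([0, -1, 0, 0, 0, 0, 0, 0, 0], [4, 2, 1, 1, 2, 1, 1, 2, 1], [118, 58], 3, 1),
  ([0, -1, 0, 0, 0, 0, 0, 0, 0], [4, 2, 1, 1, 2, 1, 2, 1, 1], [58], 3, 1),
  ([0, -1, 0, 0, 0, 0, 0, 0, 0], [4, 2, 1, 1, 2, 2, 1, 1, 1], [59], 3, 1),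
  ([0, -1, 0, 0, 0, 0, 0, 0, 0], [4, 2, 1, 2, 1, 1, 1, 2, 1], [118, 62], 3, 1),
  ([0, -1, 0, 0, 0, 0, 0, 0, 0], [4, 2, 1, 2, 1, 1, 2, 1, 1], [62], 3, 1),
  ([0, -1, 0, 0, 0, 0, 0, 0, 0], [4, 2, 1, 2, 1, 2, 1, 1, 1], [63], 3, 1),
  ([0, -1, 0, 0, 0, 0, 0, 0, 0], [4, 2, 1, 2, 2, 1, 1, 1, 1], [66], 3, 1),
  ([0, -1, 0, 0, 0, 0, 0, 0, 0], [4, 2, 2, 1, 1, 1, 1, 2, 1], [118, 72], 3, 1),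
  ([0, -1, 0, 0, 0, 0, 0, 0, 0], [4, 2, 2, 1, 1, 1, 2, 1, 1], [72], 3, 1),
  ([0, -1, 0, 0, 0, 0, 0, 0, 0], [4, 2, 2, 1, 1, 2, 1, 1, 1], [73], 3, 1),
  ([0, -1, 0, 0, 0, 0, 0, 0, 0], [4, 2, 2, 1, 2, 1, 1, 1, 1], [76], 3, 1),
  ([0, -1, 0, 0, 0, 0, 0, 0, 0], [4, 2, 2, 2, 1, 1, 1, 1, 1], [82], 3, 1),
  ([0, -1, 0, 0, 0, 0, 0, 0, 0], [5, 2, 1, 2, 2, 2, 2, 2, 1], [100], 3, 1),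
  ([0, -1, 0, 0, 0, 0, 0, 0, 0], [5, 2, 2, 1, 2, 2, 2, 2, 1], [106], 3, 1),
  ([0, -1, 0, 0, 0, 0, 0, 0, 0], [5, 2, 2, 2, 1, 2, 2, 2, 1], [111], 3, 1),
  ([0, -1, 0, 0, 0, 0, 0, 0, 0], [5, 2, 2, 2, 2, 1, 2, 2, 1], [115], 3, 1),
  ([0, -1, 0, 0, 0, 0, 0, 0, 0], [5, 2, 2, 2, 2, 2, 1, 2, 1], [118], 3, 1),
  ([0, -1, 0, 0, 0, 0, 0, 0, 0], [5, 2, 2, 2, 2, 2, 2, 1, 1], [], 3, 1),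
  ([0, -1, 0, 0, 0, 0, 0, 0, 0], [6, 3, 2, 2, 2, 2, 2, 2, 2], [], 0, 4),
  ([1, 0, 0, 0, 0, 0, 0, 1, 1], [0, 0, 0, 0, 0, 0, 0, 0, -1], [], 2, 2),
  ([1, 0, 0, 0, 0, 0, 0, 1, 1], [2, 0, 1, 1, 1, 1, 1, 0, 0], [8], 3, 3),
  ([1, 0, 0, 0, 0, 0, 0, 1, 1], [2, 1, 0, 1, 1, 1, 1, 0, 0], [98, 8], 3, 3),
  ([1, 0, 0, 0, 0, 0, 0, 1, 1], [2, 1, 1, 0, 1, 1, 1, 0, 0], [97, 8], 3, 3),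
  ([1, 0, 0, 0, 0, 0, 0, 1, 1], [2, 1, 1, 1, 0, 1, 1, 0, 0], [96, 8], 3, 3),
  ([1, 0, 0, 0, 0, 0, 0, 1, 1], [2, 1, 1, 1, 1, 0, 1, 0, 0], [95, 8], 3, 3),
  ([1, 0, 0, 0, 0, 0, 0, 1, 1], [2, 1, 1, 1, 1, 1, 0, 0, 0], [94, 8], 3, 3),
  ([1, 0, 0, 0, 0, 0, 0, 1, 1], [3, 1, 1, 1, 1, 1, 2, 1, 0], [54, 8], 3, 3),
  ([1, 0, 0, 0, 0, 0, 0, 1, 1], [3, 1, 1, 1, 1, 2, 1, 1, 0], [52, 8], 3, 3),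
  ([1, 0, 0, 0, 0, 0, 0, 1, 1], [3, 1, 1, 1, 2, 1, 1, 1, 0], [49, 8], 3, 3),
  ([1, 0, 0, 0, 0, 0, 0, 1, 1], [3, 1, 1, 2, 1, 1, 1, 1, 0], [45, 8], 3, 3),
  ([1, 0, 0, 0, 0, 0, 0, 1, 1], [3, 1, 2, 1, 1, 1, 1, 1, 0], [40, 8], 3, 3),
  ([1, 0, 0, 0, 0, 0, 0, 1, 1], [3, 2, 1, 1, 1, 1, 1, 1, 0], [98, 40, 8], 3, 3),
  ([1, 0, 0, 0, 0, 0, 0, 1, 1], [5, 2, 2, 2, 2, 2, 2, 1, 1], [], 2, 4),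
  ([3, 0, 1, 1, 1, 1, 1, 1, 2], [0, 0, 0, 0, 0, 0, 0, 0, -1], [98, 40, 8], 0, 3),
  ([3, 0, 1, 1, 1, 1, 1, 1, 2], [3, 2, 1, 1, 1, 1, 1, 1, 0], [98, 40, 8], 0, 5),
  ([6, 2, 2, 2, 2, 2, 2, 2, 3], [0, 0, 0, 0, 0, 0, 0, 0, -1], [], 1, 3)]

theorem ttab_e8_eq : tripPairs (reps_e8.flatMap (·.2)) (tab_e8.map (·.1)) tsum_e8 =
    ttab_e8.map (fun e => (e.1, e.2.1)) := by decide +kernel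

theorem ttab_e8_check : ttab_e8.all (checkTriple roots_e8 base_e8 tsum_e8 trips_e8) = true := by
  decide +kernel

end Groth.Agent.Lib.Helper8.DP
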