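import Mathlib
import Groth.Agent.Lib.Helper8.DPT8

set_option autoImplicit false
set_option linter.unusedSectionVars false
set_option backward.isDefEq.respectTransparency.types false
set_option maxRecDepth 100000

/-!
# The del Pezzo lattice for `δ = 8`: the four orbits of triples
-/

namespace Groth.Agent.Lib.Helper8.DP

open W4c3severiratdp

/-- the representative triples -/
def rho (j : Fin 4) (i : Fin 3) : DP 8 := ofL 8 ((trips_e8.getD (j : ℕ) []).getD (i : ℕ) [])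

lemma rho_isExcL : ∀ (j : Fin 4) (i : Fin 3),
    isExcL 8 ((trips_e8.getD (j : ℕ) []).getD (i : ℕ) []) = true := by decide

lemma rho_sum : ∀ j : Fin 4, rho j 0 + rho j 1 + rho j 2 = ofL 8 tsum_e8 := by decide

lemma tsum_eq : ofL 8 tsum_e8 = ofL 8 base_e8 - (2 : ℕ) • canon 8 := by decide

/-- the invariant separating the four orbits -/
def invT (j : Fin 4) : ℤ :=
  ∑ i : Fin 3, (formL ((trips_e8.getD (j : ℕ) []).getD (i : ℕ) []) base_e8) ^ 2

lemma invT_injective : Function.Injective invT := by decide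

lemma rho_length (j : Fin 4) (i : Fin 3) :
    ((trips_e8.getD (j : ℕ) []).getD (i : ℕ) []).length = 8 + 1 := by
  have := rho_isExcL j i
  unfold isExcL at this
  simp only [Bool.and_eq_true, beq_iff_eq] at this
  exact this.1.1

theorem triples_main (L : DP 8) (hL : IsExc L) :
    ∃ r : Fin 4 → (Fin 3 → DP 8),
      (∀ j, (∀ i, IsExc (r j i)) ∧ r j 0 + r j 1 + r j 2 = L - 2 • canon 8) ∧
      (∀ j j', (∃ g : DP 8 ≃ₗ[ℤ] DP 8, IsWeyl g ∧ g L = L ∧
        ∃ σ : Equiv.Perm (Fin 3), ∀ i, g (r j (σ i)) = r j' i) → j = j') ∧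
      ∀ t : Fin 3 → DP 8, (∀ i, IsExc (t i)) → t 0 + t 1 + t 2 = L - 2 • canon 8 →
        ∃ j, ∃ g : DP 8 ≃ₗ[ℤ] DP 8, IsWeyl g ∧ g L = L ∧
          ∃ σ : Equiv.Perm (Fin 3), ∀ i, g (t (σ i)) = r j i := by
  obtain ⟨⟨g₀, hg₀, hg₀L⟩, -⟩ :=
    exists_weyl_of_check tab_e8_check L (tab_e8_eq ▸ mem_excL le_rfl L hL)
  have hg₀s : IsWeyl g₀.symm := IsWeyl.symm hg₀
  have hLs : g₀.symm (ofL 8 base_e8) = L := by rw [← hg₀L, LinearEquiv.symm_apply_apply]
  have hbase_len : base_e8.length = 8 + 1 := by decide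
  refine ⟨fun j i => g₀.symm (rho j i), ?_, ?_, ?_⟩
  · intro j
    refine ⟨fun i => IsWeyl.isExc hg₀s (isExc_of_isExcL _ (rho_isExcL j i)), ?_⟩
    rw [← map_add, ← map_add, rho_sum, tsum_eq, map_sub, map_nsmul, hLs, hg₀s.2]
  · rintro j j' ⟨g, hg, hgL, σ, hσ⟩
    apply invT_injective
    have hσ' : ∀ i, g (g₀.symm (rho j (σ i))) = g₀.symm (rho j' i) := hσ
    have hform : ∀ (j : Fin 4) (i : Fin 3), form (g₀.symm (rho j i)) L =
        formL ((trips_e8.getD (j : ℕ) []).getD (i : ℕ) []) base_e8 := by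
      intro j i
      conv_lhs => rw [← hLs]
      rw [hg₀s.1]
      unfold rho
      rw [form_ofL _ _ (rho_length j i) hbase_len]
    unfold invT
    simp only [← hform]
    rw [← Equiv.sum_comp σ (fun i => (form (g₀.symm (rho j i)) L) ^ 2)]
    refine Finset.sum_congr rfl fun i _ => ?_
    rw [← hσ' i]
    conv_rhs => rw [← hgL]
    rw [hg.1]
  · intro t ht hsum
    have ht' : ∀ i, IsExc (g₀ (t i)) := fun i => IsWeyl.isExc hg₀ (ht i)
    have hsum' : g₀ (t 0) + g₀ (t 1) + g₀ (t 2) = ofL 8 tsum_e8 := by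
      rw [← map_add, ← map_add, hsum, map_sub, map_nsmul, hg₀L, hg₀.2, tsum_eq]
    obtain ⟨j, hj, g, hg, hgE, σ, hσ⟩ := triple_std tab_e8_check tab_e8_eq (by decide) tsum_eq
      ttab_e8_eq ttab_e8_check (fun i => g₀ (t i)) ht' hsum'
    refine ⟨⟨j, hj⟩, (g₀.trans g).trans g₀.symm, IsWeyl.trans (IsWeyl.trans hg₀ hg) hg₀s, ?_, σ,
      fun i => ?_⟩
    · simp only [LinearEquiv.trans_apply]
      rw [hg₀L, hgE, hLs]
    · simp only [LinearEquiv.trans_apply]
      congr 1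
      rw [← ofL_toL (g (g₀ (t (σ i)))), hσ i]
      rfl

end Groth.Agent.Lib.Helper8.DP
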