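import Mathlib
import Groth.Prelude.Def_W4bk4grassmannianPl
import Groth.Agent.Lib.Helper8.Gr8
set_option backward.isDefEq.respectTransparency.types false
set_option linter.unusedSectionVars false
set_option autoImplicit false
universe u

namespace Groth.Agent.Lib.Helper8.Gr
open W4bk4grassmannian MvPolynomial
open scoped MonomialOrder

variable {K : Type u} [CommRing K] {d n : ℕ}

/-- The two-step chain of a pair. -/
def pc (p : Idx d n × Idx d n) : Fin 2 → Idx d n := ![p.1, p.2]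

theorem pc_antitone (p : Idx d n × Idx d n) (h : p.2 ≤ p.1) : Antitone (pc p) := by
  intro x y hxy
  fin_cases x <;> fin_cases y
  · exact le_refl _
  · exact h
  · exfalso; simp [Fin.le_def] at hxy
  · exact le_refl _

theorem chainMon_pc (p : Idx d n × Idx d n) : chainMon K (pc p) = X p.1 * X p.2 := by
  unfold chainMon
  rw [Fin.prod_univ_two]
  rfl

theorem Eexp_pc (p : Idx d n × Idx d n) : Eexp (pc p) = Dexp p.1.1 + Dexp p.2.1 := by
  unfold Eexp
  rw [Fin.sum_univ_two]
  rfl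

theorem pc_inj (hd : 0 < d) (p p' : Idx d n × Idx d n) (h : p.2 ≤ p.1) (h' : p'.2 ≤ p'.1)
    (he : Eexp (pc p) = Eexp (pc p')) : p = p' := by
  have := Eexp_inj hd (pc p) (pc p') (pc_antitone p h) (pc_antitone p' h') he
  simp only [Sigma.mk.injEq, heq_eq_eq, true_and] at this
  have h0 := congrFun this 0
  have h1 := congrFun this 1
  exact Prod.ext h0 h1

theorem key_sup_add_inf (τ φ : Idx d n) :
    key (W4bk4grassmannian.sup τ φ) + key (W4bk4grassmannian.inf τ φ) = key τ + key φ := by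
  unfold key W4bk4grassmannian.sup W4bk4grassmannian.inf
  simp only
  rw [← Finset.sum_add_distrib, ← Finset.sum_add_distrib]
  apply Finset.sum_congr rfl
  intro t _
  rcases le_total (τ.1 t) (φ.1 t) with h | h
  · rw [max_eq_right h, min_eq_left h, add_comm]
  · rw [max_eq_left h, min_eq_right h]

theorem Dexp_sup_add_inf (τ φ : Idx d n) :
    Dexp (W4bk4grassmannian.sup τ φ).1 + Dexp (W4bk4grassmannian.inf τ φ).1
      = Dexp τ.1 + Dexp φ.1 := by
  unfold Dexp W4bk4grassmannian.sup W4bk4grassmannian.inf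
  simp only
  rw [← Finset.sum_add_distrib, ← Finset.sum_add_distrib]
  apply Finset.sum_congr rfl
  intro t _
  rcases le_total (τ.1 t) (φ.1 t) with h | h
  · rw [max_eq_right h, min_eq_left h, add_comm]
  · rw [max_eq_left h, min_eq_right h]

theorem inf_le_sup' (τ φ : Idx d n) : W4bk4grassmannian.inf τ φ ≤ W4bk4grassmannian.sup τ φ :=
  fun t => le_trans (min_le_left _ _) (le_max_left _ _)

section Skew

variable [Nontrivial K]

/-- Pairs `(α, β)` with `β ≤ α` of total weight `κ`. -/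
abbrev Pr (d n κ : ℕ) : Type := {p : Idx d n × Idx d n // p.2 ≤ p.1 ∧ key p.1 + key p.2 = κ}

/-- The quadratic standard monomial of a pair. -/
noncomputable def vp (K : Type u) [CommRing K] {d n κ : ℕ} (p : Pr d n κ) : PlRing K d n :=
  X p.1.1 * X p.1.2

theorem StdSet_two_le (κ : ℕ) :
    Submodule.span K (StdSet K (d := d) (n := n) 2 κ) ≤ Submodule.span K (Set.range (vp K (κ := κ))) := by
  apply Submodule.span_mono
  rintro f ⟨c, hc, hk, rfl⟩
  rw [Fin.sum_univ_two] at hk
  refine ⟨⟨(c 0, c 1), hc (by simp [Fin.le_def]), hk⟩, ?_⟩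
  unfold vp chainMon
  rw [Fin.prod_univ_two]

/-- Vanishing of coefficients of pairs under a pattern map that kills the left side. -/
theorem coeff_zero_of_psi (hd : 0 < d) {κ : ℕ} (P : Fin n → Fin d → Prop)
    [∀ s t, Decidable (P s t)]
    (hP : ∀ θ : Idx d n, ¬ Good P θ → psi K P (X θ) = 0)
    (a : Pr d n κ →₀ K) (F : PlRing K d n) (hF : psi K P F = 0)
    (hrel : F - (a.sum fun p c => c • vp K p) ∈ plIdealTop (d := d) (n := n) K)
    (good : Pr d n κ → Prop) (hgood : ∀ p, good p ↔ (Good P p.1.1 ∧ Good P p.1.2)) :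
    ∀ p, good p → a p = 0 := by
  classical
  intro p₀ hp₀
  by_contra hne
  have h0 := psi_plIdealTop P _ hrel
  rw [map_sub, hF, zero_sub, neg_eq_zero] at h0
  unfold Finsupp.sum at h0
  rw [map_sum] at h0
  simp only [map_smul] at h0
  set s₁ := a.support.filter (fun p => good p) with hs₁
  have h1 : ∑ p ∈ s₁, a p • psi K P (vp K p) = 0 := by
    rw [← h0]
    apply Finset.sum_subset (Finset.filter_subset _ _)
    intro p hp hp1
    have hng : ¬ good p := fun hh => hp1 (Finset.mem_filter.mpr ⟨hp, hh⟩)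
    rw [hgood] at hng
    have : psi K P (vp K p) = 0 := by
      unfold vp
      rw [map_mul]
      by_cases h1 : Good P p.1.1
      · have h2 : ¬ Good P p.1.2 := fun h2 => hng ⟨h1, h2⟩
        rw [hP _ h2, mul_zero]
      · rw [hP _ h1, zero_mul]
    rw [this, smul_zero]
  have hmem : p₀ ∈ s₁ := Finset.mem_filter.mpr ⟨Finsupp.mem_support_iff.mpr hne, hp₀⟩
  have hvp : ∀ p : Pr d n κ, vp K p = chainMon K (pc p.1) := fun p => (chainMon_pc p.1).symm
  have hgd : ∀ p ∈ s₁, ∀ k, Good P (pc p.1 k) := by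
    intro p hp k
    have := (hgood p).mp (Finset.mem_filter.mp hp).2
    fin_cases k
    · exact this.1
    · exact this.2
  have := zero_of_combination (mo d n) (fun p : Pr d n κ => psi K P (vp K p)) s₁ ?_ ?_ a h1 p₀ hmem
  · exact hne this
  · intro p hp
    simp only [hvp]
    exact monic_psi_chainMon P _ (hgd p hp)
  · intro p hp p' hp' hdeg
    simp only [hvp] at hdeg
    rw [degree_psi_chainMon P _ (hgd p (Finset.mem_coe.mp hp)),
      degree_psi_chainMon P _ (hgd p' (Finset.mem_coe.mp hp'))] at hdeg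
    exact Subtype.ext (pc_inj hd p.1 p'.1 p.2.1 p'.2.1 hdeg)

/-- Shape of the straightening relation of a skew pair (modulo the shuffle relations). -/
theorem skew_straighten (hd : 0 < d) (τ φ : Idx d n) (h₁ : ¬ τ ≤ φ) (h₂ : ¬ φ ≤ τ) :
    ∃ g ∈ Submodule.span K {f : PlRing K d n | ∃ α β : Idx d n,
        β ≤ α ∧ W4bk4grassmannian.sup τ φ < α ∧ β < W4bk4grassmannian.inf τ φ ∧
          f = X α * X β},
      X τ * X φ - X (W4bk4grassmannian.sup τ φ) * X (W4bk4grassmannian.inf τ φ) - g ∈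
        plIdealTop (d := d) (n := n) K := by
  classical
  set κ := key τ + key φ with hκ
  obtain ⟨g, hg, hgI⟩ := straighten (K := K) (τ ::ₘ φ ::ₘ (0 : Multiset (Idx d n)))
  have e1 : Multiset.card (τ ::ₘ φ ::ₘ (0 : Multiset (Idx d n))) = 2 := by simp
  have e2 : ((τ ::ₘ φ ::ₘ (0 : Multiset (Idx d n))).map key).sum = κ := by simp [hκ]
  have e3 : ((τ ::ₘ φ ::ₘ (0 : Multiset (Idx d n))).map (X : Idx d n → PlRing K d n)).prod
      = X τ * X φ := by simp
  rw [e1, e2] at hg
  rw [e3] at hgI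
  have hg' := StdSet_two_le κ hg
  rw [Finsupp.mem_span_range_iff_exists_finsupp] at hg'
  obtain ⟨a, rfl⟩ := hg'
  -- C1
  have C1 : ∀ p, a p ≠ 0 → τ ≤ p.1.1 ∧ φ ≤ p.1.1 := by
    intro p₀ hp₀
    by_contra hcon
    apply hp₀
    apply coeff_zero_of_psi hd (PS p₀.1.1) (fun θ hθ => psi_PS_eq_zero _ θ hθ) a (X τ * X φ) ?_ hgI
      (fun p => p.1.1 ≤ p₀.1.1 ∧ p.1.2 ≤ p₀.1.1) (fun p => Iff.rfl) p₀ ⟨le_refl _, p₀.2.1⟩
    rw [map_mul]
    by_cases h : τ ≤ p₀.1.1
    · have : ¬ φ ≤ p₀.1.1 := fun h' => hcon ⟨h, h'⟩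
      rw [psi_PS_eq_zero _ φ this, mul_zero]
    · rw [psi_PS_eq_zero _ τ h, zero_mul]
  -- C2
  have C2 : ∀ p, a p ≠ 0 → p.1.2 ≤ τ ∧ p.1.2 ≤ φ := by
    intro p₀ hp₀
    by_contra hcon
    apply hp₀
    apply coeff_zero_of_psi hd (PO p₀.1.2) (fun θ hθ => psi_PO_eq_zero _ θ hθ) a (X τ * X φ) ?_ hgI
      (fun p => p₀.1.2 ≤ p.1.1 ∧ p₀.1.2 ≤ p.1.2) (fun p => Iff.rfl) p₀ ⟨p₀.2.1, le_refl _⟩
    rw [map_mul]
    by_cases h : p₀.1.2 ≤ τ
    · have : ¬ p₀.1.2 ≤ φ := fun h' => hcon ⟨h, h'⟩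
      rw [psi_PO_eq_zero _ φ this, mul_zero]
    · rw [psi_PO_eq_zero _ τ h, zero_mul]
  -- C3
  have hpsi : psi K (PT (n := n) (d := d)) (X τ * X φ)
      = ∑ p ∈ a.support, a p • psi K (PT (n := n) (d := d)) (vp K p) := by
    have h0 := psi_plIdealTop (PT (n := n) (d := d)) _ hgI
    rw [map_sub, sub_eq_zero] at h0
    rw [h0]
    unfold Finsupp.sum
    rw [map_sum]
    simp only [map_smul]
  have hvp : ∀ p : Pr d n κ, vp K p = chainMon K (pc p.1) := fun p => (chainMon_pc p.1).symm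
  have hgdT : ∀ (q : Idx d n × Idx d n) (k : Fin 2), Good (PT (n := n) (d := d)) (pc q k) :=
    fun q k => good_PT _
  have hmonicF : (mo d n).Monic (psi K (PT (n := n) (d := d)) (X τ * X φ)) := by
    rw [← chainMon_pc (K := K) (τ, φ)]
    exact monic_psi_chainMon _ _ (hgdT _)
  have hdegF : (mo d n).degree (psi K (PT (n := n) (d := d)) (X τ * X φ))
      = Eexp (pc (W4bk4grassmannian.sup τ φ, W4bk4grassmannian.inf τ φ)) := by
    rw [← chainMon_pc (K := K) (τ, φ), degree_psi_chainMon _ _ (hgdT _), Eexp_pc, Eexp_pc]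
    exact (Dexp_sup_add_inf τ φ).symm
  have hlead := lead_unique (mo d n) (fun p : Pr d n κ => psi K (PT (n := n) (d := d)) (vp K p))
    a.support ?_ ?_ a (by rw [← hpsi]; exact hmonicF)
  rotate_left
  · intro p _
    simp only [hvp]
    exact monic_psi_chainMon _ _ (hgdT _)
  · intro p _ p' _ hdeg
    simp only [hvp] at hdeg
    rw [degree_psi_chainMon _ _ (hgdT _), degree_psi_chainMon _ _ (hgdT _)] at hdeg
    exact Subtype.ext (pc_inj hd p.1 p'.1 p.2.1 p'.2.1 hdeg)
  obtain ⟨p₁, hp₁, hap₁, hdeg₁⟩ := hlead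
  rw [← hpsi, hdegF] at hdeg₁
  simp only [hvp] at hdeg₁
  rw [degree_psi_chainMon _ _ (hgdT _)] at hdeg₁
  have hp₁eq : p₁.1 = (W4bk4grassmannian.sup τ φ, W4bk4grassmannian.inf τ φ) :=
    pc_inj hd _ _ p₁.2.1 (inf_le_sup' τ φ) hdeg₁
  -- assemble
  refine ⟨∑ p ∈ a.support.erase p₁, a p • vp K p, ?_, ?_⟩
  · apply Submodule.sum_mem
    intro p hp
    apply Submodule.smul_mem
    apply Submodule.subset_span
    rw [Finset.mem_erase] at hp
    have hap : a p ≠ 0 := Finsupp.mem_support_iff.mp hp.2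
    obtain ⟨c1, c1'⟩ := C1 p hap
    obtain ⟨c2, c2'⟩ := C2 p hap
    have hsupa : W4bk4grassmannian.sup τ φ ≤ p.1.1 := fun t => max_le (c1 t) (c1' t)
    have hinfb : p.1.2 ≤ W4bk4grassmannian.inf τ φ := fun t => le_min (c2 t) (c2' t)
    have hkk : key p.1.1 + key p.1.2
        = key (W4bk4grassmannian.sup τ φ) + key (W4bk4grassmannian.inf τ φ) := by
      rw [p.2.2, key_sup_add_inf]
    have hne1 : W4bk4grassmannian.sup τ φ ≠ p.1.1 ∨ p.1.2 ≠ W4bk4grassmannian.inf τ φ := by
      by_contra hcon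
      push Not at hcon
      apply hp.1
      apply Subtype.ext
      rw [hp₁eq]
      exact Prod.ext hcon.1.symm hcon.2
    have hboth : W4bk4grassmannian.sup τ φ ≠ p.1.1 ∧ p.1.2 ≠ W4bk4grassmannian.inf τ φ := by
      constructor
      · intro heq
        have hk : key (W4bk4grassmannian.inf τ φ) ≤ key p.1.2 := by rw [← heq] at hkk; omega
        have := eq_of_le_of_key_le hinfb hk
        rcases hne1 with h | h
        · exact h heq
        · exact h this
      · intro heq
        have hk : key p.1.1 ≤ key (W4bk4grassmannian.sup τ φ) := by rw [heq] at hkk; omega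
        have := eq_of_le_of_key_le hsupa hk
        rcases hne1 with h | h
        · exact h this
        · exact h heq
    exact ⟨p.1.1, p.1.2, p.2.1, lt_of_le_of_ne hsupa hboth.1, lt_of_le_of_ne hinfb hboth.2, rfl⟩
  · have hsplit : (a.sum fun p c => c • vp K p)
        = X (W4bk4grassmannian.sup τ φ) * X (W4bk4grassmannian.inf τ φ)
          + ∑ p ∈ a.support.erase p₁, a p • vp K p := by
      unfold Finsupp.sum
      rw [← Finset.add_sum_erase _ _ hp₁]
      simp only [hap₁, one_smul]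
      congr 1
      unfold vp
      rw [hp₁eq]
    have : X τ * X φ - X (W4bk4grassmannian.sup τ φ) * X (W4bk4grassmannian.inf τ φ)
        - ∑ p ∈ a.support.erase p₁, a p • vp K p
        = X τ * X φ - (a.sum fun p c => c • vp K p) := by
      rw [hsplit]; ring
    rw [this]
    exact hgI

end Skew

end Groth.Agent.Lib.Helper8.Gr
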