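import Mathlib
import Groth.Prelude.Def_W4bk4grassmannianPl
import Groth.Agent.Lib.Helper8.Gr10
set_option backward.isDefEq.respectTransparency.types false
set_option linter.unusedSectionVars false
set_option autoImplicit false
universe u

namespace Groth.Agent.Lib.Helper8.Gr
open W4bk4grassmannian MvPolynomial

section StraightenQ

variable {K : Type u} [CommRing K] {d n : ℕ}

/-- Standard monomials of degree `m` whose sum of squared keys is at least `Q`. -/
def StdSetQ (K : Type u) [CommRing K] {d n : ℕ} (m Q : ℕ) : Set (PlRing K d n) :=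
  {f | ∃ c : Fin m → Idx d n, Antitone c ∧ Q ≤ ∑ k, key (c k) ^ 2 ∧ f = chainMon K c}

theorem StdSetQ_mono {m Q Q' : ℕ} (h : Q ≤ Q') :
    StdSetQ K (d := d) (n := n) m Q' ⊆ StdSetQ K m Q := by
  rintro f ⟨c, hc, hq, rfl⟩
  exact ⟨c, hc, le_trans h hq, rfl⟩

theorem list_stdQ (l : List (Idx d n)) (hpw : l.Pairwise (fun a b => b ≤ a)) :
    (l.map (X : Idx d n → PlRing K d n)).prod
      ∈ StdSetQ K l.length (l.map fun a => key a ^ 2).sum := by
  refine ⟨fun k => l[k.val], ?_, ?_, ?_⟩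
  · intro x y hxy
    rcases eq_or_lt_of_le hxy with h | h
    · rw [h]
    · exact (List.pairwise_iff_getElem.mp hpw) x.val y.val x.isLt y.isLt (Fin.lt_def.mp h)
  · exact le_of_eq (Fin.sum_univ_fun_getElem l (fun a => key a ^ 2)).symm
  · unfold chainMon
    exact (Fin.prod_univ_fun_getElem l (X : Idx d n → PlRing K d n)).symm

theorem sorted_caseQ (s : Multiset (Idx d n)) (h : ∀ a ∈ s, ∀ b ∈ s, a ≤ b ∨ b ≤ a) :
    (s.map (X : Idx d n → PlRing K d n)).prod ∈ StdSetQ K (Multiset.card s) (Phi s) := by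
  obtain ⟨l, rfl⟩ := Quot.exists_rep s
  let r : Idx d n → Idx d n → Prop := fun a b => key b ≤ key a
  haveI : DecidableRel r := fun a b => Nat.decLe _ _
  haveI : Std.Total r := ⟨fun a b => le_total _ _⟩
  haveI : IsTrans (Idx d n) r := ⟨fun a b c hab hbc => le_trans hbc hab⟩
  have hperm := List.perm_insertionSort r l
  have hpw := List.pairwise_insertionSort r l
  have hs : (Quot.mk _ l : Multiset (Idx d n)) = ((l.insertionSort r : List (Idx d n)) : Multiset (Idx d n)) :=
    (Multiset.coe_eq_coe.mpr hperm).symm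
  rw [hs] at h ⊢
  unfold Phi
  simp only [Multiset.map_coe, Multiset.prod_coe, Multiset.sum_coe, Multiset.coe_card]
  apply list_stdQ
  apply hpw.imp_of_mem
  intro a b ha hb hab
  rcases h a (Multiset.mem_coe.mpr ha) b (Multiset.mem_coe.mpr hb) with h1 | h1
  · rw [eq_of_le_of_key_le h1 hab]
  · exact h1

theorem straighten_stepQ (i j : Idx d n) (s' : Multiset (Idx d n)) (hji : ¬ j ≤ i)
    (hk : key j ≤ key i)
    (IH : ∀ s'' : Multiset (Idx d n), Multiset.card s'' = Multiset.card s' + 2 →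
      Phi (i ::ₘ j ::ₘ s') < Phi s'' →
      ∃ g ∈ Submodule.span K (StdSetQ K (Multiset.card s' + 2) (Phi s'')),
        (s''.map X).prod - g ∈ plIdealTop (d := d) (n := n) K) :
    ∃ g ∈ Submodule.span K (StdSetQ K (Multiset.card s' + 2) (Phi (i ::ₘ j ::ₘ s') + 1)),
      ((i ::ₘ j ::ₘ s').map X).prod - g ∈ plIdealTop (d := d) (n := n) K := by
  obtain ⟨r, hp⟩ := exists_pivot i j hji
  obtain ⟨g₀, hg₀, hrel⟩ := shuffleRel_pivot (K := K) i j r hp
  set M' : PlRing K d n := (s'.map X).prod with hM'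
  have hQ : ∀ g ∈ Submodule.span K (BetterSet K i j),
      ∃ G ∈ Submodule.span K (StdSetQ K (Multiset.card s' + 2) (Phi (i ::ₘ j ::ₘ s') + 1)),
        g * M' - G ∈ plIdealTop (d := d) (n := n) K := by
    intro g hg
    induction hg using Submodule.span_induction with
    | mem g hg =>
      obtain ⟨i', j', hlt, hsum, rfl⟩ := hg
      have hphi : Phi (i ::ₘ j ::ₘ s') < Phi (i' ::ₘ j' ::ₘ s') := by
        rw [Phi_cons, Phi_cons, Phi_cons, Phi_cons]
        have := sq_lemma (key i) (key j) (key i') (key j') hlt hk hsum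
        omega
      obtain ⟨G, hG, hGI⟩ := IH (i' ::ₘ j' ::ₘ s') (by simp) hphi
      refine ⟨G, Submodule.span_mono (StdSetQ_mono (Nat.succ_le_of_lt hphi)) hG, ?_⟩
      have : (X i' * X j' : PlRing K d n) * M' = ((i' ::ₘ j' ::ₘ s').map X).prod := by
        rw [Multiset.map_cons, Multiset.prod_cons, Multiset.map_cons, Multiset.prod_cons, mul_assoc]
      rw [this]; exact hGI
    | zero => exact ⟨0, Submodule.zero_mem _, by simp⟩
    | add x y _ _ hx hy =>
      obtain ⟨G₁, hG₁, h1⟩ := hx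
      obtain ⟨G₂, hG₂, h2⟩ := hy
      refine ⟨G₁ + G₂, Submodule.add_mem _ hG₁ hG₂, ?_⟩
      have : (x + y) * M' - (G₁ + G₂) = (x * M' - G₁) + (y * M' - G₂) := by ring
      rw [this]; exact Ideal.add_mem _ h1 h2
    | smul c x _ hx =>
      obtain ⟨G, hG, h1⟩ := hx
      refine ⟨c • G, Submodule.smul_mem _ c hG, ?_⟩
      have : (c • x) * M' - c • G = C c * (x * M' - G) := by
        rw [smul_eq_C_mul, smul_eq_C_mul]; ring
      rw [this]; exact Ideal.mul_mem_left _ _ h1
  obtain ⟨G, hG, hGI⟩ := hQ g₀ hg₀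
  refine ⟨-G, Submodule.neg_mem _ hG, ?_⟩
  have hmon : ((i ::ₘ j ::ₘ s').map X).prod = (X i * X j : PlRing K d n) * M' := by
    rw [Multiset.map_cons, Multiset.prod_cons, Multiset.map_cons, Multiset.prod_cons, mul_assoc]
  have : ((i ::ₘ j ::ₘ s').map X).prod - -G
      = shuffleRel K i j r * M' - (g₀ * M' - G) := by
    rw [hmon, hrel]; ring
  rw [this]
  exact Ideal.sub_mem _ (Ideal.mul_mem_right _ _ (shuffleRel_mem_plIdealTop i j r hp)) hGI

/-- Decomposition of a multiset with a skew pair. -/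
theorem exists_skew_cons (s : Multiset (Idx d n))
    (hskew : ∃ a ∈ s, ∃ b ∈ s, ¬ a ≤ b ∧ ¬ b ≤ a) :
    ∃ (i j : Idx d n) (s' : Multiset (Idx d n)), s = i ::ₘ j ::ₘ s' ∧ ¬ j ≤ i ∧ ¬ i ≤ j ∧
      key j ≤ key i := by
  obtain ⟨a, ha, b, hb, hab, hba⟩ := hskew
  have hne : b ≠ a := fun h => hab (h ▸ le_refl _)
  obtain ⟨t, rfl⟩ := Multiset.exists_cons_of_mem ha
  have hbt : b ∈ t := by
    rcases Multiset.mem_cons.mp hb with h | h
    · exact absurd h hne
    · exact h
  obtain ⟨s', rfl⟩ := Multiset.exists_cons_of_mem hbt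
  rcases le_total (key b) (key a) with hk | hk
  · exact ⟨a, b, s', rfl, hba, hab, hk⟩
  · exact ⟨b, a, s', Multiset.cons_swap a b s', hab, hba, hk⟩

theorem straightenQ (s : Multiset (Idx d n)) :
    ∃ g ∈ Submodule.span K (StdSetQ K (Multiset.card s) (Phi s)),
      (s.map X).prod - g ∈ plIdealTop (d := d) (n := n) K := by
  induction' hN : (Multiset.card s * (d * n) ^ 2 - Phi s) using Nat.strong_induction_on
    with N IH generalizing s
  by_cases hcomp : ∀ a ∈ s, ∀ b ∈ s, a ≤ b ∨ b ≤ a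
  · exact ⟨_, Submodule.subset_span (sorted_caseQ s hcomp), by simp⟩
  · push Not at hcomp
    obtain ⟨i, j, s', rfl, hji, -, hk⟩ := exists_skew_cons s hcomp
    have e1 : Multiset.card (i ::ₘ j ::ₘ s') = Multiset.card s' + 2 := by simp
    rw [e1] at hN ⊢
    obtain ⟨g, hg, hgI⟩ := straighten_stepQ (K := K) i j s' hji hk (by
      intro s'' hc hphi
      have hle := Phi_le s''
      have hle0 := Phi_le (i ::ₘ j ::ₘ s')
      rw [hc] at hle
      rw [e1] at hle0
      have := IH (Multiset.card s'' * (d * n) ^ 2 - Phi s'') (by rw [hc]; omega) s'' rfl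
      rw [hc] at this
      exact this)
    exact ⟨g, Submodule.span_mono (StdSetQ_mono (Nat.le_succ _)) hg, hgI⟩

theorem straightenQ_skew (s : Multiset (Idx d n))
    (hskew : ∃ a ∈ s, ∃ b ∈ s, ¬ a ≤ b ∧ ¬ b ≤ a) :
    ∃ g ∈ Submodule.span K (StdSetQ K (Multiset.card s) (Phi s + 1)),
      (s.map X).prod - g ∈ plIdealTop (d := d) (n := n) K := by
  obtain ⟨i, j, s', rfl, hji, -, hk⟩ := exists_skew_cons s hskew
  have e1 : Multiset.card (i ::ₘ j ::ₘ s') = Multiset.card s' + 2 := by simp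
  rw [e1]
  apply straighten_stepQ (K := K) i j s' hji hk
  intro s'' hc _
  have := straightenQ (K := K) s''
  rw [hc] at this
  exact this

end StraightenQ

end Groth.Agent.Lib.Helper8.Gr
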