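import Mathlib
set_option backward.isDefEq.respectTransparency.types false
set_option linter.unusedSectionVars false
set_option autoImplicit false
universe u v

namespace Groth.Agent.Lib.Helper8.Rees
open Polynomial

section Fil

variable {K : Type u} [Field K] {A : Type u} [CommRing A] [Algebra K A] {ι : Type v}
  (b : Module.Basis ι K A) (wt : ι → ℕ)

/-- The filtration spanned by the basis vectors of bounded weight. -/
def Fil (i : ℕ) : Submodule K A := Submodule.span K (b '' {c | wt c ≤ i})

theorem Fil_mono {i j : ℕ} (h : i ≤ j) : Fil b wt i ≤ Fil b wt j :=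
  Submodule.span_mono (Set.image_mono (fun _ hc => le_trans hc h))

theorem basis_mem_Fil (c : ι) {i : ℕ} (h : wt c ≤ i) : b c ∈ Fil b wt i :=
  Submodule.subset_span ⟨c, h, rfl⟩

theorem exists_mem_Fil (a : A) : ∃ i, a ∈ Fil b wt i := by
  refine ⟨(b.repr a).support.sup wt, ?_⟩
  unfold Fil
  rw [Module.Basis.mem_span_image]
  intro c hc
  exact Finset.le_sup (f := wt) hc

/-- Multiplicativity hypotheses on the weight filtration. -/
structure Hyp : Prop where
  one_mem : (1 : A) ∈ Fil b wt 0
  mul_mem : ∀ c c', b c * b c' ∈ Fil b wt (wt c + wt c')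

variable {b wt}

theorem Fil_mul (H : Hyp b wt) {i j : ℕ} {a a' : A} (ha : a ∈ Fil b wt i) (ha' : a' ∈ Fil b wt j) :
    a * a' ∈ Fil b wt (i + j) := by
  have h : Fil b wt i * Fil b wt j ≤ Fil b wt (i + j) := by
    unfold Fil
    rw [Submodule.span_mul_span]
    apply Submodule.span_le.mpr
    rintro _ ⟨_, ⟨c, hc, rfl⟩, _, ⟨c', hc', rfl⟩, rfl⟩
    exact Fil_mono b wt (add_le_add hc hc') (H.mul_mem c c')
  exact h (Submodule.mul_mem_mul ha ha')

/-- The Rees subring of `A[X]`. -/
def reesSubring (H : Hyp b wt) : Subring A[X] where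
  carrier := {g | ∀ i, g.coeff i ∈ Fil b wt i}
  mul_mem' := by
    intro g h hg hh i
    rw [coeff_mul]
    apply Submodule.sum_mem
    rintro ⟨p, q⟩ hpq
    have := Finset.HasAntidiagonal.mem_antidiagonal.mp hpq
    simp only at this
    rw [← this]
    exact Fil_mul H (hg p) (hh q)
  one_mem' := by
    intro i
    rw [coeff_one]
    split_ifs with h
    · rw [h]; exact H.one_mem
    · exact Submodule.zero_mem _
  add_mem' := by
    intro g h hg hh i
    rw [coeff_add]
    exact Submodule.add_mem _ (hg i) (hh i)
  zero_mem' := by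
    intro i
    rw [coeff_zero]
    exact Submodule.zero_mem _
  neg_mem' := by
    intro g hg i
    rw [coeff_neg]
    exact Submodule.neg_mem _ (hg i)

/-- The Rees algebra as a type. -/
def ReesT (H : Hyp b wt) : Type u := reesSubring H

noncomputable instance (H : Hyp b wt) : CommRing (ReesT H) :=
  inferInstanceAs (CommRing (reesSubring H))

/-- The inclusion into `A[X]`. -/
noncomputable def rval (H : Hyp b wt) : ReesT H →+* A[X] := (reesSubring H).subtype

theorem rval_injective (H : Hyp b wt) : Function.Injective (rval H) := Subtype.val_injective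

theorem rval_coeff_mem (H : Hyp b wt) (g : ReesT H) (i : ℕ) : (rval H g).coeff i ∈ Fil b wt i :=
  g.2 i

/-- Constructor. -/
def rmk (H : Hyp b wt) (g : A[X]) (hg : ∀ i, g.coeff i ∈ Fil b wt i) : ReesT H := ⟨g, hg⟩

theorem rval_rmk (H : Hyp b wt) (g : A[X]) (hg : ∀ i, g.coeff i ∈ Fil b wt i) :
    rval H (rmk H g hg) = g := rfl

theorem map_mem (H : Hyp b wt) (p : K[X]) (i : ℕ) :
    (p.map (algebraMap K A)).coeff i ∈ Fil b wt i := by
  rw [coeff_map, Algebra.algebraMap_eq_smul_one]
  exact Submodule.smul_mem _ _ (Fil_mono b wt (Nat.zero_le i) H.one_mem)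

/-- The structure map. -/
noncomputable def polyToRees (H : Hyp b wt) : K[X] →+* ReesT H :=
  (mapRingHom (algebraMap K A)).codRestrict (reesSubring H) (fun p => map_mem H p)

theorem rval_polyToRees (H : Hyp b wt) (p : K[X]) :
    rval H (polyToRees H p) = p.map (algebraMap K A) := rfl

noncomputable instance algKX (H : Hyp b wt) : Algebra K[X] (ReesT H) := (polyToRees H).toAlgebra

noncomputable instance algK (H : Hyp b wt) : Algebra K (ReesT H) :=
  ((polyToRees H).comp (C : K →+* K[X])).toAlgebra

instance tower (H : Hyp b wt) : IsScalarTower K K[X] (ReesT H) :=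
  IsScalarTower.of_algebraMap_eq (fun _ => rfl)

theorem rval_smul (H : Hyp b wt) (p : K[X]) (g : ReesT H) :
    rval H (p • g) = p.map (algebraMap K A) * rval H g := by
  rw [Algebra.smul_def, map_mul]
  rfl

theorem rval_algebraMap (H : Hyp b wt) (p : K[X]) :
    rval H (algebraMap K[X] (ReesT H) p) = p.map (algebraMap K A) := rfl

theorem rval_algebraMapK (H : Hyp b wt) (r : K) :
    rval H (algebraMap K (ReesT H) r) = C (algebraMap K A r) := by
  show rval H (polyToRees H (C r)) = _
  rw [rval_polyToRees, map_C]

/-- The basis elements. -/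
noncomputable def re (H : Hyp b wt) (c : ι) : ReesT H :=
  rmk H (monomial (wt c) (b c)) (fun i => by
    rw [coeff_monomial]
    split_ifs with h
    · rw [← h]; exact basis_mem_Fil b wt c le_rfl
    · exact Submodule.zero_mem _)

theorem rval_re (H : Hyp b wt) (c : ι) : rval H (re H c) = monomial (wt c) (b c) := rfl

theorem coeff_smul_re (H : Hyp b wt) (p : K[X]) (c : ι) (k : ℕ) :
    (rval H (p • re H c)).coeff k = if wt c ≤ k then (p.coeff (k - wt c)) • b c else 0 := by
  rw [rval_smul, rval_re, ← C_mul_X_pow_eq_monomial, ← mul_assoc, coeff_mul_X_pow']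
  split_ifs with h
  · rw [coeff_mul_C, coeff_map, Algebra.smul_def]
  · rfl

theorem coeff_lc (H : Hyp b wt) (l : ι →₀ K[X]) (k : ℕ) :
    (rval H (Finsupp.linearCombination K[X] (re H) l)).coeff k
      = ∑ c ∈ l.support, (if wt c ≤ k then (l c).coeff (k - wt c) else 0) • b c := by
  rw [Finsupp.linearCombination_apply, Finsupp.sum, map_sum, finsetSum_coeff]
  apply Finset.sum_congr rfl
  intro c _
  rw [coeff_smul_re]
  split_ifs with h
  · rfl
  · rw [zero_smul]

theorem re_linearIndependent (H : Hyp b wt) : LinearIndependent K[X] (re H) := by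
  rw [linearIndependent_iff]
  intro l hl
  ext c j
  rw [Finsupp.zero_apply, coeff_zero]
  by_cases hc : c ∈ l.support
  · have h1 := coeff_lc H l (j + wt c)
    rw [hl, map_zero, coeff_zero] at h1
    have h2 := (linearIndependent_iff'.mp b.linearIndependent) l.support _ h1.symm c hc
    rw [if_pos (Nat.le_add_left _ _), Nat.add_sub_cancel] at h2
    exact h2
  · rw [Finsupp.notMem_support_iff.mp hc, coeff_zero]

theorem monomial_mem_span (H : Hyp b wt) (i : ℕ) (a : A) (ha : a ∈ Fil b wt i)
    (h : ∀ k, (monomial i a : A[X]).coeff k ∈ Fil b wt k) :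
    rmk H (monomial i a) h ∈ Submodule.span K[X] (Set.range (re H)) := by
  have key : ∀ a ∈ Fil b wt i, ∀ h : (∀ k, (monomial i a : A[X]).coeff k ∈ Fil b wt k),
      rmk H (monomial i a) h ∈ Submodule.span K[X] (Set.range (re H)) := by
    intro a ha
    unfold Fil at ha
    induction ha using Submodule.span_induction with
    | mem x hx =>
      obtain ⟨c, hc, rfl⟩ := hx
      intro h
      have : rmk H (monomial i (b c)) h = (X ^ (i - wt c) : K[X]) • re H c := by
        apply rval_injective
        have e : wt c + (i - wt c) = i := Nat.add_sub_cancel' hc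
        rw [rval_smul, rval_re, Polynomial.map_pow, map_X, X_pow_mul_monomial, e]
        rfl
      rw [this]
      exact Submodule.smul_mem _ _ (Submodule.subset_span ⟨c, rfl⟩)
    | zero =>
      intro h
      have : rmk H (monomial i (0 : A)) h = 0 := by
        apply rval_injective
        exact (map_zero (monomial i)).trans (map_zero (rval H)).symm
      rw [this]
      exact Submodule.zero_mem _
    | add x y hx hy ihx ihy =>
      intro h
      have hmem : ∀ z ∈ Submodule.span K (b '' {c | wt c ≤ i}),
          ∀ k, (monomial i z : A[X]).coeff k ∈ Fil b wt k := by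
        intro z hz k
        rw [coeff_monomial]
        split_ifs with hk
        · rw [← hk]; exact hz
        · exact Submodule.zero_mem _
      have : rmk H (monomial i (x + y)) h
          = rmk H (monomial i x) (hmem x hx) + rmk H (monomial i y) (hmem y hy) := by
        apply rval_injective
        exact (map_add (monomial i) x y).trans (map_add (rval H) (rmk H (monomial i x) (hmem x hx))
          (rmk H (monomial i y) (hmem y hy))).symm
      rw [this]
      exact Submodule.add_mem _ (ihx _) (ihy _)
    | smul r x hx ihx =>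
      intro h
      have hmem : ∀ k, (monomial i x : A[X]).coeff k ∈ Fil b wt k := by
        intro k
        rw [coeff_monomial]
        split_ifs with hk
        · rw [← hk]; exact hx
        · exact Submodule.zero_mem _
      have : rmk H (monomial i (r • x)) h = (C r : K[X]) • rmk H (monomial i x) hmem := by
        apply rval_injective
        have e1 : rval H ((C r : K[X]) • rmk H (monomial i x) hmem)
            = C (algebraMap K A r) * monomial i x := by
          rw [rval_smul, map_C]; rfl
        refine Eq.trans ?_ e1.symm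
        rw [C_mul_monomial, ← Algebra.smul_def]
        rfl
      rw [this]
      exact Submodule.smul_mem _ _ (ihx _)
  exact key a ha h

theorem re_span (H : Hyp b wt) : ⊤ ≤ Submodule.span K[X] (Set.range (re H)) := by
  intro g _
  have hmem : ∀ i k, (monomial i ((rval H g).coeff i) : A[X]).coeff k ∈ Fil b wt k := by
    intro i k
    rw [coeff_monomial]
    split_ifs with hk
    · rw [← hk]; exact rval_coeff_mem H g i
    · exact Submodule.zero_mem _
  have : g = ∑ i ∈ (rval H g).support, rmk H (monomial i ((rval H g).coeff i)) (hmem i) := by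
    apply rval_injective
    rw [map_sum]
    simp only [rval_rmk]
    exact (rval H g).as_sum_support
  rw [this]
  apply Submodule.sum_mem
  intro i _
  exact monomial_mem_span H i _ (rval_coeff_mem H g i) _

/-- The Rees algebra is free over `K[X]`. -/
theorem rees_free (H : Hyp b wt) : Module.Free K[X] (ReesT H) :=
  Module.Free.of_basis (Module.Basis.mk (re_linearIndependent H) (re_span H))

theorem exists_lc (H : Hyp b wt) (g : ReesT H) :
    ∃ l : ι →₀ K[X], Finsupp.linearCombination K[X] (re H) l = g := by
  have := re_span H (Submodule.mem_top (x := g))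
  rw [Finsupp.mem_span_range_iff_exists_finsupp] at this
  obtain ⟨l, hl⟩ := this
  exact ⟨l, by rw [Finsupp.linearCombination_apply]; exact hl⟩

/-- Evaluation at a scalar. -/
noncomputable def evA (H : Hyp b wt) (c₀ : K) : ReesT H →ₐ[K] A where
  toRingHom := (evalRingHom (algebraMap K A c₀)).comp (rval H)
  commutes' := by
    intro r
    show eval (algebraMap K A c₀) (rval H (algebraMap K (ReesT H) r)) = _
    rw [rval_algebraMapK, eval_C]

theorem evA_apply (H : Hyp b wt) (c₀ : K) (g : ReesT H) :
    evA H c₀ g = eval (algebraMap K A c₀) (rval H g) := rfl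

theorem evA_smul (H : Hyp b wt) (c₀ : K) (p : K[X]) (g : ReesT H) :
    evA H c₀ (p • g) = (p.eval c₀) • evA H c₀ g := by
  rw [evA_apply, rval_smul, eval_mul, eval_map, eval₂_at_apply, evA_apply, Algebra.smul_def]

theorem evA_re (H : Hyp b wt) (c₀ : K) (c : ι) : evA H c₀ (re H c) = (c₀ ^ wt c) • b c := by
  rw [evA_apply, rval_re, eval_monomial, ← map_pow, Algebra.smul_def, mul_comm]

theorem evA_lc (H : Hyp b wt) (c₀ : K) (l : ι →₀ K[X]) :
    evA H c₀ (Finsupp.linearCombination K[X] (re H) l)
      = ∑ c ∈ l.support, ((l c).eval c₀ * c₀ ^ wt c) • b c := by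
  rw [Finsupp.linearCombination_apply, Finsupp.sum, map_sum]
  apply Finset.sum_congr rfl
  intro c _
  rw [evA_smul, evA_re, smul_smul]

theorem evA_surjective (H : Hyp b wt) (c₀ : K) (hc : c₀ ≠ 0) : Function.Surjective (evA H c₀) := by
  intro a
  obtain ⟨i, hi⟩ := exists_mem_Fil b wt a
  have hmem : ∀ k, (monomial i ((c₀⁻¹ ^ i) • a) : A[X]).coeff k ∈ Fil b wt k := by
    intro k
    rw [coeff_monomial]
    split_ifs with hk
    · rw [← hk]; exact Submodule.smul_mem _ _ hi
    · exact Submodule.zero_mem _
  refine ⟨rmk H (monomial i ((c₀⁻¹ ^ i) • a)) hmem, ?_⟩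
  rw [evA_apply, rval_rmk, eval_monomial, ← map_pow, Algebra.smul_def, mul_comm, ← mul_assoc,
    ← map_mul, ← mul_pow, mul_inv_cancel₀ hc, one_pow, map_one, one_mul]

theorem ker_evA (H : Hyp b wt) (c₀ : K) (hc : c₀ ≠ 0) :
    RingHom.ker (evA H c₀).toRingHom
      = Ideal.span {algebraMap K[X] (ReesT H) (X - C c₀)} := by
  apply le_antisymm
  · intro g hg
    rw [RingHom.mem_ker] at hg
    obtain ⟨l, rfl⟩ := exists_lc H g
    have h1 : ∑ c ∈ l.support, ((l c).eval c₀ * c₀ ^ wt c) • b c = 0 := by
      rw [← evA_lc]; exact hg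
    have h2 := (linearIndependent_iff'.mp b.linearIndependent) l.support _ h1
    have h3 : ∀ c ∈ l.support, (X - C c₀) ∣ l c := by
      intro c hcs
      rw [dvd_iff_isRoot]
      have := h2 c hcs
      rcases mul_eq_zero.mp this with h | h
      · exact h
      · exact absurd h (pow_ne_zero _ hc)
    rw [Finsupp.linearCombination_apply, Finsupp.sum]
    apply Ideal.sum_mem
    intro c hcs
    obtain ⟨q, hq⟩ := h3 c hcs
    rw [hq, mul_smul, Algebra.smul_def]
    exact Ideal.mul_mem_right _ _ (Ideal.subset_span rfl)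
  · rw [Ideal.span_le]
    rintro _ rfl
    rw [SetLike.mem_coe, RingHom.mem_ker]
    show evA H c₀ (algebraMap K[X] (ReesT H) (X - C c₀)) = 0
    rw [evA_apply, rval_algebraMap, Polynomial.map_sub, map_X, map_C, eval_sub, eval_X, eval_C,
      sub_self]

/-- The fibre of the Rees algebra at a nonzero scalar is the original algebra. -/
noncomputable def fibreEquiv (H : Hyp b wt) (c₀ : K) (hc : c₀ ≠ 0) :
    (ReesT H ⧸ Ideal.span {algebraMap K[X] (ReesT H) (X - C c₀)}) ≃ₐ[K] A :=
  (Ideal.quotientEquivAlgOfEq K (ker_evA H c₀ hc).symm).trans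
    (Ideal.quotientKerAlgEquivOfSurjective (evA_surjective H c₀ hc))

/-- The special fibre ideal. -/
noncomputable def I0 (H : Hyp b wt) : Ideal (ReesT H) :=
  Ideal.span {algebraMap K[X] (ReesT H) X}

/-- Classes of the basis elements in the special fibre. -/
noncomputable def rebar (H : Hyp b wt) (c : ι) : ReesT H ⧸ I0 H := Ideal.Quotient.mk (I0 H) (re H c)

theorem smulK_eq (H : Hyp b wt) (r : K) (g : ReesT H) : r • g = (C r : K[X]) • g := by
  rw [Algebra.smul_def, Algebra.smul_def]
  rfl

theorem rebar_linearIndependent (H : Hyp b wt) : LinearIndependent K (rebar H) := by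
  rw [linearIndependent_iff]
  intro l hl
  rw [Finsupp.linearCombination_apply, Finsupp.sum] at hl
  have h1 : Ideal.Quotient.mk (I0 H) (∑ c ∈ l.support, (C (l c) : K[X]) • re H c) = 0 := by
    rw [← hl, map_sum]
    apply Finset.sum_congr rfl
    intro c _
    unfold rebar
    rw [← smulK_eq]
    rfl
  rw [Ideal.Quotient.eq_zero_iff_mem] at h1
  unfold I0 at h1
  rw [Ideal.mem_span_singleton'] at h1
  obtain ⟨g', hg'⟩ := h1
  obtain ⟨l', rfl⟩ := exists_lc H g'
  have h2 : Finsupp.linearCombination K[X] (re H)
      (l.mapRange (C : K → K[X]) (map_zero _) - (X : K[X]) • l') = 0 := by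
    rw [map_sub, map_smul, sub_eq_zero, Algebra.smul_def, mul_comm, hg']
    rw [Finsupp.linearCombination_apply, Finsupp.sum_mapRange_index (by intro c; rw [zero_smul])]
    rfl
  have h3 := (linearIndependent_iff.mp (re_linearIndependent H)) _ h2
  ext c
  have h4 := DFunLike.congr_fun h3 c
  rw [Finsupp.sub_apply, Finsupp.mapRange_apply, Finsupp.smul_apply, Finsupp.zero_apply,
    sub_eq_zero] at h4
  have h5 := congrArg (fun p => p.coeff 0) h4
  simp only [coeff_C_zero, smul_eq_mul, mul_coeff_zero, coeff_X_zero, zero_mul] at h5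
  rw [h5, Finsupp.zero_apply]

theorem rebar_span (H : Hyp b wt) : ⊤ ≤ Submodule.span K (Set.range (rebar H)) := by
  intro x _
  obtain ⟨g, rfl⟩ := Ideal.Quotient.mk_surjective x
  obtain ⟨l, rfl⟩ := exists_lc H g
  rw [Finsupp.linearCombination_apply, Finsupp.sum, map_sum]
  apply Submodule.sum_mem
  intro c _
  have h1 : l c = C ((l c).coeff 0) + X * divX (l c) := by
    rw [mul_comm, add_comm]; exact (divX_mul_X_add (l c)).symm
  have h2 : Ideal.Quotient.mk (I0 H) ((l c) • re H c) = ((l c).coeff 0) • rebar H c := by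
    rw [h1, add_smul, map_add]
    have : Ideal.Quotient.mk (I0 H) ((X * divX (l c)) • re H c) = 0 := by
      rw [Ideal.Quotient.eq_zero_iff_mem, mul_smul, Algebra.smul_def]
      exact Ideal.mul_mem_right _ _ (Ideal.subset_span rfl)
    rw [this, add_zero, ← smulK_eq]
    simp only [coeff_add, coeff_C_zero, mul_coeff_zero, coeff_X_zero, zero_mul, add_zero]
    rfl
  rw [h2]
  exact Submodule.smul_mem _ _ (Submodule.subset_span ⟨c, rfl⟩)

/-- A K-algebra spanned by a family mapping to the classes of the Rees basis is the special fibre. -/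
theorem special_bijective (H : Hyp b wt) {Q : Type*} [CommRing Q] [Algebra K Q] (x : ι → Q)
    (hx : ⊤ ≤ Submodule.span K (Set.range x)) (Φ : Q →ₐ[K] ReesT H ⧸ I0 H)
    (hΦ : ∀ c, Φ (x c) = rebar H c) : Function.Bijective Φ := by
  constructor
  · rw [injective_iff_map_eq_zero]
    intro q hq
    have := hx (Submodule.mem_top (x := q))
    rw [Finsupp.mem_span_range_iff_exists_finsupp] at this
    obtain ⟨l, rfl⟩ := this
    rw [Finsupp.sum, map_sum] at hq
    have h1 : Finsupp.linearCombination K (rebar H) l = 0 := by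
      rw [Finsupp.linearCombination_apply, Finsupp.sum, ← hq]
      apply Finset.sum_congr rfl
      intro c _
      rw [map_smul, hΦ]
    have h2 := (linearIndependent_iff.mp (rebar_linearIndependent H)) l h1
    rw [h2]
    simp
  · intro y
    have := rebar_span H (Submodule.mem_top (x := y))
    rw [Finsupp.mem_span_range_iff_exists_finsupp] at this
    obtain ⟨l, rfl⟩ := this
    refine ⟨l.sum fun c r => r • x c, ?_⟩
    rw [Finsupp.sum, map_sum, Finsupp.sum]
    apply Finset.sum_congr rfl
    intro c _
    rw [map_smul, hΦ]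

/-- The special fibre as an algebra equivalence. -/
noncomputable def specialEquiv (H : Hyp b wt) {Q : Type*} [CommRing Q] [Algebra K Q] (x : ι → Q)
    (hx : ⊤ ≤ Submodule.span K (Set.range x)) (Φ : Q →ₐ[K] ReesT H ⧸ I0 H)
    (hΦ : ∀ c, Φ (x c) = rebar H c) :
    (ReesT H ⧸ Ideal.span {algebraMap K[X] (ReesT H) X}) ≃ₐ[K] Q :=
  (AlgEquiv.ofBijective Φ (special_bijective H x hx Φ hΦ)).symm

theorem mem_I0_of (H : Hyp b wt) (g : ReesT H) (W : ℕ) (a : A)
    (hg : rval H g = monomial (W + 1) a) (ha : a ∈ Fil b wt W) : g ∈ I0 H := by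
  have hmem : ∀ k, (monomial W a : A[X]).coeff k ∈ Fil b wt k := by
    intro k
    rw [coeff_monomial]
    split_ifs with hk
    · rw [← hk]; exact ha
    · exact Submodule.zero_mem _
  have : g = algebraMap K[X] (ReesT H) X * rmk H (monomial W a) hmem := by
    apply rval_injective
    rw [map_mul, rval_algebraMap, rval_rmk, map_X, hg, X_mul_monomial]
  rw [this]
  exact Ideal.mul_mem_right _ _ (Ideal.subset_span rfl)

theorem re_mul_re (H : Hyp b wt) (c c' : ι) :
    rval H (re H c * re H c') = monomial (wt c + wt c') (b c * b c') := by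
  rw [map_mul, rval_re, rval_re, monomial_mul_monomial]

theorem re_prod (H : Hyp b wt) {m : ℕ} (cs : Fin m → ι) (c : ι) (hb : b c = ∏ j, b (cs j))
    (hw : wt c = ∑ j, wt (cs j)) : re H c = ∏ j, re H (cs j) := by
  apply rval_injective
  rw [map_prod, rval_re, hb, hw]
  simp only [rval_re]
  have : ∀ (s : Finset (Fin m)), (monomial (∑ j ∈ s, wt (cs j)) (∏ j ∈ s, b (cs j)) : A[X])
      = ∏ j ∈ s, monomial (wt (cs j)) (b (cs j)) := by
    intro s
    induction s using Finset.induction_on with
    | empty => simp
    | insert j s hj ih =>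
      rw [Finset.sum_insert hj, Finset.prod_insert hj, Finset.prod_insert hj, ← ih,
        monomial_mul_monomial]
  exact this Finset.univ

end Fil

end Groth.Agent.Lib.Helper8.Rees
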