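import Mathlib
import Groth.Prelude.Def_W4bk4grassmannianPl
import Groth.Agent.Lib.Helper8.Deg1
import Groth.Agent.Lib.Helper8.Rees1
set_option backward.isDefEq.respectTransparency.types false
set_option linter.unusedSectionVars false
set_option autoImplicit false
universe u

namespace Groth.Agent.Lib.Helper8.Gr
open W4bk4grassmannian MvPolynomial
open Groth.Agent.Lib.Helper8.Rees

section Basis

variable {K : Type u} [Field K] [Infinite K] {d n : ℕ}

/-- The coordinate ring of the Schubert cone. -/
abbrev Aw (K : Type u) [Field K] {d n : ℕ} (w : Idx d n) : Type u :=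
  PlRing K d n ⧸ schubertVanishing K d n w

/-- The multichains below `w`. -/
abbrev Ch (w : Idx d n) : Type := ChainsIn (fun _ : Unit => w)

theorem JFam_unit (w : Idx d n) : JFam K (fun _ : Unit => w) = schubertVanishing K d n w := by
  unfold JFam
  exact iInf_const

theorem ch_le {w : Idx d n} (c : Ch w) (k : Fin c.1) : c.2.1 k ≤ w := by
  obtain ⟨_, h⟩ := c.2.2.2
  exact h k

/-- The standard monomial basis of the Schubert cone ring. -/
noncomputable def stdB (hd : 0 < d) (w : Idx d n) : Module.Basis (Ch w) K (Aw K w) :=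
  Module.Basis.mk
    (v := fun c : Ch w => Ideal.Quotient.mk (schubertVanishing K d n w) (chainMon K c.2.1))
    (by
      have h := li_fam (K := K) (fun _ : Unit => w) hd
      rw [JFam_unit] at h
      exact h)
    (by
      have h := span_fam (K := K) (fun _ : Unit => w)
      rw [JFam_unit] at h
      rw [h])

theorem stdB_apply (hd : 0 < d) (w : Idx d n) (c : Ch w) :
    stdB (K := K) hd w c = Ideal.Quotient.mk (schubertVanishing K d n w) (chainMon K c.2.1) := by
  unfold stdB
  rw [Module.Basis.mk_apply]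

/-- The constant making the weights positive. -/
def C0 (d n : ℕ) : ℕ := (d * n) ^ 2 + 1

theorem key_sq_lt (a : Idx d n) : key a ^ 2 < C0 d n := by
  unfold C0
  exact Nat.lt_succ_of_le (Nat.pow_le_pow_left (key_le a) 2)

/-- The Stanley–Reisner weight of a multichain. -/
def wtSR {w : Idx d n} (c : Ch w) : ℕ := ∑ k, (C0 d n - key (c.2.1 k) ^ 2)

theorem wtSR_add {w : Idx d n} (c : Ch w) :
    wtSR c + ∑ k, key (c.2.1 k) ^ 2 = c.1 * C0 d n := by
  unfold wtSR
  rw [← Finset.sum_add_distrib]
  have : ∀ k : Fin c.1, C0 d n - key (c.2.1 k) ^ 2 + key (c.2.1 k) ^ 2 = C0 d n := by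
    intro k
    have := key_sq_lt (c.2.1 k)
    omega
  rw [Finset.sum_congr rfl (fun k _ => this k)]
  simp

/-- Images of standard monomials of bounded `Phi` lie in the filtration. -/
theorem mk_StdSetQ_mem_Fil (hd : 0 < d) (w : Idx d n) (m Q : ℕ) (f : PlRing K d n)
    (hf : f ∈ Submodule.span K (StdSetQ K (d := d) (n := n) m Q)) :
    Ideal.Quotient.mk (schubertVanishing K d n w) f
      ∈ Fil (stdB (K := K) hd w) wtSR (m * C0 d n - Q) := by
  induction hf using Submodule.span_induction with
  | mem f hf =>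
    obtain ⟨c, hc, hq, rfl⟩ := hf
    by_cases hle : ∀ k, c k ≤ w
    · have := basis_mem_Fil (stdB (K := K) hd w) wtSR (⟨m, c, hc, ⟨(), hle⟩⟩ : Ch w)
        (i := m * C0 d n - Q) (by
          have h1 := wtSR_add (⟨m, c, hc, ⟨(), hle⟩⟩ : Ch w)
          simp only at h1
          omega)
      rw [stdB_apply] at this
      exact this
    · push Not at hle
      obtain ⟨k, hk⟩ := hle
      have h0 : Ideal.Quotient.mk (schubertVanishing K d n w) (chainMon K c) = 0 := by
        rw [Ideal.Quotient.eq_zero_iff_mem]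
        unfold chainMon
        rw [← Finset.mul_prod_erase _ _ (Finset.mem_univ k)]
        exact Ideal.mul_mem_right _ _ (X_mem_schubertVanishing w (c k) hk)
      rw [h0]
      exact Submodule.zero_mem _
  | zero => rw [map_zero]; exact Submodule.zero_mem _
  | add x y _ _ hx hy => rw [map_add]; exact Submodule.add_mem _ hx hy
  | smul r x _ hx =>
    have : Ideal.Quotient.mk (schubertVanishing K d n w) (r • x)
        = r • Ideal.Quotient.mk (schubertVanishing K d n w) x := rfl
    rw [this]; exact Submodule.smul_mem _ r hx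

theorem mk_multiset_mem_Fil (hd : 0 < d) (w : Idx d n) (s : Multiset (Idx d n)) :
    Ideal.Quotient.mk (schubertVanishing K d n w) (s.map X).prod
      ∈ Fil (stdB (K := K) hd w) wtSR (Multiset.card s * C0 d n - Phi s) := by
  obtain ⟨g, hg, hgI⟩ := straightenQ (K := K) s
  have : Ideal.Quotient.mk (schubertVanishing K d n w) (s.map X).prod
      = Ideal.Quotient.mk (schubertVanishing K d n w) g :=
    Ideal.Quotient.eq.mpr (plIdealTop_le_schubertVanishing w hgI)
  rw [this]
  exact mk_StdSetQ_mem_Fil hd w _ _ g hg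

theorem mk_multiset_mem_Fil_skew (hd : 0 < d) (w : Idx d n) (s : Multiset (Idx d n))
    (hskew : ∃ a ∈ s, ∃ b ∈ s, ¬ a ≤ b ∧ ¬ b ≤ a) :
    Ideal.Quotient.mk (schubertVanishing K d n w) (s.map X).prod
      ∈ Fil (stdB (K := K) hd w) wtSR (Multiset.card s * C0 d n - (Phi s + 1)) := by
  obtain ⟨g, hg, hgI⟩ := straightenQ_skew (K := K) s hskew
  have : Ideal.Quotient.mk (schubertVanishing K d n w) (s.map X).prod
      = Ideal.Quotient.mk (schubertVanishing K d n w) g :=
    Ideal.Quotient.eq.mpr (plIdealTop_le_schubertVanishing w hgI)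
  rw [this]
  exact mk_StdSetQ_mem_Fil hd w _ _ g hg

/-- The multiset of entries of a tuple. -/
def msOf {m : ℕ} (c : Fin m → Idx d n) : Multiset (Idx d n) := Finset.univ.val.map c

theorem chainMon_eq_msOf {m : ℕ} (c : Fin m → Idx d n) :
    chainMon K c = ((msOf c).map X).prod := by
  unfold chainMon msOf
  rw [Multiset.map_map]
  rfl

theorem card_msOf {m : ℕ} (c : Fin m → Idx d n) : Multiset.card (msOf c) = m := by
  unfold msOf
  simp

theorem Phi_msOf {m : ℕ} (c : Fin m → Idx d n) : Phi (msOf c) = ∑ k, key (c k) ^ 2 := by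
  unfold Phi msOf
  rw [Multiset.map_map]
  rfl

theorem Phi_add (s t : Multiset (Idx d n)) : Phi (s + t) = Phi s + Phi t := by
  unfold Phi
  rw [Multiset.map_add, Multiset.sum_add]

/-- The empty chain. -/
def emptyCh (w : Idx d n) : Ch w := ⟨0, fun i => i.elim0, fun i => i.elim0, ⟨(), fun i => i.elim0⟩⟩

theorem hypSR (hd : 0 < d) (w : Idx d n) : Hyp (stdB (K := K) hd w) wtSR where
  one_mem := by
    have := basis_mem_Fil (stdB (K := K) hd w) wtSR (emptyCh w) (i := 0) (by
      unfold wtSR emptyCh; simp)
    rw [stdB_apply] at this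
    have e : chainMon K (emptyCh w).2.1 = 1 := by
      unfold chainMon emptyCh; simp
    rw [e, map_one] at this
    exact this
  mul_mem := by
    intro c c'
    rw [stdB_apply, stdB_apply, ← map_mul, chainMon_eq_msOf, chainMon_eq_msOf, ← Multiset.prod_add,
      ← Multiset.map_add]
    have h := mk_multiset_mem_Fil (K := K) hd w (msOf c.2.1 + msOf c'.2.1)
    rw [Multiset.card_add, card_msOf, card_msOf, Phi_add, Phi_msOf, Phi_msOf] at h
    have h1 := wtSR_add c
    have h2 := wtSR_add c'
    have e : (c.1 + c'.1) * C0 d n - (∑ k, key (c.2.1 k) ^ 2 + ∑ k, key (c'.2.1 k) ^ 2)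
        = wtSR c + wtSR c' := by
      rw [add_mul]; omega
    rw [e] at h
    exact h

end Basis

end Groth.Agent.Lib.Helper8.Gr
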