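import Mathlib
import Groth.Prelude.Def_W4bk4grassmannianPl
import Groth.Agent.Lib.Helper8.Deg2
set_option backward.isDefEq.respectTransparency.types false
set_option linter.unusedSectionVars false
set_option autoImplicit false
universe u

namespace Groth.Agent.Lib.Helper8.Gr
open W4bk4grassmannian MvPolynomial
open Groth.Agent.Lib.Helper8.Rees

section Shared

variable {K : Type u} [Field K] [Infinite K] {d n : ℕ}

/-- The one-element chain. -/
def singleCh {w : Idx d n} (θ : Below w) : Ch w :=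
  ⟨1, fun _ => θ.1, fun _ _ _ => le_rfl, ⟨(), fun _ => θ.2⟩⟩

theorem stdB_single (hd : 0 < d) (w : Idx d n) (θ : Below w) :
    stdB (K := K) hd w (singleCh θ) = Ideal.Quotient.mk (schubertVanishing K d n w) (X θ.1) := by
  rw [stdB_apply]
  unfold chainMon singleCh
  simp

theorem wtSR_single {w : Idx d n} (θ : Below w) : wtSR (singleCh θ) = C0 d n - key θ.1 ^ 2 := by
  unfold wtSR singleCh
  simp

/-- The standard monomial of a multichain in a quotient of `K[x_θ : θ ≤ w]`. -/
noncomputable def xCh {w : Idx d n} (I : Ideal (MvPolynomial (Below w) K)) (c : Ch w) :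
    MvPolynomial (Below w) K ⧸ I :=
  Ideal.Quotient.mk I (∏ k, X (⟨c.2.1 k, ch_le c k⟩ : Below w))

/-- A totally ordered multiset gives a standard monomial. -/
theorem sorted_below {w : Idx d n} (I : Ideal (MvPolynomial (Below w) K)) (s : Multiset (Below w))
    (h : ∀ a ∈ s, ∀ b ∈ s, a.1 ≤ b.1 ∨ b.1 ≤ a.1) :
    ∃ c : Ch w, Ideal.Quotient.mk I (s.map X).prod = xCh I c := by
  obtain ⟨l, rfl⟩ := Quot.exists_rep s
  let r : Below w → Below w → Prop := fun a b => key b.1 ≤ key a.1
  haveI : DecidableRel r := fun a b => Nat.decLe _ _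
  haveI : Std.Total r := ⟨fun a b => le_total _ _⟩
  haveI : IsTrans (Below w) r := ⟨fun a b c hab hbc => le_trans hbc hab⟩
  have hperm := List.perm_insertionSort r l
  have hpw := List.pairwise_insertionSort r l
  have hs : (Quot.mk _ l : Multiset (Below w)) = ((l.insertionSort r : List (Below w)) : Multiset (Below w)) :=
    (Multiset.coe_eq_coe.mpr hperm).symm
  rw [hs] at h ⊢
  set l' := l.insertionSort r with hl'
  have hpw' : l'.Pairwise (fun a b => b.1 ≤ a.1) := by
    apply hpw.imp_of_mem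
    intro a b ha hb hab
    rcases h a (Multiset.mem_coe.mpr ha) b (Multiset.mem_coe.mpr hb) with h1 | h1
    · rw [eq_of_le_of_key_le h1 hab]
    · exact h1
  refine ⟨⟨l'.length, fun k => (l'[k.val]).1, ?_, ⟨(), fun k => (l'[k.val]).2⟩⟩, ?_⟩
  · intro x y hxy
    rcases eq_or_lt_of_le hxy with h | h
    · rw [h]
    · exact (List.pairwise_iff_getElem.mp hpw') x.val y.val x.isLt y.isLt (Fin.lt_def.mp h)
  · unfold xCh
    simp only [Multiset.map_coe, Multiset.prod_coe]
    congr 1
    exact (Fin.prod_univ_fun_getElem l' (X : Below w → MvPolynomial (Below w) K)).symm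

/-- A subspace containing all monomials is everything. -/
theorem span_of_multiset {w : Idx d n} (I : Ideal (MvPolynomial (Below w) K))
    (T : Submodule K (MvPolynomial (Below w) K ⧸ I))
    (h : ∀ s : Multiset (Below w), Ideal.Quotient.mk I (s.map X).prod ∈ T) : ⊤ ≤ T := by
  intro x _
  obtain ⟨f, rfl⟩ := Ideal.Quotient.mk_surjective x
  have hP : ∀ f : MvPolynomial (Below w) K, ∀ s : Multiset (Below w),
      Ideal.Quotient.mk I (f * (s.map X).prod) ∈ T := by
    intro f
    induction f using MvPolynomial.induction_on with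
    | C a =>
      intro s
      have : Ideal.Quotient.mk I (C a * (s.map X).prod) = a • Ideal.Quotient.mk I (s.map X).prod := by
        rw [← smul_eq_C_mul]; rfl
      rw [this]
      exact Submodule.smul_mem _ _ (h s)
    | add p q hp hq =>
      intro s
      rw [add_mul, map_add]
      exact Submodule.add_mem _ (hp s) (hq s)
    | mul_X p i hp =>
      intro s
      have : p * X i * (s.map X).prod = p * ((i ::ₘ s).map X).prod := by
        rw [Multiset.map_cons, Multiset.prod_cons, mul_assoc]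
      rw [this]
      exact hp _
  have := hP f 0
  simpa using this

end Shared

section SR

variable {K : Type u} [Field K] [Infinite K] {d n : ℕ}

theorem xCh_span_sr (w : Idx d n) :
    ⊤ ≤ Submodule.span K (Set.range (xCh (K := K) (srIdeal K w))) := by
  apply span_of_multiset
  intro s
  by_cases hcomp : ∀ a ∈ s, ∀ b ∈ s, a.1 ≤ b.1 ∨ b.1 ≤ a.1
  · obtain ⟨c, hc⟩ := sorted_below (srIdeal K w) s hcomp
    rw [hc]
    exact Submodule.subset_span ⟨c, rfl⟩
  · push Not at hcomp
    obtain ⟨a, ha, b, hb, hab, hba⟩ := hcomp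
    have hne : b ≠ a := fun h => hab (h ▸ le_refl _)
    obtain ⟨t, rfl⟩ := Multiset.exists_cons_of_mem ha
    have hbt : b ∈ t := by
      rcases Multiset.mem_cons.mp hb with h | h
      · exact absurd h hne
      · exact h
    obtain ⟨s', rfl⟩ := Multiset.exists_cons_of_mem hbt
    have h0 : Ideal.Quotient.mk (srIdeal K w) ((a ::ₘ b ::ₘ s').map X).prod = 0 := by
      rw [Ideal.Quotient.eq_zero_iff_mem, Multiset.map_cons, Multiset.prod_cons, Multiset.map_cons,
        Multiset.prod_cons, ← mul_assoc]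
      apply Ideal.mul_mem_right
      exact Ideal.subset_span ⟨a, b, hab, hba, rfl⟩
    rw [h0]
    exact Submodule.zero_mem _

/-- The map from the polynomial ring on `H(w)` to the special fibre. -/
noncomputable def phi0SR (hd : 0 < d) (w : Idx d n) :
    MvPolynomial (Below w) K →ₐ[K] (ReesT (hypSR (K := K) hd w) ⧸ I0 (hypSR (K := K) hd w)) :=
  aeval fun θ : Below w => rebar (hypSR (K := K) hd w) (singleCh θ)

theorem re_mul_mem_I0_sr (hd : 0 < d) (w : Idx d n) (a b : Below w) (hab : ¬ a ≤ b) (hba : ¬ b ≤ a) :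
    re (hypSR (K := K) hd w) (singleCh a) * re (hypSR (K := K) hd w) (singleCh b)
      ∈ I0 (hypSR (K := K) hd w) := by
  have h := mk_multiset_mem_Fil_skew (K := K) hd w (a.1 ::ₘ b.1 ::ₘ 0)
    ⟨a.1, by simp, b.1, by simp, hab, hba⟩
  have e1 : ((a.1 ::ₘ b.1 ::ₘ (0 : Multiset (Idx d n))).map (X : Idx d n → PlRing K d n)).prod
      = X a.1 * X b.1 := by simp
  have e2 : Multiset.card (a.1 ::ₘ b.1 ::ₘ (0 : Multiset (Idx d n))) = 2 := by simp
  have e3 : Phi (a.1 ::ₘ b.1 ::ₘ (0 : Multiset (Idx d n))) = key a.1 ^ 2 + key b.1 ^ 2 := by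
    rw [Phi_cons, Phi_cons]; simp [Phi]
  rw [e1, e2, e3, map_mul, ← stdB_single hd w a, ← stdB_single hd w b] at h
  have ha := key_sq_lt a.1
  have hb := key_sq_lt b.1
  have hW : 2 * C0 d n - (key a.1 ^ 2 + key b.1 ^ 2 + 1) + 1
      = wtSR (singleCh a) + wtSR (singleCh b) := by
    rw [wtSR_single, wtSR_single]; omega
  apply mem_I0_of (hypSR (K := K) hd w) _ (2 * C0 d n - (key a.1 ^ 2 + key b.1 ^ 2 + 1)) _ _ h
  rw [re_mul_re, hW]

theorem phi0SR_ker (hd : 0 < d) (w : Idx d n) :
    ∀ f ∈ srIdeal K w, phi0SR (K := K) hd w f = 0 := by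
  intro f hf
  have : srIdeal K w ≤ RingHom.ker (phi0SR (K := K) hd w).toRingHom := by
    unfold srIdeal
    rw [Ideal.span_le]
    rintro _ ⟨a, b, hab, hba, rfl⟩
    rw [SetLike.mem_coe, RingHom.mem_ker]
    show phi0SR (K := K) hd w (X a * X b) = 0
    unfold phi0SR
    rw [map_mul, aeval_X, aeval_X]
    unfold rebar
    rw [← map_mul, Ideal.Quotient.eq_zero_iff_mem]
    exact re_mul_mem_I0_sr hd w a b hab hba
  exact (RingHom.mem_ker).mp (this hf)

/-- The induced map on the Stanley–Reisner ring. -/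
noncomputable def phiSR (hd : 0 < d) (w : Idx d n) :
    (MvPolynomial (Below w) K ⧸ srIdeal K w) →ₐ[K]
      (ReesT (hypSR (K := K) hd w) ⧸ I0 (hypSR (K := K) hd w)) :=
  Ideal.Quotient.liftₐ (srIdeal K w) (phi0SR (K := K) hd w) (phi0SR_ker hd w)

theorem stdB_prod (hd : 0 < d) (w : Idx d n) (c : Ch w) :
    stdB (K := K) hd w c = ∏ j, stdB (K := K) hd w (singleCh ⟨c.2.1 j, ch_le c j⟩) := by
  rw [stdB_apply]
  simp only [stdB_single]
  unfold chainMon
  rw [map_prod]

theorem wtSR_prod {w : Idx d n} (c : Ch w) :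
    wtSR c = ∑ j, wtSR (singleCh (⟨c.2.1 j, ch_le c j⟩ : Below w)) := by
  simp only [wtSR_single]
  rfl

theorem phiSR_xCh (hd : 0 < d) (w : Idx d n) (c : Ch w) :
    phiSR (K := K) hd w (xCh (srIdeal K w) c) = rebar (hypSR (K := K) hd w) c := by
  unfold phiSR xCh
  rw [Ideal.Quotient.liftₐ_apply, Ideal.Quotient.lift_mk]
  show phi0SR (K := K) hd w _ = _
  unfold phi0SR
  rw [map_prod]
  simp only [aeval_X]
  unfold rebar
  rw [← map_prod, ← re_prod (hypSR (K := K) hd w) (fun j => singleCh ⟨c.2.1 j, ch_le c j⟩) c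
    (stdB_prod hd w c) (wtSR_prod c)]

/-- The Stanley–Reisner degeneration of a Schubert cone. -/
theorem sr_family (hd : 0 < d) (w : Idx d n) :
    ∃ (R : Type u) (_ : CommRing R) (_ : Algebra K R) (_ : Algebra (Polynomial K) R)
      (_ : IsScalarTower K (Polynomial K) R),
      Module.Free (Polynomial K) R ∧
      Nonempty ((R ⧸ Ideal.span {algebraMap (Polynomial K) R Polynomial.X}) ≃ₐ[K]
        (MvPolynomial (Below w) K ⧸ srIdeal K w)) ∧
      ∀ c : K, c ≠ 0 →
        Nonempty ((R ⧸ Ideal.span {algebraMap (Polynomial K) R (Polynomial.X - Polynomial.C c)}) ≃ₐ[K]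
          (PlRing K d n ⧸ schubertVanishing K d n w)) :=
  ⟨ReesT (hypSR (K := K) hd w), inferInstance, algK _, algKX _, tower _, rees_free _,
    ⟨specialEquiv (hypSR (K := K) hd w) (xCh (srIdeal K w)) (xCh_span_sr w) (phiSR hd w)
      (phiSR_xCh hd w)⟩,
    fun c hc => ⟨fibreEquiv (hypSR (K := K) hd w) c hc⟩⟩

end SR

end Groth.Agent.Lib.Helper8.Gr
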