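import Mathlib
import Groth.Prelude.Def_W4bk4grassmannianPl
import Groth.Agent.Lib.Helper8.Deg3
import Groth.Agent.Lib.Helper8.Gr17
set_option backward.isDefEq.respectTransparency.types false
set_option linter.unusedSectionVars false
set_option autoImplicit false
universe u

namespace Groth.Agent.Lib.Helper8.Gr
open W4bk4grassmannian MvPolynomial
open Groth.Agent.Lib.Helper8.Rees

section Weight

variable {d n : ℕ}

/-- The weight of the variable `x_{s,t}`. -/
def lam (p : LVar d n) : ℕ := ((ofLex p).2.val + 1) * ((ofLex p).1.val + 1)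

/-- The weight of an exponent vector. -/
noncomputable def wtE (e : LVar d n →₀ ℕ) : ℕ := Finsupp.weight (lam (d := d) (n := n)) e

theorem wtE_add (e e' : LVar d n →₀ ℕ) : wtE (e + e') = wtE e + wtE e' := by
  unfold wtE; rw [map_add]

theorem wtE_zero : wtE (0 : LVar d n →₀ ℕ) = 0 := by
  unfold wtE; rw [map_zero]

theorem wtE_sum {ι : Type*} (s : Finset ι) (f : ι → LVar d n →₀ ℕ) :
    wtE (∑ i ∈ s, f i) = ∑ i ∈ s, wtE (f i) := by
  unfold wtE; rw [map_sum]

theorem wtE_Dexp (f : Fin d → Fin n) : wtE (Dexp f) = ∑ t, ((f t).val + 1) * (t.val + 1) := by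
  unfold Dexp
  rw [wtE_sum]
  apply Finset.sum_congr rfl
  intro t _
  unfold wtE
  rw [Finsupp.weight_single, one_smul]
  rfl

theorem wtE_Dexp_pos (hd : 0 < d) (f : Fin d → Fin n) : 0 < wtE (Dexp f) := by
  rw [wtE_Dexp]
  apply Finset.sum_pos
  · intro t _; positivity
  · exact ⟨⟨0, hd⟩, Finset.mem_univ _⟩

/-- The diagonal term strictly dominates in weight (rearrangement inequality). -/
theorem wtE_Dexp_perm_lt (θ : Fin d → Fin n) (hθ : StrictMono θ) (σ : Equiv.Perm (Fin d))
    (hσ : σ ≠ 1) : wtE (Dexp (θ ∘ σ)) < wtE (Dexp θ) := by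
  classical
  rw [wtE_Dexp, wtE_Dexp]
  have hmono : Monovary (fun t : Fin d => (θ t).val + 1) (fun t : Fin d => t.val + 1) := by
    intro i j hij
    have hij' : i < j := by
      rw [Fin.lt_def]; simpa using hij
    have := hθ hij'
    have h2 : (θ i).val < (θ j).val := this
    simp only
    omega
  have := (Monovary.sum_comp_perm_mul_lt_sum_mul_iff (σ := σ) hmono).mpr ?_
  · exact this
  · -- not monovary
    intro hcon
    have hne : (Finset.univ.filter fun t : Fin d => σ t ≠ t).Nonempty := by
      by_contra hc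
      rw [Finset.not_nonempty_iff_eq_empty, Finset.filter_eq_empty_iff] at hc
      apply hσ
      ext t
      have := hc (Finset.mem_univ t)
      push Not at this
      rw [this]; rfl
    set t₀ := (Finset.univ.filter fun t : Fin d => σ t ≠ t).min' hne with ht₀
    have h0 : σ t₀ ≠ t₀ := by
      have := Finset.min'_mem _ hne
      rw [Finset.mem_filter] at this
      exact this.2
    have hmin : ∀ t, t < t₀ → σ t = t := by
      intro t ht
      by_contra hc
      have hmem : t ∈ Finset.univ.filter fun t : Fin d => σ t ≠ t := by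
        rw [Finset.mem_filter]; exact ⟨Finset.mem_univ _, hc⟩
      exact absurd (Finset.min'_le _ t hmem) (not_le.mpr ht)
    have hgt := perm_gt_of_min σ t₀ h0 hmin
    -- t₁ = σ⁻¹ t₀ > t₀
    set t₁ := σ⁻¹ t₀ with ht₁
    have hσt₁ : σ t₁ = t₀ := by rw [ht₁]; simp
    have hlt : t₀ < t₁ := by
      rcases lt_trichotomy t₁ t₀ with h | h | h
      · exfalso
        have := hmin t₁ h
        rw [hσt₁] at this
        exact absurd this.symm (ne_of_lt h)
      · exfalso
        rw [h] at hσt₁
        exact h0 hσt₁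
      · exact h
    have hh := hcon (i := t₀) (j := t₁) (by
      show t₀.val + 1 < t₁.val + 1
      have : t₀.val < t₁.val := hlt
      omega)
    simp only [Function.comp_apply, hσt₁] at hh
    have h3 : (θ t₀).val < (θ (σ t₀)).val := hθ hgt
    omega

end Weight

section TopForm

variable {K : Type u} [CommRing K] {d n : ℕ}

/-- `p` has the monomial `x^E` with coefficient one, all other monomials being of smaller weight. -/
def TopForm (p : MvPolynomial (LVar d n) K) (E : LVar d n →₀ ℕ) : Prop :=
  coeff E p = 1 ∧ ∀ e, coeff e p ≠ 0 → e = E ∨ wtE e < wtE E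

theorem TopForm.one : TopForm (1 : MvPolynomial (LVar d n) K) 0 := by
  constructor
  · rw [coeff_zero_one]
  · intro e he
    left
    by_contra hne
    apply he
    rw [coeff_one, if_neg (fun h => hne h.symm)]

theorem TopForm.mul {p q : MvPolynomial (LVar d n) K} {E E' : LVar d n →₀ ℕ}
    (hp : TopForm p E) (hq : TopForm q E') : TopForm (p * q) (E + E') := by
  classical
  constructor
  · rw [coeff_mul, Finset.sum_eq_single (E, E')]
    · rw [hp.1, hq.1, mul_one]
    · rintro ⟨a, b⟩ hab hne
      rw [Finset.HasAntidiagonal.mem_antidiagonal] at hab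
      simp only at hab
      by_contra hcon
      have ha : coeff a p ≠ 0 := fun h => hcon (by rw [h, zero_mul])
      have hb : coeff b q ≠ 0 := fun h => hcon (by rw [h, mul_zero])
      have hw : wtE a + wtE b = wtE E + wtE E' := by rw [← wtE_add, ← wtE_add, hab]
      rcases hp.2 a ha with h1 | h1
      · subst h1
        have : b = E' := add_left_cancel hab
        subst this
        exact hne rfl
      · rcases hq.2 b hb with h2 | h2
        · subst h2
          have : a = E := add_right_cancel hab
          subst this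
          exact hne rfl
        · omega
    · intro h
      exact absurd ((Finset.HasAntidiagonal.mem_antidiagonal (n := E + E') (a := (E, E'))).mpr rfl) h
  · intro e he
    rw [coeff_mul] at he
    obtain ⟨⟨a, b⟩, hab, hne⟩ := Finset.exists_ne_zero_of_sum_ne_zero he
    rw [Finset.HasAntidiagonal.mem_antidiagonal] at hab
    simp only at hab hne
    have ha : coeff a p ≠ 0 := fun h => hne (by rw [h, zero_mul])
    have hb : coeff b q ≠ 0 := fun h => hne (by rw [h, mul_zero])
    rw [← hab, wtE_add, wtE_add]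
    rcases hp.2 a ha with h1 | h1
    · rcases hq.2 b hb with h2 | h2
      · left; rw [h1, h2]
      · right; rw [h1]; omega
    · rcases hq.2 b hb with h2 | h2
      · right; rw [h2]; omega
      · right; omega

theorem TopForm.prod {ι : Type*} (s : Finset ι) (p : ι → MvPolynomial (LVar d n) K)
    (E : ι → LVar d n →₀ ℕ) (h : ∀ i ∈ s, TopForm (p i) (E i)) :
    TopForm (∏ i ∈ s, p i) (∑ i ∈ s, E i) := by
  classical
  induction s using Finset.induction_on with
  | empty => simpa using TopForm.one
  | insert i s hi ih =>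
    rw [Finset.prod_insert hi, Finset.sum_insert hi]
    exact (h i (Finset.mem_insert_self i s)).mul (ih (fun j hj => h j (Finset.mem_insert_of_mem hj)))

variable (P : Fin n → Fin d → Prop) [∀ s t, Decidable (P s t)]

theorem psi_X_coeff_ne_wt (θ : Idx d n) (c : LVar d n →₀ ℕ) (hc : coeff c (psi K P (X θ)) ≠ 0) :
    c = Dexp θ.1 ∨ wtE c < wtE (Dexp θ.1) := by
  rw [psi_X, coeff_sum] at hc
  obtain ⟨σ, _, hσ⟩ := Finset.exists_ne_zero_of_sum_ne_zero hc
  have h1 : coeff c (∏ t, MP K P (θ.1 (σ t)) t) ≠ 0 := fun h => hσ (coeff_sign_mul σ c _ h)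
  rw [term_eq P (fun t => θ.1 (σ t))] at h1
  split_ifs at h1 with hP
  · rw [coeff_monomial] at h1
    split_ifs at h1 with hc'
    · by_cases hσ1 : σ = 1
      · left; rw [← hc', hσ1]; rfl
      · right; rw [← hc']; exact wtE_Dexp_perm_lt θ.1 θ.2 σ hσ1
    · exact absurd rfl h1
  · simp at h1

theorem topForm_psi_X (θ : Idx d n) (hθ : Good P θ) : TopForm (psi K P (X θ)) (Dexp θ.1) :=
  ⟨psi_X_coeff_D P θ hθ, psi_X_coeff_ne_wt P θ⟩

theorem topForm_psi_chainMon {m : ℕ} (c : Fin m → Idx d n) (hc : ∀ k, Good P (c k)) :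
    TopForm (psi K P (chainMon K c)) (Eexp c) := by
  rw [psi_chainMon]
  unfold Eexp
  exact TopForm.prod _ _ _ (fun k _ => topForm_psi_X P (c k) (hc k))

end TopForm

section Hibi

variable {K : Type u} [Field K] [Infinite K] {d n : ℕ}

/-- The Hibi weight of a multichain. -/
noncomputable def wtH {w : Idx d n} (c : Ch w) : ℕ := wtE (Eexp c.2.1)

theorem good_ch {w : Idx d n} (c : Ch w) (k : Fin c.1) : Good (PS w) (c.2.1 k) :=
  (good_PS w _).mpr (ch_le c k)

theorem coeff_top_of_max (hd : 0 < d) (w : Idx d n) (l : Ch w →₀ K) (c₁ : Ch w)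
    (hc₁ : c₁ ∈ l.support) (hmax : ∀ c ∈ l.support, wtH c ≤ wtH c₁) :
    coeff (Eexp c₁.2.1) (∑ c ∈ l.support, l c • psi K (PS w) (chainMon K c.2.1)) = l c₁ := by
  classical
  rw [coeff_sum, Finset.sum_eq_single c₁]
  · rw [coeff_smul, (topForm_psi_chainMon (K := K) (PS w) c₁.2.1 (good_ch c₁)).1, smul_eq_mul, mul_one]
  · intro c hc hne
    rw [coeff_smul]
    have : coeff (Eexp c₁.2.1) (psi K (PS w) (chainMon K c.2.1)) = 0 := by
      by_contra hcon
      rcases (topForm_psi_chainMon (K := K) (PS w) c.2.1 (good_ch c)).2 _ hcon with h | h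
      · apply hne
        exact (chains_ext _ (Eexp_inj hd c₁.2.1 c.2.1 c₁.2.2.1 c.2.2.1 h)).symm
      · have := hmax c hc
        unfold wtH at this
        omega
    rw [this, smul_zero]
  · intro h; exact absurd hc₁ h

theorem psi_eq_sum_repr (hd : 0 < d) (w : Idx d n) (G : PlRing K d n) :
    psi K (PS w) G
      = ∑ c ∈ ((stdB (K := K) hd w).repr (Ideal.Quotient.mk (schubertVanishing K d n w) G)).support,
          ((stdB (K := K) hd w).repr (Ideal.Quotient.mk (schubertVanishing K d n w) G)) c
            • psi K (PS w) (chainMon K c.2.1) := by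
  set l := (stdB (K := K) hd w).repr (Ideal.Quotient.mk (schubertVanishing K d n w) G) with hl
  have h1 : Ideal.Quotient.mk (schubertVanishing K d n w) G
      = Ideal.Quotient.mk (schubertVanishing K d n w) (∑ c ∈ l.support, l c • chainMon K c.2.1) := by
    have h2 := (stdB (K := K) hd w).linearCombination_repr
      (Ideal.Quotient.mk (schubertVanishing K d n w) G)
    rw [← hl, Finsupp.linearCombination_apply, Finsupp.sum] at h2
    rw [← h2, map_sum]
    apply Finset.sum_congr rfl
    intro c _
    rw [stdB_apply]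
    rfl
  rw [Ideal.Quotient.eq, ← ker_psi_eq hd w, RingHom.mem_ker] at h1
  have h3 : psi K (PS w) (G - ∑ c ∈ l.support, l c • chainMon K c.2.1) = 0 := h1
  rw [map_sub, sub_eq_zero, map_sum] at h3
  rw [h3]
  apply Finset.sum_congr rfl
  intro c _
  rw [map_smul]

/-- A polynomial whose image has only monomials of weight `≤ W` lies in the `W`-th filtration step. -/
theorem mk_mem_Fil_of_wt (hd : 0 < d) (w : Idx d n) (G : PlRing K d n) (W : ℕ)
    (h : ∀ e, coeff e (psi K (PS w) G) ≠ 0 → wtE e ≤ W) :
    Ideal.Quotient.mk (schubertVanishing K d n w) G ∈ Fil (stdB (K := K) hd w) wtH W := by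
  unfold Fil
  rw [Module.Basis.mem_span_image]
  intro c hc
  rw [Finset.mem_coe] at hc
  obtain ⟨c₁, hc₁, hmax⟩ := Finset.exists_max_image _ wtH ⟨c, hc⟩
  have h1 := coeff_top_of_max hd w _ c₁ hc₁ hmax
  rw [← psi_eq_sum_repr hd w G] at h1
  have h2 : coeff (Eexp c₁.2.1) (psi K (PS w) G) ≠ 0 := by
    rw [h1]; exact Finsupp.mem_support_iff.mp hc₁
  have h3 := h _ h2
  exact le_trans (hmax c hc) h3

theorem hypH (hd : 0 < d) (w : Idx d n) : Hyp (stdB (K := K) hd w) wtH where
  one_mem := by
    have := basis_mem_Fil (stdB (K := K) hd w) wtH (emptyCh w) (i := 0) (by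
      unfold wtH emptyCh Eexp; simp [wtE_zero])
    rw [stdB_apply] at this
    have e : chainMon K (emptyCh w).2.1 = 1 := by
      unfold chainMon emptyCh; simp
    rw [e, map_one] at this
    exact this
  mul_mem := by
    intro c c'
    rw [stdB_apply, stdB_apply, ← map_mul]
    apply mk_mem_Fil_of_wt
    intro e he
    rw [map_mul] at he
    have ht := (topForm_psi_chainMon (K := K) (PS w) c.2.1 (good_ch c)).mul
      (topForm_psi_chainMon (K := K) (PS w) c'.2.1 (good_ch c'))
    unfold wtH
    rw [← wtE_add]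
    rcases ht.2 e he with h | h
    · rw [h]
    · exact le_of_lt h

theorem wtH_single {w : Idx d n} (θ : Below w) : wtH (singleCh θ) = wtE (Dexp θ.1.1) := by
  unfold wtH singleCh Eexp
  simp

theorem wtH_prod {w : Idx d n} (c : Ch w) :
    wtH c = ∑ j, wtH (singleCh (⟨c.2.1 j, ch_le c j⟩ : Below w)) := by
  simp only [wtH_single]
  unfold wtH Eexp
  rw [wtE_sum]

theorem wtH_sup_inf {w : Idx d n} (a b : Below w) :
    wtH (singleCh (Below.sup a b)) + wtH (singleCh (Below.inf a b))
      = wtH (singleCh a) + wtH (singleCh b) := by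
  simp only [wtH_single]
  rw [← wtE_add, ← wtE_add]
  congr 1
  exact Dexp_sup_add_inf a.1 b.1

/-- The Hibi relation drops in the filtration. -/
theorem hibi_drop (hd : 0 < d) (w : Idx d n) (a b : Below w) (W : ℕ)
    (hW : W + 1 = wtH (singleCh a) + wtH (singleCh b)) :
    Ideal.Quotient.mk (schubertVanishing K d n w)
        (X a.1 * X b.1 - X (Below.sup a b).1 * X (Below.inf a b).1)
      ∈ Fil (stdB (K := K) hd w) wtH W := by
  apply mk_mem_Fil_of_wt
  intro e he
  have h1 : TopForm (psi K (PS w) (X a.1 * X b.1)) (Dexp a.1.1 + Dexp b.1.1) := by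
    rw [map_mul]
    exact (topForm_psi_X (K := K) (PS w) a.1 ((good_PS w _).mpr a.2)).mul
      (topForm_psi_X (K := K) (PS w) b.1 ((good_PS w _).mpr b.2))
  have h2 : TopForm (psi K (PS w) (X (Below.sup a b).1 * X (Below.inf a b).1))
      (Dexp a.1.1 + Dexp b.1.1) := by
    rw [map_mul, ← Dexp_sup_add_inf a.1 b.1]
    exact (topForm_psi_X (K := K) (PS w) _ ((good_PS w _).mpr (Below.sup a b).2)).mul
      (topForm_psi_X (K := K) (PS w) _ ((good_PS w _).mpr (Below.inf a b).2))
  rw [map_sub, coeff_sub] at he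
  have hW' : W + 1 = wtE (Dexp a.1.1 + Dexp b.1.1) := by
    rw [hW, wtH_single, wtH_single, wtE_add]
  by_cases hE : e = Dexp a.1.1 + Dexp b.1.1
  · exfalso
    apply he
    rw [hE, h1.1, h2.1, sub_self]
  · by_cases hc1 : coeff e (psi K (PS w) (X a.1 * X b.1)) = 0
    · have hc2 : coeff e (psi K (PS w) (X (Below.sup a b).1 * X (Below.inf a b).1)) ≠ 0 := by
        intro h; apply he; rw [hc1, h, sub_self]
      rcases h2.2 e hc2 with h | h
      · exact absurd h hE
      · omega
    · rcases h1.2 e hc1 with h | h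
      · exact absurd h hE
      · omega

end Hibi

end Groth.Agent.Lib.Helper8.Gr
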