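import Mathlib
import Groth.Prelude.Def_W4bk4grassmannianPl
import Groth.Agent.Lib.Helper8.Deg4
set_option backward.isDefEq.respectTransparency.types false
set_option linter.unusedSectionVars false
set_option autoImplicit false
universe u

namespace Groth.Agent.Lib.Helper8.Gr
open W4bk4grassmannian MvPolynomial
open Groth.Agent.Lib.Helper8.Rees

section HibiFibre

variable {K : Type u} [Field K] [Infinite K] {d n : ℕ}

/-- The termination measure on multisets of `H(w)`. -/
def PhiB {w : Idx d n} (s : Multiset (Below w)) : ℕ := Phi (s.map Subtype.val)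

theorem PhiB_cons {w : Idx d n} (a : Below w) (s : Multiset (Below w)) :
    PhiB (a ::ₘ s) = key a.1 ^ 2 + PhiB s := by
  unfold PhiB
  rw [Multiset.map_cons, Phi_cons]

theorem PhiB_le {w : Idx d n} (s : Multiset (Below w)) : PhiB s ≤ Multiset.card s * (d * n) ^ 2 := by
  unfold PhiB
  have := Phi_le (s.map Subtype.val)
  rwa [Multiset.card_map] at this

theorem key_sup_gt {w : Idx d n} (a b : Below w) (hba : ¬ b ≤ a) :
    key a.1 < key (Below.sup a b).1 := by
  apply key_lt
  · intro t; exact le_max_left _ _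
  · intro h
    apply hba
    show b.1 ≤ a.1
    rw [h]
    intro t; exact le_max_right _ _

theorem xCh_span_hibi (w : Idx d n) :
    ⊤ ≤ Submodule.span K (Set.range (xCh (K := K) (hibiIdeal K w))) := by
  apply span_of_multiset
  intro s
  induction' hN : (Multiset.card s * (d * n) ^ 2 - PhiB s) using Nat.strong_induction_on
    with N IH generalizing s
  by_cases hcomp : ∀ a ∈ s, ∀ b ∈ s, a.1 ≤ b.1 ∨ b.1 ≤ a.1
  · obtain ⟨c, hc⟩ := sorted_below (hibiIdeal K w) s hcomp
    rw [hc]
    exact Submodule.subset_span ⟨c, rfl⟩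
  · push Not at hcomp
    obtain ⟨a₀, ha₀, b₀, hb₀, hab₀, hba₀⟩ := hcomp
    -- arrange key b ≤ key a
    have hex : ∃ (a b : Below w) (s' : Multiset (Below w)), s = a ::ₘ b ::ₘ s' ∧ ¬ b ≤ a ∧
        key b.1 ≤ key a.1 := by
      have hne : b₀ ≠ a₀ := fun h => hab₀ (h ▸ le_refl _)
      obtain ⟨t, rfl⟩ := Multiset.exists_cons_of_mem ha₀
      have hbt : b₀ ∈ t := by
        rcases Multiset.mem_cons.mp hb₀ with h | h
        · exact absurd h hne
        · exact h
      obtain ⟨s', rfl⟩ := Multiset.exists_cons_of_mem hbt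
      rcases le_total (key b₀.1) (key a₀.1) with hk | hk
      · exact ⟨a₀, b₀, s', rfl, hba₀, hk⟩
      · exact ⟨b₀, a₀, s', Multiset.cons_swap a₀ b₀ s', hab₀, hk⟩
    obtain ⟨a, b, s', rfl, hba, hk⟩ := hex
    have heq : Ideal.Quotient.mk (hibiIdeal K w) ((a ::ₘ b ::ₘ s').map X).prod
        = Ideal.Quotient.mk (hibiIdeal K w)
            ((Below.sup a b ::ₘ Below.inf a b ::ₘ s').map X).prod := by
      rw [Ideal.Quotient.eq]
      simp only [Multiset.map_cons, Multiset.prod_cons]
      have : X a * (X b * (s'.map X).prod) - X (Below.sup a b) * (X (Below.inf a b) * (s'.map X).prod)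
          = (X a * X b - X (Below.sup a b) * X (Below.inf a b)) * (s'.map (X (R := K))).prod := by
        ring
      rw [this]
      apply Ideal.mul_mem_right
      exact Ideal.subset_span ⟨a, b, rfl⟩
    rw [heq]
    have hphi : PhiB (a ::ₘ b ::ₘ s') < PhiB (Below.sup a b ::ₘ Below.inf a b ::ₘ s') := by
      rw [PhiB_cons, PhiB_cons, PhiB_cons, PhiB_cons]
      have h1 := key_sup_gt a b hba
      have h2 : key (Below.sup a b).1 + key (Below.inf a b).1 = key a.1 + key b.1 :=
        key_sup_add_inf a.1 b.1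
      have := sq_lemma (key a.1) (key b.1) (key (Below.sup a b).1) (key (Below.inf a b).1) h1 hk h2
      omega
    have hcard : Multiset.card (Below.sup a b ::ₘ Below.inf a b ::ₘ s')
        = Multiset.card (a ::ₘ b ::ₘ s') := by simp
    have hle := PhiB_le (Below.sup a b ::ₘ Below.inf a b ::ₘ s')
    have hle0 := PhiB_le (a ::ₘ b ::ₘ s')
    apply IH (Multiset.card (Below.sup a b ::ₘ Below.inf a b ::ₘ s') * (d * n) ^ 2
      - PhiB (Below.sup a b ::ₘ Below.inf a b ::ₘ s')) ?_ _ rfl
    rw [hcard] at hle ⊢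
    omega

/-- The map from the polynomial ring on `H(w)` to the special fibre of the Hibi family. -/
noncomputable def phi0H (hd : 0 < d) (w : Idx d n) :
    MvPolynomial (Below w) K →ₐ[K] (ReesT (hypH (K := K) hd w) ⧸ I0 (hypH (K := K) hd w)) :=
  aeval fun θ : Below w => rebar (hypH (K := K) hd w) (singleCh θ)

theorem re_sub_mem_I0_hibi (hd : 0 < d) (w : Idx d n) (a b : Below w) :
    re (hypH (K := K) hd w) (singleCh a) * re (hypH (K := K) hd w) (singleCh b)
      - re (hypH (K := K) hd w) (singleCh (Below.sup a b))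
        * re (hypH (K := K) hd w) (singleCh (Below.inf a b))
      ∈ I0 (hypH (K := K) hd w) := by
  have hpos : 0 < wtH (singleCh a) := by
    rw [wtH_single]; exact wtE_Dexp_pos hd _
  obtain ⟨W, hW⟩ : ∃ W, W + 1 = wtH (singleCh a) + wtH (singleCh b) :=
    ⟨wtH (singleCh a) + wtH (singleCh b) - 1, by omega⟩
  have h := hibi_drop (K := K) hd w a b W hW
  rw [map_sub, map_mul, map_mul, ← stdB_single hd w a, ← stdB_single hd w b,
    ← stdB_single hd w (Below.sup a b), ← stdB_single hd w (Below.inf a b)] at h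
  apply mem_I0_of (hypH (K := K) hd w) _ W _ _ h
  rw [map_sub, re_mul_re, re_mul_re, wtH_sup_inf, ← hW, ← map_sub]

theorem phi0H_ker (hd : 0 < d) (w : Idx d n) :
    ∀ f ∈ hibiIdeal K w, phi0H (K := K) hd w f = 0 := by
  intro f hf
  have : hibiIdeal K w ≤ RingHom.ker (phi0H (K := K) hd w).toRingHom := by
    unfold hibiIdeal
    rw [Ideal.span_le]
    rintro _ ⟨a, b, rfl⟩
    rw [SetLike.mem_coe, RingHom.mem_ker]
    show phi0H (K := K) hd w (X a * X b - X (Below.sup a b) * X (Below.inf a b)) = 0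
    unfold phi0H
    rw [map_sub, map_mul, map_mul, aeval_X, aeval_X, aeval_X, aeval_X]
    unfold rebar
    rw [← map_mul, ← map_mul, ← map_sub, Ideal.Quotient.eq_zero_iff_mem]
    exact re_sub_mem_I0_hibi hd w a b
  exact (RingHom.mem_ker).mp (this hf)

/-- The induced map on the Hibi ring. -/
noncomputable def phiH (hd : 0 < d) (w : Idx d n) :
    (MvPolynomial (Below w) K ⧸ hibiIdeal K w) →ₐ[K]
      (ReesT (hypH (K := K) hd w) ⧸ I0 (hypH (K := K) hd w)) :=
  Ideal.Quotient.liftₐ (hibiIdeal K w) (phi0H (K := K) hd w) (phi0H_ker hd w)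

theorem phiH_xCh (hd : 0 < d) (w : Idx d n) (c : Ch w) :
    phiH (K := K) hd w (xCh (hibiIdeal K w) c) = rebar (hypH (K := K) hd w) c := by
  unfold phiH xCh
  rw [Ideal.Quotient.liftₐ_apply, Ideal.Quotient.lift_mk]
  show phi0H (K := K) hd w _ = _
  unfold phi0H
  rw [map_prod]
  simp only [aeval_X]
  unfold rebar
  rw [← map_prod, ← re_prod (hypH (K := K) hd w) (fun j => singleCh ⟨c.2.1 j, ch_le c j⟩) c
    (stdB_prod hd w c) (wtH_prod c)]

/-- The Hibi (toric) degeneration of a Schubert cone. -/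
theorem hibi_family (hd : 0 < d) (w : Idx d n) :
    ∃ (R : Type u) (_ : CommRing R) (_ : Algebra K R) (_ : Algebra (Polynomial K) R)
      (_ : IsScalarTower K (Polynomial K) R),
      Module.Free (Polynomial K) R ∧
      Nonempty ((R ⧸ Ideal.span {algebraMap (Polynomial K) R Polynomial.X}) ≃ₐ[K]
        (MvPolynomial (Below w) K ⧸ hibiIdeal K w)) ∧
      ∀ c : K, c ≠ 0 →
        Nonempty ((R ⧸ Ideal.span {algebraMap (Polynomial K) R (Polynomial.X - Polynomial.C c)}) ≃ₐ[K]
          (PlRing K d n ⧸ schubertVanishing K d n w)) :=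
  ⟨ReesT (hypH (K := K) hd w), inferInstance, algK _, algKX _, tower _, rees_free _,
    ⟨specialEquiv (hypH (K := K) hd w) (xCh (hibiIdeal K w)) (xCh_span_hibi w) (phiH hd w)
      (phiH_xCh hd w)⟩,
    fun c hc => ⟨fibreEquiv (hypH (K := K) hd w) c hc⟩⟩

end HibiFibre

end Groth.Agent.Lib.Helper8.Gr
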