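import Mathlib
import Groth.Agent.Lib.Helper16.Depth
import Groth.Agent.Lib.Helper18.CM1

set_option autoImplicit false
universe u

namespace Groth.Agent.Lib.Helper8.DepthHom

open Groth.Agent.Lib.Helper16.Depth RingTheory.Sequence
open scoped Pointwise

variable {R : Type u} [CommRing R] {M N : Type u} [AddCommGroup M] [Module R M]
  [AddCommGroup N] [Module R N]

theorem isSMulRegular_hom {x : R} (hx : IsSMulRegular N x) : IsSMulRegular (M →ₗ[R] N) x := by
  intro f g hfg
  ext m
  apply hx
  exact LinearMap.congr_fun hfg m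

/-- The map `Hom(M,N)/x → Hom(M, N/x)`. -/
noncomputable def homQuot (x : R) : QuotSMulTop x (M →ₗ[R] N) →ₗ[R] (M →ₗ[R] QuotSMulTop x N) :=
  Submodule.liftQ _ (LinearMap.compRight R (Submodule.mkQ (x • (⊤ : Submodule R N)))) (by
    intro f hf
    rw [Submodule.mem_smul_pointwise_iff_exists] at hf
    obtain ⟨g, -, rfl⟩ := hf
    rw [LinearMap.mem_ker]
    ext m
    simp only [LinearMap.compRight_apply, LinearMap.coe_comp, Function.comp_apply,
      LinearMap.smul_apply, Submodule.mkQ_apply, LinearMap.zero_apply]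
    rw [Submodule.Quotient.mk_eq_zero]
    exact Submodule.smul_mem_pointwise_smul _ _ _ Submodule.mem_top)

theorem homQuot_injective {x : R} (hx : IsSMulRegular N x) :
    Function.Injective (homQuot (M := M) (N := N) x) := by
  rw [← LinearMap.ker_eq_bot, homQuot, Submodule.ker_liftQ_eq_bot']
  apply le_antisymm
  · intro f hf
    rw [Submodule.mem_smul_pointwise_iff_exists] at hf
    obtain ⟨g, -, rfl⟩ := hf
    rw [LinearMap.mem_ker]
    ext m
    simp only [LinearMap.compRight_apply, LinearMap.coe_comp, Function.comp_apply,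
      LinearMap.smul_apply, Submodule.mkQ_apply, LinearMap.zero_apply]
    rw [Submodule.Quotient.mk_eq_zero]
    exact Submodule.smul_mem_pointwise_smul _ _ _ Submodule.mem_top
  · intro f hf
    rw [LinearMap.mem_ker] at hf
    have hmem : ∀ m, f m ∈ x • (⊤ : Submodule R N) := by
      intro m
      have := LinearMap.congr_fun hf m
      simp only [LinearMap.compRight_apply, LinearMap.coe_comp, Function.comp_apply,
        Submodule.mkQ_apply, LinearMap.zero_apply] at this
      rwa [Submodule.Quotient.mk_eq_zero] at this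
    have hex : ∀ m, ∃ n, x • n = f m := by
      intro m
      obtain ⟨n, -, hn⟩ := (Submodule.mem_smul_pointwise_iff_exists _ _ _).mp (hmem m)
      exact ⟨n, hn⟩
    choose g hg using hex
    rw [Submodule.mem_smul_pointwise_iff_exists]
    refine ⟨{ toFun := g, map_add' := ?_, map_smul' := ?_ }, Submodule.mem_top, ?_⟩
    · intro a b
      apply hx
      simp only [smul_add, hg, map_add]
    · intro r a
      apply hx
      simp only [RingHom.id_apply, hg, map_smul, smul_comm x r]
    · ext m
      simp [hg]

end Groth.Agent.Lib.Helper8.DepthHom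

namespace Groth.Agent.Lib.Helper8.DepthHom
open Groth.Agent.Lib.Helper16.Depth RingTheory.Sequence Groth.Agent.Lib.Helper18.CM
open scoped Pointwise

variable {R : Type u} [CommRing R] {M N : Type u} [AddCommGroup M] [Module R M]
  [AddCommGroup N] [Module R N]

theorem isSMulRegular_quot_hom {x y : R} (hx : IsSMulRegular N x)
    (hy : IsSMulRegular (QuotSMulTop x N) y) : IsSMulRegular (QuotSMulTop x (M →ₗ[R] N)) y := by
  intro a b hab
  apply homQuot_injective (M := M) hx
  apply isSMulRegular_hom (M := M) hy
  simp only [← map_smul]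
  exact congrArg _ hab

theorem hasRegSeq_hom (I : Ideal R) :
    (HasRegSeq I N 1 → HasRegSeq I (M →ₗ[R] N) 1) ∧
    (HasRegSeq I N 2 → HasRegSeq I (M →ₗ[R] N) 2) := by
  constructor
  · rintro ⟨rs, hlen, hreg, hmem⟩
    match rs, hlen with
    | [x], _ =>
      have hx := ((isWeaklyRegular_cons_iff N x []).mp hreg).1
      exact HasRegSeq.cons (hmem x (by simp)) (isSMulRegular_hom hx) HasRegSeq.zero
  · rintro ⟨rs, hlen, hreg, hmem⟩
    match rs, hlen with
    | [x, y], _ =>
      obtain ⟨hx, hreg'⟩ := (isWeaklyRegular_cons_iff N x [y]).mp hreg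
      have hy := ((isWeaklyRegular_cons_iff (QuotSMulTop x N) y []).mp hreg').1
      refine HasRegSeq.cons (hmem x (by simp)) (isSMulRegular_hom hx) ?_
      exact HasRegSeq.cons (hmem y (by simp)) (isSMulRegular_quot_hom hx hy) HasRegSeq.zero

theorem main (R : Type u) [CommRing R] [IsNoetherianRing R] [IsLocalRing R]
    (M N : Type u) [AddCommGroup M] [Module R M] [Module.Finite R M] [AddCommGroup N] [Module R N] [Module.Finite R N] :
    (1 ≤ LocCoh.depth R N → 1 ≤ LocCoh.depth R (M →ₗ[R] N)) ∧
    (2 ≤ LocCoh.depth R N → 2 ≤ LocCoh.depth R (M →ₗ[R] N)) := by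
  rcases subsingleton_or_nontrivial N with hN | hN
  · have : Subsingleton (M →ₗ[R] N) := inferInstance
    have htop : LocCoh.depth R (M →ₗ[R] N) = ⊤ := by
      apply idealDepth_eq_top_of_smul_top_eq_top
      exact Subsingleton.elim _ _
    rw [htop]
    exact ⟨fun _ => le_top, fun _ => le_top⟩
  · have hne := maximalIdeal_smul_top_ne_top (R := R) N
    have h1 := le_idealDepth_iff (IsLocalRing.maximalIdeal R) N 1
    have h2 := le_idealDepth_iff (IsLocalRing.maximalIdeal R) N 2
    have h1' := le_idealDepth_iff (IsLocalRing.maximalIdeal R) (M →ₗ[R] N) 1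
    have h2' := le_idealDepth_iff (IsLocalRing.maximalIdeal R) (M →ₗ[R] N) 2
    simp only [hne, false_or, Nat.cast_one, Nat.cast_ofNat] at h1 h2
    simp only [Nat.cast_one, Nat.cast_ofNat] at h1' h2'
    unfold LocCoh.depth
    constructor
    · intro h
      rw [h1']
      exact Or.inr ((hasRegSeq_hom _).1 (h1.mp h))
    · intro h
      rw [h2']
      exact Or.inr ((hasRegSeq_hom _).2 (h2.mp h))

end Groth.Agent.Lib.Helper8.DepthHom
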