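import Mathlib
import Groth.Prelude.Def_W4bk4grassmannianPl
import Groth.Agent.Lib.Helper8.Det1
set_option backward.isDefEq.respectTransparency.types false
set_option linter.unusedSectionVars false
set_option autoImplicit false
universe u

namespace Groth.Agent.Lib.Helper8.Gr
open W4bk4grassmannian MvPolynomial

section Pairs

variable {K : Type u} [Field K] {n m q : ℕ}

/-- Evaluation of pair polynomials at a pair of matrices. -/
noncomputable def evP {R : Type*} [CommRing R] [Algebra K R] (U : Matrix (Fin m) (Fin n) R)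
    (W : Matrix (Fin n) (Fin q) R) : PairRing K n m q →ₐ[K] R :=
  aeval (Sum.elim (fun p : Fin m × Fin n => U p.1 p.2) (fun p : Fin n × Fin q => W p.1 p.2))

theorem evP_inl {R : Type*} [CommRing R] [Algebra K R] (U : Matrix (Fin m) (Fin n) R)
    (W : Matrix (Fin n) (Fin q) R) (p : Fin m × Fin n) :
    evP (K := K) U W (X (Sum.inl p)) = U p.1 p.2 := by
  unfold evP; rw [aeval_X, Sum.elim_inl]

theorem evP_inr {R : Type*} [CommRing R] [Algebra K R] (U : Matrix (Fin m) (Fin n) R)
    (W : Matrix (Fin n) (Fin q) R) (p : Fin n × Fin q) :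
    evP (K := K) U W (X (Sum.inr p)) = W p.1 p.2 := by
  unfold evP; rw [aeval_X, Sum.elim_inr]

theorem evP_ext {R : Type*} [CommRing R] [Algebra K R] (U : Matrix (Fin m) (Fin n) R)
    (W : Matrix (Fin n) (Fin q) R) (φ : PairRing K n m q →ₐ[K] R)
    (hU : ∀ p : Fin m × Fin n, φ (X (Sum.inl p)) = U p.1 p.2)
    (hW : ∀ p : Fin n × Fin q, φ (X (Sum.inr p)) = W p.1 p.2) : φ = evP U W := by
  apply MvPolynomial.algHom_ext
  rintro (p | p)
  · rw [hU, evP_inl]
  · rw [hW, evP_inr]

theorem evP_comp {R R' : Type*} [CommRing R] [Algebra K R] [CommRing R'] [Algebra K R']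
    (U : Matrix (Fin m) (Fin n) R) (W : Matrix (Fin n) (Fin q) R) (φ : R →ₐ[K] R')
    (f : PairRing K n m q) : φ (evP (K := K) U W f) = evP (K := K) (U.map φ) (W.map φ) f := by
  have : φ.comp (evP (K := K) U W) = evP (K := K) (U.map φ) (W.map φ) := by
    apply evP_ext
    · intro p; rw [AlgHom.comp_apply, evP_inl]; rfl
    · intro p; rw [AlgHom.comp_apply, evP_inr]; rfl
  rw [← this, AlgHom.comp_apply]

/-- The generic matrices. -/
noncomputable def Ugen (K : Type u) [Field K] (n m q : ℕ) : Matrix (Fin m) (Fin n) (PairRing K n m q) :=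
  Matrix.of fun i k => X (Sum.inl (i, k))

noncomputable def Wgen (K : Type u) [Field K] (n m q : ℕ) : Matrix (Fin n) (Fin q) (PairRing K n m q) :=
  Matrix.of fun k j => X (Sum.inr (k, j))

theorem evP_gen (f : PairRing K n m q) : evP (K := K) (Ugen K n m q) (Wgen K n m q) f = f := by
  have : evP (K := K) (Ugen K n m q) (Wgen K n m q) = AlgHom.id K _ := by
    symm
    apply evP_ext
    · intro p; rfl
    · intro p; rfl
  rw [this, AlgHom.id_apply]

/-- Constant matrices. -/
noncomputable def cmat {a b : ℕ} (R : Type*) [CommRing R] [Algebra K R] (M : Matrix (Fin a) (Fin b) K) :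
    Matrix (Fin a) (Fin b) R := M.map (algebraMap K R)

theorem cmat_apply {a b : ℕ} (R : Type*) [CommRing R] [Algebra K R] (M : Matrix (Fin a) (Fin b) K)
    (i : Fin a) (j : Fin b) : cmat R M i j = algebraMap K R (M i j) := rfl

theorem cmat_mul {a b c : ℕ} (R : Type*) [CommRing R] [Algebra K R] (M : Matrix (Fin a) (Fin b) K)
    (N : Matrix (Fin b) (Fin c) K) : cmat R (M * N) = cmat R M * cmat R N := by
  ext i j
  simp only [cmat_apply, Matrix.mul_apply, map_sum, map_mul]

theorem cmat_one {a : ℕ} (R : Type*) [CommRing R] [Algebra K R] :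
    cmat R (1 : Matrix (Fin a) (Fin a) K) = 1 := by
  ext i j
  simp only [cmat_apply, Matrix.one_apply]
  split_ifs <;> simp

theorem cmat_map {a b : ℕ} {R R' : Type*} [CommRing R] [Algebra K R] [CommRing R'] [Algebra K R']
    (M : Matrix (Fin a) (Fin b) K) (φ : R →ₐ[K] R') : (cmat R M).map φ = cmat R' M := by
  ext i j
  simp only [Matrix.map_apply, cmat_apply, AlgHom.commutes]

theorem map_mul3 {R R' : Type*} [CommRing R] [CommRing R'] {a b c : ℕ}
    (M : Matrix (Fin a) (Fin b) R) (N : Matrix (Fin b) (Fin c) R) (φ : R →+* R') :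
    (M * N).map φ = M.map φ * N.map φ := by
  ext s t
  simp only [Matrix.map_apply, Matrix.mul_apply, map_sum, map_mul]

theorem map_mul4 {R R' : Type*} [CommRing R] [CommRing R'] [Algebra K R] [Algebra K R'] {a b c : ℕ}
    (M : Matrix (Fin a) (Fin b) R) (N : Matrix (Fin b) (Fin c) R) (φ : R →ₐ[K] R') :
    (M * N).map φ = M.map φ * N.map φ := by
  ext s t
  simp only [Matrix.map_apply, Matrix.mul_apply, map_sum, map_mul]

theorem glTranslate_eq (A : GL (Fin n) K) :
    glTranslate K n m q A = evP (K := K)
      (Ugen K n m q * cmat (PairRing K n m q) ((A⁻¹ : GL (Fin n) K) : Matrix (Fin n) (Fin n) K))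
      (cmat (PairRing K n m q) (A : Matrix (Fin n) (Fin n) K) * Wgen K n m q) := by
  apply evP_ext
  · intro p
    unfold glTranslate
    rw [aeval_X, Sum.elim_inl, Matrix.mul_apply]
    rfl
  · intro p
    unfold glTranslate
    rw [aeval_X, Sum.elim_inr, Matrix.mul_apply]
    rfl

theorem Ugen_map {R : Type*} [CommRing R] [Algebra K R] (U : Matrix (Fin m) (Fin n) R)
    (W : Matrix (Fin n) (Fin q) R) : (Ugen K n m q).map (evP (K := K) U W) = U := by
  ext i k
  simp only [Matrix.map_apply, Ugen, Matrix.of_apply]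
  exact evP_inl U W (i, k)

theorem Wgen_map {R : Type*} [CommRing R] [Algebra K R] (U : Matrix (Fin m) (Fin n) R)
    (W : Matrix (Fin n) (Fin q) R) : (Wgen K n m q).map (evP (K := K) U W) = W := by
  ext i k
  simp only [Matrix.map_apply, Wgen, Matrix.of_apply]
  exact evP_inr U W (i, k)

theorem evP_glTranslate {R : Type*} [CommRing R] [Algebra K R] (U : Matrix (Fin m) (Fin n) R)
    (W : Matrix (Fin n) (Fin q) R) (A : GL (Fin n) K) (f : PairRing K n m q) :
    evP (K := K) U W (glTranslate K n m q A f)
      = evP (K := K) (U * cmat R ((A⁻¹ : GL (Fin n) K) : Matrix (Fin n) (Fin n) K))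
          (cmat R (A : Matrix (Fin n) (Fin n) K) * W) f := by
  rw [glTranslate_eq, evP_comp, map_mul4, map_mul4, Ugen_map, Wgen_map, cmat_map, cmat_map]

theorem evP_pairingMap {R : Type*} [CommRing R] [Algebra K R] (U : Matrix (Fin m) (Fin n) R)
    (W : Matrix (Fin n) (Fin q) R) (g : MvPolynomial (Fin m × Fin q) K) :
    evP (K := K) U W (pairingMap K n m q g) = aeval (fun p : Fin m × Fin q => (U * W) p.1 p.2) g := by
  have : (evP (K := K) U W).comp (pairingMap K n m q)
      = aeval (fun p : Fin m × Fin q => (U * W) p.1 p.2) := by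
    apply MvPolynomial.algHom_ext
    intro p
    rw [AlgHom.comp_apply]
    unfold pairingMap
    rw [aeval_X, aeval_X, map_sum, Matrix.mul_apply]
    apply Finset.sum_congr rfl
    intro k _
    rw [map_mul, evP_inl, evP_inr]
  rw [← this, AlgHom.comp_apply]

/-- The easy direction of the first fundamental theorem. -/
theorem glTranslate_pairingMap (A : GL (Fin n) K) (g : MvPolynomial (Fin m × Fin q) K) :
    glTranslate K n m q A (pairingMap K n m q g) = pairingMap K n m q g := by
  rw [glTranslate_eq, evP_pairingMap]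
  have h1 : Ugen K n m q * cmat (PairRing K n m q) ((A⁻¹ : GL (Fin n) K) : Matrix (Fin n) (Fin n) K)
      * (cmat (PairRing K n m q) (A : Matrix (Fin n) (Fin n) K) * Wgen K n m q)
      = Ugen K n m q * Wgen K n m q := by
    rw [Matrix.mul_assoc, ← Matrix.mul_assoc (cmat (PairRing K n m q) _), ← cmat_mul]
    rw [show ((A⁻¹ : GL (Fin n) K) : Matrix (Fin n) (Fin n) K) * (A : Matrix (Fin n) (Fin n) K) = 1
        from by rw [← Units.val_mul, inv_mul_cancel]; rfl]
    rw [cmat_one, Matrix.one_mul]
  rw [h1]
  have := evP_pairingMap (K := K) (Ugen K n m q) (Wgen K n m q) g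
  rw [evP_gen] at this
  exact this.symm


/-! ### Padding columns -/

/-- Adding `e` columns to `W`. -/
noncomputable def padCols (K : Type u) [Field K] (n m q e : ℕ) :
    PairRing K n m q →ₐ[K] PairRing K n m (q + e) :=
  evP (K := K) (Ugen K n m (q + e)) ((Wgen K n m (q + e)).submatrix id (Fin.castAdd e))

/-- The truncated generic matrix. -/
noncomputable def Wtrunc (K : Type u) [Field K] (n m q e : ℕ) : Matrix (Fin n) (Fin (q + e)) (PairRing K n m q) :=
  fun k j => if h : j.val < q then X (Sum.inr (k, ⟨j.val, h⟩)) else 0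

/-- Setting the extra columns to zero. -/
noncomputable def dropCols (K : Type u) [Field K] (n m q e : ℕ) :
    PairRing K n m (q + e) →ₐ[K] PairRing K n m q :=
  evP (K := K) (Ugen K n m q) (Wtrunc K n m q e)

theorem dropCols_padCols (e : ℕ) (f : PairRing K n m q) :
    dropCols K n m q e (padCols K n m q e f) = f := by
  unfold padCols dropCols
  rw [evP_comp, Ugen_map]
  have : ((Wgen K n m (q + e)).submatrix id (Fin.castAdd e)).map
      (evP (K := K) (Ugen K n m q) (Wtrunc K n m q e)) = Wgen K n m q := by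
    refine Matrix.ext (fun k j => ?_)
    rw [Matrix.map_apply, Matrix.submatrix_apply]
    unfold Wgen
    rw [Matrix.of_apply, evP_inr, Matrix.of_apply]
    unfold Wtrunc
    simp
  rw [this, evP_gen]

theorem glTranslate_padCols (e : ℕ) (A : GL (Fin n) K) (f : PairRing K n m q) :
    glTranslate K n m (q + e) A (padCols K n m q e f)
      = padCols K n m q e (glTranslate K n m q A f) := by
  unfold padCols
  rw [evP_glTranslate, glTranslate_eq, evP_comp, Ugen_map]
  congr 2
  refine Matrix.ext (fun k j => ?_)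
  rw [Matrix.map_apply, Matrix.submatrix_apply, Matrix.mul_apply]
  unfold Wgen
  rw [Matrix.of_apply, evP_inr, Matrix.mul_apply]
  rfl

/-- Dropping columns of the product matrix. -/
noncomputable def dropY (K : Type u) [Field K] (m q e : ℕ) :
    MvPolynomial (Fin m × Fin (q + e)) K →ₐ[K] MvPolynomial (Fin m × Fin q) K :=
  aeval fun p : Fin m × Fin (q + e) => if h : p.2.val < q then X (p.1, ⟨p.2.val, h⟩) else 0

theorem dropCols_pairingMap (e : ℕ) (g : MvPolynomial (Fin m × Fin (q + e)) K) :
    dropCols K n m q e (pairingMap K n m (q + e) g) = pairingMap K n m q (dropY K m q e g) := by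
  unfold dropCols
  rw [evP_pairingMap]
  have : (aeval fun p : Fin m × Fin (q + e) => (Ugen K n m q * Wtrunc K n m q e) p.1 p.2)
      = (pairingMap K n m q).comp (dropY K m q e) := by
    apply MvPolynomial.algHom_ext
    rintro ⟨i, j⟩
    rw [AlgHom.comp_apply, aeval_X]
    unfold dropY
    rw [aeval_X, Matrix.mul_apply]
    by_cases h : j.val < q
    · simp only [dif_pos h]
      unfold pairingMap
      rw [aeval_X]
      apply Finset.sum_congr rfl
      intro k _
      unfold Wtrunc Ugen
      simp only [Matrix.of_apply, dif_pos h]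
    · simp only [dif_neg h, map_zero]
      apply Finset.sum_eq_zero
      intro k _
      unfold Wtrunc
      simp only [dif_neg h, mul_zero]
  rw [this, AlgHom.comp_apply]

/-- Reduction of the first fundamental theorem to the case of many columns. -/
theorem fft_of_padded (e : ℕ)
    (main : ∀ f' : PairRing K n m (q + e), (∀ A : GL (Fin n) K, glTranslate K n m (q + e) A f' = f') →
      f' ∈ (pairingMap K n m (q + e)).range)
    (f : PairRing K n m q) (hf : ∀ A : GL (Fin n) K, glTranslate K n m q A f = f) :
    f ∈ (pairingMap K n m q).range := by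
  have h1 := main (padCols K n m q e f) (fun A => by rw [glTranslate_padCols, hf A])
  obtain ⟨g, hg⟩ := (AlgHom.mem_range _).mp h1
  refine (AlgHom.mem_range _).mpr ⟨dropY K m q e g, ?_⟩
  rw [← dropCols_pairingMap, hg, dropCols_padCols]

end Pairs

end Groth.Agent.Lib.Helper8.Gr
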