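import Mathlib
import Groth.Prelude.Def_W4bk4grassmannianPl
import Groth.Agent.Lib.Helper8.Det2
set_option backward.isDefEq.respectTransparency.types false
set_option linter.unusedSectionVars false
set_option autoImplicit false
universe u

namespace Groth.Agent.Lib.Helper8.Gr
open W4bk4grassmannian MvPolynomial

section FFT

variable {K : Type u} [Field K] {n m d : ℕ}

/-- The last `n` indices of `Fin d`. -/
def cL (hnd : n < d) : Fin n → Fin d := fun k => ⟨d - n + k.val, by have := k.isLt; omega⟩

/-- The first `n` indices of `Fin d`. -/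
def cF (hnd : n < d) : Fin n → Fin d := fun k => ⟨k.val, by have := k.isLt; omega⟩

/-- The first `m` bottom rows. -/
def bR (n m d : ℕ) : Fin m → Fin (d + (m + n + 1)) :=
  fun i => Fin.natAdd d (⟨i.val, by have := i.isLt; omega⟩ : Fin (m + n + 1))

theorem cL_injective (hnd : n < d) : Function.Injective (cL hnd) := by
  intro a b h
  apply Fin.ext
  have := congrArg Fin.val h
  simp only [cL] at this
  omega

theorem not_mem_range_cL (hnd : n < d) (c : Fin d) (hc : c ∉ Set.range (cL hnd)) : c.val + n < d := by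
  by_contra hge
  apply hc
  refine ⟨⟨c.val - (d - n), by have := c.isLt; omega⟩, ?_⟩
  apply Fin.ext
  simp only [cL]
  omega

/-- The `U`-part of a big matrix. -/
def UofM (hnd : n < d) {R : Type*} (M : Matrix (Fin (d + (m + n + 1))) (Fin d) R) :
    Matrix (Fin m) (Fin n) R := fun i k => M (bR n m d i) (cL hnd k)

/-- The `W`-part of a big matrix. -/
noncomputable def WofM (hnd : n < d) {R : Type*} [CommRing R]
    (M : Matrix (Fin (d + (m + n + 1))) (Fin d) R) : Matrix (Fin n) (Fin d) R :=
  fun k j => (M.submatrix (Fin.castAdd (m + n + 1)) id).adjugate (cL hnd k) j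

/-- The substitution attached to a big matrix. -/
noncomputable def PsiM (hnd : n < d) {R : Type*} [CommRing R] [Algebra K R]
    (M : Matrix (Fin (d + (m + n + 1))) (Fin d) R) : PairRing K n m d →ₐ[K] R :=
  evP (K := K) (UofM hnd M) (WofM hnd M)

theorem PsiM_map (hnd : n < d) {R R' : Type*} [CommRing R] [Algebra K R] [CommRing R'] [Algebra K R']
    (M : Matrix (Fin (d + (m + n + 1))) (Fin d) R) (φ : R →ₐ[K] R') (f : PairRing K n m d) :
    φ (PsiM (K := K) hnd M f) = PsiM (K := K) hnd (M.map φ) f := by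
  unfold PsiM
  rw [evP_comp]
  have hU : (UofM hnd M).map φ = UofM hnd (M.map φ) := rfl
  have hW : (WofM hnd M).map φ = WofM hnd (M.map φ) := by
    refine Matrix.ext (fun k j => ?_)
    rw [Matrix.map_apply]
    unfold WofM
    have h := AlgHom.map_adjugate φ (M.submatrix (Fin.castAdd (m + n + 1)) id)
    have h2 := congrFun (congrFun h (cL hnd k)) j
    rw [AlgHom.mapMatrix_apply, Matrix.map_apply] at h2
    rw [h2]
    rfl
  rw [hU, hW]

/-- The rank pattern for the first fundamental theorem. -/
def tauF (n m d : ℕ) : Idx d (d + (m + n + 1)) := phiRank d (m + n + 1) n (by omega)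

theorem MPm_tauF_bot (hnd : n < d) (i : Fin m) (c : Fin d) (hc : c ∉ Set.range (cL hnd)) :
    MPm K (PS (tauF n m d)) (bR n m d i) c = 0 :=
  MPm_phiRank_bot _ _ c (not_mem_range_cL hnd c hc)

/-- Claim 1: the substitution of an invariant is Borel invariant. -/
theorem invB_PsiM (hnd : n < d) (f : PairRing K n m d)
    (hf : ∀ A : GL (Fin n) K, glTranslate K n m d A f = f) :
    InvB (tauF n m d) (PsiM (K := K) hnd (MPm K (PS (tauF n m d))) f) := by
  intro g hg hdet
  set τ := tauF n m d with hτ
  set G := MPm K (PS τ) with hG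
  set gC := g.map (C : K → MatRing K d (d + (m + n + 1))) with hgC
  unfold rhoB
  rw [PsiM_map, MPm_map_evM τ _ (supp_mul τ G (supp_MPm τ) gC (upper_map_C g hg))]
  -- the blocks
  set g22 : Matrix (Fin n) (Fin n) K := g.submatrix (cL hnd) (cL hnd) with hg22
  set a22 : Matrix (Fin n) (Fin n) K := g.adjugate.submatrix (cL hnd) (cL hnd) with ha22
  have hadj_up := upper_adjugate g hg
  have h12 : a22 * g22 = 1 := by
    refine Matrix.ext (fun k k' => ?_)
    rw [Matrix.mul_apply]
    have h1 : ∑ k'', a22 k k'' * g22 k'' k' = ∑ c, g.adjugate (cL hnd k) c * g c (cL hnd k') := by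
      apply Fintype.sum_of_injective (cL hnd) (cL_injective hnd)
      · intro c hc
        have hc' := not_mem_range_cL hnd c hc
        have : g.adjugate (cL hnd k) c = 0 := by
          apply hadj_up
          show c < cL hnd k
          rw [Fin.lt_def]
          simp only [cL]
          omega
        rw [this, zero_mul]
      · intro k''
        rfl
    rw [h1, ← Matrix.mul_apply, Matrix.adjugate_mul, hdet, one_smul, Matrix.one_apply, Matrix.one_apply]
    by_cases hkk : k = k'
    · subst hkk; simp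
    · rw [if_neg hkk, if_neg]
      intro h
      exact hkk (cL_injective hnd h)
  have h21 : g22 * a22 = 1 := mul_eq_one_comm.mp h12
  let A : GL (Fin n) K := ⟨a22, g22, h12, h21⟩
  have hU : UofM hnd (G * gC) = UofM hnd G * cmat _ g22 := by
    refine Matrix.ext (fun i k => ?_)
    have e1 : (G * gC) (bR n m d i) (cL hnd k) = ∑ c, G (bR n m d i) c * gC c (cL hnd k) :=
      Matrix.mul_apply
    have e2 : (UofM hnd G * cmat (MatRing K d (d + (m + n + 1))) g22) i k
        = ∑ k', G (bR n m d i) (cL hnd k') * gC (cL hnd k') (cL hnd k) := Matrix.mul_apply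
    show (G * gC) (bR n m d i) (cL hnd k) = _
    refine e1.trans (Eq.trans ?_ e2.symm)
    symm
    apply Fintype.sum_of_injective (cL hnd) (cL_injective hnd)
    · intro c hc
      rw [hG, hτ, MPm_tauF_bot hnd i c hc, zero_mul]
    · intro k'
      rfl
  have hW : WofM hnd (G * gC) = cmat _ a22 * WofM hnd G := by
    refine Matrix.ext (fun k j => ?_)
    have h1 : (G * gC).submatrix (Fin.castAdd (m + n + 1)) id
        = G.submatrix (Fin.castAdd (m + n + 1)) id * gC := by
      refine Matrix.ext (fun s t => ?_)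
      simp only [Matrix.submatrix_apply, Matrix.mul_apply, id_eq]
    have h2 : gC.adjugate = g.adjugate.map (C : K → MatRing K d (d + (m + n + 1))) := by
      have := RingHom.map_adjugate (C : K →+* MatRing K d (d + (m + n + 1))) g
      rw [RingHom.mapMatrix_apply, RingHom.mapMatrix_apply] at this
      exact this.symm
    have e1 : (gC.adjugate * (G.submatrix (Fin.castAdd (m + n + 1)) id).adjugate) (cL hnd k) j
        = ∑ c, (g.adjugate.map (C : K → MatRing K d (d + (m + n + 1)))) (cL hnd k) c *
            (G.submatrix (Fin.castAdd (m + n + 1)) id).adjugate c j := by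
      rw [h2]; exact Matrix.mul_apply
    have e2 : (cmat (MatRing K d (d + (m + n + 1))) a22 * WofM hnd G) k j
        = ∑ k', (g.adjugate.map (C : K → MatRing K d (d + (m + n + 1)))) (cL hnd k) (cL hnd k') *
            (G.submatrix (Fin.castAdd (m + n + 1)) id).adjugate (cL hnd k') j := Matrix.mul_apply
    show ((G * gC).submatrix (Fin.castAdd (m + n + 1)) id).adjugate (cL hnd k) j = _
    rw [h1, Matrix.adjugate_mul_distrib]
    refine e1.trans (Eq.trans ?_ e2.symm)
    symm
    apply Fintype.sum_of_injective (cL hnd) (cL_injective hnd)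
    · intro c hc
      have hc' := not_mem_range_cL hnd c hc
      have : g.adjugate (cL hnd k) c = 0 := by
        apply hadj_up
        show c < cL hnd k
        rw [Fin.lt_def]
        simp only [cL]
        omega
      rw [Matrix.map_apply, this, map_zero, zero_mul]
    · intro k'
      rfl
  unfold PsiM
  rw [hU, hW]
  have := evP_glTranslate (K := K) (UofM hnd G) (WofM hnd G) A f
  rw [hf A] at this
  exact this.symm


/-! ### The section over `K`-points -/

/-- Rotation by `n`. -/
def rotP (hnd : n < d) : Equiv.Perm (Fin d) where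
  toFun j := if h : j.val + n < d then ⟨j.val + n, h⟩ else ⟨j.val + n - d, by have := j.isLt; omega⟩
  invFun i := if h : n ≤ i.val then ⟨i.val - n, by have := i.isLt; omega⟩
    else ⟨i.val + d - n, by have := i.isLt; omega⟩
  left_inv := by
    intro j
    by_cases h : j.val + n < d
    · simp only [dif_pos h]
      have h2 : n ≤ j.val + n := by omega
      rw [dif_pos h2]
      apply Fin.ext
      simp
    · simp only [dif_neg h]
      have h2 : ¬ n ≤ j.val + n - d := by have := j.isLt; omega
      rw [dif_neg h2]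
      apply Fin.ext
      simp only
      have := j.isLt
      omega
  right_inv := by
    intro i
    by_cases h : n ≤ i.val
    · simp only [dif_pos h]
      have h2 : i.val - n + n < d := by have := i.isLt; omega
      rw [dif_pos h2]
      apply Fin.ext
      simp only
      omega
    · simp only [dif_neg h]
      have h2 : ¬ i.val + d - n + n < d := by omega
      rw [dif_neg h2]
      apply Fin.ext
      simp only
      omega

theorem rotP_cL (hnd : n < d) (k : Fin n) : (rotP hnd (cL hnd k)).val = k.val := by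
  unfold rotP cL
  simp only [Equiv.coe_fn_mk]
  have h : ¬ d - n + k.val + n < d := by omega
  rw [dif_neg h]
  simp only
  omega

theorem rotP_lt (hnd : n < d) (j : Fin d) (h : j.val + n < d) : (rotP hnd j).val = j.val + n := by
  unfold rotP
  simp only [Equiv.coe_fn_mk, dif_pos h]

/-- The nilpotent block. -/
def Nmat (W'' : Matrix (Fin n) (Fin d) K) : Matrix (Fin d) (Fin d) K :=
  fun i j => if h : i.val < n ∧ n ≤ j.val then - W'' ⟨i.val, h.1⟩ j else 0

theorem Nmat_mul_Nmat (W'' : Matrix (Fin n) (Fin d) K) : Nmat W'' * Nmat W'' = 0 := by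
  refine Matrix.ext (fun i i' => ?_)
  rw [Matrix.mul_apply, Matrix.zero_apply]
  apply Finset.sum_eq_zero
  intro j _
  unfold Nmat
  by_cases h1 : i.val < n ∧ n ≤ j.val
  · have h2 : ¬ (j.val < n ∧ n ≤ i'.val) := by omega
    rw [dif_neg h2, mul_zero]
  · rw [dif_neg h1, zero_mul]

theorem Tmat_mul (W'' : Matrix (Fin n) (Fin d) K) : (1 + Nmat W'') * (1 - Nmat W'') = 1 := by
  have : (1 + Nmat W'') * (1 - Nmat W'') = 1 - Nmat W'' * Nmat W'' := by noncomm_ring
  rw [this, Nmat_mul_Nmat, sub_zero]

theorem det_Tmat (W'' : Matrix (Fin n) (Fin d) K) : (1 + Nmat W'').det = 1 := by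
  have hup : (1 + Nmat W'').IsUpperTriangular := by
    intro i j hij
    have hij' : j < i := hij
    rw [Matrix.add_apply, Matrix.one_apply, if_neg (ne_of_gt hij')]
    unfold Nmat
    have : ¬ (i.val < n ∧ n ≤ j.val) := by
      have : j.val < i.val := hij'
      omega
    rw [dif_neg this, add_zero]
  rw [Matrix.det_of_isUpperTriangular hup]
  apply Finset.prod_eq_one
  intro i _
  rw [Matrix.add_apply, Matrix.one_apply, if_pos rfl]
  unfold Nmat
  have : ¬ (i.val < n ∧ n ≤ i.val) := by omega
  rw [dif_neg this, add_zero]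

/-- The top block of the section. -/
def sig0 (hnd : n < d) (W'' : Matrix (Fin n) (Fin d) K) : Matrix (Fin d) (Fin d) K :=
  (1 + Nmat W'').submatrix id (rotP hnd)

/-- Its inverse. -/
def Hmat (hnd : n < d) (W'' : Matrix (Fin n) (Fin d) K) : Matrix (Fin d) (Fin d) K :=
  (1 - Nmat W'').submatrix (rotP hnd) id

theorem sig0_mul_Hmat (hnd : n < d) (W'' : Matrix (Fin n) (Fin d) K) :
    sig0 hnd W'' * Hmat hnd W'' = 1 := by
  refine Matrix.ext (fun i i' => ?_)
  rw [Matrix.mul_apply]
  unfold sig0 Hmat
  simp only [Matrix.submatrix_apply, id_eq]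
  rw [Equiv.sum_comp (rotP hnd) (fun j => (1 + Nmat W'') i j * (1 - Nmat W'') j i'),
    ← Matrix.mul_apply, Tmat_mul]

theorem Hmat_mul_sig0 (hnd : n < d) (W'' : Matrix (Fin n) (Fin d) K) :
    Hmat hnd W'' * sig0 hnd W'' = 1 := mul_eq_one_comm.mp (sig0_mul_Hmat hnd W'')

/-- The sign of the rotation, in `K`. -/
def epsK (K : Type u) [Field K] (hnd : n < d) : K := ((Equiv.Perm.sign (rotP hnd) : ℤˣ) : ℤ)

theorem epsK_mul_self (hnd : n < d) : epsK K hnd * epsK K hnd = 1 := by
  unfold epsK
  rw [← Int.cast_mul, ← Units.val_mul, Int.units_mul_self]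
  simp

theorem det_sig0 (hnd : n < d) (W'' : Matrix (Fin n) (Fin d) K) :
    (sig0 hnd W'').det = epsK K hnd := by
  unfold sig0
  rw [Matrix.det_permute', det_Tmat, mul_one]
  rfl

theorem adjugate_sig0 (hnd : n < d) (W'' : Matrix (Fin n) (Fin d) K) :
    (sig0 hnd W'').adjugate = epsK K hnd • Hmat hnd W'' := by
  have h1 : (sig0 hnd W'').adjugate * (sig0 hnd W'' * Hmat hnd W'') = (sig0 hnd W'').adjugate := by
    rw [sig0_mul_Hmat, Matrix.mul_one]
  rw [← h1, ← Matrix.mul_assoc, Matrix.adjugate_mul, det_sig0, Matrix.smul_mul, Matrix.one_mul]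

theorem Hmat_cL (hnd : n < d) (W'' : Matrix (Fin n) (Fin d) K)
    (hW : ∀ k k' : Fin n, W'' k (cF hnd k') = if k = k' then 1 else 0) (k : Fin n) (j : Fin d) :
    Hmat hnd W'' (cL hnd k) j = W'' k j := by
  unfold Hmat
  rw [Matrix.submatrix_apply, id, Matrix.sub_apply, Matrix.one_apply]
  have hr := rotP_cL hnd k
  unfold Nmat
  by_cases hj : n ≤ j.val
  · have h1 : (rotP hnd (cL hnd k)).val < n ∧ n ≤ j.val := ⟨by rw [hr]; exact k.isLt, hj⟩
    rw [dif_pos h1, if_neg]
    · rw [zero_sub, neg_neg]
      congr 1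
      apply Fin.ext
      exact hr
    · intro h
      have := congrArg Fin.val h
      rw [hr] at this
      have := k.isLt
      omega
  · have h1 : ¬ ((rotP hnd (cL hnd k)).val < n ∧ n ≤ j.val) := fun h => hj h.2
    rw [dif_neg h1, sub_zero]
    have hj' : j = cF hnd ⟨j.val, by omega⟩ := by
      apply Fin.ext; rfl
    rw [hj', hW]
    by_cases hk : k = ⟨j.val, by omega⟩
    · rw [if_pos hk, if_pos]
      apply Fin.ext
      rw [hr, hk]
      rfl
    · rw [if_neg hk, if_neg]
      intro h
      apply hk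
      apply Fin.ext
      have := congrArg Fin.val h
      rw [hr] at this
      exact this

/-- The section. -/
def sigM (hnd : n < d) (U'' : Matrix (Fin m) (Fin n) K) (W'' : Matrix (Fin n) (Fin d) K) :
    Matrix (Fin (d + (m + n + 1))) (Fin d) K :=
  fun s j => Fin.addCases (fun i => sig0 hnd W'' i j)
    (fun i' => if h : i'.val < m ∧ d ≤ j.val + n then
      epsK K hnd * U'' ⟨i'.val, h.1⟩ ⟨j.val + n - d, by have := j.isLt; omega⟩ else 0) s

theorem sigM_top (hnd : n < d) (U'' : Matrix (Fin m) (Fin n) K) (W'' : Matrix (Fin n) (Fin d) K)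
    (i j : Fin d) : sigM hnd U'' W'' (Fin.castAdd (m + n + 1) i) j = sig0 hnd W'' i j := by
  unfold sigM
  rw [Fin.addCases_left]

theorem sigM_bot (hnd : n < d) (U'' : Matrix (Fin m) (Fin n) K) (W'' : Matrix (Fin n) (Fin d) K)
    (i' : Fin (m + n + 1)) (j : Fin d) : sigM hnd U'' W'' (Fin.natAdd d i') j =
      if h : i'.val < m ∧ d ≤ j.val + n then
        epsK K hnd * U'' ⟨i'.val, h.1⟩ ⟨j.val + n - d, by have := j.isLt; omega⟩ else 0 := by
  unfold sigM
  rw [Fin.addCases_right]

theorem supp_sigM (hnd : n < d) (U'' : Matrix (Fin m) (Fin n) K) (W'' : Matrix (Fin n) (Fin d) K) :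
    Supp (tauF n m d) (sigM hnd U'' W'') := by
  intro s j hs
  have hs' : ¬ s.val ≤ ((tauF n m d).1 j).val := hs
  induction s using Fin.addCases with
  | left i =>
    rw [sigM_top]
    unfold sig0
    rw [Matrix.submatrix_apply, id]
    by_cases hj : j.val + n < d
    · have hτ : ((tauF n m d).1 j).val = n + j.val := phiRank_val_lt _ j hj
      rw [hτ] at hs'
      simp only [Fin.val_castAdd] at hs'
      rw [Matrix.add_apply, Matrix.one_apply, if_neg, zero_add]
      · unfold Nmat
        rw [dif_neg]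
        omega
      · intro h
        have := congrArg Fin.val h
        rw [rotP_lt hnd j hj] at this
        omega
    · have hτ : ((tauF n m d).1 j).val = (m + n + 1) + j.val := phiRank_val_ge _ j hj
      rw [hτ] at hs'
      simp only [Fin.val_castAdd] at hs'
      have := i.isLt
      omega
  | right i' =>
    rw [sigM_bot]
    by_cases h : i'.val < m ∧ d ≤ j.val + n
    · exfalso
      have hj : ¬ j.val + n < d := by omega
      have hτ : ((tauF n m d).1 j).val = (m + n + 1) + j.val := phiRank_val_ge _ j hj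
      rw [hτ] at hs'
      simp only [Fin.val_natAdd] at hs'
      omega
    · rw [dif_neg h]

theorem UofM_sigM (hnd : n < d) (U'' : Matrix (Fin m) (Fin n) K) (W'' : Matrix (Fin n) (Fin d) K) :
    UofM hnd (sigM hnd U'' W'') = epsK K hnd • U'' := by
  refine Matrix.ext (fun i k => ?_)
  show sigM hnd U'' W'' (bR n m d i) (cL hnd k) = _
  unfold bR
  rw [sigM_bot]
  have h : (i.val < m ∧ d ≤ (cL hnd k).val + n) := ⟨i.isLt, by simp only [cL]; omega⟩
  rw [dif_pos h, Matrix.smul_apply, smul_eq_mul]
  congr 2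
  apply Fin.ext
  simp only [cL]
  omega

theorem WofM_sigM (hnd : n < d) (U'' : Matrix (Fin m) (Fin n) K) (W'' : Matrix (Fin n) (Fin d) K)
    (hW : ∀ k k' : Fin n, W'' k (cF hnd k') = if k = k' then 1 else 0) :
    WofM hnd (sigM hnd U'' W'') = epsK K hnd • W'' := by
  refine Matrix.ext (fun k j => ?_)
  show ((sigM hnd U'' W'').submatrix (Fin.castAdd (m + n + 1)) id).adjugate (cL hnd k) j = _
  have h0 : (sigM hnd U'' W'').submatrix (Fin.castAdd (m + n + 1)) id = sig0 hnd W'' := by
    refine Matrix.ext (fun i j => ?_)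
    rw [Matrix.submatrix_apply, id, sigM_top]
  rw [h0, adjugate_sig0, Matrix.smul_apply, Matrix.smul_apply, Hmat_cL hnd W'' hW]

theorem sigM_mul_H_top (hnd : n < d) (U'' : Matrix (Fin m) (Fin n) K) (W'' : Matrix (Fin n) (Fin d) K)
    (i j : Fin d) :
    (sigM hnd U'' W'' * Hmat hnd W'') (Fin.castAdd (m + n + 1) i) j = if i = j then 1 else 0 := by
  rw [Matrix.mul_apply]
  simp only [sigM_top]
  rw [← Matrix.mul_apply, sig0_mul_Hmat, Matrix.one_apply]

theorem sigM_mul_H_bot (hnd : n < d) (U'' : Matrix (Fin m) (Fin n) K) (W'' : Matrix (Fin n) (Fin d) K)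
    (hW : ∀ k k' : Fin n, W'' k (cF hnd k') = if k = k' then 1 else 0)
    (i' : Fin (m + n + 1)) (j : Fin d) :
    (sigM hnd U'' W'' * Hmat hnd W'') (Fin.natAdd d i') j =
      if h : i'.val < m then epsK K hnd * (U'' * W'') ⟨i'.val, h⟩ j else 0 := by
  rw [Matrix.mul_apply]
  by_cases h : i'.val < m
  · rw [dif_pos h, Matrix.mul_apply, Finset.mul_sum]
    symm
    apply Fintype.sum_of_injective (cL hnd) (cL_injective hnd)
    · intro c hc
      have hc' := not_mem_range_cL hnd c hc
      rw [sigM_bot, dif_neg (by omega), zero_mul]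
    · intro k
      rw [sigM_bot]
      have h2 : (i'.val < m ∧ d ≤ (cL hnd k).val + n) := ⟨h, by simp only [cL]; omega⟩
      rw [dif_pos h2, Hmat_cL hnd W'' hW, mul_assoc]
      congr 3
      apply Fin.ext
      simp only [cL]
      omega
  · rw [dif_neg h]
    apply Finset.sum_eq_zero
    intro c _
    rw [sigM_bot, dif_neg (fun h' => h h'.1), zero_mul]


/-- Scaling the Plücker coordinates. -/
noncomputable def scaleE (K : Type u) [Field K] (d N : ℕ) (ε : K) : PlRing K d N →ₐ[K] PlRing K d N :=
  aeval fun θ : Idx d N => C ε * X θ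

theorem evalR_mul_scale {N : ℕ} {R : Type*} [CommRing R] [Algebra K R]
    (A : Matrix (Fin N) (Fin d) R) (g : Matrix (Fin d) (Fin d) R) (ε : K)
    (hg : g.det = algebraMap K R ε) (P : PlRing K d N) :
    evalR (K := K) (A * g) P = evalR (K := K) A (scaleE K d N ε P) := by
  have : evalR (K := K) (A * g) = (evalR (K := K) A).comp (scaleE K d N ε) := by
    apply MvPolynomial.algHom_ext
    intro θ
    rw [AlgHom.comp_apply, evalR_mul_X]
    unfold scaleE
    rw [aeval_X, map_mul, hg]
    congr 1
    exact ((evalR (K := K) A).commutes ε).symm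
  rw [this, AlgHom.comp_apply]

/-- The scalar matrix `ε`. -/
def scalGL (hnd : n < d) : GL (Fin n) K :=
  ⟨epsK K hnd • (1 : Matrix (Fin n) (Fin n) K), epsK K hnd • (1 : Matrix (Fin n) (Fin n) K),
    by rw [Matrix.smul_mul, Matrix.mul_smul, Matrix.one_mul, smul_smul, epsK_mul_self, one_smul],
    by rw [Matrix.smul_mul, Matrix.mul_smul, Matrix.one_mul, smul_smul, epsK_mul_self, one_smul]⟩

/-- Step 3: at normalised `K`-points the invariant is a polynomial in the product. -/
theorem step3 (hnd : n < d) (f : PairRing K n m d)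
    (hf : ∀ A : GL (Fin n) K, glTranslate K n m d A f = f)
    (P : PlRing K d (d + (m + n + 1)))
    (hP : evalR (K := K) (MPm K (PS (tauF n m d))) P = PsiM (K := K) hnd (MPm K (PS (tauF n m d))) f)
    (U'' : Matrix (Fin m) (Fin n) K) (W'' : Matrix (Fin n) (Fin d) K)
    (hW : ∀ k k' : Fin n, W'' k (cF hnd k') = if k = k' then 1 else 0) :
    evP (K := K) U'' W'' f =
      aeval (fun p : Fin (m + n + 1) × Fin d =>
        if h : p.1.val < m then epsK K hnd * (U'' * W'') ⟨p.1.val, h⟩ p.2 else 0)
        (evalR (K := K) (cellMatrix K d (m + n + 1)) (scaleE K d _ (epsK K hnd) P)) := by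
  set σ := sigM hnd U'' W'' with hσ
  set H := Hmat hnd W'' with hH
  have hsupp := supp_sigM hnd U'' W''
  have e1 : evM (K := K) σ (PsiM (K := K) hnd (MPm K (PS (tauF n m d))) f) = PsiM (K := K) hnd σ f := by
    rw [PsiM_map, MPm_map_evM (K := K) (tauF n m d) σ hsupp]
  have e2 : PsiM (K := K) hnd σ f = evP (K := K) (epsK K hnd • U'') (epsK K hnd • W'') f := by
    unfold PsiM
    rw [hσ, UofM_sigM, WofM_sigM hnd U'' W'' hW]
  have e3 : evP (K := K) (epsK K hnd • U'') (epsK K hnd • W'') f = evP (K := K) U'' W'' f := by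
    have h := evP_glTranslate (K := K) U'' W'' (scalGL hnd) f
    rw [hf] at h
    have hA : U'' * cmat K (((scalGL hnd)⁻¹ : GL (Fin n) K) : Matrix (Fin n) (Fin n) K)
        = epsK K hnd • U'' := by
      refine Matrix.ext (fun i k => ?_)
      rw [Matrix.smul_apply, Matrix.mul_apply]
      rw [Finset.sum_eq_single k]
      · show U'' i k * algebraMap K K ((epsK K hnd • (1 : Matrix (Fin n) (Fin n) K)) k k) = _
        simp [mul_comm]
      · intro b _ hb
        show U'' i b * algebraMap K K ((epsK K hnd • (1 : Matrix (Fin n) (Fin n) K)) b k) = 0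
        simp [Matrix.one_apply, hb]
      · intro h; exact absurd (Finset.mem_univ _) h
    have hB : cmat K ((scalGL hnd : GL (Fin n) K) : Matrix (Fin n) (Fin n) K) * W''
        = epsK K hnd • W'' := by
      refine Matrix.ext (fun k j => ?_)
      rw [Matrix.smul_apply, Matrix.mul_apply]
      rw [Finset.sum_eq_single k]
      · show algebraMap K K ((epsK K hnd • (1 : Matrix (Fin n) (Fin n) K)) k k) * W'' k j = _
        simp
      · intro b _ hb
        show algebraMap K K ((epsK K hnd • (1 : Matrix (Fin n) (Fin n) K)) k b) * W'' b j = 0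
        simp [Matrix.one_apply, Ne.symm hb]
      · intro h; exact absurd (Finset.mem_univ _) h
    rw [hA, hB] at h
    exact h.symm
  have e4 : evM (K := K) σ (evalR (K := K) (MPm K (PS (tauF n m d))) P) = evalR (K := K) σ P := by
    rw [← evalR_map, MPm_map_evM (K := K) (tauF n m d) σ hsupp]
  have e5 : evalR (K := K) σ P = evalR (K := K) (σ * H) (scaleE K d _ (epsK K hnd) P) := by
    have h1 : σ = (σ * H) * sig0 hnd W'' := by
      rw [Matrix.mul_assoc, hH, Hmat_mul_sig0, Matrix.mul_one]
    rw [← evalR_mul_scale (K := K) (σ * H) (sig0 hnd W'') (epsK K hnd) (det_sig0 hnd W''), ← h1]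
  have htop : ∀ i j : Fin d, (σ * H) (Fin.castAdd (m + n + 1) i) j = if i = j then 1 else 0 :=
    sigM_mul_H_top hnd U'' W''
  have e6 := cellMatrix_map (K := K) (σ * H) htop
  rw [← e3, ← e2, ← e1, ← hP, e4, e5]
  conv_lhs => rw [← e6]
  rw [evalR_map]
  congr 1
  apply congrArg
  funext p
  rw [hσ, hH, sigM_mul_H_bot hnd U'' W'' hW]


theorem cmat_self {a b : ℕ} (M : Matrix (Fin a) (Fin b) K) : cmat K M = M := by
  ext i j
  rfl

theorem evP_eq_eval (z : (Fin m × Fin n) ⊕ (Fin n × Fin d) → K) (p : PairRing K n m d) :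
    evP (K := K) (fun i k => z (Sum.inl (i, k))) (fun k j => z (Sum.inr (k, j))) p = eval z p := by
  have hz : (Sum.elim (fun p : Fin m × Fin n => z (Sum.inl (p.1, p.2)))
      (fun p : Fin n × Fin d => z (Sum.inr (p.1, p.2)))) = z := by
    funext v
    rcases v with ⟨i, k⟩ | ⟨k, j⟩ <;> rfl
  unfold evP
  show aeval (Sum.elim _ _) p = eval z p
  rw [hz]
  rfl

theorem aeval_Q (ε : K) (M : Matrix (Fin m) (Fin d) K)
    (Q₁ : MvPolynomial (Fin (m + n + 1) × Fin d) K) :
    aeval (fun p : Fin m × Fin d => M p.1 p.2)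
      (aeval (fun p : Fin (m + n + 1) × Fin d =>
        if h : p.1.val < m then C ε * X ((⟨p.1.val, h⟩ : Fin m), p.2)
          else (0 : MvPolynomial (Fin m × Fin d) K)) Q₁)
      = aeval (fun p : Fin (m + n + 1) × Fin d =>
        if h : p.1.val < m then ε * M ⟨p.1.val, h⟩ p.2 else 0) Q₁ := by
  have h := AlgHom.congr_fun (comp_aeval (R := K)
    (f := fun p : Fin (m + n + 1) × Fin d =>
        if h : p.1.val < m then C ε * X ((⟨p.1.val, h⟩ : Fin m), p.2)
          else (0 : MvPolynomial (Fin m × Fin d) K))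
    (aeval (R := K) (fun p : Fin m × Fin d => M p.1 p.2))) Q₁
  rw [AlgHom.comp_apply] at h
  rw [h]
  congr 1
  apply congrArg
  funext p
  by_cases hp : p.1.val < m
  · rw [dif_pos hp, dif_pos hp, map_mul, aeval_C, aeval_X]
    rfl
  · rw [dif_neg hp, dif_neg hp, map_zero]

theorem det_Wgen_ne_zero (hnd : n < d) : ((Wgen K n m d).submatrix id (cF hnd)).det ≠ 0 := by
  intro h0
  let W₁ : Matrix (Fin n) (Fin d) K := fun k j => if j = cF hnd k then 1 else 0
  have h1 := congrArg (evP (K := K) (0 : Matrix (Fin m) (Fin n) K) W₁) h0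
  rw [AlgHom.map_det, map_zero] at h1
  have h2 : (evP (K := K) (0 : Matrix (Fin m) (Fin n) K) W₁).mapMatrix
      ((Wgen K n m d).submatrix id (cF hnd)) = 1 := by
    refine Matrix.ext (fun k k' => ?_)
    rw [AlgHom.mapMatrix_apply, Matrix.map_apply, Matrix.submatrix_apply]
    unfold Wgen
    rw [Matrix.of_apply, evP_inr, Matrix.one_apply]
    simp only [W₁, id]
    by_cases hk : k = k'
    · subst hk; simp
    · rw [if_neg hk, if_neg]
      intro h
      apply hk
      apply Fin.ext
      have := congrArg Fin.val h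
      simp only [cF] at this
      exact this.symm
  rw [h2, Matrix.det_one] at h1
  exact one_ne_zero h1

/-- The first fundamental theorem for `GL_n`, case of many columns. -/
theorem fft_main [Infinite K] (hnd : n < d) (f : PairRing K n m d)
    (hf : ∀ A : GL (Fin n) K, glTranslate K n m d A f = f) :
    f ∈ (pairingMap K n m d).range := by
  have hd : 0 < d := by omega
  have hF := mem_Btau_of_invB hd (tauF n m d) _ (invB_PsiM hnd f hf)
  obtain ⟨P, hP⟩ := (AlgHom.mem_range _).mp hF
  set Q₁ := evalR (K := K) (cellMatrix K d (m + n + 1)) (scaleE K d _ (epsK K hnd) P) with hQ₁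
  set Q : MvPolynomial (Fin m × Fin d) K :=
    aeval (fun p : Fin (m + n + 1) × Fin d =>
      if h : p.1.val < m then C (epsK K hnd) * X ((⟨p.1.val, h⟩ : Fin m), p.2) else 0) Q₁ with hQ
  refine (AlgHom.mem_range _).mpr ⟨Q, ?_⟩
  have key : (f - pairingMap K n m d Q) * ((Wgen K n m d).submatrix id (cF hnd)).det = 0 := by
    apply MvPolynomial.funext
    intro z
    rw [← evP_eq_eval, ← evP_eq_eval]
    set Uz : Matrix (Fin m) (Fin n) K := fun i k => z (Sum.inl (i, k)) with hUz
    set Wz : Matrix (Fin n) (Fin d) K := fun k j => z (Sum.inr (k, j)) with hWz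
    rw [map_zero, map_mul, map_sub, AlgHom.map_det]
    set W₀ : Matrix (Fin n) (Fin n) K := Wz.submatrix id (cF hnd) with hW₀
    have hW₀' : (evP (K := K) Uz Wz).mapMatrix ((Wgen K n m d).submatrix id (cF hnd)) = W₀ := by
      refine Matrix.ext (fun k k' => ?_)
      rw [AlgHom.mapMatrix_apply, Matrix.map_apply, Matrix.submatrix_apply]
      unfold Wgen
      rw [Matrix.of_apply, evP_inr]
      rfl
    rw [hW₀']
    by_cases h0 : W₀.det = 0
    · rw [h0, mul_zero]
    have hu : IsUnit W₀.det := isUnit_iff_ne_zero.mpr h0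
    let Au : GL (Fin n) K := ⟨W₀, W₀⁻¹, Matrix.mul_nonsing_inv _ hu, Matrix.nonsing_inv_mul _ hu⟩
    have h := evP_glTranslate (K := K) Uz Wz Au⁻¹ f
    rw [hf, inv_inv, cmat_self, cmat_self] at h
    have hv1 : ((Au : GL (Fin n) K) : Matrix (Fin n) (Fin n) K) = W₀ := rfl
    have hv2 : ((Au⁻¹ : GL (Fin n) K) : Matrix (Fin n) (Fin n) K) = W₀⁻¹ := rfl
    rw [hv1, hv2] at h
    have hW'' : ∀ k k' : Fin n, (W₀⁻¹ * Wz) k (cF hnd k') = if k = k' then 1 else 0 := by
      intro k k'
      have : (W₀⁻¹ * Wz) k (cF hnd k') = (W₀⁻¹ * W₀) k k' := by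
        rw [Matrix.mul_apply, Matrix.mul_apply]
        rfl
      rw [this, Matrix.nonsing_inv_mul _ hu, Matrix.one_apply]
    have h3 := step3 hnd f hf P hP (Uz * W₀) (W₀⁻¹ * Wz) hW''
    have hUW : Uz * W₀ * (W₀⁻¹ * Wz) = Uz * Wz := by
      rw [Matrix.mul_assoc, ← Matrix.mul_assoc W₀, Matrix.mul_nonsing_inv _ hu, Matrix.one_mul]
    rw [hUW] at h3
    rw [h, h3, evP_pairingMap, hQ, aeval_Q, sub_self, zero_mul]
  rcases mul_eq_zero.mp key with h | h
  · exact (sub_eq_zero.mp h).symm
  · exact absurd h (det_Wgen_ne_zero hnd)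

/-- S11266: the first fundamental theorem for `GL_n`. -/
theorem fft_GL [Infinite K] (q : ℕ) (f : PairRing K n m q) :
    (∀ A : GL (Fin n) K, glTranslate K n m q A f = f) ↔ f ∈ (pairingMap K n m q).range := by
  constructor
  · intro hf
    exact fft_of_padded (n + 1) (fun f' hf' => fft_main (by omega) f' hf') f hf
  · intro hf A
    obtain ⟨g, rfl⟩ := (AlgHom.mem_range _).mp hf
    exact glTranslate_pairingMap A g

end FFT

end Groth.Agent.Lib.Helper8.Gr
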