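import Mathlib
import Groth.Prelude.Def_W4bk4grassmannianPl
import Groth.Prelude.Def_CAlgX
import Groth.Prelude.Def_CAlg
import Groth.Agent.Lib.Helper8.Det3
import Groth.Agent.Lib.Helper8.CMV3
import Groth.Agent.Lib.Helper8.CMQ1
import Groth.Agent.Lib.Helper7.DimFT
set_option backward.isDefEq.respectTransparency.types false
set_option linter.unusedSectionVars false
set_option autoImplicit false
set_option linter.style.haveILetI false
universe u

namespace Groth.Agent.Lib.Helper8.Gr
open W4bk4grassmannian MvPolynomial

section DetSchubert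

variable {K : Type u} [Field K] [Infinite K] {d r n : ℕ}

theorem exists_homogenization (F₁ : PlRing K d (d + r)) :
    ∃ (F : PlRing K d (d + r)) (D : ℕ), F.IsHomogeneous D ∧
      F - F₁ ∈ Ideal.span {(X (topIdx d r) - 1 : PlRing K d (d + r))} := by
  set D := F₁.totalDegree with hD
  refine ⟨∑ k ∈ Finset.range (D + 1), homogeneousComponent k F₁ * X (topIdx d r) ^ (D - k), D, ?_, ?_⟩
  · apply IsHomogeneous.sum
    intro k hk
    have hk' : k ≤ D := by have := Finset.mem_range.mp hk; omega
    have h1 := homogeneousComponent_isHomogeneous k F₁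
    have h2 : (X (topIdx d r) ^ (D - k) : PlRing K d (d + r)).IsHomogeneous (D - k) := by
      have := (isHomogeneous_X K (topIdx d r)).pow (D - k)
      simpa using this
    have := h1.mul h2
    rwa [Nat.add_sub_cancel' hk'] at this
  · have h0 : ∑ k ∈ Finset.range (D + 1), homogeneousComponent k F₁ = F₁ :=
      sum_homogeneousComponent F₁
    have h1 : (∑ k ∈ Finset.range (D + 1), homogeneousComponent k F₁ * X (topIdx d r) ^ (D - k)) - F₁
        = ∑ k ∈ Finset.range (D + 1),
          homogeneousComponent k F₁ * (X (topIdx d r) ^ (D - k) - 1) := by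
      have h2 : (∑ k ∈ Finset.range (D + 1),
          homogeneousComponent k F₁ * (X (topIdx d r) ^ (D - k) - 1))
          = (∑ k ∈ Finset.range (D + 1), homogeneousComponent k F₁ * X (topIdx d r) ^ (D - k))
            - ∑ k ∈ Finset.range (D + 1), homogeneousComponent k F₁ := by
        rw [← Finset.sum_sub_distrib]
        apply Finset.sum_congr rfl
        intro k _
        ring
      rw [h2, h0]
    rw [h1]
    apply Ideal.sum_mem
    intro k _
    apply Ideal.mul_mem_left
    rw [Ideal.mem_span_singleton]
    have := sub_dvd_pow_sub_pow (X (topIdx d r) : PlRing K d (d + r)) 1 (D - k)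
    rwa [one_pow] at this

theorem map_evalR_schubert_le (hnd : n < d) (hnr : n < r) :
    (schubertVanishing K d (d + r) (phiRank d r n hnr)).map
        (evalR (K := K) (cellMatrix K d r)).toRingHom
      ≤ CAlgX.minorIdeal (genMatrix K r d) (n + 1) := by
  have hd : 0 < d := by omega
  rw [schubertVanishing_eq_IOf hd]
  unfold IOf
  rw [Ideal.map_sup]
  apply sup_le
  · unfold plIdealTop
    rw [Ideal.map_span]
    apply Ideal.span_le.mpr
    rintro _ ⟨_, ⟨i, j, p, _, rfl⟩, rfl⟩
    have : (evalR (K := K) (cellMatrix K d r)).toRingHom (shuffleRel K i j p) = 0 :=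
      evalR_shuffleRel _ i j p
    rw [this]
    exact Ideal.zero_mem _
  · rw [Ideal.map_span]
    apply Ideal.span_le.mpr
    rintro _ ⟨_, ⟨θ, hθ, rfl⟩, rfl⟩
    have hθ' := not_le_phiRank hnd hnr θ hθ
    rw [← Groth.Agent.S11275.result K d r (n + 1) hd (Nat.succ_pos n) (by omega) (by omega)]
    apply Ideal.subset_span
    refine ⟨θ, hθ', ?_⟩
    show evalR (K := K) (cellMatrix K d r) (X θ) = _
    rw [evalR_X]
    rfl

/-- The map `S → K[Z]/I_{n+1}(Z)`. -/
noncomputable def cellQuot (K : Type u) [Field K] (d r n : ℕ) :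
    PlRing K d (d + r) →+* CellRing K d r ⧸ CAlgX.minorIdeal (genMatrix K r d) (n + 1) :=
  (Ideal.Quotient.mk _).comp (evalR (K := K) (cellMatrix K d r)).toRingHom

theorem cellQuot_surjective : Function.Surjective (cellQuot K d r n) := by
  intro y
  obtain ⟨f, rfl⟩ := Ideal.Quotient.mk_surjective y
  refine ⟨cellLift K d r f, ?_⟩
  show Ideal.Quotient.mk _ (evalR (K := K) (cellMatrix K d r) (cellLift K d r f)) = _
  rw [evalR_cellLift]

theorem ker_cellQuot (hnd : n < d) (hnr : n < r) :
    RingHom.ker (cellQuot K d r n)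
      = schubertVanishing K d (d + r) (phiRank d r n hnr)
        ⊔ Ideal.span {(X (topIdx d r) - 1 : PlRing K d (d + r))} := by
  have hd : 0 < d := by omega
  apply le_antisymm
  · intro f hf
    rw [RingHom.mem_ker] at hf
    have hf' : evalR (K := K) (cellMatrix K d r) f ∈ CAlgX.minorIdeal (genMatrix K r d) (n + 1) :=
      Ideal.Quotient.eq_zero_iff_mem.mp hf
    obtain ⟨F, D, hF, hFf⟩ := exists_homogenization f
    have hE : evalR (K := K) (cellMatrix K d r) F = evalR (K := K) (cellMatrix K d r) f := by
      obtain ⟨g, hg⟩ := Ideal.mem_span_singleton'.mp hFf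
      have h1 : F = f + g * (X (topIdx d r) - 1) := by rw [hg]; ring
      rw [h1, map_add, map_mul, map_sub, evalR_cell_top, map_one, sub_self, mul_zero, add_zero]
    have hker : pairingMap K n r d (evalR (K := K) (cellMatrix K d r) F) = 0 := by
      rw [hE]
      have := minorIdeal_le_ker (K := K) (n := n) r d hf'
      exact (RingHom.mem_ker).mp this
    have h0 := evalR_pattern_eq_zero hnd hnr F D hF hker
    have hmem : F ∈ schubertVanishing K d (d + r) (phiRank d r n hnr) := by
      rw [← ker_evalR_eq hd]
      exact (RingHom.mem_ker).mpr h0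
    have : f = F - (F - f) := by ring
    rw [this]
    exact Ideal.sub_mem _ (Ideal.mem_sup_left hmem) (Ideal.mem_sup_right hFf)
  · apply sup_le
    · intro f hf
      rw [RingHom.mem_ker]
      apply Ideal.Quotient.eq_zero_iff_mem.mpr
      exact map_evalR_schubert_le hnd hnr (Ideal.mem_map_of_mem _ hf)
    · rw [Ideal.span_le, Set.singleton_subset_iff, SetLike.mem_coe, RingHom.mem_ker]
      show Ideal.Quotient.mk _ (evalR (K := K) (cellMatrix K d r) (X (topIdx d r) - 1)) = 0
      rw [map_sub, evalR_cell_top, map_one, sub_self, map_zero]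

/-- `S/(J(φ) + (X_top − 1)) ≅ K[Z]/I_{n+1}(Z)`. -/
noncomputable def detEquiv (hnd : n < d) (hnr : n < r) :
    (PlRing K d (d + r) ⧸ (schubertVanishing K d (d + r) (phiRank d r n hnr)
        ⊔ Ideal.span {(X (topIdx d r) - 1 : PlRing K d (d + r))}))
      ≃+* (CellRing K d r ⧸ CAlgX.minorIdeal (genMatrix K r d) (n + 1)) :=
  (Ideal.quotEquivOfEq (ker_cellQuot hnd hnr).symm).trans
    (RingHom.quotientKerEquivOfSurjective cellQuot_surjective)

theorem codeg_phiRank (hnd : n < d) (hnr : n < r) :
    codeg (phiRank d r n hnr) = n * (r + d - n) := by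
  unfold codeg
  have h1 : ∀ j : Fin d, ((phiRank d r n hnr).1 j).val - j.val
      = if j.val < d - n then n else r := by
    intro j
    by_cases h : j.val + n < d
    · rw [phiRank_val_lt hnr j h, if_pos (by omega)]
      omega
    · rw [phiRank_val_ge hnr j h, if_neg (by omega)]
      omega
  simp only [h1]
  rw [Finset.sum_ite, Finset.sum_const, Finset.sum_const, smul_eq_mul, smul_eq_mul]
  have h2 : (Finset.univ.filter fun j : Fin d => j.val < d - n).card = d - n := by
    rw [Fin.card_filter_val_lt]
    omega
  have h3 : (Finset.univ.filter fun j : Fin d => ¬ j.val < d - n).card = n := by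
    have := Finset.card_filter_add_card_filter_not (s := (Finset.univ : Finset (Fin d)))
      (fun j : Fin d => j.val < d - n)
    rw [h2, Finset.card_univ, Fintype.card_fin] at this
    omega
  rw [h2, h3]
  have : r + d - n = (d - n) + r := by omega
  rw [this, Nat.mul_add]
  ring

end DetSchubert

end Groth.Agent.Lib.Helper8.Gr
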