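import Mathlib
import Groth.Prelude.Def_W4bk4grassmannianPl
import Groth.Prelude.Def_CAlgX
import Groth.Prelude.Def_CAlg
import Groth.Agent.Lib.Helper8.Det4
set_option backward.isDefEq.respectTransparency.types false
set_option linter.unusedSectionVars false
set_option autoImplicit false
set_option linter.style.haveILetI false
universe u

namespace Groth.Agent.Lib.Helper8.Gr
open W4bk4grassmannian MvPolynomial

section DetMain

variable {K : Type u} [Field K] [Infinite K] {d r n : ℕ}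

theorem isPrime_minorIdeal (m q : ℕ) :
    (CAlgX.minorIdeal (genMatrix K m q) (n + 1)).IsPrime := by
  rw [← ker_pairingMap_eq]
  exact RingHom.ker_isPrime _

theorem isIntegrallyClosed_range_pairingMap (m q : ℕ) :
    IsIntegrallyClosed (pairingMap K n m q).range := by
  apply isIntegrallyClosed_of_sat
  intro ℓ b hb hb0 hbl
  rw [← fft_GL] at hb hbl ⊢
  intro A
  have h1 := hbl A
  rw [map_mul, hb A] at h1
  exact mul_left_cancel₀ hb0 h1

theorem isIntegrallyClosed_det (m q : ℕ) :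
    IsIntegrallyClosed
      (MvPolynomial (Fin m × Fin q) K ⧸ CAlgX.minorIdeal (genMatrix K m q) (n + 1)) := by
  haveI := isIntegrallyClosed_range_pairingMap (K := K) (n := n) m q
  have e1 : (MvPolynomial (Fin m × Fin q) K ⧸ RingHom.ker (pairingMap K n m q).rangeRestrict)
      ≃ₐ[K] (pairingMap K n m q).range :=
    Ideal.quotientKerAlgEquivOfSurjective (AlgHom.rangeRestrict_surjective _)
  have h : RingHom.ker (pairingMap K n m q).rangeRestrict
      = CAlgX.minorIdeal (genMatrix K m q) (n + 1) := by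
    rw [← ker_pairingMap_eq]
    exact AlgHom.ker_rangeRestrict _
  exact IsIntegrallyClosed.of_equiv ((Ideal.quotEquivOfEq h).symm.trans e1.toRingEquiv).symm

theorem withBot_nat_add_one_cancel (x : WithBot ℕ∞) (c : ℕ)
    (h : x + 1 = ((c + 1 : ℕ) : WithBot ℕ∞)) : x = (c : WithBot ℕ∞) := by
  apply Groth.Agent.Lib.Helper18.CM.withBot_add_one_cancel (d := (c : ℕ∞)) (by simp)
  rw [h]
  rfl

theorem cm_dim_det (hnd : n < d) (hnr : n < r) :
    LocCoh.IsCohenMacaulayRing (CellRing K d r ⧸ CAlgX.minorIdeal (genMatrix K r d) (n + 1)) ∧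
    ringKrullDim (CellRing K d r ⧸ CAlgX.minorIdeal (genMatrix K r d) (n + 1))
      = ((n * (r + d - n) : ℕ) : WithBot ℕ∞) := by
  have hd : 0 < d := by omega
  set φ := phiRank d r n hnr with hφ
  set J := schubertVanishing K d (d + r) φ with hJ
  haveI hJp : J.IsPrime := schubertVanishing_isPrime hd φ
  haveI hCM : LocCoh.IsCohenMacaulayRing (PlRing K d (d + r) ⧸ J) := isCohenMacaulayRing_schubert hd φ
  set x : PlRing K d (d + r) := X (topIdx d r) - 1 with hx
  set xb : PlRing K d (d + r) ⧸ J := Ideal.Quotient.mk J x with hxb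
  have hxJ : x ∉ J := by
    intro h
    have h1 := schubertVanishing_le_irr hd φ h
    rw [RingHom.mem_ker, hx, map_sub, constantCoeff_X, map_one] at h1
    simp at h1
  have hxb0 : xb ≠ 0 := by
    intro h
    exact hxJ (Ideal.Quotient.eq_zero_iff_mem.mp h)
  have hreg : IsSMulRegular (PlRing K d (d + r) ⧸ J) xb := by
    rw [isSMulRegular_iff_right_eq_zero_of_smul]
    intro y hy
    rw [smul_eq_mul] at hy
    exact (mul_eq_zero.mp hy).resolve_left hxb0
  haveI hCM' := Groth.Agent.Lib.Helper8.CMQ.cm_quot_regular xb hreg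
  have hmap : Ideal.span {xb} = (Ideal.span {x}).map (Ideal.Quotient.mk J) := by
    rw [Ideal.map_span, Set.image_singleton]
  let e : ((PlRing K d (d + r) ⧸ J) ⧸ Ideal.span {xb})
      ≃+* (CellRing K d r ⧸ CAlgX.minorIdeal (genMatrix K r d) (n + 1)) :=
    ((Ideal.quotEquivOfEq hmap).trans (DoubleQuot.quotQuotEquivQuotSup J (Ideal.span {x}))).trans
      (detEquiv hnd hnr)
  refine ⟨Groth.Agent.Lib.Helper18.FibQuot.isCohenMacaulayRing_of_ringEquiv
    (R := (PlRing K d (d + r) ⧸ J) ⧸ Ideal.span {xb})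
    (S := CellRing K d r ⧸ CAlgX.minorIdeal (genMatrix K r d) (n + 1)) (h := hCM') e, ?_⟩
  rw [← ringKrullDim_eq_of_ringEquiv (R := (PlRing K d (d + r) ⧸ J) ⧸ Ideal.span {xb})
    (S := CellRing K d r ⧸ CAlgX.minorIdeal (genMatrix K r d) (n + 1)) e]
  haveI hDprime := isPrime_minorIdeal (K := K) (n := n) r d
  haveI : Nontrivial (CellRing K d r ⧸ CAlgX.minorIdeal (genMatrix K r d) (n + 1)) :=
    Ideal.Quotient.nontrivial_iff.mpr hDprime.ne_top
  haveI : Nontrivial ((PlRing K d (d + r) ⧸ J) ⧸ Ideal.span {xb}) := e.toEquiv.nontrivial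
  have hne : Ideal.span {xb} ≠ ⊤ := Ideal.Quotient.nontrivial_iff.mp inferInstance
  obtain ⟨p, hp, hle⟩ := Ideal.exists_le_maximal _ hne
  haveI := hp
  have hheight := Groth.Agent.Lib.Helper7.DimFT.height_eq_ringKrullDim_of_isMaximal K
    (PlRing K d (d + r) ⧸ J) p
  have hxp : xb ∈ p := hle (Ideal.mem_span_singleton_self xb)
  have h1 := Module.ringKrullDim_quotient_add_one_of_mem_nonZeroDivisors
    (mem_nonZeroDivisors_of_ne_zero hxb0) hheight hxp
  rw [ringKrullDim_schubert hd φ, codeg_phiRank hnd hnr] at h1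
  exact withBot_nat_add_one_cancel _ _ h1

/-- S11264. -/
theorem determinantal_main (m n t : ℕ) (ht : 1 ≤ t) (htm : t ≤ m) (htn : t ≤ n) :
    IsDomain (MvPolynomial (Fin m × Fin n) K ⧸ CAlgX.minorIdeal (genMatrix K m n) t) ∧
      IsIntegrallyClosed (MvPolynomial (Fin m × Fin n) K ⧸ CAlgX.minorIdeal (genMatrix K m n) t) ∧
      LocCoh.IsCohenMacaulayRing
        (MvPolynomial (Fin m × Fin n) K ⧸ CAlgX.minorIdeal (genMatrix K m n) t) ∧
      ringKrullDim (MvPolynomial (Fin m × Fin n) K ⧸ CAlgX.minorIdeal (genMatrix K m n) t) =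
        (((t - 1) * (m + n - t + 1) : ℕ) : WithBot ℕ∞) := by
  obtain ⟨ρ, rfl⟩ : ∃ ρ, t = ρ + 1 := ⟨t - 1, by omega⟩
  have hρm : ρ < m := by omega
  have hρn : ρ < n := by omega
  haveI := isPrime_minorIdeal (K := K) (n := ρ) m n
  refine ⟨Ideal.Quotient.isDomain _, isIntegrallyClosed_det m n, ?_⟩
  have h := cm_dim_det (K := K) (d := n) (r := m) (n := ρ) hρn hρm
  refine ⟨h.1, ?_⟩
  rw [h.2]
  have h1 : m + n - (ρ + 1) + 1 = m + n - ρ := by omega
  rw [Nat.add_sub_cancel, h1]

end DetMain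

end Groth.Agent.Lib.Helper8.Gr
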