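import Mathlib
import Groth.Prelude.Def_W4bk4grassmannianPl
import Groth.Prelude.Def_CAlgX
import Groth.Prelude.Def_CAlg
import Groth.Agent.Lib.Helper8.Det5
import Groth.Agent.Lib.Helper22.FibreDim
set_option backward.isDefEq.respectTransparency.types false
set_option linter.unusedSectionVars false
set_option autoImplicit false
set_option linter.style.haveILetI false
universe u

namespace Groth.Agent.Lib.Helper8.Gr
open W4bk4grassmannian MvPolynomial TensorProduct

section BaseChange

variable (k K : Type u) [Field k] [Field K] [Algebra k K] (σ : Type) [Finite σ]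

/-- `K ⊗_k (k[X]/I) ≅ K[X]/I K[X]`. -/
noncomputable def tensorQuotEquiv (I : Ideal (MvPolynomial σ k)) :
    (K ⊗[k] (MvPolynomial σ k ⧸ I)) ≃+*
      (MvPolynomial σ K ⧸ I.map (MvPolynomial.map (algebraMap k K))) :=
  (Algebra.TensorProduct.tensorQuotientEquiv (R := k) K (MvPolynomial σ k) K I).toRingEquiv.trans
    (Ideal.quotientEquiv _ _ (MvPolynomial.algebraTensorAlgEquiv (σ := σ) k K).toRingEquiv (by
      show _ = Ideal.map ((MvPolynomial.algebraTensorAlgEquiv (σ := σ) k K).toRingEquiv :
          K ⊗[k] MvPolynomial σ k →+* MvPolynomial σ K)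
        (Ideal.map ((Algebra.TensorProduct.includeRight :
          MvPolynomial σ k →ₐ[k] K ⊗[k] MvPolynomial σ k) : MvPolynomial σ k →+* _) I)
      rw [Ideal.map_map]
      congr 1
      apply RingHom.ext
      intro p
      simp))

theorem ringKrullDim_quotient_map_field (I : Ideal (MvPolynomial σ k)) :
    ringKrullDim (MvPolynomial σ K ⧸ I.map (MvPolynomial.map (algebraMap k K)))
      = ringKrullDim (MvPolynomial σ k ⧸ I) := by
  rw [← ringKrullDim_eq_of_ringEquiv (R := K ⊗[k] (MvPolynomial σ k ⧸ I))
    (S := MvPolynomial σ K ⧸ I.map (MvPolynomial.map (algebraMap k K))) (tensorQuotEquiv k K σ I)]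
  exact Groth.Agent.Lib.Helper22.ringKrullDim_tensor_field k K (MvPolynomial σ k ⧸ I)

end BaseChange

section Minor

variable {k K : Type u} [Field k] [Field K] [Algebra k K]

theorem minorIdeal_map (n m t : ℕ) :
    (CAlgX.minorIdeal (genMatrix k n m) t).map (MvPolynomial.map (algebraMap k K))
      = CAlgX.minorIdeal (genMatrix K n m) t := by
  unfold CAlgX.minorIdeal
  rw [Ideal.map_span]
  congr 1
  ext f
  simp only [Set.mem_image, Set.mem_range, exists_exists_eq_and]
  have key : ∀ fg : (Fin t → Fin n) × (Fin t → Fin m),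
      MvPolynomial.map (algebraMap k K) ((genMatrix k n m).submatrix fg.1 fg.2).det
        = ((genMatrix K n m).submatrix fg.1 fg.2).det := by
    intro fg
    rw [RingHom.map_det]
    congr 1
    ext i j
    simp [genMatrix]
  constructor
  · rintro ⟨fg, rfl⟩
    exact ⟨fg, (key fg).symm⟩
  · rintro ⟨fg, rfl⟩
    exact ⟨fg, key fg⟩

theorem minorIdeal_eq_bot_of_lt (n m t : ℕ) (h : n < t ∨ m < t) :
    CAlgX.minorIdeal (genMatrix k n m) t = ⊥ := by
  unfold CAlgX.minorIdeal
  rw [Ideal.span_eq_bot]
  rintro _ ⟨fg, rfl⟩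
  rcases h with h | h
  · obtain ⟨a, b, hab, hfab⟩ := Fintype.exists_ne_map_eq_of_card_lt fg.1 (by simpa using h)
    apply Matrix.det_zero_of_row_eq hab
    ext j
    simp [Matrix.submatrix_apply, hfab]
  · obtain ⟨a, b, hab, hfab⟩ := Fintype.exists_ne_map_eq_of_card_lt fg.2 (by simpa using h)
    apply Matrix.det_zero_of_column_eq hab
    intro i
    simp [Matrix.submatrix_apply, hfab]

/-- S10870. -/
theorem ringKrullDim_genericDeterminantal (n m r : ℕ) (hr : r ≤ min n m) :
    ringKrullDim (MvPolynomial (Fin n × Fin m) k ⧸ CAlgX.minorIdeal (genMatrix k n m) (r + 1))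
      = ((r * (m + n - r) : ℕ) : WithBot ℕ∞) := by
  have hrn : r ≤ n := le_trans hr (min_le_left _ _)
  have hrm : r ≤ m := le_trans hr (min_le_right _ _)
  by_cases h : r < n ∧ r < m
  · set K := AlgebraicClosure k with hK
    haveI : Infinite K := IsAlgClosed.instInfinite
    rw [← ringKrullDim_quotient_map_field k K (Fin n × Fin m), minorIdeal_map]
    have h1 := (cm_dim_det (K := K) (d := m) (r := n) (n := r) h.2 h.1).2
    rw [h1, add_comm n m]
  · have hlt : n < r + 1 ∨ m < r + 1 := by
      by_contra hcon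
      push Not at hcon
      exact h ⟨by omega, by omega⟩
    rw [minorIdeal_eq_bot_of_lt n m (r + 1) hlt,
      ringKrullDim_eq_of_ringEquiv (RingEquiv.quotientBot _),
      MvPolynomial.ringKrullDim_of_isNoetherianRing, ringKrullDim_eq_zero_of_field, zero_add,
      Nat.card_eq_fintype_card, Fintype.card_prod, Fintype.card_fin, Fintype.card_fin]
    congr 1
    have : r = n ∨ r = m := by omega
    rcases this with rfl | rfl
    · rw [Nat.add_sub_cancel]
    · rw [Nat.add_sub_cancel_left, mul_comm]

end Minor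

end Groth.Agent.Lib.Helper8.Gr
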