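import Mathlib

set_option backward.isDefEq.respectTransparency.types false
set_option autoImplicit false
set_option linter.unusedSectionVars false
set_option linter.style.haveILetI false

namespace Groth.Agent.Lib.Helper8.Dieu1

open Module

universe u v

variable {R : Type u} [CommRing R] [IsDomain R] [IsPrincipalIdealRing R] (ϖ : R)
  (hϖ : Irreducible ϖ) (σ : R →+* R) (hσ : Function.Bijective σ)
  {M : Type v} [AddCommGroup M] [Module R M] [Module.Free R M] [Module.Finite R M]
  (FM VM : M →+ M)
  (hVM : ∀ (a : R) (m : M), VM (σ a • m) = a • VM m)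
  (hFVM : ∀ m : M, FM (VM m) = ϖ • m)
  (hVFM : ∀ m : M, VM (FM m) = ϖ • m)

include hσ hVM in
theorem mem_range_of_mem_span (x : M) (hx : x ∈ Submodule.span R (Set.range VM)) :
    ∃ m, VM m = x := by
  induction hx using Submodule.span_induction with
  | mem z hz => exact hz
  | zero => exact ⟨0, map_zero _⟩
  | add z z' _ _ hz hz' =>
    obtain ⟨m, rfl⟩ := hz
    obtain ⟨m', rfl⟩ := hz'
    exact ⟨m + m', map_add _ _ _⟩
  | smul a z _ hz =>
    obtain ⟨m, rfl⟩ := hz
    exact ⟨σ a • m, hVM a m⟩

include hVFM in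
theorem smul_mem_span (m : M) : ϖ • m ∈ Submodule.span R (Set.range VM) := by
  rw [← hVFM]
  exact Submodule.subset_span ⟨_, rfl⟩

include hϖ hFVM in
theorem V_injective : Function.Injective VM := by
  rw [injective_iff_map_eq_zero]
  intro m hm
  have h := hFVM m
  rw [hm, map_zero] at h
  exact (smul_eq_zero.mp h.symm).resolve_left hϖ.ne_zero

include hϖ hVFM in
theorem finrank_span_eq :
    finrank R (Submodule.span R (Set.range VM)) = finrank R M := by
  apply le_antisymm (Submodule.finrank_le _)
  let f : M →ₗ[R] Submodule.span R (Set.range VM) :=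
    { toFun := fun m => ⟨ϖ • m, smul_mem_span ϖ FM VM hVFM m⟩
      map_add' := fun m m' => Subtype.ext (smul_add _ _ _)
      map_smul' := fun a m => Subtype.ext (smul_comm _ _ _) }
  apply LinearMap.finrank_le_finrank_of_injective (f := f)
  intro m m' h
  have h' : ϖ • m = ϖ • m' := congrArg Subtype.val h
  exact smul_right_injective M hϖ.ne_zero h'

include hϖ hVFM in
/-- adapted bases of `M` and `V M` -/
theorem exists_adapted :
    ∃ (b' : Basis (Free.ChooseBasisIndex R M) R M) (a : Free.ChooseBasisIndex R M → R)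
      (ab' : Basis (Free.ChooseBasisIndex R M) R (Submodule.span R (Set.range VM))),
      (∀ i, (ab' i : M) = a i • b' i) ∧ (∀ i, a i ∣ ϖ) ∧
      (∀ m : M, m ∈ Submodule.span R (Set.range VM) ↔ ∀ i, a i ∣ b'.repr m i) := by
  obtain ⟨b', a, ab', hab⟩ := Submodule.exists_smith_normal_form_of_rank_eq
    (Free.chooseBasis R M) (finrank_span_eq ϖ hϖ FM VM hVFM)
  have hmem : ∀ m : M, m ∈ Submodule.span R (Set.range VM) ↔ ∀ i, a i ∣ b'.repr m i := by
    intro m
    constructor
    · intro hm i
      have h1 : m = ∑ j, (ab'.repr ⟨m, hm⟩ j * a j) • b' j := by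
        have h2 := congrArg Subtype.val (ab'.sum_repr ⟨m, hm⟩)
        rw [AddSubmonoidClass.coe_finsetSum] at h2
        simp only [Submodule.coe_smul, hab, smul_smul] at h2
        exact h2.symm
      have h3 : b'.repr m i = ab'.repr ⟨m, hm⟩ i * a i := by
        conv_lhs => rw [h1]
        rw [map_sum, Finsupp.coe_finsetSum, Finset.sum_apply]
        simp [Finsupp.single_apply]
      rw [h3]
      exact Dvd.intro_left _ rfl
    · intro h
      choose d hd using h
      have h1 : m = ∑ j, d j • (ab' j : M) := by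
        conv_lhs => rw [← b'.sum_repr m]
        refine Finset.sum_congr rfl fun j _ => ?_
        rw [hab, smul_smul, hd j, mul_comm]
      rw [h1]
      exact Submodule.sum_mem _ fun j _ => Submodule.smul_mem _ _ (ab' j).2
  refine ⟨b', a, ab', hab, ?_, hmem⟩
  intro i
  have h1 := (hmem (ϖ • b' i)).mp (smul_mem_span ϖ FM VM hVFM (b' i)) i
  simpa using h1

end Groth.Agent.Lib.Helper8.Dieu1
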