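import Mathlib
import Groth.Agent.Lib.Helper8.Dieu1

set_option backward.isDefEq.respectTransparency.types false
set_option autoImplicit false
set_option linter.unusedSectionVars false
set_option linter.style.haveILetI false

namespace Groth.Agent.Lib.Helper8.Dieu2

open Module Groth.Agent.Lib.Helper8.Dieu1

universe u v w

theorem length_quot_of_surjective {R : Type*} [Ring R] {M P : Type*} [AddCommGroup M] [Module R M]
    [AddCommGroup P] [Module R P] (f : M →ₗ[R] P) (hf : Function.Surjective f)
    (K : Submodule R M) (hK : K = LinearMap.ker f) :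
    Module.length R (M ⧸ K) = Module.length R P :=
  ((Submodule.quotEquivOfEq _ _ hK).trans (f.quotKerEquivOfSurjective hf)).length_eq

variable {R : Type u} [CommRing R] [IsDomain R] [IsPrincipalIdealRing R] (ϖ : R)
  (hϖ : Irreducible ϖ)

include hϖ in
theorem length_quot_span : Module.length R (R ⧸ Ideal.span {ϖ}) = 1 := by
  rw [Module.length_eq_one_iff]
  have : (Ideal.span {ϖ}).IsMaximal := PrincipalIdealRing.isMaximal_of_irreducible hϖ
  exact isSimpleModule_iff_isCoatom.mpr this.out

variable {M : Type v} [AddCommGroup M] [Module R M]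
  {ι : Type*} [Fintype ι] (b' : Basis ι R M) (a : ι → R) (K : Submodule R M)
  (ha : ∀ i, a i ∣ ϖ)
  (hmem : ∀ m : M, m ∈ K ↔ ∀ i, a i ∣ b'.repr m i)

include hϖ ha hmem in
theorem length_quot_adapted [DecidablePred fun i => IsUnit (a i)] :
    Module.length R (M ⧸ K) = (Fintype.card {i // ¬ IsUnit (a i)} : ℕ∞) := by
  classical
  let Ξ : M →ₗ[R] ({i // ¬ IsUnit (a i)} → R ⧸ Ideal.span {ϖ}) :=
    LinearMap.pi fun i => (Submodule.mkQ (Ideal.span {ϖ})) ∘ₗ (b'.coord i.1)
  have hΞ : ∀ m i, Ξ m i = Submodule.Quotient.mk (b'.repr m i.1) := fun m i => rfl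
  have hsurj : Function.Surjective Ξ := by
    intro f
    choose c hc using fun i => Submodule.Quotient.mk_surjective _ (f i)
    refine ⟨∑ i : ι, (if h : IsUnit (a i) then 0 else c ⟨i, h⟩) • b' i, ?_⟩
    funext i
    rw [hΞ, map_sum, Finsupp.coe_finsetSum, Finset.sum_apply]
    simp only [map_smul, Basis.repr_self, Finsupp.smul_single, smul_eq_mul, mul_one,
      Finsupp.single_apply]
    rw [Finset.sum_eq_single i.1]
    · rw [if_pos rfl, dif_neg i.2, hc]
    · intro j _ hj
      rw [if_neg hj]
    · intro h; exact absurd (Finset.mem_univ _) h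
  have hker : K = LinearMap.ker Ξ := by
    ext m
    rw [hmem, LinearMap.mem_ker]
    constructor
    · intro h
      funext i
      rw [hΞ, Pi.zero_apply, Submodule.Quotient.mk_eq_zero, Ideal.mem_span_singleton]
      rcases (hϖ.dvd_iff.mp (ha i.1)) with hu | hu
      · exact absurd hu i.2
      · exact hu.dvd.trans (h i.1)
    · intro h i
      by_cases hu : IsUnit (a i)
      · exact hu.dvd
      · have := congrFun h ⟨i, hu⟩
        rw [hΞ, Pi.zero_apply, Submodule.Quotient.mk_eq_zero, Ideal.mem_span_singleton] at this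
        exact (ha i).trans this
  rw [length_quot_of_surjective Ξ hsurj K hker, Module.length_pi, length_quot_span ϖ hϖ, mul_one,
    ENat.card_eq_coe_fintype_card]

end Groth.Agent.Lib.Helper8.Dieu2
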