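import Mathlib
import Groth.Agent.Lib.Helper8.Dieu2

set_option backward.isDefEq.respectTransparency.types false
set_option autoImplicit false
set_option linter.unusedSectionVars false
set_option linter.style.haveILetI false

namespace Groth.Agent.Lib.Helper8.Dieu3

open Module Groth.Agent.Lib.Helper8.Dieu1 Groth.Agent.Lib.Helper8.Dieu2

universe u v w

variable {R : Type u} [CommRing R] [IsDomain R] [IsPrincipalIdealRing R] (ϖ : R)
  (hϖ : Irreducible ϖ) (σ : R →+* R) (hσ : Function.Bijective σ)
  {M : Type v} [AddCommGroup M] [Module R M] [Module.Free R M] [Module.Finite R M]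
  {N : Type w} [AddCommGroup N] [Module R N] [Module.Free R N] [Module.Finite R N]
  (FM VM : M →+ M) (FN VN : N →+ N)
  (hVM : ∀ (a : R) (m : M), VM (σ a • m) = a • VM m)
  (hVFM : ∀ m : M, VM (FM m) = ϖ • m)
  (hVN : ∀ (a : R) (n : N), VN (σ a • n) = a • VN n)
  (hFVN : ∀ n : N, FN (VN n) = ϖ • n)
  (hVFN : ∀ n : N, VN (FN n) = ϖ • n)

include hϖ hσ hVM hVN hFVN in
theorem partA (h : M →ₗ[R] N) :
    (∀ m : M, h (VM m) ∈ Submodule.span R (Set.range VN)) ↔
      ∃ h' : M →ₗ[R] N, ∀ m : M, h (VM m) = VN (h' m) := by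
  constructor
  · intro hh
    have hinj : Function.Injective VN := V_injective ϖ hϖ FN VN hFVN
    choose f hf using fun m => mem_range_of_mem_span σ hσ VN hVN _ (hh m)
    refine ⟨{ toFun := f, map_add' := ?_, map_smul' := ?_ }, fun m => (hf m).symm⟩
    · intro m m'
      apply hinj
      rw [map_add, hf, hf, hf, map_add, map_add]
    · intro c m
      apply hinj
      obtain ⟨c₀, rfl⟩ := hσ.2 c
      rw [RingHom.id_apply, hVN, hf, hf, hVM, map_smul]
  · rintro ⟨h', hh'⟩ m
    rw [hh']
    exact Submodule.subset_span ⟨_, rfl⟩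

include hϖ hVFM hVFN in
theorem partB (g : Submodule.span R (Set.range VM) →ₗ[R] N ⧸ Submodule.span R (Set.range VN))
    (hg : ∀ m : M, g ⟨VM (FM m), Submodule.subset_span ⟨FM m, rfl⟩⟩ = 0) :
    ∃ h : M →ₗ[R] N, ∀ x : Submodule.span R (Set.range VM),
      (Submodule.span R (Set.range VN)).mkQ (h x) = g x := by
  classical
  obtain ⟨b', a, ab', hab, ha, -⟩ := exists_adapted ϖ hϖ FM VM hVFM
  choose n hn using fun i => Submodule.Quotient.mk_surjective _ (g (ab' i))
  have hnonunit : ∀ i, ¬ IsUnit (a i) → g (ab' i) = 0 := by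
    intro i hi
    rcases hϖ.dvd_iff.mp (ha i) with hu | hu
    · exact absurd hu hi
    · obtain ⟨u, hu⟩ := hu
      have : ab' i = ⟨VM (FM ((u : R) • b' i)), Submodule.subset_span ⟨_, rfl⟩⟩ := by
        apply Subtype.ext
        change (ab' i : M) = VM (FM ((u : R) • b' i))
        rw [hab, hVFM, smul_smul, hu]
      rw [this, hg]
  let c : (i : _) → R := fun i => if h : IsUnit (a i) then ((h.unit⁻¹ : Rˣ) : R) else 0
  have hc : ∀ i, (a i * c i) • g (ab' i) = g (ab' i) := by
    intro i
    by_cases hi : IsUnit (a i)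
    · simp only [c, dif_pos hi]
      rw [IsUnit.mul_val_inv, one_smul]
    · rw [hnonunit i hi, smul_zero]
  refine ⟨b'.constr R fun i => c i • n i, ?_⟩
  intro x
  have hx : x = ∑ i, ab'.repr x i • ab' i := (ab'.sum_repr x).symm
  conv_rhs => rw [hx]
  have hx' : (x : M) = ∑ i, (ab'.repr x i * a i) • b' i := by
    conv_lhs => rw [hx]
    rw [AddSubmonoidClass.coe_finsetSum]
    simp only [Submodule.coe_smul, hab, smul_smul]
  rw [hx', map_sum, map_sum, map_sum]
  refine Finset.sum_congr rfl fun i _ => ?_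
  have e1 : (Submodule.span R (Set.range VN)).mkQ
      ((b'.constr R fun i => c i • n i) ((ab'.repr x i * a i) • b' i)) =
      (ab'.repr x i * a i * c i) • g (ab' i) := by
    rw [map_smul, Basis.constr_basis, map_smul, map_smul, Submodule.mkQ_apply, hn, smul_smul]
  have e2 : g (ab'.repr x i • ab' i) = (ab'.repr x i * (a i * c i)) • g (ab' i) := by
    rw [map_smul, ← smul_smul, hc i]
  rw [e1, e2, mul_assoc]


include hϖ hVFM hVFN in
theorem partC (r₂ s₁ : ℕ)
    (hr₂ : Module.length R (N ⧸ Submodule.span R (Set.range VN)) = r₂)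
    (hs₁ : (Module.finrank R M : ℕ∞) =
      Module.length R (M ⧸ Submodule.span R (Set.range VM)) + s₁) :
    Module.length R ((M →ₗ[R] N) ⧸
      ⨅ m : M, (Submodule.span R (Set.range VN)).comap
        (LinearMap.applyₗ (VM m) : (M →ₗ[R] N) →ₗ[R] N)) = (r₂ * s₁ : ℕ) := by
  classical
  obtain ⟨b', a, ab', hab, ha, hmem⟩ := exists_adapted ϖ hϖ FM VM hVFM
  let Φ : (M →ₗ[R] N) →ₗ[R] ({i // IsUnit (a i)} → N ⧸ Submodule.span R (Set.range VN)) :=
    LinearMap.pi fun i => (Submodule.span R (Set.range VN)).mkQ ∘ₗ LinearMap.applyₗ (b' i.1)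
  have hΦ : ∀ h i, Φ h i = Submodule.Quotient.mk (h (b' i.1)) := fun h i => rfl
  have hsurj : Function.Surjective Φ := by
    intro q
    choose n hn using fun i => Submodule.Quotient.mk_surjective _ (q i)
    refine ⟨b'.constr R fun i => if h : IsUnit (a i) then n ⟨i, h⟩ else 0, ?_⟩
    funext i
    rw [hΦ, Basis.constr_basis, dif_pos i.2, hn]
  have hker : (⨅ m : M, (Submodule.span R (Set.range VN)).comap
      (LinearMap.applyₗ (VM m) : (M →ₗ[R] N) →ₗ[R] N)) = LinearMap.ker Φ := by
    ext h
    simp only [Submodule.mem_iInf, Submodule.mem_comap, LinearMap.applyₗ_apply_apply,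
      LinearMap.mem_ker]
    constructor
    · intro hh
      have hh' : ∀ x ∈ Submodule.span R (Set.range VM), h x ∈ Submodule.span R (Set.range VN) := by
        intro x hx
        induction hx using Submodule.span_induction with
        | mem z hz => obtain ⟨m, rfl⟩ := hz; exact hh m
        | zero => rw [map_zero]; exact Submodule.zero_mem _
        | add z z' _ _ hz hz' => rw [map_add]; exact Submodule.add_mem _ hz hz'
        | smul c z _ hz => rw [map_smul]; exact Submodule.smul_mem _ _ hz
      funext i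
      rw [hΦ, Pi.zero_apply, Submodule.Quotient.mk_eq_zero]
      have h1 := hh' (ab' i.1) (ab' i.1).2
      rw [hab, map_smul] at h1
      have h2 := Submodule.smul_mem _ ((i.2.unit⁻¹ : Rˣ) : R) h1
      rwa [smul_smul, IsUnit.val_inv_mul, one_smul] at h2
    · intro hh m
      have hm : VM m ∈ Submodule.span R (Set.range VM) := Submodule.subset_span ⟨m, rfl⟩
      have hx : (⟨VM m, hm⟩ : Submodule.span R (Set.range VM)) =
          ∑ i, ab'.repr ⟨VM m, hm⟩ i • ab' i := (ab'.sum_repr _).symm
      have hx' : VM m = ∑ i, (ab'.repr ⟨VM m, hm⟩ i * a i) • b' i := by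
        have := congrArg Subtype.val hx
        rw [AddSubmonoidClass.coe_finsetSum] at this
        simp only [Submodule.coe_smul, hab, smul_smul] at this
        exact this
      rw [hx', map_sum]
      refine Submodule.sum_mem _ fun i _ => ?_
      rw [map_smul, ← smul_smul]
      apply Submodule.smul_mem
      by_cases hi : IsUnit (a i)
      · have := congrFun hh ⟨i, hi⟩
        rw [hΦ, Pi.zero_apply, Submodule.Quotient.mk_eq_zero] at this
        exact Submodule.smul_mem _ _ this
      · rcases hϖ.dvd_iff.mp (ha i) with hu | hu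
        · exact absurd hu hi
        · obtain ⟨u, hu⟩ := hu
          rw [← hu, ← smul_smul]
          exact smul_mem_span ϖ FN VN hVFN _
  rw [length_quot_of_surjective Φ hsurj _ hker, Module.length_pi, hr₂,
    ENat.card_eq_coe_fintype_card]
  have h1 := length_quot_adapted ϖ hϖ b' a (Submodule.span R (Set.range VM)) ha hmem
  rw [h1, Module.finrank_eq_card_chooseBasisIndex] at hs₁
  have h2 : Fintype.card (Free.ChooseBasisIndex R M) =
      Fintype.card {i // IsUnit (a i)} + Fintype.card {i // ¬ IsUnit (a i)} := by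
    rw [Fintype.card_subtype_compl]
    have := Fintype.card_subtype_le fun i => IsUnit (a i)
    omega
  have h3 : Fintype.card (Free.ChooseBasisIndex R M) =
      Fintype.card {i // ¬ IsUnit (a i)} + s₁ := by exact_mod_cast hs₁
  have h4 : Fintype.card {i // IsUnit (a i)} = s₁ := by omega
  rw [h4]
  push_cast
  ring

end Groth.Agent.Lib.Helper8.Dieu3
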