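import Mathlib
import Groth.Prelude.Def_FrobAlg

set_option backward.isDefEq.respectTransparency.types false
set_option autoImplicit false
set_option linter.unusedSectionVars false
set_option linter.style.haveILetI false

universe u v

open FrobAlg

namespace Groth.Agent.Lib.Helper8.FD

variable (p : ℕ) [Fact p.Prime]

/-- the `p`-degree `[E : E^p]` as the rank of the Frobenius twist. -/
noncomputable def fdeg (E : Type u) [CommRing E] [CharP E p] : ℕ :=
  Module.finrank E (Twist p E)

theorem smul_tw {E : Type u} [CommRing E] [CharP E p] (a : E) (m : Twist p E) :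
    a • m = toTwist p E (a ^ p) * m := by
  rw [Algebra.smul_def, algebraMap_twist]

/-- `[E : E^p]` computed over the subfield of `p`-th powers. -/
theorem finrank_fieldRange (E : Type u) [Field E] [CharP E p] :
    Module.finrank (↥(frobenius E p).fieldRange) E = fdeg p E := by
  refine Algebra.finrank_eq_of_equiv_equiv (frobenius E p).rangeRestrictFieldEquiv.symm
    (toTwist p E) ?_
  ext x
  obtain ⟨y, rfl⟩ := (frobenius E p).rangeRestrictFieldEquiv.surjective x
  simp only [RingHom.comp_apply, RingEquiv.toRingHom_eq_coe, RingHom.coe_coe,
    RingEquiv.symm_apply_apply, algebraMap_twist]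
  congr 1

/-- invariance of `fdeg` under ring isomorphisms. -/
theorem fdeg_congr {E E' : Type*} [CommRing E] [CharP E p] [CommRing E'] [CharP E' p]
    (e : E ≃+* E') : fdeg p E = fdeg p E' := by
  refine Algebra.finrank_eq_of_equiv_equiv e
    (((toTwist p E).symm.trans e).trans (toTwist p E')) ?_
  ext x
  simp only [RingHom.comp_apply, RingEquiv.toRingHom_eq_coe, RingHom.coe_coe, algebraMap_twist,
    RingEquiv.trans_apply, RingEquiv.symm_apply_apply, map_pow]

section Finite

variable (L M : Type*) [Field L] [Field M] [Algebra L M] [CharP L p] [CharP M p]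

/-- `Twist p M` as an `L`-algebra. -/
@[instance_reducible]
noncomputable def algLTM : Algebra L (Twist p M) :=
  ((algebraMap M (Twist p M)).comp (algebraMap L M)).toAlgebra

/-- `Twist p M` as a `Twist p L`-algebra. -/
@[instance_reducible]
noncomputable def algTLTM : Algebra (Twist p L) (Twist p M) :=
  (((toTwist p M : M →+* Twist p M).comp (algebraMap L M)).comp
    ((toTwist p L).symm : Twist p L →+* L)).toAlgebra

theorem fdeg_eq_of_finite [FiniteDimensional L M] : fdeg p M = fdeg p L := by
  letI : Field (Twist p L) := inferInstanceAs (Field L)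
  letI := algLTM p L M
  letI := algTLTM p L M
  haveI : IsScalarTower L M (Twist p M) := IsScalarTower.of_algebraMap_eq fun x => rfl
  haveI : IsScalarTower L (Twist p L) (Twist p M) := by
    refine IsScalarTower.of_algebraMap_eq fun x => ?_
    change toTwist p M ((algebraMap L M x) ^ p) = toTwist p M (algebraMap L M (x ^ p))
    simp only [map_pow]
  have h1 : Module.finrank L M * Module.finrank M (Twist p M) = Module.finrank L (Twist p M) :=
    Module.finrank_mul_finrank L M (Twist p M)
  have h2 : Module.finrank L (Twist p L) * Module.finrank (Twist p L) (Twist p M) =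
      Module.finrank L (Twist p M) := Module.finrank_mul_finrank L (Twist p L) (Twist p M)
  have h3 : Module.finrank (Twist p L) (Twist p M) = Module.finrank L M := by
    refine Algebra.finrank_eq_of_equiv_equiv (toTwist p L).symm (toTwist p M).symm ?_
    ext x
    rfl
  have hpos : 0 < Module.finrank L M := Module.finrank_pos
  rw [h3] at h2
  unfold fdeg
  have : Module.finrank L M * Module.finrank M (Twist p M) =
      Module.finrank L M * Module.finrank L (Twist p L) := by
    rw [h1, ← h2, mul_comm]
  exact Nat.eq_of_mul_eq_mul_left hpos this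

end Finite

section Frac

variable (A : Type*) [CommRing A] [IsDomain A] [CharP A p]
  (M : Type*) [Field M] [Algebra A M] [IsFractionRing A M] [CharP M p]
  {ι : Type*} [Fintype ι] (e : ι → A)

include A in
/-- a `p`-basis of a domain gives a basis of the Frobenius twist of its fraction field. -/
theorem fdeg_frac (h1 : ∀ a : A, ∃ c : ι → A, a = ∑ i, c i ^ p * e i)
    (h2 : ∀ c : ι → A, ∑ i, c i ^ p * e i = 0 → ∀ i, c i = 0) :
    fdeg p M = Fintype.card ι := by
  classical
  let v : ι → Twist p M := fun i => toTwist p M (algebraMap A M (e i))
  have hsum : ∀ g : ι → M, ∑ i, g i • v i = toTwist p M (∑ i, g i ^ p * algebraMap A M (e i)) := by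
    intro g
    rw [map_sum]
    refine Finset.sum_congr rfl fun i _ => ?_
    rw [smul_tw, map_mul]
  have hli : LinearIndependent M v := by
    rw [Fintype.linearIndependent_iff]
    intro g hg
    rw [hsum, map_eq_zero_iff _ (toTwist p M).injective] at hg
    obtain ⟨b, hb⟩ := IsLocalization.exist_integer_multiples_of_finset (nonZeroDivisors A)
      (Finset.univ.image g)
    have hb' : ∀ i, ∃ f : A, algebraMap A M f = algebraMap A M (b : A) * g i := by
      intro i
      obtain ⟨f, hf⟩ := hb (g i) (Finset.mem_image_of_mem g (Finset.mem_univ i))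
      exact ⟨f, by rw [hf, Algebra.smul_def]⟩
    choose f hf using hb'
    have hz : algebraMap A M (∑ i, f i ^ p * e i) = 0 := by
      rw [map_sum]
      have : ∀ i, algebraMap A M (f i ^ p * e i) =
          algebraMap A M (b : A) ^ p * (g i ^ p * algebraMap A M (e i)) := by
        intro i
        rw [map_mul, map_pow, hf, mul_pow, mul_assoc]
      simp_rw [this]
      rw [← Finset.mul_sum, hg, mul_zero]
    have hz' : ∑ i, f i ^ p * e i = 0 :=
      (IsFractionRing.injective A M) (hz.trans (map_zero _).symm)
    intro i
    have hfi := h2 f hz' i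
    have := hf i
    rw [hfi, map_zero] at this
    have hb0 : algebraMap A M (b : A) ≠ 0 := by
      intro h0
      have := (IsFractionRing.injective A M) (h0.trans (map_zero _).symm)
      exact nonZeroDivisors.ne_zero b.2 this
    exact (mul_eq_zero.mp this.symm).resolve_left hb0
  have hsp : ⊤ ≤ Submodule.span M (Set.range v) := by
    intro x _
    obtain ⟨a, g, hg, hag⟩ := IsFractionRing.div_surjective (A := A) ((toTwist p M).symm x)
    obtain ⟨c, hc⟩ := h1 (a * g ^ (p - 1))
    have hg0 : algebraMap A M g ≠ 0 := by
      intro h0
      have := (IsFractionRing.injective A M) (h0.trans (map_zero _).symm)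
      exact nonZeroDivisors.ne_zero hg this
    have hx : x = ∑ i, (algebraMap A M (c i) / algebraMap A M g) • v i := by
      rw [hsum]
      apply (toTwist p M).symm.injective
      rw [RingEquiv.symm_apply_apply, ← hag]
      have h3 : ∑ i, (algebraMap A M (c i) / algebraMap A M g) ^ p * algebraMap A M (e i) =
          algebraMap A M (∑ i, c i ^ p * e i) / algebraMap A M g ^ p := by
        rw [map_sum, Finset.sum_div]
        refine Finset.sum_congr rfl fun i _ => ?_
        rw [div_pow, map_mul, map_pow]
        ring
      rw [h3, ← hc, map_mul, map_pow]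
      have hp : p = (p - 1) + 1 := (Nat.sub_add_cancel (Fact.out : p.Prime).pos).symm
      have h4 : algebraMap A M g ^ p = algebraMap A M g ^ (p - 1) * algebraMap A M g := by
        rw [← pow_succ, ← hp]
      rw [h4]
      field_simp
    rw [hx]
    exact Submodule.sum_mem _ fun i _ => Submodule.smul_mem _ _ (Submodule.subset_span ⟨i, rfl⟩)
  have hb := Module.finrank_eq_card_basis (Module.Basis.mk hli hsp)
  exact hb

end Frac

end Groth.Agent.Lib.Helper8.FD
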