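import Mathlib
import Groth.Agent.Lib.Helper8.FD1

set_option backward.isDefEq.respectTransparency.types false
set_option autoImplicit false
set_option linter.unusedSectionVars false
set_option linter.style.haveILetI false

universe u v

open FrobAlg

namespace Groth.Agent.Lib.Helper8.FD

variable (p : ℕ) [Fact p.Prime]

section PS

variable (k : Type u) [CommRing k] [CharP k p]

theorem ps_coeff_pow_p (c : PowerSeries k) (n : ℕ) :
    PowerSeries.coeff n (c ^ p) = if p ∣ n then (PowerSeries.coeff (n / p) c) ^ p else 0 := by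
  have hp0 : p ≠ 0 := (Fact.out : p.Prime).ne_zero
  have h : (PowerSeries.expand p hp0 c).map (frobenius k p) = c ^ p :=
    MvPowerSeries.map_frobenius_expand (σ := Unit) p hp0 (f := c)
  rw [← h, PowerSeries.coeff_map, PowerSeries.coeff_expand]
  split_ifs
  · rw [frobenius_def]
  · rw [map_zero]

theorem ps_coeff_pow_mul_X (c : PowerSeries k) (i n : ℕ) :
    PowerSeries.coeff n (c ^ p * PowerSeries.X ^ i) =
      if i ≤ n ∧ p ∣ (n - i) then (PowerSeries.coeff ((n - i) / p) c) ^ p else 0 := by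
  rw [PowerSeries.coeff_mul_X_pow', ]
  by_cases h : i ≤ n
  · rw [if_pos h, ps_coeff_pow_p]
    by_cases h2 : p ∣ (n - i)
    · rw [if_pos h2, if_pos ⟨h, h2⟩]
    · rw [if_neg h2, if_neg (fun hh => h2 hh.2)]
  · rw [if_neg h, if_neg (fun hh => h hh.1)]

/-- the coefficient of `X^(p m + i₀)` in `Σ_{i<p} c_i^p X^i`. -/
theorem ps_coeff_sum (c : Fin p → PowerSeries k) (m : ℕ) (i₀ : Fin p) :
    PowerSeries.coeff (p * m + i₀) (∑ i : Fin p, c i ^ p * PowerSeries.X ^ (i : ℕ)) =
      (PowerSeries.coeff m (c i₀)) ^ p := by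
  have hp0 : 0 < p := (Fact.out : p.Prime).pos
  rw [map_sum, Finset.sum_eq_single i₀]
  · rw [ps_coeff_pow_mul_X, if_pos, Nat.add_sub_cancel, Nat.mul_div_cancel_left _ hp0]
    exact ⟨Nat.le_add_left _ _, by rw [Nat.add_sub_cancel]; exact dvd_mul_right _ _⟩
  · intro i _ hi
    rw [ps_coeff_pow_mul_X, if_neg]
    rintro ⟨h1, h2⟩
    apply hi
    -- p ∣ p*m + i₀ - i with i, i₀ < p forces i = i₀
    have hi' := i.2
    have hi0 := i₀.2
    obtain ⟨q, hq⟩ := h2
    apply Fin.ext
    have h3 : p * m + (i₀ : ℕ) = p * q + (i : ℕ) := by omega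
    have h4 := congrArg (· % p) h3
    simp only [Nat.mul_add_mod, Nat.mod_eq_of_lt hi0, Nat.mod_eq_of_lt hi'] at h4
    exact h4.symm
  · intro h
    exact absurd (Finset.mem_univ _) h

end PS

section Laurent

variable (k : Type u) [Field k] [CharP k p] [PerfectRing k p]

theorem ps_pbasis_repr (a : PowerSeries k) :
    ∃ c : Fin p → PowerSeries k, a = ∑ i : Fin p, c i ^ p * PowerSeries.X ^ (i : ℕ) := by
  have hp0 : 0 < p := (Fact.out : p.Prime).pos
  refine ⟨fun i => PowerSeries.mk fun m =>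
    (frobeniusEquiv k p).symm (PowerSeries.coeff (p * m + i) a), ?_⟩
  ext n
  have hn : n = p * (n / p) + (⟨n % p, Nat.mod_lt _ hp0⟩ : Fin p) := (Nat.div_add_mod n p).symm
  conv_rhs => rw [hn]
  rw [ps_coeff_sum, PowerSeries.coeff_mk]
  rw [← frobeniusEquiv_def k p, RingEquiv.apply_symm_apply]
  exact congrArg (fun j => PowerSeries.coeff j a) hn

theorem ps_pbasis_indep (c : Fin p → PowerSeries k)
    (h : ∑ i : Fin p, c i ^ p * PowerSeries.X ^ (i : ℕ) = 0) : ∀ i, c i = 0 := by
  intro i
  ext m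
  have := ps_coeff_sum p k c m i
  rw [h, map_zero] at this
  rw [map_zero]
  exact (pow_eq_zero_iff (Fact.out : p.Prime).ne_zero).mp this.symm

theorem fdeg_laurent [CharP (LaurentSeries k) p] : fdeg p (LaurentSeries k) = p := by
  haveI : CharP (PowerSeries k) p := by
    have hinj : Function.Injective (algebraMap k (PowerSeries k)) := PowerSeries.C_injective
    exact charP_of_injective_algebraMap hinj p
  have := fdeg_frac p (PowerSeries k) (LaurentSeries k)
    (fun i : Fin p => (PowerSeries.X : PowerSeries k) ^ (i : ℕ))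
    (ps_pbasis_repr p k) (ps_pbasis_indep p k)
  rw [this, Fintype.card_fin]

end Laurent

end Groth.Agent.Lib.Helper8.FD
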