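import Mathlib
import Groth.Agent.Lib.Helper8.FD2

set_option backward.isDefEq.respectTransparency.types false
set_option autoImplicit false
set_option linter.unusedSectionVars false
set_option linter.style.haveILetI false

universe u v

open FrobAlg

namespace Groth.Agent.Lib.Helper8.FD

variable (p : ℕ) [Fact p.Prime]

section MvPoly

variable (F : Type u) [Field F] [CharP F p] (σ : Type v) [Fintype σ] [DecidableEq σ]

/-- exponent vector in `[0,p)^σ` as a finsupp. -/
noncomputable def toF (α : σ → Fin p) : σ →₀ ℕ :=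
  Finsupp.equivFunOnFinite.symm (fun s => (α s : ℕ))

theorem toF_apply (α : σ → Fin p) (s : σ) : toF p σ α s = (α s : ℕ) := rfl

variable {σ}

/-- main coefficient lemma. -/
theorem coeff_pow_mul_monomial (c : MvPolynomial σ F) (α α₀ : σ → Fin p) (m : σ →₀ ℕ) (r : F) :
    MvPolynomial.coeff (p • m + toF p σ α₀) (c ^ p * MvPolynomial.monomial (toF p σ α) r) =
      if α = α₀ then (MvPolynomial.coeff m c) ^ p * r else 0 := by
  have hp0 : p ≠ 0 := (Fact.out : p.Prime).ne_zero
  rw [MvPolynomial.coeff_mul_monomial', ← MvPolynomial.map_frobenius_expand p,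
    MvPolynomial.coeff_map]
  by_cases hα : α = α₀
  · subst hα
    rw [if_pos rfl, if_pos le_add_self, add_tsub_cancel_right,
      MvPolynomial.coeff_expand_smul p hp0, frobenius_def]
  · rw [if_neg hα]
    split_ifs with hle
    · obtain ⟨s, hs⟩ : ∃ s, α s ≠ α₀ s := by
        by_contra hcon
        push Not at hcon
        exact hα (funext hcon)
      have hnd : ¬ p ∣ (p • m + toF p σ α₀ - toF p σ α) s := by
        have h1 := hle s
        rw [Finsupp.add_apply, Finsupp.smul_apply, toF_apply, toF_apply, smul_eq_mul] at h1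
        rw [Finsupp.tsub_apply, Finsupp.add_apply, Finsupp.smul_apply, toF_apply, toF_apply,
          smul_eq_mul]
        rintro ⟨t, ht⟩
        apply hs
        apply Fin.ext
        have h3 : p * m s + (α₀ s : ℕ) = p * t + (α s : ℕ) := by omega
        have h4 := congrArg (· % p) h3
        simp only [Nat.mul_add_mod, Nat.mod_eq_of_lt (α₀ s).2, Nat.mod_eq_of_lt (α s).2] at h4
        exact h4.symm
      rw [MvPolynomial.coeff_expand_of_not_dvd _ hnd, map_zero, zero_mul]
    · rfl

variable {J : Type*} [Fintype J] (b : Module.Basis J F (Twist p F))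

/-- the basis elements as elements of `F`. -/
noncomputable def bb (j : J) : F := (toTwist p F).symm (b j)

theorem bb_repr (r : F) : ∃ l : J → F, r = ∑ j, l j ^ p * bb p F b j := by
  refine ⟨fun j => b.repr (toTwist p F r) j, ?_⟩
  apply (toTwist p F).injective
  conv_lhs => rw [← b.sum_repr (toTwist p F r)]
  rw [map_sum]
  refine Finset.sum_congr rfl fun j _ => ?_
  rw [smul_tw, map_mul, bb, RingEquiv.apply_symm_apply]

theorem bb_indep (l : J → F) (h : ∑ j, l j ^ p * bb p F b j = 0) : ∀ j, l j = 0 := by
  have hli := b.linearIndependent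
  rw [Fintype.linearIndependent_iff] at hli
  apply hli
  apply (toTwist p F).symm.injective
  rw [map_zero, map_sum, ← h]
  refine Finset.sum_congr rfl fun j _ => ?_
  rw [smul_tw, map_mul, RingEquiv.symm_apply_apply, bb]

/-- the `p`-basis of the polynomial ring. -/
noncomputable def ee (x : J × (σ → Fin p)) : MvPolynomial σ F :=
  MvPolynomial.monomial (toF p σ x.2) (bb p F b x.1)

theorem mv_coeff_sum (c : J × (σ → Fin p) → MvPolynomial σ F) (m : σ →₀ ℕ) (α₀ : σ → Fin p) :
    MvPolynomial.coeff (p • m + toF p σ α₀) (∑ x, c x ^ p * ee p F b x) =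
      ∑ j, (MvPolynomial.coeff m (c (j, α₀))) ^ p * bb p F b j := by
  rw [MvPolynomial.coeff_sum, Fintype.sum_prod_type]
  refine Finset.sum_congr rfl fun j _ => ?_
  rw [Finset.sum_eq_single α₀]
  · rw [ee, coeff_pow_mul_monomial, if_pos rfl]
  · intro α _ hα
    rw [ee, coeff_pow_mul_monomial, if_neg hα]
  · intro h
    exact absurd (Finset.mem_univ _) h

theorem mv_pbasis_indep (c : J × (σ → Fin p) → MvPolynomial σ F)
    (h : ∑ x, c x ^ p * ee p F b x = 0) : ∀ x, c x = 0 := by
  rintro ⟨j, α₀⟩
  ext m
  have h1 := mv_coeff_sum p F b c m α₀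
  rw [h, MvPolynomial.coeff_zero] at h1
  rw [MvPolynomial.coeff_zero]
  exact bb_indep p F b (fun j => MvPolynomial.coeff m (c (j, α₀))) h1.symm j

theorem mv_pbasis_repr (a : MvPolynomial σ F) :
    ∃ c : J × (σ → Fin p) → MvPolynomial σ F, a = ∑ x, c x ^ p * ee p F b x := by
  have hp0 : 0 < p := (Fact.out : p.Prime).pos
  induction a using MvPolynomial.induction_on' with
  | monomial n r =>
    obtain ⟨l, hl⟩ := bb_repr p F b r
    let m : σ →₀ ℕ := Finsupp.equivFunOnFinite.symm (fun s => n s / p)
    let α : σ → Fin p := fun s => ⟨n s % p, Nat.mod_lt _ hp0⟩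
    have hn : n = p • m + toF p σ α := by
      ext s
      rw [Finsupp.add_apply, Finsupp.smul_apply, toF_apply, smul_eq_mul]
      exact (Nat.div_add_mod (n s) p).symm
    refine ⟨fun x => if x.2 = α then MvPolynomial.monomial m (l x.1) else 0, ?_⟩
    rw [Fintype.sum_prod_type]
    have : ∀ j : J, ∑ α' : σ → Fin p, (if α' = α then MvPolynomial.monomial m (l j) else 0) ^ p *
        ee p F b (j, α') = MvPolynomial.monomial n (l j ^ p * bb p F b j) := by
      intro j
      rw [Finset.sum_eq_single α]
      · rw [if_pos rfl, ee, MvPolynomial.monomial_pow, MvPolynomial.monomial_mul, ← hn]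
      · intro α' _ hα'
        rw [if_neg hα', zero_pow (Fact.out : p.Prime).ne_zero, zero_mul]
      · intro h
        exact absurd (Finset.mem_univ _) h
    simp only [this]
    rw [← map_sum, ← hl]
  | add a a' ha ha' =>
    obtain ⟨c, rfl⟩ := ha
    obtain ⟨c', rfl⟩ := ha'
    refine ⟨fun x => c x + c' x, ?_⟩
    rw [← Finset.sum_add_distrib]
    refine Finset.sum_congr rfl fun x _ => ?_
    rw [add_pow_char, add_mul]

include b in
theorem fdeg_fractionRing_mvPolynomial :
    fdeg p (FractionRing (MvPolynomial σ F)) = Fintype.card J * p ^ Fintype.card σ := by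
  haveI : CharP (FractionRing (MvPolynomial σ F)) p :=
    charP_of_injective_algebraMap (IsFractionRing.injective (MvPolynomial σ F)
      (FractionRing (MvPolynomial σ F))) p
  have := fdeg_frac p (MvPolynomial σ F) (FractionRing (MvPolynomial σ F)) (ee p F b)
    (mv_pbasis_repr p F b) (mv_pbasis_indep p F b)
  rw [this, Fintype.card_prod, Fintype.card_fun, Fintype.card_fin]

end MvPoly

end Groth.Agent.Lib.Helper8.FD
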