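import Mathlib
import Groth.Agent.Lib.Helper8.FD3

set_option backward.isDefEq.respectTransparency.types false
set_option autoImplicit false
set_option linter.unusedSectionVars false
set_option linter.style.haveILetI false

universe u v

open FrobAlg

namespace Groth.Agent.Lib.Helper8.FD

variable (p : ℕ) [Fact p.Prime]

/-- `[K : K^p] = p^d [F : F^p]` for a finitely generated extension `K/F` of transcendence
degree `d`, when `[F : F^p]` is finite. -/
theorem fdeg_of_fg (F : Type u) [Field F] [CharP F p] (K : Type u) [Field K] [Algebra F K]
    [CharP K p] (hfg : (⊤ : IntermediateField F K).FG) (d : ℕ) (hd : Algebra.trdeg F K = d)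
    (e : ℕ) (he : 0 < e) (hF : fdeg p F = e) : fdeg p K = e * p ^ d := by
  classical
  haveI : Module.Finite F (Twist p F) := Module.finite_of_finrank_pos (by
    change 0 < fdeg p F
    rw [hF]; exact he)
  let b : Module.Basis (Fin e) F (Twist p F) := Module.finBasisOfFinrankEq F (Twist p F) hF
  obtain ⟨s, hs⟩ := exists_isTranscendenceBasis F K
  have hcard : Cardinal.mk s = d := by rw [hs.cardinalMk_eq_trdeg, hd]
  obtain ⟨hfin, hcard'⟩ := Cardinal.mk_eq_nat_iff_fintype.mp hcard
  let E := IntermediateField.adjoin F (Set.range ((↑) : s → K))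
  haveI : CharP E p := charP_of_injective_algebraMap (algebraMap F E).injective p
  have h1 : fdeg p E = e * p ^ d := by
    rw [← fdeg_congr p (hs.1.aevalEquivField : FractionRing (MvPolynomial s F) ≃ₐ[F] E).toRingEquiv,
      fdeg_fractionRing_mvPolynomial p F b, Fintype.card_fin]
    congr 2
  haveI : Algebra.IsAlgebraic E K := hs.isAlgebraic_field
  obtain ⟨S, hS⟩ := hfg
  have htop : IntermediateField.adjoin E (S : Set K) = ⊤ := by
    rw [eq_top_iff]
    intro y _
    have hy : y ∈ IntermediateField.adjoin F (S : Set K) := by rw [hS]; trivial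
    have hle : IntermediateField.adjoin F (S : Set K) ≤
        (IntermediateField.adjoin E (S : Set K)).restrictScalars F := by
      rw [IntermediateField.adjoin_le_iff]
      intro z hz
      exact IntermediateField.subset_adjoin E _ hz
    exact hle hy
  haveI : FiniteDimensional E (IntermediateField.adjoin E (S : Set K)) :=
    IntermediateField.finiteDimensional_adjoin fun x _ =>
      (Algebra.IsAlgebraic.isAlgebraic x).isIntegral
  haveI : FiniteDimensional E K := by
    have h2 : FiniteDimensional E (⊤ : IntermediateField E K) := htop ▸ this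
    exact Module.Finite.equiv (IntermediateField.topEquiv (F := E) (E := K)).toLinearEquiv
  rw [fdeg_eq_of_finite p E K, h1]

theorem main (k : Type u) [Field k] [Finite k] [CharP k p]
    (K : Type u) [Field K] [Algebra (LaurentSeries k) K] [CharP K p]
    (hfg : (⊤ : IntermediateField (LaurentSeries k) K).FG)
    (d : ℕ) (hd : Algebra.trdeg (LaurentSeries k) K = d) :
    Module.finrank (↥(frobenius K p).fieldRange) K = p ^ (d + 1) := by
  haveI : CharP (LaurentSeries k) p :=
    RingHom.charP (algebraMap (LaurentSeries k) K) (algebraMap (LaurentSeries k) K).injective p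
  haveI : PerfectRing k p := PerfectRing.ofFiniteOfIsReduced p k
  rw [finrank_fieldRange, fdeg_of_fg p (LaurentSeries k) K hfg d hd p (Fact.out : p.Prime).pos
    (fdeg_laurent p k), pow_succ, mul_comm]

end Groth.Agent.Lib.Helper8.FD
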