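import Mathlib
import Groth.Prelude.Def_W4c1famcyclesFFR
import Groth.Agent.Lib.Helper8.BN2

set_option backward.isDefEq.respectTransparency.types false
set_option autoImplicit false
set_option linter.unusedSectionVars false
set_option linter.style.haveILetI false

namespace Groth.Agent.Lib.Helper8.FFR1

open Polynomial Module

universe u v

section charpoly

variable {R : Type*} [CommRing R]

open Module.Basis in
/-- multiplicativity of the characteristic polynomial along an invariant free submodule with
free quotient (same proof as `LinearMap.det_eq_det_mul_det`) -/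
theorem charpoly_eq_restrict_mul_mapQ {V : Type*} [AddCommGroup V] [Module R V]
    [Module.Finite R V] [Module.Free R V]
    (W : Submodule R V) [Module.Free R W] [Module.Finite R W] [Module.Free R (V ⧸ W)]
    (e : V →ₗ[R] V) (he : W ≤ W.comap e) :
    e.charpoly = (e.restrict he).charpoly * (W.mapQ W e he).charpoly := by
  classical
  let m := Module.Free.ChooseBasisIndex R W
  let bW : Basis m R W := Module.Free.chooseBasis R W
  let n := Module.Free.ChooseBasisIndex R (V ⧸ W)
  let bQ : Basis n R (V ⧸ W) := Module.Free.chooseBasis R (V ⧸ W)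
  let b := sumQuot bW bQ
  let A : Matrix m m R := LinearMap.toMatrix bW bW (e.restrict he)
  let B : Matrix m n R := Matrix.of fun i l ↦
    ((sumQuot bW bQ).repr (e ((sumQuot bW bQ) (Sum.inr l)))) (Sum.inl i)
  let D : Matrix n n R := LinearMap.toMatrix bQ bQ (W.mapQ W e he)
  suffices LinearMap.toMatrix b b e = Matrix.fromBlocks A B 0 D by
    rw [← LinearMap.charpoly_toMatrix e b, this, ← LinearMap.charpoly_toMatrix (e.restrict he) bW,
      ← LinearMap.charpoly_toMatrix (W.mapQ W e he) bQ, Matrix.charpoly_fromBlocks_zero₂₁]
  ext u v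
  cases u with
  | inl i =>
    cases v with
    | inl k =>
      simp only [b, sumQuot_inl, Matrix.fromBlocks_apply₁₁, A, LinearMap.toMatrix_apply]
      apply sumQuot_repr_inl_of_mem
    | inr l => simp [b, LinearMap.toMatrix_apply, Matrix.fromBlocks_apply₁₂, B]
  | inr j =>
    cases v with
    | inl k =>
      suffices W.mkQ (e (bW k)) = 0 by simp [LinearMap.toMatrix_apply, b, this]
      rw [← LinearMap.mem_ker, Submodule.ker_mkQ]
      exact he (Submodule.coe_mem (bW k))
    | inr l =>
      simp only [LinearMap.toMatrix_apply, sumQuot_repr_inr,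
        Matrix.fromBlocks_apply₂₂, b, D]
      rw [← sumQuot_inr bW bQ l, W.mapQ_apply]
      simp

/-- multiplicativity of the characteristic polynomial in short exact sequences of finite free
modules with compatible endomorphisms -/
theorem charpoly_of_exact {K F M : Type*} [AddCommGroup K] [Module R K] [AddCommGroup F]
    [Module R F] [AddCommGroup M] [Module R M]
    [Module.Free R K] [Module.Finite R K] [Module.Free R F] [Module.Finite R F]
    [Module.Free R M] [Module.Finite R M]
    (ι : K →ₗ[R] F) (π : F →ₗ[R] M) (hι : Function.Injective ι) (hπ : Function.Surjective π)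
    (hex : Function.Exact ι π) (φK : K →ₗ[R] K) (φF : F →ₗ[R] F) (φM : M →ₗ[R] M)
    (h1 : ∀ x, ι (φK x) = φF (ι x)) (h2 : ∀ x, π (φF x) = φM (π x)) :
    φF.charpoly = φK.charpoly * φM.charpoly := by
  set W : Submodule R F := LinearMap.range ι with hW
  have hker : LinearMap.ker π = W := (LinearMap.exact_iff.mp hex)
  let eK : K ≃ₗ[R] W := LinearEquiv.ofInjective ι hι
  let eM : (F ⧸ W) ≃ₗ[R] M :=
    (Submodule.quotEquivOfEq W (LinearMap.ker π) hker.symm).trans
      (π.quotKerEquivOfSurjective hπ)
  haveI : Module.Free R W := Module.Free.of_equiv eK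
  haveI : Module.Finite R W := Module.Finite.equiv eK
  haveI : Module.Free R (F ⧸ W) := Module.Free.of_equiv eM.symm
  have he : W ≤ W.comap φF := by
    rintro _ ⟨k, rfl⟩
    exact ⟨φK k, h1 k⟩
  rw [charpoly_eq_restrict_mul_mapQ W φF he]
  have e1 : eK.conj φK = φF.restrict he := by
    apply LinearMap.ext
    intro w
    apply Subtype.ext
    obtain ⟨k, hk⟩ : ∃ k, eK k = w := eK.surjective w
    subst hk
    rw [LinearEquiv.conj_apply_apply, LinearEquiv.symm_apply_apply]
    show ι (φK k) = φF (ι k)
    exact h1 k
  have e2 : eM.symm.conj φM = W.mapQ W φF he := by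
    apply LinearMap.ext
    intro q
    obtain ⟨x, rfl⟩ := Submodule.Quotient.mk_surjective W q
    rw [LinearEquiv.conj_apply_apply, LinearEquiv.symm_symm]
    have hx : eM (Submodule.Quotient.mk x) = π x := rfl
    rw [hx, ← h2, LinearEquiv.symm_apply_eq]
    rfl
  rw [← e1, ← e2, LinearEquiv.charpoly_conj, LinearEquiv.charpoly_conj]

end charpoly


section loc

variable {A : Type u} [CommRing A] (S : Submonoid A)
variable {M N P : Type v} [AddCommGroup M] [Module A M] [AddCommGroup N] [Module A N]
  [AddCommGroup P] [Module A P]

theorem map_comp_apply (g : N →ₗ[A] P) (f : M →ₗ[A] N) (x : LocalizedModule S M) :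
    LocalizedModule.map S (g ∘ₗ f) x = LocalizedModule.map S g (LocalizedModule.map S f x) := by
  induction x using LocalizedModule.induction_on with
  | h m s => simp only [LocalizedModule.map_mk, LinearMap.comp_apply]

theorem map_exact' (g : M →ₗ[A] N) (h : N →ₗ[A] P) (ex : Function.Exact g h) :
    Function.Exact (LocalizedModule.map S g) (LocalizedModule.map S h) :=
  LocalizedModule.map_exact S g h ex

theorem charpoly_map_localized [Module.Free A M] [Module.Finite A M] (φ : M →ₗ[A] M)
    [Module.Free (Localization S) (LocalizedModule S M)] :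
    (LocalizedModule.map S φ).charpoly = φ.charpoly.map (algebraMap A (Localization S)) := by
  classical
  let b := Module.Free.chooseBasis A M
  let b' := b.ofIsLocalizedModule (Localization S) S (LocalizedModule.mkLinearMap S M)
  rw [← LinearMap.charpoly_toMatrix _ b', ← LinearMap.charpoly_toMatrix φ b, ← Matrix.charpoly_map]
  congr 1
  ext i j
  rw [LinearMap.toMatrix_apply, Matrix.map_apply, LinearMap.toMatrix_apply,
    Module.Basis.ofIsLocalizedModule_apply, LocalizedModule.mkLinearMap_apply,
    LocalizedModule.map_mk, ← LocalizedModule.mkLinearMap_apply,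
    Module.Basis.ofIsLocalizedModule_repr_apply]

end loc


section series

variable {R : Type*} [CommRing R]

/-- the reverse of a monic polynomial, as a unit power series -/
noncomputable def unitOfMonic (P : R[X]) (hP : P.Monic) : (PowerSeries R)ˣ :=
  IsUnit.unit (a := ((P.reverse : R[X]) : PowerSeries R)) (by
    rw [PowerSeries.isUnit_iff_constantCoeff, Polynomial.constantCoeff_coe,
      Polynomial.coeff_zero_reverse, hP.leadingCoeff]
    exact isUnit_one)

@[simp] theorem unitOfMonic_val (P : R[X]) (hP : P.Monic) :
    ((unitOfMonic P hP : (PowerSeries R)ˣ) : PowerSeries R) = ((P.reverse : R[X]) : PowerSeries R) :=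
  IsUnit.unit_spec _

theorem reverse_map_of_monic {R' : Type*} [CommRing R'] [Nontrivial R'] (g : R →+* R') (P : R[X])
    (hP : P.Monic) : (P.map g).reverse = P.reverse.map g := by
  unfold Polynomial.reverse
  rw [hP.natDegree_map, Polynomial.reflect_map]

theorem reverse_mul_of_monic [Nontrivial R] (P Q : R[X]) (hP : P.Monic) (hQ : Q.Monic) :
    (P * Q).reverse = P.reverse * Q.reverse := by
  apply Polynomial.reverse_mul
  rw [hP.leadingCoeff, hQ.leadingCoeff, one_mul]
  exact one_ne_zero

end series


section main

variable {A : Type u} [CommRing A]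

/-- `(D, r)` computes the ranks and the reverse characteristic polynomials of the localizations
of `φ` at all primes where `M` is free -/
def Good (M : Type u) [AddCommGroup M] [Module A M] [Module.Finite A M] (φ : M →ₗ[A] M)
    (D : (PowerSeries A)ˣ) (r : ℤ) : Prop :=
  ∀ (p : Ideal A) [p.IsPrime]
    [Module.Free (Localization.AtPrime p) (LocalizedModule p.primeCompl M)],
    (Module.finrank (Localization.AtPrime p) (LocalizedModule p.primeCompl M) : ℤ) = r ∧
    PowerSeries.map (algebraMap A (Localization.AtPrime p)) (D : PowerSeries A) =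
      (((LocalizedModule.map p.primeCompl φ).charpoly.reverse : (Localization.AtPrime p)[X]) :
        PowerSeries (Localization.AtPrime p))

theorem good_of_free (M : Type u) [AddCommGroup M] [Module A M] [Module.Finite A M]
    [Module.Free A M] (φ : M →ₗ[A] M) :
    Good M φ (unitOfMonic φ.charpoly φ.charpoly_monic) (Module.finrank A M) := by
  intro p _ _
  constructor
  · rw [Module.finrank_of_isLocalizedModule_of_free (Localization.AtPrime p) p.primeCompl
      (LocalizedModule.mkLinearMap p.primeCompl M)]
  · rw [unitOfMonic_val, charpoly_map_localized, reverse_map_of_monic _ _ φ.charpoly_monic,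
      Polynomial.polynomial_map_coe]

end main


section step

variable {A : Type u} [CommRing A] [IsNoetherianRing A]

/-- a section of a surjection in an exact sequence gives a product decomposition -/
theorem exists_prod_equiv_of_projective {R : Type*} [Semiring R] {K F M : Type*}
    [AddCommGroup K] [Module R K] [AddCommGroup F] [Module R F] [AddCommGroup M] [Module R M]
    [Module.Projective R M]
    (ι : K →ₗ[R] F) (π : F →ₗ[R] M) (hι : Function.Injective ι) (hπ : Function.Surjective π)
    (hex : Function.Exact ι π) :
    ∃ e : F ≃ₗ[R] K × M, ι = e.symm.toLinearMap ∘ₗ LinearMap.inl R K M ∧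
      π = LinearMap.snd R K M ∘ₗ e.toLinearMap := by
  obtain ⟨s, hs⟩ := Module.projective_lifting_property π LinearMap.id hπ
  exact ⟨(hex.splitSurjectiveEquiv hι ⟨s, hs⟩).1, (hex.splitSurjectiveEquiv hι ⟨s, hs⟩).2⟩

theorem projective_of_prod_equiv {R : Type*} [Semiring R] {K F M : Type*}
    [AddCommGroup K] [Module R K] [AddCommGroup F] [Module R F] [AddCommGroup M] [Module R M]
    [Module.Projective R F] (ι : K →ₗ[R] F) (π : F →ₗ[R] M)
    (e : F ≃ₗ[R] K × M) (h1 : ι = e.symm.toLinearMap ∘ₗ LinearMap.inl R K M)
    (h2 : π = LinearMap.snd R K M ∘ₗ e.toLinearMap) :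
    Module.Projective R K ∧ Module.Projective R M := by
  constructor
  · refine Module.Projective.of_split ι (LinearMap.fst R K M ∘ₗ e.toLinearMap) ?_
    rw [h1]
    ext x
    simp
  · refine Module.Projective.of_split (e.symm.toLinearMap ∘ₗ LinearMap.inr R K M) π ?_
    rw [h2]
    ext x
    simp

theorem good_step (M : Type u) [AddCommGroup M] [Module A M] [Module.Finite A M] {k : ℕ}
    (f : (Fin k → A) →ₗ[A] M) (hf : Function.Surjective f) (φ : M →ₗ[A] M)
    (φ0 : (Fin k → A) →ₗ[A] (Fin k → A)) (hφ0 : ∀ x, f (φ0 x) = φ (f x))
    (hker : LinearMap.ker f ≤ (LinearMap.ker f).comap φ0)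
    (DK : (PowerSeries A)ˣ) (rK : ℤ)
    (hK : Good (LinearMap.ker f) (φ0.restrict hker) DK rK) :
    Good M φ (unitOfMonic φ0.charpoly φ0.charpoly_monic * DK⁻¹) ((k : ℤ) - rK) := by
  intro p _ hfree
  let ι := LocalizedModule.map p.primeCompl (LinearMap.ker f).subtype
  let π := LocalizedModule.map p.primeCompl f
  have hι : Function.Injective ι :=
    LocalizedModule.map_injective p.primeCompl _ (Submodule.injective_subtype _)
  have hπ : Function.Surjective π := LocalizedModule.map_surjective p.primeCompl _ hf
  have hex : Function.Exact ι π := by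
    apply map_exact'
    rw [LinearMap.exact_iff]
    exact (Submodule.range_subtype _).symm
  obtain ⟨e, he1, he2⟩ := exists_prod_equiv_of_projective (R := Localization.AtPrime p)
    (K := LocalizedModule p.primeCompl (LinearMap.ker f))
    (F := LocalizedModule p.primeCompl (Fin k → A))
    (M := LocalizedModule p.primeCompl M) ι π hι hπ hex
  haveI : Module.Free (Localization.AtPrime p) (LocalizedModule p.primeCompl (Fin k → A)) :=
    Module.free_of_isLocalizedModule p.primeCompl (LocalizedModule.mkLinearMap p.primeCompl (Fin k → A))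
  haveI : Module.Projective (Localization.AtPrime p) (LocalizedModule p.primeCompl (LinearMap.ker f)) :=
    (projective_of_prod_equiv ι π e he1 he2).1
  haveI : Module.Free (Localization.AtPrime p) (LocalizedModule p.primeCompl (LinearMap.ker f)) :=
    Module.free_of_flat_of_isLocalRing (R := Localization.AtPrime p)
      (P := LocalizedModule p.primeCompl (LinearMap.ker f))
  obtain ⟨hrK, hDK⟩ := hK p
  -- ranks
  have hrF : Module.finrank (Localization.AtPrime p) (LocalizedModule p.primeCompl (Fin k → A)) = k := by
    rw [Module.finrank_of_isLocalizedModule_of_free (Localization.AtPrime p) p.primeCompl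
      (LocalizedModule.mkLinearMap p.primeCompl (Fin k → A))]
    haveI : Nontrivial A := ⟨⟨0, 1, fun h => ‹p.IsPrime›.ne_top (by
      rw [Ideal.eq_top_iff_one, ← h]; exact zero_mem _)⟩⟩
    exact Module.finrank_fin_fun A
  have hrank : Module.finrank (Localization.AtPrime p) (LocalizedModule p.primeCompl (Fin k → A)) =
      Module.finrank (Localization.AtPrime p) (LocalizedModule p.primeCompl (LinearMap.ker f)) +
        Module.finrank (Localization.AtPrime p) (LocalizedModule p.primeCompl M) := by
    rw [LinearEquiv.finrank_eq e, Module.finrank_prod]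
  -- characteristic polynomials
  have hcp := charpoly_of_exact (R := Localization.AtPrime p)
    (K := LocalizedModule p.primeCompl (LinearMap.ker f))
    (F := LocalizedModule p.primeCompl (Fin k → A))
    (M := LocalizedModule p.primeCompl M) ι π hι hπ hex
    (LocalizedModule.map p.primeCompl (φ0.restrict hker)) (LocalizedModule.map p.primeCompl φ0)
    (LocalizedModule.map p.primeCompl φ)
    (fun x => by
      show LocalizedModule.map p.primeCompl (LinearMap.ker f).subtype
        (LocalizedModule.map p.primeCompl (φ0.restrict hker) x) =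
          LocalizedModule.map p.primeCompl φ0 (LocalizedModule.map p.primeCompl (LinearMap.ker f).subtype x)
      rw [← map_comp_apply, ← map_comp_apply]
      rfl)
    (fun x => by
      show LocalizedModule.map p.primeCompl f (LocalizedModule.map p.primeCompl φ0 x) =
          LocalizedModule.map p.primeCompl φ (LocalizedModule.map p.primeCompl f x)
      rw [← map_comp_apply, ← map_comp_apply]
      congr 2
      exact LinearMap.ext hφ0)
  constructor
  · rw [hrF] at hrank
    rw [← hrK]
    have hrank' : (k : ℤ) = (Module.finrank (Localization.AtPrime p)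
        (LocalizedModule p.primeCompl (LinearMap.ker f)) : ℤ) +
        (Module.finrank (Localization.AtPrime p) (LocalizedModule p.primeCompl M) : ℤ) := by
      exact_mod_cast hrank
    linarith
  · have hF := (good_of_free (Fin k → A) φ0 p).2
    rw [unitOfMonic_val] at hF
    rw [Units.val_mul, map_mul, unitOfMonic_val, hF, hcp,
      reverse_mul_of_monic _ _ (LinearMap.charpoly_monic _) (LinearMap.charpoly_monic _),
      Polynomial.coe_mul, ← hDK, mul_comm (PowerSeries.map _ (DK : PowerSeries A)), mul_assoc,
      ← map_mul, Units.mul_inv, map_one, mul_one]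

end step


section exist

variable {A : Type u} [CommRing A] [IsNoetherianRing A]

theorem ffr_zero_iff (M : Type u) [AddCommGroup M] [Module A M] :
    FamCyc.HasFiniteFreeResolutionLE A 0 M ↔ Module.Free A M ∧ Module.Finite A M := by
  rw [FamCyc.HasFiniteFreeResolutionLE]

theorem ffr_succ_iff (n : ℕ) (M : Type u) [AddCommGroup M] [Module A M] :
    FamCyc.HasFiniteFreeResolutionLE A (n + 1) M ↔
      ∃ (k : ℕ) (f : (Fin k → A) →ₗ[A] M), Function.Surjective f ∧
        FamCyc.HasFiniteFreeResolutionLE A n (LinearMap.ker f) := by
  rw [FamCyc.HasFiniteFreeResolutionLE]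

theorem finite_of_ffr (n : ℕ) (M : Type u) [AddCommGroup M] [Module A M]
    (h : FamCyc.HasFiniteFreeResolutionLE A n M) : Module.Finite A M := by
  cases n with
  | zero => exact ((ffr_zero_iff M).mp h).2
  | succ n =>
    obtain ⟨k, f, hf, -⟩ := (ffr_succ_iff n M).mp h
    exact Module.Finite.of_surjective f hf

theorem exists_good (n : ℕ) : ∀ (M : Type u) [AddCommGroup M] [Module A M] [Module.Finite A M],
    FamCyc.HasFiniteFreeResolutionLE A n M → ∀ φ : M →ₗ[A] M,
      ∃ (D : (PowerSeries A)ˣ) (r : ℤ), Good M φ D r := by
  induction n with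
  | zero =>
    intro M _ _ _ h φ
    haveI := ((ffr_zero_iff M).mp h).1
    exact ⟨_, _, good_of_free M φ⟩
  | succ n ih =>
    intro M _ _ _ h φ
    obtain ⟨k, f, hf, hK⟩ := (ffr_succ_iff n M).mp h
    obtain ⟨φ0, hφ0⟩ := Module.projective_lifting_property f (φ ∘ₗ f) hf
    have hφ0' : ∀ x, f (φ0 x) = φ (f x) := fun x => LinearMap.congr_fun hφ0 x
    have hker : LinearMap.ker f ≤ (LinearMap.ker f).comap φ0 := by
      intro x hx
      rw [Submodule.mem_comap, LinearMap.mem_ker, hφ0', LinearMap.mem_ker.mp hx, map_zero]
    obtain ⟨DK, rK, hG⟩ := ih (LinearMap.ker f) hK (φ0.restrict hker)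
    exact ⟨_, _, good_step M f hf φ φ0 hφ0' hker DK rK hG⟩

end exist


section extract

variable {A : Type u} [CommRing A] [IsNoetherianRing A]

theorem det_of_good (M : Type u) [AddCommGroup M] [Module A M] [Module.Finite A M]
    (φ : M →ₗ[A] M) (D : (PowerSeries A)ˣ) (r : ℤ) (hG : Good M φ D r)
    (p : Ideal A) [p.IsPrime]
    (hfree : Module.Free (Localization.AtPrime p) (LocalizedModule p.primeCompl M)) :
    algebraMap A (Localization.AtPrime p)
      ((-1) ^ r.toNat * PowerSeries.coeff r.toNat (D : PowerSeries A)) =
      LinearMap.det (LocalizedModule.map p.primeCompl φ) := by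
  obtain ⟨hr, hD⟩ := hG p
  set d := Module.finrank (Localization.AtPrime p) (LocalizedModule p.primeCompl M) with hd
  have hrd : r.toNat = d := by rw [← hr]; exact Int.toNat_natCast d
  rw [hrd, map_mul, map_pow, map_neg, map_one, LinearMap.det_eq_sign_charpoly_coeff, ← hd]
  congr 1
  have h1 : algebraMap A (Localization.AtPrime p) (PowerSeries.coeff d (D : PowerSeries A)) =
      PowerSeries.coeff d (PowerSeries.map (algebraMap A (Localization.AtPrime p))
        (D : PowerSeries A)) := by
    rw [PowerSeries.coeff_map]
  rw [h1, hD, Polynomial.coeff_coe, Polynomial.coeff_reverse, LinearMap.charpoly_natDegree,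
    ← hd, Polynomial.revAt_le le_rfl, Nat.sub_self]

end extract

section unique

variable {A : Type u} [CommRing A] [IsNoetherianRing A]

theorem eq_zero_of_forall_ass (a : A)
    (h : ∀ (p : Ideal A) [p.IsPrime], p ∈ associatedPrimes A A →
      algebraMap A (Localization.AtPrime p) a = 0) : a = 0 := by
  by_contra ha
  obtain ⟨P, hP, hle⟩ := exists_le_isAssociatedPrime_of_isNoetherianRing A a ha
  haveI := hP.isPrime
  have h0 := h P hP
  rw [IsLocalization.map_eq_zero_iff P.primeCompl] at h0
  obtain ⟨s, hs⟩ := h0
  apply s.2
  apply hle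
  rw [Submodule.mem_colon_singleton, Submodule.mem_bot, smul_eq_mul]
  exact hs

theorem depth_zero_of_ass (p : Ideal A) [p.IsPrime] (hp : p ∈ associatedPrimes A A) :
    ∃ z : Localization.AtPrime p, z ≠ 0 ∧
      ∀ a ∈ IsLocalRing.maximalIdeal (Localization.AtPrime p), a * z = 0 := by
  obtain ⟨-, x, hx⟩ := (isAssociatedPrime_iff).mp hp
  refine ⟨algebraMap A _ x, ?_, ?_⟩
  · intro h0
    rw [IsLocalization.map_eq_zero_iff p.primeCompl] at h0
    obtain ⟨s, hs⟩ := h0
    apply s.2
    show (s : A) ∈ p
    apply hx.ge
    rw [Submodule.mem_colon_singleton, Submodule.mem_bot, smul_eq_mul]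
    exact hs
  · intro a ha
    obtain ⟨y, s, rfl⟩ := IsLocalization.exists_mk'_eq p.primeCompl a
    rw [IsLocalization.AtPrime.mk'_mem_maximal_iff (Localization.AtPrime p) p] at ha
    have ha := hx.le ha
    rw [Submodule.mem_colon_singleton, Submodule.mem_bot, smul_eq_mul] at ha
    rw [← IsLocalization.mk'_one (M := p.primeCompl) (Localization.AtPrime p) x,
      ← IsLocalization.mk'_mul, ha, IsLocalization.mk'_zero]

theorem free_of_depth_zero (p : Ideal A) [p.IsPrime]
    (hz : ∃ z : Localization.AtPrime p, z ≠ 0 ∧
      ∀ a ∈ IsLocalRing.maximalIdeal (Localization.AtPrime p), a * z = 0) (n : ℕ) :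
    ∀ (M : Type u) [AddCommGroup M] [Module A M] [Module.Finite A M],
      FamCyc.HasFiniteFreeResolutionLE A n M →
      Module.Free (Localization.AtPrime p) (LocalizedModule p.primeCompl M) := by
  induction n with
  | zero =>
    intro M _ _ _ h
    haveI := ((ffr_zero_iff M).mp h).1
    exact Module.free_of_isLocalizedModule p.primeCompl
      (LocalizedModule.mkLinearMap p.primeCompl M)
  | succ n ih =>
    intro M _ _ _ h
    obtain ⟨k, f, hf, hK⟩ := (ffr_succ_iff n M).mp h
    haveI : Module.Free (Localization.AtPrime p)
        (LocalizedModule p.primeCompl (LinearMap.ker f)) := ih (LinearMap.ker f) hK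
    haveI : Module.Free (Localization.AtPrime p) (LocalizedModule p.primeCompl (Fin k → A)) :=
      Module.free_of_isLocalizedModule p.primeCompl
        (LocalizedModule.mkLinearMap p.primeCompl (Fin k → A))
    let ι := LocalizedModule.map p.primeCompl (LinearMap.ker f).subtype
    let π := LocalizedModule.map p.primeCompl f
    have hι : Function.Injective ι :=
      LocalizedModule.map_injective p.primeCompl _ (Submodule.injective_subtype _)
    have hπ : Function.Surjective π := LocalizedModule.map_surjective p.primeCompl _ hf
    have hex : Function.Exact ι π := by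
      apply map_exact'
      rw [LinearMap.exact_iff]
      exact (Submodule.range_subtype _).symm
    let eK := (Module.finBasis (Localization.AtPrime p)
      (LocalizedModule p.primeCompl (LinearMap.ker f))).equivFun
    let eF := (Module.finBasis (Localization.AtPrime p)
      (LocalizedModule p.primeCompl (Fin k → A))).equivFun
    let g := eF.toLinearMap ∘ₗ ι ∘ₗ eK.symm.toLinearMap
    have hg : Function.Injective g := by
      intro x y hxy
      have := eF.injective hxy
      exact eK.symm.injective (hι this)
    obtain ⟨β, hβ⟩ := Groth.Agent.Lib.Helper8.BN2.exists_left_inverse hz g hg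
    let ρ := eK.symm.toLinearMap ∘ₗ β ∘ₗ eF.toLinearMap
    have hρ : ρ ∘ₗ ι = LinearMap.id := by
      apply LinearMap.ext
      intro y
      show eK.symm (β (eF (ι y))) = y
      have : eF (ι y) = g (eK y) := by
        show eF (ι y) = eF (ι (eK.symm (eK y)))
        rw [LinearEquiv.symm_apply_apply]
      rw [this, hβ, LinearEquiv.symm_apply_apply]
    obtain ⟨e, he1, he2⟩ := (Function.Exact.splitInjectiveEquiv (R := Localization.AtPrime p)
        (M := LocalizedModule p.primeCompl (LinearMap.ker f))
        (N := LocalizedModule p.primeCompl (Fin k → A))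
        (P := LocalizedModule p.primeCompl M) (f := ι) (g := π) hex hπ ⟨ρ, hρ⟩)
    haveI : Module.Projective (Localization.AtPrime p) (LocalizedModule p.primeCompl M) :=
      (projective_of_prod_equiv (R := Localization.AtPrime p)
        (K := LocalizedModule p.primeCompl (LinearMap.ker f))
        (F := LocalizedModule p.primeCompl (Fin k → A))
        (M := LocalizedModule p.primeCompl M) ι π e he1 he2).2
    exact Module.free_of_flat_of_isLocalRing (R := Localization.AtPrime p)
      (P := LocalizedModule p.primeCompl M)

end unique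

section final

theorem main14073 (A : Type u) [CommRing A] [IsNoetherianRing A]
    (M : Type u) [AddCommGroup M] [Module A M] (n : ℕ)
    (hM : FamCyc.HasFiniteFreeResolutionLE A n M) (φ : M →ₗ[A] M) :
    ∃! a : A, ∀ (p : Ideal A) [p.IsPrime],
      Module.Free (Localization.AtPrime p) (LocalizedModule p.primeCompl M) →
        algebraMap A (Localization.AtPrime p) a =
          LinearMap.det (LocalizedModule.map p.primeCompl φ) := by
  haveI := finite_of_ffr n M hM
  obtain ⟨D, r, hG⟩ := exists_good n M hM φ
  refine ⟨(-1) ^ r.toNat * PowerSeries.coeff r.toNat (D : PowerSeries A), ?_, ?_⟩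
  · intro p _ hfree
    exact det_of_good M φ D r hG p hfree
  · intro a' ha'
    rw [← sub_eq_zero]
    apply eq_zero_of_forall_ass
    intro p _ hp
    have hfree := free_of_depth_zero p (depth_zero_of_ass p hp) n M hM
    rw [map_sub, ha' p hfree, det_of_good M φ D r hG p hfree, sub_self]

end final

end Groth.Agent.Lib.Helper8.FFR1
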