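import Mathlib
import Groth.Prelude.Def_FrobAlg

set_option backward.isDefEq.respectTransparency.types false
set_option autoImplicit false
set_option linter.unusedSectionVars false
set_option linter.style.haveILetI false

universe u

open TensorProduct

namespace Groth.Agent.Lib.Helper8.FS

/-- Restriction of scalars preserves projectivity along a projective algebra. -/
theorem projective_of_tower (R S M : Type*) [CommRing R] [CommRing S] [Algebra R S]
    [AddCommGroup M] [Module R M] [Module S M] [IsScalarTower R S M]
    [Module.Projective R S] [Module.Projective S M] : Module.Projective R M := by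
  classical
  obtain ⟨s, hs⟩ := (Module.projective_def' (R := S) (P := M)).mp inferInstance
  haveI : Module.Projective R (M →₀ S) :=
    Module.Projective.of_equiv' (finsuppLequivDFinsupp (ι := M) (M := S) R).symm
  refine Module.Projective.of_split (s.restrictScalars R)
    ((Finsupp.linearCombination S id).restrictScalars R) ?_
  ext x
  exact LinearMap.congr_fun hs x

variable (p : ℕ) [Fact p.Prime] (R : Type u) [CommRing R] [CharP R p]

section Split

variable [Module.Projective R (FrobAlg.Twist p R)]

/-- Frobenius-projective implies Frobenius-split. -/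
theorem exists_split : ∃ φ : R →+ R, (∀ a b : R, φ (a ^ p * b) = a * φ b) ∧ φ 1 = 1 := by
  classical
  obtain ⟨s, hs⟩ := (Module.projective_def' (R := R) (P := FrobAlg.Twist p R)).mp inferInstance
  set c : FrobAlg.Twist p R →₀ R := s 1 with hc
  have h1 : (1 : FrobAlg.Twist p R) = c.sum (fun x a => a • x) := by
    have := LinearMap.congr_fun hs 1
    rw [LinearMap.comp_apply, LinearMap.id_apply, Finsupp.linearCombination_apply] at this
    exact this.symm
  let φl : FrobAlg.Twist p R →ₗ[R] R :=
    ∑ x ∈ c.support, ((c x) ^ (p - 1) * (FrobAlg.toTwist p R).symm x) •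
      ((Finsupp.lapply x).comp s)
  have hφ1 : φl 1 = 1 := by
    have h2 : φl 1 = ∑ x ∈ c.support, (c x) ^ p * (FrobAlg.toTwist p R).symm x := by
      simp only [φl, LinearMap.sum_apply, LinearMap.smul_apply, LinearMap.comp_apply,
        Finsupp.lapply_apply, smul_eq_mul]
      refine Finset.sum_congr rfl fun x _ => ?_
      rw [← hc]
      have hp : c x ^ p = c x ^ (p - 1) * c x := by
        rw [← pow_succ, Nat.sub_add_cancel (Fact.out : p.Prime).pos]
      rw [hp]
      ring
    rw [h2]
    apply (FrobAlg.toTwist p R).injective
    rw [map_one, h1, Finsupp.sum, map_sum]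
    refine Finset.sum_congr rfl fun x _ => ?_
    rw [map_mul, RingEquiv.apply_symm_apply, Algebra.smul_def, FrobAlg.algebraMap_twist]
  refine ⟨(φl : FrobAlg.Twist p R →+ R).comp
    ((FrobAlg.toTwist p R : R →+* FrobAlg.Twist p R) : R →+ FrobAlg.Twist p R), ?_, ?_⟩
  · intro a b
    have : (FrobAlg.toTwist p R) (a ^ p * b) = a • (FrobAlg.toTwist p R b) := by
      rw [Algebra.smul_def, FrobAlg.algebraMap_twist, map_mul]
    simp only [AddMonoidHom.comp_apply, AddMonoidHom.coe_coe, RingHom.coe_coe]
    erw [this]
    rw [map_smul, smul_eq_mul]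
  · simp only [AddMonoidHom.comp_apply, AddMonoidHom.coe_coe, map_one]
    exact hφ1

end Split

/-- iterate of a Frobenius splitting. -/
theorem iterate_split (φ : R →+ R) (hφ : ∀ a b : R, φ (a ^ p * b) = a * φ b) (m : ℕ) (a b : R) :
    φ^[m] (a ^ p ^ m * b) = a * φ^[m] b := by
  induction m generalizing b with
  | zero => simp
  | succ m ih =>
    rw [Function.iterate_succ_apply, Function.iterate_succ_apply, pow_succ, pow_mul, hφ, ih]

theorem iterate_split_one (φ : R →+ R) (hφ1 : φ 1 = 1) (m : ℕ) : φ^[m] 1 = 1 := by
  induction m with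
  | zero => rfl
  | succ m ih => rw [Function.iterate_succ_apply, hφ1, ih]

theorem iterate_split_pow (φ : R →+ R) (hφ : ∀ a b : R, φ (a ^ p * b) = a * φ b) (hφ1 : φ 1 = 1)
    (m : ℕ) (a : R) : φ^[m] (a ^ p ^ m) = a := by
  have := iterate_split p R φ hφ m a 1
  rwa [mul_one, iterate_split_one R φ hφ1, mul_one] at this

theorem iterate_add_hom (φ : R →+ R) (m : ℕ) (a b : R) : φ^[m] (a + b) = φ^[m] a + φ^[m] b := by
  induction m generalizing a b with
  | zero => rfl
  | succ m ih => rw [Function.iterate_succ_apply, Function.iterate_succ_apply,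
      Function.iterate_succ_apply, map_add, ih]

/-- `R` as an `R`-algebra through the `n`-th iterate of Frobenius. -/
@[nolint unusedArguments]
def FN (_p : ℕ) (R : Type u) (_n : ℕ) : Type u := R

variable (n : ℕ)

instance : CommRing (FN p R n) := inferInstanceAs (CommRing R)

/-- the identity `R ≃ FN p R n`. -/
def toFN : R ≃+* FN p R n := RingEquiv.refl R

noncomputable instance : Algebra R (FN p R n) :=
  ((toFN p R n : R →+* FN p R n).comp (iterateFrobenius R p n)).toAlgebra

theorem algebraMap_FN (r : R) : algebraMap R (FN p R n) r = toFN p R n (r ^ p ^ n) := rfl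

theorem smul_FN (r : R) (x : FN p R n) : r • x = toFN p R n (r ^ p ^ n) * x := by
  rw [Algebra.smul_def, algebraMap_FN]

/-- the algebra structure of `FN (n+1)` over `FN n` through Frobenius. -/
@[instance_reducible]
noncomputable def algStep : Algebra (FN p R n) (FN p R (n + 1)) :=
  ((toFN p R (n + 1) : R →+* FN p R (n + 1)).comp
    ((frobenius R p).comp ((toFN p R n).symm : FN p R n →+* R))).toAlgebra

theorem projective_FN [Module.Projective R (FrobAlg.Twist p R)] :
    Module.Projective R (FN p R n) := by
  induction n with
  | zero =>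
    refine Module.Projective.of_equiv' (M := R)
      { (toFN p R 0).toAddEquiv with
        map_smul' := ?_ }
    intro r x
    change toFN p R 0 (r * x) = r • toFN p R 0 x
    rw [smul_FN, pow_zero, pow_one, map_mul]
  | succ n ih =>
    letI := algStep p R n
    haveI : IsScalarTower R (FN p R n) (FN p R (n + 1)) := by
      refine IsScalarTower.of_algebraMap_eq fun r => ?_
      change toFN p R (n + 1) (r ^ p ^ (n + 1)) =
        toFN p R (n + 1) (((toFN p R n).symm (toFN p R n (r ^ p ^ n))) ^ p)
      rw [RingEquiv.symm_apply_apply, pow_succ, pow_mul]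
    haveI : Module.Projective (FN p R n) (FN p R (n + 1)) := by
      letI σ : R →+* FN p R n := (toFN p R n : R →+* FN p R n)
      letI σ' : FN p R n →+* R := ((toFN p R n).symm : FN p R n →+* R)
      haveI : RingHomInvPair σ σ' := RingHomInvPair.of_ringEquiv (toFN p R n)
      haveI : RingHomInvPair σ' σ := RingHomInvPair.of_ringEquiv (toFN p R n).symm
      let e : FrobAlg.Twist p R ≃ₛₗ[σ] FN p R (n + 1) :=
        { ((FrobAlg.toTwist p R).symm.trans (toFN p R (n + 1))).toAddEquiv with
          map_smul' := ?_ }
      · exact Module.Projective.of_equiv e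
      · intro r x
        change toFN p R (n + 1) ((FrobAlg.toTwist p R).symm (r • x)) =
          toFN p R (n + 1) (((toFN p R n).symm (toFN p R n r)) ^ p) *
            toFN p R (n + 1) ((FrobAlg.toTwist p R).symm x)
        rw [Algebra.smul_def, FrobAlg.algebraMap_twist, map_mul, RingEquiv.symm_apply_apply,
          RingEquiv.symm_apply_apply, map_mul]
    exact projective_of_tower R (FN p R n) (FN p R (n + 1))

end Groth.Agent.Lib.Helper8.FS
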