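import Mathlib
import Groth.Agent.Lib.Helper8.FS1
import Groth.Agent.Lib.Helper12.PiTensor

set_option backward.isDefEq.respectTransparency.types false
set_option autoImplicit false
set_option linter.unusedSectionVars false
set_option linter.style.haveILetI false

universe u

open TensorProduct

namespace Groth.Agent.Lib.Helper8.FS

variable (p : ℕ) [Fact p.Prime] (R : Type u) [CommRing R] [CharP R p]

/-- the algebra structure of the perfect closure. -/
@[instance_reducible]
noncomputable def algPC : Algebra R (PerfectClosure R p) := (PerfectClosure.of R p).toAlgebra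

attribute [local instance] algPC

/-- `x ↦ x^(1/p^n)` as a ring hom `R → R^perf`. -/
noncomputable def iotaRing (n : ℕ) : R →+* PerfectClosure R p :=
  ((iterateFrobeniusEquiv (PerfectClosure R p) p n).symm : _ →+* _).comp (PerfectClosure.of R p)

theorem iotaRing_apply (n : ℕ) (x : R) : iotaRing p R n x = PerfectClosure.mk R p (n, x) := by
  rw [iotaRing, RingHom.comp_apply, RingHom.coe_coe, RingEquiv.symm_apply_eq,
    coe_iterateFrobeniusEquiv, coe_iterateFrobenius, PerfectClosure.iterate_frobenius_mk]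

theorem iotaRing_pow (n : ℕ) (r : R) : iotaRing p R n (r ^ p ^ n) = PerfectClosure.of R p r := by
  rw [iotaRing, RingHom.comp_apply, map_pow,
    ← iterateFrobeniusEquiv_def (PerfectClosure R p) p n, RingHom.coe_coe,
    RingEquiv.symm_apply_apply]

/-- `ι_n : F^n_* R → R^perf`. -/
noncomputable def iota (n : ℕ) : FN p R n →ₗ[R] PerfectClosure R p where
  toFun x := iotaRing p R n ((toFN p R n).symm x)
  map_add' x y := by rw [map_add, map_add]
  map_smul' r x := by
    rw [smul_FN, map_mul, RingEquiv.symm_apply_apply, map_mul, RingHom.id_apply,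
      Algebra.smul_def, iotaRing_pow]
    rfl

theorem iota_apply (n : ℕ) (x : FN p R n) :
    iota p R n x = PerfectClosure.mk R p (n, (toFN p R n).symm x) :=
  iotaRing_apply p R n _

section rho

variable (φ : R →+ R) (hφ : ∀ a b : R, φ (a ^ p * b) = a * φ b) (hφ1 : φ 1 = 1) (n : ℕ)

include hφ hφ1 in
theorem rho_wd (x y : ℕ × R) (h : PerfectClosure.R R p x y) :
    toFN p R n (φ^[x.1] (x.2 ^ p ^ n)) = toFN p R n (φ^[y.1] (y.2 ^ p ^ n)) := by
  obtain ⟨m, s⟩ := h
  change toFN p R n (φ^[m] (s ^ p ^ n)) = toFN p R n (φ^[m + 1] ((frobenius R p s) ^ p ^ n))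
  rw [Function.iterate_succ_apply, frobenius_def, ← pow_mul, mul_comm, pow_mul,
    ← mul_one ((s ^ p ^ n) ^ p), hφ, hφ1, mul_one]

/-- the retraction `ρ_n : R^perf → F^n_* R` attached to a Frobenius splitting. -/
noncomputable def rho : PerfectClosure R p →ₗ[R] FN p R n where
  toFun e := e.liftOn (fun x : ℕ × R => toFN p R n (φ^[x.1] (x.2 ^ p ^ n)))
    (rho_wd p R φ hφ hφ1 n)
  map_add' e₁ e₂ := by
    induction e₁ using PerfectClosure.induction_on with
    | h x =>
    induction e₂ using PerfectClosure.induction_on with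
    | h y =>
    obtain ⟨m, x⟩ := x
    obtain ⟨m', y⟩ := y
    rw [PerfectClosure.mk_add_mk, PerfectClosure.liftOn_mk, PerfectClosure.liftOn_mk,
      PerfectClosure.liftOn_mk, ← map_add]
    congr 1
    simp only
    rw [iterate_frobenius, iterate_frobenius, add_pow_char_pow, iterate_add_hom]
    congr 1
    · rw [← pow_mul, mul_comm, pow_mul, Function.iterate_add_apply,
        iterate_split_pow p R φ hφ hφ1]
    · rw [← pow_mul, mul_comm, pow_mul, add_comm m m', Function.iterate_add_apply,
        iterate_split_pow p R φ hφ hφ1]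
  map_smul' r e := by
    induction e using PerfectClosure.induction_on with
    | h x =>
    obtain ⟨m, s⟩ := x
    rw [RingHom.id_apply, Algebra.smul_def]
    change (PerfectClosure.of R p r * PerfectClosure.mk R p (m, s)).liftOn _ _ = _
    rw [PerfectClosure.of_apply, PerfectClosure.mk_mul_mk, PerfectClosure.liftOn_mk,
      PerfectClosure.liftOn_mk, smul_FN, ← map_mul]
    congr 1
    simp only
    rw [iterate_frobenius, Function.iterate_zero, id, mul_pow, ← pow_mul, mul_comm (p ^ m),
      pow_mul, zero_add, iterate_split p R φ hφ]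

theorem rho_mk (m : ℕ) (s : R) :
    rho p R φ hφ hφ1 n (PerfectClosure.mk R p (m, s)) = toFN p R n (φ^[m] (s ^ p ^ n)) := rfl

theorem rho_iota (x : FN p R n) : rho p R φ hφ hφ1 n (iota p R n x) = x := by
  rw [iota_apply, rho_mk, iterate_split_pow p R φ hφ hφ1, RingEquiv.apply_symm_apply]

theorem rho_comp_iota : (rho p R φ hφ hφ1 n).comp (iota p R n) = LinearMap.id :=
  LinearMap.ext (rho_iota p R φ hφ hφ1 n)

end rho

/-- the transition map `F^n_* R → F^(n+k)_* R`, `x ↦ x^(p^k)`. -/
noncomputable def tau (n k : ℕ) : FN p R n →ₗ[R] FN p R (n + k) where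
  toFun x := toFN p R (n + k) (((toFN p R n).symm x) ^ p ^ k)
  map_add' x y := by rw [map_add, add_pow_char_pow, map_add]
  map_smul' r x := by
    rw [smul_FN, smul_FN, RingHom.id_apply, map_mul, RingEquiv.symm_apply_apply, mul_pow,
      map_mul, ← pow_mul, ← pow_add]

theorem mk_add_pow (n k : ℕ) (x : R) :
    PerfectClosure.mk R p (n + k, x ^ p ^ k) = PerfectClosure.mk R p (n, x) := by
  induction k with
  | zero => simp
  | succ k ih => rw [← add_assoc, pow_succ, pow_mul, PerfectClosure.mk_succ_pow, ih]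

theorem iota_tau (n k : ℕ) (x : FN p R n) : iota p R (n + k) (tau p R n k x) = iota p R n x := by
  rw [iota_apply, iota_apply]
  change PerfectClosure.mk R p (n + k, (toFN p R (n + k)).symm
    (toFN p R (n + k) (((toFN p R n).symm x) ^ p ^ k))) = _
  rw [RingEquiv.symm_apply_apply, mk_add_pow]

theorem iota_comp_tau (n k : ℕ) : (iota p R (n + k)).comp (tau p R n k) = iota p R n :=
  LinearMap.ext (iota_tau p R n k)

variable {N : Type*} [AddCommGroup N] [Module R N]

theorem lift_le (n m : ℕ) (h : n ≤ m) (z' : FN p R n ⊗[R] N) :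
    ∃ z'' : FN p R m ⊗[R] N,
      LinearMap.rTensor N (iota p R m) z'' = LinearMap.rTensor N (iota p R n) z' := by
  obtain ⟨k, rfl⟩ := Nat.exists_eq_add_of_le h
  refine ⟨LinearMap.rTensor N (tau p R n k) z', ?_⟩
  rw [← LinearMap.comp_apply, ← LinearMap.rTensor_comp, iota_comp_tau]

theorem exists_level (z : PerfectClosure R p ⊗[R] N) :
    ∃ n, ∃ z' : FN p R n ⊗[R] N, LinearMap.rTensor N (iota p R n) z' = z := by
  induction z using TensorProduct.induction_on with
  | zero => exact ⟨0, 0, map_zero _⟩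
  | tmul e x =>
    induction e using PerfectClosure.induction_on with
    | h y =>
    obtain ⟨m, s⟩ := y
    refine ⟨m, (toFN p R m s) ⊗ₜ[R] x, ?_⟩
    rw [LinearMap.rTensor_tmul, iota_apply, RingEquiv.symm_apply_apply]
  | add z₁ z₂ h₁ h₂ =>
    obtain ⟨n₁, z₁', rfl⟩ := h₁
    obtain ⟨n₂, z₂', rfl⟩ := h₂
    obtain ⟨w₁, hw₁⟩ := lift_le p R n₁ (n₁ + n₂) (Nat.le_add_right _ _) z₁'
    obtain ⟨w₂, hw₂⟩ := lift_le p R n₂ (n₁ + n₂) (Nat.le_add_left _ _) z₂'
    exact ⟨n₁ + n₂, w₁ + w₂, by rw [map_add, hw₁, hw₂]⟩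

theorem main [Module.Projective R (FrobAlg.Twist p R)] {ι : Type*} (T : ι → Type*)
    [∀ i, AddCommGroup (T i)] [∀ i, Module R (T i)] (ev : ∀ i, N →ₗ[R] T i)
    (hev : ∀ x : N, (∀ i, ev i x = 0) → x = 0) :
    Function.Injective (H12PiTensor.cmp T ev (PerfectClosure R p)) := by
  obtain ⟨φ, hφ, hφ1⟩ := exists_split p R
  rw [injective_iff_map_eq_zero]
  intro z hz
  obtain ⟨n, z', rfl⟩ := exists_level p R z
  haveI := projective_FN p R n
  have h0 : H12PiTensor.cmp T ev (FN p R n) z' = 0 := by
    funext i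
    have hc : LinearMap.rTensor N (rho p R φ hφ hφ1 n) (LinearMap.rTensor N (iota p R n) z') = z' := by
      rw [← LinearMap.comp_apply, ← LinearMap.rTensor_comp, rho_comp_iota,
        LinearMap.rTensor_id, LinearMap.id_apply]
    have h1 := H12PiTensor.cmp_rTensor T ev (rho p R φ hφ hφ1 n)
      (LinearMap.rTensor N (iota p R n) z') i
    rw [hz, hc] at h1
    rw [h1]
    simp
  have h2 := H12PiTensor.cmp_injective T ev hev (FN p R n) (h0.trans (map_zero _).symm)
  rw [h2, map_zero]

end Groth.Agent.Lib.Helper8.FS
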