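import Mathlib
import Groth.Agent.Lib.Helper10.IdComp6

set_option backward.isDefEq.respectTransparency.types false
set_option autoImplicit false
set_option linter.unusedSectionVars false
set_option linter.style.haveILetI false

universe u

open CategoryTheory CategoryTheory.Limits AlgebraicGeometry MonoidalCategory
  CartesianMonoidalCategory MonObj GrpObj

namespace Groth.Agent.Lib.Helper8.GAff

open Groth.Agent.Lib.Helper10.IdComp

section Top

/-- In a locally Noetherian scheme an irreducible component all of whose points lie on a unique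
irreducible component is open. -/
theorem isOpen_component {X : Scheme.{u}} [IsLocallyNoetherian X] (C : Set X)
    (hC : C ∈ irreducibleComponents X) (h : ∀ x ∈ C, UniqueComp x) : IsOpen C := by
  rw [isOpen_iff_mem_nhds]
  intro x hx
  obtain ⟨W, hW, hxW, -⟩ := exists_isAffineOpen_mem_and_subset (X := X) (x := x) (U := ⊤) trivial
  haveI : IsNoetherianRing Γ(X, W) := IsLocallyNoetherian.component_noetherian ⟨W, hW⟩
  haveI : TopologicalSpace.NoetherianSpace ↥W := noetherianSpace_of_isAffineOpen W hW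
  have hfin : (irreducibleComponents ↥W).Finite :=
    TopologicalSpace.NoetherianSpace.finite_irreducibleComponents
  let xW : ↥W := ⟨x, hxW⟩
  let bad : Set (Set ↥W) := {T | T ∈ irreducibleComponents ↥W ∧ xW ∉ T}
  have hbadfin : bad.Finite := hfin.subset (fun T hT => hT.1)
  have hclosed : IsClosed (⋃ T ∈ bad, T) :=
    hbadfin.isClosed_biUnion (fun T hT => isClosed_of_mem_irreducibleComponents T hT.1)
  let N : Set ↥W := (⋃ T ∈ bad, T)ᶜ
  have hNopen : IsOpen N := hclosed.isOpen_compl
  have hxN : xW ∈ N := by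
    simp only [N, Set.mem_compl_iff, Set.mem_iUnion, not_exists]
    intro T hT hxT
    exact hT.2 hxT
  have hNC : Subtype.val '' N ⊆ C := by
    rintro _ ⟨w, hw, rfl⟩
    have hwmem : w ∈ irreducibleComponent w := mem_irreducibleComponent
    have hT := irreducibleComponent_mem_irreducibleComponents w
    have hxT : xW ∈ irreducibleComponent w := by
      by_contra hcon
      apply hw
      simp only [Set.mem_iUnion]
      exact ⟨irreducibleComponent w, ⟨hT, hcon⟩, hwmem⟩
    have hirr : IsIrreducible (Subtype.val '' (irreducibleComponent w)) :=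
      hT.1.image _ continuous_subtype_val.continuousOn
    obtain ⟨D, hD, hsub⟩ := exists_mem_irreducibleComponents_subset_of_isIrreducible _ hirr
    have hxD : x ∈ D := hsub ⟨xW, hxT, rfl⟩
    have : D = C := h x hx D hD C hC hxD hx
    rw [← this]
    exact hsub ⟨w, hwmem, rfl⟩
  have hopen : IsOpen (Subtype.val '' N) := W.isOpen.isOpenMap_subtype_val N hNopen
  exact Filter.mem_of_superset (hopen.mem_nhds ⟨xW, hxN, rfl⟩) hNC

end Top

section Rat

variable {K : Type u} [Field K] {G : Over (Spec (CommRingCat.of K))} [GrpObj G]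

/-- the unit object of `Over (Spec K)`. -/
noncomputable abbrev E (K : Type u) [Field K] : Over (Spec (CommRingCat.of K)) :=
  𝟙_ (Over (Spec (CommRingCat.of K)))

theorem toUnit_E : toUnit (E K) = 𝟙 _ := toUnit_unique _ _

theorem ltr_apply (g h : E K ⟶ G) (pt : ↥(E K).left) :
    (ltr g).left (h.left pt) = (g * h).left pt := by
  rw [← Scheme.Hom.comp_apply, ← Over.comp_left, comp_ltr, toUnit_E, Category.id_comp]

theorem inv_apply (h : E K ⟶ G) (pt : ↥(E K).left) :
    (ι[G]).left (h.left pt) = (h⁻¹).left pt := by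
  rw [← Scheme.Hom.comp_apply, ← Over.comp_left, Hom.inv_def]

instance (g : E K ⟶ G) : IsIso (ltr g).left := (Over.forget _).map_isIso (ltr g)

theorem ltr_ltr_inv_apply (g : E K ⟶ G) (z : ↥G.left) :
    (ltr g).left ((ltr g⁻¹).left z) = z := by
  rw [← Scheme.Hom.comp_apply, ← Over.comp_left, ltr_ltr, mul_inv_cancel, ltr_one]
  rfl

theorem ltr_inv_ltr_apply (g : E K ⟶ G) (z : ↥G.left) :
    (ltr g⁻¹).left ((ltr g).left z) = z := by
  rw [← Scheme.Hom.comp_apply, ← Over.comp_left, ltr_ltr, inv_mul_cancel, ltr_one]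
  rfl

variable [IsAlgClosed K] [LocallyOfFiniteType G.hom]

/-- the rational point attached to a closed point. -/
noncomputable def rat (x : ↥G.left) (hx : IsClosed ({x} : Set ↥G.left)) : E K ⟶ G :=
  Over.homMk (pointOfClosedPoint G.hom x hx) (pointOfClosedPoint_comp G.hom x hx)

theorem rat_apply (x : ↥G.left) (hx : IsClosed ({x} : Set ↥G.left)) (pt : ↥(E K).left) :
    (rat x hx).left pt = x :=
  pointOfClosedPoint_apply G.hom x hx pt

end Rat

section Core

variable {K : Type u} [Field K] [IsAlgClosed K] {G : Over (Spec (CommRingCat.of K))} [GrpObj G]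
  [LocallyOfFiniteType G.hom] (pt : ↥(E K).left)

theorem isLocallyNoetherian_left : IsLocallyNoetherian G.left :=
  LocallyOfFiniteType.isLocallyNoetherian G.hom

theorem isOpen_Z0 : IsOpen (Z0 K G pt) := by
  haveI := isLocallyNoetherian_left (G := G)
  exact isOpen_component _ (Z0_mem K G pt) (fun x _ => uniqueComp K G x)

theorem ltr_inv_self_apply (g : E K ⟶ G) :
    (ltr g⁻¹).left (g.left pt) = η[G].left pt := by
  rw [ltr_apply, inv_mul_cancel, one_left K G pt]

/-- the preimage of `Z0` under left translation by `g⁻¹` is the component of `g`. -/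
theorem preimage_ltr_Z0 (g : E K ⟶ G) :
    (ltr g⁻¹).left ⁻¹' (Z0 K G pt) = irreducibleComponent (g.left pt) := by
  have h1 : (ltr g⁻¹).left ⁻¹' (Z0 K G pt) ∈ irreducibleComponents ↥G.left :=
    preimage_mem_irreducibleComponents (Z0_mem K G pt) (ltr g⁻¹).left.isOpenEmbedding
      ⟨η[G].left pt, unit_mem_Z0 K G pt, ⟨g.left pt, ltr_inv_self_apply pt g⟩⟩
  refine (uniqueComp K G _).eq_irreducibleComponent h1 ?_
  change (ltr g⁻¹).left (g.left pt) ∈ Z0 K G pt
  rw [ltr_inv_self_apply]
  exact unit_mem_Z0 K G pt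

/-- the image of `Z0` under left translation by `g` is the component of `g`. -/
theorem image_ltr_Z0 (g : E K ⟶ G) :
    (ltr g).left '' (Z0 K G pt) = irreducibleComponent (g.left pt) := by
  rw [← preimage_ltr_Z0 pt g]
  ext z
  constructor
  · rintro ⟨w, hw, rfl⟩
    change (ltr g⁻¹).left ((ltr g).left w) ∈ Z0 K G pt
    rwa [ltr_inv_ltr_apply]
  · intro hz
    exact ⟨(ltr g⁻¹).left z, hz, ltr_ltr_inv_apply g z⟩

include pt in
theorem core (C : Set ↥G.left) (hC : C ∈ irreducibleComponents ↥G.left) {n : ℕ}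
    (g : Fin n → ↥G.left) (hg : ∀ i, IsClosed ({g i} : Set ↥G.left)) :
    ∃ W : G.left.Opens, IsAffineOpen W ∧ (W : Set ↥G.left) ⊆ C ∧ ∀ i, g i ∈ C → g i ∈ W := by
  classical
  by_cases hex : ∃ i, g i ∈ C
  swap
  · exact ⟨⊥, isAffineOpen_bot _, by simp, fun i hi => (hex ⟨i, hi⟩).elim⟩
  obtain ⟨i0, hi0⟩ := hex
  have hZopen := isOpen_Z0 (G := G) pt
  obtain ⟨U, hU, heU, hUZ⟩ := exists_isAffineOpen_mem_and_subset (X := G.left)
    (x := η[G].left pt) (U := ⟨Z0 K G pt, hZopen⟩) (unit_mem_Z0 K G pt)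
  have hUZ' : (U : Set ↥G.left) ⊆ Z0 K G pt := hUZ
  let gh : Fin n → (E K ⟶ G) := fun i => rat (g i) (hg i)
  have hgh : ∀ i, (gh i).left pt = g i := fun i => rat_apply _ _ pt
  let U' : Set ↥G.left := (ι[G]).left ⁻¹' (U : Set ↥G.left)
  have hU'open : IsOpen U' := U.isOpen.preimage (ι[G]).left.continuous
  have hU'Z : U' ⊆ Z0 K G pt := by
    intro z hz
    rw [← preimage_inv_Z0 K G pt]
    exact hUZ' hz
  have heU' : η[G].left pt ∈ U' := by
    change (ι[G]).left (η[G].left pt) ∈ (U : Set ↥G.left)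
    rw [← one_left K G pt (T := E K) pt, inv_apply, inv_one, one_left K G pt]
    exact heU
  let V : Fin n → Set ↥G.left := fun i => (ltr (gh i)⁻¹).left ⁻¹' U'
  have hVopen : ∀ i, IsOpen (V i) := fun i => hU'open.preimage (ltr (gh i)⁻¹).left.continuous
  have hgV : ∀ i, g i ∈ V i := by
    intro i
    change (ltr (gh i)⁻¹).left (g i) ∈ U'
    rw [← hgh i, ltr_inv_self_apply]
    exact heU'
  have hCi : ∀ i, g i ∈ C → C = irreducibleComponent (g i) := fun i hi =>
    (uniqueComp K G _).eq_irreducibleComponent hC hi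
  have hVC : ∀ i, g i ∈ C → V i ⊆ C := by
    intro i hi z hz
    rw [hCi i hi, ← hgh i, ← preimage_ltr_Z0 pt (gh i)]
    exact hU'Z hz
  let I : Finset (Fin n) := Finset.univ.filter (fun i => g i ∈ C)
  have hne : (C ∩ ⋂₀ ((I.image V : Finset (Set ↥G.left)) : Set (Set ↥G.left))).Nonempty := by
    refine isIrreducible_iff_sInter.mp hC.1 (I.image V) ?_ ?_
    · intro u hu
      obtain ⟨i, -, rfl⟩ := Finset.mem_image.mp hu
      exact hVopen i
    · intro u hu
      obtain ⟨i, hi, rfl⟩ := Finset.mem_image.mp hu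
      have hiC : g i ∈ C := (Finset.mem_filter.mp hi).2
      exact ⟨g i, hiC, hgV i⟩
  have hCopen : IsOpen C := by
    haveI := isLocallyNoetherian_left (G := G)
    exact isOpen_component C hC (fun x _ => uniqueComp K G x)
  have hopen : IsOpen (C ∩ ⋂₀ ((I.image V : Finset (Set ↥G.left)) : Set (Set ↥G.left))) := by
    refine hCopen.inter ?_
    refine Set.Finite.isOpen_sInter (Finset.finite_toSet _) ?_
    intro u hu
    obtain ⟨i, -, rfl⟩ := Finset.mem_image.mp (Finset.mem_coe.mp hu)
    exact hVopen i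
  haveI : JacobsonSpace ↥G.left := LocallyOfFiniteType.jacobsonSpace G.hom
  obtain ⟨x, ⟨hxC, hxV⟩, hxcl⟩ := nonempty_inter_closedPoints hne hopen.isLocallyClosed
  have hxcl' : IsClosed ({x} : Set ↥G.left) := hxcl
  let xh : E K ⟶ G := rat x hxcl'
  have hxh : xh.left pt = x := rat_apply _ _ pt
  -- the translate of `U`
  let W : G.left.Opens := (ltr xh).left ''ᵁ U
  have hWaff : IsAffineOpen W := hU.image_of_isOpenImmersion (ltr xh).left
  refine ⟨W, hWaff, ?_, ?_⟩
  · rintro _ ⟨w, hw, rfl⟩
    have h1 : (ltr xh).left w ∈ (ltr xh).left '' (Z0 K G pt) := ⟨w, hUZ' hw, rfl⟩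
    rw [image_ltr_Z0 pt xh, hxh, ← (uniqueComp K G _).eq_irreducibleComponent hC hxC] at h1
    exact h1
  · intro i hi
    have hiI : i ∈ I := Finset.mem_filter.mpr ⟨Finset.mem_univ _, hi⟩
    have hxVi : x ∈ V i := hxV (V i) (Finset.mem_coe.mpr (Finset.mem_image_of_mem V hiI))
    -- `ι ((gh i)⁻¹ * xh) ∈ U`
    have h1 : (ι[G]).left ((ltr (gh i)⁻¹).left x) ∈ (U : Set ↥G.left) := hxVi
    rw [← hxh, ltr_apply, inv_apply, _root_.mul_inv_rev, _root_.inv_inv] at h1
    refine ⟨_, h1, ?_⟩
    change (ltr xh).left ((xh⁻¹ * gh i).left pt) = g i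
    rw [ltr_apply, mul_inv_cancel_left, hgh i]

end Core

theorem main (K : Type u) [Field K] [IsAlgClosed K] (G : Over (Spec (CommRingCat.of K)))
    [GrpObj G] [LocallyOfFiniteType G.hom] (n : ℕ) (g : Fin n → G.left)
    (hg : ∀ i, IsClosed ({g i} : Set G.left)) :
    ∃ U : G.left.Opens, IsAffineOpen U ∧ ∀ i, g i ∈ U := by
  classical
  obtain ⟨pt⟩ : Nonempty ↥(E K).left := (inferInstance : Nonempty (PrimeSpectrum K))
  let s : Set (Set ↥G.left) := Set.range (fun i => irreducibleComponent (g i))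
  have hs : s.Finite := Set.finite_range _
  have hcore : ∀ C : Set ↥G.left, ∃ W : G.left.Opens, IsAffineOpen W ∧
      (C ∈ irreducibleComponents ↥G.left → (W : Set ↥G.left) ⊆ C) ∧
      (C ∈ irreducibleComponents ↥G.left → ∀ i, g i ∈ C → g i ∈ W) := by
    intro C
    by_cases hC : C ∈ irreducibleComponents ↥G.left
    · obtain ⟨W, h1, h2, h3⟩ := core pt C hC g hg
      exact ⟨W, h1, fun _ => h2, fun _ => h3⟩
    · exact ⟨⊥, isAffineOpen_bot _, fun h => (hC h).elim, fun h => (hC h).elim⟩
  choose W hWaff hWC hWg using hcore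
  refine ⟨⨆ C ∈ s, W C, IsAffineOpen.biSup_of_disjoint hs (fun C _ => hWaff C) ?_, ?_⟩
  · rintro C ⟨i, rfl⟩ C' ⟨j, rfl⟩ hne
    change Disjoint (W _) (W _)
    rw [← TopologicalSpace.Opens.coe_disjoint, Set.disjoint_left]
    intro z hz hz'
    apply hne
    have h1 := hWC _ (irreducibleComponent_mem_irreducibleComponents (g i)) hz
    have h2 := hWC _ (irreducibleComponent_mem_irreducibleComponents (g j)) hz'
    exact (uniqueComp K G z) _ (irreducibleComponent_mem_irreducibleComponents (g i)) _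
      (irreducibleComponent_mem_irreducibleComponents (g j)) h1 h2
  · intro i
    rw [TopologicalSpace.Opens.mem_iSup]
    refine ⟨irreducibleComponent (g i), ?_⟩
    rw [TopologicalSpace.Opens.mem_iSup]
    exact ⟨⟨i, rfl⟩, hWg _ (irreducibleComponent_mem_irreducibleComponents (g i)) i
      mem_irreducibleComponent⟩

end Groth.Agent.Lib.Helper8.GAff
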