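import Mathlib
import Groth.Prelude.Def_Curves
import Groth.Agent.Lib.Helper8.TsenLang

set_option autoImplicit false
set_option linter.unusedSectionVars false
set_option linter.unusedVariables false
set_option linter.style.haveILetI false

/-!
# Norm surjectivity over `C_1` fields; Hilbert 90 for cyclic extensions (universe polymorphic)
-/

universe u v

namespace Groth.Agent.Lib.Helper8.GC

open MvPolynomial Groth.Agent.Lib.Helper8.TsenLang

/-- Over a `C_1` field the norm of every finite extension is surjective. -/
theorem norm_surjective_of_isCr_one (F : Type u) [Field F] (L : Type v) [Field L] [Algebra F L]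
    [FiniteDimensional F L] (hF : Curves.IsCr F 1) :
    Function.Surjective (Algebra.norm F : L → F) := by
  classical
  intro a
  by_cases ha : a = 0
  · exact ⟨0, by rw [ha]; exact Algebra.norm_zero⟩
  let n := Module.finrank F L
  have hn : 0 < n := Module.finrank_pos
  let ω : Module.Basis (Fin n) F L := Module.finBasis F L
  let Q : MvPolynomial (Unit × Fin n) F := normForm ω (X () : MvPolynomial Unit L)
  have hQ : Q.IsHomogeneous n := by
    have := normForm_isHomogeneous ω (isHomogeneous_X L ())
    simpa using this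
  let P : MvPolynomial (Option (Unit × Fin n)) F :=
    rename some Q - C a * X none ^ n
  have hP : P.IsHomogeneous n := by
    refine IsHomogeneous.sub (hQ.rename_isHomogeneous) ?_
    have h1 : (X none ^ n : MvPolynomial (Option (Unit × Fin n)) F).IsHomogeneous n := by
      have := (isHomogeneous_X F (none : Option (Unit × Fin n))).pow n
      simpa using this
    have := (isHomogeneous_C (Option (Unit × Fin n)) a).mul h1
    simpa using this
  obtain ⟨y, hy0, hy⟩ := isCr_fintype hF (σ := Option (Unit × Fin n)) n P hP hn (by simp)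
  have hev : Algebra.norm F (point ω (fun p => y (some p)) ()) = a * y none ^ n := by
    have h1 : eval y P = 0 := hy
    simp only [P, map_sub, eval_rename, map_mul, eval_C, map_pow, eval_X] at h1
    have h2 := eval_normForm ω (X () : MvPolynomial Unit L) (fun p => y (some p))
    rw [eval_X] at h2
    rw [← h2]
    exact sub_eq_zero.mp h1
  have hyn : y none ≠ 0 := by
    intro h0
    rw [h0, zero_pow hn.ne', mul_zero] at hev
    have hpt : point ω (fun p => y (some p)) () = 0 := Algebra.norm_eq_zero_iff.mp hev
    have hy' : (fun p : Unit × Fin n => y (some p)) = 0 := by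
      by_contra hne
      have := point_ne_zero ω hne
      apply this
      funext j
      cases j
      exact hpt
    apply hy0
    funext o
    cases o with
    | none => exact h0
    | some p => exact congrFun hy' p
  refine ⟨algebraMap F L (y none)⁻¹ * point ω (fun p => y (some p)) (), ?_⟩
  rw [map_mul, Algebra.norm_algebraMap, hev]
  change (y none)⁻¹ ^ n * (a * y none ^ n) = a
  rw [inv_pow, mul_comm a, ← mul_assoc, inv_mul_cancel₀ (pow_ne_zero n hyn), one_mul]

section H90

variable {K L : Type*} [Field K] [Field L] [Algebra K L] [FiniteDimensional K L] [IsGalois K L]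

/-- the partial products `x g(x) ⋯ g^{m-1}(x)` -/
noncomputable def pprod (g : L ≃ₐ[K] L) (x : Lˣ) : ℕ → Lˣ
  | 0 => 1
  | (m + 1) => x * g • pprod g x m

lemma pprod_add (g : L ≃ₐ[K] L) (x : Lˣ) (m m' : ℕ) :
    pprod g x (m + m') = pprod g x m * (g ^ m) • pprod g x m' := by
  induction m with
  | zero => simp [pprod]
  | succ m ih =>
    rw [Nat.succ_add_eq_add_succ, Nat.add_succ]
    show x * g • pprod g x (m + m') = (x * g • pprod g x m) * (g ^ (m + 1)) • pprod g x m'
    rw [ih, smul_mul', pow_succ', mul_smul, mul_assoc]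

lemma pprod_eq_prod (g : L ≃ₐ[K] L) (x : Lˣ) (m : ℕ) :
    pprod g x m = ∏ j ∈ Finset.range m, (g ^ j) • x := by
  induction m with
  | zero => simp [pprod]
  | succ m ih =>
    show x * g • pprod g x m = _
    rw [Finset.prod_range_succ', ih, Finset.smul_prod', pow_zero, one_smul, mul_comm]
    congr 1
    refine Finset.prod_congr rfl fun j _ => ?_
    rw [pow_succ', mul_smul]

/-- Hilbert's Theorem 90 for a finite cyclic extension (any universe). -/
theorem exists_div_of_norm_eq_one' (g : L ≃ₐ[K] L) (hg : ∀ x, x ∈ Subgroup.zpowers g) {x : L}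
    (hx : Algebra.norm K x = 1) : ∃ y : Lˣ, (y : L) / g y = x := by
  classical
  have hx0 : x ≠ 0 := by
    intro h0
    rw [h0, Algebra.norm_zero] at hx
    exact zero_ne_one hx
  let xu : Lˣ := Units.mk0 x hx0
  set n := orderOf g with hn
  have hnpos : 0 < n := orderOf_pos g
  -- `pprod n = 1`
  have hPn : pprod g xu n = 1 := by
    rw [pprod_eq_prod]
    have h1 : ∏ j ∈ Finset.range n, (g ^ j) • xu = ∏ c : L ≃ₐ[K] L, c • xu := by
      rw [← IsCyclic.image_range_orderOf hg, Finset.prod_image]
      intro i hi j hj hij
      exact pow_injOn_Iio_orderOf (by simpa using hi) (by simpa using hj) hij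
    rw [h1]
    apply Units.ext
    have h2 := Algebra.norm_eq_prod_automorphisms K x
    rw [hx, map_one] at h2
    rw [Units.val_one, h2, Units.coe_prod]
    rfl
  have hper : ∀ t m, pprod g xu (m + n * t) = pprod g xu m := by
    intro t
    induction t with
    | zero => simp
    | succ t ih =>
      intro m
      rw [Nat.mul_succ, ← add_assoc, pprod_add, hPn, smul_one, mul_one, ih]
  have hmod : ∀ m, pprod g xu m = pprod g xu (m % n) := by
    intro m
    conv_lhs => rw [← Nat.mod_add_div m n]
    exact hper _ _
  have hex : ∀ c : L ≃ₐ[K] L, ∃ m : ℕ, g ^ m = c := by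
    intro c
    obtain ⟨k, hk⟩ := (Subgroup.mem_zpowers_iff).mp (hg c)
    refine ⟨(k % (n : ℤ)).toNat, ?_⟩
    have hk0 : 0 ≤ k % (n : ℤ) := Int.emod_nonneg _ (by exact_mod_cast hnpos.ne')
    rw [← zpow_natCast, Int.toNat_of_nonneg hk0, zpow_mod_orderOf, hk]
  let f : (L ≃ₐ[K] L) → Lˣ := fun c => pprod g xu (Classical.choose (hex c))
  have hf : ∀ c m, g ^ m = c → f c = pprod g xu m := by
    intro c m hm
    have h1 : g ^ (Classical.choose (hex c)) = g ^ m := by
      rw [Classical.choose_spec (hex c), hm]
    have h2 : Classical.choose (hex c) ≡ m [MOD n] := pow_eq_pow_iff_modEq.mp h1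
    show pprod g xu (Classical.choose (hex c)) = pprod g xu m
    rw [hmod (Classical.choose (hex c)), hmod m, h2]
  have hcoc : groupCohomology.IsMulCocycle₁ f := by
    intro c c'
    obtain ⟨m, hm⟩ := hex c
    obtain ⟨m', hm'⟩ := hex c'
    rw [hf (c * c') (m + m') (by rw [pow_add, hm, hm']), hf c m hm, hf c' m' hm', pprod_add, hm,
      mul_comm]
  obtain ⟨β, hβ⟩ := groupCohomology.isMulCoboundary₁_of_isMulCocycle₁_of_aut_to_units f hcoc
  have h1 : g • β / β = xu := by
    rw [hβ g, hf g 1 (pow_one g)]
    show xu * g • (1 : Lˣ) = xu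
    rw [smul_one, mul_one]
  refine ⟨β⁻¹, ?_⟩
  have h2 : ((g • β / β : Lˣ) : L) = x := by rw [h1]; rfl
  rw [Units.val_div_eq_div_val] at h2
  rw [← h2]
  have h3 : ((g • β : Lˣ) : L) = g (β : L) := rfl
  rw [h3, Units.val_inv_eq_inv_val, map_inv₀]
  field_simp

end H90

end Groth.Agent.Lib.Helper8.GC
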