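import Mathlib
import Groth.Agent.Lib.Helper8.GC1

set_option autoImplicit false
set_option linter.unusedSectionVars false
set_option linter.unusedVariables false
set_option linter.style.haveILetI false

/-!
# `Ĥ^{-1}(Gal(L/F), L^×) = 0` over `C_1` fields (concrete form)
-/

universe u

namespace Groth.Agent.Lib.Helper8.GC

open IntermediateField Module

section

variable (L : Type u) [Field L]

/-- the subgroup of `Lˣ` generated by the `w / g w` -/
def ISub (F : Type u) [Field F] [Algebra F L] : Subgroup Lˣ :=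
  Subgroup.closure {v : Lˣ | ∃ (w : Lˣ) (g : L ≃ₐ[F] L), (v : L) = (w : L) / g (w : L)}

variable {L}

lemma div_smul_mem {F : Type u} [Field F] [Algebra F L] (w : Lˣ) (g : L ≃ₐ[F] L) :
    w / g • w ∈ ISub L F :=
  Subgroup.subset_closure ⟨w, g, by rw [Units.val_div_eq_div_val]; rfl⟩

lemma smul_div_mem {F : Type u} [Field F] [Algebra F L] (w : Lˣ) (g : L ≃ₐ[F] L) :
    g • w / w ∈ ISub L F := by
  have := inv_mem (div_smul_mem w g)
  rwa [inv_div] at this

lemma ISub_le {F : Type u} [Field F] [Algebra F L] (F' : IntermediateField F L) :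
    ISub L ↥F' ≤ ISub L F := by
  refine (Subgroup.closure_le _).mpr ?_
  rintro v ⟨w, g, hv⟩
  exact Subgroup.subset_closure ⟨w, g.restrictScalars F, hv⟩

lemma norm_fixedField_eq_prod {F : Type u} [Field F] [Algebra F L] [FiniteDimensional F L]
    [IsGalois F L] (H : Subgroup (L ≃ₐ[F] L)) [Fintype H] (x : L) :
    algebraMap (fixedField H) L (Algebra.norm (fixedField H) x) =
      ∏ h : H, (h : L ≃ₐ[F] L) x := by
  rw [Algebra.norm_eq_prod_automorphisms]
  let e : H ≃ (L ≃ₐ[fixedField H] L) :=
    (MulEquiv.subgroupCongr (fixingSubgroup_fixedField H).symm).toEquiv.trans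
      (fixingSubgroupEquiv (fixedField H)).toEquiv
  exact (Fintype.prod_equiv e (fun h => (h : L ≃ₐ[F] L) x) (fun σ => σ x) (fun h => rfl)).symm

/-- the induction hypothesis transported to a fixed field -/
lemma ih_fixed {n : ℕ}
    (IH : ∀ m < n, ∀ (F : Type u) [Field F] [Algebra F L] [FiniteDimensional F L] [IsGalois F L],
      Curves.IsCr F 1 → finrank F L = m → ∀ u : Lˣ, Algebra.norm F (u : L) = 1 → u ∈ ISub L F)
    {F : Type u} [Field F] [Algebra F L] [FiniteDimensional F L] [IsGalois F L]
    (hF : Curves.IsCr F 1) (H : Subgroup (L ≃ₐ[F] L)) (hlt : Nat.card H < n) (u' : Lˣ)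
    (hu' : Algebra.norm (fixedField H) (u' : L) = 1) : u' ∈ ISub L F := by
  have hF' : Curves.IsCr (fixedField H) 1 :=
    Groth.Agent.Lib.Helper8.TsenLang.isCr_one_of_finite F (fixedField H) hF
  exact ISub_le (fixedField H)
    (IH (Nat.card H) hlt (fixedField H) hF' (finrank_fixedField_eq_card H) u' hu')

end

/-- Over a field all of whose finite extensions are `C_1`: `Ĥ^{-1}(Gal(L/F), L^×) = 0`. -/
theorem mem_ISub_of_norm_eq_one (L : Type u) [Field L] : ∀ (n : ℕ) (F : Type u) [Field F]
    [Algebra F L] [FiniteDimensional F L] [IsGalois F L], Curves.IsCr F 1 → finrank F L = n →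
    ∀ u : Lˣ, Algebra.norm F (u : L) = 1 → u ∈ ISub L F := by
  classical
  intro n
  induction n using Nat.strong_induction_on with
  | _ n IH =>
  intro F _ _ _ _ hF hn u hu
  have hcard : Nat.card (L ≃ₐ[F] L) = n := by rw [IsGalois.card_aut_eq_finrank, hn]
  have hnpos : 0 < n := by rw [← hn]; exact finrank_pos
  have hprod : ∏ γ : L ≃ₐ[F] L, γ (u : L) = 1 := by
    rw [← Algebra.norm_eq_prod_automorphisms, hu, map_one]
  rcases Nat.lt_or_ge 1 n with hn1 | hn1
  swap
  · -- `n = 1`
    have h1 : Nat.card (L ≃ₐ[F] L) = 1 := by omega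
    haveI : Subsingleton (L ≃ₐ[F] L) := (Nat.card_eq_one_iff_unique.mp h1).1
    have : (u : L) = 1 := by
      rw [← hprod]
      rw [Fintype.prod_subsingleton _ (1 : L ≃ₐ[F] L)]
      rfl
    have hu1 : u = 1 := Units.ext this
    rw [hu1]
    exact one_mem _
  by_cases hpp : IsPrimePow n
  · -- Case A: `n = p ^ a`
    obtain ⟨p, a, hp, ha, hpa⟩ := (isPrimePow_nat_iff n).mp hpp
    haveI : Fact p.Prime := ⟨hp⟩
    obtain ⟨H', hH'⟩ := Sylow.exists_subgroup_card_pow_prime p (n := a - 1) (G := L ≃ₐ[F] L)
      (by rw [hcard, ← hpa]; exact pow_dvd_pow p (Nat.sub_le a 1))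
    have hpa' : p ^ a = p ^ (a - 1) * p := by
      rw [← pow_succ]; congr 1; omega
    have hidx : H'.index = p := by
      have h1 := H'.card_mul_index
      rw [hH', hcard, ← hpa, hpa'] at h1
      exact Nat.eq_of_mul_eq_mul_left (pow_pos hp.pos _) h1
    haveI hnorm : H'.Normal := Subgroup.normal_of_index_eq_minFac_card (by
      rw [hidx, hcard, ← hpa, hp.pow_minFac (by omega)])
    have hF' : Curves.IsCr (fixedField H') 1 :=
      Groth.Agent.Lib.Helper8.TsenLang.isCr_one_of_finite F (fixedField H') hF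
    haveI : IsGalois F (fixedField H') := IsGalois.of_fixedField_normal_subgroup H'
    have hdeg : finrank F (fixedField H') = p := by
      have h1 := Module.finrank_mul_finrank F (fixedField H') L
      rw [finrank_fixedField_eq_card, hH', hn, ← hpa, hpa', mul_comm] at h1
      exact Nat.eq_of_mul_eq_mul_left (pow_pos hp.pos _) h1
    have hcardC : Nat.card ((fixedField H') ≃ₐ[F] (fixedField H')) = p := by
      rw [IsGalois.card_aut_eq_finrank, hdeg]
    haveI : IsCyclic ((fixedField H') ≃ₐ[F] (fixedField H')) := isCyclic_of_prime_card hcardC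
    obtain ⟨τ, hτ⟩ := IsCyclic.exists_generator (α := (fixedField H') ≃ₐ[F] (fixedField H'))
    have hv : Algebra.norm F (Algebra.norm (fixedField H') (u : L)) = 1 := by
      rw [Algebra.norm_norm, hu]
    obtain ⟨z, hz⟩ := exists_div_of_norm_eq_one' τ hτ hv
    obtain ⟨y, hy⟩ := norm_surjective_of_isCr_one (fixedField H') L hF' (z : fixedField H')
    have hy0 : y ≠ 0 := by
      intro h0
      rw [h0, Algebra.norm_zero] at hy
      exact z.ne_zero hy.symm
    obtain ⟨σ, hσ⟩ := AlgEquiv.restrictNormalHom_surjective L τ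
    have hnσ : Algebra.norm (fixedField H') (σ y) = τ z := by
      have := Algebra.norm_eq_of_equiv_equiv (A₁ := fixedField H') (B₁ := L)
        (A₂ := fixedField H') (B₂ := L) τ.toRingEquiv σ.toRingEquiv (by
          ext x
          have := AlgEquiv.restrictNormal_commutes σ (fixedField H') x
          rw [← hσ]
          exact this) y
      rw [hy] at this
      rw [this]
      exact (τ.toRingEquiv.apply_symm_apply _).symm
    let yu : Lˣ := Units.mk0 y hy0
    have hu'n : Algebra.norm (fixedField H') ((u * (σ • yu / yu) : Lˣ) : L) = 1 := by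
      have e1 : ((u * (σ • yu / yu) : Lˣ) : L) = (u : L) * (σ y / y) := by
        rw [Units.val_mul, Units.val_div_eq_div_val]; rfl
      rw [e1, map_mul]
      have e2 : Algebra.norm (fixedField H') (σ y / y) = τ z / z := by
        rw [eq_div_iff z.ne_zero, ← hy, ← map_mul, div_mul_cancel₀ _ hy0, hnσ, hy]
      rw [e2, ← hz]
      have hτz : τ (z : fixedField H') ≠ 0 := by
        rw [Ne, map_eq_zero]; exact z.ne_zero
      field_simp
    have hmem := ih_fixed IH hF H' (by
      rw [hH', ← hpa]; exact Nat.pow_lt_pow_right hp.one_lt (by omega)) _ hu'n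
    have hgen : yu / σ • yu ∈ ISub L F := div_smul_mem yu σ
    have : u = (u * (σ • yu / yu)) * (yu / σ • yu) := by
      rw [mul_assoc, div_mul_div_cancel, div_self', mul_one]
    rw [this]
    exact mul_mem hmem hgen
  · -- Case B: `n` is not a prime power
    have hnz : n ≠ 0 := by omega
    let D : AddSubgroup ℤ :=
      { carrier := {m | u ^ m ∈ ISub L F}
        zero_mem' := by simp [one_mem]
        add_mem' := by
          intro a b ha hb
          simp only [Set.mem_ofPred_eq] at *
          rw [zpow_add]; exact mul_mem ha hb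
        neg_mem' := by
          intro a ha
          simp only [Set.mem_ofPred_eq] at *
          rw [zpow_neg]; exact inv_mem ha }
    have key : ∀ p : ℕ, p.Prime → p ∣ n → ((n / p ^ n.factorization p : ℕ) : ℤ) ∈ D := by
      intro p hp hpn
      haveI : Fact p.Prime := ⟨hp⟩
      obtain ⟨P⟩ : Nonempty (Sylow p (L ≃ₐ[F] L)) := inferInstance
      have hPcard : Nat.card P = p ^ n.factorization p := by
        rw [Sylow.card_eq_multiplicity, hcard]
      have hlt : Nat.card (P : Subgroup (L ≃ₐ[F] L)) < n := by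
        have hle : p ^ n.factorization p ≤ n := Nat.ordProj_le p hnz
        have hne : p ^ n.factorization p ≠ n := by
          intro h
          apply hpp
          rw [isPrimePow_nat_iff]
          refine ⟨p, n.factorization p, hp, ?_, h⟩
          exact (hp.factorization_pos_of_dvd hnz hpn)
        have : Nat.card (P : Subgroup (L ≃ₐ[F] L)) = p ^ n.factorization p := hPcard
        omega
      obtain ⟨S, hS, -⟩ := Subgroup.exists_isComplement_right (P : Subgroup (L ≃ₐ[F] L)) 1
      haveI : Fintype S := Fintype.ofFinite S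
      haveI : Fintype (P : Subgroup (L ≃ₐ[F] L)) := Fintype.ofFinite _
      have hr : Algebra.norm (fixedField (P : Subgroup (L ≃ₐ[F] L)))
          ((∏ s : S, (s : L ≃ₐ[F] L) • u : Lˣ) : L) = 1 := by
        apply (algebraMap (fixedField (P : Subgroup (L ≃ₐ[F] L))) L).injective
        rw [norm_fixedField_eq_prod, map_one]
        have hbij : Function.Bijective
            (fun x : ((P : Subgroup (L ≃ₐ[F] L)) : Set (L ≃ₐ[F] L)) × S =>
              (x.1 : L ≃ₐ[F] L) * (x.2 : L ≃ₐ[F] L)) := hS
        have e1 : ∀ h : (P : Subgroup (L ≃ₐ[F] L)),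
            (h : L ≃ₐ[F] L) ((∏ s : S, (s : L ≃ₐ[F] L) • u : Lˣ) : L) =
              ∏ s : S, ((h : L ≃ₐ[F] L) * (s : L ≃ₐ[F] L)) (u : L) := by
          intro h
          rw [Units.coe_prod, map_prod]
          rfl
        rw [Finset.prod_congr rfl (fun h _ => e1 h), ← Finset.prod_product']
        rw [← hprod]
        exact Fintype.prod_bijective _ hbij _ _ (fun x => rfl)
      have hrI := ih_fixed IH hF (P : Subgroup (L ≃ₐ[F] L)) hlt _ hr
      have hdecomp : (∏ s : S, (s : L ≃ₐ[F] L) • u : Lˣ) =
          u ^ (Nat.card S) * ∏ s : S, ((s : L ≃ₐ[F] L) • u / u) := by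
        rw [Finset.prod_div_distrib, Finset.prod_const, Finset.card_univ,
          Nat.card_eq_fintype_card, mul_div_cancel]
      have h2 : ∏ s : S, ((s : L ≃ₐ[F] L) • u / u) ∈ ISub L F :=
        Subgroup.prod_mem _ (fun s _ => smul_div_mem u _)
      have h3 : u ^ (Nat.card S) ∈ ISub L F := by
        have : u ^ (Nat.card S) = (∏ s : S, (s : L ≃ₐ[F] L) • u : Lˣ) *
            (∏ s : S, ((s : L ≃ₐ[F] L) • u / u))⁻¹ := by
          rw [hdecomp, mul_inv_cancel_right]
        rw [this]
        exact mul_mem hrI (inv_mem h2)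
      have hScard : Nat.card S = n / p ^ n.factorization p := by
        have h4 := hS.card_mul_card
        rw [hcard] at h4
        have h5 : Nat.card (P : Subgroup (L ≃ₐ[F] L)) = p ^ n.factorization p := hPcard
        rw [SetLike.coe_sort_coe, h5] at h4
        exact (Nat.div_eq_of_eq_mul_right (pow_pos hp.pos _) h4.symm).symm
      show u ^ ((n / p ^ n.factorization p : ℕ) : ℤ) ∈ ISub L F
      rw [zpow_natCast, ← hScard]
      exact h3
    obtain ⟨d, hd⟩ := Int.subgroup_cyclic D
    have hdvd : ∀ p : ℕ, p.Prime → p ∣ n → d.natAbs ∣ n / p ^ n.factorization p := by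
      intro p hp hpn
      have := key p hp hpn
      rw [hd, AddSubgroup.mem_closure_singleton] at this
      obtain ⟨k, hk⟩ := this
      have h1 : d ∣ ((n / p ^ n.factorization p : ℕ) : ℤ) := ⟨k, by rw [← hk]; simp [mul_comm]⟩
      exact Int.natAbs_dvd_natAbs.mpr h1
    have hd1 : d.natAbs = 1 := by
      by_contra hne
      obtain ⟨p₀, hp₀, hp₀n⟩ := Nat.exists_prime_and_dvd (by omega : n ≠ 1)
      have hd0 := hdvd p₀ hp₀ hp₀n
      obtain ⟨q, hq, hqd⟩ := Nat.exists_prime_and_dvd hne
      have hqn : q ∣ n := (hqd.trans hd0).trans (Nat.div_dvd_of_dvd (Nat.ordProj_dvd n p₀))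
      exact Nat.not_dvd_ordCompl hq hnz (hqd.trans (hdvd q hq hqn))
    have h1 : (1 : ℤ) ∈ D := by
      rw [hd, AddSubgroup.mem_closure_singleton]
      rcases Int.natAbs_eq d with h | h
      · exact ⟨1, by rw [h, hd1]; simp⟩
      · exact ⟨-1, by rw [h, hd1]; simp⟩
    have : u ^ (1 : ℤ) ∈ ISub L F := h1
    simpa using this

end Groth.Agent.Lib.Helper8.GC
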