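import Mathlib
import Groth.Agent.Lib.Helper8.GC2
import Groth.Agent.S0212

set_option autoImplicit false
set_option linter.unusedSectionVars false
set_option linter.unusedVariables false
set_option linter.style.haveILetI false

universe u

namespace Groth.Agent.Lib.Helper8.GC

open Module

theorem norm_surjective_and_ker_norm
    (k : Type u) [Field k] [IsAlgClosed k] (K L : Type u) [Field K] [Field L]
    [Algebra k K] [Algebra K L] [FiniteDimensional K L] [IsGalois K L]
    (htr : Algebra.trdeg k K = 1) :
    Function.Surjective (Algebra.norm K : L → K) ∧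
      ∀ u : Lˣ, Algebra.norm K (u : L) = 1 ↔
        u ∈ Subgroup.closure {v : Lˣ | ∃ (w : Lˣ) (g : L ≃ₐ[K] L), (v : L) = (w : L) / g (w : L)} := by
  have hCi : Curves.IsCi K 1 := Groth.Agent.S0212.result k K 1 (by rw [htr]; simp)
  have hCr : Curves.IsCr K 1 := by
    intro n d f hf hd hlt
    obtain ⟨a, ha, hz⟩ := hCi 1 n (fun _ => f) (fun _ => d) (fun _ => hf) (fun _ => hd)
      (by simpa using hlt)
    exact ⟨a, ha, hz 0⟩
  refine ⟨norm_surjective_of_isCr_one K L hCr, fun u => ⟨fun hu => ?_, fun hu => ?_⟩⟩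
  · exact mem_ISub_of_norm_eq_one L _ K hCr rfl u hu
  · -- the norm is trivial on the generators
    let φ : Lˣ →* Kˣ := Units.map (Algebra.norm K : L →* K)
    have hle : Subgroup.closure {v : Lˣ | ∃ (w : Lˣ) (g : L ≃ₐ[K] L),
        (v : L) = (w : L) / g (w : L)} ≤ φ.ker := by
      refine (Subgroup.closure_le _).mpr ?_
      rintro v ⟨w, g, hv⟩
      rw [SetLike.mem_coe, MonoidHom.mem_ker]
      apply Units.ext
      show Algebra.norm K (v : L) = 1
      have hgw : g (w : L) ≠ 0 := by rw [Ne, map_eq_zero]; exact w.ne_zero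
      have h1 : (v : L) * g (w : L) = (w : L) := by rw [hv, div_mul_cancel₀ _ hgw]
      have h2 := congrArg (Algebra.norm K) h1
      rw [map_mul, Algebra.norm_eq_of_algEquiv] at h2
      have hnw : Algebra.norm K (w : L) ≠ 0 := by
        rw [Ne, Algebra.norm_eq_zero_iff]; exact w.ne_zero
      exact mul_right_cancel₀ hnw (by rw [h2, one_mul])
    have := hle hu
    rw [MonoidHom.mem_ker] at this
    have h3 := congrArg (fun x : Kˣ => (x : K)) this
    exact h3

end Groth.Agent.Lib.Helper8.GC
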