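import Mathlib
import Groth.Agent.Lib.Helper10.IdComp5

set_option backward.isDefEq.respectTransparency.types false
set_option autoImplicit false
set_option linter.unusedSectionVars false
set_option linter.style.haveILetI false

universe u

open CategoryTheory CategoryTheory.Limits AlgebraicGeometry MonoidalCategory
  CartesianMonoidalCategory MonObj GrpObj

namespace Groth.Agent.Lib.Helper8.GCU

open Groth.Agent.Lib.Helper10.IdComp Groth.Agent.Lib.Helper10.GrpTranslate

variable {K : Type u} [Field K] {G : Over (Spec (CommRingCat.of K))} [GrpObj G]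

/-- the open subscheme on an open subset, as an object over `Spec K`. -/
noncomputable def openObj (O : G.left.Opens) : Over (Spec (CommRingCat.of K)) :=
  Over.mk (O.ι ≫ G.hom)

noncomputable def openIncl (O : G.left.Opens) : openObj O ⟶ G := Over.homMk O.ι rfl

lemma range_openIncl (O : G.left.Opens) : Set.range (openIncl O).left = (O : Set ↥G.left) := by
  show Set.range O.ι = _
  exact Scheme.Opens.range_ι O

lemma isOpen_mulSet (A B : G.left.Opens) : IsOpen (mulSet (A : Set ↥G.left) (B : Set ↥G.left)) := by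
  have h := isOpen_range_mulMap (openIncl A) (openIncl B)
    (by rw [range_openIncl]; exact B.isOpen)
  rw [range_mulMap, range_openIncl, range_openIncl] at h
  exact h

lemma isCompact_mulSet (A B : G.left.Opens) (hA : IsCompact (A : Set ↥G.left))
    (hB : IsCompact (B : Set ↥G.left)) :
    IsCompact (mulSet (A : Set ↥G.left) (B : Set ↥G.left)) := by
  have h := range_mulMap (openIncl A) (openIncl B)
  rw [range_openIncl, range_openIncl] at h
  rw [← h]
  haveI : CompactSpace ↥(openObj A).left := isCompact_iff_compactSpace.mp hA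
  haveI : CompactSpace ↥(openObj B).left := isCompact_iff_compactSpace.mp hB
  haveI : QuasiCompact (openObj B).hom :=
    (HasAffineProperty.iff_of_isAffine (P := @QuasiCompact)).mpr inferInstance
  haveI : CompactSpace ↥(openObj A ⊗ openObj B).left :=
    inferInstanceAs (CompactSpace ↥(pullback (openObj A).hom (openObj B).hom))
  exact isCompact_range (mulMap (openIncl A) (openIncl B)).left.continuous

section Main

variable (K G)
variable (pt : ↥(𝟙_ (Over (Spec (CommRingCat.of K)))).left)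

lemma inv_inv_apply (x : ↥G.left) : ι[G].left (ι[G].left x) = x := by
  rw [← Scheme.Hom.comp_apply, ← Over.comp_left, GrpObj.inv_comp_inv]
  rfl

/-- the sequence of iterated products of an open set. -/
noncomputable def Wn (W : G.left.Opens) : ℕ → Set ↥G.left
  | 0 => W
  | n + 1 => mulSet (Wn W n) W

lemma Wn_open_compact (W : G.left.Opens) (hW : IsCompact (W : Set ↥G.left)) :
    ∀ n, IsOpen (Wn K G W n) ∧ IsCompact (Wn K G W n)
  | 0 => ⟨W.isOpen, hW⟩
  | n + 1 => by
    obtain ⟨ho, hc⟩ := Wn_open_compact W hW n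
    let O : G.left.Opens := ⟨Wn K G W n, ho⟩
    exact ⟨isOpen_mulSet O W, isCompact_mulSet O W hc hW⟩

lemma closure_subset (W : G.left.Opens) (hsymm : ∀ w ∈ W, ι[G].left w ∈ W)
    (he : η[G].left pt ∈ W) :
    closure (⋃ n, Wn K G W n) ⊆ ⋃ n, Wn K G W n := by
  intro y hy
  obtain ⟨T, q, t0, hq, hT, hirr⟩ := exists_fieldPoint G y
  have hrange : Set.range q.left = {y} := by
    ext v
    constructor
    · rintro ⟨t, rfl⟩
      rw [hT t, hq]
      rfl
    · rintro rfl
      exact ⟨t0, hq⟩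
  have hopen := isOpen_range_mulMap q (openIncl W) (by rw [range_openIncl]; exact W.isOpen)
  rw [range_mulMap, range_openIncl, hrange] at hopen
  have hy_mem : y ∈ mulSet ({y} : Set ↥G.left) (W : Set ↥G.left) := by
    have h1 : (1 : T ⟶ G).left t0 ∈ (W : Set ↥G.left) := by
      rw [one_left K G pt t0]
      exact he
    have := mul_mem_mulSet q (1 : T ⟶ G) t0 (A := ({y} : Set ↥G.left))
      (B := (W : Set ↥G.left)) (by rw [hq]; rfl) h1
    rw [_root_.mul_one, hq] at this
    exact this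
  obtain ⟨z, hzO, hzU⟩ := mem_closure_iff.mp hy _ hopen hy_mem
  obtain ⟨n, hzn⟩ := Set.mem_iUnion.mp hzU
  obtain ⟨T', g, h, t, hg, hh, hgh, -, -⟩ := exists_points_of_mem_mulSet hzO
  have hgy : g.left t = y := hg
  refine Set.mem_iUnion.mpr ⟨n + 1, ?_⟩
  have h2 : (h⁻¹).left t ∈ (W : Set ↥G.left) := by
    rw [Hom.inv_def, Over.comp_left, Scheme.Hom.comp_apply]
    exact hsymm _ hh
  have h3 := mul_mem_mulSet (g * h) h⁻¹ t (A := Wn K G W n) (B := (W : Set ↥G.left))
    (by rw [hgh]; exact hzn) h2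
  rw [mul_inv_cancel_right, hgy] at h3
  exact h3

theorem main : ∃ U : G.left.Opens, IsClosed (U : Set ↥G.left) ∧ η[G].left pt ∈ U ∧
    ∃ V : ℕ → G.left.Opens, (∀ n, IsAffineOpen (V n)) ∧
      (U : Set ↥G.left) = ⋃ n, (V n : Set ↥G.left) := by
  obtain ⟨V₀, hV₀, heV₀, -⟩ :=
    exists_isAffineOpen_mem_and_subset (X := G.left) (x := η[G].left pt) (U := ⊤) trivial
  haveI : IsIso ι[G].left := inferInstanceAs (IsIso ((Over.forget _).map ι[G]))
  let iV : G.left.Opens := ι[G].left ⁻¹ᵁ V₀
  have hiV : IsAffineOpen iV := hV₀.preimage_of_isIso ι[G].left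
  let W : G.left.Opens := V₀ ⊔ iV
  have hWc : IsCompact (W : Set ↥G.left) := by
    show IsCompact ((V₀ : Set ↥G.left) ∪ (iV : Set ↥G.left))
    exact hV₀.isCompact.union hiV.isCompact
  have heW : η[G].left pt ∈ W := Or.inl heV₀
  have hsymm : ∀ w ∈ W, ι[G].left w ∈ W := by
    rintro w (hw | hw)
    · right
      show ι[G].left (ι[G].left w) ∈ V₀
      rw [inv_inv_apply]
      exact hw
    · left
      exact hw
  have hoc := Wn_open_compact K G W hWc
  let U : G.left.Opens := ⟨⋃ n, Wn K G W n, isOpen_iUnion fun n => (hoc n).1⟩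
  have hUclosed : IsClosed (U : Set ↥G.left) :=
    closure_subset_iff_isClosed.mp (closure_subset K G pt W hsymm heW)
  have heU : η[G].left pt ∈ U := Set.mem_iUnion.mpr ⟨0, heW⟩
  -- enumeration
  have hfin : ∀ n, ∃ s : Set G.left.affineOpens, s.Finite ∧
      Wn K G W n = ⋃ i ∈ s, (i : Set ↥G.left) := fun n =>
    isCompact_and_isOpen_iff_finite_and_eq_biUnion_affineOpens.mp ⟨(hoc n).2, (hoc n).1⟩
  choose s hsfin hs using hfin
  let 𝒜 : Set G.left.affineOpens := ⋃ n, s n
  have h𝒜c : 𝒜.Countable := Set.countable_iUnion fun n => (hsfin n).countable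
  have h𝒜ne : 𝒜.Nonempty := by
    have : η[G].left pt ∈ Wn K G W 0 := heW
    rw [hs 0] at this
    obtain ⟨i, hi, -⟩ := Set.mem_iUnion₂.mp this
    exact ⟨i, Set.mem_iUnion.mpr ⟨0, hi⟩⟩
  obtain ⟨f, hf⟩ := h𝒜c.exists_eq_range h𝒜ne
  refine ⟨U, hUclosed, heU, fun n => (f n).1, fun n => (f n).2, ?_⟩
  ext x
  simp only [U, TopologicalSpace.Opens.coe_mk, Set.mem_iUnion]
  constructor
  · rintro ⟨n, hx⟩
    rw [hs n] at hx
    obtain ⟨i, hi, hxi⟩ := Set.mem_iUnion₂.mp hx
    have : i ∈ 𝒜 := Set.mem_iUnion.mpr ⟨n, hi⟩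
    rw [hf] at this
    obtain ⟨m, rfl⟩ := this
    exact ⟨m, hxi⟩
  · rintro ⟨m, hx⟩
    have : f m ∈ 𝒜 := by rw [hf]; exact ⟨m, rfl⟩
    obtain ⟨n, hn⟩ := Set.mem_iUnion.mp this
    refine ⟨n, ?_⟩
    rw [hs n]
    exact Set.mem_iUnion₂.mpr ⟨f m, hn, hx⟩

end Main

end Groth.Agent.Lib.Helper8.GCU
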