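import Mathlib
import Groth.Prelude.Def_W4c5flasquetoriphsGLat

set_option backward.isDefEq.respectTransparency.types false
set_option autoImplicit false
set_option linter.unusedSectionVars false
set_option linter.style.haveILetI false

namespace Groth.Agent.Lib.Helper8.GL1

/-- `H¹` of a permutation module vanishes (finite group): explicit form on functions. -/
theorem perm_cocycle {H X : Type*} [Group H] [Finite H] [MulAction H X]
    (f : H → X → ℤ) (hf : ∀ a b x, f (a * b) x = f a x + f b (a⁻¹ • x)) :
    ∃ m : X → ℤ, ∀ a x, f a x = m (a⁻¹ • x) - m x := by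
  have h1 : ∀ x, f 1 x = 0 := by
    intro x
    have := hf 1 1 x
    simp only [mul_one, inv_one, one_smul] at this
    linarith
  have hstab : ∀ x (s : H), s • x = x → f s x = 0 := by
    intro x s hs
    have hs' : s⁻¹ • x = x := by rw [inv_smul_eq_iff, hs]
    have hpow : ∀ n : ℕ, f (s ^ n) x = n * f s x := by
      intro n
      induction n with
      | zero => simp [h1]
      | succ n ih =>
        rw [pow_succ', hf, hs', ih]
        push_cast; ring
    have hpos : 0 < orderOf s := orderOf_pos s
    have := hpow (orderOf s)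
    rw [pow_orderOf_eq_one, h1] at this
    have h2 : ((orderOf s : ℕ) : ℤ) ≠ 0 := by exact_mod_cast hpos.ne'
    rcases mul_eq_zero.mp this.symm with h | h
    · exact absurd h h2
    · exact h
  let r : X → X := fun x => (Quotient.mk (MulAction.orbitRel H X) x).out
  have hr : ∀ x, ∃ c : H, c • x = r x := by
    intro x
    have h : (MulAction.orbitRel H X) (r x) x := Quotient.exact (Quotient.out_eq _)
    rw [MulAction.orbitRel_apply] at h
    obtain ⟨c, hc⟩ := h
    exact ⟨c, hc⟩
  have hr2 : ∀ (a : H) x, r (a • x) = r x := by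
    intro a x
    have : Quotient.mk (MulAction.orbitRel H X) (a • x) = Quotient.mk (MulAction.orbitRel H X) x := by
      apply Quotient.sound
      show (MulAction.orbitRel H X) (a • x) x
      rw [MulAction.orbitRel_apply]
      exact ⟨a, rfl⟩
    simp only [r, this]
  choose c hc using hr
  have hcinv : ∀ x, (c x)⁻¹ • r x = x := fun x => by rw [inv_smul_eq_iff, hc]
  let m : X → ℤ := fun x => f (c x) (r x)
  have indep : ∀ x (c' : H), c' • x = r x → f c' (r x) = m x := by
    intro x c' hc'
    set s : H := c' * (c x)⁻¹ with hs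
    have hsx : s • r x = r x := by
      rw [hs, mul_smul, hcinv, hc']
    have hsx' : s⁻¹ • r x = r x := by rw [inv_smul_eq_iff, hsx]
    have hc'eq : c' = s * c x := by rw [hs, inv_mul_cancel_right]
    rw [hc'eq, hf, hstab _ _ hsx, hsx', zero_add]
  refine ⟨m, fun a x => ?_⟩
  have e1 := hf (c x) a (r x)
  rw [hcinv] at e1
  have e2 : (c x * a) • (a⁻¹ • x) = r (a⁻¹ • x) := by
    rw [mul_smul, smul_inv_smul, hc, hr2]
  have e3 := indep (a⁻¹ • x) (c x * a) e2
  rw [hr2] at e3
  rw [e3] at e1
  show f a x = m (a⁻¹ • x) - f (c x) (r x)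
  linarith

end Groth.Agent.Lib.Helper8.GL1
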