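import Mathlib
import Groth.Prelude.Def_W4c5flasquetoriphsGLat
import Groth.Agent.Lib.Helper8.GL1

set_option backward.isDefEq.respectTransparency.types false
set_option autoImplicit false
set_option linter.unusedSectionVars false
set_option linter.style.haveILetI false

namespace Groth.Agent.Lib.Helper8.GL2

open Groth.Agent.Lib.Helper8.GL1

section perm

variable (G : Type) [Group G] (X : Type) [MulAction G X]

/-- permutation representation on functions -/
def permRep : Representation ℤ G (X → ℤ) where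
  toFun g := LinearMap.funLeft ℤ ℤ (fun x => g⁻¹ • x)
  map_one' := by
    ext φ x
    simp [LinearMap.funLeft]
  map_mul' g h := by
    ext φ x
    simp [LinearMap.funLeft, mul_smul]

theorem permRep_apply (g : G) (φ : X → ℤ) (x : X) : permRep G X g φ x = φ (g⁻¹ • x) := rfl

theorem permRep_single [DecidableEq X] (g : G) (x : X) :
    permRep G X g (Pi.single x 1) = Pi.single (g • x) 1 := by
  funext y
  rw [permRep_apply]
  by_cases h : y = g • x
  · subst h
    simp
  · rw [Pi.single_apply, Pi.single_apply, if_neg h, if_neg]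
    intro h'
    apply h
    rw [← h', smul_inv_smul]

theorem isPermutation_permRep [Finite X] : GLat.IsPermutation (permRep G X) := by
  classical
  refine ⟨X, Pi.basisFun ℤ X, fun g x => ⟨g • x, ?_⟩⟩
  rw [Pi.basisFun_apply, Pi.basisFun_apply]
  exact permRep_single G X g x

/-- `H¹(H, ℤ[X]) = 0` for finite `G` -/
theorem permRep_cocycle [Finite G] (H : Subgroup G) (f : H → (X → ℤ))
    (hf : ∀ a b : H, f (a * b) = f a + permRep G X (a : G) (f b)) :
    ∃ m : X → ℤ, ∀ a : H, f a = permRep G X (a : G) m - m := by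
  obtain ⟨m, hm⟩ := perm_cocycle (H := H) (X := X) (fun a x => f a x) (fun a b x => by
    have := congrFun (hf a b) x
    rw [Pi.add_apply, permRep_apply] at this
    exact this)
  refine ⟨m, fun a => ?_⟩
  funext x
  rw [Pi.sub_apply, permRep_apply]
  exact hm a x

end perm

section main

variable (G : Type) [Group G] [Finite G]
  (A : Type) [AddCommGroup A] [Module.Finite ℤ A] (ρ : Representation ℤ G A)

/-- `H`-invariants -/
def inv (H : Subgroup G) : Submodule ℤ A where
  carrier := {a | ∀ h ∈ H, ρ h a = a}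
  add_mem' := by
    intro a b ha hb h hh
    rw [map_add, ha h hh, hb h hh]
  zero_mem' := by
    intro h _
    rw [map_zero]
  smul_mem' := by
    intro c a ha h hh
    rw [map_smul, ha h hh]

theorem exists_gens (H : Subgroup G) : ∃ S : Finset A, Submodule.span ℤ (S : Set A) = inv G A ρ H := by
  have : IsNoetherian ℤ A := inferInstance
  exact (IsNoetherian.noetherian (inv G A ρ H))

/-- chosen generators of the invariants -/
noncomputable def gens (H : Subgroup G) : Finset A := (exists_gens G A ρ H).choose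

theorem span_gens (H : Subgroup G) : Submodule.span ℤ (gens G A ρ H : Set A) = inv G A ρ H :=
  (exists_gens G A ρ H).choose_spec

/-- index set of the permutation cover -/
def XX : Type := Σ H : Subgroup G, (G ⧸ H) × ↥(gens G A ρ H)

instance : Finite (XX G A ρ) := by
  unfold XX
  infer_instance

instance : MulAction G (XX G A ρ) where
  smul g x := ⟨x.1, (g • x.2.1, x.2.2)⟩
  one_smul x := by
    rcases x with ⟨H, c, s⟩
    show (⟨H, ((1 : G) • c, s)⟩ : XX G A ρ) = ⟨H, (c, s)⟩
    rw [one_smul]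
  mul_smul g h x := by
    rcases x with ⟨H, c, s⟩
    show (⟨H, ((g * h) • c, s)⟩ : XX G A ρ) = ⟨H, (g • (h • c), s)⟩
    rw [mul_smul]

/-- constructor -/
def mkX (H : Subgroup G) (c : G ⧸ H) (s : ↥(gens G A ρ H)) : XX G A ρ := ⟨H, (c, s)⟩

theorem smul_mk (g : G) (H : Subgroup G) (c : G ⧸ H) (s : ↥(gens G A ρ H)) :
    g • mkX G A ρ H c s = mkX G A ρ H (g • c) s := rfl

/-- images of the basis -/
noncomputable def vv (x : XX G A ρ) : A := ρ (x.2.1.out) (x.2.2 : A)

theorem gens_inv (H : Subgroup G) (s : ↥(gens G A ρ H)) (h : G) (hh : h ∈ H) :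
    ρ h (s : A) = s := by
  have : (s : A) ∈ inv G A ρ H := by
    rw [← span_gens]
    exact Submodule.subset_span s.2
  exact this h hh

theorem vv_mk (H : Subgroup G) (g : G) (s : ↥(gens G A ρ H)) :
    vv G A ρ (mkX G A ρ H (g : G ⧸ H) s) = ρ g (s : A) := by
  unfold vv
  obtain ⟨h, hh⟩ := QuotientGroup.mk_out_eq_mul H g
  show ρ ((g : G ⧸ H).out) (s : A) = ρ g (s : A)
  rw [hh, map_mul, Module.End.mul_apply, gens_inv G A ρ H s h h.2]

theorem vv_smul (g : G) (x : XX G A ρ) : vv G A ρ (g • x) = ρ g (vv G A ρ x) := by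
  rcases x with ⟨H, c, s⟩
  induction c using QuotientGroup.induction_on with
  | H g' =>
    show vv G A ρ (g • mkX G A ρ H (g' : G ⧸ H) s) = ρ g (vv G A ρ (mkX G A ρ H (g' : G ⧸ H) s))
    rw [smul_mk]
    have : g • (g' : G ⧸ H) = ((g * g' : G) : G ⧸ H) := rfl
    rw [this, vv_mk, vv_mk, map_mul, Module.End.mul_apply]

noncomputable instance : Fintype (XX G A ρ) := Fintype.ofFinite _

/-- the cover `P → A` -/
noncomputable def pp : (XX G A ρ → ℤ) →ₗ[ℤ] A := Fintype.linearCombination ℤ (vv G A ρ)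

theorem pp_apply (φ : XX G A ρ → ℤ) : pp G A ρ φ = ∑ x, φ x • vv G A ρ x := by
  rw [pp, Fintype.linearCombination_apply]

theorem pp_equivariant : GLat.IsEquivariant (permRep G (XX G A ρ)) ρ (pp G A ρ) := by
  intro g φ
  rw [pp_apply, pp_apply, map_sum]
  rw [← Equiv.sum_comp (MulAction.toPerm g)]
  refine Finset.sum_congr rfl fun x _ => ?_
  rw [permRep_apply, MulAction.toPerm_apply, inv_smul_smul, vv_smul, map_smul]

/-- lifting invariants -/
theorem exists_lift_inv (H : Subgroup G) (a : A) (ha : a ∈ inv G A ρ H) :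
    ∃ p : XX G A ρ → ℤ, (∀ h ∈ H, permRep G (XX G A ρ) h p = p) ∧ pp G A ρ p = a := by
  classical
  rw [← span_gens] at ha
  induction ha using Submodule.span_induction with
  | mem s hs =>
    refine ⟨Pi.single (mkX G A ρ H ((1 : G) : G ⧸ H) ⟨s, hs⟩) 1, fun h hh => ?_, ?_⟩
    · rw [permRep_single, smul_mk]
      have : h • (((1 : G) : G ⧸ H)) = ((1 : G) : G ⧸ H) := by
        show ((h * 1 : G) : G ⧸ H) = ((1 : G) : G ⧸ H)
        rw [QuotientGroup.eq]
        simpa using H.inv_mem hh
      rw [this]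
    · rw [pp_apply, Finset.sum_eq_single (mkX G A ρ H ((1 : G) : G ⧸ H) ⟨s, hs⟩)]
      · rw [Pi.single_eq_same, one_smul, vv_mk, map_one, Module.End.one_apply]
      · intro b _ hb
        rw [Pi.single_eq_of_ne hb, zero_smul]
      · intro h
        exact absurd (Finset.mem_univ _) h
  | zero => exact ⟨0, fun h _ => map_zero _, map_zero _⟩
  | add x y _ _ hx hy =>
    obtain ⟨p, hp1, hp2⟩ := hx
    obtain ⟨q, hq1, hq2⟩ := hy
    exact ⟨p + q, fun h hh => by rw [map_add, hp1 h hh, hq1 h hh], by rw [map_add, hp2, hq2]⟩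
  | smul c x _ hx =>
    obtain ⟨p, hp1, hp2⟩ := hx
    exact ⟨c • p, fun h hh => by rw [map_smul, hp1 h hh], by rw [map_smul, hp2]⟩

theorem pp_surjective : Function.Surjective (pp G A ρ) := by
  intro a
  obtain ⟨p, _, hp⟩ := exists_lift_inv G A ρ ⊥ a (by
    intro h hh
    rw [Subgroup.mem_bot] at hh
    rw [hh, map_one, Module.End.one_apply])
  exact ⟨p, hp⟩

theorem ker_stable (g : G) : LinearMap.ker (pp G A ρ) ≤
    (LinearMap.ker (pp G A ρ)).comap (permRep G (XX G A ρ) g) := by
  intro p hp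
  rw [Submodule.mem_comap, LinearMap.mem_ker, pp_equivariant G A ρ g p, LinearMap.mem_ker.mp hp,
    map_zero]

/-- representation on the kernel -/
noncomputable def kerRep : Representation ℤ G (LinearMap.ker (pp G A ρ)) where
  toFun g := (permRep G (XX G A ρ) g).restrict (ker_stable G A ρ g)
  map_one' := by
    ext p
    simp
  map_mul' g h := by
    ext p
    simp

theorem kerRep_coe (g : G) (q : LinearMap.ker (pp G A ρ)) :
    ((kerRep G A ρ g q : LinearMap.ker (pp G A ρ)) : XX G A ρ → ℤ) =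
      permRep G (XX G A ρ) g (q : XX G A ρ → ℤ) := rfl

theorem isCoflasque_kerRep : GLat.IsCoflasque (kerRep G A ρ) := by
  intro H f hf
  obtain ⟨p, hp⟩ := permRep_cocycle G (XX G A ρ) H (fun a => (f a : XX G A ρ → ℤ)) (fun a b => by
    have := congrArg (Subtype.val) (hf a b)
    rw [Submodule.coe_add, kerRep_coe] at this
    exact this)
  have hinv : pp G A ρ p ∈ inv G A ρ H := by
    intro h hh
    have h1 := hp ⟨h, hh⟩
    have h2 : pp G A ρ ((f ⟨h, hh⟩ : LinearMap.ker (pp G A ρ)) : XX G A ρ → ℤ) = 0 :=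
      (f ⟨h, hh⟩).2
    rw [h1, map_sub, pp_equivariant G A ρ h p, sub_eq_zero] at h2
    exact h2
  obtain ⟨p', hp'1, hp'2⟩ := exists_lift_inv G A ρ H _ hinv
  have hq : p - p' ∈ LinearMap.ker (pp G A ρ) := by
    rw [LinearMap.mem_ker, map_sub, hp'2, sub_self]
  refine ⟨⟨p - p', hq⟩, fun a => ?_⟩
  apply Subtype.ext
  rw [Submodule.coe_sub, kerRep_coe]
  show (f a : XX G A ρ → ℤ) = permRep G (XX G A ρ) (a : G) (p - p') - (p - p')
  rw [map_sub, hp'1 a a.2, hp a]
  abel

theorem main675 :
    ∃ (Q : Type) (_ : AddCommGroup Q) (P : Type) (_ : AddCommGroup P)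
      (_ : Module.Finite ℤ Q) (_ : Module.Free ℤ Q) (_ : Module.Finite ℤ P) (_ : Module.Free ℤ P)
      (σ : Representation ℤ G Q) (τ : Representation ℤ G P) (i : Q →ₗ[ℤ] P) (π : P →ₗ[ℤ] A),
      GLat.IsEquivariant σ τ i ∧ GLat.IsEquivariant τ ρ π ∧ Function.Injective i ∧ Function.Surjective π ∧
      LinearMap.range i = LinearMap.ker π ∧ GLat.IsPermutation τ ∧ GLat.IsCoflasque σ := by
  refine ⟨LinearMap.ker (pp G A ρ), inferInstance, XX G A ρ → ℤ, inferInstance, inferInstance,
    inferInstance, inferInstance, inferInstance, kerRep G A ρ, permRep G (XX G A ρ),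
    (LinearMap.ker (pp G A ρ)).subtype, pp G A ρ, ?_, pp_equivariant G A ρ,
    Submodule.subtype_injective _, pp_surjective G A ρ, Submodule.range_subtype _,
    isPermutation_permRep G _, isCoflasque_kerRep G A ρ⟩
  intro g q
  rfl

end main

end Groth.Agent.Lib.Helper8.GL2
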