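import Mathlib
import Groth.Prelude.Def_W4c5flasquetoriphsGLat
import Groth.Agent.Lib.Helper8.GL1

set_option backward.isDefEq.respectTransparency.types false
set_option autoImplicit false
set_option linter.unusedSectionVars false
set_option linter.style.haveILetI false

namespace Groth.Agent.Lib.Helper8.GL3

open Groth.Agent.Lib.Helper8.GL1

/-- lift a character of a free abelian group to `ℚ` -/
theorem lift_char {F : Type*} [AddCommGroup F] [Module.Free ℤ F] (ψ : F →+ AddCircle (1 : ℚ)) :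
    ∃ l : F →ₗ[ℤ] ℚ, ∀ x, ((l x : ℚ) : AddCircle (1 : ℚ)) = ψ x := by
  let b := Module.Free.chooseBasis ℤ F
  have hs : ∀ i, ∃ q : ℚ, (q : AddCircle (1 : ℚ)) = ψ (b i) :=
    fun i => QuotientAddGroup.mk_surjective _
  choose q hq using hs
  refine ⟨b.constr ℤ q, fun x => ?_⟩
  have : ((QuotientAddGroup.mk' (AddSubgroup.zmultiples (1 : ℚ))).toIntLinearMap ∘ₗ
      (b.constr ℤ q)) = ψ.toIntLinearMap := by
    apply b.ext
    intro i
    rw [LinearMap.comp_apply, Module.Basis.constr_basis]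
    exact hq i
  exact LinearMap.congr_fun this x

/-- an integer-valued linear map to `ℚ` is a functional -/
theorem int_valued {F : Type*} [AddCommGroup F] [Module.Free ℤ F] (κ : F →ₗ[ℤ] ℚ)
    (h : ∀ x, ∃ z : ℤ, κ x = z) :
    ∃ μ : F →ₗ[ℤ] ℤ, ∀ x, ((μ x : ℤ) : ℚ) = κ x := by
  let b := Module.Free.chooseBasis ℤ F
  choose z hz using fun i => h (b i)
  refine ⟨b.constr ℤ z, fun x => ?_⟩
  have : ((Int.castAddHom ℚ).toIntLinearMap ∘ₗ (b.constr ℤ z)) = κ := by
    apply b.ext
    intro i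
    rw [LinearMap.comp_apply, Module.Basis.constr_basis, hz i]
    rfl
  exact LinearMap.congr_fun this x

theorem coe_eq_zero_iff_int (q : ℚ) : ((q : ℚ) : AddCircle (1 : ℚ)) = 0 ↔ ∃ z : ℤ, q = z := by
  rw [AddCircle.coe_eq_zero_iff]
  constructor
  · rintro ⟨n, hn⟩
    exact ⟨n, by rw [← hn]; simp⟩
  · rintro ⟨n, hn⟩
    exact ⟨n, by rw [hn]; simp⟩

section aug

variable {G : Type*} [Group G] {M : Type*} [AddCommGroup M] (ρ : Representation ℤ G M)

/-- the augmentation submodule `I_H M` -/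
def aug (H : Subgroup G) : Submodule ℤ M :=
  Submodule.span ℤ {x : M | ∃ (h : H) (y : M), x = ρ (h : G) y - y}

theorem isFlasque_iff : GLat.IsFlasque ρ ↔
    ∀ (H : Subgroup G) (m : M), (∑ᶠ h : H, ρ (h : G) m) = 0 → m ∈ aug ρ H := Iff.rfl

theorem sub_mem_aug (H : Subgroup G) (h : H) (y : M) : ρ (h : G) y - y ∈ aug ρ H :=
  Submodule.subset_span ⟨h, y, rfl⟩

variable [Finite G]

theorem card_smul_sub_norm_mem (H : Subgroup G) (m : M) :
    (Nat.card H) • m - (∑ᶠ h : H, ρ (h : G) m) ∈ aug ρ H := by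
  haveI : Fintype H := Fintype.ofFinite _
  rw [finsum_eq_sum_of_fintype, Nat.card_eq_fintype_card]
  have : (Fintype.card H) • m - ∑ h : H, ρ (h : G) m = ∑ h : H, -(ρ (h : G) m - m) := by
    rw [Finset.sum_neg_distrib, Finset.sum_sub_distrib, Finset.sum_const, Finset.card_univ]
    abel
  rw [this]
  exact Submodule.sum_mem _ fun h _ => Submodule.neg_mem _ (sub_mem_aug ρ H h m)

theorem norm_eq_zero_of_mem_aug (H : Subgroup G) (x : M) (hx : x ∈ aug ρ H) :
    (∑ᶠ h : H, ρ (h : G) x) = 0 := by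
  haveI : Fintype H := Fintype.ofFinite _
  rw [finsum_eq_sum_of_fintype]
  induction hx using Submodule.span_induction with
  | mem x hx =>
    obtain ⟨h₀, y, rfl⟩ := hx
    simp only [map_sub]
    rw [Finset.sum_sub_distrib, sub_eq_zero]
    have h2 : ∑ h : H, ρ ((h * h₀ : H) : G) y = ∑ h : H, ρ (h : G) y :=
      Equiv.sum_comp (Equiv.mulRight h₀) (fun h : H => ρ (h : G) y)
    rw [← h2]
    refine Finset.sum_congr rfl fun h _ => ?_
    rw [Subgroup.coe_mul, map_mul, Module.End.mul_apply]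
  | zero => simp
  | add x y _ _ hx hy => simp only [map_add]; rw [Finset.sum_add_distrib, hx, hy, add_zero]
  | smul c x _ hx => simp only [map_smul]; rw [← Finset.smul_sum, hx, smul_zero]

end aug

section duality

variable {G : Type*} [Group G] [Finite G] {N : Type*} [AddCommGroup N] [Module.Finite ℤ N]
  [Module.Free ℤ N] (ν : Representation ℤ G N)

theorem dual_apply' (g : G) (μ : Module.Dual ℤ N) (x : N) : ν.dual g μ x = μ (ν g⁻¹ x) := rfl

/-- if the dual lattice is coflasque, the lattice is flasque -/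
theorem flasque_of_dual_coflasque (hco : GLat.IsCoflasque ν.dual) : GLat.IsFlasque ν := by
  intro H n hn
  by_contra hnot
  change n ∉ aug ν H at hnot
  have hne : (aug ν H).mkQ n ≠ 0 := by
    rwa [Ne, Submodule.mkQ_apply, Submodule.Quotient.mk_eq_zero]
  obtain ⟨χ, hχ⟩ := CharacterModule.exists_character_apply_ne_zero_of_ne_zero hne
  let ψ : N →+ AddCircle (1 : ℚ) :=
    (show (N ⧸ aug ν H) →+ AddCircle (1 : ℚ) from χ).comp (aug ν H).mkQ.toAddMonoidHom
  have hψ : ∀ x, ψ x = χ ((aug ν H).mkQ x) := fun x => rfl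
  obtain ⟨l, hl⟩ := lift_char ψ
  have hψinv : ∀ (a : H) x, ψ (ν ((a : G)⁻¹) x) = ψ x := by
    intro a x
    rw [hψ, hψ]
    congr 1
    rw [Submodule.mkQ_apply, Submodule.mkQ_apply, Submodule.Quotient.eq]
    have := sub_mem_aug ν H a⁻¹ x
    simpa using this
  have hint : ∀ (a : H) x, ∃ z : ℤ, (l.comp (ν ((a : G)⁻¹)) - l) x = z := by
    intro a x
    rw [← coe_eq_zero_iff_int, LinearMap.sub_apply, LinearMap.comp_apply]
    have h1 : ((l (ν ((a : G)⁻¹) x) - l x : ℚ) : AddCircle (1 : ℚ)) =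
        (l (ν ((a : G)⁻¹) x) : AddCircle (1 : ℚ)) - (l x : AddCircle (1 : ℚ)) := rfl
    rw [h1, hl, hl, hψinv, sub_self]
  choose f hf using fun a => int_valued _ (hint a)
  have hcoc : ∀ a b : H, f (a * b) = f a + ν.dual (a : G) (f b) := by
    intro a b
    apply LinearMap.ext
    intro x
    apply Int.cast_injective (α := ℚ)
    rw [LinearMap.add_apply, dual_apply']
    push_cast
    rw [hf, hf, hf]
    simp only [LinearMap.sub_apply, LinearMap.comp_apply, Subgroup.coe_mul, mul_inv_rev, map_mul,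
      Module.End.mul_apply]
    ring
  obtain ⟨μ, hμ⟩ := hco H f hcoc
  -- invariant rational functional
  let κ : N →ₗ[ℤ] ℚ := l - (Int.castAddHom ℚ).toIntLinearMap ∘ₗ μ
  have hκ : ∀ x, κ x = l x - (μ x : ℚ) := fun x => rfl
  have hκinv : ∀ (a : H) x, κ (ν ((a : G)⁻¹) x) = κ x := by
    intro a x
    have h1 := hf a x
    rw [hμ a, LinearMap.sub_apply, dual_apply'] at h1
    simp only [LinearMap.sub_apply, LinearMap.comp_apply] at h1
    push_cast at h1
    rw [hκ, hκ]
    linarith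
  have hκaug : ∀ x ∈ aug ν H, κ x = 0 := by
    intro x hx
    induction hx using Submodule.span_induction with
    | mem x hx =>
      obtain ⟨h₀, y, rfl⟩ := hx
      have := hκinv h₀⁻¹ y
      simp only [Subgroup.coe_inv, inv_inv] at this
      rw [map_sub, this, sub_self]
    | zero => rw [map_zero]
    | add x y _ _ hx hy => rw [map_add, hx, hy, add_zero]
    | smul c x _ hx => rw [map_smul, hx, smul_zero]
  have hcard := card_smul_sub_norm_mem ν H n
  rw [hn, sub_zero] at hcard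
  have h0 := hκaug _ hcard
  rw [map_nsmul, nsmul_eq_mul] at h0
  have hpos : ((Nat.card H : ℕ) : ℚ) ≠ 0 := by
    have : 0 < Nat.card H := Nat.card_pos
    exact_mod_cast this.ne'
  have hκn : κ n = 0 := by
    rcases mul_eq_zero.mp h0 with h | h
    · exact absurd h hpos
    · exact h
  apply hχ
  rw [← hψ, ← hl, coe_eq_zero_iff_int]
  refine ⟨μ n, ?_⟩
  rw [hκ] at hκn
  linarith

/-- if the lattice is flasque, the dual lattice is coflasque -/
theorem dual_coflasque_of_flasque (hfl : GLat.IsFlasque ν) : GLat.IsCoflasque ν.dual := by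
  intro H f hf
  haveI : Fintype H := Fintype.ofFinite _
  have hcardpos : ((Fintype.card H : ℕ) : ℚ) ≠ 0 := by
    have : 0 < Fintype.card H := Fintype.card_pos
    exact_mod_cast this.ne'
  -- averaged rational functional
  let S : N →ₗ[ℤ] ℚ := (Int.castAddHom ℚ).toIntLinearMap ∘ₗ (∑ b : H, f b)
  have hS : ∀ x, S x = ∑ b : H, ((f b x : ℤ) : ℚ) := by
    intro x
    show ((Int.castAddHom ℚ) ((∑ b : H, f b) x)) = _
    rw [LinearMap.sum_apply, map_sum]
    rfl
  let l : N →ₗ[ℤ] ℚ := (-(1 / (Fintype.card H : ℚ))) • S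
  have hl : ∀ x, l x = -(1 / (Fintype.card H : ℚ)) * S x := fun x => rfl
  have hfa : ∀ (a : H) x, l (ν ((a : G)⁻¹) x) - l x = (f a x : ℚ) := by
    intro a x
    rw [hl, hl, hS, hS]
    have h1 : ∀ b : H, ((f b (ν ((a : G)⁻¹) x) : ℤ) : ℚ) = (f (a * b) x : ℚ) - (f a x : ℚ) := by
      intro b
      have := LinearMap.congr_fun (hf a b) x
      rw [LinearMap.add_apply, dual_apply'] at this
      rw [this]; push_cast; ring
    rw [Finset.sum_congr rfl fun b _ => h1 b, Finset.sum_sub_distrib, Finset.sum_const,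
      Finset.card_univ, nsmul_eq_mul]
    have h2 : ∑ b : H, ((f (a * b) x : ℤ) : ℚ) = ∑ b : H, ((f b x : ℤ) : ℚ) :=
      Equiv.sum_comp (Equiv.mulLeft a) (fun b => ((f b x : ℤ) : ℚ))
    rw [h2]
    field_simp
    ring
  -- the character ψ = l mod ℤ is H-invariant
  let ψ : N →+ AddCircle (1 : ℚ) :=
    (QuotientAddGroup.mk' (AddSubgroup.zmultiples (1 : ℚ))).comp l.toAddMonoidHom
  have hψ : ∀ x, ψ x = ((l x : ℚ) : AddCircle (1 : ℚ)) := fun x => rfl
  have hψinv : ∀ (a : H) x, ψ (ν ((a : G)⁻¹) x) = ψ x := by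
    intro a x
    rw [hψ, hψ, ← sub_eq_zero]
    have h1 : ((l (ν ((a : G)⁻¹) x) : ℚ) : AddCircle (1 : ℚ)) - ((l x : ℚ) : AddCircle (1 : ℚ)) =
        ((l (ν ((a : G)⁻¹) x) - l x : ℚ) : AddCircle (1 : ℚ)) := rfl
    rw [h1, hfa, coe_eq_zero_iff_int]
    exact ⟨_, rfl⟩
  have hψaug : ∀ x ∈ aug ν H, ψ x = 0 := by
    intro x hx
    induction hx using Submodule.span_induction with
    | mem x hx =>
      obtain ⟨h₀, y, rfl⟩ := hx
      have := hψinv h₀⁻¹ y
      simp only [Subgroup.coe_inv, inv_inv] at this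
      rw [map_sub, this, sub_self]
    | zero => rw [map_zero]
    | add x y _ _ hx hy => rw [map_add, hx, hy, add_zero]
    | smul c x _ hx => rw [map_zsmul, hx, smul_zero]
  -- the quotient C = N / I_H N is torsion free, hence free
  let C := N ⧸ aug ν H
  haveI : Module.IsTorsionFree ℤ C := by
    apply Module.IsTorsionFree.of_smul_eq_zero
    intro t c htc
    by_cases ht : t = 0
    · exact Or.inl ht
    right
    obtain ⟨x, rfl⟩ := Submodule.Quotient.mk_surjective _ c
    rw [← Submodule.Quotient.mk_smul, Submodule.Quotient.mk_eq_zero] at htc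
    rw [Submodule.Quotient.mk_eq_zero]
    apply hfl H x
    have h1 := norm_eq_zero_of_mem_aug ν H _ htc
    rw [finsum_eq_sum_of_fintype] at h1 ⊢
    simp only [map_smul] at h1
    rw [← Finset.smul_sum] at h1
    rcases smul_eq_zero.mp h1 with h | h
    · exact absurd h ht
    · exact h
  haveI : Module.Free ℤ C := inferInstance
  -- ψ descends to C and lifts to ℚ
  let ψC : C →+ AddCircle (1 : ℚ) :=
    QuotientAddGroup.lift (aug ν H).toAddSubgroup ψ (fun x hx => hψaug x hx)
  have hψC : ∀ x, ψC ((aug ν H).mkQ x) = ψ x := fun x => rfl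
  obtain ⟨kC, hkC⟩ := lift_char ψC
  let k : N →ₗ[ℤ] ℚ := kC ∘ₗ (aug ν H).mkQ
  have hk : ∀ x, ((k x : ℚ) : AddCircle (1 : ℚ)) = ψ x := fun x => by
    rw [← hψC]; exact hkC _
  have hkinv : ∀ (a : H) x, k (ν ((a : G)⁻¹) x) = k x := by
    intro a x
    show kC ((aug ν H).mkQ _) = kC ((aug ν H).mkQ _)
    congr 1
    rw [Submodule.mkQ_apply, Submodule.mkQ_apply, Submodule.Quotient.eq]
    have := sub_mem_aug ν H a⁻¹ x
    simpa using this
  have hint : ∀ x, ∃ z : ℤ, (l - k) x = z := by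
    intro x
    rw [← coe_eq_zero_iff_int, LinearMap.sub_apply]
    have h1 : ((l x - k x : ℚ) : AddCircle (1 : ℚ)) =
        ((l x : ℚ) : AddCircle (1 : ℚ)) - ((k x : ℚ) : AddCircle (1 : ℚ)) := rfl
    rw [h1, hk, hψ, sub_self]
  obtain ⟨μ, hμ⟩ := int_valued _ hint
  refine ⟨μ, fun a => ?_⟩
  apply LinearMap.ext
  intro x
  apply Int.cast_injective (α := ℚ)
  rw [LinearMap.sub_apply, dual_apply']
  push_cast
  rw [hμ, hμ, ← hfa a x]
  simp only [LinearMap.sub_apply]
  rw [hkinv]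
  ring

end duality

end Groth.Agent.Lib.Helper8.GL3
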