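import Mathlib
import Groth.Prelude.Def_W4c5flasquetoriphsGLat
import Groth.Agent.Lib.Helper8.GL1
import Groth.Agent.Lib.Helper8.GL3

set_option backward.isDefEq.respectTransparency.types false
set_option autoImplicit false
set_option linter.unusedSectionVars false
set_option linter.style.haveILetI false

namespace Groth.Agent.Lib.Helper8.GL4

open Groth.Agent.Lib.Helper8.GL1 Groth.Agent.Lib.Helper8.GL3

section transport

variable {G : Type*} [Group G] {M N : Type*} [AddCommGroup M] [AddCommGroup N]
  (ρ : Representation ℤ G M) (σ : Representation ℤ G N)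

theorem equivariant_symm (e : M ≃ₗ[ℤ] N) (he : GLat.IsEquivariant ρ σ e.toLinearMap) :
    GLat.IsEquivariant σ ρ e.symm.toLinearMap := by
  intro g n
  apply e.injective
  have := he g (e.symm n)
  simp only [LinearEquiv.coe_coe, LinearEquiv.apply_symm_apply] at this ⊢
  exact this.symm

theorem coflasque_of_equiv (e : M ≃ₗ[ℤ] N) (he : GLat.IsEquivariant ρ σ e.toLinearMap)
    (h : GLat.IsCoflasque ρ) : GLat.IsCoflasque σ := by
  intro H f hf
  have hes := equivariant_symm ρ σ e he
  obtain ⟨m, hm⟩ := h H (fun a => e.symm (f a)) (fun a b => by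
    show e.symm (f (a * b)) = e.symm (f a) + ρ (a : G) (e.symm (f b))
    rw [hf, map_add]
    congr 1
    exact hes (a : G) (f b))
  refine ⟨e m, fun a => ?_⟩
  have := congrArg e (hm a)
  simp only [LinearEquiv.apply_symm_apply, map_sub] at this
  rw [this]
  congr 1
  exact he (a : G) m

theorem flasque_of_equiv [Finite G] (e : M ≃ₗ[ℤ] N) (he : GLat.IsEquivariant ρ σ e.toLinearMap)
    (h : GLat.IsFlasque ρ) : GLat.IsFlasque σ := by
  intro H n hn
  haveI : Fintype H := Fintype.ofFinite _
  have hes := equivariant_symm ρ σ e he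
  have h1 : (∑ᶠ a : H, ρ (a : G) (e.symm n)) = 0 := by
    rw [finsum_eq_sum_of_fintype] at hn ⊢
    have h2 : ∀ a : H, ρ (a : G) (e.symm n) = e.symm (σ (a : G) n) := fun a => (hes (a : G) n).symm
    simp only [h2]
    rw [← map_sum, hn, map_zero]
  have h3 := h H _ h1
  have h4 : e (e.symm n) ∈ (aug ρ H).map e.toLinearMap := Submodule.mem_map_of_mem h3
  rw [LinearEquiv.apply_symm_apply] at h4
  have h5 : (aug ρ H).map e.toLinearMap ≤ aug σ H := by
    rw [aug, Submodule.map_span, Submodule.span_le]
    rintro _ ⟨x, ⟨a, y, rfl⟩, rfl⟩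
    have : e.toLinearMap (ρ (a : G) y - y) = σ (a : G) (e y) - e y := by
      rw [map_sub]
      congr 1
      exact he (a : G) y
    rw [this]
    exact sub_mem_aug σ H a (e y)
  exact h5 h4

end transport

section perm

variable {G : Type*} [Group G] [Finite G] {P : Type*} [AddCommGroup P] [Module.Finite ℤ P]
  (τ : Representation ℤ G P)

theorem coflasque_of_permutation (hp : GLat.IsPermutation τ) : GLat.IsCoflasque τ := by
  classical
  obtain ⟨ι, b, hperm⟩ := hp
  haveI : Finite ι := Module.Finite.finite_basis b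
  haveI : Fintype ι := Fintype.ofFinite _
  choose act hact using hperm
  have hone : ∀ i, act 1 i = i := by
    intro i
    apply b.injective
    rw [← hact, map_one, Module.End.one_apply]
  have hmul : ∀ g h i, act (g * h) i = act g (act h i) := by
    intro g h i
    apply b.injective
    rw [← hact, map_mul, Module.End.mul_apply, hact, hact]
  letI : MulAction G ι := { smul := act, one_smul := hone, mul_smul := hmul }
  have hsmul : ∀ (g : G) i, g • i = act g i := fun g i => rfl
  have hrepr : ∀ (g : G) (p : P) (j : ι), b.repr (τ g p) j = b.repr p (g⁻¹ • j) := by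
    intro g p j
    have : (Finsupp.lapply j ∘ₗ b.repr.toLinearMap ∘ₗ τ g : P →ₗ[ℤ] ℤ) =
        Finsupp.lapply (g⁻¹ • j) ∘ₗ b.repr.toLinearMap := by
      apply b.ext
      intro i
      simp only [LinearMap.comp_apply, LinearEquiv.coe_coe, Finsupp.lapply_apply]
      rw [hact, Module.Basis.repr_self, Module.Basis.repr_self, Finsupp.single_apply,
        Finsupp.single_apply, ← hsmul]
      congr 1
      rw [eq_iff_iff, eq_inv_smul_iff]
    exact LinearMap.congr_fun this p
  intro H f hf
  obtain ⟨m, hm⟩ := perm_cocycle (H := H) (X := ι) (fun a j => b.repr (f a) j) (fun a c j => by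
    show b.repr (f (a * c)) j = b.repr (f a) j + b.repr (f c) (a⁻¹ • j)
    rw [hf, map_add, Finsupp.add_apply, hrepr]
    rfl)
  refine ⟨b.equivFun.symm m, fun a => ?_⟩
  apply b.repr.injective
  ext j
  rw [map_sub, Finsupp.sub_apply, hrepr]
  have h1 : ∀ i, b.repr (b.equivFun.symm m) i = m i := by
    intro i
    have := congrFun (b.equivFun.apply_symm_apply m) i
    exact this
  rw [h1, h1]
  exact hm a j

theorem dual_permutation (hp : GLat.IsPermutation τ) : GLat.IsPermutation τ.dual := by
  classical
  obtain ⟨ι, b, hperm⟩ := hp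
  haveI : Finite ι := Module.Finite.finite_basis b
  haveI : Fintype ι := Fintype.ofFinite _
  refine ⟨ι, b.dualBasis, fun g i => ?_⟩
  obtain ⟨j, hj⟩ := hperm g i
  refine ⟨j, ?_⟩
  apply b.ext
  intro k
  show (b.dualBasis i) (τ g⁻¹ (b k)) = (b.dualBasis j) (b k)
  obtain ⟨k', hk'⟩ := hperm g⁻¹ k
  rw [hk', Module.Basis.dualBasis_apply_self, Module.Basis.dualBasis_apply_self]
  congr 1
  rw [eq_iff_iff]
  constructor
  · intro h
    subst h
    apply b.injective
    rw [← hj, ← hk', ← Module.End.mul_apply, ← map_mul, mul_inv_cancel, map_one,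
      Module.End.one_apply]
  · intro h
    subst h
    apply b.injective
    rw [← hk', ← hj, ← Module.End.mul_apply, ← map_mul, inv_mul_cancel, map_one,
      Module.End.one_apply]

theorem flasque_of_permutation (hp : GLat.IsPermutation τ) : GLat.IsFlasque τ := by
  haveI : Module.Free ℤ P := by
    obtain ⟨ι, b, _⟩ := hp
    exact Module.Free.of_basis b
  exact flasque_of_dual_coflasque τ (coflasque_of_permutation τ.dual (dual_permutation τ hp))

end perm

end Groth.Agent.Lib.Helper8.GL4
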