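import Mathlib
import Groth.Prelude.Def_W4c5flasquetoriphsGLat
import Groth.Agent.Lib.Helper8.GL2
import Groth.Agent.Lib.Helper8.GL3
import Groth.Agent.Lib.Helper8.GL4

set_option backward.isDefEq.respectTransparency.types false
set_option autoImplicit false
set_option linter.unusedSectionVars false
set_option linter.style.haveILetI false

namespace Groth.Agent.Lib.Helper8.GL5

open Groth.Agent.Lib.Helper8.GL1 Groth.Agent.Lib.Helper8.GL3 Groth.Agent.Lib.Helper8.GL4

section basic

variable {G : Type*} [Group G] {M N : Type*} [AddCommGroup M] [AddCommGroup N]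
  (ρ : Representation ℤ G M) (σ : Representation ℤ G N)

theorem dualMap_equivariant (f : M →ₗ[ℤ] N) (hf : GLat.IsEquivariant ρ σ f) :
    GLat.IsEquivariant σ.dual ρ.dual f.dualMap := by
  intro g μ
  apply LinearMap.ext
  intro x
  show μ (σ g⁻¹ (f x)) = μ (f (ρ g⁻¹ x))
  rw [hf]

theorem eval_equivariant : GLat.IsEquivariant ρ ρ.dual.dual (Module.Dual.eval ℤ M) := by
  intro g a
  apply LinearMap.ext
  intro μ
  show μ (ρ g a) = μ (ρ (g⁻¹)⁻¹ a)
  rw [inv_inv]

theorem comp_equivariant {L : Type*} [AddCommGroup L] (τ : Representation ℤ G L)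
    (f : M →ₗ[ℤ] N) (g : N →ₗ[ℤ] L) (hf : GLat.IsEquivariant ρ σ f)
    (hg : GLat.IsEquivariant σ τ g) : GLat.IsEquivariant ρ τ (g ∘ₗ f) := by
  intro x m
  rw [LinearMap.comp_apply, hf, hg]
  rfl

end basic

section dualseq

variable {G : Type*} [Group G]
  {A Q P : Type*} [AddCommGroup A] [Module.Finite ℤ A] [Module.Free ℤ A]
  [AddCommGroup Q] [AddCommGroup P]
  (ρ : Representation ℤ G A) (σ : Representation ℤ G Q) (τ : Representation ℤ G P)
  (i : Q →ₗ[ℤ] P) (π : P →ₗ[ℤ] Module.Dual ℤ A)

/-- the dual inclusion `A → P^∨` -/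
noncomputable def iD : A →ₗ[ℤ] Module.Dual ℤ P := π.dualMap ∘ₗ Module.Dual.eval ℤ A

theorem iD_apply (a : A) (p : P) : iD π a p = π p a := rfl

variable (hi : GLat.IsEquivariant σ τ i) (hπ : GLat.IsEquivariant τ ρ.dual π)
  (hinj : Function.Injective i) (hsurj : Function.Surjective π)
  (hex : LinearMap.range i = LinearMap.ker π)

include hπ in
theorem iD_equivariant : GLat.IsEquivariant ρ τ.dual (iD π) :=
  comp_equivariant ρ ρ.dual.dual τ.dual _ _ (eval_equivariant ρ)
    (dualMap_equivariant τ ρ.dual π hπ)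

include hsurj in
theorem iD_injective : Function.Injective (iD π) := by
  have h1 : Function.Injective (Module.Dual.eval ℤ A) := (Module.evalEquiv ℤ A).injective
  have h2 : Function.Injective π.dualMap := LinearMap.dualMap_injective_of_surjective hsurj
  exact h2.comp h1

include hinj hsurj hex in
theorem dualMap_surjective : Function.Surjective i.dualMap := by
  obtain ⟨s, hs⟩ := Module.projective_lifting_property π LinearMap.id hsurj
  let T : P →ₗ[ℤ] P := LinearMap.id - s ∘ₗ π
  have hmem : ∀ p, T p ∈ LinearMap.range i := by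
    intro p
    show (LinearMap.id - s ∘ₗ π : P →ₗ[ℤ] P) p ∈ LinearMap.range i
    rw [hex, LinearMap.mem_ker, LinearMap.sub_apply, map_sub, LinearMap.id_apply,
      LinearMap.comp_apply]
    have := LinearMap.congr_fun hs (π p)
    rw [LinearMap.comp_apply, LinearMap.id_apply] at this
    rw [this, sub_self]
  let r : P →ₗ[ℤ] Q := (LinearEquiv.ofInjective i hinj).symm.toLinearMap ∘ₗ
    LinearMap.codRestrict (LinearMap.range i) T hmem
  have hr : ∀ q, r (i q) = q := by
    intro q
    apply hinj
    have h1 : (i (r (i q)) : P) = T (i q) := by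
      show (i ((LinearEquiv.ofInjective i hinj).symm _) : P) = _
      have := (LinearEquiv.ofInjective i hinj).apply_symm_apply
        (LinearMap.codRestrict (LinearMap.range i) T hmem (i q))
      exact congrArg Subtype.val this
    rw [h1]
    show (LinearMap.id - s ∘ₗ π : P →ₗ[ℤ] P) (i q) = i q
    rw [LinearMap.sub_apply, LinearMap.id_apply, LinearMap.comp_apply]
    have : π (i q) = 0 := by
      rw [← LinearMap.mem_ker, ← hex]; exact ⟨q, rfl⟩
    rw [this, map_zero, sub_zero]
  intro μ
  refine ⟨μ ∘ₗ r, ?_⟩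
  apply LinearMap.ext
  intro q
  show μ (r (i q)) = μ q
  rw [hr]

include hsurj hex in
theorem range_iD : LinearMap.range (iD π) = LinearMap.ker i.dualMap := by
  apply le_antisymm
  · rintro _ ⟨a, rfl⟩
    rw [LinearMap.mem_ker]
    apply LinearMap.ext
    intro q
    show π (i q) a = 0
    have : π (i q) = 0 := by
      rw [← LinearMap.mem_ker, ← hex]; exact ⟨q, rfl⟩
    rw [this]; rfl
  · intro ν hν
    rw [LinearMap.mem_ker] at hν
    have hker : LinearMap.ker π ≤ LinearMap.ker ν := by
      rw [← hex]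
      rintro _ ⟨q, rfl⟩
      rw [LinearMap.mem_ker]
      exact LinearMap.congr_fun hν q
    let β : Module.Dual ℤ (Module.Dual ℤ A) :=
      (LinearMap.ker π).liftQ ν hker ∘ₗ (π.quotKerEquivOfSurjective hsurj).symm.toLinearMap
    have hβ : ∀ p, β (π p) = ν p := by
      intro p
      show (LinearMap.ker π).liftQ ν hker ((π.quotKerEquivOfSurjective hsurj).symm (π p)) = ν p
      have : (π.quotKerEquivOfSurjective hsurj).symm (π p) = Submodule.Quotient.mk p := by
        rw [LinearEquiv.symm_apply_eq]
        rfl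
      rw [this]
      rfl
    refine ⟨(Module.evalEquiv ℤ A).symm β, ?_⟩
    apply LinearMap.ext
    intro p
    rw [iD_apply, ← hβ p]
    have := (Module.evalEquiv ℤ A).apply_symm_apply β
    exact LinearMap.congr_fun this (π p)

end dualseq

section main686

variable (G : Type) [Group G] [Finite G]
  (A : Type) [AddCommGroup A] [Module.Finite ℤ A] [Module.Free ℤ A] (ρ : Representation ℤ G A)

theorem main686 :
    ∃ (P : Type) (_ : AddCommGroup P) (F : Type) (_ : AddCommGroup F)
      (_ : Module.Finite ℤ P) (_ : Module.Free ℤ P) (_ : Module.Finite ℤ F) (_ : Module.Free ℤ F)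
      (σ : Representation ℤ G P) (τ : Representation ℤ G F) (i : A →ₗ[ℤ] P) (π : P →ₗ[ℤ] F),
      GLat.IsEquivariant ρ σ i ∧ GLat.IsEquivariant σ τ π ∧ Function.Injective i ∧ Function.Surjective π ∧
      LinearMap.range i = LinearMap.ker π ∧ GLat.IsPermutation σ ∧ GLat.IsFlasque τ := by
  obtain ⟨Q, instQ, P, instP, finQ, freeQ, finP, freeP, σ, τ, i, π, hi, hπ, hinj, hsurj, hex,
    hperm, hco⟩ := GL2.main675 G (Module.Dual ℤ A) ρ.dual
  refine ⟨Module.Dual ℤ P, inferInstance, Module.Dual ℤ Q, inferInstance, inferInstance,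
    inferInstance, inferInstance, inferInstance, τ.dual, σ.dual, iD π, i.dualMap,
    iD_equivariant ρ τ π hπ, dualMap_equivariant σ τ i hi, iD_injective π hsurj,
    dualMap_surjective i π hinj hsurj hex, range_iD i π hsurj hex, dual_permutation τ hperm, ?_⟩
  apply flasque_of_dual_coflasque
  exact coflasque_of_equiv σ σ.dual.dual (Module.evalEquiv ℤ Q) (eval_equivariant σ) hco

end main686

end Groth.Agent.Lib.Helper8.GL5
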