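import Mathlib
import Groth.Prelude.Def_W4c5flasquetoriphsGLat
import Groth.Agent.Lib.Helper8.GL2
import Groth.Agent.Lib.Helper8.GL3
import Groth.Agent.Lib.Helper8.GL4
import Groth.Agent.Lib.Helper8.GL5

set_option backward.isDefEq.respectTransparency.types false
set_option autoImplicit false
set_option linter.unusedSectionVars false
set_option linter.style.haveILetI false

namespace Groth.Agent.Lib.Helper8.GL6

open Groth.Agent.Lib.Helper8.GL1 Groth.Agent.Lib.Helper8.GL3 Groth.Agent.Lib.Helper8.GL4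
  Groth.Agent.Lib.Helper8.GL5

section ext

variable {G : Type*} [Group G] [Finite G] {M' M M'' : Type*} [AddCommGroup M'] [AddCommGroup M]
  [AddCommGroup M''] (ρ' : Representation ℤ G M') (ρ : Representation ℤ G M)
  (ρ'' : Representation ℤ G M'') (u : M' →ₗ[ℤ] M) (v : M →ₗ[ℤ] M'')
  (hu : GLat.IsEquivariant ρ' ρ u) (hv : GLat.IsEquivariant ρ ρ'' v)
  (hinj : Function.Injective u) (hsurj : Function.Surjective v)
  (hex : LinearMap.range u = LinearMap.ker v)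

include hu in
theorem map_aug_le (H : Subgroup G) : (aug ρ' H).map u ≤ aug ρ H := by
  rw [aug, Submodule.map_span, Submodule.span_le]
  rintro _ ⟨x, ⟨a, y, rfl⟩, rfl⟩
  have : u (ρ' (a : G) y - y) = ρ (a : G) (u y) - u y := by
    rw [map_sub, hu]
  rw [this]
  exact sub_mem_aug ρ H a (u y)

include hv hsurj in
theorem aug_le_map (H : Subgroup G) : aug ρ'' H ≤ (aug ρ H).map v := by
  rw [aug, Submodule.span_le]
  rintro _ ⟨a, y, rfl⟩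
  obtain ⟨x, rfl⟩ := hsurj y
  refine ⟨ρ (a : G) x - x, sub_mem_aug ρ H a x, ?_⟩
  rw [map_sub, hv]

include hu hv hinj hsurj hex in
/-- an extension of flasque modules is flasque -/
theorem ext_flasque (h' : GLat.IsFlasque ρ') (h'' : GLat.IsFlasque ρ'') : GLat.IsFlasque ρ := by
  intro H m hm
  haveI : Fintype H := Fintype.ofFinite _
  change m ∈ aug ρ H
  have h1 : (∑ᶠ a : H, ρ'' (a : G) (v m)) = 0 := by
    rw [finsum_eq_sum_of_fintype] at hm ⊢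
    have : ∀ a : H, ρ'' (a : G) (v m) = v (ρ (a : G) m) := fun a => (hv (a : G) m).symm
    simp only [this]
    rw [← map_sum, hm, map_zero]
  have h2 : v m ∈ aug ρ'' H := h'' H _ h1
  obtain ⟨m₁, hm₁, hvm₁⟩ := aug_le_map ρ ρ'' v hv hsurj H h2
  have h3 : m - m₁ ∈ LinearMap.range u := by
    rw [hex, LinearMap.mem_ker, map_sub, hvm₁, sub_self]
  obtain ⟨m', hm'⟩ := h3
  have h4 : (∑ᶠ a : H, ρ' (a : G) m') = 0 := by
    apply hinj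
    rw [finsum_eq_sum_of_fintype, map_sum, map_zero]
    have : ∀ a : H, u (ρ' (a : G) m') = ρ (a : G) m - ρ (a : G) m₁ := by
      intro a
      rw [hu, hm', map_sub]
    simp only [this]
    rw [Finset.sum_sub_distrib]
    have e1 := norm_eq_zero_of_mem_aug ρ H m₁ hm₁
    rw [finsum_eq_sum_of_fintype] at e1 hm
    rw [e1, hm, sub_zero]
  have h5 : u m' ∈ aug ρ H := map_aug_le ρ' ρ u hu H (Submodule.mem_map_of_mem (h' H _ h4))
  have : m = u m' + m₁ := by rw [hm']; abel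
  rw [this]
  exact Submodule.add_mem _ h5 hm₁

end ext

section pushout

variable {G : Type*} [Group G] {Q P₁ P₂ : Type*} [AddCommGroup Q] [AddCommGroup P₁]
  [AddCommGroup P₂] (σQ : Representation ℤ G Q) (τ₁ : Representation ℤ G P₁)
  (σ₂ : Representation ℤ G P₂) (i₁ : Q →ₗ[ℤ] P₁) (i₂ : Q →ₗ[ℤ] P₂)

/-- the antidiagonal map `Q → P₁ × P₂` -/
def jj : Q →ₗ[ℤ] P₁ × P₂ := LinearMap.prod i₁ (-i₂)

/-- the antidiagonal image -/
def KK : Submodule ℤ (P₁ × P₂) := LinearMap.range (jj i₁ i₂)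

theorem mem_KK (x : P₁ × P₂) : x ∈ KK i₁ i₂ ↔ ∃ q, i₁ q = x.1 ∧ -i₂ q = x.2 := by
  constructor
  · rintro ⟨q, rfl⟩
    exact ⟨q, rfl, rfl⟩
  · rintro ⟨q, h1, h2⟩
    exact ⟨q, Prod.ext h1 h2⟩

/-- the pushout -/
abbrev FF : Type _ := (P₁ × P₂) ⧸ KK i₁ i₂

variable (h₁ : GLat.IsEquivariant σQ τ₁ i₁) (h₂ : GLat.IsEquivariant σQ σ₂ i₂)

include h₁ h₂ in
theorem KK_stable (g : G) : KK i₁ i₂ ≤ (KK i₁ i₂).comap (LinearMap.prodMap (τ₁ g) (σ₂ g)) := by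
  rintro _ ⟨q, rfl⟩
  rw [Submodule.mem_comap]
  refine ⟨σQ g q, ?_⟩
  apply Prod.ext
  · show i₁ (σQ g q) = τ₁ g (i₁ q)
    exact h₁ g q
  · show -i₂ (σQ g q) = σ₂ g (-i₂ q)
    rw [map_neg, h₂ g q]

/-- representation on the pushout -/
noncomputable def repF : Representation ℤ G (FF i₁ i₂) where
  toFun g := (KK i₁ i₂).mapQ (KK i₁ i₂) (LinearMap.prodMap (τ₁ g) (σ₂ g))
    (KK_stable σQ τ₁ σ₂ i₁ i₂ h₁ h₂ g)
  map_one' := by
    apply Submodule.linearMap_qext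
    ext x <;> simp
  map_mul' g h := by
    apply Submodule.linearMap_qext
    ext x <;> simp

theorem repF_mk (g : G) (x : P₁ × P₂) :
    repF σQ τ₁ σ₂ i₁ i₂ h₁ h₂ g (Submodule.Quotient.mk x) =
      Submodule.Quotient.mk (τ₁ g x.1, σ₂ g x.2) := rfl

/-- `P₂ → F` -/
def inF₂ : P₂ →ₗ[ℤ] FF i₁ i₂ := (KK i₁ i₂).mkQ ∘ₗ LinearMap.inr ℤ P₁ P₂

/-- `P₁ → F` -/
def inF₁ : P₁ →ₗ[ℤ] FF i₁ i₂ := (KK i₁ i₂).mkQ ∘ₗ LinearMap.inl ℤ P₁ P₂

theorem inF₂_equivariant : GLat.IsEquivariant σ₂ (repF σQ τ₁ σ₂ i₁ i₂ h₁ h₂) (inF₂ i₁ i₂) := by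
  intro g p
  show (Submodule.Quotient.mk ((0 : P₁), σ₂ g p) : FF i₁ i₂) =
    Submodule.Quotient.mk (τ₁ g 0, σ₂ g p)
  rw [map_zero]

theorem inF₁_equivariant : GLat.IsEquivariant τ₁ (repF σQ τ₁ σ₂ i₁ i₂ h₁ h₂) (inF₁ i₁ i₂) := by
  intro g p
  show (Submodule.Quotient.mk (τ₁ g p, (0 : P₂)) : FF i₁ i₂) =
    Submodule.Quotient.mk (τ₁ g p, σ₂ g 0)
  rw [map_zero]

theorem inF₂_injective (hinj₁ : Function.Injective i₁) : Function.Injective (inF₂ i₁ i₂) := by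
  rw [injective_iff_map_eq_zero]
  intro p hp
  have h : ((0 : P₁), p) ∈ KK i₁ i₂ := (Submodule.Quotient.mk_eq_zero _).mp hp
  obtain ⟨q, hq1, hq2⟩ := (mem_KK i₁ i₂ _).mp h
  have : q = 0 := hinj₁ (by rw [hq1, map_zero])
  rw [this, map_zero, neg_zero] at hq2
  exact hq2.symm

theorem inF₁_injective (hinj₂ : Function.Injective i₂) : Function.Injective (inF₁ i₁ i₂) := by
  rw [injective_iff_map_eq_zero]
  intro p hp
  have h : (p, (0 : P₂)) ∈ KK i₁ i₂ := (Submodule.Quotient.mk_eq_zero _).mp hp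
  obtain ⟨q, hq1, hq2⟩ := (mem_KK i₁ i₂ _).mp h
  have : q = 0 := hinj₂ (by rw [map_zero]; exact neg_eq_zero.mp hq2)
  rw [this, map_zero] at hq1
  exact hq1.symm

section out

variable {A : Type*} [AddCommGroup A] (π₁ : P₁ →ₗ[ℤ] A) (hex₁ : LinearMap.range i₁ = LinearMap.ker π₁)

include hex₁ in
theorem KK_le_ker₁ : KK i₁ i₂ ≤ LinearMap.ker (π₁ ∘ₗ LinearMap.fst ℤ P₁ P₂) := by
  rintro _ ⟨q, rfl⟩
  rw [LinearMap.mem_ker]
  show π₁ (i₁ q) = 0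
  rw [← LinearMap.mem_ker, ← hex₁]
  exact ⟨q, rfl⟩

/-- `F → A` -/
def outF₁ : FF i₁ i₂ →ₗ[ℤ] A :=
  (KK i₁ i₂).liftQ (π₁ ∘ₗ LinearMap.fst ℤ P₁ P₂) (KK_le_ker₁ i₁ i₂ π₁ hex₁)

theorem outF₁_mk (x : P₁ × P₂) : outF₁ i₁ i₂ π₁ hex₁ (Submodule.Quotient.mk x) = π₁ x.1 := rfl

theorem outF₁_surjective (hs : Function.Surjective π₁) :
    Function.Surjective (outF₁ i₁ i₂ π₁ hex₁) := by
  intro a
  obtain ⟨p, rfl⟩ := hs a
  exact ⟨Submodule.Quotient.mk (p, 0), rfl⟩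

theorem range_inF₂ : LinearMap.range (inF₂ i₁ i₂) = LinearMap.ker (outF₁ i₁ i₂ π₁ hex₁) := by
  apply le_antisymm
  · rintro _ ⟨p, rfl⟩
    rw [LinearMap.mem_ker]
    show π₁ 0 = 0
    rw [map_zero]
  · intro x hx
    obtain ⟨⟨p₁, p₂⟩, rfl⟩ := Submodule.Quotient.mk_surjective _ x
    rw [LinearMap.mem_ker, outF₁_mk] at hx
    have : p₁ ∈ LinearMap.range i₁ := by rw [hex₁]; exact hx
    obtain ⟨q, rfl⟩ := this
    refine ⟨p₂ + i₂ q, ?_⟩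
    show (Submodule.Quotient.mk ((0 : P₁), p₂ + i₂ q) : FF i₁ i₂) = Submodule.Quotient.mk (i₁ q, p₂)
    rw [eq_comm, Submodule.Quotient.eq, mem_KK]
    refine ⟨q, ?_, ?_⟩
    · simp
    · simp

theorem outF₁_equivariant (ρ : Representation ℤ G A) (hπ₁ : GLat.IsEquivariant τ₁ ρ π₁) :
    GLat.IsEquivariant (repF σQ τ₁ σ₂ i₁ i₂ h₁ h₂) ρ (outF₁ i₁ i₂ π₁ hex₁) := by
  intro g x
  obtain ⟨⟨p₁, p₂⟩, rfl⟩ := Submodule.Quotient.mk_surjective _ x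
  rw [repF_mk, outF₁_mk, outF₁_mk]
  exact hπ₁ g p₁

end out

section out2

variable {F₂ : Type*} [AddCommGroup F₂] (π₂ : P₂ →ₗ[ℤ] F₂)
  (hex₂ : LinearMap.range i₂ = LinearMap.ker π₂)

include hex₂ in
theorem KK_le_ker₂ : KK i₁ i₂ ≤ LinearMap.ker (π₂ ∘ₗ LinearMap.snd ℤ P₁ P₂) := by
  rintro _ ⟨q, rfl⟩
  rw [LinearMap.mem_ker]
  show π₂ (-i₂ q) = 0
  rw [map_neg, neg_eq_zero, ← LinearMap.mem_ker, ← hex₂]
  exact ⟨q, rfl⟩

/-- `F → F₂` -/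
def outF₂ : FF i₁ i₂ →ₗ[ℤ] F₂ :=
  (KK i₁ i₂).liftQ (π₂ ∘ₗ LinearMap.snd ℤ P₁ P₂) (KK_le_ker₂ i₁ i₂ π₂ hex₂)

theorem outF₂_mk (x : P₁ × P₂) : outF₂ i₁ i₂ π₂ hex₂ (Submodule.Quotient.mk x) = π₂ x.2 := rfl

theorem outF₂_surjective (hs : Function.Surjective π₂) :
    Function.Surjective (outF₂ i₁ i₂ π₂ hex₂) := by
  intro a
  obtain ⟨p, rfl⟩ := hs a
  exact ⟨Submodule.Quotient.mk (0, p), rfl⟩

theorem range_inF₁ : LinearMap.range (inF₁ i₁ i₂) = LinearMap.ker (outF₂ i₁ i₂ π₂ hex₂) := by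
  apply le_antisymm
  · rintro _ ⟨p, rfl⟩
    rw [LinearMap.mem_ker]
    show π₂ 0 = 0
    rw [map_zero]
  · intro x hx
    obtain ⟨⟨p₁, p₂⟩, rfl⟩ := Submodule.Quotient.mk_surjective _ x
    rw [LinearMap.mem_ker, outF₂_mk] at hx
    have : p₂ ∈ LinearMap.range i₂ := by rw [hex₂]; exact hx
    obtain ⟨q, rfl⟩ := this
    refine ⟨p₁ + i₁ q, ?_⟩
    show (Submodule.Quotient.mk (p₁ + i₁ q, (0 : P₂)) : FF i₁ i₂) = Submodule.Quotient.mk (p₁, i₂ q)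
    rw [Submodule.Quotient.eq, mem_KK]
    refine ⟨q, ?_, ?_⟩
    · simp
    · simp

theorem outF₂_equivariant (τ₂ : Representation ℤ G F₂) (hπ₂ : GLat.IsEquivariant σ₂ τ₂ π₂) :
    GLat.IsEquivariant (repF σQ τ₁ σ₂ i₁ i₂ h₁ h₂) τ₂ (outF₂ i₁ i₂ π₂ hex₂) := by
  intro g x
  obtain ⟨⟨p₁, p₂⟩, rfl⟩ := Submodule.Quotient.mk_surjective _ x
  rw [repF_mk, outF₂_mk, outF₂_mk]
  exact hπ₂ g p₂

end out2

end pushout

end Groth.Agent.Lib.Helper8.GL6
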