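import Mathlib
import Groth.Prelude.Def_W4c5flasquetoriphsGLat
import Groth.Agent.Lib.Helper8.GL2
import Groth.Agent.Lib.Helper8.GL3
import Groth.Agent.Lib.Helper8.GL4
import Groth.Agent.Lib.Helper8.GL5
import Groth.Agent.Lib.Helper8.GL6

set_option backward.isDefEq.respectTransparency.types false
set_option autoImplicit false
set_option linter.unusedSectionVars false
set_option linter.style.haveILetI false

namespace Groth.Agent.Lib.Helper8.GL7

open Groth.Agent.Lib.Helper8.GL1 Groth.Agent.Lib.Helper8.GL3 Groth.Agent.Lib.Helper8.GL4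
  Groth.Agent.Lib.Helper8.GL5 Groth.Agent.Lib.Helper8.GL6

/-- a finitely generated extension of torsion-free abelian groups is free -/
theorem free_of_ext {M' M M'' : Type*} [AddCommGroup M'] [AddCommGroup M] [AddCommGroup M'']
    [Module.Free ℤ M'] [Module.Free ℤ M''] [Module.Finite ℤ M]
    (u : M' →ₗ[ℤ] M) (v : M →ₗ[ℤ] M'') (hinj : Function.Injective u)
    (hex : LinearMap.range u = LinearMap.ker v) : Module.Free ℤ M := by
  haveI : Module.IsTorsionFree ℤ M := by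
    apply Module.IsTorsionFree.of_smul_eq_zero
    intro t x htx
    by_cases ht : t = 0
    · exact Or.inl ht
    right
    have h1 : t • v x = 0 := by rw [← map_smul, htx, map_zero]
    have h2 : v x = 0 := (smul_eq_zero.mp h1).resolve_left ht
    have h3 : x ∈ LinearMap.range u := by rw [hex]; exact h2
    obtain ⟨y, rfl⟩ := h3
    have h4 : u (t • y) = 0 := by rw [map_smul]; exact htx
    have h5 : t • y = 0 := hinj (by rw [h4, map_zero])
    rw [(smul_eq_zero.mp h5).resolve_left ht, map_zero]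
  infer_instance

section main685

variable (G : Type) [Group G] [Finite G]
  (A : Type) [AddCommGroup A] [Module.Finite ℤ A] (ρ : Representation ℤ G A)

theorem main685 :
    ∃ (P : Type) (_ : AddCommGroup P) (F : Type) (_ : AddCommGroup F)
      (_ : Module.Finite ℤ P) (_ : Module.Free ℤ P) (_ : Module.Finite ℤ F) (_ : Module.Free ℤ F)
      (σ : Representation ℤ G P) (τ : Representation ℤ G F) (i : P →ₗ[ℤ] F) (π : F →ₗ[ℤ] A),
      GLat.IsEquivariant σ τ i ∧ GLat.IsEquivariant τ ρ π ∧ Function.Injective i ∧ Function.Surjective π ∧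
      LinearMap.range i = LinearMap.ker π ∧ GLat.IsPermutation σ ∧ GLat.IsFlasque τ := by
  obtain ⟨Q, instQ, P₁, instP₁, finQ, freeQ, finP₁, freeP₁, σQ, τ₁, i₁, π₁, hi₁, hπ₁, hinj₁, hsurj₁,
    hex₁, hperm₁, hcoQ⟩ := GL2.main675 G A ρ
  obtain ⟨P₂, instP₂, F₂, instF₂, finP₂, freeP₂, finF₂, freeF₂, σ₂, τ₂, i₂, π₂, hi₂, hπ₂, hinj₂,
    hsurj₂, hex₂, hperm₂, hfl₂⟩ := GL5.main686 G Q σQ
  haveI : Module.Finite ℤ (FF i₁ i₂) := inferInstance
  haveI : Module.Free ℤ (FF i₁ i₂) :=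
    free_of_ext (inF₁ i₁ i₂) (outF₂ i₁ i₂ π₂ hex₂) (inF₁_injective i₁ i₂ hinj₂)
      (range_inF₁ i₁ i₂ π₂ hex₂)
  refine ⟨P₂, instP₂, FF i₁ i₂, inferInstance, finP₂, freeP₂, inferInstance, inferInstance, σ₂,
    repF σQ τ₁ σ₂ i₁ i₂ hi₁ hi₂, inF₂ i₁ i₂, outF₁ i₁ i₂ π₁ hex₁,
    inF₂_equivariant σQ τ₁ σ₂ i₁ i₂ hi₁ hi₂, outF₁_equivariant σQ τ₁ σ₂ i₁ i₂ hi₁ hi₂ π₁ hex₁ ρ hπ₁,
    inF₂_injective i₁ i₂ hinj₁, outF₁_surjective i₁ i₂ π₁ hex₁ hsurj₁,
    range_inF₂ i₁ i₂ π₁ hex₁, hperm₂, ?_⟩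
  exact ext_flasque τ₁ (repF σQ τ₁ σ₂ i₁ i₂ hi₁ hi₂) τ₂ (inF₁ i₁ i₂) (outF₂ i₁ i₂ π₂ hex₂)
    (inF₁_equivariant σQ τ₁ σ₂ i₁ i₂ hi₁ hi₂)
    (outF₂_equivariant σQ τ₁ σ₂ i₁ i₂ hi₁ hi₂ π₂ hex₂ τ₂ hπ₂)
    (inF₁_injective i₁ i₂ hinj₂) (outF₂_surjective i₁ i₂ π₂ hex₂ hsurj₂)
    (range_inF₁ i₁ i₂ π₂ hex₂) (flasque_of_permutation τ₁ hperm₁) hfl₂

end main685

section main687

variable (G : Type) [Group G] [Finite G]
  (A : Type) [AddCommGroup A] [Module.Finite ℤ A] [Module.Free ℤ A] (ρ : Representation ℤ G A)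

theorem main687 :
    ∃ (Q : Type) (_ : AddCommGroup Q) (P : Type) (_ : AddCommGroup P)
      (_ : Module.Finite ℤ Q) (_ : Module.Free ℤ Q) (_ : Module.Finite ℤ P) (_ : Module.Free ℤ P)
      (σ : Representation ℤ G Q) (τ : Representation ℤ G P) (i : A →ₗ[ℤ] Q) (π : Q →ₗ[ℤ] P),
      GLat.IsEquivariant ρ σ i ∧ GLat.IsEquivariant σ τ π ∧ Function.Injective i ∧ Function.Surjective π ∧
      LinearMap.range i = LinearMap.ker π ∧ GLat.IsCoflasque σ ∧ GLat.IsPermutation τ := by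
  obtain ⟨P, instP, F, instF, finP, freeP, finF, freeF, σ, τ, i, π, hi, hπ, hinj, hsurj, hex,
    hperm, hfl⟩ := main685 G (Module.Dual ℤ A) ρ.dual
  refine ⟨Module.Dual ℤ F, inferInstance, Module.Dual ℤ P, inferInstance, inferInstance,
    inferInstance, inferInstance, inferInstance, τ.dual, σ.dual, iD π, i.dualMap,
    iD_equivariant ρ τ π hπ, dualMap_equivariant σ τ i hi, iD_injective π hsurj,
    dualMap_surjective i π hinj hsurj hex, range_iD i π hsurj hex,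
    dual_coflasque_of_flasque τ hfl, dual_permutation σ hperm⟩

end main687

end Groth.Agent.Lib.Helper8.GL7
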