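import Mathlib
import Groth.Agent.Lib.Helper8.TPt4
set_option backward.isDefEq.respectTransparency.types false
set_option linter.unusedSectionVars false
set_option autoImplicit false
set_option linter.style.haveILetI false

namespace Groth.Agent.Lib.Helper8.CubicK

open MvPolynomial

section E

variable {K : Type*} [Field K] [CharZero K] [IsAlgClosed K]
variable {F : MvPolynomial (Fin 4) K}

lemma rowsDep_scale (r₁ r₂ r₃ : Fin 4 → K) (c₁ c₂ c₃ : K) (hc₁ : c₁ ≠ 0) (hc₂ : c₂ ≠ 0)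
    (hc₃ : c₃ ≠ 0) (h : RowsDep ![c₁ • r₁, c₂ • r₂, c₃ • r₃]) : RowsDep ![r₁, r₂, r₃] := by
  rw [rowsDep_iff] at h ⊢
  obtain ⟨g₁, g₂, g₃, hg, hsum⟩ := h
  refine ⟨g₁ * c₁, g₂ * c₂, g₃ * c₃, ?_, ?_⟩
  · rintro ⟨h1, h2, h3⟩
    apply hg
    refine ⟨?_, ?_, ?_⟩
    · exact (mul_eq_zero.mp h1).resolve_right hc₁
    · exact (mul_eq_zero.mp h2).resolve_right hc₂
    · exact (mul_eq_zero.mp h3).resolve_right hc₃
  · intro j
    have := hsum j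
    simp only [Pi.smul_apply, smul_eq_mul] at this
    linear_combination this

lemma Polar.depMat_scale (P : Polar F) (a h₁ h₂ : Fin 4 → K) (κ ρ : K) :
    P.depMat (κ • a) (ρ • h₁) (ρ • h₂)
      = ![(κ * ρ ^ 2) • (P.depMat a h₁ h₂ 0), (κ * ρ ^ 2) • (P.depMat a h₁ h₂ 1),
          (ρ ^ 3) • (P.depMat a h₁ h₂ 2)] := by
  funext i j
  unfold Polar.depMat
  fin_cases i <;> fin_cases j <;>
    simp [P.smul₁, P.smul₂, P.smul₃, P.eval_smul] <;> ring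

/-- Closedness of the `T`-point condition along a polynomial curve through a non-`T`-point. -/
lemma finite_tpoints_on_curve (P : Polar F) (a : Fin 4 → K) (hFa : eval a F = 0)
    (hsm : ∃ i : Fin 4, eval a (pderiv i F) ≠ 0) {h₁ h₂ : Fin 4 → K}
    (hh₁ : P.T a a h₁ = 0) (hh₂ : P.T a a h₂ = 0)
    (hli : LinearIndependent K ![h₂, a, h₁])
    (hspan : ∀ x, P.T a a x = 0 → ∃ s y₁ y₂ : K, x = (y₁ • h₁ + y₂ • h₂) + s • a)
    (hT : ¬ ∃ L₁ L₂ L₃ : MvPolynomial (Fin 4) K, L₁.IsHomogeneous 1 ∧ L₂.IsHomogeneous 1 ∧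
      L₃.IsHomogeneous 1 ∧
      F - L₁ * L₂ * L₃ ∈ Ideal.span {(∑ i : Fin 4, C (eval a (pderiv i F)) * X i :
        MvPolynomial (Fin 4) K)})
    (γ : K → (Fin 4 → K)) (hγ : IsPolyVec γ) (κ : K) (hκ : κ ≠ 0) (hγ0 : γ 0 = κ • a) :
    {t : K | eval (γ t) F = 0 ∧ ∃ L₁ L₂ L₃ : MvPolynomial (Fin 4) K, L₁.IsHomogeneous 1 ∧
      L₂.IsHomogeneous 1 ∧ L₃.IsHomogeneous 1 ∧
      F - L₁ * L₂ * L₃ ∈ Ideal.span {(∑ i : Fin 4, C (eval (γ t) (pderiv i F)) * X i :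
        MvPolynomial (Fin 4) K)}}.Finite := by
  obtain ⟨i₀, hi₀⟩ := hsm
  set e : Fin 4 → K := Pi.single i₀ 1 with he
  have hae : P.T a a e ≠ 0 := by
    intro h0
    apply hi₀
    rw [P.deriv, h0, mul_zero]
  -- the moving frame
  let w₁ : K → (Fin 4 → K) := fun t => P.T (γ t) (γ t) e • h₁ - P.T (γ t) (γ t) h₁ • e
  let w₂ : K → (Fin 4 → K) := fun t => P.T (γ t) (γ t) e • h₂ - P.T (γ t) (γ t) h₂ • e
  have hw₁ : IsPolyVec w₁ :=
    (IsPolyVec.smul (P.isPoly_T hγ hγ (IsPolyVec.const e)) (IsPolyVec.const h₁)).sub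
      (IsPolyVec.smul (P.isPoly_T hγ hγ (IsPolyVec.const h₁)) (IsPolyVec.const e))
  have hw₂ : IsPolyVec w₂ :=
    (IsPolyVec.smul (P.isPoly_T hγ hγ (IsPolyVec.const e)) (IsPolyVec.const h₂)).sub
      (IsPolyVec.smul (P.isPoly_T hγ hγ (IsPolyVec.const h₂)) (IsPolyVec.const e))
  have hTw₁ : ∀ t, P.T (γ t) (γ t) (w₁ t) = 0 := by
    intro t
    simp only [w₁, P.sub₃, P.smul₃]
    ring
  have hTw₂ : ∀ t, P.T (γ t) (γ t) (w₂ t) = 0 := by
    intro t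
    simp only [w₂, P.sub₃, P.smul₃]
    ring
  -- the matrix
  let M : K → Fin 3 → Fin 4 → K := fun t => P.depMat (γ t) (w₁ t) (w₂ t)
  have hM : ∀ i j, IsPoly (fun t => M t i j) := by
    have q₀ := (IsPoly.const (3 : K)).mul (P.isPoly_T hγ hw₁ hw₁)
    have q₁ := (IsPoly.const (6 : K)).mul (P.isPoly_T hγ hw₁ hw₂)
    have q₂ := (IsPoly.const (3 : K)).mul (P.isPoly_T hγ hw₂ hw₂)
    have k₀ : IsPoly (fun t => eval (w₁ t) F) :=
      IsPoly.congr (P.isPoly_T hw₁ hw₁ hw₁) (fun t => (P.diag (w₁ t)).symm)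
    have k₁ := (IsPoly.const (3 : K)).mul (P.isPoly_T hw₁ hw₁ hw₂)
    have k₂ := (IsPoly.const (3 : K)).mul (P.isPoly_T hw₁ hw₂ hw₂)
    have k₃ : IsPoly (fun t => eval (w₂ t) F) :=
      IsPoly.congr (P.isPoly_T hw₂ hw₂ hw₂) (fun t => (P.diag (w₂ t)).symm)
    have z : IsPoly (fun _ : K => (0 : K)) := IsPoly.const 0
    intro i j
    fin_cases i <;> fin_cases j
    · exact q₀
    · exact q₁
    · exact q₂
    · exact z
    · exact z
    · exact q₀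
    · exact q₁
    · exact q₂
    · exact k₀
    · exact k₁
    · exact k₂
    · exact k₃
  -- independence at `t = 0`
  have h0 : ¬ RowsDep (M 0) := by
    intro hdep
    apply hT
    apply tpoint_of_rowsDep P a hFa ⟨i₀, hi₀⟩ hh₁ hh₂ hli hspan
    set ρ : K := κ ^ 2 * P.T a a e with hρ
    have hρ0 : ρ ≠ 0 := mul_ne_zero (pow_ne_zero 2 hκ) hae
    have hw₁0 : w₁ 0 = ρ • h₁ := by
      simp only [w₁, hγ0, P.smul₁, P.smul₂, hh₁]
      rw [hρ]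
      module
    have hw₂0 : w₂ 0 = ρ • h₂ := by
      simp only [w₂, hγ0, P.smul₁, P.smul₂, hh₂]
      rw [hρ]
      module
    have hM0 : M 0 = ![(κ * ρ ^ 2) • (P.depMat a h₁ h₂ 0), (κ * ρ ^ 2) • (P.depMat a h₁ h₂ 1),
          (ρ ^ 3) • (P.depMat a h₁ h₂ 2)] := by
      simp only [M]
      rw [hγ0, hw₁0, hw₂0, P.depMat_scale]
    rw [hM0] at hdep
    have := rowsDep_scale _ _ _ _ _ _ (mul_ne_zero hκ (pow_ne_zero 2 hρ0))
      (mul_ne_zero hκ (pow_ne_zero 2 hρ0)) (pow_ne_zero 3 hρ0) hdep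
    have hrows : ![P.depMat a h₁ h₂ 0, P.depMat a h₁ h₂ 1, P.depMat a h₁ h₂ 2]
        = P.depMat a h₁ h₂ := by
      funext i
      fin_cases i <;> rfl
    rw [hrows] at this
    exact this
  apply Set.Finite.subset (finite_rowsDep M hM 0 h0)
  rintro t ⟨hFt, L₁, L₂, L₃, hL₁, hL₂, hL₃, hmem⟩
  exact rowsDep_of_tpoint P (γ t) (w₁ t) (w₂ t) hFt (hTw₁ t) (hTw₂ t) L₁ L₂ L₃ hL₁ hL₂ hL₃ hmem

end E

end Groth.Agent.Lib.Helper8.CubicK
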