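import Mathlib
import Groth.Agent.Lib.Helper8.TPt5
set_option backward.isDefEq.respectTransparency.types false
set_option linter.unusedSectionVars false
set_option autoImplicit false
set_option linter.style.haveILetI false

namespace Groth.Agent.Lib.Helper8.CubicK

open MvPolynomial

section G

variable {K : Type*} [Field K] [CharZero K] [IsAlgClosed K]
variable {F : MvPolynomial (Fin 4) K}

lemma rowsDep_of_coeffs (r₁₀ r₁₁ r₁₂ r₁₃ r₂₀ r₂₁ r₂₂ r₂₃ r₃₀ r₃₁ r₃₂ r₃₃ g₁ g₂ g₃ : K)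
    (hg : ¬ (g₁ = 0 ∧ g₂ = 0 ∧ g₃ = 0))
    (e0 : g₁ * r₁₀ + g₂ * r₂₀ + g₃ * r₃₀ = 0) (e1 : g₁ * r₁₁ + g₂ * r₂₁ + g₃ * r₃₁ = 0)
    (e2 : g₁ * r₁₂ + g₂ * r₂₂ + g₃ * r₃₂ = 0) (e3 : g₁ * r₁₃ + g₂ * r₂₃ + g₃ * r₃₃ = 0) :
    RowsDep ![![r₁₀, r₁₁, r₁₂, r₁₃], ![r₂₀, r₂₁, r₂₂, r₂₃], ![r₃₀, r₃₁, r₃₂, r₃₃]] := by
  rw [rowsDep_iff]
  refine ⟨g₁, g₂, g₃, hg, ?_⟩
  intro j
  fin_cases j
  · simpa using e0
  · simpa using e1
  · simpa using e2
  · simpa using e3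

lemma eq_span_of_finrank_one (U : Submodule K (Fin 4 → K)) (hU : Module.finrank K ↥U = 1)
    (v : Fin 4 → K) (hv : v ∈ U) (hv0 : v ≠ 0) : U = Submodule.span K {v} := by
  have hne : (⟨v, hv⟩ : U) ≠ 0 := by
    intro h
    exact hv0 (congrArg Subtype.val h)
  have hall := (finrank_eq_one_iff_of_nonzero' _ hne).mp hU
  apply le_antisymm
  · intro w hw
    obtain ⟨c, hc⟩ := hall ⟨w, hw⟩
    rw [Submodule.mem_span_singleton]
    exact ⟨c, congrArg Subtype.val hc⟩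
  · rw [Submodule.span_le]
    intro w hw
    rw [Set.mem_singleton_iff] at hw
    rw [hw]; exact hv

/-- The covering lemma: if every point of the tangent section is, up to scaling, on one of two
polynomial curves through `a` or one of two exceptional points, there are finitely many
`T`-points on the tangent plane. -/
lemma finite_of_cover (P : Polar F) (a : Fin 4 → K) (hFa : eval a F = 0)
    (hsm : ∃ i : Fin 4, eval a (pderiv i F) ≠ 0) {h₁ h₂ : Fin 4 → K}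
    (hh₁ : P.T a a h₁ = 0) (hh₂ : P.T a a h₂ = 0)
    (hli : LinearIndependent K ![h₂, a, h₁])
    (hspan : ∀ x, P.T a a x = 0 → ∃ s y₁ y₂ : K, x = (y₁ • h₁ + y₂ • h₂) + s • a)
    (hT : ¬ ∃ L₁ L₂ L₃ : MvPolynomial (Fin 4) K, L₁.IsHomogeneous 1 ∧ L₂.IsHomogeneous 1 ∧
      L₃.IsHomogeneous 1 ∧
      F - L₁ * L₂ * L₃ ∈ Ideal.span {(∑ i : Fin 4, C (eval a (pderiv i F)) * X i :
        MvPolynomial (Fin 4) K)})
    (tp : (Fin 4 → K) → Prop)
    (htp : ∀ b : Fin 4 → K, tp b → eval b F = 0 ∧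
      ∃ L₁ L₂ L₃ : MvPolynomial (Fin 4) K, L₁.IsHomogeneous 1 ∧ L₂.IsHomogeneous 1 ∧
        L₃.IsHomogeneous 1 ∧
        F - L₁ * L₂ * L₃ ∈ Ideal.span {(∑ i : Fin 4, C (eval b (pderiv i F)) * X i :
          MvPolynomial (Fin 4) K)})
    (H : Submodule K (Fin 4 → K)) (hH : ∀ x, x ∈ H ↔ P.T a a x = 0)
    (γ₁ γ₂ : K → (Fin 4 → K)) (hγ₁ : IsPolyVec γ₁) (hγ₂ : IsPolyVec γ₂) (κ₁ κ₂ : K)
    (hκ₁ : κ₁ ≠ 0) (hκ₂ : κ₂ ≠ 0) (hγ₁0 : γ₁ 0 = κ₁ • a) (hγ₂0 : γ₂ 0 = κ₂ • a)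
    (v₁ v₂ : Fin 4 → K)
    (hcover : ∀ b : Fin 4 → K, b ≠ 0 → P.T a a b = 0 → eval b F = 0 →
      ∃ c : K, c ≠ 0 ∧ ((∃ t, γ₁ t = c • b) ∨ (∃ t, γ₂ t = c • b) ∨ v₁ = c • b ∨ v₂ = c • b)) :
    Set.Finite {U : Submodule K (Fin 4 → K) | Module.finrank K ↥U = 1 ∧ U ≤ H ∧
      ∀ b ∈ U, b ≠ 0 → tp b} := by
  have hfin₁ := finite_tpoints_on_curve P a hFa hsm hh₁ hh₂ hli hspan hT γ₁ hγ₁ κ₁ hκ₁ hγ₁0
  have hfin₂ := finite_tpoints_on_curve P a hFa hsm hh₁ hh₂ hli hspan hT γ₂ hγ₂ κ₂ hκ₂ hγ₂0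
  have hfin : (((fun t => Submodule.span K {γ₁ t}) '' {t : K | eval (γ₁ t) F = 0 ∧
      ∃ L₁ L₂ L₃ : MvPolynomial (Fin 4) K, L₁.IsHomogeneous 1 ∧
      L₂.IsHomogeneous 1 ∧ L₃.IsHomogeneous 1 ∧
      F - L₁ * L₂ * L₃ ∈ Ideal.span {(∑ i : Fin 4, C (eval (γ₁ t) (pderiv i F)) * X i :
        MvPolynomial (Fin 4) K)}}) ∪
      ((fun t => Submodule.span K {γ₂ t}) '' {t : K | eval (γ₂ t) F = 0 ∧
      ∃ L₁ L₂ L₃ : MvPolynomial (Fin 4) K, L₁.IsHomogeneous 1 ∧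
      L₂.IsHomogeneous 1 ∧ L₃.IsHomogeneous 1 ∧
      F - L₁ * L₂ * L₃ ∈ Ideal.span {(∑ i : Fin 4, C (eval (γ₂ t) (pderiv i F)) * X i :
        MvPolynomial (Fin 4) K)}}) ∪
      ({Submodule.span K {v₁}, Submodule.span K {v₂}} : Set (Submodule K (Fin 4 → K)))).Finite := by
    apply Set.Finite.union
    · apply Set.Finite.union
      · exact hfin₁.image _
      · exact hfin₂.image _
    · simp
  apply Set.Finite.subset hfin
  rintro U ⟨hU1, hUH, hUtp⟩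
  -- a nonzero vector of `U`
  haveI : Nontrivial ↥U := Module.finrank_pos_iff.mp (by rw [hU1]; exact Nat.one_pos)
  obtain ⟨⟨b, hbU⟩, hb0⟩ := exists_ne (0 : ↥U)
  have hb0' : b ≠ 0 := fun h => hb0 (Subtype.ext h)
  have hbH : P.T a a b = 0 := (hH b).mp (hUH hbU)
  have hbF : eval b F = 0 := (htp b (hUtp b hbU hb0')).1
  obtain ⟨c, hc, hcases⟩ := hcover b hb0' hbH hbF
  have hcb : c • b ∈ U := U.smul_mem c hbU
  have hcb0 : c • b ≠ 0 := smul_ne_zero hc hb0'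
  rcases hcases with ⟨t, ht⟩ | ⟨t, ht⟩ | hv | hv
  · left; left
    refine ⟨t, htp _ (hUtp _ (ht ▸ hcb) (ht ▸ hcb0)), ?_⟩
    exact (eq_span_of_finrank_one U hU1 _ (ht ▸ hcb) (ht ▸ hcb0)).symm
  · left; right
    refine ⟨t, htp _ (hUtp _ (ht ▸ hcb) (ht ▸ hcb0)), ?_⟩
    exact (eq_span_of_finrank_one U hU1 _ (ht ▸ hcb) (ht ▸ hcb0)).symm
  · right
    left
    exact eq_span_of_finrank_one U hU1 _ (hv ▸ hcb) (hv ▸ hcb0)
  · right
    right
    exact eq_span_of_finrank_one U hU1 _ (hv ▸ hcb) (hv ▸ hcb0)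


/-- Case A: an isotropic direction `h₁` of the polar quadric on which the cubic does not vanish. -/
lemma cover_caseA (P : Polar F) (a : Fin 4 → K) (hFa : eval a F = 0) {h₁ h₂ : Fin 4 → K}
    (hh₁ : P.T a a h₁ = 0) (hh₂ : P.T a a h₂ = 0)
    (hspan : ∀ x, P.T a a x = 0 → ∃ s y₁ y₂ : K, x = (y₁ • h₁ + y₂ • h₂) + s • a)
    (hq₀ : P.T a h₁ h₁ = 0) (hk₀ : eval h₁ F ≠ 0)
    (hq : 6 * P.T a h₁ h₂ ≠ 0 ∨ 3 * P.T a h₂ h₂ ≠ 0)
    (b : Fin 4 → K) (hb0 : b ≠ 0) (hbH : P.T a a b = 0) (hbF : eval b F = 0) :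
    ∃ c : K, c ≠ 0 ∧
      ((∃ t : K, (6 * P.T a h₁ h₂ * t + 3 * P.T a h₂ h₂ * t ^ 2) • (h₁ + t • h₂)
          - (eval h₁ F + 3 * P.T h₁ h₁ h₂ * t + 3 * P.T h₁ h₂ h₂ * t ^ 2 + eval h₂ F * t ^ 3) • a
          = c • b) ∨
       (∃ t : K, a + t • ((3 * P.T a h₂ h₂) • h₁ - (6 * P.T a h₁ h₂) • h₂) = c • b) ∨
       (3 * P.T a h₂ h₂) • h₂ - eval h₂ F • a = c • b ∨
       (3 * P.T a h₂ h₂) • h₁ - (6 * P.T a h₁ h₂) • h₂ = c • b) := by
  set q₁ := 6 * P.T a h₁ h₂ with hq₁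
  set q₂ := 3 * P.T a h₂ h₂ with hq₂
  set k₀ := eval h₁ F with hk₀'
  set k₁ := 3 * P.T h₁ h₁ h₂ with hk₁
  set k₂ := 3 * P.T h₁ h₂ h₂ with hk₂
  set k₃ := eval h₂ F with hk₃
  obtain ⟨s, y₁, y₂, rfl⟩ := hspan b hbH
  have hexp : (k₀ * y₁ ^ 3 + k₁ * y₁ ^ 2 * y₂ + k₂ * y₁ * y₂ ^ 2 + k₃ * y₂ ^ 3)
      + s * (q₁ * y₁ * y₂ + q₂ * y₂ ^ 2) = 0 := by
    have := P.expand_plane a h₁ h₂ hFa hh₁ hh₂ s y₁ y₂
    rw [hbF, hq₀] at this
    linear_combination -this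
  by_cases hQ : q₁ * y₁ * y₂ + q₂ * y₂ ^ 2 = 0
  · have hk : k₀ * y₁ ^ 3 + k₁ * y₁ ^ 2 * y₂ + k₂ * y₁ * y₂ ^ 2 + k₃ * y₂ ^ 3 = 0 := by
      rw [hQ] at hexp
      linear_combination hexp
    by_cases hy₂ : y₂ = 0
    · rw [hy₂] at hk
      have hy₁ : y₁ = 0 := by
        have : k₀ * y₁ ^ 3 = 0 := by linear_combination hk
        rcases mul_eq_zero.mp this with h | h
        · exact absurd h hk₀
        · exact pow_eq_zero_iff (by norm_num) |>.mp h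
      have hs : s ≠ 0 := by
        rintro rfl
        apply hb0
        rw [hy₁, hy₂]; simp
      refine ⟨s⁻¹, inv_ne_zero hs, Or.inr (Or.inl ⟨0, ?_⟩)⟩
      rw [hy₁, hy₂]
      simp [smul_smul, inv_mul_cancel₀ hs]
    · have hlin : q₁ * y₁ + q₂ * y₂ = 0 := by
        have : y₂ * (q₁ * y₁ + q₂ * y₂) = 0 := by linear_combination hQ
        exact (mul_eq_zero.mp this).resolve_left hy₂
      obtain ⟨d, hy₁d, hy₂d⟩ := exists_scalar_of_dot_eq_zero q₁ q₂ y₁ y₂ hq hlin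
      by_cases hs : s = 0
      · have hd : d ≠ 0 := by
          rintro rfl
          apply hy₂
          rw [hy₂d]; ring
        refine ⟨d⁻¹, inv_ne_zero hd, Or.inr (Or.inr (Or.inr ?_))⟩
        rw [hs, hy₁d, hy₂d, zero_smul, add_zero, smul_add, smul_smul, smul_smul]
        have e1 : d⁻¹ * (d * q₂) = q₂ := by field_simp
        have e2 : d⁻¹ * -(d * q₁) = -q₁ := by field_simp
        rw [e1, e2]
        module
      · refine ⟨s⁻¹, inv_ne_zero hs, Or.inr (Or.inl ⟨d / s, ?_⟩)⟩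
        rw [hy₁d, hy₂d, smul_add, smul_add, smul_smul, smul_smul, smul_smul]
        have e1 : s⁻¹ * (d * q₂) = d / s * q₂ := by field_simp
        have e2 : s⁻¹ * -(d * q₁) = -(d / s * q₁) := by field_simp
        have e3 : s⁻¹ * s = 1 := inv_mul_cancel₀ hs
        rw [e1, e2, e3]
        module
  · have hy₂ : y₂ ≠ 0 := by
      rintro rfl
      apply hQ
      ring
    by_cases hy₁ : y₁ = 0
    · rw [hy₁] at hQ hexp
      have hq₂0 : q₂ ≠ 0 := by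
        rintro h0
        apply hQ
        rw [h0]; ring
      refine ⟨q₂ / y₂, div_ne_zero hq₂0 hy₂, Or.inr (Or.inr (Or.inl ?_))⟩
      rw [hy₁, zero_smul, zero_add, smul_add, smul_smul, smul_smul]
      have e1 : q₂ / y₂ * y₂ = q₂ := by field_simp
      have h' : k₃ * y₂ + s * q₂ = 0 := by
        have : y₂ ^ 2 * (k₃ * y₂ + s * q₂) = 0 := by linear_combination hexp
        exact (mul_eq_zero.mp this).resolve_left (pow_ne_zero 2 hy₂)
      have e2 : q₂ / y₂ * s = -k₃ := by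
        field_simp
        linear_combination h'
      rw [e1, e2]
      module
    · set t := y₂ / y₁ with ht
      set c := (q₁ * y₁ * y₂ + q₂ * y₂ ^ 2) / y₁ ^ 3 with hc
      have hc0 : c ≠ 0 := div_ne_zero hQ (pow_ne_zero 3 hy₁)
      refine ⟨c, hc0, Or.inl ⟨t, ?_⟩⟩
      have e1 : q₁ * t + q₂ * t ^ 2 = c * y₁ := by
        rw [ht, hc]; field_simp
      have e2 : (q₁ * t + q₂ * t ^ 2) * t = c * y₂ := by
        rw [ht, hc]; field_simp
      have hty : t * y₁ = y₂ := by rw [ht]; field_simp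
      have e3' : -(k₀ + k₁ * t + k₂ * t ^ 2 + k₃ * t ^ 3) * y₁ ^ 3
          = (q₁ * y₁ * y₂ + q₂ * y₂ ^ 2) * s := by
        have : -(k₀ + k₁ * t + k₂ * t ^ 2 + k₃ * t ^ 3) * y₁ ^ 3
            = -(k₀ * y₁ ^ 3 + k₁ * y₁ ^ 2 * (t * y₁) + k₂ * y₁ * (t * y₁) ^ 2
              + k₃ * (t * y₁) ^ 3) := by ring
        rw [this, hty]
        linear_combination -hexp
      have e3 : -(k₀ + k₁ * t + k₂ * t ^ 2 + k₃ * t ^ 3) = c * s := by
        rw [hc, div_mul_eq_mul_div, eq_div_iff (pow_ne_zero 3 hy₁)]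
        exact e3'
      have : (q₁ * t + q₂ * t ^ 2) • (h₁ + t • h₂) - (k₀ + k₁ * t + k₂ * t ^ 2 + k₃ * t ^ 3) • a
          = (q₁ * t + q₂ * t ^ 2) • h₁ + ((q₁ * t + q₂ * t ^ 2) * t) • h₂
            + (-(k₀ + k₁ * t + k₂ * t ^ 2 + k₃ * t ^ 3)) • a := by
        module
      rw [this, e2, e1, e3]
      module


/-- Case B: the polar quadric is a double line `h₁` on which the cubic vanishes. -/
lemma cover_caseB (P : Polar F) (a : Fin 4 → K) (hFa : eval a F = 0) {h₁ h₂ : Fin 4 → K}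
    (hh₁ : P.T a a h₁ = 0) (hh₂ : P.T a a h₂ = 0)
    (hspan : ∀ x, P.T a a x = 0 → ∃ s y₁ y₂ : K, x = (y₁ • h₁ + y₂ • h₂) + s • a)
    (hq₀ : P.T a h₁ h₁ = 0) (hk₀ : eval h₁ F = 0) (hq₁ : P.T a h₁ h₂ = 0)
    (hq₂ : 3 * P.T a h₂ h₂ ≠ 0)
    (b : Fin 4 → K) (hb0 : b ≠ 0) (hbH : P.T a a b = 0) (hbF : eval b F = 0) :
    ∃ c : K, c ≠ 0 ∧
      ((∃ t : K, (3 * P.T a h₂ h₂ * t) • (h₁ + t • h₂)
          - (3 * P.T h₁ h₁ h₂ + 3 * P.T h₁ h₂ h₂ * t + eval h₂ F * t ^ 2) • a = c • b) ∨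
       (∃ t : K, a + t • h₁ = c • b) ∨
       (3 * P.T a h₂ h₂) • h₂ - eval h₂ F • a = c • b ∨
       h₁ = c • b) := by
  set q₂ := 3 * P.T a h₂ h₂ with hq₂'
  set k₁ := 3 * P.T h₁ h₁ h₂ with hk₁
  set k₂ := 3 * P.T h₁ h₂ h₂ with hk₂
  set k₃ := eval h₂ F with hk₃
  obtain ⟨s, y₁, y₂, rfl⟩ := hspan b hbH
  have hexp : (k₁ * y₁ ^ 2 * y₂ + k₂ * y₁ * y₂ ^ 2 + k₃ * y₂ ^ 3) + s * (q₂ * y₂ ^ 2) = 0 := by
    have := P.expand_plane a h₁ h₂ hFa hh₁ hh₂ s y₁ y₂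
    rw [hbF, hq₀, hk₀, hq₁] at this
    linear_combination -this
  by_cases hy₂ : y₂ = 0
  · by_cases hs : s = 0
    · have hy₁ : y₁ ≠ 0 := by
        rintro rfl
        apply hb0
        rw [hy₂, hs]; simp
      refine ⟨y₁⁻¹, inv_ne_zero hy₁, Or.inr (Or.inr (Or.inr ?_))⟩
      rw [hy₂, hs]
      simp [smul_smul, inv_mul_cancel₀ hy₁]
    · refine ⟨s⁻¹, inv_ne_zero hs, Or.inr (Or.inl ⟨y₁ / s, ?_⟩)⟩
      rw [hy₂, zero_smul, add_zero, smul_add, smul_smul, smul_smul]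
      have e1 : s⁻¹ * y₁ = y₁ / s := by field_simp
      have e3 : s⁻¹ * s = 1 := inv_mul_cancel₀ hs
      rw [e1, e3]
      module
  · have h' : k₁ * y₁ ^ 2 + k₂ * y₁ * y₂ + k₃ * y₂ ^ 2 + s * q₂ * y₂ = 0 := by
      have : y₂ * (k₁ * y₁ ^ 2 + k₂ * y₁ * y₂ + k₃ * y₂ ^ 2 + s * q₂ * y₂) = 0 := by
        linear_combination hexp
      exact (mul_eq_zero.mp this).resolve_left hy₂
    by_cases hy₁ : y₁ = 0
    · rw [hy₁] at h'
      have h'' : k₃ * y₂ + s * q₂ = 0 := by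
        have : y₂ * (k₃ * y₂ + s * q₂) = 0 := by linear_combination h'
        exact (mul_eq_zero.mp this).resolve_left hy₂
      refine ⟨q₂ / y₂, div_ne_zero hq₂ hy₂, Or.inr (Or.inr (Or.inl ?_))⟩
      rw [hy₁, zero_smul, zero_add, smul_add, smul_smul, smul_smul]
      have e1 : q₂ / y₂ * y₂ = q₂ := by field_simp
      have e2 : q₂ / y₂ * s = -k₃ := by
        field_simp
        linear_combination h''
      rw [e1, e2]
      module
    · set t := y₂ / y₁ with ht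
      set c := q₂ * y₂ / y₁ ^ 2 with hc
      have hc0 : c ≠ 0 := div_ne_zero (mul_ne_zero hq₂ hy₂) (pow_ne_zero 2 hy₁)
      refine ⟨c, hc0, Or.inl ⟨t, ?_⟩⟩
      have hty : t * y₁ = y₂ := by rw [ht]; field_simp
      have e1 : q₂ * t = c * y₁ := by
        rw [ht, hc]; field_simp
      have e2 : q₂ * t * t = c * y₂ := by
        rw [ht, hc]; field_simp
      have e3' : -(k₁ + k₂ * t + k₃ * t ^ 2) * y₁ ^ 2 = q₂ * y₂ * s := by
        have : -(k₁ + k₂ * t + k₃ * t ^ 2) * y₁ ^ 2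
            = -(k₁ * y₁ ^ 2 + k₂ * y₁ * (t * y₁) + k₃ * (t * y₁) ^ 2) := by ring
        rw [this, hty]
        linear_combination -h'
      have e3 : -(k₁ + k₂ * t + k₃ * t ^ 2) = c * s := by
        rw [hc, div_mul_eq_mul_div, eq_div_iff (pow_ne_zero 2 hy₁)]
        exact e3'
      have : (q₂ * t) • (h₁ + t • h₂) - (k₁ + k₂ * t + k₃ * t ^ 2) • a
          = (q₂ * t) • h₁ + (q₂ * t * t) • h₂ + (-(k₁ + k₂ * t + k₃ * t ^ 2)) • a := by
        module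
      rw [this, e2, e1, e3]
      module


theorem finite_TPoints_on_tangentPlane
    (hF : F.IsHomogeneous 3)
    (tp : (Fin 4 → K) → Prop)
    (htp : ∀ b : Fin 4 → K, tp b ↔ (b ≠ 0 ∧ eval b F = 0 ∧
      (∃ i : Fin 4, eval b (pderiv i F) ≠ 0) ∧
      ∃ L₁ L₂ L₃ : MvPolynomial (Fin 4) K, L₁.IsHomogeneous 1 ∧ L₂.IsHomogeneous 1 ∧
        L₃.IsHomogeneous 1 ∧
        F - L₁ * L₂ * L₃ ∈ Ideal.span {∑ i : Fin 4, C (eval b (pderiv i F)) * X i}))
    (a : Fin 4 → K) (haF : eval a F = 0)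
    (hsm : ∃ i : Fin 4, eval a (pderiv i F) ≠ 0) (ha : ¬ tp a)
    (H : Submodule K (Fin 4 → K))
    (hH : ∀ x : Fin 4 → K, x ∈ H ↔ eval x (∑ i : Fin 4, C (eval a (pderiv i F)) * X i) = 0) :
    Set.Finite {U : Submodule K (Fin 4 → K) | Module.finrank K ↥U = 1 ∧ U ≤ H ∧
      ∀ b ∈ U, b ≠ 0 → tp b} := by
  obtain ⟨Po⟩ := exists_polar hF
  have h3 : (3 : K) ≠ 0 := by norm_num
  have ha0 : a ≠ 0 := by
    rintro rfl
    obtain ⟨i, hi⟩ := hsm
    apply hi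
    rw [Po.deriv, Po.zero₁, mul_zero]
  have hT : ¬ ∃ L₁ L₂ L₃ : MvPolynomial (Fin 4) K, L₁.IsHomogeneous 1 ∧ L₂.IsHomogeneous 1 ∧
      L₃.IsHomogeneous 1 ∧
      F - L₁ * L₂ * L₃ ∈ Ideal.span {(∑ i : Fin 4, C (eval a (pderiv i F)) * X i :
        MvPolynomial (Fin 4) K)} := fun h => ha ((htp a).mpr ⟨ha0, haF, hsm, h⟩)
  have htp' : ∀ b : Fin 4 → K, tp b → eval b F = 0 ∧
      ∃ L₁ L₂ L₃ : MvPolynomial (Fin 4) K, L₁.IsHomogeneous 1 ∧ L₂.IsHomogeneous 1 ∧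
        L₃.IsHomogeneous 1 ∧
        F - L₁ * L₂ * L₃ ∈ Ideal.span {(∑ i : Fin 4, C (eval b (pderiv i F)) * X i :
          MvPolynomial (Fin 4) K)} := fun b hb => ⟨((htp b).mp hb).2.1, ((htp b).mp hb).2.2.2⟩
  have hHT : ∀ x, x ∈ H ↔ Po.T a a x = 0 := by
    intro x
    rw [hH, Po.eval_tangentForm, mul_eq_zero]
    simp [h3]
  have haa : Po.T a a a = 0 := by rw [Po.diag]; exact haF
  set lam := Po.lin a a with hlamdef
  have hlam : lam ≠ 0 := by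
    obtain ⟨i, hi⟩ := hsm
    intro h0
    apply hi
    rw [Po.deriv]
    have : lam (Pi.single i 1) = 0 := by rw [h0]; rfl
    rw [hlamdef, Polar.lin_apply] at this
    rw [this, mul_zero]
  -- the construction from an isotropic direction
  have build : ∀ d : Fin 4 → K, lam d = 0 → d ∉ Submodule.span K {a} → Po.T a d d = 0 →
      (eval d F ≠ 0 ∨ (∀ d' : Fin 4 → K, lam d' = 0 → d' ∉ Submodule.span K {a} →
        Po.T a d' d' = 0 → eval d' F = 0)) →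
      Set.Finite {U : Submodule K (Fin 4 → K) | Module.finrank K ↥U = 1 ∧ U ≤ H ∧
        ∀ b ∈ U, b ≠ 0 → tp b} := by
    intro d hd hda hq₀ hcase
    obtain ⟨h₂, hh₂, hli, hspan⟩ := exists_adapted_basis_of lam hlam a ha0 haa d hd hda
    have hd' : Po.T a a d = 0 := hd
    have hh₂' : Po.T a a h₂ = 0 := hh₂
    have hq : 6 * Po.T a d h₂ ≠ 0 ∨ 3 * Po.T a h₂ h₂ ≠ 0 := by
      by_contra hcon
      push Not at hcon
      apply hT
      apply tpoint_of_rowsDep Po a haF hsm hd' hh₂' hli hspan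
      unfold Polar.depMat
      apply rowsDep_of_coeffs _ _ _ _ _ _ _ _ _ _ _ _ 1 0 0 (by simp)
      · rw [hq₀]; ring
      · rw [hcon.1]; ring
      · rw [hcon.2]; ring
      · ring
    rcases hcase with hk₀ | hB
    · -- case A
      refine finite_of_cover Po a haF hsm hd' hh₂' hli hspan hT tp htp' H hHT
        (fun t => (6 * Po.T a d h₂ * t + 3 * Po.T a h₂ h₂ * t ^ 2) • (d + t • h₂)
          - (eval d F + 3 * Po.T d d h₂ * t + 3 * Po.T d h₂ h₂ * t ^ 2 + eval h₂ F * t ^ 3) • a)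
        (fun t => a + t • ((3 * Po.T a h₂ h₂) • d - (6 * Po.T a d h₂) • h₂))
        ?_ ?_ (-(eval d F)) 1 (neg_ne_zero.mpr hk₀) one_ne_zero ?_ ?_
        ((3 * Po.T a h₂ h₂) • h₂ - eval h₂ F • a)
        ((3 * Po.T a h₂ h₂) • d - (6 * Po.T a d h₂) • h₂)
        (fun b hb0 hbH hbF => cover_caseA Po a haF hd' hh₂' hspan hq₀ hk₀ hq b hb0 hbH hbF)
      · apply IsPolyVec.sub
        · apply IsPolyVec.smul
          · exact ((IsPoly.const _).mul IsPoly.id).add ((IsPoly.const _).mul (IsPoly.id.pow 2))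
          · exact (IsPolyVec.const d).add (IsPolyVec.smul IsPoly.id (IsPolyVec.const h₂))
        · apply IsPolyVec.smul
          · exact (((IsPoly.const _).add ((IsPoly.const _).mul IsPoly.id)).add
              ((IsPoly.const _).mul (IsPoly.id.pow 2))).add ((IsPoly.const _).mul (IsPoly.id.pow 3))
          · exact IsPolyVec.const a
      · exact (IsPolyVec.const a).add (IsPolyVec.smul IsPoly.id (IsPolyVec.const _))
      · simp
      · simp
    · -- case B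
      have hk₀ : eval d F = 0 := hB d hd hda hq₀
      have hexp0 : ∀ y₁ y₂ : K, eval (y₁ • d + y₂ • h₂) F
          = (eval d F * y₁ ^ 3 + 3 * Po.T d d h₂ * y₁ ^ 2 * y₂ + 3 * Po.T d h₂ h₂ * y₁ * y₂ ^ 2
              + eval h₂ F * y₂ ^ 3) := by
        intro y₁ y₂
        have := Po.expand_plane a d h₂ haF hd' hh₂' 0 y₁ y₂
        rw [zero_smul, add_zero, zero_mul, add_zero] at this
        exact this
      have hq₁ : Po.T a d h₂ = 0 := by
        by_contra hq₁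
        set q₁ := 6 * Po.T a d h₂ with hq₁def
        set q₂ := 3 * Po.T a h₂ h₂ with hq₂def
        have hq₁0 : q₁ ≠ 0 := mul_ne_zero (by norm_num) hq₁
        have hd₂lam : lam (q₂ • d - q₁ • h₂) = 0 := by
          rw [map_sub, map_smul, map_smul, hd, hh₂]; simp
        have hd₂a : q₂ • d - q₁ • h₂ ∉ Submodule.span K {a} := by
          intro hmem
          rw [Submodule.mem_span_singleton] at hmem
          obtain ⟨c, hc⟩ := hmem
          have h : (q₂ • d + (-q₁) • h₂) + (0 : K) • a = ((0 : K) • d + (0 : K) • h₂) + c • a := by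
            rw [hc]; module
          obtain ⟨-, -, e2⟩ := coords_unique hli h
          exact hq₁0 (by linear_combination -e2)
        have hd₂q : Po.T a (q₂ • d - q₁ • h₂) (q₂ • d - q₁ • h₂) = 0 := by
          simp only [Po.sub₂, Po.sub₃, Po.smul₂, Po.smul₃]
          rw [Po.swap₂₃ a h₂ d, hq₀]
          rw [hq₁def, hq₂def]
          ring
        have hFd₂ := hB _ hd₂lam hd₂a hd₂q
        have : q₂ • d - q₁ • h₂ = q₂ • d + (-q₁) • h₂ := by module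
        rw [this, hexp0, hk₀] at hFd₂
        have hk' : 3 * Po.T d d h₂ * q₂ ^ 2 - 3 * Po.T d h₂ h₂ * q₁ * q₂ + eval h₂ F * q₁ ^ 2 = 0 := by
          have : (-q₁) * (3 * Po.T d d h₂ * q₂ ^ 2 - 3 * Po.T d h₂ h₂ * q₁ * q₂
              + eval h₂ F * q₁ ^ 2) = 0 := by linear_combination hFd₂
          exact (mul_eq_zero.mp this).resolve_left (neg_ne_zero.mpr hq₁0)
        apply hT
        apply tpoint_of_rowsDep Po a haF hsm hd' hh₂' hli hspan
        unfold Polar.depMat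
        apply rowsDep_of_coeffs _ _ _ _ _ _ _ _ _ _ _ _
          (-(3 * Po.T d d h₂ * q₁)) (-(3 * Po.T d h₂ h₂ * q₁ - q₂ * (3 * Po.T d d h₂))) (q₁ ^ 2)
        · rintro ⟨-, -, h⟩
          exact hq₁0 (pow_eq_zero_iff (by norm_num) |>.mp h)
        · rw [hq₀, hk₀]; ring
        · rw [hq₀]; ring
        · ring
        · linear_combination hk'
      have hq₂ : 3 * Po.T a h₂ h₂ ≠ 0 := by
        rcases hq with h | h
        · rw [hq₁] at h; simp at h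
        · exact h
      have hk₁ : 3 * Po.T d d h₂ ≠ 0 := by
        intro hk₁
        apply hT
        apply tpoint_of_rowsDep Po a haF hsm hd' hh₂' hli hspan
        unfold Polar.depMat
        apply rowsDep_of_coeffs _ _ _ _ _ _ _ _ _ _ _ _
          (-(3 * Po.T d h₂ h₂)) (-(eval h₂ F)) (3 * Po.T a h₂ h₂)
        · rintro ⟨-, -, h⟩
          exact hq₂ h
        · rw [hq₀, hk₀]; ring
        · rw [hq₀, hq₁, hk₁]; ring
        · rw [hq₁]; ring
        · ring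
      refine finite_of_cover Po a haF hsm hd' hh₂' hli hspan hT tp htp' H hHT
        (fun t => (3 * Po.T a h₂ h₂ * t) • (d + t • h₂)
          - (3 * Po.T d d h₂ + 3 * Po.T d h₂ h₂ * t + eval h₂ F * t ^ 2) • a)
        (fun t => a + t • d)
        ?_ ?_ (-(3 * Po.T d d h₂)) 1 (neg_ne_zero.mpr hk₁) one_ne_zero ?_ ?_
        ((3 * Po.T a h₂ h₂) • h₂ - eval h₂ F • a) d
        (fun b hb0 hbH hbF => cover_caseB Po a haF hd' hh₂' hspan hq₀ hk₀ hq₁ hq₂ b hb0 hbH hbF)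
      · apply IsPolyVec.sub
        · apply IsPolyVec.smul
          · exact (IsPoly.const _).mul IsPoly.id
          · exact (IsPolyVec.const d).add (IsPolyVec.smul IsPoly.id (IsPolyVec.const h₂))
        · apply IsPolyVec.smul
          · exact ((IsPoly.const _).add ((IsPoly.const _).mul IsPoly.id)).add
              ((IsPoly.const _).mul (IsPoly.id.pow 2))
          · exact IsPolyVec.const a
      · exact (IsPolyVec.const a).add (IsPolyVec.smul IsPoly.id (IsPolyVec.const _))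
      · simp
      · simp
  -- choose the isotropic direction
  by_cases hA : ∃ d : Fin 4 → K, lam d = 0 ∧ d ∉ Submodule.span K {a} ∧ Po.T a d d = 0 ∧
      eval d F ≠ 0
  · obtain ⟨d, hd, hda, hq₀, hk₀⟩ := hA
    exact build d hd hda hq₀ (Or.inl hk₀)
  · push Not at hA
    obtain ⟨h₁, h₂, hh₁, hh₂, hli, hspan⟩ := exists_adapted_basis lam hlam a ha0 haa
    have hh₂0 : h₂ ≠ 0 := by
      rintro rfl
      have h : ((0 : K) • h₁ + (1 : K) • (0 : Fin 4 → K)) + (0 : K) • a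
          = ((0 : K) • h₁ + (0 : K) • (0 : Fin 4 → K)) + (0 : K) • a := by simp
      obtain ⟨-, -, e⟩ := coords_unique hli h
      exact one_ne_zero e
    have hh₁h₂ : h₁ ∉ Submodule.span K {h₂} := by
      intro hmem
      rw [Submodule.mem_span_singleton] at hmem
      obtain ⟨c, hc⟩ := hmem
      have h : ((1 : K) • h₁ + (0 : K) • h₂) + (0 : K) • a
          = ((0 : K) • h₁ + c • h₂) + (0 : K) • a := by
        rw [hc]; module
      obtain ⟨-, e, -⟩ := coords_unique hli h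
      exact one_ne_zero e
    obtain ⟨s, t, hne, hroot⟩ := Po.exists_root_on_plane h₁ h₂ a hh₁h₂ hh₂0
    have hd : lam (s • h₁ + t • h₂) = 0 := by
      rw [map_add, map_smul, map_smul, hh₁, hh₂]; simp
    have hda : s • h₁ + t • h₂ ∉ Submodule.span K {a} := by
      intro hmem
      rw [Submodule.mem_span_singleton] at hmem
      obtain ⟨c, hc⟩ := hmem
      have h : (s • h₁ + t • h₂) + (0 : K) • a = ((0 : K) • h₁ + (0 : K) • h₂) + c • a := by
        rw [hc]; module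
      obtain ⟨-, e1, e2⟩ := coords_unique hli h
      apply hne
      rw [e1, e2]; simp
    have hq₀ : Po.T a (s • h₁ + t • h₂) (s • h₁ + t • h₂) = 0 := by
      rw [Po.swap₁₃]; exact hroot
    exact build _ hd hda hq₀ (Or.inr (fun d' h1 h2 h3 => hA d' h1 h2 h3))

end G

end Groth.Agent.Lib.Helper8.CubicK
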