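import Mathlib
import Groth.Agent.Lib.Helper8.TPt6
set_option backward.isDefEq.respectTransparency.types false
set_option autoImplicit false
set_option linter.unusedSectionVars false
set_option linter.style.haveILetI false
set_option linter.unreachableTactic false
set_option linter.unusedTactic false

namespace Groth.Agent.Lib.Helper8.GP

open MvPolynomial Groth.Agent.Lib.Helper8.CubicK

section basic

variable {k : Type*} [Field k]

/-- a nonzero polynomial over an infinite field has a nonzero value -/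
lemma exists_eval_ne_zero [Infinite k] {σ : Type*} {Q : MvPolynomial σ k} (hQ : Q ≠ 0) :
    ∃ u : σ → k, eval u Q ≠ 0 := by
  by_contra h
  push Not at h
  exact hQ (MvPolynomial.funext (fun u => by simpa using h u))

/-- a nonzero linear form vanishing on three given vectors -/
lemma exists_form (v : Fin 3 → (Fin 4 → k)) :
    ∃ ψ : (Fin 4 → k) →ₗ[k] k, ψ ≠ 0 ∧ ∀ i, ψ (v i) = 0 := by
  have hlt : Submodule.span k (Set.range v) < ⊤ := by
    rw [lt_top_iff_ne_top]
    intro htop
    have h1 := finrank_range_le_card (R := k) v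
    rw [Set.finrank, htop, finrank_top, Module.finrank_fin_fun] at h1
    simp at h1
  obtain ⟨ψ, hψ, hmap⟩ := Submodule.exists_dual_map_eq_bot_of_lt_top hlt inferInstance
  refine ⟨ψ, hψ, fun i => ?_⟩
  have : ψ (v i) ∈ (Submodule.span k (Set.range v)).map ψ :=
    Submodule.mem_map_of_mem (Submodule.subset_span ⟨i, rfl⟩)
  rw [hmap] at this
  exact (Submodule.mem_bot k).mp this

/-- a family extended by a vector on which a form vanishing on the family does not vanish -/
lemma li_snoc_of_form {n : ℕ} {V : Type*} [AddCommGroup V] [Module k V] (x : Fin (n + 1) → V)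
    (ψ : V →ₗ[k] k) (h0 : ∀ i : Fin n, ψ (x i.castSucc) = 0) (h1 : ψ (x (Fin.last n)) ≠ 0)
    (hli : LinearIndependent k (fun i : Fin n => x i.castSucc)) : LinearIndependent k x := by
  have hx : x = Fin.snoc (fun i : Fin n => x i.castSucc) (x (Fin.last n)) := by
    funext i
    refine Fin.lastCases ?_ (fun j => ?_) i
    · simp
    · simp
  rw [hx, linearIndependent_finSnoc]
  refine ⟨hli, fun hmem => h1 ?_⟩
  have hle : Submodule.span k (Set.range fun i : Fin n => x i.castSucc) ≤ LinearMap.ker ψ := by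
    rw [Submodule.span_le]
    rintro _ ⟨i, rfl⟩
    exact h0 i
  exact hle hmem

/-- explicit four-vector version with the special vector last -/
lemma li4_last {V : Type*} [AddCommGroup V] [Module k V] {x₀ x₁ x₂ x₃ : V}
    (hli : LinearIndependent k ![x₀, x₁, x₂]) (ψ : V →ₗ[k] k) (h0 : ψ x₀ = 0) (h1 : ψ x₁ = 0)
    (h2 : ψ x₂ = 0) (h3 : ψ x₃ ≠ 0) : LinearIndependent k ![x₀, x₁, x₂, x₃] := by
  apply li_snoc_of_form (n := 3) ![x₀, x₁, x₂, x₃] ψ
  · intro i
    fin_cases i
    · exact h0
    · exact h1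
    · exact h2
  · exact h3
  · convert hli using 1
    funext i
    fin_cases i <;> rfl

lemma li3_last {V : Type*} [AddCommGroup V] [Module k V] {x₀ x₁ x₂ : V}
    (hli : LinearIndependent k ![x₀, x₁]) (ψ : V →ₗ[k] k) (h0 : ψ x₀ = 0) (h1 : ψ x₁ = 0)
    (h2 : ψ x₂ ≠ 0) : LinearIndependent k ![x₀, x₁, x₂] := by
  apply li_snoc_of_form (n := 2) ![x₀, x₁, x₂] ψ
  · intro i
    fin_cases i
    · exact h0
    · exact h1
  · exact h2
  · convert hli using 1
    funext i
    fin_cases i <;> rfl

lemma li2_last {V : Type*} [AddCommGroup V] [Module k V] {x₀ x₁ : V}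
    (hx₀ : x₀ ≠ 0) (ψ : V →ₗ[k] k) (h0 : ψ x₀ = 0) (h1 : ψ x₁ ≠ 0) :
    LinearIndependent k ![x₀, x₁] := by
  apply li_snoc_of_form (n := 1) ![x₀, x₁] ψ
  · intro i
    fin_cases i
    exact h0
  · exact h1
  · have : (fun i : Fin 1 => ![x₀, x₁] i.castSucc) = ![x₀] := by
      funext i
      fin_cases i; rfl
    rw [this, linearIndependent_unique_iff]
    simpa using hx₀

/-- reindexing of a linearly independent family of four vectors -/
lemma li_reindex {V : Type*} [AddCommGroup V] [Module k V] {m n : ℕ} {x : Fin n → V}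
    (hli : LinearIndependent k x) (σ : Fin m → Fin n) (hσ : Function.Injective σ) (y : Fin m → V)
    (hy : ∀ i, y i = x (σ i)) : LinearIndependent k y := by
  have : y = x ∘ σ := funext hy
  rw [this]
  exact hli.comp σ hσ

end basic

section basechange

variable {k : Type*} [Field k] {K : Type*} [Field K] [Algebra k K]

/-- base change of a vector -/
def bc (K : Type*) [Field K] [Algebra k K] (x : Fin 4 → k) : Fin 4 → K := fun i => algebraMap k K (x i)

@[simp] lemma bc_apply (x : Fin 4 → k) (i : Fin 4) : bc K x i = algebraMap k K (x i) := rfl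

lemma bc_add (x y : Fin 4 → k) : bc K (x + y) = bc K x + bc K y := by
  funext i; simp [bc]

lemma bc_smul (c : k) (x : Fin 4 → k) : bc K (c • x) = algebraMap k K c • bc K x := by
  funext i; simp [bc]

lemma bc_sub (x y : Fin 4 → k) : bc K (x - y) = bc K x - bc K y := by
  funext i; simp [bc]

lemma bc_zero : bc K (0 : Fin 4 → k) = 0 := by
  funext i; simp [bc]

lemma bc_single (i : Fin 4) : bc K (Pi.single i (1 : k)) = Pi.single i 1 := by
  funext j
  by_cases h : j = i
  · subst h; simp [bc]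
  · simp [bc, h]

lemma bc_injective : Function.Injective (bc K : (Fin 4 → k) → (Fin 4 → K)) := by
  intro x y h
  funext i
  exact (algebraMap k K).injective (congrFun h i)

lemma bc_ne_zero {x : Fin 4 → k} (hx : x ≠ 0) : bc K x ≠ 0 := by
  intro h
  apply hx
  apply bc_injective (K := K)
  rw [h, bc_zero]

/-- evaluation commutes with base change -/
lemma eval_bc (F : MvPolynomial (Fin 4) k) (x : Fin 4 → k) :
    eval (bc K x) (map (algebraMap k K) F) = algebraMap k K (eval x F) := by
  rw [eval_map]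
  have := eval₂_comp_left (algebraMap k K) (RingHom.id k) x F
  simp only [RingHom.comp_id] at this
  rw [← eval₂_id] 
  exact this.symm

lemma eval_pderiv_bc (F : MvPolynomial (Fin 4) k) (x : Fin 4 → k) (i : Fin 4) :
    eval (bc K x) (pderiv i (map (algebraMap k K) F)) = algebraMap k K (eval x (pderiv i F)) := by
  rw [pderiv_map, eval_bc]

end basechange

end Groth.Agent.Lib.Helper8.GP

namespace Groth.Agent.Lib.Helper8.CubicK

open MvPolynomial Groth.Agent.Lib.Helper8.GP

section polar

variable {k : Type*} [Field k] [CharZero k] {F : MvPolynomial (Fin 4) k}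

/-- the polarisation formula: the polar form is determined by the cubic -/
lemma Polar.six_T (P : Polar F) (x y z : Fin 4 → k) :
    6 * P.T x y z = eval (x + y + z) F - eval (x + y) F - eval (x + z) F - eval (y + z) F
      + eval x F + eval y F + eval z F := by
  simp only [← P.diag, P.add₁, P.add₂, P.add₃]
  have exyx : P.T x y x = P.T x x y := by
    first
      | exact P.swap₁₂ _ _ _
      | exact P.swap₂₃ _ _ _
      | exact P.swap₁₃ _ _ _
      | exact (P.swap₁₂ _ _ _).trans (P.swap₂₃ _ _ _)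
      | exact (P.swap₂₃ _ _ _).trans (P.swap₁₂ _ _ _)
  have exzx : P.T x z x = P.T x x z := by
    first
      | exact P.swap₁₂ _ _ _
      | exact P.swap₂₃ _ _ _
      | exact P.swap₁₃ _ _ _
      | exact (P.swap₁₂ _ _ _).trans (P.swap₂₃ _ _ _)
      | exact (P.swap₂₃ _ _ _).trans (P.swap₁₂ _ _ _)
  have exzy : P.T x z y = P.T x y z := by
    first
      | exact P.swap₁₂ _ _ _
      | exact P.swap₂₃ _ _ _
      | exact P.swap₁₃ _ _ _
      | exact (P.swap₁₂ _ _ _).trans (P.swap₂₃ _ _ _)
      | exact (P.swap₂₃ _ _ _).trans (P.swap₁₂ _ _ _)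
  have eyxx : P.T y x x = P.T x x y := by
    first
      | exact P.swap₁₂ _ _ _
      | exact P.swap₂₃ _ _ _
      | exact P.swap₁₃ _ _ _
      | exact (P.swap₁₂ _ _ _).trans (P.swap₂₃ _ _ _)
      | exact (P.swap₂₃ _ _ _).trans (P.swap₁₂ _ _ _)
  have eyxy : P.T y x y = P.T x y y := by
    first
      | exact P.swap₁₂ _ _ _
      | exact P.swap₂₃ _ _ _
      | exact P.swap₁₃ _ _ _
      | exact (P.swap₁₂ _ _ _).trans (P.swap₂₃ _ _ _)
      | exact (P.swap₂₃ _ _ _).trans (P.swap₁₂ _ _ _)
  have eyxz : P.T y x z = P.T x y z := by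
    first
      | exact P.swap₁₂ _ _ _
      | exact P.swap₂₃ _ _ _
      | exact P.swap₁₃ _ _ _
      | exact (P.swap₁₂ _ _ _).trans (P.swap₂₃ _ _ _)
      | exact (P.swap₂₃ _ _ _).trans (P.swap₁₂ _ _ _)
  have eyyx : P.T y y x = P.T x y y := by
    first
      | exact P.swap₁₂ _ _ _
      | exact P.swap₂₃ _ _ _
      | exact P.swap₁₃ _ _ _
      | exact (P.swap₁₂ _ _ _).trans (P.swap₂₃ _ _ _)
      | exact (P.swap₂₃ _ _ _).trans (P.swap₁₂ _ _ _)
  have eyzx : P.T y z x = P.T x y z := by
    first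
      | exact P.swap₁₂ _ _ _
      | exact P.swap₂₃ _ _ _
      | exact P.swap₁₃ _ _ _
      | exact (P.swap₁₂ _ _ _).trans (P.swap₂₃ _ _ _)
      | exact (P.swap₂₃ _ _ _).trans (P.swap₁₂ _ _ _)
  have eyzy : P.T y z y = P.T y y z := by
    first
      | exact P.swap₁₂ _ _ _
      | exact P.swap₂₃ _ _ _
      | exact P.swap₁₃ _ _ _
      | exact (P.swap₁₂ _ _ _).trans (P.swap₂₃ _ _ _)
      | exact (P.swap₂₃ _ _ _).trans (P.swap₁₂ _ _ _)
  have ezxx : P.T z x x = P.T x x z := by
    first
      | exact P.swap₁₂ _ _ _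
      | exact P.swap₂₃ _ _ _
      | exact P.swap₁₃ _ _ _
      | exact (P.swap₁₂ _ _ _).trans (P.swap₂₃ _ _ _)
      | exact (P.swap₂₃ _ _ _).trans (P.swap₁₂ _ _ _)
  have ezxy : P.T z x y = P.T x y z := by
    first
      | exact P.swap₁₂ _ _ _
      | exact P.swap₂₃ _ _ _
      | exact P.swap₁₃ _ _ _
      | exact (P.swap₁₂ _ _ _).trans (P.swap₂₃ _ _ _)
      | exact (P.swap₂₃ _ _ _).trans (P.swap₁₂ _ _ _)
  have ezxz : P.T z x z = P.T x z z := by
    first
      | exact P.swap₁₂ _ _ _
      | exact P.swap₂₃ _ _ _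
      | exact P.swap₁₃ _ _ _
      | exact (P.swap₁₂ _ _ _).trans (P.swap₂₃ _ _ _)
      | exact (P.swap₂₃ _ _ _).trans (P.swap₁₂ _ _ _)
  have ezyx : P.T z y x = P.T x y z := by
    first
      | exact P.swap₁₂ _ _ _
      | exact P.swap₂₃ _ _ _
      | exact P.swap₁₃ _ _ _
      | exact (P.swap₁₂ _ _ _).trans (P.swap₂₃ _ _ _)
      | exact (P.swap₂₃ _ _ _).trans (P.swap₁₂ _ _ _)
  have ezyy : P.T z y y = P.T y y z := by
    first
      | exact P.swap₁₂ _ _ _
      | exact P.swap₂₃ _ _ _
      | exact P.swap₁₃ _ _ _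
      | exact (P.swap₁₂ _ _ _).trans (P.swap₂₃ _ _ _)
      | exact (P.swap₂₃ _ _ _).trans (P.swap₁₂ _ _ _)
  have ezyz : P.T z y z = P.T y z z := by
    first
      | exact P.swap₁₂ _ _ _
      | exact P.swap₂₃ _ _ _
      | exact P.swap₁₃ _ _ _
      | exact (P.swap₁₂ _ _ _).trans (P.swap₂₃ _ _ _)
      | exact (P.swap₂₃ _ _ _).trans (P.swap₁₂ _ _ _)
  have ezzx : P.T z z x = P.T x z z := by
    first
      | exact P.swap₁₂ _ _ _
      | exact P.swap₂₃ _ _ _
      | exact P.swap₁₃ _ _ _
      | exact (P.swap₁₂ _ _ _).trans (P.swap₂₃ _ _ _)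
      | exact (P.swap₂₃ _ _ _).trans (P.swap₁₂ _ _ _)
  have ezzy : P.T z z y = P.T y z z := by
    first
      | exact P.swap₁₂ _ _ _
      | exact P.swap₂₃ _ _ _
      | exact P.swap₁₃ _ _ _
      | exact (P.swap₁₂ _ _ _).trans (P.swap₂₃ _ _ _)
      | exact (P.swap₂₃ _ _ _).trans (P.swap₁₂ _ _ _)
  simp only [exyx, exzx, exzy, eyxx, eyxy, eyxz, eyyx, eyzx, eyzy, ezxx, ezxy, ezxz, ezyx, ezyy, ezyz, ezzx, ezzy]
  ring

variable {K : Type*} [Field K] [CharZero K] [Algebra k K]

/-- polar forms commute with base change -/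
lemma Polar.T_bc (P : Polar F) (PK : Polar (map (algebraMap k K) F)) (x y z : Fin 4 → k) :
    PK.T (bc K x) (bc K y) (bc K z) = algebraMap k K (P.T x y z) := by
  have h1 := PK.six_T (bc K x) (bc K y) (bc K z)
  have h2 := congrArg (algebraMap k K) (P.six_T x y z)
  simp only [← bc_add, eval_bc] at h1
  simp only [map_mul, map_add, map_sub] at h2
  have h6 : (6 : K) ≠ 0 := by norm_num
  have e6 : algebraMap k K 6 = 6 := map_ofNat _ 6
  rw [e6] at h2
  apply mul_left_cancel₀ h6
  rw [h1, h2]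

end polar

end Groth.Agent.Lib.Helper8.CubicK
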