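import Mathlib
import Groth.Agent.Lib.Helper8.GP1
set_option backward.isDefEq.respectTransparency.types false
set_option autoImplicit false
set_option linter.unusedSectionVars false
set_option linter.style.haveILetI false

namespace Groth.Agent.Lib.Helper8.GP

open MvPolynomial Groth.Agent.Lib.Helper8.CubicK

section par

variable {k : Type*} [Field k] [CharZero k] {F : MvPolynomial (Fin 4) k}

/-- the residual intersection point of the surface with the tangent line at `b` in direction `v` -/
noncomputable def par (P : Polar F) (b v : Fin 4 → k) : Fin 4 → k :=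
  (3 * P.T b v v) • v - eval v F • b

lemma par_eq (P : Polar F) (b v : Fin 4 → k) :
    par P b v = (3 * P.T b v v) • v + (-eval v F) • b := by
  unfold par
  rw [sub_eq_add_neg, neg_smul]

lemma eval_par (P : Polar F) {b v : Fin 4 → k} (hb : eval b F = 0) (hv : P.T b b v = 0) :
    eval (par P b v) F = 0 := by
  rw [par_eq, P.cube_add, P.eval_smul, hb]
  simp only [P.smul₁, P.smul₂]
  rw [P.swap₁₃ v v b, P.swap₁₃ v b b, hv]
  ring

lemma T_par (P : Polar F) {b v : Fin 4 → k} (hb : eval b F = 0) (hv : P.T b b v = 0) :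
    P.T b b (par P b v) = 0 := by
  rw [par_eq, P.add₃, P.smul₃, P.smul₃, hv, P.diag, hb]
  ring

lemma form_par (P : Polar F) (b v : Fin 4 → k) (ψ : (Fin 4 → k) →ₗ[k] k) :
    ψ (par P b v) = 3 * P.T b v v * ψ v - eval v F * ψ b := by
  unfold par
  rw [map_sub, map_smul, map_smul, smul_eq_mul, smul_eq_mul]

lemma T_par_par (P : Polar F) {b v : Fin 4 → k} (hb : eval b F = 0) (hv : P.T b b v = 0) :
    P.T (par P b v) (par P b v) b = 9 * P.T b v v ^ 3 := by
  rw [par_eq]
  simp only [P.add₁, P.add₂, P.smul₁, P.smul₂]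
  rw [P.swap₁₃ v v b, P.swap₁₃ v b b, hv, P.swap₁₂ b v b, P.swap₁₃ v b b, hv, P.diag, hb]
  ring

/-- a point with `T(p,p,x) ≠ 0` for some `x` is a smooth point -/
lemma smooth_of_T_ne (P : Polar F) {p x : Fin 4 → k} (h : P.T p p x ≠ 0) :
    ∃ i : Fin 4, eval p (pderiv i F) ≠ 0 := by
  by_contra hcon
  push Not at hcon
  apply h
  rw [P.T_eq_sum]
  apply Finset.sum_eq_zero
  intro j _
  have := hcon j
  rw [P.deriv] at this
  have h3 : (3 : k) ≠ 0 := by norm_num
  rw [(mul_eq_zero.mp this).resolve_left h3, mul_zero]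

/-- at a smooth point the tangent form is nonzero -/
lemma lin_ne_zero (P : Polar F) {p : Fin 4 → k} (h : ∃ i : Fin 4, eval p (pderiv i F) ≠ 0) :
    P.lin p p ≠ 0 := by
  obtain ⟨i, hi⟩ := h
  intro h0
  apply hi
  rw [P.deriv]
  have : P.lin p p (Pi.single i 1) = 0 := by rw [h0]; rfl
  rw [Polar.lin_apply] at this
  rw [this, mul_zero]

end par

section frames

variable {k : Type*} [Field k]

/-- three independent vectors in the kernel of a nonzero form span the kernel -/
lemma span_of_li_ker (lam : (Fin 4 → k) →ₗ[k] k) (hlam : lam ≠ 0) {a h₁ h₂ : Fin 4 → k}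
    (ha : lam a = 0) (hh₁ : lam h₁ = 0) (hh₂ : lam h₂ = 0)
    (hli : LinearIndependent k ![h₂, a, h₁]) :
    ∀ x, lam x = 0 → ∃ s y₁ y₂ : k, x = (y₁ • h₁ + y₂ • h₂) + s • a := by
  have hfr : Module.finrank k (LinearMap.ker lam) = 3 := by
    have h := Module.Dual.finrank_ker_add_one_of_ne_zero (K := k) (V₁ := (Fin 4 → k)) (f := lam) hlam
    rw [Module.finrank_fin_fun] at h
    omega
  have hfr3 : Module.finrank k (Submodule.span k (Set.range ![h₂, a, h₁])) = 3 := by
    rw [finrank_span_eq_card hli]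
    simp
  have hle : Submodule.span k (Set.range ![h₂, a, h₁]) ≤ LinearMap.ker lam := by
    rw [Submodule.span_le]
    rintro _ ⟨i, rfl⟩
    fin_cases i
    · exact hh₂
    · exact ha
    · exact hh₁
  have heq : Submodule.span k (Set.range ![h₂, a, h₁]) = LinearMap.ker lam :=
    Submodule.eq_of_le_of_finrank_eq hle (by rw [hfr3, hfr])
  intro x hx
  have hx' : x ∈ Submodule.span k (Set.range ![h₂, a, h₁]) := by
    rw [heq]; exact hx
  rw [Submodule.mem_span_range_iff_exists_fun] at hx'
  obtain ⟨c, hc⟩ := hx'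
  rw [Fin.sum_univ_three] at hc
  refine ⟨c 1, c 2, c 0, ?_⟩
  rw [← hc]
  simp only [Matrix.cons_val_zero, Matrix.cons_val_one, Matrix.cons_val_two]
  abel

/-- an adapted basis of the kernel of a nonzero form through a given kernel vector -/
lemma exists_frame (lam : (Fin 4 → k) →ₗ[k] k) (hlam : lam ≠ 0) {a : Fin 4 → k} (ha0 : a ≠ 0)
    (ha : lam a = 0) :
    ∃ h₁ h₂ : Fin 4 → k, lam h₁ = 0 ∧ lam h₂ = 0 ∧ LinearIndependent k ![h₂, a, h₁] := by
  have hfr : Module.finrank k (LinearMap.ker lam) = 3 := by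
    have h := Module.Dual.finrank_ker_add_one_of_ne_zero (K := k) (V₁ := (Fin 4 → k)) (f := lam) hlam
    rw [Module.finrank_fin_fun] at h
    omega
  let a' : LinearMap.ker lam := ⟨a, ha⟩
  have ha' : a' ≠ 0 := by
    intro h
    apply ha0
    exact congrArg Subtype.val h
  have hli1 : LinearIndependent k ![a'] := by
    rw [linearIndependent_unique_iff]
    simpa using ha'
  obtain ⟨h₁', hli2⟩ := exists_linearIndependent_cons_of_lt_finrank hli1 (by rw [hfr]; simp)
  obtain ⟨h₂', hli3⟩ := exists_linearIndependent_cons_of_lt_finrank hli2 (by rw [hfr]; simp)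
  refine ⟨h₁'.1, h₂'.1, h₁'.2, h₂'.2, ?_⟩
  have := hli3.map' (LinearMap.ker lam).subtype (Submodule.ker_subtype _)
  -- reorder `(h₂', h₁', a')` to `(h₂, a, h₁)`
  apply li_reindex this ![0, 2, 1] (by decide)
  intro i
  fin_cases i <;> rfl

end frames

section li

variable {k : Type*} [Field k] {K : Type*} [Field K] [Algebra k K]

/-- linear independence of three vectors is preserved by base change -/
lemma li_bc (v : Fin 3 → (Fin 4 → k)) (hli : LinearIndependent k v) :
    LinearIndependent K (fun i => bc K (v i)) := by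
  have hnd : ¬ RowsDep v := by
    rintro ⟨g, hg, hsum⟩
    apply hg
    funext i
    exact Fintype.linearIndependent_iff.mp hli g hsum i
  obtain ⟨a, ha⟩ := exists_minor_ne_zero_of_not_rowsDep v hnd
  rw [Fintype.linearIndependent_iff]
  intro g hg
  by_contra hcon
  push Not at hcon
  have hdep : RowsDep (fun i => bc K (v i)) := by
    refine ⟨g, ?_, hg⟩
    obtain ⟨i, hi⟩ := hcon
    intro h0
    exact hi (congrFun h0 i)
  have h0 := minor_eq_zero_of_rowsDep _ hdep a
  have e : (Matrix.of fun i j : Fin 3 => bc K (v j) (a i))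
      = (algebraMap k K).mapMatrix (Matrix.of fun i j : Fin 3 => v j (a i)) := by
    ext i j
    simp [bc]
  rw [e, ← RingHom.map_det] at h0
  exact ha ((algebraMap k K).injective (by rw [h0, map_zero]))

end li

end Groth.Agent.Lib.Helper8.GP
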