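import Mathlib
import Groth.Agent.Lib.Helper8.GP2
set_option backward.isDefEq.respectTransparency.types false
set_option autoImplicit false
set_option linter.unusedSectionVars false
set_option linter.style.haveILetI false

namespace Groth.Agent.Lib.Helper8.GP

open MvPolynomial Groth.Agent.Lib.Helper8.CubicK

variable {k : Type*} [Field k] [CharZero k] {F : MvPolynomial (Fin 4) k}
variable (K : Type*) [Field K] [CharZero K] [IsAlgClosed K] [Algebra k K]

/-- `b` is a `T`-point, in the form of the statements (`K` is the algebraic closure) -/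
def TP (F : MvPolynomial (Fin 4) k) (b : Fin 4 → k) : Prop :=
  ∃ L₁ L₂ L₃ : MvPolynomial (Fin 4) K, L₁.IsHomogeneous 1 ∧ L₂.IsHomogeneous 1 ∧
    L₃.IsHomogeneous 1 ∧
    map (algebraMap k K) F - L₁ * L₂ * L₃ ∈ Ideal.span
      {(∑ i : Fin 4, C (algebraMap k K (eval b (pderiv i F))) * X i : MvPolynomial (Fin 4) K)}

/-- a frame of the tangent plane at a smooth point of the surface -/
structure TFrame (P : Polar F) (b w₁ w₂ : Fin 4 → k) : Prop where
  hb : eval b F = 0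
  h₁ : P.T b b w₁ = 0
  h₂ : P.T b b w₂ = 0
  li : LinearIndependent k ![w₂, b, w₁]
  sm : ∃ i : Fin 4, eval b (pderiv i F) ≠ 0

variable {K}

/-- dependency of the rows over `k` makes the point a `T`-point -/
lemma TP_of_dep (hF : F.IsHomogeneous 3) (P : Polar F) {b w₁ w₂ : Fin 4 → k}
    (fr : TFrame P b w₁ w₂) (g₁ g₂ g₃ : k) (hg : ¬ (g₁ = 0 ∧ g₂ = 0 ∧ g₃ = 0))
    (e0 : g₁ * (3 * P.T b w₁ w₁) + g₃ * eval w₁ F = 0)
    (e1 : g₁ * (6 * P.T b w₁ w₂) + g₂ * (3 * P.T b w₁ w₁) + g₃ * (3 * P.T w₁ w₁ w₂) = 0)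
    (e2 : g₁ * (3 * P.T b w₂ w₂) + g₂ * (6 * P.T b w₁ w₂) + g₃ * (3 * P.T w₁ w₂ w₂) = 0)
    (e3 : g₂ * (3 * P.T b w₂ w₂) + g₃ * eval w₂ F = 0) : TP K F b := by
  obtain ⟨PK⟩ := exists_polar (hF.map (algebraMap k K))
  have hinj := (algebraMap k K).injective
  have hdep : RowsDep (PK.depMat (bc K b) (bc K w₁) (bc K w₂)) := by
    unfold Polar.depMat
    rw [rowsDep_iff]
    refine ⟨algebraMap k K g₁, algebraMap k K g₂, algebraMap k K g₃, ?_, ?_⟩
    · rintro ⟨h1, h2, h3⟩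
      apply hg
      refine ⟨hinj ?_, hinj ?_, hinj ?_⟩
      · rw [h1, map_zero]
      · rw [h2, map_zero]
      · rw [h3, map_zero]
    · intro j
      have e0' := congrArg (algebraMap k K) e0
      have e1' := congrArg (algebraMap k K) e1
      have e2' := congrArg (algebraMap k K) e2
      have e3' := congrArg (algebraMap k K) e3
      simp only [map_add, map_mul, map_zero, map_ofNat] at e0' e1' e2' e3'
      fin_cases j
      · simp only [P.T_bc PK, eval_bc]
        simpa using e0'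
      · simp only [P.T_bc PK, eval_bc]
        simpa using e1'
      · simp only [P.T_bc PK, eval_bc]
        simpa using e2'
      · simp only [P.T_bc PK, eval_bc]
        simpa using e3'
  have hsmK : ∃ i : Fin 4, eval (bc K b) (pderiv i (map (algebraMap k K) F)) ≠ 0 := by
    obtain ⟨i, hi⟩ := fr.sm
    refine ⟨i, ?_⟩
    rw [eval_pderiv_bc]
    intro h
    exact hi (hinj (by rw [h, map_zero]))
  have hbK : eval (bc K b) (map (algebraMap k K) F) = 0 := by
    rw [eval_bc, fr.hb, map_zero]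
  have hT0 : PK.T (bc K b) (bc K b) (bc K b) = 0 := by rw [PK.diag]; exact hbK
  have h1K : PK.T (bc K b) (bc K b) (bc K w₁) = 0 := by rw [P.T_bc PK, fr.h₁, map_zero]
  have h2K : PK.T (bc K b) (bc K b) (bc K w₂) = 0 := by rw [P.T_bc PK, fr.h₂, map_zero]
  have hliK : LinearIndependent K ![bc K w₂, bc K b, bc K w₁] := by
    have := li_bc (K := K) ![w₂, b, w₁] fr.li
    convert this using 1
    funext i
    fin_cases i <;> rfl
  have hspan := span_of_li_ker (PK.lin (bc K b) (bc K b)) (lin_ne_zero PK hsmK)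
    (by rw [Polar.lin_apply]; exact hT0) (by rw [Polar.lin_apply]; exact h1K)
    (by rw [Polar.lin_apply]; exact h2K) hliK
  obtain ⟨L₁, L₂, L₃, hL₁, hL₂, hL₃, hmem⟩ := tpoint_of_rowsDep PK (bc K b) hbK hsmK h1K h2K hliK
    (fun x hx => hspan x (by rw [Polar.lin_apply]; exact hx)) hdep
  refine ⟨L₁, L₂, L₃, hL₁, hL₂, hL₃, ?_⟩
  simp only [eval_pderiv_bc] at hmem
  exact hmem

/-- **The residual points of the tangent lines at a non-`T`-point avoid every plane other than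
the tangent plane.** -/
lemma exists_par_ne_zero (hF : F.IsHomogeneous 3) (P : Polar F) {b w₁ w₂ : Fin 4 → k}
    (fr : TFrame P b w₁ w₂) (hnT : ¬ TP K F b) (ψ : (Fin 4 → k) →ₗ[k] k)
    (hψ : ¬ (ψ w₁ = 0 ∧ ψ w₂ = 0 ∧ ψ b = 0)) :
    ∃ t₀ : k, ψ (par P b (w₁ + t₀ • w₂)) ≠ 0 := by
  by_contra hcon
  push Not at hcon
  have hN : ∀ t : k, 3 * (P.T b w₁ w₁ + 2 * t * P.T b w₁ w₂ + t ^ 2 * P.T b w₂ w₂) * (ψ w₁ + t * ψ w₂)
      - (eval w₁ F + 3 * t * P.T w₁ w₁ w₂ + 3 * t ^ 2 * P.T w₁ w₂ w₂ + t ^ 3 * eval w₂ F) * ψ b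
      = 0 := by
    intro t
    have := hcon t
    rw [form_par, P.cube_add, map_add, map_smul, smul_eq_mul] at this
    have e : P.T b (w₁ + t • w₂) (w₁ + t • w₂)
        = P.T b w₁ w₁ + 2 * t * P.T b w₁ w₂ + t ^ 2 * P.T b w₂ w₂ := by
      simp only [P.add₂, P.add₃, P.smul₂, P.smul₃]
      rw [P.swap₂₃ b w₂ w₁]
      ring
    rw [e] at this
    linear_combination this
  have n0 := hN 0
  have n1 := hN 1
  have nm := hN (-1)
  have n2 := hN 2
  have h2 : (2 : k) ≠ 0 := two_ne_zero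
  have h6 : (6 : k) ≠ 0 := by norm_num
  apply hnT
  apply TP_of_dep hF P fr (ψ w₁) (ψ w₂) (-ψ b)
  · rintro ⟨h1, h2', h3⟩
    exact hψ ⟨h1, h2', by simpa using h3⟩
  · linear_combination n0
  · have : 6 * (ψ w₁ * (6 * P.T b w₁ w₂) + ψ w₂ * (3 * P.T b w₁ w₁)
        + -ψ b * (3 * P.T w₁ w₁ w₂)) = 0 := by
      linear_combination 6 * n1 - 2 * nm - n2 - 3 * n0
    exact (mul_eq_zero.mp this).resolve_left h6
  · have : 2 * (ψ w₁ * (3 * P.T b w₂ w₂) + ψ w₂ * (6 * P.T b w₁ w₂)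
        + -ψ b * (3 * P.T w₁ w₂ w₂)) = 0 := by
      linear_combination n1 + nm - 2 * n0
    exact (mul_eq_zero.mp this).resolve_left h2
  · have : 6 * (ψ w₂ * (3 * P.T b w₂ w₂) + -ψ b * eval w₂ F) = 0 := by
      linear_combination n2 - 3 * n1 - nm + 3 * n0
    exact (mul_eq_zero.mp this).resolve_left h6

end Groth.Agent.Lib.Helper8.GP
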