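import Mathlib
import Groth.Agent.Lib.Helper8.GP3
set_option backward.isDefEq.respectTransparency.types false
set_option autoImplicit false
set_option linter.unusedSectionVars false
set_option linter.style.haveILetI false

namespace Groth.Agent.Lib.Helper8.GP

open MvPolynomial Groth.Agent.Lib.Helper8.CubicK

variable {k : Type*} [Field k] [CharZero k] {F : MvPolynomial (Fin 4) k}
variable {K : Type*} [Field K] [CharZero K] [IsAlgClosed K] [Algebra k K]

/-- expansion of the residual point in the frame -/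
lemma par_frame (P : Polar F) (a h₁ h₂ : Fin 4 → k) (t : k) :
    par P a (h₁ + t • h₂) = ((3 * P.T a (h₁ + t • h₂) (h₁ + t • h₂)) • h₁
      + (3 * P.T a (h₁ + t • h₂) (h₁ + t • h₂) * t) • h₂) + (-eval (h₁ + t • h₂) F) • a := by
  rw [par_eq, smul_add, smul_smul]

/-- **Only finitely many of the residual points on the tangent plane section at a non-`T`-point
are `T`-points.** -/
lemma finite_TP_on_curve (hF : F.IsHomogeneous 3) (P : Polar F) {a h₁ h₂ : Fin 4 → k}
    (fr : TFrame P a h₁ h₂) (hnT : ¬ TP K F a) :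
    {t : k | P.T a (h₁ + t • h₂) (h₁ + t • h₂) ≠ 0 ∧ TP K F (par P a (h₁ + t • h₂))}.Finite := by
  obtain ⟨PK⟩ := exists_polar (hF.map (algebraMap k K))
  have hinj := (algebraMap k K).injective
  have h3 : (3 : K) ≠ 0 := by norm_num
  obtain ⟨G, hG⟩ : ∃ G, G = map (algebraMap k K) F := ⟨_, rfl⟩
  rw [← hG] at PK
  let tp : (Fin 4 → K) → Prop := fun b => b ≠ 0 ∧ eval b G = 0 ∧
      (∃ i : Fin 4, eval b (pderiv i G) ≠ 0) ∧
      ∃ L₁ L₂ L₃ : MvPolynomial (Fin 4) K, L₁.IsHomogeneous 1 ∧ L₂.IsHomogeneous 1 ∧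
        L₃.IsHomogeneous 1 ∧
        G - L₁ * L₂ * L₃ ∈ Ideal.span {∑ i : Fin 4, C (eval b (pderiv i G)) * X i}
  have htp : ∀ b : Fin 4 → K, tp b ↔ (b ≠ 0 ∧ eval b G = 0 ∧
      (∃ i : Fin 4, eval b (pderiv i G) ≠ 0) ∧
      ∃ L₁ L₂ L₃ : MvPolynomial (Fin 4) K, L₁.IsHomogeneous 1 ∧ L₂.IsHomogeneous 1 ∧
        L₃.IsHomogeneous 1 ∧
        G - L₁ * L₂ * L₃ ∈ Ideal.span {∑ i : Fin 4, C (eval b (pderiv i G)) * X i}) :=
    fun b => Iff.rfl
  have hGhom : G.IsHomogeneous 3 := by rw [hG]; exact hF.map _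
  have hev : ∀ x : Fin 4 → k, eval (bc K x) G = algebraMap k K (eval x F) := by
    intro x; rw [hG, eval_bc]
  have hpd : ∀ (x : Fin 4 → k) (i : Fin 4),
      eval (bc K x) (pderiv i G) = algebraMap k K (eval x (pderiv i F)) := by
    intro x i; rw [hG, eval_pderiv_bc]
  have hTbc : ∀ x y z : Fin 4 → k, PK.T (bc K x) (bc K y) (bc K z) = algebraMap k K (P.T x y z) := by
    subst hG
    exact fun x y z => P.T_bc PK x y z
  have haF : eval (bc K a) G = 0 := by rw [hev, fr.hb, map_zero]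
  have hsm : ∃ i : Fin 4, eval (bc K a) (pderiv i G) ≠ 0 := by
    obtain ⟨i, hi⟩ := fr.sm
    refine ⟨i, ?_⟩
    rw [hpd]
    intro h
    exact hi (hinj (by rw [h, map_zero]))
  have ha : ¬ tp (bc K a) := by
    rintro ⟨-, -, -, L₁, L₂, L₃, hL₁, hL₂, hL₃, hmem⟩
    apply hnT
    refine ⟨L₁, L₂, L₃, hL₁, hL₂, hL₃, ?_⟩
    simp only [hpd] at hmem
    rw [← hG]
    exact hmem
  have hH : ∀ x : Fin 4 → K, x ∈ LinearMap.ker (PK.lin (bc K a) (bc K a)) ↔
      eval x (∑ i : Fin 4, C (eval (bc K a) (pderiv i G)) * X i) = 0 := by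
    intro x
    rw [PK.eval_tangentForm, LinearMap.mem_ker, Polar.lin_apply]
    constructor
    · intro h; rw [h, mul_zero]
    · intro h; exact (mul_eq_zero.mp h).resolve_left h3
  have hfin := finite_TPoints_on_tangentPlane hGhom tp htp (bc K a) haF hsm ha _ hH
  have hliK : LinearIndependent K ![bc K h₂, bc K a, bc K h₁] := by
    have := li_bc (K := K) ![h₂, a, h₁] fr.li
    convert this using 1
    funext i
    fin_cases i <;> rfl
  refine Set.Finite.of_injOn (f := fun t : k => Submodule.span K {bc K (par P a (h₁ + t • h₂))})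
    ?_ ?_ hfin
  · -- maps into the finite set
    rintro t ⟨hQ, hTP⟩
    have hv : P.T a a (h₁ + t • h₂) = 0 := by
      rw [P.add₃, P.smul₃, fr.h₁, fr.h₂]; ring
    have hTγ : P.T (par P a (h₁ + t • h₂)) (par P a (h₁ + t • h₂)) a ≠ 0 := by
      rw [T_par_par P fr.hb hv]
      exact mul_ne_zero (by norm_num) (pow_ne_zero 3 hQ)
    have hγ0 : par P a (h₁ + t • h₂) ≠ 0 := by
      intro h0
      apply hTγ
      rw [h0, P.zero₁]
    have hγsm := smooth_of_T_ne P hTγ
    obtain ⟨γ, hγ⟩ : ∃ γ, γ = par P a (h₁ + t • h₂) := ⟨_, rfl⟩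
    rw [← hγ] at hTP hγ0 hγsm
    have hγF : eval γ F = 0 := by rw [hγ]; exact eval_par P fr.hb hv
    have hγT : P.T a a γ = 0 := by rw [hγ]; exact T_par P fr.hb hv
    show Submodule.span K {bc K (par P a (h₁ + t • h₂))} ∈ _
    rw [← hγ]
    refine ⟨finrank_span_singleton (bc_ne_zero hγ0), ?_, ?_⟩
    · rw [Submodule.span_singleton_le_iff_mem, LinearMap.mem_ker, Polar.lin_apply, hTbc, hγT,
        map_zero]
    · intro b hb hb0
      obtain ⟨c, rfl⟩ := Submodule.mem_span_singleton.mp hb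
      have hc : c ≠ 0 := by
        intro h
        apply hb0
        rw [h, zero_smul]
      obtain ⟨L₁, L₂, L₃, hL₁, hL₂, hL₃, hmem⟩ := hTP
      have hder : ∀ i : Fin 4, eval (c • bc K γ) (pderiv i G)
          = c ^ 2 * algebraMap k K (eval γ (pderiv i F)) := by
        intro i
        rw [PK.deriv, PK.smul₁, PK.smul₂, ← hpd, PK.deriv]
        ring
      refine ⟨hb0, ?_, ?_, L₁, L₂, L₃, hL₁, hL₂, hL₃, ?_⟩
      · rw [PK.eval_smul, hev, hγF, map_zero, mul_zero]
      · obtain ⟨i, hi⟩ := hγsm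
        refine ⟨i, ?_⟩
        rw [hder]
        refine mul_ne_zero (pow_ne_zero 2 hc) ?_
        intro h
        exact hi (hinj (by rw [h, map_zero]))
      · have egen : (∑ i : Fin 4, C (eval (c • bc K γ) (pderiv i G)) * X i : MvPolynomial (Fin 4) K)
            = C (c ^ 2) * ∑ i : Fin 4, C (algebraMap k K (eval γ (pderiv i F))) * X i := by
          rw [Finset.mul_sum]
          refine Finset.sum_congr rfl (fun i _ => ?_)
          rw [hder, map_mul]
          ring
        rw [egen, Ideal.span_singleton_mul_left_unit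
          ((IsUnit.mk0 _ (pow_ne_zero 2 hc)).map (C : K →+* MvPolynomial (Fin 4) K)), hG]
        exact hmem
  · -- injectivity
    rintro t ⟨hQ, -⟩ t' ⟨hQ', -⟩ heq
    simp only at heq
    have hmem : bc K (par P a (h₁ + t • h₂)) ∈ Submodule.span K {bc K (par P a (h₁ + t' • h₂))} := by
      rw [← heq]
      exact Submodule.mem_span_singleton_self _
    obtain ⟨c, hc⟩ := Submodule.mem_span_singleton.mp hmem
    rw [par_frame P a h₁ h₂ t, par_frame P a h₁ h₂ t'] at hc
    simp only [bc_add, bc_smul] at hc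
    simp only [smul_add, smul_smul] at hc
    obtain ⟨-, e1, e2⟩ := coords_unique hliK hc
    simp only [map_mul] at e1 e2
    have hq : algebraMap k K (3 * P.T a (h₁ + t • h₂) (h₁ + t • h₂)) ≠ 0 := by
      intro h
      have := hinj (by rw [h, map_zero] : algebraMap k K (3 * P.T a (h₁ + t • h₂) (h₁ + t • h₂))
        = algebraMap k K 0)
      have h3' : (3 : k) ≠ 0 := by norm_num
      exact hQ ((mul_eq_zero.mp this).resolve_left h3')
    simp only [map_mul] at hq
    apply hinj
    have : algebraMap k K 3 * algebraMap k K (P.T a (h₁ + t • h₂) (h₁ + t • h₂))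
        * (algebraMap k K t - algebraMap k K t') = 0 := by
      linear_combination e1 * algebraMap k K t' - e2
    rcases mul_eq_zero.mp this with h | h
    · exact absurd h hq
    · exact (sub_eq_zero.mp h)

end Groth.Agent.Lib.Helper8.GP
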