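import Mathlib
import Groth.Agent.Lib.Helper8.GP4
import Groth.Agent.Lib.Helper8.Node5
set_option backward.isDefEq.respectTransparency.types false
set_option autoImplicit false
set_option linter.unusedSectionVars false
set_option linter.style.haveILetI false

namespace Groth.Agent.Lib.Helper8.GP

open MvPolynomial Groth.Agent.Lib.Helper8.CubicK

variable {k : Type*} [Field k] [CharZero k] {F : MvPolynomial (Fin 4) k}
variable {K : Type*} [Field K] [CharZero K] [IsAlgClosed K] [Algebra k K]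

/-- the polynomial `u ↦ ψ (par a u)` -/
noncomputable def Npoly (F : MvPolynomial (Fin 4) k) (a : Fin 4 → k) (ψ : (Fin 4 → k) →ₗ[k] k) :
    MvPolynomial (Fin 4) k :=
  (∑ i : Fin 4, a i • pderiv i F) * linPoly ψ - C (ψ a) * F

lemma eval_Npoly (P : Polar F) (a u : Fin 4 → k) (ψ : (Fin 4 → k) →ₗ[k] k) :
    eval u (Npoly F a ψ) = ψ (par P a u) := by
  unfold Npoly
  rw [map_sub, map_mul, map_mul, P.eval_firstPolar, eval_linPoly, eval_C, form_par,
    P.swap₁₃ u u a]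
  ring

include K in
/-- the polynomial `Npoly` is nonzero when the surface is geometrically irreducible and not a
cone -/
lemma Npoly_ne_zero (hF : F.IsHomogeneous 3)
    (hirr : Irreducible (map (algebraMap k K) F))
    (hcone : ¬ ∃ v : Fin 4 → k, v ≠ 0 ∧ ∑ i : Fin 4, v i • pderiv i F = 0)
    {a : Fin 4 → k} (ha : a ≠ 0) {ψ : (Fin 4 → k) →ₗ[k] k} (hψ : ψ ≠ 0) : Npoly F a ψ ≠ 0 := by
  intro h0
  unfold Npoly at h0
  rw [sub_eq_zero] at h0
  have hlin : linPoly ψ ≠ 0 := by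
    intro h
    apply hψ
    apply LinearMap.ext
    intro x
    have := eval_linPoly ψ x
    rw [h, map_zero] at this
    simpa using this.symm
  by_cases hψa : ψ a = 0
  · rw [hψa, map_zero, zero_mul] at h0
    rcases mul_eq_zero.mp h0 with h | h
    · exact hcone ⟨a, ha, h⟩
    · exact hlin h
  · have hFeq : F = linPoly ψ * (C (ψ a)⁻¹ * ∑ i : Fin 4, a i • pderiv i F) := by
      have : C (ψ a)⁻¹ * (C (ψ a) * F) = F := by
        rw [← mul_assoc, ← map_mul, inv_mul_cancel₀ hψa, map_one, one_mul]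
      calc F = C (ψ a)⁻¹ * (C (ψ a) * F) := this.symm
        _ = C (ψ a)⁻¹ * ((∑ i : Fin 4, a i • pderiv i F) * linPoly ψ) := by rw [h0]
        _ = linPoly ψ * (C (ψ a)⁻¹ * ∑ i : Fin 4, a i • pderiv i F) := by ring
    have hK : map (algebraMap k K) F = map (algebraMap k K) (linPoly ψ)
        * map (algebraMap k K) (C (ψ a)⁻¹ * ∑ i : Fin 4, a i • pderiv i F) := by
      rw [← map_mul, ← hFeq]
    refine not_irreducible_of_mul (hF.map (algebraMap k K)) hK ?_ ?_ hirr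
    · exact le_trans (((linPoly_isHomogeneous ψ).map (algebraMap k K)).totalDegree_le) (by norm_num)
    · have := eval_bc (K := K) (linPoly ψ) 0
      rw [bc_zero, eval_linPoly, map_zero, map_zero] at this
      exact this

include K in
/-- points of the surface avoiding finitely many planes, from a singular point -/
lemma exists_par_avoid (hF : F.IsHomogeneous 3)
    (hirr : Irreducible (map (algebraMap k K) F))
    (hcone : ¬ ∃ v : Fin 4 → k, v ≠ 0 ∧ ∑ i : Fin 4, v i • pderiv i F = 0)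
    (P : Polar F) {a : Fin 4 → k} (ha : a ≠ 0) (ψs : List ((Fin 4 → k) →ₗ[k] k))
    (hψs : ∀ ψ ∈ ψs, ψ ≠ 0) : ∃ u : Fin 4 → k, ∀ ψ ∈ ψs, ψ (par P a u) ≠ 0 := by
  have hprod : (ψs.map (Npoly F a)).prod ≠ 0 := by
    apply List.prod_ne_zero
    intro h
    obtain ⟨ψ, hψ, h0⟩ := List.mem_map.mp h
    exact Npoly_ne_zero (K := K) hF hirr hcone ha (hψs ψ hψ) h0
  obtain ⟨u, hu⟩ := exists_eval_ne_zero hprod
  refine ⟨u, fun ψ hψ h0 => hu ?_⟩
  rw [map_list_prod]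
  apply List.prod_eq_zero
  rw [List.map_map]
  apply List.mem_map.mpr
  refine ⟨ψ, hψ, ?_⟩
  rw [Function.comp_apply, eval_Npoly P, h0]

include K in
/-- **Five rational points in general position from a singular rational point.** -/
theorem five_points_of_singular (hF : F.IsHomogeneous 3)
    (hirr : Irreducible (map (algebraMap k K) F))
    (hcone : ¬ ∃ v : Fin 4 → k, v ≠ 0 ∧ ∑ i : Fin 4, v i • pderiv i F = 0)
    {a : Fin 4 → k} (ha : a ≠ 0) (hFa : eval a F = 0)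
    (hsing : ∀ i : Fin 4, eval a (pderiv i F) = 0) :
    ∃ p : Fin 5 → (Fin 4 → k), p 0 = a ∧ (∀ j : Fin 5, eval (p j) F = 0) ∧
      ∀ j : Fin 5, LinearIndependent k (fun i : Fin 4 => p (j.succAbove i)) := by
  obtain ⟨P⟩ := exists_polar hF
  have h3 : (3 : k) ≠ 0 := by norm_num
  have hTa : ∀ x, P.T a a x = 0 := by
    intro x
    rw [P.T_eq_sum]
    apply Finset.sum_eq_zero
    intro j _
    have := hsing j
    rw [P.deriv] at this
    rw [(mul_eq_zero.mp this).resolve_left h3, mul_zero]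
  have hon : ∀ u, eval (par P a u) F = 0 := fun u => eval_par P hFa (hTa u)
  have avoid := exists_par_avoid (K := K) hF hirr hcone P ha
  -- first point
  obtain ⟨ψ₁, hψ₁, hv₁⟩ := exists_form (k := k) ![a, a, a]
  obtain ⟨u₁, hu₁⟩ := avoid [ψ₁] (by simpa using hψ₁)
  have hp₁ := hu₁ ψ₁ (by simp)
  obtain ⟨p₁, hp₁def⟩ : ∃ p₁, p₁ = par P a u₁ := ⟨_, rfl⟩
  rw [← hp₁def] at hp₁
  have L2 : LinearIndependent k ![a, p₁] := li2_last ha ψ₁ (hv₁ 0) hp₁
  -- second point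
  obtain ⟨ψ₂, hψ₂, hv₂⟩ := exists_form (k := k) ![a, p₁, p₁]
  obtain ⟨u₂, hu₂⟩ := avoid [ψ₂] (by simpa using hψ₂)
  have hp₂ := hu₂ ψ₂ (by simp)
  obtain ⟨p₂, hp₂def⟩ : ∃ p₂, p₂ = par P a u₂ := ⟨_, rfl⟩
  rw [← hp₂def] at hp₂
  have L3 : LinearIndependent k ![a, p₁, p₂] := li3_last L2 ψ₂ (hv₂ 0) (hv₂ 1) hp₂
  -- third point
  obtain ⟨ψ₃, hψ₃, hv₃⟩ := exists_form (k := k) ![a, p₁, p₂]
  obtain ⟨u₃, hu₃⟩ := avoid [ψ₃] (by simpa using hψ₃)
  have hp₃ := hu₃ ψ₃ (by simp)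
  obtain ⟨p₃, hp₃def⟩ : ∃ p₃, p₃ = par P a u₃ := ⟨_, rfl⟩
  rw [← hp₃def] at hp₃
  have L4 : LinearIndependent k ![a, p₁, p₂, p₃] :=
    li4_last L3 ψ₃ (hv₃ 0) (hv₃ 1) (hv₃ 2) hp₃
  -- fourth point
  obtain ⟨ψ₄₀, hψ₄₀, hv₄₀⟩ := exists_form (k := k) ![p₁, p₂, p₃]
  obtain ⟨ψ₄₁, hψ₄₁, hv₄₁⟩ := exists_form (k := k) ![a, p₂, p₃]
  obtain ⟨ψ₄₂, hψ₄₂, hv₄₂⟩ := exists_form (k := k) ![a, p₁, p₃]
  obtain ⟨u₄, hu₄⟩ := avoid [ψ₄₀, ψ₄₁, ψ₄₂, ψ₃] (by
    intro ψ hψ
    simp only [List.mem_cons, List.not_mem_nil, or_false] at hψ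
    rcases hψ with rfl | rfl | rfl | rfl <;> assumption)
  obtain ⟨p₄, hp₄def⟩ : ∃ p₄, p₄ = par P a u₄ := ⟨_, rfl⟩
  rw [← hp₄def] at hu₄
  have q0 := hu₄ ψ₄₀ (by simp)
  have q1 := hu₄ ψ₄₁ (by simp)
  have q2 := hu₄ ψ₄₂ (by simp)
  have q3 := hu₄ ψ₃ (by simp)
  have T0 : LinearIndependent k ![p₁, p₂, p₃, p₄] := by
    refine li4_last ?_ ψ₄₀ (hv₄₀ 0) (hv₄₀ 1) (hv₄₀ 2) q0
    apply li_reindex L4 ![1, 2, 3] (by decide)
    intro i; fin_cases i <;> rfl
  have T1 : LinearIndependent k ![a, p₂, p₃, p₄] := by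
    refine li4_last ?_ ψ₄₁ (hv₄₁ 0) (hv₄₁ 1) (hv₄₁ 2) q1
    apply li_reindex L4 ![0, 2, 3] (by decide)
    intro i; fin_cases i <;> rfl
  have T2 : LinearIndependent k ![a, p₁, p₃, p₄] := by
    refine li4_last ?_ ψ₄₂ (hv₄₂ 0) (hv₄₂ 1) (hv₄₂ 2) q2
    apply li_reindex L4 ![0, 1, 3] (by decide)
    intro i; fin_cases i <;> rfl
  have T3 : LinearIndependent k ![a, p₁, p₂, p₄] :=
    li4_last L3 ψ₃ (hv₃ 0) (hv₃ 1) (hv₃ 2) q3
  refine ⟨![a, p₁, p₂, p₃, p₄], rfl, ?_, ?_⟩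
  · intro j
    fin_cases j
    · exact hFa
    · show eval p₁ F = 0
      rw [hp₁def]; exact hon _
    · show eval p₂ F = 0
      rw [hp₂def]; exact hon _
    · show eval p₃ F = 0
      rw [hp₃def]; exact hon _
    · show eval p₄ F = 0
      rw [hp₄def]; exact hon _
  · intro j
    fin_cases j
    · convert T0 using 1
      funext i; fin_cases i <;> rfl
    · convert T1 using 1
      funext i; fin_cases i <;> rfl
    · convert T2 using 1
      funext i; fin_cases i <;> rfl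
    · convert T3 using 1
      funext i; fin_cases i <;> rfl
    · convert L4 using 1
      funext i; fin_cases i <;> rfl

end Groth.Agent.Lib.Helper8.GP
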