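import Mathlib
import Groth.Agent.Lib.Helper8.GP5
set_option backward.isDefEq.respectTransparency.types false
set_option autoImplicit false
set_option linter.unusedSectionVars false
set_option linter.style.haveILetI false

namespace Groth.Agent.Lib.Helper8.GP

open MvPolynomial Groth.Agent.Lib.Helper8.CubicK

variable {k : Type*} [Field k] [CharZero k] {F : MvPolynomial (Fin 4) k}
variable {K : Type*} [Field K] [CharZero K] [IsAlgClosed K] [Algebra k K]

/-- a nonzero form vanishing at a point off the tangent plane does not vanish on the tangent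
plane -/
lemma admissible (lam : (Fin 4 → k) →ₗ[k] k) (hlam : lam ≠ 0) {b w₁ w₂ : Fin 4 → k}
    (hb : lam b = 0) (h₁ : lam w₁ = 0) (h₂ : lam w₂ = 0)
    (hli : LinearIndependent k ![w₂, b, w₁]) (ψ : (Fin 4 → k) →ₗ[k] k) (hψ : ψ ≠ 0)
    {e : Fin 4 → k} (he : lam e ≠ 0) (hψe : ψ e = 0) : ¬ (ψ w₁ = 0 ∧ ψ w₂ = 0 ∧ ψ b = 0) := by
  rintro ⟨a1, a2, a3⟩
  apply hψ
  apply LinearMap.ext
  intro x
  have hx' : lam (x - (lam x / lam e) • e) = 0 := by
    rw [map_sub, map_smul, smul_eq_mul, div_mul_cancel₀ _ he, sub_self]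
  obtain ⟨s, y₁, y₂, hxy⟩ := span_of_li_ker lam hlam hb h₁ h₂ hli _ hx'
  have : x = (y₁ • w₁ + y₂ • w₂) + s • b + (lam x / lam e) • e := by
    rw [← hxy]; abel
  rw [this]
  simp only [map_add, map_smul, a1, a2, a3, hψe, smul_zero, add_zero, LinearMap.zero_apply]

/-- the values of a form along the curve of residual points are polynomial in the parameter -/
lemma isPoly_form_par (P : Polar F) (b w₁ w₂ : Fin 4 → k) (ψ : (Fin 4 → k) →ₗ[k] k) :
    CubicK.IsPoly (fun t : k => ψ (par P b (w₁ + t • w₂))) := by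
  have hv : IsPolyVec (fun t : k => w₁ + t • w₂) :=
    (IsPolyVec.const w₁).add (IsPolyVec.smul CubicK.IsPoly.id (IsPolyVec.const w₂))
  have h1 : CubicK.IsPoly (fun t : k => P.T b (w₁ + t • w₂) (w₁ + t • w₂)) :=
    P.isPoly_T (IsPolyVec.const b) hv hv
  have h2 : CubicK.IsPoly (fun t : k => eval (w₁ + t • w₂) F) := by
    refine CubicK.IsPoly.congr (P.isPoly_T hv hv hv) ?_
    intro t
    rw [P.diag]
  have h3 : CubicK.IsPoly (fun t : k => ψ (w₁ + t • w₂)) := by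
    refine CubicK.IsPoly.congr ((CubicK.IsPoly.const (ψ w₁)).add (CubicK.IsPoly.id.mul (CubicK.IsPoly.const (ψ w₂)))) ?_
    intro t
    rw [map_add, map_smul, smul_eq_mul]
  refine CubicK.IsPoly.congr ((((CubicK.IsPoly.const 3).mul h1).mul h3).sub (h2.mul (CubicK.IsPoly.const (ψ b)))) ?_
  intro t
  rw [form_par]

/-- for a frame at a non-`T`-point, the parameters at which the residual point lies in a given
plane other than the tangent plane are finite in number -/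
lemma finite_zeros_form_par (hF : F.IsHomogeneous 3) (P : Polar F) {b w₁ w₂ : Fin 4 → k}
    (fr : TFrame P b w₁ w₂) (hnT : ¬ TP K F b) (ψ : (Fin 4 → k) →ₗ[k] k)
    (hψ : ¬ (ψ w₁ = 0 ∧ ψ w₂ = 0 ∧ ψ b = 0)) :
    {t : k | ψ (par P b (w₁ + t • w₂)) = 0}.Finite := by
  obtain ⟨t₀, ht₀⟩ := exists_par_ne_zero hF P fr hnT ψ hψ
  exact (isPoly_form_par P b w₁ w₂ ψ).finite_zeros t₀ ht₀

include K in
/-- **Five rational points in general position from a smooth rational non-`T`-point.** -/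
theorem five_points_of_smooth (hF : F.IsHomogeneous 3)
    {a : Fin 4 → k} (ha : a ≠ 0) (hFa : eval a F = 0)
    (hsm : ∃ i : Fin 4, eval a (pderiv i F) ≠ 0) (hnT : ¬ TP K F a) :
    ∃ p : Fin 5 → (Fin 4 → k), p 0 = a ∧ (∀ j : Fin 5, eval (p j) F = 0) ∧
      ∀ j : Fin 5, LinearIndependent k (fun i : Fin 4 => p (j.succAbove i)) := by
  obtain ⟨P⟩ := exists_polar hF
  have h3 : (3 : k) ≠ 0 := by norm_num
  have hTaaa : P.T a a a = 0 := by rw [P.diag]; exact hFa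
  -- frame at `a`
  have hlamA : P.lin a a ≠ 0 := lin_ne_zero P hsm
  obtain ⟨h₁, h₂, hh₁, hh₂, hliA⟩ := exists_frame (P.lin a a) hlamA ha
    (by rw [Polar.lin_apply]; exact hTaaa)
  rw [Polar.lin_apply] at hh₁ hh₂
  have frA : TFrame P a h₁ h₂ := ⟨hFa, hh₁, hh₂, hliA, hsm⟩
  obtain ⟨e, he⟩ : ∃ e, P.lin a a e ≠ 0 := by
    by_contra hcon
    push Not at hcon
    exact hlamA (LinearMap.ext hcon)
  have admA : ∀ ψ : (Fin 4 → k) →ₗ[k] k, ψ ≠ 0 → ψ e = 0 →
      ¬ (ψ h₁ = 0 ∧ ψ h₂ = 0 ∧ ψ a = 0) := fun ψ hψ hψe =>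
    admissible (P.lin a a) hlamA (by rw [Polar.lin_apply]; exact hTaaa)
      (by rw [Polar.lin_apply]; exact hh₁) (by rw [Polar.lin_apply]; exact hh₂) hliA ψ hψ he hψe
  have hvA : ∀ t : k, P.T a a (h₁ + t • h₂) = 0 := by
    intro t
    rw [P.add₃, P.smul₃, hh₁, hh₂]; ring
  have honA : ∀ t : k, eval (par P a (h₁ + t • h₂)) F = 0 := fun t => eval_par P hFa (hvA t)
  have hTA : ∀ t : k, P.T a a (par P a (h₁ + t • h₂)) = 0 := fun t => T_par P hFa (hvA t)
  -- the first point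
  obtain ⟨ψ₀, hψ₀, hv₀⟩ := exists_form (k := k) ![a, a, e]
  have fin0 := finite_zeros_form_par (K := K) hF P frA hnT ψ₀ (admA ψ₀ hψ₀ (hv₀ 2))
  have finT := finite_TP_on_curve (K := K) hF P frA hnT
  obtain ⟨t₁, ht₁⟩ := (fin0.union finT).exists_notMem
  rw [Set.mem_union, not_or] at ht₁
  obtain ⟨ht₁a, ht₁b⟩ := ht₁
  have hψ₀b : ψ₀ (par P a (h₁ + t₁ • h₂)) ≠ 0 := ht₁a
  have hQ₁ : P.T a (h₁ + t₁ • h₂) (h₁ + t₁ • h₂) ≠ 0 := by
    intro h0
    apply hψ₀b
    have hψ₀a : ψ₀ a = 0 := hv₀ 0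
    rw [form_par, h0, hψ₀a]
    ring
  have hnTb : ¬ TP K F (par P a (h₁ + t₁ • h₂)) := fun h => ht₁b ⟨hQ₁, h⟩
  obtain ⟨b, hbdef⟩ : ∃ b, b = par P a (h₁ + t₁ • h₂) := ⟨_, rfl⟩
  have hTbba : P.T b b a ≠ 0 := by
    rw [hbdef, T_par_par P hFa (hvA t₁)]
    exact mul_ne_zero (by norm_num) (pow_ne_zero 3 hQ₁)
  rw [← hbdef] at hψ₀b hnTb
  have hFb : eval b F = 0 := by rw [hbdef]; exact honA t₁
  have hTaab : P.T a a b = 0 := by rw [hbdef]; exact hTA t₁
  have hb0 : b ≠ 0 := by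
    intro h0
    apply hTbba
    rw [h0, P.zero₁]
  have hsmb := smooth_of_T_ne P hTbba
  have hTbbb : P.T b b b = 0 := by rw [P.diag]; exact hFb
  have L2 : LinearIndependent k ![a, b] := li2_last ha ψ₀ (hv₀ 0) hψ₀b
  -- frame at `b`
  have hlamB : P.lin b b ≠ 0 := lin_ne_zero P hsmb
  obtain ⟨w₁, w₂, hw₁, hw₂, hliB⟩ := exists_frame (P.lin b b) hlamB hb0
    (by rw [Polar.lin_apply]; exact hTbbb)
  rw [Polar.lin_apply] at hw₁ hw₂
  have frB : TFrame P b w₁ w₂ := ⟨hFb, hw₁, hw₂, hliB, hsmb⟩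
  have admB : ∀ ψ : (Fin 4 → k) →ₗ[k] k, ψ ≠ 0 → ψ a = 0 →
      ¬ (ψ w₁ = 0 ∧ ψ w₂ = 0 ∧ ψ b = 0) := fun ψ hψ hψa =>
    admissible (P.lin b b) hlamB (by rw [Polar.lin_apply]; exact hTbbb)
      (by rw [Polar.lin_apply]; exact hw₁) (by rw [Polar.lin_apply]; exact hw₂) hliB ψ hψ
      (by rw [Polar.lin_apply]; exact hTbba) hψa
  have hvB : ∀ t : k, P.T b b (w₁ + t • w₂) = 0 := by
    intro t
    rw [P.add₃, P.smul₃, hw₁, hw₂]; ring
  have honB : ∀ t : k, eval (par P b (w₁ + t • w₂)) F = 0 := fun t => eval_par P hFb (hvB t)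
  have hTB : ∀ t : k, P.T b b (par P b (w₁ + t • w₂)) = 0 := fun t => T_par P hFb (hvB t)
  -- the second point, on the tangent section at `a`
  obtain ⟨ψ', hψ', hv'⟩ := exists_form (k := k) ![a, b, e]
  have fin1 := finite_zeros_form_par (K := K) hF P frA hnT ψ' (admA ψ' hψ' (hv' 2))
  have fin2 := finite_zeros_form_par (K := K) hF P frA hnT (P.lin b b) (by
    rintro ⟨-, -, h⟩
    rw [Polar.lin_apply] at h
    exact hTbba h)
  obtain ⟨t₂, ht₂⟩ := (fin1.union fin2).exists_notMem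
  rw [Set.mem_union, not_or] at ht₂
  obtain ⟨ht₂a, ht₂b⟩ := ht₂
  obtain ⟨p₂, hp₂def⟩ : ∃ p₂, p₂ = par P a (h₁ + t₂ • h₂) := ⟨_, rfl⟩
  have hψ'p₂ : ψ' p₂ ≠ 0 := by rw [hp₂def]; exact ht₂a
  have hTbbp₂ : P.T b b p₂ ≠ 0 := by
    have : P.lin b b (par P a (h₁ + t₂ • h₂)) ≠ 0 := ht₂b
    rw [Polar.lin_apply] at this
    rw [hp₂def]; exact this
  have hFp₂ : eval p₂ F = 0 := by rw [hp₂def]; exact honA t₂
  have hTaap₂ : P.T a a p₂ = 0 := by rw [hp₂def]; exact hTA t₂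
  have L3 : LinearIndependent k ![a, b, p₂] := li3_last L2 ψ' (hv' 0) (hv' 1) hψ'p₂
  -- the third point, on the tangent section at `b`
  have fin3 := finite_zeros_form_par (K := K) hF P frB hnTb (P.lin a a)
    (admB (P.lin a a) hlamA (by rw [Polar.lin_apply]; exact hTaaa))
  obtain ⟨t₃, ht₃⟩ := fin3.exists_notMem
  obtain ⟨p₃, hp₃def⟩ : ∃ p₃, p₃ = par P b (w₁ + t₃ • w₂) := ⟨_, rfl⟩
  have hTaap₃ : P.lin a a p₃ ≠ 0 := by rw [hp₃def]; exact ht₃
  have hFp₃ : eval p₃ F = 0 := by rw [hp₃def]; exact honB t₃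
  have hTbbp₃ : P.T b b p₃ = 0 := by rw [hp₃def]; exact hTB t₃
  have L4 : LinearIndependent k ![a, b, p₂, p₃] :=
    li4_last L3 (P.lin a a) (by rw [Polar.lin_apply]; exact hTaaa)
      (by rw [Polar.lin_apply]; exact hTaab) (by rw [Polar.lin_apply]; exact hTaap₂) hTaap₃
  -- the fourth point, on the tangent section at `b`
  obtain ⟨ψ'', hψ'', hv''⟩ := exists_form (k := k) ![a, p₂, p₃]
  obtain ⟨ψ''', hψ''', hv'''⟩ := exists_form (k := k) ![a, b, p₃]
  have fin4 := finite_zeros_form_par (K := K) hF P frB hnTb ψ'' (admB ψ'' hψ'' (hv'' 0))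
  have fin5 := finite_zeros_form_par (K := K) hF P frB hnTb ψ''' (admB ψ''' hψ''' (hv''' 0))
  obtain ⟨t₄, ht₄⟩ := ((fin3.union fin4).union fin5).exists_notMem
  rw [Set.mem_union, Set.mem_union, not_or, not_or] at ht₄
  obtain ⟨⟨ht₄a, ht₄b⟩, ht₄c⟩ := ht₄
  obtain ⟨p₄, hp₄def⟩ : ∃ p₄, p₄ = par P b (w₁ + t₄ • w₂) := ⟨_, rfl⟩
  have hTaap₄ : P.lin a a p₄ ≠ 0 := by rw [hp₄def]; exact ht₄a
  have hψ''p₄ : ψ'' p₄ ≠ 0 := by rw [hp₄def]; exact ht₄b
  have hψ'''p₄ : ψ''' p₄ ≠ 0 := by rw [hp₄def]; exact ht₄c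
  have hFp₄ : eval p₄ F = 0 := by rw [hp₄def]; exact honB t₄
  have hTbbp₄ : P.T b b p₄ = 0 := by rw [hp₄def]; exact hTB t₄
  -- the five four-tuples
  have T3 : LinearIndependent k ![a, b, p₂, p₄] :=
    li4_last L3 (P.lin a a) (by rw [Polar.lin_apply]; exact hTaaa)
      (by rw [Polar.lin_apply]; exact hTaab) (by rw [Polar.lin_apply]; exact hTaap₂) hTaap₄
  have T2 : LinearIndependent k ![a, b, p₃, p₄] := by
    refine li4_last ?_ ψ''' (hv''' 0) (hv''' 1) (hv''' 2) hψ'''p₄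
    apply li_reindex L4 ![0, 1, 3] (by decide)
    intro i; fin_cases i <;> rfl
  have T1 : LinearIndependent k ![a, p₂, p₃, p₄] := by
    refine li4_last ?_ ψ'' (hv'' 0) (hv'' 1) (hv'' 2) hψ''p₄
    apply li_reindex L4 ![0, 2, 3] (by decide)
    intro i; fin_cases i <;> rfl
  have T0 : LinearIndependent k ![b, p₂, p₃, p₄] := by
    have h1 : LinearIndependent k ![b, p₃, p₄] := by
      apply li_reindex T2 ![1, 2, 3] (by decide)
      intro i; fin_cases i <;> rfl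
    have h2 : LinearIndependent k ![b, p₃, p₄, p₂] :=
      li4_last h1 (P.lin b b) (by rw [Polar.lin_apply]; exact hTbbb)
        (by rw [Polar.lin_apply]; exact hTbbp₃) (by rw [Polar.lin_apply]; exact hTbbp₄)
        (by rw [Polar.lin_apply]; exact hTbbp₂)
    apply li_reindex h2 ![0, 3, 1, 2] (by decide)
    intro i; fin_cases i <;> rfl
  refine ⟨![a, b, p₂, p₃, p₄], rfl, ?_, ?_⟩
  · intro j
    fin_cases j
    · exact hFa
    · exact hFb
    · exact hFp₂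
    · exact hFp₃
    · exact hFp₄
  · intro j
    fin_cases j
    · convert T0 using 1
      funext i; fin_cases i <;> rfl
    · convert T1 using 1
      funext i; fin_cases i <;> rfl
    · convert T2 using 1
      funext i; fin_cases i <;> rfl
    · convert T3 using 1
      funext i; fin_cases i <;> rfl
    · convert L4 using 1
      funext i; fin_cases i <;> rfl

end Groth.Agent.Lib.Helper8.GP
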