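import Mathlib
set_option backward.isDefEq.respectTransparency.types false
set_option autoImplicit false

namespace Groth.Agent.Lib.Helper8.Pf

variable {R : Type*} [CommRing R]

theorem det_fin_four (A : Matrix (Fin 4) (Fin 4) R) : A.det =
    A 0 0 * (A 1 1 * (A 2 2 * (A 3 3) - A 2 3 * (A 3 2)) - A 1 2 * (A 2 1 * (A 3 3) - A 2 3 * (A 3 1)) + A 1 3 * (A 2 1 * (A 3 2) - A 2 2 * (A 3 1))) - A 0 1 * (A 1 0 * (A 2 2 * (A 3 3) - A 2 3 * (A 3 2)) - A 1 2 * (A 2 0 * (A 3 3) - A 2 3 * (A 3 0)) + A 1 3 * (A 2 0 * (A 3 2) - A 2 2 * (A 3 0))) + A 0 2 * (A 1 0 * (A 2 1 * (A 3 3) - A 2 3 * (A 3 1)) - A 1 1 * (A 2 0 * (A 3 3) - A 2 3 * (A 3 0)) + A 1 3 * (A 2 0 * (A 3 1) - A 2 1 * (A 3 0))) - A 0 3 * (A 1 0 * (A 2 1 * (A 3 2) - A 2 2 * (A 3 1)) - A 1 1 * (A 2 0 * (A 3 2) - A 2 2 * (A 3 0)) + A 1 2 * (A 2 0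 * (A 3 1) - A 2 1 * (A 3 0))) := by
  rw [Matrix.det_succ_row_zero, Fin.sum_univ_four]
  simp only [Matrix.det_fin_three, Matrix.submatrix_apply]
  have s0 : (Fin.succ (0 : Fin 3) : Fin 4) = 1 := rfl
  have s1 : (Fin.succ (1 : Fin 3) : Fin 4) = 2 := rfl
  have s2 : (Fin.succ (2 : Fin 3) : Fin 4) = 3 := rfl
  have v0 : ((0 : Fin 4) : ℕ) = 0 := rfl
  have v1 : ((1 : Fin 4) : ℕ) = 1 := rfl
  have v2 : ((2 : Fin 4) : ℕ) = 2 := rfl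
  have v3 : ((3 : Fin 4) : ℕ) = 3 := rfl
  have a0_0 : Fin.succAbove (0 : Fin 4) (0 : Fin 3) = 1 := rfl
  have a0_1 : Fin.succAbove (0 : Fin 4) (1 : Fin 3) = 2 := rfl
  have a0_2 : Fin.succAbove (0 : Fin 4) (2 : Fin 3) = 3 := rfl
  have a1_0 : Fin.succAbove (1 : Fin 4) (0 : Fin 3) = 0 := rfl
  have a1_1 : Fin.succAbove (1 : Fin 4) (1 : Fin 3) = 2 := rfl
  have a1_2 : Fin.succAbove (1 : Fin 4) (2 : Fin 3) = 3 := rfl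
  have a2_0 : Fin.succAbove (2 : Fin 4) (0 : Fin 3) = 0 := rfl
  have a2_1 : Fin.succAbove (2 : Fin 4) (1 : Fin 3) = 1 := rfl
  have a2_2 : Fin.succAbove (2 : Fin 4) (2 : Fin 3) = 3 := rfl
  have a3_0 : Fin.succAbove (3 : Fin 4) (0 : Fin 3) = 0 := rfl
  have a3_1 : Fin.succAbove (3 : Fin 4) (1 : Fin 3) = 1 := rfl
  have a3_2 : Fin.succAbove (3 : Fin 4) (2 : Fin 3) = 2 := rfl
  simp only [s0, s1, s2, v0, v1, v2, v3, a0_0, a0_1, a0_2, a1_0, a1_1, a1_2, a2_0, a2_1, a2_2, a3_0, a3_1, a3_2]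
  ring

theorem det_fin_five (A : Matrix (Fin 5) (Fin 5) R) : A.det =
    A 0 0 * (A 1 1 * (A 2 2 * (A 3 3 * (A 4 4) - A 3 4 * (A 4 3)) - A 2 3 * (A 3 2 * (A 4 4) - A 3 4 * (A 4 2)) + A 2 4 * (A 3 2 * (A 4 3) - A 3 3 * (A 4 2))) - A 1 2 * (A 2 1 * (A 3 3 * (A 4 4) - A 3 4 * (A 4 3)) - A 2 3 * (A 3 1 * (A 4 4) - A 3 4 * (A 4 1)) + A 2 4 * (A 3 1 * (A 4 3) - A 3 3 * (A 4 1))) + A 1 3 * (A 2 1 * (A 3 2 * (A 4 4) - A 3 4 * (A 4 2)) - A 2 2 * (A 3 1 * (A 4 4) - A 3 4 * (A 4 1)) + A 2 4 * (A 3 1 * (A 4 2) - A 3 2 * (A 4 1))) - A 1 4 * (A 2 1 * (A 3 2 * (A 4 3) - A 3 3 * (A 4 2)) - A 2 2 * (A 3 1 * (A 4 3) - A 3 3 * (A 4 1)) + A 2 3 * (A 3 1 * (A 4 2) - A 3 2 * (A 4 1)))) - A 0 1 * (A 1 0 * (A 2 2 * (A 3 3 * (A 4 4) - A 3 4 * (A 4 3)) - A 2 3 * (A 3 2 * (A 4 4) - A 3 4 * (A 4 2)) + A 2 4 * (A 3 2 *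 (A 4 3) - A 3 3 * (A 4 2))) - A 1 2 * (A 2 0 * (A 3 3 * (A 4 4) - A 3 4 * (A 4 3)) - A 2 3 * (A 3 0 * (A 4 4) - A 3 4 * (A 4 0)) + A 2 4 * (A 3 0 * (A 4 3) - A 3 3 * (A 4 0))) + A 1 3 * (A 2 0 * (A 3 2 * (A 4 4) - A 3 4 * (A 4 2)) - A 2 2 * (A 3 0 * (A 4 4) - A 3 4 * (A 4 0)) + A 2 4 * (A 3 0 * (A 4 2) - A 3 2 * (A 4 0))) - A 1 4 * (A 2 0 * (A 3 2 * (A 4 3) - A 3 3 * (A 4 2)) - A 2 2 * (A 3 0 * (A 4 3) - A 3 3 * (A 4 0)) + A 2 3 * (A 3 0 * (A 4 2) - A 3 2 * (A 4 0)))) + A 0 2 * (A 1 0 * (A 2 1 * (A 3 3 * (A 4 4) - A 3 4 * (A 4 3)) - A 2 3 * (A 3 1 * (A 4 4) - A 3 4 * (A 4 1)) + A 2 4 * (A 3 1 * (A 4 3) - A 3 3 * (A 4 1))) - A 1 1 * (A 2 0 * (A 3 3 * (A 4 4) - A 3 4 * (A 4 3)) - A 2 3 * (A 3 0 * (A 4 4) - A 3 4 * (A 4 0)) + A 2 4 * (A 3 0 * (A 4 3) - A 3 3 * (A 4 0))) + A 1 3 * (A 2 0 * (A 3 1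 * (A 4 4) - A 3 4 * (A 4 1)) - A 2 1 * (A 3 0 * (A 4 4) - A 3 4 * (A 4 0)) + A 2 4 * (A 3 0 * (A 4 1) - A 3 1 * (A 4 0))) - A 1 4 * (A 2 0 * (A 3 1 * (A 4 3) - A 3 3 * (A 4 1)) - A 2 1 * (A 3 0 * (A 4 3) - A 3 3 * (A 4 0)) + A 2 3 * (A 3 0 * (A 4 1) - A 3 1 * (A 4 0)))) - A 0 3 * (A 1 0 * (A 2 1 * (A 3 2 * (A 4 4) - A 3 4 * (A 4 2)) - A 2 2 * (A 3 1 * (A 4 4) - A 3 4 * (A 4 1)) + A 2 4 * (A 3 1 * (A 4 2) - A 3 2 * (A 4 1))) - A 1 1 * (A 2 0 * (A 3 2 * (A 4 4) - A 3 4 * (A 4 2)) - A 2 2 * (A 3 0 * (A 4 4) - A 3 4 * (A 4 0)) + A 2 4 * (A 3 0 * (A 4 2) - A 3 2 * (A 4 0))) + A 1 2 * (A 2 0 * (A 3 1 * (A 4 4) - A 3 4 * (A 4 1)) - A 2 1 * (A 3 0 * (A 4 4) - A 3 4 * (A 4 0)) + A 2 4 * (A 3 0 * (A 4 1) - A 3 1 * (A 4 0))) - A 1 4 * (A 2 0 * (A 3 1 * (A 4 2) - A 3 2 * (A 4 1)) - A 2 1 * (A 3 0 * (A 4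 2) - A 3 2 * (A 4 0)) + A 2 2 * (A 3 0 * (A 4 1) - A 3 1 * (A 4 0)))) + A 0 4 * (A 1 0 * (A 2 1 * (A 3 2 * (A 4 3) - A 3 3 * (A 4 2)) - A 2 2 * (A 3 1 * (A 4 3) - A 3 3 * (A 4 1)) + A 2 3 * (A 3 1 * (A 4 2) - A 3 2 * (A 4 1))) - A 1 1 * (A 2 0 * (A 3 2 * (A 4 3) - A 3 3 * (A 4 2)) - A 2 2 * (A 3 0 * (A 4 3) - A 3 3 * (A 4 0)) + A 2 3 * (A 3 0 * (A 4 2) - A 3 2 * (A 4 0))) + A 1 2 * (A 2 0 * (A 3 1 * (A 4 3) - A 3 3 * (A 4 1)) - A 2 1 * (A 3 0 * (A 4 3) - A 3 3 * (A 4 0)) + A 2 3 * (A 3 0 * (A 4 1) - A 3 1 * (A 4 0))) - A 1 3 * (A 2 0 * (A 3 1 * (A 4 2) - A 3 2 * (A 4 1)) - A 2 1 * (A 3 0 * (A 4 2) - A 3 2 * (A 4 0)) + A 2 2 * (A 3 0 * (A 4 1) - A 3 1 * (A 4 0)))) := by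
  rw [Matrix.det_succ_row_zero, Fin.sum_univ_five]
  simp only [det_fin_four, Matrix.submatrix_apply]
  have s0 : (Fin.succ (0 : Fin 4) : Fin 5) = 1 := rfl
  have s1 : (Fin.succ (1 : Fin 4) : Fin 5) = 2 := rfl
  have s2 : (Fin.succ (2 : Fin 4) : Fin 5) = 3 := rfl
  have s3 : (Fin.succ (3 : Fin 4) : Fin 5) = 4 := rfl
  have v0 : ((0 : Fin 5) : ℕ) = 0 := rfl
  have v1 : ((1 : Fin 5) : ℕ) = 1 := rfl
  have v2 : ((2 : Fin 5) : ℕ) = 2 := rfl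
  have v3 : ((3 : Fin 5) : ℕ) = 3 := rfl
  have v4 : ((4 : Fin 5) : ℕ) = 4 := rfl
  have a0_0 : Fin.succAbove (0 : Fin 5) (0 : Fin 4) = 1 := rfl
  have a0_1 : Fin.succAbove (0 : Fin 5) (1 : Fin 4) = 2 := rfl
  have a0_2 : Fin.succAbove (0 : Fin 5) (2 : Fin 4) = 3 := rfl
  have a0_3 : Fin.succAbove (0 : Fin 5) (3 : Fin 4) = 4 := rfl
  have a1_0 : Fin.succAbove (1 : Fin 5) (0 : Fin 4) = 0 := rfl
  have a1_1 : Fin.succAbove (1 : Fin 5) (1 : Fin 4) = 2 := rfl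
  have a1_2 : Fin.succAbove (1 : Fin 5) (2 : Fin 4) = 3 := rfl
  have a1_3 : Fin.succAbove (1 : Fin 5) (3 : Fin 4) = 4 := rfl
  have a2_0 : Fin.succAbove (2 : Fin 5) (0 : Fin 4) = 0 := rfl
  have a2_1 : Fin.succAbove (2 : Fin 5) (1 : Fin 4) = 1 := rfl
  have a2_2 : Fin.succAbove (2 : Fin 5) (2 : Fin 4) = 3 := rfl
  have a2_3 : Fin.succAbove (2 : Fin 5) (3 : Fin 4) = 4 := rfl
  have a3_0 : Fin.succAbove (3 : Fin 5) (0 : Fin 4) = 0 := rfl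
  have a3_1 : Fin.succAbove (3 : Fin 5) (1 : Fin 4) = 1 := rfl
  have a3_2 : Fin.succAbove (3 : Fin 5) (2 : Fin 4) = 2 := rfl
  have a3_3 : Fin.succAbove (3 : Fin 5) (3 : Fin 4) = 4 := rfl
  have a4_0 : Fin.succAbove (4 : Fin 5) (0 : Fin 4) = 0 := rfl
  have a4_1 : Fin.succAbove (4 : Fin 5) (1 : Fin 4) = 1 := rfl
  have a4_2 : Fin.succAbove (4 : Fin 5) (2 : Fin 4) = 2 := rfl
  have a4_3 : Fin.succAbove (4 : Fin 5) (3 : Fin 4) = 3 := rfl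
  simp only [s0, s1, s2, s3, v0, v1, v2, v3, v4, a0_0, a0_1, a0_2, a0_3, a1_0, a1_1, a1_2, a1_3, a2_0, a2_1, a2_2, a2_3, a3_0, a3_1, a3_2, a3_3, a4_0, a4_1, a4_2, a4_3]
  ring

/-- the generic alternating `6 × 6` matrix -/
def skew6 (a01 a02 a03 a04 a05 a12 a13 a14 a15 a23 a24 a25 a34 a35 a45 : R) :
    Matrix (Fin 6) (Fin 6) R :=
  !![0, a01, a02, a03, a04, a05;
     -a01, 0, a12, a13, a14, a15;
     -a02, -a12, 0, a23, a24, a25;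
     -a03, -a13, -a23, 0, a34, a35;
     -a04, -a14, -a24, -a34, 0, a45;
     -a05, -a15, -a25, -a35, -a45, 0]

/-- its Pfaffian -/
def pf6 (a01 a02 a03 a04 a05 a12 a13 a14 a15 a23 a24 a25 a34 a35 a45 : R) : R :=
  a01 * (a23 * a45 - a24 * a35 + a25 * a34) - a02 * (a13 * a45 - a14 * a35 + a15 * a34)
    + a03 * (a12 * a45 - a14 * a25 + a15 * a24) - a04 * (a12 * a35 - a13 * a25 + a15 * a23)
    + a05 * (a12 * a34 - a13 * a24 + a14 * a23)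

theorem det_skew6 (a01 a02 a03 a04 a05 a12 a13 a14 a15 a23 a24 a25 a34 a35 a45 : R) :
    (skew6 a01 a02 a03 a04 a05 a12 a13 a14 a15 a23 a24 a25 a34 a35 a45).det
      = (pf6 a01 a02 a03 a04 a05 a12 a13 a14 a15 a23 a24 a25 a34 a35 a45) ^ 2 := by
  unfold skew6 pf6
  rw [Matrix.det_succ_row_zero, Fin.sum_univ_six]
  simp only [det_fin_five, Matrix.submatrix_apply]
  have s0 : (Fin.succ (0 : Fin 5) : Fin 6) = 1 := rfl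
  have s1 : (Fin.succ (1 : Fin 5) : Fin 6) = 2 := rfl
  have s2 : (Fin.succ (2 : Fin 5) : Fin 6) = 3 := rfl
  have s3 : (Fin.succ (3 : Fin 5) : Fin 6) = 4 := rfl
  have s4 : (Fin.succ (4 : Fin 5) : Fin 6) = 5 := rfl
  have v0 : ((0 : Fin 6) : ℕ) = 0 := rfl
  have v1 : ((1 : Fin 6) : ℕ) = 1 := rfl
  have v2 : ((2 : Fin 6) : ℕ) = 2 := rfl
  have v3 : ((3 : Fin 6) : ℕ) = 3 := rfl
  have v4 : ((4 : Fin 6) : ℕ) = 4 := rfl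
  have v5 : ((5 : Fin 6) : ℕ) = 5 := rfl
  have a0_0 : Fin.succAbove (0 : Fin 6) (0 : Fin 5) = 1 := rfl
  have a0_1 : Fin.succAbove (0 : Fin 6) (1 : Fin 5) = 2 := rfl
  have a0_2 : Fin.succAbove (0 : Fin 6) (2 : Fin 5) = 3 := rfl
  have a0_3 : Fin.succAbove (0 : Fin 6) (3 : Fin 5) = 4 := rfl
  have a0_4 : Fin.succAbove (0 : Fin 6) (4 : Fin 5) = 5 := rfl
  have a1_0 : Fin.succAbove (1 : Fin 6) (0 : Fin 5) = 0 := rfl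
  have a1_1 : Fin.succAbove (1 : Fin 6) (1 : Fin 5) = 2 := rfl
  have a1_2 : Fin.succAbove (1 : Fin 6) (2 : Fin 5) = 3 := rfl
  have a1_3 : Fin.succAbove (1 : Fin 6) (3 : Fin 5) = 4 := rfl
  have a1_4 : Fin.succAbove (1 : Fin 6) (4 : Fin 5) = 5 := rfl
  have a2_0 : Fin.succAbove (2 : Fin 6) (0 : Fin 5) = 0 := rfl
  have a2_1 : Fin.succAbove (2 : Fin 6) (1 : Fin 5) = 1 := rfl
  have a2_2 : Fin.succAbove (2 : Fin 6) (2 : Fin 5) = 3 := rfl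
  have a2_3 : Fin.succAbove (2 : Fin 6) (3 : Fin 5) = 4 := rfl
  have a2_4 : Fin.succAbove (2 : Fin 6) (4 : Fin 5) = 5 := rfl
  have a3_0 : Fin.succAbove (3 : Fin 6) (0 : Fin 5) = 0 := rfl
  have a3_1 : Fin.succAbove (3 : Fin 6) (1 : Fin 5) = 1 := rfl
  have a3_2 : Fin.succAbove (3 : Fin 6) (2 : Fin 5) = 2 := rfl
  have a3_3 : Fin.succAbove (3 : Fin 6) (3 : Fin 5) = 4 := rfl
  have a3_4 : Fin.succAbove (3 : Fin 6) (4 : Fin 5) = 5 := rfl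
  have a4_0 : Fin.succAbove (4 : Fin 6) (0 : Fin 5) = 0 := rfl
  have a4_1 : Fin.succAbove (4 : Fin 6) (1 : Fin 5) = 1 := rfl
  have a4_2 : Fin.succAbove (4 : Fin 6) (2 : Fin 5) = 2 := rfl
  have a4_3 : Fin.succAbove (4 : Fin 6) (3 : Fin 5) = 3 := rfl
  have a4_4 : Fin.succAbove (4 : Fin 6) (4 : Fin 5) = 5 := rfl
  have a5_0 : Fin.succAbove (5 : Fin 6) (0 : Fin 5) = 0 := rfl
  have a5_1 : Fin.succAbove (5 : Fin 6) (1 : Fin 5) = 1 := rfl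
  have a5_2 : Fin.succAbove (5 : Fin 6) (2 : Fin 5) = 2 := rfl
  have a5_3 : Fin.succAbove (5 : Fin 6) (3 : Fin 5) = 3 := rfl
  have a5_4 : Fin.succAbove (5 : Fin 6) (4 : Fin 5) = 4 := rfl
  simp only [s0, s1, s2, s3, s4, v0, v1, v2, v3, v4, v5, a0_0, a0_1, a0_2, a0_3, a0_4, a1_0, a1_1, a1_2, a1_3, a1_4, a2_0, a2_1, a2_2, a2_3, a2_4, a3_0, a3_1, a3_2, a3_3, a3_4, a4_0, a4_1, a4_2, a4_3, a4_4, a5_0, a5_1, a5_2, a5_3, a5_4]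
  simp only [Matrix.of_apply, Matrix.cons_val', Matrix.cons_val_zero, Matrix.cons_val_one,
    Matrix.cons_val, Matrix.empty_val', Matrix.cons_val_fin_one]
  ring

end Groth.Agent.Lib.Helper8.Pf
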