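import Mathlib
import Groth.Agent.Lib.Helper8.Pf1
set_option backward.isDefEq.respectTransparency.types false
set_option autoImplicit false
set_option linter.unusedSectionVars false
set_option linter.style.haveILetI false
set_option linter.unusedVariables false

namespace Groth.Agent.Lib.Helper8.Pf

open MvPolynomial

variable {k : Type*} [Field k]


section generic

variable {R : Type*} [CommRing R]

lemma skew6_transpose (a01 a02 a03 a04 a05 a12 a13 a14 a15 a23 a24 a25 a34 a35 a45 : R) :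
    (skew6 a01 a02 a03 a04 a05 a12 a13 a14 a15 a23 a24 a25 a34 a35 a45).transpose
      = -skew6 a01 a02 a03 a04 a05 a12 a13 a14 a15 a23 a24 a25 a34 a35 a45 := by
  ext i j
  fin_cases i <;> fin_cases j <;> simp [skew6]

lemma skew6_diag (a01 a02 a03 a04 a05 a12 a13 a14 a15 a23 a24 a25 a34 a35 a45 : R) (i : Fin 6) :
    skew6 a01 a02 a03 a04 a05 a12 a13 a14 a15 a23 a24 a25 a34 a35 a45 i i = 0 := by
  fin_cases i <;> simp [skew6]

lemma skew6_pred (Q : R → Prop) (h0 : Q 0) (hneg : ∀ a, Q a → Q (-a))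
    (a01 a02 a03 a04 a05 a12 a13 a14 a15 a23 a24 a25 a34 a35 a45 : R)
    (h01 : Q a01) (h02 : Q a02) (h03 : Q a03) (h04 : Q a04) (h05 : Q a05) (h12 : Q a12)
    (h13 : Q a13) (h14 : Q a14) (h15 : Q a15) (h23 : Q a23) (h24 : Q a24) (h25 : Q a25)
    (h34 : Q a34) (h35 : Q a35) (h45 : Q a45) (i j : Fin 6) :
    Q (skew6 a01 a02 a03 a04 a05 a12 a13 a14 a15 a23 a24 a25 a34 a35 a45 i j) := by
  fin_cases i <;> fin_cases j <;> simp [skew6] <;> first | assumption | (apply hneg; assumption)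

lemma skew6_map {S : Type*} [CommRing S] (φ : R →+* S)
    (a01 a02 a03 a04 a05 a12 a13 a14 a15 a23 a24 a25 a34 a35 a45 : R) :
    (skew6 a01 a02 a03 a04 a05 a12 a13 a14 a15 a23 a24 a25 a34 a35 a45).map φ
      = skew6 (φ a01) (φ a02) (φ a03) (φ a04) (φ a05) (φ a12) (φ a13) (φ a14) (φ a15) (φ a23)
          (φ a24) (φ a25) (φ a34) (φ a35) (φ a45) := by
  ext i j
  fin_cases i <;> fin_cases j <;> simp [skew6]

end generic

/-- the linear form with coefficient vector `α` -/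
noncomputable def lf (α : Fin 4 → k) : MvPolynomial (Fin 4) k := ∑ i, C (α i) * X i

lemma lf_isHomogeneous (α : Fin 4 → k) : (lf α).IsHomogeneous 1 := by
  unfold lf
  apply IsHomogeneous.sum
  intro i _
  have := (isHomogeneous_C (Fin 4) (α i)).mul (isHomogeneous_X k i)
  simpa using this

lemma eval_lf (α x : Fin 4 → k) : eval x (lf α) = ∑ i, α i * x i := by
  simp [lf]

lemma lf_vec (a b c d : k) : lf ![a, b, c, d] = C a * X 0 + C b * X 1 + C c * X 2 + C d * X 3 := by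
  simp [lf, Fin.sum_univ_four]

/-- the cubic through the five standard points with the given coefficients -/
noncomputable def stdCubic (c001 c002 c003 c011 c012 c013 c022 c023 c033 c112 c113 c122 c123 c133 c223 c233 : k) : MvPolynomial (Fin 4) k :=
  C c001 * (X 0 ^ 2 * X 1) + C c002 * (X 0 ^ 2 * X 2) + C c003 * (X 0 ^ 2 * X 3) + C c011 * (X 0 * X 1 ^ 2) + C c012 * (X 0 * X 1 * X 2) + C c013 * (X 0 * X 1 * X 3) + C c022 * (X 0 * X 2 ^ 2) + C c023 * (X 0 * X 2 * X 3) + C c033 * (X 0 * X 3 ^ 2) + C c112 * (X 1 ^ 2 * X 2) + C c113 * (X 1 ^ 2 * X 3) + C c122 * (X 1 * X 2 ^ 2) + C c123 * (X 1 * X 2 * X 3) + C c133 * (X 1 * X 3 ^ 2) + C c223 * (X 2 ^ 2 * X 3) + C c233 * (X 2 * X 3 ^ 2)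

/-- the explicit Pfaffian representation of `stdCubic` -/
noncomputable def stdMat (c001 c002 c003 c011 c012 c013 c022 c023 c033 c112 c113 c122 c123 c133 c223 c233 : k) : Matrix (Fin 6) (Fin 6) (MvPolynomial (Fin 4) k) :=
  skew6 (lf ![-2, 2, 0, 0]) (lf ![2, 0, -2, 0]) (lf ![-1, 0, 0, 1]) (lf ![-1, 0, 0, 0]) (lf ![c011 + c012 + 3 * c022 + c113, c112, -2 * c022 + c122, -c033 - c133 - c233]) (lf ![0, -1, 1, 0]) (lf ![0, 2, 0, -2]) (lf ![0, 1, 0, 0]) (lf ![-c003, -c022 + c033 + c112 + c123 - c133 + c233, c022 + c122 + c223, -c033 + 2 * c133]) (lf ![0, 0, -1, 1]) (lf ![0, 0, -1, 0]) (lf ![-c001 - c002, c113, 0, 0]) (lf ![0, 0, 0, 1]) (lf ![-c002, c011 + c113, 0, -c003 - c011 - c012 - 2 * c022 - c023 - c113 - c122 + c133 - c223]) (lf ![0, 0, c022, c133])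

theorem pf_stdMat (c001 c002 c003 c011 c012 c013 c022 c023 c033 c112 c113 c122 c123 c133 c223 c233 : k) (hsum : c001 + c002 + c003 + c011 + c012 + c013 + c022 + c023 + c033 + c112 + c113 + c122 + c123 + c133 + c223 + c233 = 0) :
    pf6 (lf ![-2, 2, 0, 0]) (lf ![2, 0, -2, 0]) (lf ![-1, 0, 0, 1]) (lf ![-1, 0, 0, 0]) (lf ![c011 + c012 + 3 * c022 + c113, c112, -2 * c022 + c122, -c033 - c133 - c233]) (lf ![0, -1, 1, 0]) (lf ![0, 2, 0, -2]) (lf ![0, 1, 0, 0]) (lf ![-c003, -c022 + c033 + c112 + c123 - c133 + c233, c022 + c122 + c223, -c033 + 2 * c133]) (lf ![0, 0, -1, 1]) (lf ![0, 0, -1, 0]) (lf ![-c001 - c002, c113, 0, 0]) (lf ![0, 0, 0, 1]) (lf ![-c002, c011 + c113, 0, -c003 - c011 - c012 - 2 * c022 - c023 - c113 - c122 + c133 - c223]) (lf ![0, 0, c022, c133])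
      = stdCubic c001 c002 c003 c011 c012 c013 c022 c023 c033 c112 c113 c122 c123 c133 c223 c233 := by
  unfold pf6 stdCubic
  simp only [lf_vec, map_add, map_sub, map_mul, map_neg, map_zero, map_one, map_ofNat]
  have h := congrArg (C : k → MvPolynomial (Fin 4) k) hsum
  simp only [map_add, map_zero] at h
  linear_combination (-(X 0 * X 1 * X 3 : MvPolynomial (Fin 4) k)) * h

theorem det_stdMat (c001 c002 c003 c011 c012 c013 c022 c023 c033 c112 c113 c122 c123 c133 c223 c233 : k) (hsum : c001 + c002 + c003 + c011 + c012 + c013 + c022 + c023 + c033 + c112 + c113 + c122 + c123 + c133 + c223 + c233 = 0) :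
    (stdMat c001 c002 c003 c011 c012 c013 c022 c023 c033 c112 c113 c122 c123 c133 c223 c233).det = (stdCubic c001 c002 c003 c011 c012 c013 c022 c023 c033 c112 c113 c122 c123 c133 c223 c233) ^ 2 := by
  unfold stdMat
  rw [det_skew6, pf_stdMat _ _ _ _ _ _ _ _ _ _ _ _ _ _ _ _ hsum]

end Groth.Agent.Lib.Helper8.Pf
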