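import Mathlib
import Groth.Agent.Lib.Helper8.Pf2
import Groth.Agent.Lib.Helper8.TPt3
set_option backward.isDefEq.respectTransparency.types false
set_option autoImplicit false
set_option linter.unusedSectionVars false
set_option linter.style.haveILetI false
set_option linter.unusedVariables false
set_option linter.unreachableTactic false
set_option linter.unusedTactic false

namespace Groth.Agent.Lib.Helper8.Pf

open MvPolynomial Groth.Agent.Lib.Helper8.CubicK

variable {k : Type*} [Field k] [CharZero k]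

lemma eval_stdCubic (c001 c002 c003 c011 c012 c013 c022 c023 c033 c112 c113 c122 c123 c133 c223 c233 : k) (x : Fin 4 → k) :
    eval x (stdCubic c001 c002 c003 c011 c012 c013 c022 c023 c033 c112 c113 c122 c123 c133 c223 c233) =
      c001 * (x 0 ^ 2 * x 1) + c002 * (x 0 ^ 2 * x 2) + c003 * (x 0 ^ 2 * x 3) + c011 * (x 0 * x 1 ^ 2) + c012 * (x 0 * x 1 * x 2) + c013 * (x 0 * x 1 * x 3) + c022 * (x 0 * x 2 ^ 2) + c023 * (x 0 * x 2 * x 3) + c033 * (x 0 * x 3 ^ 2) + c112 * (x 1 ^ 2 * x 2) + c113 * (x 1 ^ 2 * x 3) + c122 * (x 1 * x 2 ^ 2) + c123 * (x 1 * x 2 * x 3) + c133 * (x 1 * x 3 ^ 2) + c223 * (x 2 ^ 2 * x 3) + c233 * (x 2 * x 3 ^ 2) := by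
  simp [stdCubic]

/-- a cubic form vanishing at the five standard points is a `stdCubic` -/
theorem eq_stdCubic (F : MvPolynomial (Fin 4) k) (hF : F.IsHomogeneous 3)
    (h0 : eval (Pi.single 0 1) F = 0) (h1 : eval (Pi.single 1 1) F = 0)
    (h2 : eval (Pi.single 2 1) F = 0) (h3 : eval (Pi.single 3 1) F = 0)
    (h4 : eval (fun _ => 1) F = 0) :
    ∃ c001 c002 c003 c011 c012 c013 c022 c023 c033 c112 c113 c122 c123 c133 c223 c233 : k, c001 + c002 + c003 + c011 + c012 + c013 + c022 + c023 + c033 + c112 + c113 + c122 + c123 + c133 + c223 + c233 = 0 ∧ F = stdCubic c001 c002 c003 c011 c012 c013 c022 c023 c033 c112 c113 c122 c123 c133 c223 c233 := by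
  obtain ⟨P⟩ := exists_polar hF
  have key : F = stdCubic (3 * P.T (Pi.single 0 1) (Pi.single 0 1) (Pi.single 1 1)) (3 * P.T (Pi.single 0 1) (Pi.single 0 1) (Pi.single 2 1)) (3 * P.T (Pi.single 0 1) (Pi.single 0 1) (Pi.single 3 1)) (3 * P.T (Pi.single 0 1) (Pi.single 1 1) (Pi.single 1 1)) (6 * P.T (Pi.single 0 1) (Pi.single 1 1) (Pi.single 2 1)) (6 * P.T (Pi.single 0 1) (Pi.single 1 1) (Pi.single 3 1)) (3 * P.T (Pi.single 0 1) (Pi.single 2 1) (Pi.single 2 1)) (6 * P.T (Pi.single 0 1) (Pi.single 2 1) (Pi.single 3 1)) (3 * P.T (Pi.single 0 1) (Pi.single 3 1) (Pi.single 3 1)) (3 * P.T (Pi.single 1 1) (Pi.single 1 1) (Pi.single 2 1)) (3 * P.T (Pi.single 1 1) (Pi.single 1 1) (Pi.single 3 1)) (3 * P.T (Pi.single 1 1) (Pi.single 2 1) (Pi.single 2 1)) (6 * P.T (Pi.single 1 1) (Pi.single 2 1) (Pi.single 3 1)) (3 * P.T (Pi.single 1 1) (Pi.single 3 1) (Pi.single 3 1)) (3 * P.T (Pi.single 2 1) (Pi.single 2 1) (Pi.single 3 1)) (3 * P.T (Pi.single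 2 1) (Pi.single 3 1) (Pi.single 3 1)) := by
    apply MvPolynomial.funext
    intro x
    rw [eval_stdCubic, ← P.diag, P.T_eq_sum₃]
    simp only [Fin.sum_univ_four]
    have r010 : P.T (Pi.single 0 1) (Pi.single 1 1) (Pi.single 0 1) = P.T (Pi.single 0 1) (Pi.single 0 1) (Pi.single 1 1) := by
      first
        | exact P.swap₁₂ _ _ _
        | exact P.swap₂₃ _ _ _
        | exact P.swap₁₃ _ _ _
        | exact (P.swap₁₂ _ _ _).trans (P.swap₂₃ _ _ _)
        | exact (P.swap₂₃ _ _ _).trans (P.swap₁₂ _ _ _)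
    have r020 : P.T (Pi.single 0 1) (Pi.single 2 1) (Pi.single 0 1) = P.T (Pi.single 0 1) (Pi.single 0 1) (Pi.single 2 1) := by
      first
        | exact P.swap₁₂ _ _ _
        | exact P.swap₂₃ _ _ _
        | exact P.swap₁₃ _ _ _
        | exact (P.swap₁₂ _ _ _).trans (P.swap₂₃ _ _ _)
        | exact (P.swap₂₃ _ _ _).trans (P.swap₁₂ _ _ _)
    have r021 : P.T (Pi.single 0 1) (Pi.single 2 1) (Pi.single 1 1) = P.T (Pi.single 0 1) (Pi.single 1 1) (Pi.single 2 1) := by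
      first
        | exact P.swap₁₂ _ _ _
        | exact P.swap₂₃ _ _ _
        | exact P.swap₁₃ _ _ _
        | exact (P.swap₁₂ _ _ _).trans (P.swap₂₃ _ _ _)
        | exact (P.swap₂₃ _ _ _).trans (P.swap₁₂ _ _ _)
    have r030 : P.T (Pi.single 0 1) (Pi.single 3 1) (Pi.single 0 1) = P.T (Pi.single 0 1) (Pi.single 0 1) (Pi.single 3 1) := by
      first
        | exact P.swap₁₂ _ _ _
        | exact P.swap₂₃ _ _ _
        | exact P.swap₁₃ _ _ _
        | exact (P.swap₁₂ _ _ _).trans (P.swap₂₃ _ _ _)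
        | exact (P.swap₂₃ _ _ _).trans (P.swap₁₂ _ _ _)
    have r031 : P.T (Pi.single 0 1) (Pi.single 3 1) (Pi.single 1 1) = P.T (Pi.single 0 1) (Pi.single 1 1) (Pi.single 3 1) := by
      first
        | exact P.swap₁₂ _ _ _
        | exact P.swap₂₃ _ _ _
        | exact P.swap₁₃ _ _ _
        | exact (P.swap₁₂ _ _ _).trans (P.swap₂₃ _ _ _)
        | exact (P.swap₂₃ _ _ _).trans (P.swap₁₂ _ _ _)
    have r032 : P.T (Pi.single 0 1) (Pi.single 3 1) (Pi.single 2 1) = P.T (Pi.single 0 1) (Pi.single 2 1) (Pi.single 3 1) := by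
      first
        | exact P.swap₁₂ _ _ _
        | exact P.swap₂₃ _ _ _
        | exact P.swap₁₃ _ _ _
        | exact (P.swap₁₂ _ _ _).trans (P.swap₂₃ _ _ _)
        | exact (P.swap₂₃ _ _ _).trans (P.swap₁₂ _ _ _)
    have r100 : P.T (Pi.single 1 1) (Pi.single 0 1) (Pi.single 0 1) = P.T (Pi.single 0 1) (Pi.single 0 1) (Pi.single 1 1) := by
      first
        | exact P.swap₁₂ _ _ _
        | exact P.swap₂₃ _ _ _
        | exact P.swap₁₃ _ _ _
        | exact (P.swap₁₂ _ _ _).trans (P.swap₂₃ _ _ _)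
        | exact (P.swap₂₃ _ _ _).trans (P.swap₁₂ _ _ _)
    have r101 : P.T (Pi.single 1 1) (Pi.single 0 1) (Pi.single 1 1) = P.T (Pi.single 0 1) (Pi.single 1 1) (Pi.single 1 1) := by
      first
        | exact P.swap₁₂ _ _ _
        | exact P.swap₂₃ _ _ _
        | exact P.swap₁₃ _ _ _
        | exact (P.swap₁₂ _ _ _).trans (P.swap₂₃ _ _ _)
        | exact (P.swap₂₃ _ _ _).trans (P.swap₁₂ _ _ _)
    have r102 : P.T (Pi.single 1 1) (Pi.single 0 1) (Pi.single 2 1) = P.T (Pi.single 0 1) (Pi.single 1 1) (Pi.single 2 1) := by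
      first
        | exact P.swap₁₂ _ _ _
        | exact P.swap₂₃ _ _ _
        | exact P.swap₁₃ _ _ _
        | exact (P.swap₁₂ _ _ _).trans (P.swap₂₃ _ _ _)
        | exact (P.swap₂₃ _ _ _).trans (P.swap₁₂ _ _ _)
    have r103 : P.T (Pi.single 1 1) (Pi.single 0 1) (Pi.single 3 1) = P.T (Pi.single 0 1) (Pi.single 1 1) (Pi.single 3 1) := by
      first
        | exact P.swap₁₂ _ _ _
        | exact P.swap₂₃ _ _ _
        | exact P.swap₁₃ _ _ _
        | exact (P.swap₁₂ _ _ _).trans (P.swap₂₃ _ _ _)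
        | exact (P.swap₂₃ _ _ _).trans (P.swap₁₂ _ _ _)
    have r110 : P.T (Pi.single 1 1) (Pi.single 1 1) (Pi.single 0 1) = P.T (Pi.single 0 1) (Pi.single 1 1) (Pi.single 1 1) := by
      first
        | exact P.swap₁₂ _ _ _
        | exact P.swap₂₃ _ _ _
        | exact P.swap₁₃ _ _ _
        | exact (P.swap₁₂ _ _ _).trans (P.swap₂₃ _ _ _)
        | exact (P.swap₂₃ _ _ _).trans (P.swap₁₂ _ _ _)
    have r120 : P.T (Pi.single 1 1) (Pi.single 2 1) (Pi.single 0 1) = P.T (Pi.single 0 1) (Pi.single 1 1) (Pi.single 2 1) := by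
      first
        | exact P.swap₁₂ _ _ _
        | exact P.swap₂₃ _ _ _
        | exact P.swap₁₃ _ _ _
        | exact (P.swap₁₂ _ _ _).trans (P.swap₂₃ _ _ _)
        | exact (P.swap₂₃ _ _ _).trans (P.swap₁₂ _ _ _)
    have r121 : P.T (Pi.single 1 1) (Pi.single 2 1) (Pi.single 1 1) = P.T (Pi.single 1 1) (Pi.single 1 1) (Pi.single 2 1) := by
      first
        | exact P.swap₁₂ _ _ _
        | exact P.swap₂₃ _ _ _
        | exact P.swap₁₃ _ _ _
        | exact (P.swap₁₂ _ _ _).trans (P.swap₂₃ _ _ _)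
        | exact (P.swap₂₃ _ _ _).trans (P.swap₁₂ _ _ _)
    have r130 : P.T (Pi.single 1 1) (Pi.single 3 1) (Pi.single 0 1) = P.T (Pi.single 0 1) (Pi.single 1 1) (Pi.single 3 1) := by
      first
        | exact P.swap₁₂ _ _ _
        | exact P.swap₂₃ _ _ _
        | exact P.swap₁₃ _ _ _
        | exact (P.swap₁₂ _ _ _).trans (P.swap₂₃ _ _ _)
        | exact (P.swap₂₃ _ _ _).trans (P.swap₁₂ _ _ _)
    have r131 : P.T (Pi.single 1 1) (Pi.single 3 1) (Pi.single 1 1) = P.T (Pi.single 1 1) (Pi.single 1 1) (Pi.single 3 1) := by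
      first
        | exact P.swap₁₂ _ _ _
        | exact P.swap₂₃ _ _ _
        | exact P.swap₁₃ _ _ _
        | exact (P.swap₁₂ _ _ _).trans (P.swap₂₃ _ _ _)
        | exact (P.swap₂₃ _ _ _).trans (P.swap₁₂ _ _ _)
    have r132 : P.T (Pi.single 1 1) (Pi.single 3 1) (Pi.single 2 1) = P.T (Pi.single 1 1) (Pi.single 2 1) (Pi.single 3 1) := by
      first
        | exact P.swap₁₂ _ _ _
        | exact P.swap₂₃ _ _ _
        | exact P.swap₁₃ _ _ _
        | exact (P.swap₁₂ _ _ _).trans (P.swap₂₃ _ _ _)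
        | exact (P.swap₂₃ _ _ _).trans (P.swap₁₂ _ _ _)
    have r200 : P.T (Pi.single 2 1) (Pi.single 0 1) (Pi.single 0 1) = P.T (Pi.single 0 1) (Pi.single 0 1) (Pi.single 2 1) := by
      first
        | exact P.swap₁₂ _ _ _
        | exact P.swap₂₃ _ _ _
        | exact P.swap₁₃ _ _ _
        | exact (P.swap₁₂ _ _ _).trans (P.swap₂₃ _ _ _)
        | exact (P.swap₂₃ _ _ _).trans (P.swap₁₂ _ _ _)
    have r201 : P.T (Pi.single 2 1) (Pi.single 0 1) (Pi.single 1 1) = P.T (Pi.single 0 1) (Pi.single 1 1) (Pi.single 2 1) := by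
      first
        | exact P.swap₁₂ _ _ _
        | exact P.swap₂₃ _ _ _
        | exact P.swap₁₃ _ _ _
        | exact (P.swap₁₂ _ _ _).trans (P.swap₂₃ _ _ _)
        | exact (P.swap₂₃ _ _ _).trans (P.swap₁₂ _ _ _)
    have r202 : P.T (Pi.single 2 1) (Pi.single 0 1) (Pi.single 2 1) = P.T (Pi.single 0 1) (Pi.single 2 1) (Pi.single 2 1) := by
      first
        | exact P.swap₁₂ _ _ _
        | exact P.swap₂₃ _ _ _
        | exact P.swap₁₃ _ _ _
        | exact (P.swap₁₂ _ _ _).trans (P.swap₂₃ _ _ _)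
        | exact (P.swap₂₃ _ _ _).trans (P.swap₁₂ _ _ _)
    have r203 : P.T (Pi.single 2 1) (Pi.single 0 1) (Pi.single 3 1) = P.T (Pi.single 0 1) (Pi.single 2 1) (Pi.single 3 1) := by
      first
        | exact P.swap₁₂ _ _ _
        | exact P.swap₂₃ _ _ _
        | exact P.swap₁₃ _ _ _
        | exact (P.swap₁₂ _ _ _).trans (P.swap₂₃ _ _ _)
        | exact (P.swap₂₃ _ _ _).trans (P.swap₁₂ _ _ _)
    have r210 : P.T (Pi.single 2 1) (Pi.single 1 1) (Pi.single 0 1) = P.T (Pi.single 0 1) (Pi.single 1 1) (Pi.single 2 1) := by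
      first
        | exact P.swap₁₂ _ _ _
        | exact P.swap₂₃ _ _ _
        | exact P.swap₁₃ _ _ _
        | exact (P.swap₁₂ _ _ _).trans (P.swap₂₃ _ _ _)
        | exact (P.swap₂₃ _ _ _).trans (P.swap₁₂ _ _ _)
    have r211 : P.T (Pi.single 2 1) (Pi.single 1 1) (Pi.single 1 1) = P.T (Pi.single 1 1) (Pi.single 1 1) (Pi.single 2 1) := by
      first
        | exact P.swap₁₂ _ _ _
        | exact P.swap₂₃ _ _ _
        | exact P.swap₁₃ _ _ _
        | exact (P.swap₁₂ _ _ _).trans (P.swap₂₃ _ _ _)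
        | exact (P.swap₂₃ _ _ _).trans (P.swap₁₂ _ _ _)
    have r212 : P.T (Pi.single 2 1) (Pi.single 1 1) (Pi.single 2 1) = P.T (Pi.single 1 1) (Pi.single 2 1) (Pi.single 2 1) := by
      first
        | exact P.swap₁₂ _ _ _
        | exact P.swap₂₃ _ _ _
        | exact P.swap₁₃ _ _ _
        | exact (P.swap₁₂ _ _ _).trans (P.swap₂₃ _ _ _)
        | exact (P.swap₂₃ _ _ _).trans (P.swap₁₂ _ _ _)
    have r213 : P.T (Pi.single 2 1) (Pi.single 1 1) (Pi.single 3 1) = P.T (Pi.single 1 1) (Pi.single 2 1) (Pi.single 3 1) := by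
      first
        | exact P.swap₁₂ _ _ _
        | exact P.swap₂₃ _ _ _
        | exact P.swap₁₃ _ _ _
        | exact (P.swap₁₂ _ _ _).trans (P.swap₂₃ _ _ _)
        | exact (P.swap₂₃ _ _ _).trans (P.swap₁₂ _ _ _)
    have r220 : P.T (Pi.single 2 1) (Pi.single 2 1) (Pi.single 0 1) = P.T (Pi.single 0 1) (Pi.single 2 1) (Pi.single 2 1) := by
      first
        | exact P.swap₁₂ _ _ _
        | exact P.swap₂₃ _ _ _
        | exact P.swap₁₃ _ _ _
        | exact (P.swap₁₂ _ _ _).trans (P.swap₂₃ _ _ _)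
        | exact (P.swap₂₃ _ _ _).trans (P.swap₁₂ _ _ _)
    have r221 : P.T (Pi.single 2 1) (Pi.single 2 1) (Pi.single 1 1) = P.T (Pi.single 1 1) (Pi.single 2 1) (Pi.single 2 1) := by
      first
        | exact P.swap₁₂ _ _ _
        | exact P.swap₂₃ _ _ _
        | exact P.swap₁₃ _ _ _
        | exact (P.swap₁₂ _ _ _).trans (P.swap₂₃ _ _ _)
        | exact (P.swap₂₃ _ _ _).trans (P.swap₁₂ _ _ _)
    have r230 : P.T (Pi.single 2 1) (Pi.single 3 1) (Pi.single 0 1) = P.T (Pi.single 0 1) (Pi.single 2 1) (Pi.single 3 1) := by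
      first
        | exact P.swap₁₂ _ _ _
        | exact P.swap₂₃ _ _ _
        | exact P.swap₁₃ _ _ _
        | exact (P.swap₁₂ _ _ _).trans (P.swap₂₃ _ _ _)
        | exact (P.swap₂₃ _ _ _).trans (P.swap₁₂ _ _ _)
    have r231 : P.T (Pi.single 2 1) (Pi.single 3 1) (Pi.single 1 1) = P.T (Pi.single 1 1) (Pi.single 2 1) (Pi.single 3 1) := by
      first
        | exact P.swap₁₂ _ _ _
        | exact P.swap₂₃ _ _ _
        | exact P.swap₁₃ _ _ _
        | exact (P.swap₁₂ _ _ _).trans (P.swap₂₃ _ _ _)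
        | exact (P.swap₂₃ _ _ _).trans (P.swap₁₂ _ _ _)
    have r232 : P.T (Pi.single 2 1) (Pi.single 3 1) (Pi.single 2 1) = P.T (Pi.single 2 1) (Pi.single 2 1) (Pi.single 3 1) := by
      first
        | exact P.swap₁₂ _ _ _
        | exact P.swap₂₃ _ _ _
        | exact P.swap₁₃ _ _ _
        | exact (P.swap₁₂ _ _ _).trans (P.swap₂₃ _ _ _)
        | exact (P.swap₂₃ _ _ _).trans (P.swap₁₂ _ _ _)
    have r300 : P.T (Pi.single 3 1) (Pi.single 0 1) (Pi.single 0 1) = P.T (Pi.single 0 1) (Pi.single 0 1) (Pi.single 3 1) := by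
      first
        | exact P.swap₁₂ _ _ _
        | exact P.swap₂₃ _ _ _
        | exact P.swap₁₃ _ _ _
        | exact (P.swap₁₂ _ _ _).trans (P.swap₂₃ _ _ _)
        | exact (P.swap₂₃ _ _ _).trans (P.swap₁₂ _ _ _)
    have r301 : P.T (Pi.single 3 1) (Pi.single 0 1) (Pi.single 1 1) = P.T (Pi.single 0 1) (Pi.single 1 1) (Pi.single 3 1) := by
      first
        | exact P.swap₁₂ _ _ _
        | exact P.swap₂₃ _ _ _
        | exact P.swap₁₃ _ _ _
        | exact (P.swap₁₂ _ _ _).trans (P.swap₂₃ _ _ _)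
        | exact (P.swap₂₃ _ _ _).trans (P.swap₁₂ _ _ _)
    have r302 : P.T (Pi.single 3 1) (Pi.single 0 1) (Pi.single 2 1) = P.T (Pi.single 0 1) (Pi.single 2 1) (Pi.single 3 1) := by
      first
        | exact P.swap₁₂ _ _ _
        | exact P.swap₂₃ _ _ _
        | exact P.swap₁₃ _ _ _
        | exact (P.swap₁₂ _ _ _).trans (P.swap₂₃ _ _ _)
        | exact (P.swap₂₃ _ _ _).trans (P.swap₁₂ _ _ _)
    have r303 : P.T (Pi.single 3 1) (Pi.single 0 1) (Pi.single 3 1) = P.T (Pi.single 0 1) (Pi.single 3 1) (Pi.single 3 1) := by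
      first
        | exact P.swap₁₂ _ _ _
        | exact P.swap₂₃ _ _ _
        | exact P.swap₁₃ _ _ _
        | exact (P.swap₁₂ _ _ _).trans (P.swap₂₃ _ _ _)
        | exact (P.swap₂₃ _ _ _).trans (P.swap₁₂ _ _ _)
    have r310 : P.T (Pi.single 3 1) (Pi.single 1 1) (Pi.single 0 1) = P.T (Pi.single 0 1) (Pi.single 1 1) (Pi.single 3 1) := by
      first
        | exact P.swap₁₂ _ _ _
        | exact P.swap₂₃ _ _ _
        | exact P.swap₁₃ _ _ _
        | exact (P.swap₁₂ _ _ _).trans (P.swap₂₃ _ _ _)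
        | exact (P.swap₂₃ _ _ _).trans (P.swap₁₂ _ _ _)
    have r311 : P.T (Pi.single 3 1) (Pi.single 1 1) (Pi.single 1 1) = P.T (Pi.single 1 1) (Pi.single 1 1) (Pi.single 3 1) := by
      first
        | exact P.swap₁₂ _ _ _
        | exact P.swap₂₃ _ _ _
        | exact P.swap₁₃ _ _ _
        | exact (P.swap₁₂ _ _ _).trans (P.swap₂₃ _ _ _)
        | exact (P.swap₂₃ _ _ _).trans (P.swap₁₂ _ _ _)
    have r312 : P.T (Pi.single 3 1) (Pi.single 1 1) (Pi.single 2 1) = P.T (Pi.single 1 1) (Pi.single 2 1) (Pi.single 3 1) := by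
      first
        | exact P.swap₁₂ _ _ _
        | exact P.swap₂₃ _ _ _
        | exact P.swap₁₃ _ _ _
        | exact (P.swap₁₂ _ _ _).trans (P.swap₂₃ _ _ _)
        | exact (P.swap₂₃ _ _ _).trans (P.swap₁₂ _ _ _)
    have r313 : P.T (Pi.single 3 1) (Pi.single 1 1) (Pi.single 3 1) = P.T (Pi.single 1 1) (Pi.single 3 1) (Pi.single 3 1) := by
      first
        | exact P.swap₁₂ _ _ _
        | exact P.swap₂₃ _ _ _
        | exact P.swap₁₃ _ _ _
        | exact (P.swap₁₂ _ _ _).trans (P.swap₂₃ _ _ _)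
        | exact (P.swap₂₃ _ _ _).trans (P.swap₁₂ _ _ _)
    have r320 : P.T (Pi.single 3 1) (Pi.single 2 1) (Pi.single 0 1) = P.T (Pi.single 0 1) (Pi.single 2 1) (Pi.single 3 1) := by
      first
        | exact P.swap₁₂ _ _ _
        | exact P.swap₂₃ _ _ _
        | exact P.swap₁₃ _ _ _
        | exact (P.swap₁₂ _ _ _).trans (P.swap₂₃ _ _ _)
        | exact (P.swap₂₃ _ _ _).trans (P.swap₁₂ _ _ _)
    have r321 : P.T (Pi.single 3 1) (Pi.single 2 1) (Pi.single 1 1) = P.T (Pi.single 1 1) (Pi.single 2 1) (Pi.single 3 1) := by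
      first
        | exact P.swap₁₂ _ _ _
        | exact P.swap₂₃ _ _ _
        | exact P.swap₁₃ _ _ _
        | exact (P.swap₁₂ _ _ _).trans (P.swap₂₃ _ _ _)
        | exact (P.swap₂₃ _ _ _).trans (P.swap₁₂ _ _ _)
    have r322 : P.T (Pi.single 3 1) (Pi.single 2 1) (Pi.single 2 1) = P.T (Pi.single 2 1) (Pi.single 2 1) (Pi.single 3 1) := by
      first
        | exact P.swap₁₂ _ _ _
        | exact P.swap₂₃ _ _ _
        | exact P.swap₁₃ _ _ _
        | exact (P.swap₁₂ _ _ _).trans (P.swap₂₃ _ _ _)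
        | exact (P.swap₂₃ _ _ _).trans (P.swap₁₂ _ _ _)
    have r323 : P.T (Pi.single 3 1) (Pi.single 2 1) (Pi.single 3 1) = P.T (Pi.single 2 1) (Pi.single 3 1) (Pi.single 3 1) := by
      first
        | exact P.swap₁₂ _ _ _
        | exact P.swap₂₃ _ _ _
        | exact P.swap₁₃ _ _ _
        | exact (P.swap₁₂ _ _ _).trans (P.swap₂₃ _ _ _)
        | exact (P.swap₂₃ _ _ _).trans (P.swap₁₂ _ _ _)
    have r330 : P.T (Pi.single 3 1) (Pi.single 3 1) (Pi.single 0 1) = P.T (Pi.single 0 1) (Pi.single 3 1) (Pi.single 3 1) := by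
      first
        | exact P.swap₁₂ _ _ _
        | exact P.swap₂₃ _ _ _
        | exact P.swap₁₃ _ _ _
        | exact (P.swap₁₂ _ _ _).trans (P.swap₂₃ _ _ _)
        | exact (P.swap₂₃ _ _ _).trans (P.swap₁₂ _ _ _)
    have r331 : P.T (Pi.single 3 1) (Pi.single 3 1) (Pi.single 1 1) = P.T (Pi.single 1 1) (Pi.single 3 1) (Pi.single 3 1) := by
      first
        | exact P.swap₁₂ _ _ _
        | exact P.swap₂₃ _ _ _
        | exact P.swap₁₃ _ _ _
        | exact (P.swap₁₂ _ _ _).trans (P.swap₂₃ _ _ _)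
        | exact (P.swap₂₃ _ _ _).trans (P.swap₁₂ _ _ _)
    have r332 : P.T (Pi.single 3 1) (Pi.single 3 1) (Pi.single 2 1) = P.T (Pi.single 2 1) (Pi.single 3 1) (Pi.single 3 1) := by
      first
        | exact P.swap₁₂ _ _ _
        | exact P.swap₂₃ _ _ _
        | exact P.swap₁₃ _ _ _
        | exact (P.swap₁₂ _ _ _).trans (P.swap₂₃ _ _ _)
        | exact (P.swap₂₃ _ _ _).trans (P.swap₁₂ _ _ _)
    have d0 : P.T (Pi.single 0 1) (Pi.single 0 1) (Pi.single 0 1) = 0 := by rw [P.diag]; exact h0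
    have d1 : P.T (Pi.single 1 1) (Pi.single 1 1) (Pi.single 1 1) = 0 := by rw [P.diag]; exact h1
    have d2 : P.T (Pi.single 2 1) (Pi.single 2 1) (Pi.single 2 1) = 0 := by rw [P.diag]; exact h2
    have d3 : P.T (Pi.single 3 1) (Pi.single 3 1) (Pi.single 3 1) = 0 := by rw [P.diag]; exact h3
    rw [r010, r020, r021, r030, r031, r032, r100, r101, r102, r103, r110, r120, r121, r130, r131, r132, r200, r201, r202, r203, r210, r211, r212, r213, r220, r221, r230, r231, r232, r300, r301, r302, r303, r310, r311, r312, r313, r320, r321, r322, r323, r330, r331, r332, d0, d1, d2, d3]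
    ring
  refine ⟨_, _, _, _, _, _, _, _, _, _, _, _, _, _, _, _, ?_, key⟩
  have := h4
  rw [key, eval_stdCubic] at this
  simp only [one_pow, mul_one] at this
  exact this

end Groth.Agent.Lib.Helper8.Pf
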