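import Mathlib
import Groth.Agent.Lib.Helper8.Pf3
set_option backward.isDefEq.respectTransparency.types false
set_option autoImplicit false
set_option linter.unusedSectionVars false
set_option linter.style.haveILetI false

namespace Groth.Agent.Lib.Helper8.Pf

open MvPolynomial Matrix Groth.Agent.Lib.Helper8.CubicK

variable {k : Type*} [Field k]

/-- Linear substitution `X_i ↦ Σ_j A_ij X_j`. -/
noncomputable def sub (A : Matrix (Fin 4) (Fin 4) k) :
    MvPolynomial (Fin 4) k →ₐ[k] MvPolynomial (Fin 4) k :=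
  aeval (fun i : Fin 4 => ∑ j : Fin 4, C (A i j) * X j)

lemma sub_def (A : Matrix (Fin 4) (Fin 4) k) (f : MvPolynomial (Fin 4) k) :
    sub A f = aeval (fun i : Fin 4 => ∑ j : Fin 4, C (A i j) * X j) f := rfl

lemma eval_sub (A : Matrix (Fin 4) (Fin 4) k) (f : MvPolynomial (Fin 4) k) (v : Fin 4 → k) :
    eval v (sub A f) = eval (A *ᵥ v) f := by
  rw [sub_def, aeval_def, eval_eval₂]
  congr 1
  · ext a; simp
  · funext i
    simp [Matrix.mulVec, dotProduct]

lemma sub_X (A : Matrix (Fin 4) (Fin 4) k) (i : Fin 4) :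
    sub A (X i) = ∑ j : Fin 4, C (A i j) * X j := by
  simp [sub_def]

lemma sub_comp (A B : Matrix (Fin 4) (Fin 4) k) : (sub A).comp (sub B) = sub (B * A) := by
  apply MvPolynomial.algHom_ext
  intro i
  rw [AlgHom.comp_apply, sub_X, sub_X, map_sum]
  simp only [map_mul, sub_X, Matrix.mul_apply, map_sum, Finset.mul_sum, Finset.sum_mul]
  rw [Finset.sum_comm]
  refine Finset.sum_congr rfl (fun j _ => Finset.sum_congr rfl (fun l _ => ?_))
  have : sub A (C (B i l)) = C (B i l) := by simp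
  rw [this]
  ring

lemma sub_one : sub (1 : Matrix (Fin 4) (Fin 4) k) = AlgHom.id k _ := by
  apply MvPolynomial.algHom_ext
  intro i
  rw [sub_X]
  simp [Matrix.one_apply]

lemma sub_isHomogeneous (A : Matrix (Fin 4) (Fin 4) k) {f : MvPolynomial (Fin 4) k} {n : ℕ}
    (hf : f.IsHomogeneous n) : (sub A f).IsHomogeneous n := by
  have h1 : ∀ i : Fin 4, (∑ j : Fin 4, C (A i j) * X j : MvPolynomial (Fin 4) k).IsHomogeneous 1 := by
    intro i
    apply IsHomogeneous.sum
    intro j _
    have := (isHomogeneous_C (Fin 4) (A i j)).mul (isHomogeneous_X k j)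
    simpa using this
  have := hf.aeval (fun i : Fin 4 => ∑ j : Fin 4, C (A i j) * X j) h1
  rw [one_mul] at this
  exact this

lemma sub_inv {A : Matrix (Fin 4) (Fin 4) k} (hA : IsUnit A.det) (f : MvPolynomial (Fin 4) k) :
    sub A⁻¹ (sub A f) = f := by
  have := sub_comp A⁻¹ A
  rw [Matrix.mul_nonsing_inv A hA, sub_one] at this
  have h := congrArg (fun φ : MvPolynomial (Fin 4) k →ₐ[k] MvPolynomial (Fin 4) k => φ f) this
  simpa using h

/-- **A cubic surface with five rational points in general position is Pfaffian.** -/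
theorem exists_pfaffian_of_five_points [CharZero k] (F : MvPolynomial (Fin 4) k)
    (hF : F.IsHomogeneous 3) (p : Fin 5 → (Fin 4 → k)) (hp : ∀ j, eval (p j) F = 0)
    (hgp : ∀ j : Fin 5, LinearIndependent k (fun i : Fin 4 => p (j.succAbove i))) :
    ∃ M : Matrix (Fin 6) (Fin 6) (MvPolynomial (Fin 4) k), (∀ i j, (M i j).IsHomogeneous 1) ∧
      M.transpose = -M ∧ (∀ i, M i i = 0) ∧ ∃ c : k, c ≠ 0 ∧ M.det = C c * F ^ 2 := by
  obtain ⟨P⟩ := exists_polar hF
  -- the explicit subfamilies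
  have e4 : (fun i : Fin 4 => p ((4 : Fin 5).succAbove i)) = ![p 0, p 1, p 2, p 3] := by
    funext i; fin_cases i <;> rfl
  have e3 : (fun i : Fin 4 => p ((3 : Fin 5).succAbove i)) = ![p 0, p 1, p 2, p 4] := by
    funext i; fin_cases i <;> rfl
  have e2 : (fun i : Fin 4 => p ((2 : Fin 5).succAbove i)) = ![p 0, p 1, p 3, p 4] := by
    funext i; fin_cases i <;> rfl
  have e1 : (fun i : Fin 4 => p ((1 : Fin 5).succAbove i)) = ![p 0, p 2, p 3, p 4] := by
    funext i; fin_cases i <;> rfl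
  have e0 : (fun i : Fin 4 => p ((0 : Fin 5).succAbove i)) = ![p 1, p 2, p 3, p 4] := by
    funext i; fin_cases i <;> rfl
  have l4 := hgp 4; rw [e4] at l4
  have l3 := hgp 3; rw [e3] at l3
  have l2 := hgp 2; rw [e2] at l2
  have l1 := hgp 1; rw [e1] at l1
  have l0 := hgp 0; rw [e0] at l0
  let bs := basisOfLinearIndependentOfCardEqFinrank l4 (by simp)
  have hb0 : bs 0 = p 0 := by simp [bs]
  have hb1 : bs 1 = p 1 := by simp [bs]
  have hb2 : bs 2 = p 2 := by simp [bs]
  have hb3 : bs 3 = p 3 := by simp [bs]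
  obtain ⟨c0, c1, c2, c3, hp4⟩ : ∃ c0 c1 c2 c3 : k,
      p 4 = c0 • p 0 + c1 • p 1 + c2 • p 2 + c3 • p 3 := by
    have := bs.sum_repr (p 4)
    rw [Fin.sum_univ_four, hb0, hb1, hb2, hb3] at this
    exact ⟨_, _, _, _, this.symm⟩
  have hc0 : c0 ≠ 0 := by
    intro h
    have h' := Fintype.linearIndependent_iff.mp l0 ![c1, c2, c3, -1] (by
      rw [Fin.sum_univ_four]
      show c1 • p 1 + c2 • p 2 + c3 • p 3 + (-1 : k) • p 4 = 0
      rw [hp4, h]; module) 3
    simp at h'
  have hc1 : c1 ≠ 0 := by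
    intro h
    have h' := Fintype.linearIndependent_iff.mp l1 ![c0, c2, c3, -1] (by
      rw [Fin.sum_univ_four]
      show c0 • p 0 + c2 • p 2 + c3 • p 3 + (-1 : k) • p 4 = 0
      rw [hp4, h]; module) 3
    simp at h'
  have hc2 : c2 ≠ 0 := by
    intro h
    have h' := Fintype.linearIndependent_iff.mp l2 ![c0, c1, c3, -1] (by
      rw [Fin.sum_univ_four]
      show c0 • p 0 + c1 • p 1 + c3 • p 3 + (-1 : k) • p 4 = 0
      rw [hp4, h]; module) 3
    simp at h'
  have hc3 : c3 ≠ 0 := by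
    intro h
    have h' := Fintype.linearIndependent_iff.mp l3 ![c0, c1, c2, -1] (by
      rw [Fin.sum_univ_four]
      show c0 • p 0 + c1 • p 1 + c2 • p 2 + (-1 : k) • p 4 = 0
      rw [hp4, h]; module) 3
    simp at h'
  -- the matrix with rows `c_i p_i`
  let B : Matrix (Fin 4) (Fin 4) k := Matrix.of ![c0 • p 0, c1 • p 1, c2 • p 2, c3 • p 3]
  have hBli : LinearIndependent k ![c0 • p 0, c1 • p 1, c2 • p 2, c3 • p 3] := by
    have := l4.units_smul ![Units.mk0 c0 hc0, Units.mk0 c1 hc1, Units.mk0 c2 hc2, Units.mk0 c3 hc3]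
    convert this using 1
    funext i
    fin_cases i <;> rfl
  have hBu : IsUnit B := Matrix.linearIndependent_rows_iff_isUnit.mp hBli
  have hBdet : IsUnit B.det := (Matrix.isUnit_iff_isUnit_det _).mp hBu
  let A : Matrix (Fin 4) (Fin 4) k := Bᵀ
  have hAdet : IsUnit A.det := by rw [Matrix.det_transpose]; exact hBdet
  have hAe : ∀ i : Fin 4, A *ᵥ (Pi.single i 1) = B i := by
    intro i
    funext r
    rw [Matrix.mulVec_single_one]
    rfl
  have hA1 : A *ᵥ (fun _ => (1 : k)) = p 4 := by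
    funext r
    simp only [Matrix.mulVec, dotProduct, mul_one, Fin.sum_univ_four]
    rw [hp4]
    simp [A, B]
  -- the transformed cubic
  have hF' : (sub A F).IsHomogeneous 3 := sub_isHomogeneous A hF
  have hz : ∀ (c : k) (j : Fin 5), eval (c • p j) F = 0 := by
    intro c j
    rw [P.eval_smul, hp j, mul_zero]
  have h0 : eval (Pi.single 0 1) (sub A F) = 0 := by
    rw [eval_sub, hAe]; exact hz c0 0
  have h1 : eval (Pi.single 1 1) (sub A F) = 0 := by
    rw [eval_sub, hAe]; exact hz c1 1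
  have h2 : eval (Pi.single 2 1) (sub A F) = 0 := by
    rw [eval_sub, hAe]; exact hz c2 2
  have h3 : eval (Pi.single 3 1) (sub A F) = 0 := by
    rw [eval_sub, hAe]; exact hz c3 3
  have h4 : eval (fun _ => 1) (sub A F) = 0 := by
    rw [eval_sub, hA1]; exact hp 4
  obtain ⟨c001, c002, c003, c011, c012, c013, c022, c023, c033, c112, c113, c122, c123, c133,
    c223, c233, hsum, hstd⟩ := eq_stdCubic (sub A F) hF' h0 h1 h2 h3 h4
  have hdet := det_stdMat c001 c002 c003 c011 c012 c013 c022 c023 c033 c112 c113 c122 c123 c133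
    c223 c233 hsum
  rw [← hstd] at hdet
  obtain ⟨M', hM'⟩ : ∃ M', M' = stdMat c001 c002 c003 c011 c012 c013 c022 c023 c033 c112 c113 c122
    c123 c133 c223 c233 := ⟨_, rfl⟩
  rw [← hM'] at hdet
  have hM'hom : ∀ i j, (M' i j).IsHomogeneous 1 := by
    intro i j
    rw [hM']
    unfold stdMat
    apply skew6_pred (fun q : MvPolynomial (Fin 4) k => q.IsHomogeneous 1)
      (isHomogeneous_zero _ _ _) (fun a ha => ha.neg) <;> exact lf_isHomogeneous _
  have hM't : M'.transpose = -M' := by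
    rw [hM']; unfold stdMat; exact skew6_transpose _ _ _ _ _ _ _ _ _ _ _ _ _ _ _
  have hM'd : ∀ i, M' i i = 0 := by
    intro i
    rw [hM']; unfold stdMat; exact skew6_diag _ _ _ _ _ _ _ _ _ _ _ _ _ _ _ i
  refine ⟨M'.map (sub A⁻¹), ?_, ?_, ?_, 1, one_ne_zero, ?_⟩
  · intro i j
    rw [Matrix.map_apply]
    exact sub_isHomogeneous _ (hM'hom i j)
  · ext i j
    rw [Matrix.transpose_apply, Matrix.map_apply, Matrix.neg_apply, Matrix.map_apply]
    have := congrFun (congrFun hM't i) j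
    rw [Matrix.transpose_apply, Matrix.neg_apply] at this
    rw [this, map_neg]
  · intro i
    rw [Matrix.map_apply, hM'd, map_zero]
  · have e : M'.map (sub A⁻¹) = (sub A⁻¹).toRingHom.mapMatrix M' := rfl
    rw [e, ← RingHom.map_det, hdet]
    simp only [AlgHom.toRingHom_eq_coe, RingHom.coe_coe, map_pow, map_one, one_mul]
    rw [sub_inv hAdet]

end Groth.Agent.Lib.Helper8.Pf
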