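import Mathlib
import Groth.Agent.Lib.Helper8.GP6
import Groth.Agent.Lib.Helper8.Pf4
set_option backward.isDefEq.respectTransparency.types false
set_option autoImplicit false
set_option linter.unusedSectionVars false
set_option linter.style.haveILetI false

namespace Groth.Agent.Lib.Helper8.GP

open MvPolynomial Groth.Agent.Lib.Helper8.CubicK

variable {k : Type*} [Field k] [CharZero k] {F : MvPolynomial (Fin 4) k}
variable {K : Type*} [Field K] [CharZero K] [IsAlgClosed K] [Algebra k K]

include K in
/-- **Five rational points in general position on a geometrically irreducible cubic surface which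
is not a cone, from a rational point which is not a `T`-point.** -/
theorem five_points (hF : F.IsHomogeneous 3)
    (hirr : Irreducible (map (algebraMap k K) F))
    (hcone : ¬ ∃ v : Fin 4 → k, v ≠ 0 ∧ ∑ i : Fin 4, v i • pderiv i F = 0)
    {a : Fin 4 → k} (ha : a ≠ 0) (hFa : eval a F = 0) (hnT : ¬ TP K F a) :
    ∃ p : Fin 5 → (Fin 4 → k), p 0 = a ∧ (∀ j : Fin 5, eval (p j) F = 0) ∧
      ∀ j : Fin 5, LinearIndependent k (fun i : Fin 4 => p (j.succAbove i)) := by
  by_cases hs : ∀ i : Fin 4, eval a (pderiv i F) = 0
  · exact five_points_of_singular (K := K) hF hirr hcone ha hFa hs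
  · push Not at hs
    exact five_points_of_smooth (K := K) hF ha hFa hs hnT

include K in
/-- **A geometrically irreducible cubic surface, not a cone, with a rational point which is not a
`T`-point is Pfaffian over the ground field.** -/
theorem pfaffian_of_point (hF : F.IsHomogeneous 3)
    (hirr : Irreducible (map (algebraMap k K) F))
    (hcone : ¬ ∃ v : Fin 4 → k, v ≠ 0 ∧ ∑ i : Fin 4, v i • pderiv i F = 0)
    {a : Fin 4 → k} (ha : a ≠ 0) (hFa : eval a F = 0) (hnT : ¬ TP K F a) :
    ∃ M : Matrix (Fin 6) (Fin 6) (MvPolynomial (Fin 4) k), (∀ i j, (M i j).IsHomogeneous 1) ∧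
      M.transpose = -M ∧ (∀ i, M i i = 0) ∧ ∃ c : k, c ≠ 0 ∧ M.det = C c * F ^ 2 := by
  obtain ⟨p, -, hp, hgp⟩ := five_points (K := K) hF hirr hcone ha hFa hnT
  exact Pf.exists_pfaffian_of_five_points F hF p hp hgp

end Groth.Agent.Lib.Helper8.GP
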