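import Mathlib
import Groth.Agent.Lib.Helper9.FlatInj
import Groth.Agent.Lib.Helper9.GenExact

set_option backward.isDefEq.respectTransparency.types false
set_option autoImplicit false
set_option linter.unusedSectionVars false
set_option linter.style.haveILetI false

namespace Groth.Agent.Lib.Helper8.HB1

open TensorProduct Function

universe u v

section general

variable {R : Type u} [CommRing R] {M N : Type v} [AddCommGroup M] [Module R M]
  [AddCommGroup N] [Module R N] (u : N →ₗ[R] M) (I : Ideal R)

/-- elementwise criterion for injectivity of `(R ⧸ I) ⊗ u` -/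
theorem lTensor_quot_injective_of_forall
    (h : ∀ x, u x ∈ I • (⊤ : Submodule R M) → x ∈ I • (⊤ : Submodule R N)) :
    Injective (u.lTensor (R ⧸ I)) := by
  rw [injective_iff_map_eq_zero]
  intro z hz
  obtain ⟨y, rfl⟩ := (quotTensorEquivQuotSMul N I).symm.surjective z
  obtain ⟨x, rfl⟩ := Submodule.Quotient.mk_surjective _ y
  rw [quotTensorEquivQuotSMul_symm_mk, LinearMap.lTensor_tmul] at hz
  have h1 : quotTensorEquivQuotSMul M I ((1 : R ⧸ I) ⊗ₜ[R] u x) = 0 := by rw [hz, map_zero]
  rw [quotTensorEquivQuotSMul_mk_one_tmul, Submodule.Quotient.mk_eq_zero] at h1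
  have h2 := h x h1
  rw [(Submodule.Quotient.mk_eq_zero _).mpr h2, map_zero]

/-- converse: injectivity of `(R ⧸ I) ⊗ u` gives the elementwise statement -/
theorem forall_of_lTensor_quot_injective (h : Injective (u.lTensor (R ⧸ I))) :
    ∀ x, u x ∈ I • (⊤ : Submodule R M) → x ∈ I • (⊤ : Submodule R N) := by
  intro x hx
  have h1 : u.lTensor (R ⧸ I) ((1 : R ⧸ I) ⊗ₜ[R] x) = 0 := by
    rw [LinearMap.lTensor_tmul]
    have : (quotTensorEquivQuotSMul M I).symm (Submodule.Quotient.mk (u x)) = 0 := by
      rw [(Submodule.Quotient.mk_eq_zero _).mpr hx, map_zero]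
    rwa [quotTensorEquivQuotSMul_symm_mk] at this
  have h2 : (1 : R ⧸ I) ⊗ₜ[R] x = 0 := (injective_iff_map_eq_zero _).mp h _ h1
  have h3 : quotTensorEquivQuotSMul N I ((1 : R ⧸ I) ⊗ₜ[R] x) = 0 := by rw [h2, map_zero]
  rwa [quotTensorEquivQuotSMul_mk_one_tmul, Submodule.Quotient.mk_eq_zero] at h3

/-- an injection with flat cokernel satisfies the elementwise statement for every ideal -/
theorem forall_of_flat_coker {B : Type v} [AddCommGroup B] [Module R B] [Module.Flat R B]
    (g : M →ₗ[R] B) (hinj : Injective u) (hex : Function.Exact u g) (hsurj : Surjective g) :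
    ∀ x, u x ∈ I • (⊤ : Submodule R M) → x ∈ I • (⊤ : Submodule R N) :=
  forall_of_lTensor_quot_injective u I
    (Groth.Agent.Lib.Helper9.GenExact.lTensor_injective_of_flat_coker u g hinj hex hsurj (R ⧸ I))

/-- the kernel of a surjection of flat modules is flat -/
theorem flat_of_flat_coker {B : Type v} [AddCommGroup B] [Module R B] [Module.Flat R B]
    [Module.Flat R M]
    (g : M →ₗ[R] B) (hinj : Injective u) (hex : Function.Exact u g) (hsurj : Surjective g) :
    Module.Flat R N := by
  rw [Module.Flat.iff_lTensor_injective']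
  intro J
  have h1 : Injective (u.lTensor J) :=
    Groth.Agent.Lib.Helper9.GenExact.lTensor_injective_of_flat_coker u g hinj hex hsurj J
  have h2 : Injective (J.subtype.rTensor M) :=
    Module.Flat.rTensor_preserves_injective_linearMap _ J.injective_subtype
  have h3 : (u.lTensor R) ∘ₗ (J.subtype.rTensor N) = (J.subtype.rTensor M) ∘ₗ (u.lTensor J) := by
    rw [LinearMap.lTensor_comp_rTensor, LinearMap.rTensor_comp_lTensor]
  have h4 : Injective ((u.lTensor R) ∘ₗ (J.subtype.rTensor N)) := by
    rw [h3]; exact h2.comp h1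
  have h5 : Injective (J.subtype.rTensor N) := Function.Injective.of_comp h4
  exact (LinearMap.lTensor_inj_iff_rTensor_inj _ _).mpr h5

end general

section localring

variable {R : Type u} [CommRing R] [IsLocalRing R] {M N : Type v} [AddCommGroup M] [Module R M]
  [AddCommGroup N] [Module R N] (u : N →ₗ[R] M)

/-- Matsumura 22.5 over a local ring with nilpotent maximal ideal, in elementwise form -/
theorem injective_and_flat_of_forall [Module.Flat R M] (n : ℕ)
    (hn : IsLocalRing.maximalIdeal R ^ n = ⊥)
    (h : ∀ x, u x ∈ IsLocalRing.maximalIdeal R • (⊤ : Submodule R M) →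
      x ∈ IsLocalRing.maximalIdeal R • (⊤ : Submodule R N)) :
    Injective u ∧ Module.Flat R (M ⧸ LinearMap.range u) := by
  have hk : Injective (u.lTensor (IsLocalRing.ResidueField R)) :=
    lTensor_quot_injective_of_forall u (IsLocalRing.maximalIdeal R) h
  have hall : ∀ (V : Type u) [AddCommGroup V] [Module R V], Injective (u.lTensor V) := by
    intro V _ _
    apply Groth.Agent.Lib.Helper9.lTensor_injective_of_isTorsionBySet_pow u hk n
    rintro x ⟨a, ha⟩
    rw [hn] at ha
    have : a = 0 := by simpa using ha
    simp [this]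
  constructor
  · have h1 := hall R
    intro a b hab
    have h2 : u.lTensor R ((1 : R) ⊗ₜ a) = u.lTensor R ((1 : R) ⊗ₜ b) := by
      rw [LinearMap.lTensor_tmul, LinearMap.lTensor_tmul, hab]
    have h3 := congrArg (TensorProduct.lid R N) (h1 h2)
    simpa using h3
  · rw [Module.Flat.iff_lTensor_injective']
    intro I
    exact lTensor_injective_of_exact_of_exact_of_rTensor_injective
      (LinearMap.exact_map_mkQ_range u) (Submodule.mkQ_surjective _)
      (LinearMap.exact_subtype_mkQ I) (Submodule.mkQ_surjective _)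
      ((LinearMap.lTensor_inj_iff_rTensor_inj _ _).mp (hall (R ⧸ I)))
      (Module.Flat.lTensor_preserves_injective_linearMap _ I.injective_subtype)

end localring

end Groth.Agent.Lib.Helper8.HB1
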