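import Mathlib
import Groth.Agent.Lib.Helper8.HB1

set_option backward.isDefEq.respectTransparency.types false
set_option autoImplicit false
set_option linter.unusedSectionVars false
set_option linter.style.haveILetI false

namespace Groth.Agent.Lib.Helper8.HB2

open Function Matrix

universe u

section det

variable {S : Type u} [CommRing S] {r : ℕ} (φ : Matrix (Fin (r + 1)) (Fin r) S)

/-- the signed maximal minors -/
def fvec : Fin (r + 1) → S := fun i => (-1 : S) ^ (i : ℕ) * (φ.submatrix i.succAbove id).det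

theorem fvec_mul (j : Fin r) : ∑ i, fvec φ i * φ i j = 0 := by
  let M : Matrix (Fin (r + 1)) (Fin (r + 1)) S :=
    fun i => (Fin.cons (φ i j) (fun l => φ i l) : Fin (r + 1) → S)
  have hM0 : ∀ i, M i 0 = φ i j := fun i => Fin.cons_zero _ _
  have hMs : ∀ i l, M i (Fin.succ l) = φ i l := fun i l => Fin.cons_succ _ _ _
  have h0 : M.det = 0 := by
    apply Matrix.det_zero_of_column_eq (i := 0) (j := j.succ) (Fin.succ_ne_zero j).symm
    intro k
    rw [hM0, hMs]
  rw [Matrix.det_succ_column_zero] at h0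
  rw [← h0]
  apply Finset.sum_congr rfl
  intro i _
  have h1 : M.submatrix i.succAbove Fin.succ = φ.submatrix i.succAbove id := by
    ext a l
    show M (i.succAbove a) (Fin.succ l) = _
    rw [hMs]
    rfl
  rw [h1, hM0]
  unfold fvec
  ring

theorem linComb_mulVec (v : Fin r → S) :
    Fintype.linearCombination S (fvec φ) (φ *ᵥ v) = 0 := by
  rw [Fintype.linearCombination_apply]
  simp only [Matrix.mulVec, dotProduct, smul_eq_mul, Finset.sum_mul]
  rw [Finset.sum_comm]
  apply Finset.sum_eq_zero
  intro j _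
  have := fvec_mul φ j
  calc ∑ i, φ i j * v j * fvec φ i = v j * ∑ i, fvec φ i * φ i j := by
        rw [Finset.mul_sum]
        apply Finset.sum_congr rfl
        intro i _
        ring
    _ = 0 := by rw [this, mul_zero]

theorem fvec_map {T : Type u} [CommRing T] (g : S →+* T) (i : Fin (r + 1)) :
    fvec (φ.map g) i = g (fvec φ i) := by
  unfold fvec
  rw [map_mul, map_pow, map_neg, map_one, RingHom.map_det]
  rfl

end det

section transfer

variable {C' : Type u} [CommRing C'] [IsLocalRing C'] (J : Ideal C')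
  [IsLocalRing (C' ⧸ J)]
  {P' P : Type u} [AddCommGroup P'] [Module C' P'] [AddCommGroup P] [Module (C' ⧸ J) P]
  (π : P' →+ P) (hπ : ∀ (c : C') (x : P'), π (c • x) = Ideal.Quotient.mk J c • π x)

theorem mk_mem_maximalIdeal (c : C') (hc : c ∈ IsLocalRing.maximalIdeal C') :
    Ideal.Quotient.mk J c ∈ IsLocalRing.maximalIdeal (C' ⧸ J) := by
  rw [IsLocalRing.mem_maximalIdeal, mem_nonunits_iff] at hc ⊢
  intro h
  haveI : IsLocalHom (Ideal.Quotient.mk J) :=
    IsLocalHom.of_surjective _ Ideal.Quotient.mk_surjective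
  exact hc (isUnit_of_map_unit (Ideal.Quotient.mk J) c h)

theorem mem_maximalIdeal_of_mk (c : C')
    (hc : Ideal.Quotient.mk J c ∈ IsLocalRing.maximalIdeal (C' ⧸ J)) :
    c ∈ IsLocalRing.maximalIdeal C' := by
  rw [IsLocalRing.mem_maximalIdeal, mem_nonunits_iff] at hc ⊢
  exact fun h => hc (h.map _)

include hπ in
theorem transfer_down (x : P')
    (hx : x ∈ IsLocalRing.maximalIdeal C' • (⊤ : Submodule C' P')) :
    π x ∈ IsLocalRing.maximalIdeal (C' ⧸ J) • (⊤ : Submodule (C' ⧸ J) P) := by
  induction hx using Submodule.smul_induction_on' with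
  | smul c hc y _ =>
    rw [hπ]
    exact Submodule.smul_mem_smul (mk_mem_maximalIdeal J c hc) Submodule.mem_top
  | add x hx y hy ihx ihy =>
    rw [map_add]
    exact Submodule.add_mem _ ihx ihy

include hπ in
theorem transfer_up (hsurj : Surjective π)
    (hker : ∀ x, π x = 0 → x ∈ IsLocalRing.maximalIdeal C' • (⊤ : Submodule C' P'))
    (x : P') (hx : π x ∈ IsLocalRing.maximalIdeal (C' ⧸ J) • (⊤ : Submodule (C' ⧸ J) P)) :
    x ∈ IsLocalRing.maximalIdeal C' • (⊤ : Submodule C' P') := by
  have key : ∀ p ∈ IsLocalRing.maximalIdeal (C' ⧸ J) • (⊤ : Submodule (C' ⧸ J) P),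
      ∀ x, π x = p → x ∈ IsLocalRing.maximalIdeal C' • (⊤ : Submodule C' P') := by
    intro p hp
    induction hp using Submodule.smul_induction_on' with
    | smul cb hcb q _ =>
      intro x hx
      obtain ⟨c, rfl⟩ := Ideal.Quotient.mk_surjective cb
      obtain ⟨y, rfl⟩ := hsurj q
      have hc := mem_maximalIdeal_of_mk J c hcb
      have h1 : π (x - c • y) = 0 := by rw [map_sub, hπ, hx, sub_self]
      have h2 := hker _ h1
      have h3 : c • y ∈ IsLocalRing.maximalIdeal C' • (⊤ : Submodule C' P') :=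
        Submodule.smul_mem_smul hc Submodule.mem_top
      have := Submodule.add_mem _ h2 h3
      rwa [sub_add_cancel] at this
    | add p₁ hp₁ p₂ hp₂ ih₁ ih₂ =>
      intro x hx
      obtain ⟨x₁, hx₁⟩ := hsurj p₁
      have h1 := ih₁ x₁ hx₁
      have h2 := ih₂ (x - x₁) (by rw [map_sub, hx, hx₁, add_sub_cancel_left])
      have := Submodule.add_mem _ h2 h1
      rwa [sub_add_cancel] at this
  exact key _ hx x rfl

end transfer

end Groth.Agent.Lib.Helper8.HB2
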