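import Mathlib
import Groth.Agent.Lib.Helper8.HB2

set_option backward.isDefEq.respectTransparency.types false
set_option autoImplicit false
set_option linter.unusedSectionVars false
set_option linter.style.haveILetI false

namespace Groth.Agent.Lib.Helper8.HB3

open Function Matrix Groth.Agent.Lib.Helper8.HB1 Groth.Agent.Lib.Helper8.HB2

universe u

section

variable {C' : Type u} [CommRing C'] [IsLocalRing C'] (J : Ideal C')
  {A' : Type u} [CommRing A'] [Algebra C' A']

/-- coordinatewise reduction of vectors -/
def redVec (s : ℕ) : (Fin s → A') →+ (Fin s → A' ⧸ J.map (algebraMap C' A')) :=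
  (Ideal.Quotient.mk (J.map (algebraMap C' A'))).toAddMonoidHom.compLeft (Fin s)

theorem redVec_apply (s : ℕ) (x : Fin s → A') (i : Fin s) :
    redVec J s x i = Ideal.Quotient.mk (J.map (algebraMap C' A')) (x i) := rfl

theorem redVec_smul (s : ℕ) (c : C') (x : Fin s → A') :
    redVec J s (c • x) = Ideal.Quotient.mk J c • redVec J s x := by
  funext i
  rw [Pi.smul_apply, redVec_apply, redVec_apply, Pi.smul_apply, Algebra.smul_def, Algebra.smul_def,
    map_mul]
  rfl

theorem redVec_surjective (s : ℕ) : Surjective (redVec (A' := A') J s) := by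
  intro y
  choose x hx using fun j => Ideal.Quotient.mk_surjective (y j)
  exact ⟨x, funext hx⟩

theorem mem_smul_top_of_mem_map (a : A') (ha : a ∈ J.map (algebraMap C' A')) :
    a ∈ J • (⊤ : Submodule C' A') := by
  rw [Ideal.smul_top_eq_map]
  exact ha

theorem redVec_ker (hJ : J ≤ IsLocalRing.maximalIdeal C') (s : ℕ) (x : Fin s → A')
    (hx : redVec J s x = 0) :
    x ∈ IsLocalRing.maximalIdeal C' • (⊤ : Submodule C' (Fin s → A')) := by
  have h1 : ∀ i, x i ∈ J.map (algebraMap C' A') := by
    intro i
    have := congrFun hx i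
    rw [redVec_apply, Pi.zero_apply, Ideal.Quotient.eq_zero_iff_mem] at this
    exact this
  have h2 : ∀ i, (Pi.single i (x i) : Fin s → A') ∈ J • (⊤ : Submodule C' (Fin s → A')) := by
    intro i
    have h3 := mem_smul_top_of_mem_map J (x i) (h1 i)
    have h4 : LinearMap.single C' (fun _ : Fin s => A') i (x i) ∈
        Submodule.map (LinearMap.single C' (fun _ : Fin s => A') i) (J • (⊤ : Submodule C' A')) :=
      Submodule.mem_map_of_mem h3
    rw [Submodule.map_smul''] at h4
    exact Submodule.smul_mono le_rfl le_top h4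
  have h5 : x = ∑ i, (Pi.single i (x i) : Fin s → A') := (Finset.univ_sum_single x).symm
  rw [h5]
  exact Submodule.smul_mono_left hJ (Submodule.sum_mem _ fun i _ => h2 i)

/-- reduction of scalars -/
def redA : A' →+ (A' ⧸ J.map (algebraMap C' A')) :=
  (Ideal.Quotient.mk (J.map (algebraMap C' A'))).toAddMonoidHom

theorem redA_smul (c : C') (a : A') : redA J (c • a) = Ideal.Quotient.mk J c • redA J a := by
  show Ideal.Quotient.mk _ (c • a) = Ideal.Quotient.mk J c • Ideal.Quotient.mk _ a
  rw [Algebra.smul_def, Algebra.smul_def, map_mul]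
  rfl

theorem redVec_mulVec {s t : ℕ} (M : Matrix (Fin s) (Fin t) A') (v : Fin t → A') :
    redVec J s (M *ᵥ v) = (M.map (Ideal.Quotient.mk (J.map (algebraMap C' A')))) *ᵥ redVec J t v := by
  funext i
  exact RingHom.map_mulVec (Ideal.Quotient.mk (J.map (algebraMap C' A'))) M v i

theorem redA_linComb {r : ℕ} (φ' : Matrix (Fin (r + 1)) (Fin r) A') (w : Fin (r + 1) → A') :
    redA J (Fintype.linearCombination A' (fvec φ') w) =
      Fintype.linearCombination (A' ⧸ J.map (algebraMap C' A'))
        (fvec (φ'.map (Ideal.Quotient.mk (J.map (algebraMap C' A'))))) (redVec J (r + 1) w) := by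
  rw [Fintype.linearCombination_apply, Fintype.linearCombination_apply]
  show Ideal.Quotient.mk _ (∑ i, w i • fvec φ' i) = _
  rw [map_sum]
  apply Finset.sum_congr rfl
  intro i _
  rw [smul_eq_mul, map_mul, fvec_map, redVec_apply, smul_eq_mul]

end

end Groth.Agent.Lib.Helper8.HB3
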