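import Mathlib
import Groth.Agent.Lib.Helper8.HB3

set_option backward.isDefEq.respectTransparency.types false
set_option autoImplicit false
set_option linter.unusedSectionVars false
set_option linter.style.haveILetI false

namespace Groth.Agent.Lib.Helper8.HB4

open Function Matrix Groth.Agent.Lib.Helper8.HB1 Groth.Agent.Lib.Helper8.HB2
  Groth.Agent.Lib.Helper8.HB3

universe u

theorem main {C' : Type u} [CommRing C'] [IsLocalRing C'] [IsArtinianRing C'] (J : Ideal C')
    (hJne : J ≠ ⊤) {A' : Type u} [CommRing A'] [Algebra C' A'] [Module.Flat C' A']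
    (r : ℕ) (φ' : Matrix (Fin (r + 1)) (Fin r) A')
    (H1 : Injective (φ'.map (Ideal.Quotient.mk (J.map (algebraMap C' A')))).mulVecLin)
    (H2 : LinearMap.range (φ'.map (Ideal.Quotient.mk (J.map (algebraMap C' A')))).mulVecLin =
      LinearMap.ker (Fintype.linearCombination (A' ⧸ J.map (algebraMap C' A'))
        (fvec (φ'.map (Ideal.Quotient.mk (J.map (algebraMap C' A')))))))
    (H3 : Module.Flat (C' ⧸ J) ((A' ⧸ J.map (algebraMap C' A')) ⧸
      Ideal.span (Set.range (fvec (φ'.map (Ideal.Quotient.mk (J.map (algebraMap C' A'))))))))  :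
    Injective φ'.mulVecLin ∧
      LinearMap.range φ'.mulVecLin =
        LinearMap.ker (Fintype.linearCombination A' (fvec φ')) ∧
      Module.Flat C' (A' ⧸ Ideal.span (Set.range (fvec φ'))) := by
  classical
  haveI := H3
  have hJle : J ≤ IsLocalRing.maximalIdeal C' := IsLocalRing.le_maximalIdeal hJne
  haveI : Nontrivial (C' ⧸ J) := Ideal.Quotient.nontrivial_iff.mpr hJne
  haveI : IsLocalRing (C' ⧸ J) :=
    IsLocalRing.of_surjective' (Ideal.Quotient.mk J) Ideal.Quotient.mk_surjective
  obtain ⟨n, hn⟩ : ∃ n : ℕ, IsLocalRing.maximalIdeal C' ^ n = ⊥ := by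
    have h := IsArtinianRing.isNilpotent_jacobson_bot (R := C')
    rw [IsLocalRing.jacobson_eq_maximalIdeal ⊥ bot_ne_top] at h
    obtain ⟨n, hn⟩ := h
    exact ⟨n, hn⟩
  haveI hAflat : Module.Flat (C' ⧸ J) (A' ⧸ J.map (algebraMap C' A')) :=
    Module.Flat.of_linearEquiv
      (Algebra.TensorProduct.quotIdealMapEquivQuotTensor A' J).toLinearEquiv
  -- notation
  set φ := φ'.map (Ideal.Quotient.mk (J.map (algebraMap C' A'))) with hφ
  set fA := fvec φ with hfA
  let lc : (Fin (r + 1) → A' ⧸ J.map (algebraMap C' A')) →ₗ[A' ⧸ J.map (algebraMap C' A')]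
      (A' ⧸ J.map (algebraMap C' A')) := Fintype.linearCombination _ fA
  let Zm : Submodule (A' ⧸ J.map (algebraMap C' A')) (A' ⧸ J.map (algebraMap C' A')) :=
    LinearMap.range lc
  have hZm : Zm = Ideal.span (Set.range fA) := Fintype.range_linearCombination _ fA
  -- first short exact sequence
  let uZ : Zm →ₗ[C' ⧸ J] (A' ⧸ J.map (algebraMap C' A')) := Zm.subtype.restrictScalars (C' ⧸ J)
  let gB : (A' ⧸ J.map (algebraMap C' A')) →ₗ[C' ⧸ J]
      ((A' ⧸ J.map (algebraMap C' A')) ⧸ Ideal.span (Set.range fA)) :=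
    (Submodule.mkQ (Ideal.span (Set.range fA))).restrictScalars (C' ⧸ J)
  have huZ : Injective uZ := Subtype.val_injective
  have hgB : Surjective gB := Submodule.mkQ_surjective _
  have hexZ : Function.Exact uZ gB := by
    intro a
    constructor
    · intro ha
      have ha' : Submodule.Quotient.mk (p := Ideal.span (Set.range fA)) a = 0 := ha
      rw [Submodule.Quotient.mk_eq_zero, ← hZm] at ha'
      exact ⟨⟨a, ha'⟩, rfl⟩
    · rintro ⟨z, rfl⟩
      show Submodule.Quotient.mk (p := Ideal.span (Set.range fA)) (z : A' ⧸ J.map (algebraMap C' A')) = 0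
      rw [Submodule.Quotient.mk_eq_zero, ← hZm]
      exact z.2
  haveI hZflat : Module.Flat (C' ⧸ J) Zm := flat_of_flat_coker uZ gB huZ hexZ hgB
  have hA2 := forall_of_flat_coker uZ (IsLocalRing.maximalIdeal (C' ⧸ J)) gB huZ hexZ hgB
  -- second short exact sequence
  let uφ : (Fin r → A' ⧸ J.map (algebraMap C' A')) →ₗ[C' ⧸ J]
      (Fin (r + 1) → A' ⧸ J.map (algebraMap C' A')) := φ.mulVecLin.restrictScalars (C' ⧸ J)
  let gφ : (Fin (r + 1) → A' ⧸ J.map (algebraMap C' A')) →ₗ[C' ⧸ J] Zm :=
    lc.rangeRestrict.restrictScalars (C' ⧸ J)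
  have hgφ : Surjective gφ := LinearMap.surjective_rangeRestrict lc
  have hexφ : Function.Exact uφ gφ := by
    intro w
    constructor
    · intro hw
      have hw' : lc w = 0 := congrArg Subtype.val hw
      have : w ∈ LinearMap.ker lc := hw'
      rw [← H2] at this
      exact this
    · rintro ⟨v, rfl⟩
      apply Subtype.ext
      show lc (φ.mulVecLin v) = 0
      have : φ.mulVecLin v ∈ LinearMap.range φ.mulVecLin := ⟨v, rfl⟩
      rw [H2] at this
      exact this
  have hA3 := forall_of_flat_coker uφ (IsLocalRing.maximalIdeal (C' ⧸ J)) gφ H1 hexφ hgφ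
  -- step B/C
  let u₁ : (Fin r → A') →ₗ[C'] (Fin (r + 1) → A') := φ'.mulVecLin.restrictScalars C'
  have hK1 : ∀ v, u₁ v ∈ IsLocalRing.maximalIdeal C' • (⊤ : Submodule C' (Fin (r + 1) → A')) →
      v ∈ IsLocalRing.maximalIdeal C' • (⊤ : Submodule C' (Fin r → A')) := by
    intro v hv
    apply transfer_up J (redVec J r) (redVec_smul J r) (redVec_surjective J r)
      (redVec_ker J hJle r) v
    apply hA3
    have h1 := transfer_down J (redVec J (r + 1)) (redVec_smul J (r + 1)) _ hv
    have h2 : redVec J (r + 1) (u₁ v) = uφ (redVec J r v) := redVec_mulVec J φ' v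
    rw [h2] at h1
    exact h1
  haveI hpi : ∀ s : ℕ, Module.Flat C' (Fin s → A') := fun s =>
    Module.Flat.of_linearEquiv
      (DFinsupp.linearEquivFunOnFintype (R := C') (M := fun _ : Fin s => A')).symm
  obtain ⟨hG1, hZ'flat⟩ := injective_and_flat_of_forall u₁ n hn hK1
  -- step D
  let lc' : (Fin (r + 1) → A') →ₗ[A'] A' := Fintype.linearCombination A' (fvec φ')
  have hle : LinearMap.range u₁ ≤ LinearMap.ker (lc'.restrictScalars C') := by
    rintro _ ⟨v, rfl⟩
    exact linComb_mulVec φ' v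
  let u₂ : ((Fin (r + 1) → A') ⧸ LinearMap.range u₁) →ₗ[C'] A' :=
    (LinearMap.range u₁).liftQ (lc'.restrictScalars C') hle
  have hu₂ : ∀ w, u₂ (Submodule.Quotient.mk w) = lc' w := fun w => rfl
  have hK2 : ∀ z, u₂ z ∈ IsLocalRing.maximalIdeal C' • (⊤ : Submodule C' A') →
      z ∈ IsLocalRing.maximalIdeal C' •
        (⊤ : Submodule C' ((Fin (r + 1) → A') ⧸ LinearMap.range u₁)) := by
    intro z hz
    obtain ⟨w', rfl⟩ := Submodule.Quotient.mk_surjective _ z
    rw [hu₂] at hz
    have h1 := transfer_down J (redA J) (redA_smul J) _ hz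
    rw [redA_linComb] at h1
    -- the element of Zm
    have h2 : gφ (redVec J (r + 1) w') ∈
        IsLocalRing.maximalIdeal (C' ⧸ J) • (⊤ : Submodule (C' ⧸ J) Zm) := hA2 _ h1
    have h3 : IsLocalRing.maximalIdeal (C' ⧸ J) • (⊤ : Submodule (C' ⧸ J) Zm) =
        Submodule.map gφ (IsLocalRing.maximalIdeal (C' ⧸ J) •
          (⊤ : Submodule (C' ⧸ J) (Fin (r + 1) → A' ⧸ J.map (algebraMap C' A')))) := by
      rw [Submodule.map_smul'', Submodule.map_top, LinearMap.range_eq_top.mpr hgφ]
    rw [h3] at h2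
    obtain ⟨y, hy, hgy⟩ := h2
    have h4 : redVec J (r + 1) w' - y ∈ LinearMap.ker lc := by
      have : gφ (redVec J (r + 1) w' - y) = 0 := by rw [map_sub, hgy, sub_self]
      exact congrArg Subtype.val this
    rw [← H2] at h4
    obtain ⟨tb, htb⟩ := h4
    obtain ⟨t', rfl⟩ := redVec_surjective J r tb
    have h5 : redVec J (r + 1) (w' - φ' *ᵥ t') = y := by
      rw [map_sub, redVec_mulVec]
      have : φ.mulVecLin (redVec J r t') = φ *ᵥ redVec J r t' := rfl
      rw [← this, htb]
      abel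
    have h6 : w' - φ' *ᵥ t' ∈
        IsLocalRing.maximalIdeal C' • (⊤ : Submodule C' (Fin (r + 1) → A')) :=
      transfer_up J (redVec J (r + 1)) (redVec_smul J (r + 1)) (redVec_surjective J (r + 1))
        (redVec_ker J hJle (r + 1)) _ (h5 ▸ hy)
    have h7 : (Submodule.Quotient.mk w' : (Fin (r + 1) → A') ⧸ LinearMap.range u₁) =
        Submodule.Quotient.mk (w' - φ' *ᵥ t') := by
      rw [eq_comm, Submodule.Quotient.eq]
      have : w' - φ' *ᵥ t' - w' = - (u₁ t') := by
        show w' - φ' *ᵥ t' - w' = - (φ' *ᵥ t')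
        abel
      rw [this]
      exact Submodule.neg_mem _ ⟨t', rfl⟩
    rw [h7]
    have h8 : (LinearMap.range u₁).mkQ (w' - φ' *ᵥ t') ∈ Submodule.map (LinearMap.range u₁).mkQ
        (IsLocalRing.maximalIdeal C' • (⊤ : Submodule C' (Fin (r + 1) → A'))) :=
      Submodule.mem_map_of_mem h6
    rw [Submodule.map_smul''] at h8
    exact Submodule.smul_mono le_rfl le_top h8
  obtain ⟨hinj₂, hflat₂⟩ := injective_and_flat_of_forall u₂ n hn hK2
  refine ⟨hG1, ?_, ?_⟩
  · apply le_antisymm
    · rintro _ ⟨v, rfl⟩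
      exact linComb_mulVec φ' v
    · intro w' hw'
      have h1 : u₂ (Submodule.Quotient.mk w') = 0 := hw'
      have h2 : (Submodule.Quotient.mk w' : (Fin (r + 1) → A') ⧸ LinearMap.range u₁) = 0 :=
        hinj₂ (by rw [h1, map_zero])
      rw [Submodule.Quotient.mk_eq_zero] at h2
      obtain ⟨v, hv⟩ := h2
      exact ⟨v, hv⟩
  · have heq : LinearMap.range u₂ =
        (Ideal.span (Set.range (fvec φ')) : Submodule A' A').restrictScalars C' := by
      ext a
      rw [Submodule.restrictScalars_mem]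
      have hspan : (Ideal.span (Set.range (fvec φ')) : Submodule A' A') = LinearMap.range lc' :=
        (Fintype.range_linearCombination A' (fvec φ')).symm
      rw [hspan]
      constructor
      · rintro ⟨z, rfl⟩
        obtain ⟨w', rfl⟩ := Submodule.Quotient.mk_surjective _ z
        exact ⟨w', rfl⟩
      · rintro ⟨w', rfl⟩
        exact ⟨Submodule.Quotient.mk w', rfl⟩
    exact Module.Flat.of_linearEquiv
      ((Submodule.Quotient.restrictScalarsEquiv C' (Ideal.span (Set.range (fvec φ')))).symm ≪≫ₗ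
        Submodule.quotEquivOfEq _ _ heq.symm)

end Groth.Agent.Lib.Helper8.HB4
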