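import Mathlib
import Groth.Agent.Lib.Helper8.HB4
import Groth.Agent.Lib.Helper1.FlatLift2

set_option backward.isDefEq.respectTransparency.types false
set_option autoImplicit false
set_option linter.unusedSectionVars false
set_option linter.style.haveILetI false

namespace Groth.Agent.Lib.Helper8.HB5

open Function Matrix Groth.Agent.Lib.Helper8.HB1 Groth.Agent.Lib.Helper8.HB2
  Groth.Agent.Lib.Helper8.HB3

universe u

section flatlift

variable {C' : Type u} [CommRing C'] (J : Ideal C') {A' : Type u} [CommRing A'] [Algebra C' A']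

/-- `I' ∩ J A' ≤ J A' · I'` when `A' ⧸ I'` is flat -/
theorem inter_le (I' : Ideal A') [Module.Flat C' (A' ⧸ I')] (y : A') (hy : y ∈ I')
    (hyJ : y ∈ J.map (algebraMap C' A')) : y ∈ J.map (algebraMap C' A') * I' := by
  obtain ⟨z, rfl⟩ := Groth.Agent.Lib.Helper1.FlatLift.exists_mu_eq J A' y hyJ
  have h1 : (Ideal.Quotient.mkₐ C' I').toLinearMap.rTensor ↥J z = 0 := by
    apply Groth.Agent.Lib.Helper1.FlatLift.mu_injective J (A' ⧸ I')
    rw [Groth.Agent.Lib.Helper1.FlatLift.mu_natural, map_zero]
    exact Ideal.Quotient.eq_zero_iff_mem.2 hy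
  have h2 := Groth.Agent.Lib.Helper1.FlatLift.eq_zero_of_rTensor_eq_zero J
    (Ideal.Quotient.mkₐ C' I') (Ideal.Quotient.mkₐ_surjective C' I')
    ((Ideal.Quotient.mkₐ C' (J.map (algebraMap C' A') * I')).toLinearMap ∘ₗ
      Groth.Agent.Lib.Helper1.FlatLift.mu J A')
    (by
      intro x hx j
      change Ideal.Quotient.mk _ (Groth.Agent.Lib.Helper1.FlatLift.mu J A' (x ⊗ₜ j)) = 0
      rw [Groth.Agent.Lib.Helper1.FlatLift.mu_tmul, Ideal.Quotient.eq_zero_iff_mem, Algebra.smul_def]
      exact Ideal.mul_mem_mul (Ideal.mem_map_of_mem _ j.2) (Ideal.Quotient.eq_zero_iff_mem.1 hx))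
    z h1
  exact Ideal.Quotient.eq_zero_iff_mem.1 h2

/-- two nested ideals with flat quotient (the larger) and the same reduction agree -/
theorem le_of_le_of_map_eq (hJ2 : J * J = ⊥) (I' I'' : Ideal A') [Module.Flat C' (A' ⧸ I'')]
    (hle : I' ≤ I'')
    (hmap : I''.map (Ideal.Quotient.mk (J.map (algebraMap C' A'))) =
      I'.map (Ideal.Quotient.mk (J.map (algebraMap C' A')))) : I'' ≤ I' := by
  have hstep : I'' ≤ I' ⊔ J.map (algebraMap C' A') * I'' := by
    intro z hz
    have h1 : Ideal.Quotient.mk (J.map (algebraMap C' A')) z ∈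
        I'.map (Ideal.Quotient.mk (J.map (algebraMap C' A'))) := by
      rw [← hmap]
      exact Ideal.mem_map_of_mem _ hz
    obtain ⟨y, hy, e⟩ := (Ideal.mem_map_iff_of_surjective _ Ideal.Quotient.mk_surjective).1 h1
    have hd : z - y ∈ J.map (algebraMap C' A') := Ideal.Quotient.eq.mp e.symm
    have hd' : z - y ∈ J.map (algebraMap C' A') * I'' :=
      inter_le J I'' _ (I''.sub_mem hz (hle hy)) hd
    have : z = y + (z - y) := by ring
    rw [this]
    exact Ideal.add_mem _ (Ideal.mem_sup_left hy) (Ideal.mem_sup_right hd')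
  have hJJ : J.map (algebraMap C' A') * J.map (algebraMap C' A') = ⊥ := by
    rw [← Ideal.map_mul, hJ2, Ideal.map_bot]
  calc I'' ≤ I' ⊔ J.map (algebraMap C' A') * I'' := hstep
    _ ≤ I' ⊔ J.map (algebraMap C' A') * (I' ⊔ J.map (algebraMap C' A') * I'') :=
        sup_le_sup_left (Ideal.mul_mono_right hstep) _
    _ ≤ I' := by
        rw [Ideal.mul_sup, ← mul_assoc, hJJ, Ideal.bot_mul, sup_bot_eq]
        exact sup_le le_rfl Ideal.mul_le_right

/-- generators of the reduction lift to generators -/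
theorem exists_generators_lift (hJ2 : J * J = ⊥) {s : ℕ}
    (a : Fin s → A' ⧸ J.map (algebraMap C' A')) (I' : Ideal A') [Module.Flat C' (A' ⧸ I')]
    (hI' : I'.map (Ideal.Quotient.mk (J.map (algebraMap C' A'))) = Ideal.span (Set.range a)) :
    ∃ g : Fin s → A', (∀ i, Ideal.Quotient.mk (J.map (algebraMap C' A')) (g i) = a i) ∧
      I' = Ideal.span (Set.range g) := by
  have hlift : ∀ i, ∃ x ∈ I', Ideal.Quotient.mk (J.map (algebraMap C' A')) x = a i := by
    intro i
    have h1 : a i ∈ I'.map (Ideal.Quotient.mk (J.map (algebraMap C' A'))) := by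
      rw [hI']; exact Ideal.subset_span ⟨i, rfl⟩
    exact (Ideal.mem_map_iff_of_surjective _ Ideal.Quotient.mk_surjective).1 h1
  choose g hgmem hg using hlift
  refine ⟨g, hg, ?_⟩
  have hle : Ideal.span (Set.range g) ≤ I' := by
    rw [Ideal.span_le]
    rintro _ ⟨i, rfl⟩
    exact hgmem i
  have hmap : (Ideal.span (Set.range g)).map (Ideal.Quotient.mk (J.map (algebraMap C' A'))) =
      Ideal.span (Set.range a) := by
    rw [Ideal.map_span]
    congr 1
    ext x
    constructor
    · rintro ⟨_, ⟨i, rfl⟩, rfl⟩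
      exact ⟨i, (hg i).symm⟩
    · rintro ⟨i, rfl⟩
      exact ⟨g i, ⟨i, rfl⟩, hg i⟩
  exact le_antisymm (le_of_le_of_map_eq J hJ2 _ I' hle (hI'.trans hmap.symm)) hle

end flatlift

section theta

variable {R : Type u} [CommRing R] {s : ℕ} (f g : Fin s → R)
  (hker : ∀ w : Fin s → R, ∑ i, w i * f i = 0 → ∑ i, w i * g i = 0)

include hker in
theorem cross (i k : Fin s) : f k * g i = f i * g k := by
  classical
  have h := hker (fun l => (if l = i then f k else 0) - (if l = k then f i else 0)) (by
    simp only [sub_mul, Finset.sum_sub_distrib, ite_mul, zero_mul, Finset.sum_ite_eq',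
      Finset.mem_univ, if_true]
    ring)
  simp only [sub_mul, Finset.sum_sub_distrib, ite_mul, zero_mul, Finset.sum_ite_eq',
    Finset.mem_univ, if_true] at h
  exact sub_eq_zero.mp h

include hker in
theorem star (c : Fin s → R) (k : Fin s) :
    (∑ i, c i * f i) * g k = f k * ∑ i, c i * g i := by
  rw [Finset.sum_mul, Finset.mul_sum]
  apply Finset.sum_congr rfl
  intro i _
  have := cross f g hker i k
  calc c i * f i * g k = c i * (f i * g k) := by ring
    _ = c i * (f k * g i) := by rw [this]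
    _ = f k * (c i * g i) := by ring

include hker in
theorem exists_mul_of_top (htop : Ideal.span (Set.range f) = ⊤) : ∃ a, ∀ k, g k = a * f k := by
  have h1 : (1 : R) ∈ Ideal.span (Set.range f) := htop ▸ Submodule.mem_top
  obtain ⟨c, hc⟩ := (Ideal.mem_span_range_iff_exists_fun).mp h1
  refine ⟨∑ i, c i * g i, fun k => ?_⟩
  have := star f g hker c k
  rw [hc, one_mul] at this
  rw [this, mul_comm]

include hker in
theorem exists_mul_of_regular (x y : R) (hx : x ∈ Ideal.span (Set.range f))
    (hy : y ∈ Ideal.span (Set.range f))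
    (hreg : RingTheory.Sequence.IsWeaklyRegular R [x, y]) : ∃ a, ∀ k, g k = a * f k := by
  obtain ⟨c, hc⟩ := (Ideal.mem_span_range_iff_exists_fun).mp hx
  obtain ⟨d, hd⟩ := (Ideal.mem_span_range_iff_exists_fun).mp hy
  rw [RingTheory.Sequence.isWeaklyRegular_cons_iff, RingTheory.Sequence.isWeaklyRegular_cons_iff]
    at hreg
  obtain ⟨hxreg, hyreg, -⟩ := hreg
  set tx := ∑ i, c i * g i with htx
  set ty := ∑ i, d i * g i with hty
  have h1 : y * tx = x * ty := by
    rw [htx, Finset.mul_sum]
    have : ∀ i, y * (c i * g i) = c i * f i * ty := by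
      intro i
      have := star f g hker d i
      rw [hd] at this
      calc y * (c i * g i) = c i * (y * g i) := by ring
        _ = c i * (f i * ty) := by rw [this]
        _ = c i * f i * ty := by ring
    simp only [this]
    rw [← Finset.sum_mul, hc]
  -- `tx ∈ (x)`
  have h2 : ∃ a, tx = x * a := by
    have h3 : y • (Submodule.Quotient.mk tx : QuotSMulTop x R) = y • 0 := by
      rw [smul_zero, ← Submodule.Quotient.mk_smul, Submodule.Quotient.mk_eq_zero, smul_eq_mul, h1]
      exact Submodule.smul_mem_pointwise_smul _ _ _ Submodule.mem_top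
    have h4 := hyreg h3
    rw [Submodule.Quotient.mk_eq_zero] at h4
    obtain ⟨b, -, hb⟩ := (Submodule.mem_smul_pointwise_iff_exists _ _ _).mp h4
    exact ⟨b, hb.symm⟩
  obtain ⟨a, ha⟩ := h2
  refine ⟨a, fun k => ?_⟩
  have h5 := star f g hker c k
  rw [hc, ← htx, ha] at h5
  have h6 : x • (g k) = x • (a * f k) := by
    rw [smul_eq_mul, smul_eq_mul, h5]; ring
  exact hxreg h6

end theta

end Groth.Agent.Lib.Helper8.HB5
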