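import Mathlib
import Groth.Agent.Lib.Helper8.HB6

set_option backward.isDefEq.respectTransparency.types false
set_option autoImplicit false
set_option linter.unusedSectionVars false
set_option linter.style.haveILetI false

namespace Groth.Agent.Lib.Helper8.HB7

open Function Matrix Groth.Agent.Lib.Helper8.HB1 Groth.Agent.Lib.Helper8.HB2
  Groth.Agent.Lib.Helper8.HB3 Groth.Agent.Lib.Helper8.HB5 Groth.Agent.Lib.Helper8.HB6
  Groth.Agent.Lib.Helper16.Depth

universe u

section flatlift

variable {C' : Type u} [CommRing C'] (J : Ideal C') {A' : Type u} [CommRing A'] [Algebra C' A']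

/-- two nested ideals with flat quotient (the larger) and the same reduction modulo a nilpotent
ideal agree -/
theorem le_of_le_of_map_eq' (n : ℕ) (hJn : J ^ n = ⊥) (I' I'' : Ideal A')
    [Module.Flat C' (A' ⧸ I'')] (hle : I' ≤ I'')
    (hmap : I''.map (Ideal.Quotient.mk (J.map (algebraMap C' A'))) =
      I'.map (Ideal.Quotient.mk (J.map (algebraMap C' A')))) : I'' ≤ I' := by
  have hstep : I'' ≤ I' ⊔ J.map (algebraMap C' A') * I'' := by
    intro z hz
    have h1 : Ideal.Quotient.mk (J.map (algebraMap C' A')) z ∈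
        I'.map (Ideal.Quotient.mk (J.map (algebraMap C' A'))) := by
      rw [← hmap]
      exact Ideal.mem_map_of_mem _ hz
    obtain ⟨y, hy, e⟩ := (Ideal.mem_map_iff_of_surjective _ Ideal.Quotient.mk_surjective).1 h1
    have hd : z - y ∈ J.map (algebraMap C' A') := Ideal.Quotient.eq.mp e.symm
    have hd' : z - y ∈ J.map (algebraMap C' A') * I'' :=
      inter_le J I'' _ (I''.sub_mem hz (hle hy)) hd
    have : z = y + (z - y) := by ring
    rw [this]
    exact Ideal.add_mem _ (Ideal.mem_sup_left hy) (Ideal.mem_sup_right hd')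
  have hpow : ∀ k : ℕ, I'' ≤ I' ⊔ (J.map (algebraMap C' A')) ^ k * I'' := by
    intro k
    induction k with
    | zero =>
      rw [pow_zero, one_mul]
      exact le_sup_right
    | succ k ih =>
      calc I'' ≤ I' ⊔ J.map (algebraMap C' A') * I'' := hstep
        _ ≤ I' ⊔ J.map (algebraMap C' A') * (I' ⊔ (J.map (algebraMap C' A')) ^ k * I'') :=
            sup_le_sup_left (Ideal.mul_mono_right ih) _
        _ ≤ I' ⊔ (J.map (algebraMap C' A')) ^ (k + 1) * I'' := by
            rw [Ideal.mul_sup, ← mul_assoc, ← pow_succ']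
            exact sup_le le_sup_left (sup_le (le_sup_of_le_left Ideal.mul_le_right) le_sup_right)
  have hK : (J.map (algebraMap C' A')) ^ n = ⊥ := by
    rw [← Ideal.map_pow, hJn, Ideal.map_bot]
  have := hpow n
  rwa [hK, Ideal.bot_mul, sup_bot_eq] at this

/-- generators of the reduction lift to generators -/
theorem exists_generators_lift' (n : ℕ) (hJn : J ^ n = ⊥) {s : ℕ}
    (a : Fin s → A' ⧸ J.map (algebraMap C' A')) (I' : Ideal A') [Module.Flat C' (A' ⧸ I')]
    (hI' : I'.map (Ideal.Quotient.mk (J.map (algebraMap C' A'))) = Ideal.span (Set.range a)) :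
    ∃ g : Fin s → A', (∀ i, Ideal.Quotient.mk (J.map (algebraMap C' A')) (g i) = a i) ∧
      I' = Ideal.span (Set.range g) := by
  have hlift : ∀ i, ∃ x ∈ I', Ideal.Quotient.mk (J.map (algebraMap C' A')) x = a i := by
    intro i
    have h1 : a i ∈ I'.map (Ideal.Quotient.mk (J.map (algebraMap C' A'))) := by
      rw [hI']; exact Ideal.subset_span ⟨i, rfl⟩
    exact (Ideal.mem_map_iff_of_surjective _ Ideal.Quotient.mk_surjective).1 h1
  choose g hgmem hg using hlift
  refine ⟨g, hg, ?_⟩
  have hle : Ideal.span (Set.range g) ≤ I' := by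
    rw [Ideal.span_le]
    rintro _ ⟨i, rfl⟩
    exact hgmem i
  have hmap : (Ideal.span (Set.range g)).map (Ideal.Quotient.mk (J.map (algebraMap C' A'))) =
      Ideal.span (Set.range a) := by
    rw [Ideal.map_span]
    congr 1
    ext x
    constructor
    · rintro ⟨_, ⟨i, rfl⟩, rfl⟩
      exact ⟨i, (hg i).symm⟩
    · rintro ⟨i, rfl⟩
      exact ⟨g i, ⟨i, rfl⟩, hg i⟩
  exact le_antisymm (le_of_le_of_map_eq' J n hJn _ I' hle (hI'.trans hmap.symm)) hle

end flatlift

theorem main459' (C' : Type u) [CommRing C'] [IsLocalRing C'] [IsArtinianRing C'] (J : Ideal C')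
    (hJne : J ≠ ⊤) (A' : Type u) [CommRing A']
    [Algebra C' A'] [Module.Flat C' A'] [Algebra.FiniteType C' A']
    (r : ℕ) (φ : Matrix (Fin (r + 1)) (Fin r) (A' ⧸ J.map (algebraMap C' A')))
    (hφ : Function.Injective φ.mulVecLin ∧
      LinearMap.range φ.mulVecLin =
        LinearMap.ker (Fintype.linearCombination (A' ⧸ J.map (algebraMap C' A')) (fvec φ)))
    (H3 : Module.Flat (C' ⧸ J) ((A' ⧸ J.map (algebraMap C' A')) ⧸
      Ideal.span (Set.range (fvec φ))))
    (I' : Ideal A') [Module.Flat C' (A' ⧸ I')]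
    (hI' : I'.map (Ideal.Quotient.mk (J.map (algebraMap C' A'))) =
      Ideal.span (Set.range (fvec φ))) :
    ∃ φ' : Matrix (Fin (r + 1)) (Fin r) A',
      φ'.map (Ideal.Quotient.mk (J.map (algebraMap C' A'))) = φ ∧
      I' = Ideal.span (Set.range (fvec φ')) := by
  classical
  have hJle : J ≤ IsLocalRing.maximalIdeal C' := IsLocalRing.le_maximalIdeal hJne
  obtain ⟨n, hn⟩ : ∃ n : ℕ, IsLocalRing.maximalIdeal C' ^ n = ⊥ := by
    have h := IsArtinianRing.isNilpotent_jacobson_bot (R := C')
    rw [IsLocalRing.jacobson_eq_maximalIdeal ⊥ bot_ne_top] at h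
    obtain ⟨n, hn⟩ := h
    exact ⟨n, hn⟩
  have hJn : J ^ n = ⊥ := le_bot_iff.mp ((Ideal.pow_right_mono hJle n).trans hn.le)
  haveI : IsNoetherianRing A' := Algebra.FiniteType.isNoetherianRing C' A'
  choose ψ hψ using fun i j => Ideal.Quotient.mk_surjective (φ i j)
  rcases subsingleton_or_nontrivial A' with hsub | hnt
  · refine ⟨Matrix.of ψ, ?_, ?_⟩
    · ext i j
      exact hψ i j
    · ext x
      have hx : x = 0 := Subsingleton.elim _ _
      rw [hx]
      exact ⟨fun _ => Ideal.zero_mem _, fun _ => Ideal.zero_mem _⟩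
  obtain ⟨g, hg, hI'g⟩ := exists_generators_lift' J n hJn (fvec φ) I' hI'
  have hgmem : ∀ i, g i ∈ I' := fun i => hI'g ▸ Ideal.subset_span ⟨i, rfl⟩
  -- lifting the relations
  have hrel : ∀ j : Fin r, ∃ δ : Fin (r + 1) → A', (∀ i, δ i ∈ J.map (algebraMap C' A')) ∧
      ∑ i, δ i * g i = ∑ i, g i * ψ i j := by
    intro j
    have h1 : ∑ i, g i * ψ i j ∈ I' :=
      Ideal.sum_mem _ fun i _ => Ideal.mul_mem_right _ _ (hgmem i)
    have h2 : ∑ i, g i * ψ i j ∈ J.map (algebraMap C' A') := by
      rw [← Ideal.Quotient.eq_zero_iff_mem, map_sum]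
      have : ∀ i, Ideal.Quotient.mk (J.map (algebraMap C' A')) (g i * ψ i j) =
          fvec φ i * φ i j := fun i => by rw [map_mul, hg, hψ]
      simp only [this]
      exact fvec_mul φ j
    have h3 := inter_le J I' _ h1 h2
    rw [hI'g] at h3
    exact exists_coeff _ g _ h3
  choose δ hδmem hδ using hrel
  let φ'' : Matrix (Fin (r + 1)) (Fin r) A' := Matrix.of fun i j => ψ i j - δ j i
  have hmapφ : φ''.map (Ideal.Quotient.mk (J.map (algebraMap C' A'))) = φ := by
    ext i j
    show Ideal.Quotient.mk _ (ψ i j - δ j i) = φ i j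
    rw [map_sub, hψ, Ideal.Quotient.eq_zero_iff_mem.mpr (hδmem j i), sub_zero]
  have hgφ : ∀ j, ∑ i, g i * φ'' i j = 0 := by
    intro j
    show ∑ i, g i * (ψ i j - δ j i) = 0
    simp only [mul_sub, Finset.sum_sub_distrib]
    rw [← hδ j, sub_eq_zero]
    apply Finset.sum_congr rfl
    intro i _
    ring
  refine ⟨φ'', hmapφ, ?_⟩
  subst hmapφ
  obtain ⟨hinj, hrange, hflat⟩ := Groth.Agent.Lib.Helper8.HB4.main J hJne r φ'' hφ.1 hφ.2 H3
  haveI := hflat
  -- the kernel property
  have hker : ∀ w : Fin (r + 1) → A', ∑ i, w i * fvec φ'' i = 0 → ∑ i, w i * g i = 0 := by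
    intro w hw
    have h1 : w ∈ LinearMap.ker (Fintype.linearCombination A' (fvec φ'')) := by
      rw [LinearMap.mem_ker, Fintype.linearCombination_apply]
      simpa only [smul_eq_mul] using hw
    rw [← hrange] at h1
    obtain ⟨v, rfl⟩ := h1
    show ∑ i, (φ'' *ᵥ v) i * g i = 0
    simp only [Matrix.mulVec, dotProduct, Finset.sum_mul]
    rw [Finset.sum_comm]
    apply Finset.sum_eq_zero
    intro j _
    calc ∑ i, φ'' i j * v j * g i = v j * ∑ i, g i * φ'' i j := by
          rw [Finset.mul_sum]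
          apply Finset.sum_congr rfl
          intro i _
          ring
      _ = 0 := by rw [hgφ j, mul_zero]
  -- depth
  have hne : LinearMap.range (Fintype.linearCombination A' (fvec φ'')) ≠ ⊥ := by
    intro h0
    have h1 : LinearMap.ker (Fintype.linearCombination A' (fvec φ'')) = ⊤ := by
      rw [LinearMap.ker_eq_top]
      exact LinearMap.range_eq_bot.mp h0
    rw [← hrange, LinearMap.range_eq_top] at h1
    have := card_le_of_surjective A' φ''.mulVecLin h1
    simp at this
  have hdepth := (Groth.Agent.S12907.result r (r + 1) φ''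
    (Fintype.linearCombination A' (fvec φ'')) (LinearMap.ker_eq_bot.mpr hinj) hrange.symm hne).2.2
  have hspan := span_fvec_eq_minorIdeal r φ'' hdepth
  have hexa : ∃ a, ∀ k, g k = a * fvec φ'' k := by
    rcases (le_idealDepth_iff (CAlgX.minorIdeal φ'' r) A' 2).mp hdepth with htop | ⟨rs, hlen, hreg, hmem⟩
    · apply exists_mul_of_top (fvec φ'') g hker
      rw [hspan]
      rw [smul_eq_mul, Ideal.mul_top] at htop
      exact htop
    · obtain ⟨x, y, rfl⟩ := List.length_eq_two.mp hlen
      apply exists_mul_of_regular (fvec φ'') g hker x y _ _ hreg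
      · rw [hspan]; exact hmem x (by simp)
      · rw [hspan]; exact hmem y (by simp)
  obtain ⟨a, ha⟩ := hexa
  have hle : I' ≤ Ideal.span (Set.range (fvec φ'')) := by
    rw [hI'g, Ideal.span_le]
    rintro _ ⟨k, rfl⟩
    rw [ha k]
    exact Ideal.mul_mem_left _ _ (Ideal.subset_span ⟨k, rfl⟩)
  have hmap : (Ideal.span (Set.range (fvec φ''))).map
      (Ideal.Quotient.mk (J.map (algebraMap C' A'))) =
      I'.map (Ideal.Quotient.mk (J.map (algebraMap C' A'))) := by
    rw [hI', Ideal.map_span]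
    congr 1
    ext x
    constructor
    · rintro ⟨_, ⟨i, rfl⟩, rfl⟩
      exact ⟨i, fvec_map φ'' _ i⟩
    · rintro ⟨i, rfl⟩
      exact ⟨fvec φ'' i, ⟨i, rfl⟩, (fvec_map φ'' _ i).symm⟩
  exact le_antisymm hle (le_of_le_of_map_eq' J n hJn I' _ hle hmap)


end Groth.Agent.Lib.Helper8.HB7
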