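import Mathlib
import Groth.Agent.Lib.Helper8.HB7

set_option backward.isDefEq.respectTransparency.types false
set_option autoImplicit false
set_option linter.unusedSectionVars false
set_option linter.style.haveILetI false

namespace Groth.Agent.Lib.Helper8.HB8

open Function Matrix Groth.Agent.Lib.Helper8.HB2

universe u

theorem main458 (C : Type u) [CommRing C] [IsLocalRing C] [IsArtinianRing C] (A : Type u)
    [CommRing A] [Algebra C A] [Module.Flat C A] [Algebra.FiniteType C A]
    (I : Ideal A) [Module.Flat C (A ⧸ I)] (r : ℕ)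
    (φ₀ : Matrix (Fin (r + 1)) (Fin r) (A ⧸ (IsLocalRing.maximalIdeal C).map (algebraMap C A)))
    (h₀ : Ideal.span (Set.range (fvec φ₀)) =
        I.map (Ideal.Quotient.mk ((IsLocalRing.maximalIdeal C).map (algebraMap C A))) ∧
      Function.Injective φ₀.mulVecLin ∧
      LinearMap.range φ₀.mulVecLin = LinearMap.ker (Fintype.linearCombination
        (A ⧸ (IsLocalRing.maximalIdeal C).map (algebraMap C A)) (fvec φ₀))) :
    ∃ φ : Matrix (Fin (r + 1)) (Fin r) A, Ideal.span (Set.range (fvec φ)) = I ∧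
      Function.Injective φ.mulVecLin ∧
      LinearMap.range φ.mulVecLin = LinearMap.ker (Fintype.linearCombination A (fvec φ)) := by
  have hm : IsLocalRing.maximalIdeal C ≠ ⊤ := Ideal.IsPrime.ne_top inferInstance
  have H3 : Module.Flat (C ⧸ IsLocalRing.maximalIdeal C)
      ((A ⧸ (IsLocalRing.maximalIdeal C).map (algebraMap C A)) ⧸
        Ideal.span (Set.range (fvec φ₀))) := by
    letI := Ideal.Quotient.field (IsLocalRing.maximalIdeal C)
    infer_instance
  obtain ⟨φ, hφ, hI⟩ := Groth.Agent.Lib.Helper8.HB7.main459' C (IsLocalRing.maximalIdeal C) hm A r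
    φ₀ ⟨h₀.2.1, h₀.2.2⟩ H3 I h₀.1.symm
  subst hφ
  obtain ⟨h1, h2, -⟩ := Groth.Agent.Lib.Helper8.HB4.main (IsLocalRing.maximalIdeal C) hm r φ
    h₀.2.1 h₀.2.2 H3
  exact ⟨φ, hI.symm, h1, h2⟩

end Groth.Agent.Lib.Helper8.HB8
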