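import Mathlib
import Groth.Prelude.Def_Hensel
import Groth.Prelude.Def_EssEt
import Groth.Agent.Lib.Helper8.AA15
import Groth.Agent.Lib.Helper8.AA10
import Groth.Agent.Lib.Helper4.EtNbhd1
import Groth.Agent.Lib.Helper4.EtNbhd2
import Groth.Agent.Lib.Helper23.CompleteGRing

set_option backward.isDefEq.respectTransparency.types false
set_option synthInstance.maxHeartbeats 400000
set_option autoImplicit false
set_option linter.unusedSectionVars false
set_option linter.style.haveILetI false

namespace Groth.Agent.Lib.Helper8.HQ1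

universe u

open IsLocalRing

/-- henselizations are unique. -/
theorem hens_unique (B S₁ S₂ : Type u) [CommRing B] [IsLocalRing B]
    [CommRing S₁] [IsLocalRing S₁] [Algebra B S₁] [IsLocalHom (algebraMap B S₁)]
    [h₁ : Hensel.IsHenselization B S₁]
    [CommRing S₂] [IsLocalRing S₂] [Algebra B S₂] [IsLocalHom (algebraMap B S₂)]
    [h₂ : Hensel.IsHenselization B S₂] :
    ∃ e : S₁ ≃+* S₂, ∀ b, e (algebraMap B S₁ b) = algebraMap B S₂ b := by
  haveI := h₁.henselian
  haveI := h₂.henselian
  obtain ⟨g₁₂, hg₁₂, -⟩ := h₁.universal S₂ (algebraMap B S₂) inferInstance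
  obtain ⟨g₂₁, hg₂₁, -⟩ := h₂.universal S₁ (algebraMap B S₁) inferInstance
  have e1 : g₂₁.comp g₁₂ = RingHom.id S₁ := by
    apply (h₁.universal S₁ (algebraMap B S₁) inferInstance).unique
    · rw [RingHom.comp_assoc, hg₁₂, hg₂₁]
    · rfl
  have e2 : g₁₂.comp g₂₁ = RingHom.id S₂ := by
    apply (h₂.universal S₂ (algebraMap B S₂) inferInstance).unique
    · rw [RingHom.comp_assoc, hg₂₁, hg₁₂]
    · rfl
  refine ⟨RingEquiv.ofRingHom g₁₂ g₂₁ e2 e1, fun b => ?_⟩
  exact DFunLike.congr_fun hg₁₂ b

/-- a local essentially finite type algebra is a local ring of a finite type algebra. -/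
theorem exists_atPrime_presentation (k O : Type u) [CommRing k] [CommRing O] [IsLocalRing O]
    [Algebra k O] [Algebra.EssFiniteType k O] :
    ∃ (A : Type u) (_ : CommRing A) (_ : Algebra k A) (_ : Algebra.FiniteType k A)
      (𝔭 : Ideal A) (_ : 𝔭.IsPrime) (_ : Algebra A O) (_ : IsScalarTower k A O),
      IsLocalization.AtPrime O 𝔭 := by
  let A := Algebra.EssFiniteType.subalgebra k O
  let 𝔭 : Ideal A := (maximalIdeal O).comap (algebraMap A O)
  haveI h𝔭 : 𝔭.IsPrime := Ideal.comap_isPrime _ _
  refine ⟨A, inferInstance, inferInstance, inferInstance, 𝔭, h𝔭, inferInstance, inferInstance, ?_⟩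
  refine IsLocalization.of_le (Algebra.EssFiniteType.submonoid k O) 𝔭.primeCompl ?_ ?_
  · intro m hm hm𝔭
    have h1 : IsUnit (algebraMap A O m) :=
      IsLocalization.map_units O (⟨m, hm⟩ : Algebra.EssFiniteType.submonoid k O)
    exact (mem_maximalIdeal _).mp hm𝔭 h1
  · intro r hr
    by_contra h
    exact hr ((mem_maximalIdeal _).mpr h)

/-- the local ring of an étale algebra at a prime with trivial residue field extension is strictly
essentially étale over the local ring below. -/
theorem strict_of_localizations (R₀ E : Type u) [CommRing R₀] [CommRing E] [Algebra R₀ E]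
    [Algebra.Etale R₀ E] (p : Ideal R₀) [p.IsPrime] (q : Ideal E) [q.IsPrime]
    (hcomap : q.comap (algebraMap R₀ E) = p)
    (htriv : ∀ x : E, ∃ r s : R₀, s ∉ p ∧ algebraMap R₀ E s * x - algebraMap R₀ E r ∈ q)
    (A : Type u) [CommRing A] [IsLocalRing A] [Algebra R₀ A] [IsLocalization.AtPrime A p]
    (B : Type u) [CommRing B] [IsLocalRing B] [Algebra E B] [IsLocalization.AtPrime B q] :
    ∃ (_ : Algebra A B) (_ : IsLocalHom (algebraMap A B)),
      (∀ r : R₀, algebraMap A B (algebraMap R₀ A r) = algebraMap E B (algebraMap R₀ E r)) ∧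
      EGA4loc.IsStrictlyEssentiallyEtale A B := by
  have hmem : ∀ r : R₀, algebraMap R₀ E r ∈ q ↔ r ∈ p := by
    intro r; rw [← hcomap]; rfl
  have hle : p.primeCompl ≤ q.primeCompl.comap (algebraMap R₀ E) := by
    intro s hs
    show algebraMap R₀ E s ∉ q
    rw [hmem]; exact hs
  let f : A →+* B := IsLocalization.map B (algebraMap R₀ E) hle
  have hf : ∀ r : R₀, f (algebraMap R₀ A r) = algebraMap E B (algebraMap R₀ E r) :=
    fun r => IsLocalization.map_eq hle r
  letI algAB : Algebra A B := f.toAlgebra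
  letI algR₀B : Algebra R₀ B := ((algebraMap E B).comp (algebraMap R₀ E)).toAlgebra
  haveI tw1 : IsScalarTower R₀ E B := IsScalarTower.of_algebraMap_eq (fun _ => rfl)
  haveI tw2 : IsScalarTower R₀ A B := IsScalarTower.of_algebraMap_eq (fun r => (hf r).symm)
  have hmax : (maximalIdeal A).map f ≤ maximalIdeal B :=
    AA12.map_maximalIdeal_le p A E q hcomap B f hf
  haveI hloc : IsLocalHom (algebraMap A B) :=
    ((local_hom_TFAE f).out 0 2 rfl rfl).mpr hmax
  refine ⟨algAB, hloc, hf, ?_, ?_⟩
  · exact Groth.Agent.Lib.Helper4.EtNbhd.essEtale_of_localizations R₀ E A B p q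
  · refine ⟨(ResidueField.map (algebraMap A B)).injective, ?_⟩
    intro y
    obtain ⟨b, rfl⟩ := residue_surjective y
    obtain ⟨x, t, rfl⟩ := IsLocalization.exists_mk'_eq q.primeCompl b
    obtain ⟨r, s, hs, hrs⟩ := htriv x
    obtain ⟨r', s', hs', hrs'⟩ := htriv (t : E)
    have hr' : r' ∉ p := by
      intro hr'
      have h1 : algebraMap R₀ E s' * (t : E) ∈ q := by
        have : algebraMap R₀ E s' * (t : E) =
            (algebraMap R₀ E s' * (t : E) - algebraMap R₀ E r') + algebraMap R₀ E r' := by ring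
        rw [this]
        exact Ideal.add_mem _ hrs' ((hmem r').mpr hr')
      rcases Ideal.IsPrime.mem_or_mem inferInstance h1 with h2 | h2
      · exact hs' ((hmem s').mp h2)
      · exact t.2 h2
    have hsr' : s * r' ∈ p.primeCompl := Submonoid.mul_mem _ hs hr'
    let a : A := IsLocalization.mk' A (r * s') (⟨s * r', hsr'⟩ : p.primeCompl)
    refine ⟨residue A a, ?_⟩
    rw [ResidueField.map_residue]
    rw [eq_comm, ← sub_eq_zero, ← map_sub, residue_eq_zero_iff]
    -- multiply by units
    have hu1 : IsUnit (algebraMap E B (t : E)) := IsLocalization.map_units B t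
    have hu2 : IsUnit (algebraMap E B (algebraMap R₀ E (s * r'))) :=
      IsLocalization.map_units B (⟨algebraMap R₀ E (s * r'), hle hsr'⟩ : q.primeCompl)
    rw [← Ideal.unit_mul_mem_iff_mem _ hu1, ← Ideal.unit_mul_mem_iff_mem _ hu2]
    have hfa : algebraMap E B (algebraMap R₀ E (s * r')) * algebraMap A B a =
        algebraMap E B (algebraMap R₀ E (r * s')) := by
      rw [← hf, ← hf]
      change f _ * f a = f _
      rw [← map_mul, mul_comm, IsLocalization.mk'_spec]
    have hkey : algebraMap E B (algebraMap R₀ E (s * r')) *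
        (algebraMap E B (t : E) * (IsLocalization.mk' B x t - algebraMap A B a)) =
        algebraMap E B (algebraMap R₀ E (s * r') * x - (t : E) * algebraMap R₀ E (r * s')) := by
      have h3 : algebraMap E B (t : E) * IsLocalization.mk' B x t = algebraMap E B x := by
        rw [mul_comm, IsLocalization.mk'_spec]
      calc algebraMap E B (algebraMap R₀ E (s * r')) *
            (algebraMap E B (t : E) * (IsLocalization.mk' B x t - algebraMap A B a))
          = algebraMap E B (algebraMap R₀ E (s * r')) *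
              (algebraMap E B (t : E) * IsLocalization.mk' B x t) -
            algebraMap E B (t : E) *
              (algebraMap E B (algebraMap R₀ E (s * r')) * algebraMap A B a) := by ring
        _ = _ := by
            rw [h3, hfa]
            simp only [map_sub, map_mul]
    rw [hkey]
    apply (IsLocalization.AtPrime.to_map_mem_maximal_iff B q _).mpr
    have : algebraMap R₀ E (s * r') * x - (t : E) * algebraMap R₀ E (r * s') =
        algebraMap R₀ E r' * (algebraMap R₀ E s * x - algebraMap R₀ E r) -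
          algebraMap R₀ E r * (algebraMap R₀ E s' * (t : E) - algebraMap R₀ E r') := by
      rw [map_mul, map_mul]; ring
    rw [this]
    exact Ideal.sub_mem _ (Ideal.mul_mem_left _ _ hrs) (Ideal.mul_mem_left _ _ hrs')

/-- local rings essentially of finite type over a field with isomorphic completions have isomorphic
henselizations. -/
theorem core {k : Type u} [Field k]
    (O : Type u) [CommRing O] [IsLocalRing O] [Algebra k O] [Algebra.EssFiniteType k O]
    (Oh : Type u) [CommRing Oh] [IsLocalRing Oh] [Algebra O Oh] [IsLocalHom (algebraMap O Oh)]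
    [Hensel.IsHenselization O Oh] [Algebra k Oh] [IsScalarTower k O Oh]
    (Cq : Type u) [CommRing Cq] [Algebra k Cq] [Algebra.FiniteType k Cq] (𝔮 : Ideal Cq) [𝔮.IsPrime]
    (OY : Type u) [CommRing OY] [IsLocalRing OY] [Algebra Cq OY] [IsLocalization.AtPrime OY 𝔮]
    [Algebra k OY] [IsScalarTower k Cq OY]
    (φ : AdicCompletion (maximalIdeal OY) OY ≃+* AdicCompletion (maximalIdeal O) O)
    (hφ : ∀ r : k, φ (algebraMap OY (AdicCompletion (maximalIdeal OY) OY) (algebraMap k OY r)) =
      algebraMap O (AdicCompletion (maximalIdeal O) O) (algebraMap k O r))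
    (C : Type u) [CommRing C] [IsLocalRing C] [Algebra OY C] [IsLocalHom (algebraMap OY C)]
    [Hensel.IsHenselization OY C] [Algebra k C] [IsScalarTower k OY C] :
    Nonempty (Oh ≃ₐ[k] C) := by
  classical
  obtain ⟨A, iA1, iA2, iA3, 𝔭, h𝔭, iA4, iA5, hlocO⟩ := exists_atPrime_presentation k O
  -- G-ring
  haveI : IsLocalization.AtPrime k (⊥ : Ideal k) := by
    refine IsLocalization.of_le_isUnit (fun s hs => isUnit_iff_ne_zero.mpr (fun h => hs ?_))
    rw [h]; exact Ideal.zero_mem _
  haveI : IsAdicComplete (maximalIdeal k) k := by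
    rw [IsLocalRing.maximalIdeal_eq_bot]; infer_instance
  have hGk : CAlg.IsGRing k := Groth.Agent.Lib.Helper23.CompleteGRing.t0598main k
  have h𝔭₀ : 𝔭.comap (algebraMap k A) = ⊥ := by
    haveI := Ideal.comap_isPrime (algebraMap k A) 𝔭
    exact Ideal.eq_bot_of_prime _
  have hG : CAlg.IsGRing O :=
    AA10.isGRing_of_finiteType_atPrime (R := k) (A := A) 𝔭 (⊥ : Ideal k) h𝔭₀ k O hGk
  have hφ' : ∀ r : k, φ (algebraMap OY (AdicCompletion (maximalIdeal OY) OY)
      (algebraMap Cq OY (algebraMap k Cq r))) =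
      algebraMap O (AdicCompletion (maximalIdeal O) O) (algebraMap A O (algebraMap k A r)) := by
    intro r
    rw [← IsScalarTower.algebraMap_apply k Cq OY, ← IsScalarTower.algebraMap_apply k A O]
    exact hφ r
  obtain ⟨A', iA'1, iA'2, het, 𝔭', h𝔭', τ, hcomap, htriv, hτR, hcomapτ, hτet, htrivτ, -⟩ :=
    AA15.alg7203 (R := k) 𝔭 𝔮 O OY hG φ hφ' 1 le_rfl
  obtain ⟨algOB, hlocOB, hOB, hstrO⟩ :=
    strict_of_localizations A A' 𝔭 𝔭' hcomap htriv O (Localization.AtPrime 𝔭')
  -- the `Y` side
  letI algCA' : Algebra Cq A' := τ.toAlgebra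
  haveI etCA' : Algebra.Etale Cq A' := hτet
  have htrivτ' : ∀ x : A', ∃ r s : Cq, s ∉ 𝔮 ∧
      algebraMap Cq A' s * x - algebraMap Cq A' r ∈ 𝔭' := by
    intro x
    obtain ⟨r, s, hs, hrs⟩ := htrivτ x
    refine ⟨r, s, ?_, hrs⟩
    rw [← hcomapτ]
    exact hs
  obtain ⟨algYB, hlocYB, hYB, hstrY⟩ :=
    strict_of_localizations Cq A' 𝔮 𝔭' hcomapτ htrivτ' OY (Localization.AtPrime 𝔭')
  obtain ⟨algBOh, twOBOh, hlocBOh, hhensBOh, -⟩ :=
    Groth.Agent.Lib.Helper4.EtNbhd.exists_algebra_of_strictlyEssEtale hstrO Oh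
  obtain ⟨algBC, twYBC, hlocBC, hhensBC, -⟩ :=
    Groth.Agent.Lib.Helper4.EtNbhd.exists_algebra_of_strictlyEssEtale hstrY C
  obtain ⟨e, he⟩ := hens_unique (Localization.AtPrime 𝔭') Oh C
  refine ⟨AlgEquiv.ofRingEquiv (f := e) fun r => ?_⟩
  rw [IsScalarTower.algebraMap_apply k O Oh, IsScalarTower.algebraMap_apply O (Localization.AtPrime 𝔭') Oh,
    he, IsScalarTower.algebraMap_apply k OY C,
    IsScalarTower.algebraMap_apply OY (Localization.AtPrime 𝔭') C]
  congr 1
  rw [IsScalarTower.algebraMap_apply k A O, hOB, IsScalarTower.algebraMap_apply k Cq OY, hYB]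
  congr 1
  exact (hτR r).symm

end Groth.Agent.Lib.Helper8.HQ1
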