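import Mathlib

set_option backward.isDefEq.respectTransparency.types false
set_option autoImplicit false
set_option linter.unusedSectionVars false
set_option linter.style.haveILetI false

namespace Groth.Agent.Lib.Helper8.Morse

open MvPowerSeries

variable {A : Type*} [CommRing A] {n : ℕ}

/-- all coefficients of degree `< s` vanish. -/
def Ord (s : ℕ) (u : MvPowerSeries (Fin n) A) : Prop :=
  ∀ e : Fin n →₀ ℕ, e.degree < s → coeff e u = 0

lemma ord_iff (s : ℕ) (u : MvPowerSeries (Fin n) A) : Ord s u ↔ (s : ℕ∞) ≤ u.order := by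
  constructor
  · intro h
    exact nat_le_order h
  · intro h e he
    apply coeff_of_lt_order
    exact lt_of_lt_of_le (by exact_mod_cast he) h

lemma Ord.mono {s t : ℕ} (hst : s ≤ t) {u : MvPowerSeries (Fin n) A} (h : Ord t u) : Ord s u :=
  fun e he => h e (lt_of_lt_of_le he hst)

lemma Ord.zero (s : ℕ) : Ord s (0 : MvPowerSeries (Fin n) A) := fun e _ => by simp

lemma Ord.add {s : ℕ} {u v : MvPowerSeries (Fin n) A} (hu : Ord s u) (hv : Ord s v) :
    Ord s (u + v) := fun e he => by rw [map_add, hu e he, hv e he, add_zero]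

lemma Ord.sub {s : ℕ} {u v : MvPowerSeries (Fin n) A} (hu : Ord s u) (hv : Ord s v) :
    Ord s (u - v) := fun e he => by rw [map_sub, hu e he, hv e he, sub_zero]

lemma Ord.neg {s : ℕ} {u : MvPowerSeries (Fin n) A} (hu : Ord s u) :
    Ord s (-u) := fun e he => by rw [map_neg, hu e he, neg_zero]

lemma Ord.sum {ι : Type*} {s : ℕ} (t : Finset ι) {u : ι → MvPowerSeries (Fin n) A}
    (hu : ∀ i ∈ t, Ord s (u i)) : Ord s (∑ i ∈ t, u i) := by
  intro e he
  rw [map_sum]
  exact Finset.sum_eq_zero fun i hi => hu i hi e he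

lemma Ord.mul {s t : ℕ} {u v : MvPowerSeries (Fin n) A} (hu : Ord s u) (hv : Ord t v) :
    Ord (s + t) (u * v) := by
  rw [ord_iff] at *
  refine le_trans ?_ le_order_mul
  push_cast
  exact add_le_add hu hv

lemma Ord.mul_left {s : ℕ} (u : MvPowerSeries (Fin n) A) {v : MvPowerSeries (Fin n) A}
    (hv : Ord s v) : Ord s (u * v) := by
  have h0 : Ord 0 u := fun e he => absurd he (Nat.not_lt_zero _)
  simpa using h0.mul hv

lemma Ord.mul_right {s : ℕ} {u : MvPowerSeries (Fin n) A} (hu : Ord s u)
    (v : MvPowerSeries (Fin n) A) : Ord s (u * v) := by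
  rw [mul_comm]; exact hu.mul_left v

lemma Ord_X (j : Fin n) : Ord 1 (X j : MvPowerSeries (Fin n) A) := by
  intro e he
  have : e = 0 := by
    have h0 : e.degree = 0 := by omega
    exact (Finsupp.degree_eq_zero_iff e).1 h0
  rw [this]
  exact coeff_zero_X j

lemma Ord_one_iff (u : MvPowerSeries (Fin n) A) : Ord 1 u ↔ constantCoeff u = 0 := by
  constructor
  · intro h
    have := h 0 (by simp)
    simpa using this
  · intro h e he
    have : e = 0 := by
      have h0 : e.degree = 0 := by omega
      exact (Finsupp.degree_eq_zero_iff e).1 h0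
    rw [this]
    simpa using h

lemma Ord_sub_C (u : MvPowerSeries (Fin n) A) : Ord 1 (u - C (constantCoeff u)) := by
  rw [Ord_one_iff]
  simp

/-- congruence below degree `N`. -/
def Cong (N : ℕ) (u v : MvPowerSeries (Fin n) A) : Prop := Ord N (u - v)

lemma cong_iff (N : ℕ) (u v : MvPowerSeries (Fin n) A) :
    Cong N u v ↔ ∀ e : Fin n →₀ ℕ, e.degree < N → coeff e u = coeff e v := by
  unfold Cong Ord
  simp only [map_sub, sub_eq_zero]

lemma Cong.refl (N : ℕ) (u : MvPowerSeries (Fin n) A) : Cong N u u := by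
  rw [cong_iff]; intro _ _; rfl

lemma Cong.symm {N : ℕ} {u v : MvPowerSeries (Fin n) A} (h : Cong N u v) : Cong N v u := by
  rw [cong_iff] at *; intro e he; exact (h e he).symm

lemma Cong.trans {N : ℕ} {u v w : MvPowerSeries (Fin n) A} (h : Cong N u v) (h' : Cong N v w) :
    Cong N u w := by
  rw [cong_iff] at *; intro e he; exact (h e he).trans (h' e he)

lemma Cong.mono {M N : ℕ} (hMN : M ≤ N) {u v : MvPowerSeries (Fin n) A} (h : Cong N u v) :
    Cong M u v := Ord.mono hMN h

lemma Cong.add {N : ℕ} {u v u' v' : MvPowerSeries (Fin n) A} (h : Cong N u u')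
    (h' : Cong N v v') : Cong N (u + v) (u' + v') := by
  unfold Cong at *
  have : u + v - (u' + v') = (u - u') + (v - v') := by ring
  rw [this]; exact h.add h'

lemma Cong.sub {N : ℕ} {u v u' v' : MvPowerSeries (Fin n) A} (h : Cong N u u')
    (h' : Cong N v v') : Cong N (u - v) (u' - v') := by
  unfold Cong at *
  have : u - v - (u' - v') = (u - u') - (v - v') := by ring
  rw [this]; exact Ord.sub h h'

lemma Cong.sum {ι : Type*} {N : ℕ} (t : Finset ι) {u v : ι → MvPowerSeries (Fin n) A}
    (h : ∀ i ∈ t, Cong N (u i) (v i)) : Cong N (∑ i ∈ t, u i) (∑ i ∈ t, v i) := by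
  unfold Cong at *
  rw [← Finset.sum_sub_distrib]
  exact Ord.sum t h

lemma Cong.mul_left {N : ℕ} (w : MvPowerSeries (Fin n) A) {u v : MvPowerSeries (Fin n) A}
    (h : Cong N u v) : Cong N (w * u) (w * v) := by
  unfold Cong at *
  rw [← mul_sub]; exact Ord.mul_left w h

/-- products of congruent series of positive order are congruent to higher order. -/
lemma Cong.mul_of_ord {N s : ℕ} {u u' v v' : MvPowerSeries (Fin n) A} (h : Cong N u u')
    (h' : Cong N v v') (hu' : Ord s u') (hv : Ord s v) : Cong (N + s) (u * v) (u' * v') := by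
  unfold Cong at *
  have : u * v - u' * v' = (u - u') * v + u' * (v - v') := by ring
  rw [this]
  refine Ord.add (h.mul hv) ?_
  rw [add_comm]
  exact hu'.mul h'

/-- the abstract fixed point lemma for contractions. -/
theorem exists_fixed {ι : Type*} (T : (ι → MvPowerSeries (Fin n) A) → (ι → MvPowerSeries (Fin n) A))
    (hT : ∀ N u v, (∀ i, Cong N (u i) (v i)) → ∀ i, Cong (N + 1) (T u i) (T v i)) :
    ∃ ε, T ε = ε := by
  let u : ℕ → (ι → MvPowerSeries (Fin n) A) := fun k => T^[k] 0
  have hu_succ : ∀ k, u (k + 1) = T (u k) := fun k => Function.iterate_succ_apply' T k 0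
  have h1 : ∀ k i, Cong k (u k i) (u (k + 1) i) := by
    intro k
    induction k with
    | zero => intro i; rw [cong_iff]; intro e he; exact absurd he (Nat.not_lt_zero _)
    | succ k ih =>
      intro i
      rw [hu_succ k, hu_succ (k + 1)]
      exact hT k _ _ ih i
  have h2 : ∀ k d i, Cong k (u k i) (u (k + d) i) := by
    intro k d
    induction d with
    | zero => intro i; exact Cong.refl _ _
    | succ d ih =>
      intro i
      refine (ih i).trans ?_
      exact (h1 (k + d) i).mono (Nat.le_add_right k d)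
  let ε : ι → MvPowerSeries (Fin n) A := fun i e => coeff e (u (e.degree + 1) i)
  have hε : ∀ i e, coeff e (ε i) = coeff e (u (e.degree + 1) i) := fun i e => rfl
  have h3 : ∀ k i, Cong k (ε i) (u k i) := by
    intro k i
    rw [cong_iff]
    intro e he
    rw [hε]
    obtain ⟨d, hd⟩ := Nat.exists_eq_add_of_le (Nat.succ_le_of_lt he)
    have := h2 (e.degree + 1) d i
    rw [cong_iff] at this
    rw [hd]
    exact this e (Nat.lt_succ_self _)
  refine ⟨ε, ?_⟩
  funext i
  ext e
  have h4 := hT (e.degree + 1) ε (u (e.degree + 1)) (h3 _) i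
  rw [← hu_succ] at h4
  have h5 := h3 (e.degree + 1 + 1) i
  rw [cong_iff] at h4 h5
  rw [h4 e (by omega), h5 e (by omega)]

end Groth.Agent.Lib.Helper8.Morse
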