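import Mathlib
import Groth.Agent.Lib.Helper8.Morse1

set_option backward.isDefEq.respectTransparency.types false
set_option autoImplicit false
set_option linter.unusedSectionVars false
set_option linter.style.haveILetI false

namespace Groth.Agent.Lib.Helper8.Morse

open MvPowerSeries

variable {A : Type*} [CommRing A] {n : ℕ}

open Classical in
/-- the part of `r` whose smallest variable is `x_j`, divided by `x_j`. -/
noncomputable def rdiv (j : Fin n) (r : MvPowerSeries (Fin n) A) : MvPowerSeries (Fin n) A :=
  fun e => if ∀ l, l < j → e l = 0 then coeff (e + Finsupp.single j 1) r else 0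

open Classical in
lemma coeff_rdiv (j : Fin n) (r : MvPowerSeries (Fin n) A) (e : Fin n →₀ ℕ) :
    coeff e (rdiv j r) = if ∀ l, l < j → e l = 0 then coeff (e + Finsupp.single j 1) r else 0 :=
  rfl

lemma degree_add_single (e : Fin n →₀ ℕ) (j : Fin n) :
    (e + Finsupp.single j 1).degree = e.degree + 1 := by
  rw [map_add, Finsupp.degree_single]

lemma Ord.rdiv {s : ℕ} {r : MvPowerSeries (Fin n) A} (h : Ord (s + 1) r) (j : Fin n) :
    Ord s (rdiv j r) := by
  classical
  intro e he
  rw [coeff_rdiv]
  split_ifs
  · apply h
    rw [degree_add_single]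
    omega
  · rfl

lemma rdiv_sub (j : Fin n) (r r' : MvPowerSeries (Fin n) A) :
    rdiv j (r - r') = rdiv j r - rdiv j r' := by
  classical
  ext e
  simp only [coeff_rdiv, map_sub]
  split_ifs <;> simp

lemma Cong.rdiv {N : ℕ} {r r' : MvPowerSeries (Fin n) A} (h : Cong (N + 1) r r') (j : Fin n) :
    Cong N (rdiv j r) (rdiv j r') := by
  unfold Cong at *
  rw [← rdiv_sub]
  exact Ord.rdiv h j

/-- reassembling a series without constant term from its parts. -/
lemma sum_X_mul_rdiv (r : MvPowerSeries (Fin n) A) (h0 : constantCoeff r = 0) :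
    ∑ j, X j * rdiv j r = r := by
  classical
  ext e
  rw [map_sum]
  have hterm : ∀ j : Fin n, coeff e (X j * rdiv j r) =
      if (1 ≤ e j ∧ ∀ l, l < j → e l = 0) then coeff e r else 0 := by
    intro j
    rw [X, coeff_monomial_mul, one_mul]
    by_cases hj : Finsupp.single j 1 ≤ e
    · have hj' : 1 ≤ e j := by
        have := hj j
        simpa using this
      rw [if_pos hj, coeff_rdiv, tsub_add_cancel_of_le hj]
      have hiff : (∀ l, l < j → (e - (Finsupp.single j 1 : Fin n →₀ ℕ)) l = 0) ↔
          ∀ l, l < j → e l = 0 := by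
        constructor
        · intro h l hl
          have := h l hl
          rw [Finsupp.tsub_apply, Finsupp.single_apply, if_neg (ne_of_gt hl)] at this
          simpa using this
        · intro h l hl
          rw [Finsupp.tsub_apply, h l hl]
          simp
      by_cases hc : ∀ l, l < j → e l = 0
      · rw [if_pos (hiff.2 hc), if_pos ⟨hj', hc⟩]
      · rw [if_neg (fun h => hc (hiff.1 h)), if_neg (fun h => hc h.2)]
    · rw [if_neg hj, if_neg]
      rintro ⟨h1, -⟩
      apply hj
      intro l
      by_cases hl : l = j
      · subst hl; simpa using h1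
      · rw [Finsupp.single_apply, if_neg (Ne.symm hl)]; exact Nat.zero_le _
  simp only [hterm]
  by_cases he : e = 0
  · subst he
    rw [Finset.sum_eq_zero]
    · simpa using h0.symm
    · intro j _
      rw [if_neg]
      rintro ⟨h1, -⟩
      simp at h1
  · have hne : e.support.Nonempty := Finsupp.support_nonempty_iff.2 he
    set j₀ := e.support.min' hne with hj₀
    have hmem : j₀ ∈ e.support := Finset.min'_mem _ hne
    have hmin : ∀ l, l < j₀ → e l = 0 := by
      intro l hl
      by_contra hl0
      have : l ∈ e.support := Finsupp.mem_support_iff.2 hl0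
      exact absurd (Finset.min'_le _ l this) (not_le.2 hl)
    rw [Finset.sum_eq_single j₀]
    · rw [if_pos]
      exact ⟨Nat.one_le_iff_ne_zero.2 (Finsupp.mem_support_iff.1 hmem), hmin⟩
    · intro j _ hj
      rw [if_neg]
      rintro ⟨h1, h2⟩
      rcases lt_trichotomy j j₀ with h | h | h
      · have := hmin j h; omega
      · exact hj h
      · have := h2 j₀ h
        exact (Finsupp.mem_support_iff.1 hmem) this
    · intro h; exact absurd (Finset.mem_univ _) h

open Classical in
/-- removing the terms of degree `< 2`. -/
noncomputable def tau (u : MvPowerSeries (Fin n) A) : MvPowerSeries (Fin n) A :=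
  fun e => if e.degree < 2 then 0 else coeff e u

open Classical in
lemma coeff_tau (u : MvPowerSeries (Fin n) A) (e : Fin n →₀ ℕ) :
    coeff e (tau u) = if e.degree < 2 then 0 else coeff e u := rfl

lemma Ord_tau (u : MvPowerSeries (Fin n) A) : Ord 2 (tau u) := by
  intro e he
  rw [coeff_tau, if_pos he]

lemma tau_eq_self {u : MvPowerSeries (Fin n) A} (h : Ord 2 u) : tau u = u := by
  ext e
  rw [coeff_tau]
  split_ifs with he
  · exact (h e he).symm
  · rfl

lemma Cong.tau {N : ℕ} {u v : MvPowerSeries (Fin n) A} (h : Cong N u v) :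
    Cong N (tau u) (tau v) := by
  rw [cong_iff] at *
  intro e he
  rw [coeff_tau, coeff_tau]
  split_ifs
  · rfl
  · exact h e he

end Groth.Agent.Lib.Helper8.Morse
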