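import Mathlib
import Groth.Agent.Lib.Helper8.Morse2

set_option backward.isDefEq.respectTransparency.types false
set_option autoImplicit false
set_option linter.unusedSectionVars false
set_option linter.style.haveILetI false

namespace Groth.Agent.Lib.Helper8.Morse

open MvPowerSeries

variable {A : Type*} [CommRing A] {n : ℕ}

/-- the quadratic form with coefficient table `Q`, evaluated on a vector of power series. -/
noncomputable def qq (Q : Fin n → Fin n → A) (v : Fin n → MvPowerSeries (Fin n) A) :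
    MvPowerSeries (Fin n) A :=
  ∑ a, ∑ b, C (Q a b) * v a * v b

lemma qq_cong (Q : Fin n → Fin n → A) {N : ℕ} {v v' : Fin n → MvPowerSeries (Fin n) A}
    (h : ∀ a, Cong N (v a) (v' a)) (hv : ∀ a, Ord 2 (v a)) (hv' : ∀ a, Ord 2 (v' a)) :
    Cong (N + 2) (qq Q v) (qq Q v') := by
  unfold qq
  refine Cong.sum _ fun a _ => Cong.sum _ fun b _ => ?_
  rw [mul_assoc, mul_assoc]
  exact Cong.mul_left _ (Cong.mul_of_ord (h a) (h b) (hv' a) (hv b))

lemma qq_ord (Q : Fin n → Fin n → A) {v : Fin n → MvPowerSeries (Fin n) A}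
    (hv : ∀ a, Ord 2 (v a)) : Ord 4 (qq Q v) := by
  unfold qq
  refine Ord.sum _ fun a _ => Ord.sum _ fun b _ => ?_
  rw [mul_assoc]
  exact Ord.mul_left _ ((hv a).mul (hv b))

/-- the polar expansion of the quadratic form. -/
lemma qq_add (Q : Fin n → Fin n → A) (x ε : Fin n → MvPowerSeries (Fin n) A) :
    qq Q (fun a => x a + ε a) =
      qq Q x + ∑ i, (∑ l, C (Q i l + Q l i) * x l) * ε i + qq Q ε := by
  unfold qq
  have h1 : ∑ i, (∑ l, C (Q i l + Q l i) * x l) * ε i =
      ∑ a, ∑ b, (C (Q a b) * x b * ε a + C (Q a b) * x a * ε b) := by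
    have h2 : ∑ i, (∑ l, C (Q i l + Q l i) * x l) * ε i =
        ∑ a, ∑ b, C (Q a b) * x b * ε a + ∑ a, ∑ b, C (Q b a) * x b * ε a := by
      rw [← Finset.sum_add_distrib]
      refine Finset.sum_congr rfl fun a _ => ?_
      rw [Finset.sum_mul, ← Finset.sum_add_distrib]
      refine Finset.sum_congr rfl fun b _ => ?_
      rw [map_add]; ring
    rw [h2]
    rw [Finset.sum_comm (f := fun a b => C (Q b a) * x b * ε a)]
    simp only [← Finset.sum_add_distrib]
  rw [h1]
  simp only [← Finset.sum_add_distrib]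
  refine Finset.sum_congr rfl fun a _ => Finset.sum_congr rfl fun b _ => ?_
  ring

/-- the core of the formal Morse lemma. -/
theorem morse_core (Q c : Fin n → Fin n → A)
    (hc : ∀ j l, ∑ i, c j i * (Q i l + Q l i) = if j = l then 1 else 0)
    (g : MvPowerSeries (Fin n) A) (hg : Ord 3 g) :
    ∃ ε : Fin n → MvPowerSeries (Fin n) A, (∀ i, Ord 2 (ε i)) ∧
      qq Q (fun a => X a + ε a) = qq Q (fun a => X a) + g := by
  classical
  let T : (Fin n → MvPowerSeries (Fin n) A) → (Fin n → MvPowerSeries (Fin n) A) :=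
    fun u i => ∑ j, C (c j i) * rdiv j (g - qq Q (fun a => tau (u a)))
  have hT : ∀ N u v, (∀ i, Cong N (u i) (v i)) → ∀ i, Cong (N + 1) (T u i) (T v i) := by
    intro N u v huv i
    refine Cong.sum _ fun j _ => Cong.mul_left _ (Cong.rdiv ?_ j)
    refine Cong.sub (Cong.refl _ _) ?_
    exact qq_cong Q (fun a => (huv a).tau) (fun a => Ord_tau _) (fun a => Ord_tau _)
  obtain ⟨ε, hε⟩ := exists_fixed T hT
  have hR : Ord 3 (g - qq Q (fun a => tau (ε a))) :=
    Ord.sub hg ((qq_ord Q (fun a => Ord_tau (ε a))).mono (by norm_num))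
  have hord : ∀ i, Ord 2 (ε i) := by
    intro i
    rw [← hε]
    exact Ord.sum _ fun j _ => Ord.mul_left _ (Ord.rdiv hR j)
  have htau : (fun a => tau (ε a)) = ε := funext fun a => tau_eq_self (hord a)
  rw [htau] at hR
  refine ⟨ε, hord, ?_⟩
  rw [qq_add]
  have hkey : ∑ i, (∑ l, C (Q i l + Q l i) * X l) * ε i = g - qq Q ε := by
    have hεi : ∀ i, ε i = ∑ j, C (c j i) * rdiv j (g - qq Q ε) := by
      intro i
      conv_lhs => rw [← hε]
      simp only [T, htau]
    set Rr := g - qq Q ε with hRr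
    have h0 : constantCoeff Rr = 0 := by
      have := hR 0 (by simp)
      simpa using this
    calc ∑ i, (∑ l, C (Q i l + Q l i) * X l) * ε i
        = ∑ i, (∑ l, C (Q i l + Q l i) * X l) * ∑ j, C (c j i) * rdiv j Rr := by
          refine Finset.sum_congr rfl fun i _ => ?_
          rw [← hεi i]
      _ = ∑ i, ∑ l, ∑ j, (C (Q i l + Q l i) * X l) * (C (c j i) * rdiv j Rr) := by
          refine Finset.sum_congr rfl fun i _ => ?_
          rw [Finset.sum_mul_sum]
      _ = ∑ l, ∑ i, ∑ j, (C (Q i l + Q l i) * X l) * (C (c j i) * rdiv j Rr) := Finset.sum_comm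
      _ = ∑ l, ∑ j, ∑ i, (C (Q i l + Q l i) * X l) * (C (c j i) * rdiv j Rr) := by
          refine Finset.sum_congr rfl fun l _ => ?_
          exact Finset.sum_comm
      _ = ∑ l, ∑ j, (∑ i, C (c j i * (Q i l + Q l i))) * (X l * rdiv j Rr) := by
          refine Finset.sum_congr rfl fun l _ => Finset.sum_congr rfl fun j _ => ?_
          rw [Finset.sum_mul]
          refine Finset.sum_congr rfl fun i _ => ?_
          rw [map_mul]; ring
      _ = ∑ l, X l * rdiv l Rr := by
          refine Finset.sum_congr rfl fun l _ => ?_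
          rw [Finset.sum_eq_single l]
          · rw [← map_sum, hc l l, if_pos rfl, map_one, one_mul]
          · intro j _ hj
            rw [← map_sum, hc j l, if_neg hj, map_zero, zero_mul]
          · intro h; exact absurd (Finset.mem_univ _) h
      _ = Rr := sum_X_mul_rdiv Rr h0
  rw [hkey]
  ring

end Groth.Agent.Lib.Helper8.Morse
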