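import Mathlib
import Groth.Agent.Lib.Helper8.Morse3

set_option backward.isDefEq.respectTransparency.types false
set_option autoImplicit false
set_option linter.unusedSectionVars false
set_option linter.style.haveILetI false

namespace Groth.Agent.Lib.Helper8.Morse

open MvPowerSeries

variable {A : Type*} [CommRing A] {n : ℕ}

lemma Ord.pderiv {s : ℕ} {u : MvPowerSeries (Fin n) A} (h : Ord (s + 1) u) (i : Fin n) :
    Ord s (MvPowerSeries.pderiv A i u) := by
  intro e he
  rw [coeff_pderiv, h _ (by rw [degree_add_single]; omega), zero_mul]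

lemma degree_single_one (l : Fin n) : (Finsupp.single l 1 : Fin n →₀ ℕ).degree = 1 := by
  rw [Finsupp.degree_single]

/-- the linear coefficient of a product with a series without constant term. -/
lemma coeff_single_mul (l : Fin n) (r v : MvPowerSeries (Fin n) A) (hv : Ord 1 v) :
    coeff (Finsupp.single l 1) (r * v) = constantCoeff r * coeff (Finsupp.single l 1) v := by
  have h1 : r = C (constantCoeff r) + (r - C (constantCoeff r)) := by ring
  have h2 : Ord 2 ((r - C (constantCoeff r)) * v) := (Ord_sub_C r).mul hv
  conv_lhs => rw [h1, add_mul, map_add]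
  rw [h2 _ (by rw [degree_single_one]; norm_num), add_zero, coeff_C_mul]

/-- decomposition of a series without terms of degree `≤ 1`. -/
lemma exists_quad_decomp (f : MvPowerSeries (Fin n) A) (h0 : constantCoeff f = 0)
    (h1 : ∀ j, coeff (Finsupp.single j 1) f = 0) :
    ∃ (Q : Fin n → Fin n → A) (g : MvPowerSeries (Fin n) A), Ord 3 g ∧
      f = qq Q (fun a => X a) + g := by
  classical
  have hfj : ∀ j, constantCoeff (rdiv j f) = 0 := by
    intro j
    have : constantCoeff (rdiv j f) = coeff 0 (rdiv j f) := by simp
    rw [this, coeff_rdiv, if_pos (fun l _ => by simp), zero_add, h1]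
  let Q : Fin n → Fin n → A := fun j l => constantCoeff (rdiv l (rdiv j f))
  let g : MvPowerSeries (Fin n) A :=
    ∑ j, ∑ l, X j * X l * (rdiv l (rdiv j f) - C (Q j l))
  refine ⟨Q, g, ?_, ?_⟩
  · refine Ord.sum _ fun j _ => Ord.sum _ fun l _ => ?_
    exact ((Ord_X j).mul (Ord_X l)).mul (Ord_sub_C _)
  · have e1 : f = ∑ j, X j * rdiv j f := (sum_X_mul_rdiv f h0).symm
    have e2 : ∀ j, rdiv j f = ∑ l, X l * rdiv l (rdiv j f) :=
      fun j => (sum_X_mul_rdiv (rdiv j f) (hfj j)).symm
    conv_lhs => rw [e1]
    unfold qq
    simp only [g]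
    rw [← Finset.sum_add_distrib]
    refine Finset.sum_congr rfl fun j _ => ?_
    conv_lhs => rw [e2 j]
    rw [Finset.mul_sum, ← Finset.sum_add_distrib]
    refine Finset.sum_congr rfl fun l _ => ?_
    ring

/-- the linear coefficient of a partial derivative of the quadratic part. -/
lemma coeff_single_pderiv_qq (Q : Fin n → Fin n → A) (i l : Fin n) :
    coeff (Finsupp.single l 1) (MvPowerSeries.pderiv A i (qq Q (fun a => X a))) =
      Q i l + Q l i := by
  classical
  unfold qq
  rw [map_sum, map_sum]
  have hterm : ∀ a b : Fin n, coeff (Finsupp.single l 1)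
      (MvPowerSeries.pderiv A i (C (Q a b) * X a * X b)) =
      (if a = i ∧ b = l then Q a b else 0) + (if b = i ∧ a = l then Q a b else 0) := by
    intro a b
    have hd : MvPowerSeries.pderiv A i (C (Q a b) * X a * X b) =
        C (Q a b) * ((if a = i then 1 else 0) * X b + X a * (if b = i then 1 else 0)) := by
      rw [mul_assoc, Derivation.leibniz, Derivation.leibniz, pderiv_C, smul_zero, add_zero]
      simp only [smul_eq_mul]
      have hX : ∀ a : Fin n, MvPowerSeries.pderiv A i (X a) = if a = i then 1 else 0 := by
        intro a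
        by_cases h : a = i
        · subst h; rw [pderiv_X_self, if_pos rfl]
        · rw [pderiv_X_of_ne h, if_neg h]
      rw [hX a, hX b]
      ring
    rw [hd, coeff_C_mul, map_add]
    by_cases ha : a = i <;> by_cases hb : b = i <;>
      simp [ha, hb, coeff_index_single_X, mul_add, eq_comm]
  simp only [map_sum, hterm, Finset.sum_add_distrib]
  congr 1
  · rw [Finset.sum_eq_single i, Finset.sum_eq_single l]
    · simp
    · intro b _ hb; simp [hb]
    · intro h; exact absurd (Finset.mem_univ _) h
    · intro a _ ha
      apply Finset.sum_eq_zero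
      intro b _
      simp [ha]
    · intro h; exact absurd (Finset.mem_univ _) h
  · rw [Finset.sum_eq_single l, Finset.sum_eq_single i]
    · simp
    · intro b _ hb; simp [hb]
    · intro h; exact absurd (Finset.mem_univ _) h
    · intro a _ ha
      apply Finset.sum_eq_zero
      intro b _
      simp [ha]
    · intro h; exact absurd (Finset.mem_univ _) h

end Groth.Agent.Lib.Helper8.Morse
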