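import Mathlib
import Groth.Agent.Lib.Helper8.Morse4

set_option backward.isDefEq.respectTransparency.types false
set_option autoImplicit false
set_option linter.unusedSectionVars false
set_option linter.style.haveILetI false

namespace Groth.Agent.Lib.Helper8.Morse

open MvPowerSeries

variable {A : Type*} [CommRing A] {n : ℕ}

/-- the monomial `a^d`. -/
noncomputable def Pa (a : Fin n → MvPowerSeries (Fin n) A) (d : Fin n →₀ ℕ) :
    MvPowerSeries (Fin n) A := d.prod fun s e => a s ^ e

lemma Pa_zero (a : Fin n → MvPowerSeries (Fin n) A) : Pa a 0 = 1 := by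
  unfold Pa; simp

lemma Pa_add_single (a : Fin n → MvPowerSeries (Fin n) A) (d : Fin n →₀ ℕ) (s : Fin n) :
    Pa a (d + Finsupp.single s 1) = Pa a d * a s := by
  unfold Pa
  rw [Finsupp.prod_add_index' (fun _ => pow_zero _) (fun _ _ _ => pow_add _ _ _)]
  congr 1
  rw [Finsupp.prod_single_index (h := fun s e => a s ^ e) (pow_zero _), pow_one]

lemma exists_eq_add_single {d : Fin n →₀ ℕ} {k : ℕ} (h : d.degree = k + 1) :
    ∃ (d' : Fin n →₀ ℕ) (s : Fin n), d = d' + Finsupp.single s 1 ∧ d'.degree = k := by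
  have hne : d ≠ 0 := by
    intro h0; rw [h0] at h; simp at h
  obtain ⟨s, hs⟩ : ∃ s, d s ≠ 0 := by
    by_contra hc
    simp only [not_exists, not_not] at hc
    exact hne (Finsupp.ext hc)
  have hle : Finsupp.single s 1 ≤ d := by
    intro l
    by_cases hl : l = s
    · subst hl; simp; omega
    · rw [Finsupp.single_apply, if_neg (Ne.symm hl)]; exact Nat.zero_le _
  refine ⟨d - Finsupp.single s 1, s, (tsub_add_cancel_of_le hle).symm, ?_⟩
  have h2 : (d - Finsupp.single s 1 + Finsupp.single s 1).degree = k + 1 := by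
    rw [tsub_add_cancel_of_le hle]; exact h
  rw [degree_add_single] at h2
  omega

lemma Pa_ord {a : Fin n → MvPowerSeries (Fin n) A} (ha : ∀ s, Ord 1 (a s)) :
    ∀ (k : ℕ) (d : Fin n →₀ ℕ), d.degree = k → Ord k (Pa a d) := by
  intro k
  induction k with
  | zero => intro d _ e he; exact absurd he (Nat.not_lt_zero _)
  | succ k ih =>
    intro d hd
    obtain ⟨d', s, rfl, hd'⟩ := exists_eq_add_single hd
    rw [Pa_add_single]
    exact (ih d' hd').mul (ha s)

lemma Pa_cong {N : ℕ} {a a' : Fin n → MvPowerSeries (Fin n) A} (ha : ∀ s, Ord 1 (a s))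
    (ha' : ∀ s, Ord 1 (a' s)) (h : ∀ s, Cong N (a s) (a' s)) :
    ∀ (k : ℕ) (d : Fin n →₀ ℕ), d.degree = k + 1 → Cong (N + k) (Pa a d) (Pa a' d) := by
  intro k
  induction k with
  | zero =>
    intro d hd
    obtain ⟨d', s, rfl, hd'⟩ := exists_eq_add_single hd
    have : d' = 0 := (Finsupp.degree_eq_zero_iff d').1 hd'
    subst this
    rw [Pa_add_single, Pa_add_single, Pa_zero, Pa_zero, one_mul, one_mul]
    exact h s
  | succ k ih =>
    intro d hd
    obtain ⟨d', s, rfl, hd'⟩ := exists_eq_add_single hd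
    rw [Pa_add_single, Pa_add_single]
    unfold Cong
    have e1 : Pa a d' * a s - Pa a' d' * a' s =
        (Pa a d' - Pa a' d') * a s + Pa a' d' * (a s - a' s) := by ring
    rw [e1]
    refine Ord.add ?_ ?_
    · have := (ih d' hd').mul (ha s)
      exact this
    · have := (Pa_ord ha' (k + 1) d' hd').mul (h s)
      rw [show N + (k + 1) = k + 1 + N by ring]
      exact this

lemma hasSubst_of_ord {a : Fin n → MvPowerSeries (Fin n) A} (ha : ∀ s, Ord 1 (a s)) :
    HasSubst a :=
  hasSubst_of_constantCoeff_zero fun s => (Ord_one_iff _).1 (ha s)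

lemma coeff_subst' {a : Fin n → MvPowerSeries (Fin n) A} (ha : ∀ s, Ord 1 (a s))
    (f : MvPowerSeries (Fin n) A) (e : Fin n →₀ ℕ) :
    coeff e (subst a f) = finsum (fun d => coeff d f * coeff e (Pa a d)) := by
  rw [coeff_subst (hasSubst_of_ord ha)]
  rfl

/-- substitution preserves order. -/
lemma subst_ord {a : Fin n → MvPowerSeries (Fin n) A} (ha : ∀ s, Ord 1 (a s)) {s : ℕ}
    {f : MvPowerSeries (Fin n) A} (hf : Ord s f) : Ord s (subst a f) := by
  intro e he
  rw [coeff_subst' ha, finsum_eq_zero_of_forall_eq_zero]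
  intro d
  by_cases hd : d.degree < s
  · rw [hf d hd, zero_mul]
  · rw [Pa_ord ha d.degree d rfl e (by omega), mul_zero]

/-- substitution of congruent tuples gives congruent results, with a gain. -/
lemma subst_cong {N s : ℕ} {a a' : Fin n → MvPowerSeries (Fin n) A} (ha : ∀ i, Ord 1 (a i))
    (ha' : ∀ i, Ord 1 (a' i)) (h : ∀ i, Cong N (a i) (a' i))
    {f : MvPowerSeries (Fin n) A} (hf : Ord (s + 1) f) :
    Cong (N + s) (subst a f) (subst a' f) := by
  rw [cong_iff]
  intro e he
  rw [coeff_subst' ha, coeff_subst' ha']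
  apply finsum_congr
  intro d
  by_cases hd : d.degree < s + 1
  · rw [hf d hd, zero_mul, zero_mul]
  · obtain ⟨k, hk⟩ : ∃ k, d.degree = k + 1 := ⟨d.degree - 1, by omega⟩
    have := Pa_cong ha ha' h k d hk
    rw [cong_iff] at this
    rw [this e (by omega)]

end Groth.Agent.Lib.Helper8.Morse
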