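import Mathlib
import Groth.Agent.Lib.Helper8.Morse6

set_option backward.isDefEq.respectTransparency.types false
set_option autoImplicit false
set_option linter.unusedSectionVars false
set_option linter.style.haveILetI false

namespace Groth.Agent.Lib.Helper8.Morse

open MvPowerSeries

variable {A : Type*} [CommRing A] {n : ℕ}

open Classical in
/-- removing the terms of degree `< m`. -/
noncomputable def tauN (m : ℕ) (u : MvPowerSeries (Fin n) A) : MvPowerSeries (Fin n) A :=
  fun e => if e.degree < m then 0 else coeff e u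

open Classical in
lemma coeff_tauN (m : ℕ) (u : MvPowerSeries (Fin n) A) (e : Fin n →₀ ℕ) :
    coeff e (tauN m u) = if e.degree < m then 0 else coeff e u := rfl

lemma Ord_tauN (m : ℕ) (u : MvPowerSeries (Fin n) A) : Ord m (tauN m u) := by
  intro e he
  rw [coeff_tauN, if_pos he]

lemma tauN_eq_self {m : ℕ} {u : MvPowerSeries (Fin n) A} (h : Ord m u) : tauN m u = u := by
  ext e
  rw [coeff_tauN]
  split_ifs with he
  · exact (h e he).symm
  · rfl

lemma Cong.tauN {N : ℕ} (m : ℕ) {u v : MvPowerSeries (Fin n) A} (h : Cong N u v) :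
    Cong N (tauN m u) (tauN m v) := by
  rw [cong_iff] at *
  intro e he
  rw [coeff_tauN, coeff_tauN]
  split_ifs
  · rfl
  · exact h e he

lemma qq_ord' (Q : Fin n → Fin n → A) {s : ℕ} {v : Fin n → MvPowerSeries (Fin n) A}
    (hv : ∀ a, Ord s (v a)) : Ord (s + s) (qq Q v) := by
  unfold qq
  refine Ord.sum _ fun a _ => Ord.sum _ fun b _ => ?_
  rw [mul_assoc]
  exact Ord.mul_left _ ((hv a).mul (hv b))

/-- the linear forms of the polar form applied to `D(Rr)` give back `Rr`. -/
lemma sum_L_mul_D (Q c : Fin n → Fin n → A)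
    (hc : ∀ j l, ∑ i, c j i * (Q i l + Q l i) = if j = l then 1 else 0)
    (Rr : MvPowerSeries (Fin n) A) (h0 : constantCoeff Rr = 0) :
    ∑ i, (∑ l, C (Q i l + Q l i) * X l) * ∑ j, C (c j i) * rdiv j Rr = Rr := by
  classical
  calc ∑ i, (∑ l, C (Q i l + Q l i) * X l) * ∑ j, C (c j i) * rdiv j Rr
      = ∑ i, ∑ l, ∑ j, (C (Q i l + Q l i) * X l) * (C (c j i) * rdiv j Rr) := by
        refine Finset.sum_congr rfl fun i _ => ?_
        rw [Finset.sum_mul_sum]
    _ = ∑ l, ∑ i, ∑ j, (C (Q i l + Q l i) * X l) * (C (c j i) * rdiv j Rr) := Finset.sum_comm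
    _ = ∑ l, ∑ j, ∑ i, (C (Q i l + Q l i) * X l) * (C (c j i) * rdiv j Rr) := by
        refine Finset.sum_congr rfl fun l _ => ?_
        exact Finset.sum_comm
    _ = ∑ l, ∑ j, (∑ i, C (c j i * (Q i l + Q l i))) * (X l * rdiv j Rr) := by
        refine Finset.sum_congr rfl fun l _ => Finset.sum_congr rfl fun j _ => ?_
        rw [Finset.sum_mul]
        refine Finset.sum_congr rfl fun i _ => ?_
        rw [map_mul]; ring
    _ = ∑ l, X l * rdiv l Rr := by
        refine Finset.sum_congr rfl fun l _ => ?_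
        rw [Finset.sum_eq_single l]
        · rw [← map_sum, hc l l, if_pos rfl, map_one, one_mul]
        · intro j _ hj
          rw [← map_sum, hc j l, if_neg hj, map_zero, zero_mul]
        · intro h; exact absurd (Finset.mem_univ _) h
    _ = Rr := sum_X_mul_rdiv Rr h0

/-- the Morse lemma with substitution into the perturbation. -/
theorem morse_subst_core (Q c : Fin n → Fin n → A)
    (hc : ∀ j l, ∑ i, c j i * (Q i l + Q l i) = if j = l then 1 else 0)
    (m : ℕ) (hm : 2 ≤ m) (E : MvPowerSeries (Fin n) A) (hE : Ord (m + 1) E) :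
    ∃ h : Fin n → MvPowerSeries (Fin n) A, (∀ i, Ord m (h i)) ∧
      qq Q (fun a => X a + h a) + subst (fun a => X a + h a) E = qq Q (fun a => X a) := by
  classical
  have hX1 : ∀ (u : Fin n → MvPowerSeries (Fin n) A) (i : Fin n), Ord 1 (X i + tauN m (u i)) :=
    fun u i => (Ord_X i).add ((Ord_tauN m (u i)).mono (by omega))
  let Rf : (Fin n → MvPowerSeries (Fin n) A) → MvPowerSeries (Fin n) A := fun u =>
    -(qq Q (fun a => tauN m (u a)) + subst (fun a => X a + tauN m (u a)) E)
  let T : (Fin n → MvPowerSeries (Fin n) A) → (Fin n → MvPowerSeries (Fin n) A) :=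
    fun u i => ∑ j, C (c j i) * rdiv j (Rf u)
  have hT : ∀ N u v, (∀ i, Cong N (u i) (v i)) → ∀ i, Cong (N + 1) (T u i) (T v i) := by
    intro N u v huv i
    refine Cong.sum _ fun j _ => Cong.mul_left _ (Cong.rdiv ?_ j)
    have h1 : Cong (N + 2) (qq Q (fun a => tauN m (u a))) (qq Q (fun a => tauN m (v a))) :=
      qq_cong Q (fun a => (huv a).tauN m) (fun a => (Ord_tauN m _).mono hm)
        (fun a => (Ord_tauN m _).mono hm)
    have h2 : Cong (N + 2) (subst (fun a => X a + tauN m (u a)) E)
        (subst (fun a => X a + tauN m (v a)) E) := by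
      have := subst_cong (N := N) (s := m) (hX1 u) (hX1 v)
        (fun i => Cong.add (Cong.refl _ _) ((huv i).tauN m)) hE
      exact this.mono (by omega)
    have h3 := Cong.add h1 h2
    unfold Cong at h3 ⊢
    have e1 : Rf u - Rf v = -((qq Q (fun a => tauN m (u a)) +
        subst (fun a => X a + tauN m (u a)) E) - (qq Q (fun a => tauN m (v a)) +
        subst (fun a => X a + tauN m (v a)) E)) := by
      simp only [Rf]; ring
    rw [e1]
    exact h3.neg
  obtain ⟨h, hh⟩ := exists_fixed T hT
  have hR : Ord (m + 1) (Rf h) := by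
    refine Ord.neg (Ord.add ?_ ?_)
    · exact (qq_ord' Q (fun a => Ord_tauN m (h a))).mono (by omega)
    · exact subst_ord (hX1 h) hE
  have hord : ∀ i, Ord m (h i) := by
    intro i
    rw [← hh]
    exact Ord.sum _ fun j _ => Ord.mul_left _ (Ord.rdiv hR j)
  have htau : (fun a => tauN m (h a)) = h := funext fun a => tauN_eq_self (hord a)
  have hRf : Rf h = -(qq Q h + subst (fun a => X a + h a) E) := by
    simp only [Rf]
    rw [htau]
    have : (fun a => X a + tauN m (h a)) = fun a => X a + h a :=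
      funext fun a => by rw [tauN_eq_self (hord a)]
    rw [this]
  refine ⟨h, hord, ?_⟩
  rw [qq_add]
  have hkey : ∑ i, (∑ l, C (Q i l + Q l i) * X l) * h i = Rf h := by
    have h0 : constantCoeff (Rf h) = 0 := by
      have := hR 0 (by simp)
      simpa using this
    have hhi : ∀ i, h i = ∑ j, C (c j i) * rdiv j (Rf h) := by
      intro i
      conv_lhs => rw [← hh]
    calc ∑ i, (∑ l, C (Q i l + Q l i) * X l) * h i
        = ∑ i, (∑ l, C (Q i l + Q l i) * X l) * ∑ j, C (c j i) * rdiv j (Rf h) := by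
          refine Finset.sum_congr rfl fun i _ => ?_
          rw [← hhi i]
      _ = Rf h := sum_L_mul_D Q c hc _ h0
  rw [hkey, hRf]
  ring

end Groth.Agent.Lib.Helper8.Morse
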