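import Mathlib
import Groth.Agent.Lib.Helper8.Morse7

set_option backward.isDefEq.respectTransparency.types false
set_option autoImplicit false
set_option linter.unusedSectionVars false
set_option linter.style.haveILetI false

namespace Groth.Agent.Lib.Helper8.Morse

open MvPowerSeries

variable {A : Type*} [CommRing A] {n : ℕ}

lemma Ord_X_add {m : ℕ} (hm : 1 ≤ m) {h : Fin n → MvPowerSeries (Fin n) A}
    (hh : ∀ i, Ord m (h i)) (i : Fin n) : Ord 1 (X i + h i) :=
  (Ord_X i).add ((hh i).mono hm)

/-- substituting `x + h` changes a series only in higher order. -/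
lemma subst_sub_self_ord_succ {m : ℕ} (hm : 2 ≤ m) {h : Fin n → MvPowerSeries (Fin n) A}
    (hh : ∀ i, Ord m (h i)) {s : ℕ} {u : MvPowerSeries (Fin n) A} (hu : Ord (s + 1) u) :
    Ord (s + 2) (subst (fun i => X i + h i) u - u) := by
  have h1 := subst_cong (N := m) (s := s) (Ord_X_add (by omega) hh) (fun i => Ord_X i)
    (fun i => by
      unfold Cong
      have : X i + h i - X i = h i := by ring
      rw [this]; exact hh i) hu
  have h2 : subst (fun i => (X i : MvPowerSeries (Fin n) A)) u = u := by
    have := subst_self (σ := Fin n) (R := A)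
    exact congrFun this u
  unfold Cong at h1
  rw [h2] at h1
  exact h1.mono (by omega)

lemma subst_sub_self_ord {m : ℕ} (hm : 2 ≤ m) {h : Fin n → MvPowerSeries (Fin n) A}
    (hh : ∀ i, Ord m (h i)) {N : ℕ} {u : MvPowerSeries (Fin n) A} (hu : Ord N u) :
    Ord (N + 1) (subst (fun i => X i + h i) u - u) := by
  have hs : HasSubst (fun i => X i + h i) := hasSubst_of_ord (Ord_X_add (by omega) hh)
  cases N with
  | zero =>
    have e1 : u = C (constantCoeff u) + (u - C (constantCoeff u)) := by ring
    have e2 : subst (fun i => X i + h i) u - u =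
        subst (fun i => X i + h i) (u - C (constantCoeff u)) - (u - C (constantCoeff u)) := by
      conv_lhs => rw [e1]
      rw [subst_add hs, subst_C]
      ring
    rw [e2]
    exact (subst_sub_self_ord_succ hm hh (s := 0) (Ord_sub_C u)).mono (by omega)
  | succ s =>
    exact (subst_sub_self_ord_succ hm hh hu)

lemma eq_zero_of_forall_ord {u : MvPowerSeries (Fin n) A} (h : ∀ N, Ord N u) : u = 0 := by
  ext e
  rw [h (e.degree + 1) e (Nat.lt_succ_self _)]
  simp

/-- the substitution `x ↦ x + h` is an automorphism. -/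
theorem subst_bijective {m : ℕ} (hm : 2 ≤ m) {h : Fin n → MvPowerSeries (Fin n) A}
    (hh : ∀ i, Ord m (h i)) :
    Function.Bijective (substAlgHom (R := A)
      (hasSubst_of_ord (Ord_X_add (show 1 ≤ m by omega) hh))) := by
  set hs := hasSubst_of_ord (Ord_X_add (show 1 ≤ m by omega) hh) with hhs
  set θ := substAlgHom (R := A) hs with hθ
  have hθa : ∀ u, θ u = subst (fun i => X i + h i) u := fun u => substAlgHom_apply hs u
  constructor
  · rw [injective_iff_map_eq_zero]
    intro u hu
    apply eq_zero_of_forall_ord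
    intro N
    induction N with
    | zero => intro e he; exact absurd he (Nat.not_lt_zero _)
    | succ N ih =>
      have := subst_sub_self_ord hm hh ih
      rw [← hθa, hu, zero_sub] at this
      simpa using this.neg
  · intro w
    let T : (Unit → MvPowerSeries (Fin n) A) → (Unit → MvPowerSeries (Fin n) A) :=
      fun v _ => v () + w - θ (v ())
    have hT : ∀ N u v, (∀ i, Cong N (u i) (v i)) → ∀ i, Cong (N + 1) (T u i) (T v i) := by
      intro N u v huv i
      have h1 : Ord N (u () - v ()) := huv ()
      have h2 := subst_sub_self_ord hm hh h1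
      unfold Cong
      have e1 : T u i - T v i = -(subst (fun i => X i + h i) (u () - v ()) - (u () - v ())) := by
        simp only [T]
        rw [← hθa, map_sub]
        ring
      rw [e1]
      exact h2.neg
    obtain ⟨v, hv⟩ := exists_fixed T hT
    refine ⟨v (), ?_⟩
    have := congrFun hv ()
    simp only [T] at this
    have h3 : v () + w - θ (v ()) = v () := this
    have : w - θ (v ()) = 0 := by
      have := sub_eq_zero.2 h3
      rw [← this]; ring
    exact (sub_eq_zero.1 this).symm

lemma subst_qq (Q : Fin n → Fin n → A) {a : Fin n → MvPowerSeries (Fin n) A} (ha : HasSubst a) :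
    subst a (qq Q (fun i => (X i : MvPowerSeries (Fin n) A))) = qq Q a := by
  unfold qq
  rw [← substAlgHom_apply ha]
  simp only [map_sum, map_mul, substAlgHom_X]
  refine Finset.sum_congr rfl fun i _ => Finset.sum_congr rfl fun j _ => ?_
  congr 2
  rw [substAlgHom_apply, subst_C]

/-- the formal Morse lemma with substitution, over any commutative ring. -/
theorem morse_subst (Q c : Fin n → Fin n → A)
    (hc : ∀ j l, ∑ i, c j i * (Q i l + Q l i) = if j = l then 1 else 0)
    (m : ℕ) (hm : 2 ≤ m) (a : A) (F : MvPowerSeries (Fin n) A)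
    (hF : Ord (m + 1) (F - (qq Q (fun i => X i) + C a))) :
    ∃ h : Fin n → MvPowerSeries (Fin n) A,
      (∀ i, Ord m (h i)) ∧ HasSubst (fun i => X i + h i) ∧
      subst (fun i => X i + h i) F = qq Q (fun i => X i) + C a ∧
      Nonempty ((MvPowerSeries (Fin n) A ⧸ Ideal.span {F}) ≃ₐ[A]
        (MvPowerSeries (Fin n) A ⧸ Ideal.span {qq Q (fun i => X i) + C a})) := by
  obtain ⟨h, hh, hmain⟩ := morse_subst_core Q c hc m hm _ hF
  have hs : HasSubst (fun i => X i + h i) := hasSubst_of_ord (Ord_X_add (by omega) hh)
  have hsub : subst (fun i => X i + h i) F = qq Q (fun i => X i) + C a := by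
    have e1 : F = qq Q (fun i => X i) + C a + (F - (qq Q (fun i => X i) + C a)) := by ring
    conv_lhs => rw [e1]
    rw [subst_add hs, subst_add hs, subst_qq Q hs, subst_C]
    linear_combination hmain
  refine ⟨h, hh, hs, hsub, ?_⟩
  let θ : MvPowerSeries (Fin n) A ≃ₐ[A] MvPowerSeries (Fin n) A :=
    AlgEquiv.ofBijective (substAlgHom (R := A)
      (hasSubst_of_ord (Ord_X_add (show 1 ≤ m by omega) hh))) (subst_bijective hm hh)
  refine ⟨Ideal.quotientEquivAlg _ _ θ ?_⟩
  rw [Ideal.map_span, Set.image_singleton]
  congr 2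
  have h5 : (θ : MvPowerSeries (Fin n) A →+* MvPowerSeries (Fin n) A) F =
      subst (fun i => X i + h i) F :=
    substAlgHom_apply (hasSubst_of_ord (Ord_X_add (show 1 ≤ m by omega) hh)) F
  rw [h5, hsub]

end Groth.Agent.Lib.Helper8.Morse
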