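import Mathlib
import Groth.Prelude.Def_QuadSing
import Groth.Agent.Lib.Helper8.Morse8

set_option backward.isDefEq.respectTransparency.types false
set_option autoImplicit false
set_option linter.unusedSectionVars false
set_option linter.style.haveILetI false

universe u

namespace Groth.Agent.Lib.Helper8.Morse

open MvPowerSeries

variable {A : Type u} [CommRing A] {n : ℕ}

/-- upper-triangular coefficient table. -/
def upQ (q : Fin n → Fin n → A) : Fin n → Fin n → A := fun i j => if i ≤ j then q i j else 0

lemma upQ_gram (q : Fin n → Fin n → A) (i l : Fin n) :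
    upQ q i l + upQ q l i = VanCyc.polarMatrix q i l := by
  unfold upQ VanCyc.polarMatrix
  rcases lt_trichotomy i l with h | h | h
  · rw [if_pos h.le, if_neg (not_le.2 h), if_neg (ne_of_lt h), if_pos h, add_zero]
  · subst h; simp; ring
  · rw [if_neg (not_le.2 h), if_pos h.le, if_neg (ne_of_gt h), if_neg (not_lt.2 h.le), zero_add]

lemma coe_quadPoly (q : Fin n → Fin n → A) :
    ((VanCyc.quadPoly q : MvPolynomial (Fin n) A) : MvPowerSeries (Fin n) A) =
      qq (upQ q) (fun i => X i) := by
  unfold VanCyc.quadPoly qq upQ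
  rw [← MvPolynomial.coeToMvPowerSeries.ringHom_apply, map_sum]
  refine Finset.sum_congr rfl fun i _ => ?_
  rw [map_sum]
  refine Finset.sum_congr rfl fun j _ => ?_
  rw [MvPolynomial.coeToMvPowerSeries.ringHom_apply]
  split_ifs
  · simp
  · simp

theorem main_subst (m : ℕ) (hm : 2 ≤ m)
    (q : Fin n → Fin n → A) (hq : VanCyc.QuadNondeg q) (a : A)
    (F : MvPowerSeries (Fin n) A)
    (hF : ∀ e : Fin n →₀ ℕ, e.degree ≤ m →
      MvPowerSeries.coeff e F = MvPowerSeries.coeff e
        ((VanCyc.quadPoly q + MvPolynomial.C a : MvPolynomial (Fin n) A) :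
          MvPowerSeries (Fin n) A)) :
    ∃ h : Fin n → MvPowerSeries (Fin n) A,
      (∀ (i : Fin n) (e : Fin n →₀ ℕ), e.degree < m → MvPowerSeries.coeff e (h i) = 0) ∧
      MvPowerSeries.HasSubst (fun i => MvPowerSeries.X i + h i) ∧
      MvPowerSeries.subst (fun i => MvPowerSeries.X i + h i) F =
        ((VanCyc.quadPoly q + MvPolynomial.C a : MvPolynomial (Fin n) A) :
          MvPowerSeries (Fin n) A) ∧
      Nonempty ((MvPowerSeries (Fin n) A ⧸ Ideal.span {F}) ≃ₐ[A]
        (MvPowerSeries (Fin n) A ⧸ Ideal.span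
          {((VanCyc.quadPoly q + MvPolynomial.C a : MvPolynomial (Fin n) A) :
            MvPowerSeries (Fin n) A)})) := by
  have hG : ((VanCyc.quadPoly q + MvPolynomial.C a : MvPolynomial (Fin n) A) :
      MvPowerSeries (Fin n) A) = qq (upQ q) (fun i => X i) + C a := by
    rw [MvPolynomial.coe_add, coe_quadPoly, MvPolynomial.coe_C]
  rw [hG] at hF ⊢
  have hdet : IsUnit (VanCyc.polarMatrix q).det := hq
  let c : Fin n → Fin n → A := fun j i => (VanCyc.polarMatrix q)⁻¹ j i
  have hc : ∀ j l, ∑ i, c j i * (upQ q i l + upQ q l i) = if j = l then 1 else 0 := by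
    intro j l
    have h1 := Matrix.nonsing_inv_mul (VanCyc.polarMatrix q) hdet
    have h2 := congrFun (congrFun h1 j) l
    rw [Matrix.mul_apply, Matrix.one_apply] at h2
    rw [← h2]
    refine Finset.sum_congr rfl fun i _ => ?_
    rw [upQ_gram]
  have hF' : Ord (m + 1) (F - (qq (upQ q) (fun i => X i) + C a)) := by
    intro e he
    rw [map_sub, hF e (by omega), sub_self]
  exact morse_subst (upQ q) c hc m hm a F hF'

end Groth.Agent.Lib.Helper8.Morse
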