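import Mathlib
import Groth.Agent.Lib.Helper8.Morse9

set_option backward.isDefEq.respectTransparency.types false
set_option synthInstance.maxHeartbeats 400000
set_option autoImplicit false
set_option linter.unusedSectionVars false
set_option linter.style.haveILetI false

namespace Groth.Agent.Lib.Helper8.MO1

universe u

open MvPowerSeries Groth.Agent.Lib.Helper8.Morse

section LA

variable {k : Type u} [Field k] {N : ℕ} (Q : Fin N → Fin N → k)

/-- value of the quadratic form -/
def qf (v : Fin N → k) : k := ∑ a, ∑ b, Q a b * v a * v b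

/-- polar matrix -/
def pol : Matrix (Fin N) (Fin N) k := fun i l => Q i l + Q l i

lemma pol_symm (i l : Fin N) : pol Q i l = pol Q l i := by
  unfold pol; ring

lemma qf_sub_smul (w v : Fin N → k) (r : k) :
    qf Q (fun a => w a - r * v a) =
      qf Q w + r ^ 2 * qf Q v - r * ∑ i, w i * ∑ l, pol Q i l * v l := by
  unfold qf pol
  have h1 : ∑ i, w i * ∑ l, (Q i l + Q l i) * v l =
      ∑ a, ∑ b, (Q a b * w a * v b + Q a b * v a * w b) := by
    have h2 : ∑ i, w i * ∑ l, (Q i l + Q l i) * v l =
        ∑ a, ∑ b, Q a b * w a * v b + ∑ a, ∑ b, Q b a * w a * v b := by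
      rw [← Finset.sum_add_distrib]
      refine Finset.sum_congr rfl fun a _ => ?_
      rw [Finset.mul_sum, ← Finset.sum_add_distrib]
      refine Finset.sum_congr rfl fun b _ => ?_
      ring
    rw [h2, Finset.sum_comm (f := fun a b => Q b a * w a * v b), ← Finset.sum_add_distrib]
    refine Finset.sum_congr rfl fun a _ => ?_
    rw [← Finset.sum_add_distrib]
    refine Finset.sum_congr rfl fun b _ => ?_
    ring
  rw [h1, Finset.mul_sum, Finset.mul_sum, ← Finset.sum_add_distrib, ← Finset.sum_sub_distrib]
  refine Finset.sum_congr rfl fun a _ => ?_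
  rw [Finset.mul_sum, Finset.mul_sum, ← Finset.sum_add_distrib, ← Finset.sum_sub_distrib]
  refine Finset.sum_congr rfl fun b _ => ?_
  ring

variable [IsAlgClosed k]

/-- the kernel of the polar matrix of an ordinary form is spanned by any of its nonzero vectors -/
lemma ker_pol (hord : ∀ v : Fin N → k, qf Q v = 0 → (∀ i, ∑ l, pol Q i l * v l = 0) → v = 0)
    (v : Fin N → k) (hPv : ∀ i, ∑ l, pol Q i l * v l = 0) (hqv : qf Q v ≠ 0)
    (w : Fin N → k) (hPw : ∀ i, ∑ l, pol Q i l * w l = 0) : ∃ r : k, w = fun a => r * v a := by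
  obtain ⟨r, hr⟩ := IsAlgClosed.exists_pow_nat_eq (-(qf Q w) / qf Q v) (n := 2) (by norm_num)
  refine ⟨r, ?_⟩
  have hu : (fun a => w a - r * v a) = 0 := by
    apply hord
    · rw [qf_sub_smul, hr]
      have : ∑ i, w i * ∑ l, pol Q i l * v l = 0 :=
        Finset.sum_eq_zero fun i _ => by rw [hPv i, mul_zero]
      rw [this]
      field_simp
      ring
    · intro i
      have : ∑ l, pol Q i l * (w l - r * v l) =
          ∑ l, pol Q i l * w l - r * ∑ l, pol Q i l * v l := by
        rw [Finset.mul_sum, ← Finset.sum_sub_distrib]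
        refine Finset.sum_congr rfl fun l _ => ?_
        ring
      rw [this, hPw i, hPv i, mul_zero, sub_zero]
  funext a
  have := congrFun hu a
  simp only [Pi.zero_apply] at this
  exact sub_eq_zero.mp this

theorem exists_cst
    (hord : ∀ v : Fin N → k, qf Q v = 0 → (∀ i, ∑ l, pol Q i l * v l = 0) → v = 0) :
    ∃ (c : Fin N → Fin N → k) (s t : Fin N → k),
      (∀ j l, (if j = l then (1 : k) else 0) = ∑ i, c j i * pol Q i l + s j * t l) ∧
      (∀ i, ∑ l, pol Q i l * s l = 0) ∧
      (s = 0 ∨ qf Q s ≠ 0) := by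
  classical
  by_cases hdet : (pol Q).det = 0
  · -- degenerate polar form
    obtain ⟨v, hv0, hPv⟩ := Matrix.exists_mulVec_eq_zero_iff.mpr hdet
    have hPv' : ∀ i, ∑ l, pol Q i l * v l = 0 := fun i => congrFun hPv i
    have hqv : qf Q v ≠ 0 := fun h => hv0 (hord v h hPv')
    obtain ⟨i₀, hi₀⟩ : ∃ i₀, v i₀ ≠ 0 := by
      by_contra h
      push Not at h
      exact hv0 (funext h)
    let t : Fin N → k := fun l => if l = i₀ then (v i₀)⁻¹ else 0
    have htv : ∑ l, v l * t l = 1 := by
      rw [Finset.sum_eq_single i₀]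
      · simp only [t, if_true]
        exact mul_inv_cancel₀ hi₀
      · intro b _ hb
        simp only [t, if_neg hb, mul_zero]
      · intro h; exact absurd (Finset.mem_univ _) h
    -- the functional
    let ψ : (Fin N → k) →ₗ[k] k :=
      { toFun := fun w => ∑ l, v l * w l
        map_add' := fun x y => by
          simp only [Pi.add_apply, mul_add, Finset.sum_add_distrib]
        map_smul' := fun r x => by
          simp only [Pi.smul_apply, smul_eq_mul, RingHom.id_apply, Finset.mul_sum]
          refine Finset.sum_congr rfl fun l _ => ?_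
          ring }
    have hψ : ∀ w, ψ w = ∑ l, v l * w l := fun w => rfl
    have hψsurj : Function.Surjective ψ := by
      intro y
      refine ⟨fun l => y * t l, ?_⟩
      rw [hψ]
      have : ∑ l, v l * (y * t l) = y * ∑ l, v l * t l := by
        rw [Finset.mul_sum]
        refine Finset.sum_congr rfl fun l _ => ?_
        ring
      rw [this, htv, mul_one]
    have hker : LinearMap.ker (pol Q).mulVecLin = Submodule.span k {v} := by
      apply le_antisymm
      · intro w hw
        have hw' : ∀ i, ∑ l, pol Q i l * w l = 0 := fun i => congrFun (LinearMap.mem_ker.mp hw) i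
        obtain ⟨r, rfl⟩ := ker_pol Q hord v hPv' hqv w hw'
        rw [Submodule.mem_span_singleton]
        exact ⟨r, funext fun a => rfl⟩
      · rw [Submodule.span_le, Set.singleton_subset_iff]
        exact LinearMap.mem_ker.mpr hPv
    have h1 : Module.finrank k (LinearMap.ker (pol Q).mulVecLin) = 1 := by
      rw [hker, finrank_span_singleton hv0]
    have h2 := LinearMap.finrank_range_add_finrank_ker (pol Q).mulVecLin
    have h3 := LinearMap.finrank_range_add_finrank_ker ψ
    have h4 : Module.finrank k (LinearMap.range ψ) = 1 := by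
      rw [LinearMap.range_eq_top.mpr hψsurj, finrank_top, Module.finrank_self]
    have hle : LinearMap.range (pol Q).mulVecLin ≤ LinearMap.ker ψ := by
      rintro _ ⟨x, rfl⟩
      rw [LinearMap.mem_ker, hψ]
      have : ∑ l, v l * ((pol Q).mulVecLin x) l = ∑ i, x i * ∑ l, pol Q i l * v l := by
        simp only [Matrix.mulVecLin_apply, Matrix.mulVec, dotProduct, Finset.mul_sum]
        rw [Finset.sum_comm]
        refine Finset.sum_congr rfl fun i _ => Finset.sum_congr rfl fun l _ => ?_
        rw [pol_symm Q l i]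
        ring
      rw [this]
      exact Finset.sum_eq_zero fun i _ => by rw [hPv' i, mul_zero]
    have heq : LinearMap.range (pol Q).mulVecLin = LinearMap.ker ψ := by
      apply Submodule.eq_of_le_of_finrank_eq hle
      omega
    have hc : ∀ j, ∃ cj : Fin N → k, ∀ l, ∑ i, cj i * pol Q i l =
        (if j = l then (1 : k) else 0) - v j * t l := by
      intro j
      have hmem : (fun l => (if j = l then (1 : k) else 0) - v j * t l) ∈
          LinearMap.range (pol Q).mulVecLin := by
        rw [heq, LinearMap.mem_ker, hψ]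
        have : ∑ l, v l * ((if j = l then (1 : k) else 0) - v j * t l) =
            ∑ l, v l * (if j = l then (1 : k) else 0) - v j * ∑ l, v l * t l := by
          rw [Finset.mul_sum, ← Finset.sum_sub_distrib]
          refine Finset.sum_congr rfl fun l _ => ?_
          ring
        rw [this, htv, mul_one]
        simp
      obtain ⟨cj, hcj⟩ := hmem
      refine ⟨cj, fun l => ?_⟩
      have := congrFun hcj l
      simp only [Matrix.mulVecLin_apply, Matrix.mulVec, dotProduct] at this
      rw [← this]
      refine Finset.sum_congr rfl fun i _ => ?_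
      rw [pol_symm Q l i]
      ring
    choose c hc using hc
    refine ⟨c, v, t, fun j l => ?_, hPv', Or.inr hqv⟩
    rw [hc j l]
    ring
  · -- nondegenerate
    have hu : IsUnit (pol Q).det := isUnit_iff_ne_zero.mpr hdet
    refine ⟨fun j i => (pol Q)⁻¹ j i, 0, 0, fun j l => ?_, fun i => by simp, Or.inl rfl⟩
    have h1 := Matrix.nonsing_inv_mul (pol Q) hu
    have h2 := congrFun (congrFun h1 j) l
    rw [Matrix.mul_apply, Matrix.one_apply] at h2
    simp only [Pi.zero_apply, mul_zero, add_zero]
    rw [← h2]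

end LA

section Ideal

variable {k : Type u} [Field k] {N : ℕ} (Q : Fin N → Fin N → k)

/-- the linear forms `∂Q/∂x_i` -/
noncomputable def Lf (i : Fin N) : MvPowerSeries (Fin N) k := ∑ l, C (Q i l + Q l i) * X l

/-- the quadratic form as a series -/
noncomputable def Qx : MvPowerSeries (Fin N) k := qq Q (fun i => X i)

/-- membership in `m²·(L) + m·Q` -/
def InI (R : MvPowerSeries (Fin N) k) : Prop :=
  ∃ (Aₓ : Fin N → MvPowerSeries (Fin N) k) (Bₓ : MvPowerSeries (Fin N) k),
    (∀ i, Ord 2 (Aₓ i)) ∧ Ord 1 Bₓ ∧ R = ∑ i, Lf Q i * Aₓ i + Bₓ * Qx Q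

variable {Q}

lemma InI.zero : InI Q 0 :=
  ⟨0, 0, fun _ => Ord.zero _, Ord.zero _, by simp⟩

lemma InI.add {R R' : MvPowerSeries (Fin N) k} (h : InI Q R) (h' : InI Q R') : InI Q (R + R') := by
  obtain ⟨A1, B1, hA1, hB1, rfl⟩ := h
  obtain ⟨A2, B2, hA2, hB2, rfl⟩ := h'
  refine ⟨fun i => A1 i + A2 i, B1 + B2, fun i => (hA1 i).add (hA2 i), hB1.add hB2, ?_⟩
  simp only [mul_add, add_mul, Finset.sum_add_distrib]
  ring

lemma InI.mul_left (g : MvPowerSeries (Fin N) k) {R : MvPowerSeries (Fin N) k} (h : InI Q R) :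
    InI Q (g * R) := by
  obtain ⟨A1, B1, hA1, hB1, rfl⟩ := h
  refine ⟨fun i => g * A1 i, g * B1, fun i => Ord.mul_left _ (hA1 i), Ord.mul_left _ hB1, ?_⟩
  rw [mul_add, Finset.mul_sum]
  congr 1
  · refine Finset.sum_congr rfl fun i _ => ?_
    ring
  · ring

lemma InI.sum {ι : Type*} (t : Finset ι) {R : ι → MvPowerSeries (Fin N) k}
    (h : ∀ i ∈ t, InI Q (R i)) : InI Q (∑ i ∈ t, R i) := by
  classical
  induction t using Finset.induction_on with
  | empty => simpa using InI.zero
  | insert a t ha ih =>
    rw [Finset.sum_insert ha]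
    exact (h a (Finset.mem_insert_self a t)).add
      (ih fun i hi => h i (Finset.mem_insert_of_mem hi))

lemma inI_L (i : Fin N) (g : MvPowerSeries (Fin N) k) (hg : Ord 2 g) : InI Q (Lf Q i * g) := by
  classical
  refine ⟨fun i' => if i' = i then g else 0, 0, fun i' => ?_, Ord.zero _, ?_⟩
  · by_cases h : i' = i
    · simp only [if_pos h]; exact hg
    · simp only [if_neg h]; exact Ord.zero _
  · rw [zero_mul, add_zero, Finset.sum_eq_single i]
    · simp only [if_true]
    · intro b _ hb
      simp only [if_neg hb, mul_zero]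
    · intro h; exact absurd (Finset.mem_univ _) h

lemma inI_Q (g : MvPowerSeries (Fin N) k) (hg : Ord 1 g) : InI Q (g * Qx Q) :=
  ⟨0, g, fun _ => Ord.zero _, hg, by simp⟩

lemma Ord_Lf (i : Fin N) : Ord 1 (Lf Q i) :=
  Ord.sum _ fun l _ => Ord.mul_left _ (Ord_X l)

end Ideal

section Star

variable {k : Type u} [Field k] [IsAlgClosed k] {N : ℕ} (Q : Fin N → Fin N → k)

lemma InI.neg {Q : Fin N → Fin N → k} {R : MvPowerSeries (Fin N) k} (h : InI Q R) :
    InI Q (-R) := by
  have := h.mul_left (-1)
  simpa using this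

lemma InI.sub {Q : Fin N → Fin N → k} {R R' : MvPowerSeries (Fin N) k} (h : InI Q R)
    (h' : InI Q R') : InI Q (R - R') := by
  rw [sub_eq_add_neg]
  exact h.add h'.neg

/-- every cubic monomial lies in `m²·(∂Q) + m·Q` for an ordinary quadratic form `Q`. -/
theorem cubic_inI
    (hord : ∀ v : Fin N → k, qf Q v = 0 → (∀ i, ∑ l, pol Q i l * v l = 0) → v = 0)
    (j k' l : Fin N) : InI Q (X j * X k' * X l) := by
  classical
  obtain ⟨c, s, t, hid, hPs, hs⟩ := exists_cst Q hord
  obtain ⟨T, hT⟩ : ∃ T : MvPowerSeries (Fin N) k, T = ∑ l, C (t l) * X l := ⟨_, rfl⟩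
  obtain ⟨Y, hY⟩ : ∃ Y : Fin N → MvPowerSeries (Fin N) k, Y = fun j => ∑ i, C (c j i) * Lf Q i :=
    ⟨_, rfl⟩
  have hOrdT : Ord 1 T := by
    rw [hT]; exact Ord.sum _ fun l _ => Ord.mul_left _ (Ord_X l)
  have hOrdY : ∀ j, Ord 1 (Y j) := by
    intro j; rw [hY]; exact Ord.sum _ fun i _ => Ord.mul_left _ (Ord_Lf i)
  have hX : ∀ j, (X j : MvPowerSeries (Fin N) k) = Y j + C (s j) * T := by
    intro j
    have h1 : Y j + C (s j) * T = ∑ l, C (∑ i, c j i * pol Q i l + s j * t l) * X l := by
      rw [hY, hT]
      simp only [Lf, Finset.mul_sum]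
      rw [Finset.sum_comm, ← Finset.sum_add_distrib]
      refine Finset.sum_congr rfl fun l _ => ?_
      rw [map_add, map_sum, add_mul, Finset.sum_mul, map_mul]
      congr 1
      · refine Finset.sum_congr rfl fun i _ => ?_
        rw [map_mul]
        unfold pol
        ring
      · ring
    rw [h1]
    have h2 : ∀ l, (∑ i, c j i * pol Q i l + s j * t l) = if j = l then (1 : k) else 0 :=
      fun l => (hid j l).symm
    simp only [h2]
    rw [Finset.sum_eq_single j]
    · rw [if_pos rfl, map_one, one_mul]
    · intro b _ hb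
      rw [if_neg (Ne.symm hb), map_zero, zero_mul]
    · intro h; exact absurd (Finset.mem_univ _) h
  have inI_Y : ∀ (l : Fin N) (g : MvPowerSeries (Fin N) k), Ord 2 g → InI Q (Y l * g) := by
    intro l g hg
    rw [hY]
    simp only
    rw [Finset.sum_mul]
    refine InI.sum _ fun i _ => ?_
    rw [mul_assoc]
    exact (inI_L i g hg).mul_left _
  have hT3 : InI Q (C (s j * s k' * s l) * (T * T * T)) := by
    rcases hs with hs0 | hq
    · rw [hs0]
      simp only [Pi.zero_apply, mul_zero, map_zero, zero_mul]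
      exact InI.zero
    · refine InI.mul_left _ ?_
      have hQx : Qx Q = qq Q Y + ∑ i, (∑ l, C (Q i l + Q l i) * Y l) * (C (s i) * T) +
          qq Q (fun a => C (s a) * T) := by
        unfold Qx
        have : (fun i => (X i : MvPowerSeries (Fin N) k)) = fun a => Y a + C (s a) * T :=
          funext hX
        rw [this]
        exact qq_add Q Y _
      have hqq : qq Q (fun a => C (s a) * T) = C (qf Q s) * (T * T) := by
        unfold qq qf
        rw [map_sum, Finset.sum_mul]
        refine Finset.sum_congr rfl fun a _ => ?_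
        rw [map_sum, Finset.sum_mul]
        refine Finset.sum_congr rfl fun b _ => ?_
        rw [map_mul, map_mul]
        ring
      rw [hqq] at hQx
      have h3 : T * T * T = C (qf Q s)⁻¹ * (T * Qx Q - T * qq Q Y -
          T * ∑ i, (∑ l, C (Q i l + Q l i) * Y l) * (C (s i) * T)) := by
        rw [hQx]
        have hcc : C (qf Q s)⁻¹ * C (qf Q s) = (1 : MvPowerSeries (Fin N) k) := by
          rw [← map_mul, inv_mul_cancel₀ hq, map_one]
        have : C (qf Q s)⁻¹ * (T * (qq Q Y + ∑ i, (∑ l, C (Q i l + Q l i) * Y l) * (C (s i) * T) +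
            C (qf Q s) * (T * T)) - T * qq Q Y -
            T * ∑ i, (∑ l, C (Q i l + Q l i) * Y l) * (C (s i) * T)) =
            (C (qf Q s)⁻¹ * C (qf Q s)) * (T * T * T) := by ring
        rw [this, hcc, one_mul]
      rw [h3]
      refine InI.mul_left _ (InI.sub (InI.sub (inI_Q T hOrdT) ?_) ?_)
      · unfold qq
        rw [Finset.mul_sum]
        refine InI.sum _ fun a _ => ?_
        rw [Finset.mul_sum]
        refine InI.sum _ fun b _ => ?_
        have : T * (C (Q a b) * Y a * Y b) = C (Q a b) * (Y a * (T * Y b)) := by ring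
        rw [this]
        exact (inI_Y a _ (hOrdT.mul (hOrdY b))).mul_left _
      · rw [Finset.mul_sum]
        refine InI.sum _ fun i _ => ?_
        rw [Finset.sum_mul, Finset.mul_sum]
        refine InI.sum _ fun l' _ => ?_
        have : T * (C (Q i l' + Q l' i) * Y l' * (C (s i) * T)) =
            (C (Q i l' + Q l' i) * C (s i)) * (Y l' * (T * T)) := by ring
        rw [this]
        exact (inI_Y l' _ (hOrdT.mul hOrdT)).mul_left _
  have key : (X j * X k' * X l : MvPowerSeries (Fin N) k) =
      Y j * (X k' * X l) + C (s j) * (Y k' * (T * X l)) +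
        C (s j) * C (s k') * (Y l * (T * T)) + C (s j * s k' * s l) * (T * T * T) := by
    have e1 : (X j * X k' * X l : MvPowerSeries (Fin N) k) =
        (Y j + C (s j) * T) * X k' * X l := by rw [← hX j]
    have e2 : (T * X k' * X l : MvPowerSeries (Fin N) k) =
        T * (Y k' + C (s k') * T) * X l := by rw [← hX k']
    have e3 : (T * T * X l : MvPowerSeries (Fin N) k) = T * T * (Y l + C (s l) * T) := by
      rw [← hX l]
    rw [e1, map_mul, map_mul]
    calc (Y j + C (s j) * T) * X k' * X l
        = Y j * (X k' * X l) + C (s j) * (T * X k' * X l) := by ring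
      _ = Y j * (X k' * X l) + C (s j) * (T * (Y k' + C (s k') * T) * X l) := by rw [e2]
      _ = Y j * (X k' * X l) + C (s j) * (Y k' * (T * X l)) +
            C (s j) * C (s k') * (T * T * X l) := by ring
      _ = Y j * (X k' * X l) + C (s j) * (Y k' * (T * X l)) +
            C (s j) * C (s k') * (T * T * (Y l + C (s l) * T)) := by rw [e3]
      _ = _ := by ring
  rw [key]
  refine InI.add (InI.add (InI.add ?_ ?_) ?_) hT3
  · exact inI_Y j _ ((Ord_X k').mul (Ord_X l))
  · exact (inI_Y k' _ (hOrdT.mul (Ord_X l))).mul_left _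
  · exact (inI_Y l _ (hOrdT.mul hOrdT)).mul_left _

end Star

end Groth.Agent.Lib.Helper8.MO1
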