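import Mathlib
import Groth.Agent.Lib.Helper8.MO1

set_option backward.isDefEq.respectTransparency.types false
set_option synthInstance.maxHeartbeats 400000
set_option autoImplicit false
set_option linter.unusedSectionVars false
set_option linter.style.haveILetI false

namespace Groth.Agent.Lib.Helper8.MO2

universe u

open MvPowerSeries Groth.Agent.Lib.Helper8.Morse Groth.Agent.Lib.Helper8.MO1

section Gen

variable {A : Type*} [CommRing A] {n : ℕ}

lemma constantCoeff_of_ord {s : ℕ} {u : MvPowerSeries (Fin n) A} (h : Ord (s + 1) u) :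
    constantCoeff u = 0 := by
  have := h 0 (by simp)
  simpa using this

/-- decomposition of a series of order `≥ 3` along cubic monomials. -/
lemma triple_decomp (R : MvPowerSeries (Fin n) A) (hR : Ord 3 R) :
    R = ∑ j, ∑ k', ∑ l, X j * X k' * X l * rdiv l (rdiv k' (rdiv j R)) := by
  have h1 : ∑ j, X j * rdiv j R = R := sum_X_mul_rdiv R (constantCoeff_of_ord (s := 2) hR)
  have h2 : ∀ j, ∑ k', X k' * rdiv k' (rdiv j R) = rdiv j R := fun j =>
    sum_X_mul_rdiv _ (constantCoeff_of_ord (s := 1) (Ord.rdiv (s := 2) hR j))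
  have h3 : ∀ j k', ∑ l, X l * rdiv l (rdiv k' (rdiv j R)) = rdiv k' (rdiv j R) := fun j k' =>
    sum_X_mul_rdiv _ (constantCoeff_of_ord (s := 0)
      (Ord.rdiv (s := 1) (Ord.rdiv (s := 2) hR j) k'))
  conv_lhs => rw [← h1]
  refine Finset.sum_congr rfl fun j _ => ?_
  conv_lhs => rw [← h2 j]
  rw [Finset.mul_sum]
  refine Finset.sum_congr rfl fun k' _ => ?_
  conv_lhs => rw [← h3 j k']
  rw [Finset.mul_sum, Finset.mul_sum]
  refine Finset.sum_congr rfl fun l _ => ?_
  ring

lemma Cong.mul_ord {M s : ℕ} {a b w : MvPowerSeries (Fin n) A} (hw : Ord s w)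
    (h : Cong M a b) : Cong (s + M) (w * a) (w * b) := by
  unfold Cong at *
  rw [← mul_sub]
  exact hw.mul h

end Gen

section Main

variable {k : Type u} [Field k] [IsAlgClosed k] {N : ℕ} (Q : Fin N → Fin N → k)

/-- the formal Morse lemma up to contact equivalence, for ordinary quadratic forms. -/
theorem contact_morse
    (hord : ∀ v : Fin N → k, qf Q v = 0 → (∀ i, ∑ l, pol Q i l * v l = 0) → v = 0)
    (E : MvPowerSeries (Fin N) k) (hE : Ord 3 E) :
    ∃ (h : Fin N → MvPowerSeries (Fin N) k) (ε : MvPowerSeries (Fin N) k),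
      (∀ i, Ord 2 (h i)) ∧ Ord 1 ε ∧
      subst (fun a => X a + h a) (Qx Q + E) = (1 - ε) * Qx Q := by
  classical
  have hc := fun j k' l => cubic_inI Q hord j k' l
  choose Aₓ Bₓ hA hB hAB using hc
  have hX1 : ∀ (u : Fin N → MvPowerSeries (Fin N) k) (i : Fin N), Ord 1 (X i + tauN 2 (u i)) :=
    fun u i => (Ord_X i).add ((Ord_tauN 2 (u i)).mono (by omega))
  let Rf : (Fin N → MvPowerSeries (Fin N) k) → MvPowerSeries (Fin N) k := fun u =>
    -(qq Q (fun a => tauN 2 (u a)) + subst (fun a => X a + tauN 2 (u a)) E)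
  let T : (Fin N → MvPowerSeries (Fin N) k) → (Fin N → MvPowerSeries (Fin N) k) :=
    fun u i => ∑ j, ∑ k', ∑ l, Aₓ j k' l i * rdiv l (rdiv k' (rdiv j (Rf u)))
  have hTord : ∀ u i, Ord 2 (T u i) := by
    intro u i
    exact Ord.sum _ fun j _ => Ord.sum _ fun k' _ => Ord.sum _ fun l _ =>
      Ord.mul_right (hA j k' l i) _
  have hT : ∀ M u v, (∀ i, Cong M (u i) (v i)) → ∀ i, Cong (M + 1) (T u i) (T v i) := by
    intro M u v huv i
    rcases Nat.eq_zero_or_pos M with hM | hM
    · subst hM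
      unfold Cong
      exact ((hTord u i).sub (hTord v i)).mono (by omega)
    obtain ⟨M', rfl⟩ : ∃ M', M = M' + 1 := ⟨M - 1, by omega⟩
    have h1 : Cong (M' + 1 + 2) (qq Q (fun a => tauN 2 (u a))) (qq Q (fun a => tauN 2 (v a))) :=
      qq_cong Q (fun a => (huv a).tauN 2) (fun a => Ord_tauN 2 _) (fun a => Ord_tauN 2 _)
    have h2 : Cong (M' + 1 + 2) (subst (fun a => X a + tauN 2 (u a)) E)
        (subst (fun a => X a + tauN 2 (v a)) E) :=
      subst_cong (N := M' + 1) (s := 2) (hX1 u) (hX1 v)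
        (fun i => Cong.add (Cong.refl _ _) ((huv i).tauN 2)) hE
    have h3 : Cong (M' + 1 + 2) (Rf u) (Rf v) := by
      have h3 := Cong.add h1 h2
      unfold Cong at h3 ⊢
      have e1 : Rf u - Rf v = -((qq Q (fun a => tauN 2 (u a)) +
          subst (fun a => X a + tauN 2 (u a)) E) - (qq Q (fun a => tauN 2 (v a)) +
          subst (fun a => X a + tauN 2 (v a)) E)) := by
        simp only [Rf]; ring
      rw [e1]
      exact h3.neg
    refine Cong.sum _ fun j _ => Cong.sum _ fun k' _ => Cong.sum _ fun l _ => ?_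
    have h4 : Cong M' (rdiv l (rdiv k' (rdiv j (Rf u)))) (rdiv l (rdiv k' (rdiv j (Rf v)))) :=
      Cong.rdiv (Cong.rdiv (Cong.rdiv h3 j) k') l
    exact (Cong.mul_ord (hA j k' l i) h4).mono (by omega)
  obtain ⟨h, hh⟩ := exists_fixed T hT
  have hord2 : ∀ i, Ord 2 (h i) := by
    intro i
    rw [← hh]
    exact hTord h i
  have htau : (fun a => tauN 2 (h a)) = h := funext fun a => tauN_eq_self (hord2 a)
  have hRf : Rf h = -(qq Q h + subst (fun a => X a + h a) E) := by
    simp only [Rf]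
    rw [htau]
    have : (fun a => X a + tauN 2 (h a)) = fun a => X a + h a :=
      funext fun a => by rw [tauN_eq_self (hord2 a)]
    rw [this]
  have hR : Ord 3 (Rf h) := by
    rw [hRf]
    refine Ord.neg (Ord.add ?_ ?_)
    · exact (qq_ord Q hord2).mono (by omega)
    · exact subst_ord (Ord_X_add (by omega) hord2) hE
  obtain ⟨ε, hε⟩ : ∃ ε : MvPowerSeries (Fin N) k,
      ε = ∑ j, ∑ k', ∑ l, Bₓ j k' l * rdiv l (rdiv k' (rdiv j (Rf h))) := ⟨_, rfl⟩
  have hεord : Ord 1 ε := by
    rw [hε]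
    exact Ord.sum _ fun j _ => Ord.sum _ fun k' _ => Ord.sum _ fun l _ =>
      Ord.mul_right (hB j k' l) _
  have hhi : ∀ i, h i = ∑ j, ∑ k', ∑ l, Aₓ j k' l i * rdiv l (rdiv k' (rdiv j (Rf h))) := by
    intro i
    conv_lhs => rw [← hh]
  have hkey : ∑ i, Lf Q i * h i + ε * Qx Q = Rf h := by
    conv_rhs => rw [triple_decomp (Rf h) hR]
    have e1 : ∑ i, Lf Q i * h i =
        ∑ j, ∑ k', ∑ l, (∑ i, Lf Q i * Aₓ j k' l i) * rdiv l (rdiv k' (rdiv j (Rf h))) := by
      calc ∑ i, Lf Q i * h i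
          = ∑ i, ∑ j, ∑ k', ∑ l, Lf Q i * Aₓ j k' l i * rdiv l (rdiv k' (rdiv j (Rf h))) := by
            refine Finset.sum_congr rfl fun i _ => ?_
            rw [hhi i, Finset.mul_sum]
            refine Finset.sum_congr rfl fun j _ => ?_
            rw [Finset.mul_sum]
            refine Finset.sum_congr rfl fun k' _ => ?_
            rw [Finset.mul_sum]
            refine Finset.sum_congr rfl fun l _ => ?_
            ring
        _ = ∑ j, ∑ i, ∑ k', ∑ l, Lf Q i * Aₓ j k' l i * rdiv l (rdiv k' (rdiv j (Rf h))) :=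
            Finset.sum_comm
        _ = ∑ j, ∑ k', ∑ i, ∑ l, Lf Q i * Aₓ j k' l i * rdiv l (rdiv k' (rdiv j (Rf h))) := by
            refine Finset.sum_congr rfl fun j _ => ?_
            exact Finset.sum_comm
        _ = ∑ j, ∑ k', ∑ l, ∑ i, Lf Q i * Aₓ j k' l i * rdiv l (rdiv k' (rdiv j (Rf h))) := by
            refine Finset.sum_congr rfl fun j _ => Finset.sum_congr rfl fun k' _ => ?_
            exact Finset.sum_comm
        _ = _ := by
            refine Finset.sum_congr rfl fun j _ => Finset.sum_congr rfl fun k' _ =>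
              Finset.sum_congr rfl fun l _ => ?_
            rw [Finset.sum_mul]
    have e2 : ε * Qx Q =
        ∑ j, ∑ k', ∑ l, (Bₓ j k' l * Qx Q) * rdiv l (rdiv k' (rdiv j (Rf h))) := by
      rw [hε, Finset.sum_mul]
      refine Finset.sum_congr rfl fun j _ => ?_
      rw [Finset.sum_mul]
      refine Finset.sum_congr rfl fun k' _ => ?_
      rw [Finset.sum_mul]
      refine Finset.sum_congr rfl fun l _ => ?_
      ring
    rw [e1, e2, ← Finset.sum_add_distrib]
    refine Finset.sum_congr rfl fun j _ => ?_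
    rw [← Finset.sum_add_distrib]
    refine Finset.sum_congr rfl fun k' _ => ?_
    rw [← Finset.sum_add_distrib]
    refine Finset.sum_congr rfl fun l _ => ?_
    rw [hAB j k' l]
    ring
  refine ⟨h, ε, hord2, hεord, ?_⟩
  have hs : HasSubst (fun i => X i + h i) := hasSubst_of_ord (Ord_X_add (by omega) hord2)
  have hq : qq Q (fun a => X a + h a) = Qx Q + ∑ i, Lf Q i * h i + qq Q h := by
    rw [qq_add]
    rfl
  unfold Qx at hq ⊢
  rw [subst_add hs, subst_qq Q hs, hq]
  unfold Qx at hkey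
  linear_combination hkey + hRf

/-- contact-equivalent quotient rings. -/
theorem quot_equiv
    (hord : ∀ v : Fin N → k, qf Q v = 0 → (∀ i, ∑ l, pol Q i l * v l = 0) → v = 0)
    (E : MvPowerSeries (Fin N) k) (hE : Ord 3 E) :
    Nonempty ((MvPowerSeries (Fin N) k ⧸ Ideal.span {Qx Q + E}) ≃ₐ[k]
      (MvPowerSeries (Fin N) k ⧸ Ideal.span {Qx Q})) := by
  obtain ⟨h, ε, hh, hε, hmain⟩ := contact_morse Q hord E hE
  let θ : MvPowerSeries (Fin N) k ≃ₐ[k] MvPowerSeries (Fin N) k :=
    AlgEquiv.ofBijective (substAlgHom (R := k)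
      (hasSubst_of_ord (Ord_X_add (show 1 ≤ 2 by omega) hh))) (subst_bijective (le_refl 2) hh)
  refine ⟨Ideal.quotientEquivAlg _ _ θ ?_⟩
  rw [Ideal.map_span, Set.image_singleton]
  have h5 : (θ : MvPowerSeries (Fin N) k →+* MvPowerSeries (Fin N) k) (Qx Q + E) =
      subst (fun i => X i + h i) (Qx Q + E) :=
    substAlgHom_apply (hasSubst_of_ord (Ord_X_add (show 1 ≤ 2 by omega) hh)) _
  rw [h5, hmain]
  have hu : IsUnit (1 - ε) := by
    rw [MvPowerSeries.isUnit_iff_constantCoeff]
    have : constantCoeff ε = 0 := constantCoeff_of_ord (s := 0) hε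
    rw [map_sub, map_one, this, sub_zero]
    exact isUnit_one
  exact (Ideal.span_singleton_mul_left_unit hu (Qx Q)).symm

end Main

end Groth.Agent.Lib.Helper8.MO2
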