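import Mathlib
import Groth.Prelude.Def_QuadSing
import Groth.Agent.Lib.Helper8.MO2

set_option backward.isDefEq.respectTransparency.types false
set_option synthInstance.maxHeartbeats 400000
set_option autoImplicit false
set_option linter.unusedSectionVars false
set_option linter.style.haveILetI false

namespace Groth.Agent.Lib.Helper8.MO3

universe u

open MvPowerSeries Groth.Agent.Lib.Helper8.Morse Groth.Agent.Lib.Helper8.MO1

section Gen

variable {A : Type u} [CommRing A] {n : ℕ}

/-- a series without terms of degree `≤ 1` is its quadratic part up to order `3`. -/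
lemma quad_decomp (f : MvPowerSeries (Fin n) A) (h0 : constantCoeff f = 0)
    (h1 : ∀ j, coeff (Finsupp.single j 1) f = 0) :
    Ord 3 (f - qq (upQ (VanCyc.quadPart f)) (fun a => X a)) := by
  classical
  have hfj : ∀ j, constantCoeff (rdiv j f) = 0 := by
    intro j
    have : constantCoeff (rdiv j f) = coeff 0 (rdiv j f) := by simp
    rw [this, coeff_rdiv, if_pos (fun l _ => by simp), zero_add, h1]
  let Q : Fin n → Fin n → A := fun j l => constantCoeff (rdiv l (rdiv j f))
  let g : MvPowerSeries (Fin n) A :=
    ∑ j, ∑ l, X j * X l * (rdiv l (rdiv j f) - C (Q j l))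
  have hg : Ord 3 g := by
    refine Ord.sum _ fun j _ => Ord.sum _ fun l _ => ?_
    exact ((Ord_X j).mul (Ord_X l)).mul (Ord_sub_C _)
  have hfg : f = qq Q (fun a => X a) + g := by
    have e1 : f = ∑ j, X j * rdiv j f := (sum_X_mul_rdiv f h0).symm
    have e2 : ∀ j, rdiv j f = ∑ l, X l * rdiv l (rdiv j f) :=
      fun j => (sum_X_mul_rdiv (rdiv j f) (hfj j)).symm
    conv_lhs => rw [e1]
    unfold qq
    simp only [g]
    rw [← Finset.sum_add_distrib]
    refine Finset.sum_congr rfl fun j _ => ?_
    conv_lhs => rw [e2 j]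
    rw [Finset.mul_sum, ← Finset.sum_add_distrib]
    refine Finset.sum_congr rfl fun l _ => ?_
    ring
  have hQ : Q = upQ (VanCyc.quadPart f) := by
    funext j l
    have e0 : constantCoeff (rdiv l (rdiv j f)) = coeff 0 (rdiv l (rdiv j f)) := by simp
    simp only [Q]
    rw [e0, coeff_rdiv, if_pos (fun l' _ => by simp), zero_add, coeff_rdiv]
    unfold upQ VanCyc.quadPart
    by_cases hjl : j ≤ l
    · rw [if_pos hjl]
      have hc : ∀ l', l' < j → (Finsupp.single l 1 : Fin n →₀ ℕ) l' = 0 := by
        intro l' hl'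
        rw [Finsupp.single_apply, if_neg]
        intro h
        subst h
        exact absurd hl' (not_lt.2 hjl)
      rw [if_pos hc]
      by_cases hjl' : j = l
      · subst hjl'
        rw [if_pos rfl, ← Finsupp.single_add]
      · rw [if_neg hjl', if_pos (lt_of_le_of_ne hjl hjl'), add_comm]
    · rw [if_neg hjl]
      have hc : ¬ ∀ l', l' < j → (Finsupp.single l 1 : Fin n →₀ ℕ) l' = 0 := by
        intro h
        have := h l (not_le.1 hjl)
        rw [Finsupp.single_eq_same] at this
        exact one_ne_zero this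
      rw [if_neg hc]
  rw [← hQ]
  have : f - qq Q (fun a => X a) = g := by
    conv_lhs => rw [hfg]
    ring
  rw [this]
  exact hg

end Gen

section Main

variable {k : Type u} [Field k] [IsAlgClosed k] {N : ℕ}

lemma qf_upQ (q : Fin N → Fin N → k) (v : Fin N → k) :
    qf (upQ q) v = VanCyc.quadEval q v := by
  unfold qf upQ VanCyc.quadEval
  refine Finset.sum_congr rfl fun a _ => Finset.sum_congr rfl fun b _ => ?_
  split_ifs
  · rfl
  · simp

lemma hord_of_quadOrd (q : Fin N → Fin N → k) (hq : VanCyc.QuadOrd q) :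
    ∀ v : Fin N → k, qf (upQ q) v = 0 → (∀ i, ∑ l, pol (upQ q) i l * v l = 0) → v = 0 := by
  intro v h1 h2
  apply hq v
  · rw [← qf_upQ]; exact h1
  · funext i
    have := h2 i
    simp only [Matrix.mulVec, dotProduct, Pi.zero_apply]
    rw [← this]
    refine Finset.sum_congr rfl fun l _ => ?_
    unfold pol
    rw [upQ_gram]

/-- the formal Morse lemma for ordinary quadratic series. -/
theorem main (f : MvPowerSeries (Fin N) k) (hf : VanCyc.OrdQuadSeries f) :
    Nonempty ((MvPowerSeries (Fin N) k ⧸ Ideal.span {f}) ≃ₐ[k]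
      (MvPowerSeries (Fin N) k ⧸ Ideal.span
        {((VanCyc.quadPoly (VanCyc.quadPart f) : MvPolynomial (Fin N) k) :
          MvPowerSeries (Fin N) k)})) := by
  obtain ⟨⟨h0, h1⟩, hq⟩ := hf
  have hE := quad_decomp f h0 h1
  have := MO2.quot_equiv (upQ (VanCyc.quadPart f)) (hord_of_quadOrd _ hq) _ hE
  rw [coe_quadPoly]
  unfold Qx at this
  have e : qq (upQ (VanCyc.quadPart f)) (fun i => X i) +
      (f - qq (upQ (VanCyc.quadPart f)) (fun a => X a)) = f := by ring
  rw [e] at this
  exact this

end Main

end Groth.Agent.Lib.Helper8.MO3
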