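import Mathlib
import Groth.Prelude.Def_QuadSing
import Groth.Prelude.Def_Hensel
import Groth.Agent.Lib.Helper8.HQ1
import Groth.Agent.Lib.Helper8.CQ1
import Groth.Agent.Lib.Helper8.MO3

set_option backward.isDefEq.respectTransparency.types false
set_option synthInstance.maxHeartbeats 400000
set_option autoImplicit false
set_option linter.unusedSectionVars false
set_option linter.style.haveILetI false

namespace Groth.Agent.Lib.Helper8.HQ2

universe u

open IsLocalRing

/-- variant of `HQ1.core` with the completions compared through a third `k`-algebra. -/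
theorem core2 {k : Type u} [Field k]
    (O : Type u) [CommRing O] [IsLocalRing O] [Algebra k O] [Algebra.EssFiniteType k O]
    (Oh : Type u) [CommRing Oh] [IsLocalRing Oh] [Algebra O Oh] [IsLocalHom (algebraMap O Oh)]
    [Hensel.IsHenselization O Oh] [Algebra k Oh] [IsScalarTower k O Oh]
    (Cq : Type u) [CommRing Cq] [Algebra k Cq] [Algebra.FiniteType k Cq] (𝔮 : Ideal Cq) [𝔮.IsPrime]
    (OY : Type u) [CommRing OY] [IsLocalRing OY] [Algebra Cq OY] [IsLocalization.AtPrime OY 𝔮]
    [Algebra k OY] [IsScalarTower k Cq OY]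
    {D : Type u} [CommRing D] [Algebra k D]
    (φ₁ : AdicCompletion (maximalIdeal OY) OY ≃+* D)
    (hφ₁ : ∀ r : k, φ₁ (algebraMap OY (AdicCompletion (maximalIdeal OY) OY)
      (algebraMap Cq OY (algebraMap k Cq r))) = algebraMap k D r)
    (χ : AdicCompletion (maximalIdeal O) O ≃ₐ[k] D)
    (C : Type u) [CommRing C] [IsLocalRing C] [Algebra OY C] [IsLocalHom (algebraMap OY C)]
    [Hensel.IsHenselization OY C] [Algebra k C] [IsScalarTower k OY C] :
    Nonempty (Oh ≃ₐ[k] C) := by
  refine HQ1.core O Oh Cq 𝔮 OY (φ₁.trans χ.symm.toRingEquiv) (fun r => ?_) C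
  rw [IsScalarTower.algebraMap_apply k Cq OY, RingEquiv.trans_apply, hφ₁]
  exact χ.symm.commutes r

section Final

variable {k : Type u} [Field k] {N : ℕ}

lemma constantCoeff_quadPoly (a : Fin N → Fin N → k) :
    MvPolynomial.constantCoeff (VanCyc.quadPoly a - MvPolynomial.C 0) = 0 := by
  unfold VanCyc.quadPoly
  rw [map_sub, map_sum, MvPolynomial.constantCoeff_C, sub_zero]
  refine Finset.sum_eq_zero fun i _ => ?_
  rw [map_sum]
  refine Finset.sum_eq_zero fun j _ => ?_
  split_ifs
  · simp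
  · simp

lemma originQuot_eq (a : Fin N → Fin N → k) :
    VanCyc.originQuot k a 0 = (MvPolynomial.idealOfVars (Fin N) k).map
      (Ideal.Quotient.mk (Ideal.span {VanCyc.quadPoly a - MvPolynomial.C 0})) := by
  unfold VanCyc.originQuot VanCyc.originIdeal
  rw [IsLocalRing.maximalIdeal_eq_bot, Ideal.map_bot, bot_sup_eq]

lemma span_coe_eq (a : Fin N → Fin N → k) :
    Ideal.span {((VanCyc.quadPoly a : MvPolynomial (Fin N) k) : MvPowerSeries (Fin N) k)} =
      Ideal.span {((VanCyc.quadPoly a - MvPolynomial.C 0 : MvPolynomial (Fin N) k) :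
        MvPowerSeries (Fin N) k)} := by
  rw [map_zero, sub_zero]

theorem main4007 (k : Type u) [Field k] [IsAlgClosed k]
    (O : Type u) [CommRing O] [IsLocalRing O] [Algebra k O] [Algebra.EssFiniteType k O]
    (n : ℕ) (hq : VanCyc.IsOrdQuadSing k O n)
    (Oh : Type u) [CommRing Oh] [IsLocalRing Oh] [Algebra O Oh] [IsLocalHom (algebraMap O Oh)]
    [Hensel.IsHenselization O Oh] [Algebra k Oh] [IsScalarTower k O Oh] :
    ∃ a : Fin (n + 1) → Fin (n + 1) → k, VanCyc.QuadOrd a ∧
      ∀ [(VanCyc.originQuot k a 0).IsPrime] (C : Type u) [CommRing C] [IsLocalRing C]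
        [Algebra (Localization.AtPrime (VanCyc.originQuot k a 0)) C]
        [IsLocalHom (algebraMap (Localization.AtPrime (VanCyc.originQuot k a 0)) C)]
        [Hensel.IsHenselization (Localization.AtPrime (VanCyc.originQuot k a 0)) C]
        [Algebra k C] [IsScalarTower k (Localization.AtPrime (VanCyc.originQuot k a 0)) C],
        Nonempty (Oh ≃ₐ[k] C) := by
  obtain ⟨f, hf, ⟨ψ⟩⟩ := hq
  refine ⟨VanCyc.quadPart f, hf.2, ?_⟩
  intro inst C _ _ _ _ _ _ _
  obtain ⟨μ⟩ := MO3.main f hf
  obtain ⟨φ₁, hφ₁⟩ := CQ1.main (VanCyc.quadPoly (VanCyc.quadPart f) - MvPolynomial.C 0)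
    (Ideal.Quotient.mk (Ideal.span {VanCyc.quadPoly (VanCyc.quadPart f) - MvPolynomial.C 0}))
    Ideal.Quotient.mk_surjective Ideal.mk_ker
    (Ideal.Quotient.mk (Ideal.span
      {((VanCyc.quadPoly (VanCyc.quadPart f) : MvPolynomial (Fin (n + 1)) k) :
        MvPowerSeries (Fin (n + 1)) k)}))
    Ideal.Quotient.mk_surjective (Ideal.mk_ker.trans (span_coe_eq _))
    (constantCoeff_quadPoly _) (VanCyc.originQuot k (VanCyc.quadPart f) 0) (originQuot_eq _)
    (Localization.AtPrime (VanCyc.originQuot k (VanCyc.quadPart f) 0))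
  refine core2 O Oh (VanCyc.quadRing k (VanCyc.quadPart f) 0)
    (VanCyc.originQuot k (VanCyc.quadPart f) 0)
    (Localization.AtPrime (VanCyc.originQuot k (VanCyc.quadPart f) 0)) φ₁ (fun r => ?_)
    (ψ.trans μ) C
  have h1 := hφ₁ (MvPolynomial.C r)
  rw [MvPolynomial.coe_C] at h1
  exact h1

end Final

end Groth.Agent.Lib.Helper8.HQ2
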