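import Mathlib
set_option backward.isDefEq.respectTransparency.types false
set_option autoImplicit false

namespace Groth.Agent.Lib.Helper8.HesseL

open MvPolynomial Matrix

universe u

section Sub

variable {K : Type u} [Field K]

/-- Linear substitution `X_i ↦ Σ_j A_ij X_j`. -/
noncomputable def sub (A : Matrix (Fin 3) (Fin 3) K) :
    MvPolynomial (Fin 3) K →ₐ[K] MvPolynomial (Fin 3) K :=
  aeval (fun i : Fin 3 => ∑ j : Fin 3, C (A i j) * X j)

lemma sub_def (A : Matrix (Fin 3) (Fin 3) K) (f : MvPolynomial (Fin 3) K) :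
    sub A f = aeval (fun i : Fin 3 => ∑ j : Fin 3, C (A i j) * X j) f := rfl

lemma eval_sub (A : Matrix (Fin 3) (Fin 3) K) (f : MvPolynomial (Fin 3) K) (v : Fin 3 → K) :
    eval v (sub A f) = eval (A *ᵥ v) f := by
  rw [sub_def, aeval_def, eval_eval₂]
  congr 1
  · ext a; simp
  · funext i
    simp [Matrix.mulVec, dotProduct]

lemma sub_X (A : Matrix (Fin 3) (Fin 3) K) (i : Fin 3) :
    sub A (X i) = ∑ j : Fin 3, C (A i j) * X j := by
  simp [sub_def]

lemma sub_C (A : Matrix (Fin 3) (Fin 3) K) (c : K) : sub A (C c) = C c := by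
  simp [sub_def]

lemma pderiv_sub (A : Matrix (Fin 3) (Fin 3) K) (f : MvPolynomial (Fin 3) K) (q : Fin 3) :
    pderiv q (sub A f) = ∑ i : Fin 3, C (A i q) * sub A (pderiv i f) := by
  induction f using MvPolynomial.induction_on with
  | C a => simp [sub_C]
  | add f g hf hg =>
    simp only [map_add, hf, hg, mul_add, Finset.sum_add_distrib]
  | mul_X f i hf =>
    have hL : pderiv q (∑ j : Fin 3, C (A i j) * X j) = C (A i q) := by
      simp only [map_sum, Derivation.leibniz, pderiv_C, pderiv_X, smul_eq_mul, smul_zero, add_zero]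
      simp [Pi.single_apply]
    have hR : ∀ k : Fin 3, sub A (pderiv k (f * X i)) =
        sub A (pderiv k f) * (∑ j : Fin 3, C (A i j) * X j) +
          sub A f * (if i = k then 1 else 0) := by
      intro k
      rw [Derivation.leibniz, pderiv_X, smul_eq_mul, smul_eq_mul, map_add, map_mul, map_mul, sub_X,
        add_comm]
      congr 1
      · ring
      · by_cases hik : i = k
        · subst hik; simp
        · simp [hik, Ne.symm hik]
    rw [map_mul, sub_X, Derivation.leibniz, hL, smul_eq_mul, smul_eq_mul, hf]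
    simp only [hR, mul_add, Finset.sum_add_distrib]
    rw [add_comm]
    congr 1
    · rw [Finset.mul_sum]
      refine Finset.sum_congr rfl fun k _ => ?_
      ring
    · simp [Finset.sum_ite_eq, mul_comm]

lemma eq_of_eval [Infinite K] {f g : MvPolynomial (Fin 3) K} (h : ∀ v, eval v f = eval v g) : f = g :=
  MvPolynomial.funext h

lemma sub_sub [Infinite K] (A B : Matrix (Fin 3) (Fin 3) K) (f : MvPolynomial (Fin 3) K) :
    sub B (sub A f) = sub (A * B) f := by
  apply eq_of_eval
  intro v
  rw [eval_sub, eval_sub, eval_sub, Matrix.mulVec_mulVec]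

lemma sub_one [Infinite K] (f : MvPolynomial (Fin 3) K) : sub (1 : Matrix (Fin 3) (Fin 3) K) f = f := by
  apply eq_of_eval
  intro v
  rw [eval_sub, Matrix.one_mulVec]

lemma sub_isHomogeneous (A : Matrix (Fin 3) (Fin 3) K) {f : MvPolynomial (Fin 3) K} {n : ℕ}
    (hf : f.IsHomogeneous n) : (sub A f).IsHomogeneous n := by
  have h1 : ∀ i : Fin 3, (∑ j : Fin 3, C (A i j) * X j : MvPolynomial (Fin 3) K).IsHomogeneous 1 := by
    intro i
    refine IsHomogeneous.sum _ _ _ fun j _ => ?_
    exact (isHomogeneous_X K j).C_mul _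
  have := IsHomogeneous.aeval (S := K) hf (fun i : Fin 3 => ∑ j : Fin 3, C (A i j) * X j) h1
  simpa [sub_def] using this

/-- The plane curve of `f` is smooth. -/
def Smooth (f : MvPolynomial (Fin 3) K) : Prop :=
  ∀ v : Fin 3 → K, v ≠ 0 → eval v f = 0 → ∃ i : Fin 3, eval v (pderiv i f) ≠ 0

lemma mulVec_ne_zero {A : Matrix (Fin 3) (Fin 3) K} (hA : IsUnit A.det) {v : Fin 3 → K} (hv : v ≠ 0) :
    A *ᵥ v ≠ 0 := by
  intro h
  apply hv
  have := congrArg (fun w => A⁻¹ *ᵥ w) h
  simpa [Matrix.mulVec_mulVec, Matrix.nonsing_inv_mul _ hA] using this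

lemma smooth_sub {A : Matrix (Fin 3) (Fin 3) K} (hA : IsUnit A.det) {f : MvPolynomial (Fin 3) K}
    (hf : Smooth f) : Smooth (sub A f) := by
  intro v hv h0
  rw [eval_sub] at h0
  obtain ⟨i, hi⟩ := hf _ (mulVec_ne_zero hA hv) h0
  by_contra hne
  push Not at hne
  apply hi
  -- gradient relation
  have hg : ∀ q : Fin 3, ∑ k : Fin 3, A k q * eval (A *ᵥ v) (pderiv k f) = 0 := by
    intro q
    have := hne q
    rw [pderiv_sub] at this
    simpa [eval_sub] using this
  have h2 : Aᵀ *ᵥ (fun k => eval (A *ᵥ v) (pderiv k f)) = 0 := by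
    funext q
    simpa [Matrix.mulVec, dotProduct] using hg q
  have hAT : IsUnit Aᵀ.det := by rwa [Matrix.det_transpose]
  by_contra hi'
  exact mulVec_ne_zero hAT (v := fun k => eval (A *ᵥ v) (pderiv k f))
    (fun h => hi' (congrFun h i)) h2

end Sub

end Groth.Agent.Lib.Helper8.HesseL
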