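import Groth.Agent.Lib.Helper8.Hesse1
import Groth.Agent.Lib.Helper5.ProjDimThm
set_option backward.isDefEq.respectTransparency.types false
set_option autoImplicit false

namespace Groth.Agent.Lib.Helper8.HesseL

open MvPolynomial Matrix

abbrev V := Fin 3 → ℂ

/-- A symmetric trilinear polar form of a ternary cubic `f`. -/
structure Polar (f : MvPolynomial (Fin 3) ℂ) where
  T : V → V → V → ℂ
  add₁ : ∀ x x' y z, T (x + x') y z = T x y z + T x' y z
  smul₁ : ∀ (a : ℂ) x y z, T (a • x) y z = a * T x y z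
  swap₁₂ : ∀ x y z, T x y z = T y x z
  swap₂₃ : ∀ x y z, T x y z = T x z y
  diag : ∀ x, T x x x = eval x f
  deriv : ∀ x i, eval x (pderiv i f) = 3 * T x x (Pi.single i 1)
  deriv2 : ∀ x i j, eval x (pderiv i (pderiv j f)) = 6 * T x (Pi.single i 1) (Pi.single j 1)

theorem degree_succ {d : Fin 3 →₀ ℕ} {n : ℕ} (h : d.degree = n + 1) :
    ∃ i d', d = Finsupp.single i 1 + d' ∧ d'.degree = n := by
  have hd : d ≠ 0 := by
    rintro rfl
    simp at h
  obtain ⟨i, hi⟩ : ∃ i, d i ≠ 0 := by
    by_contra hcon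
    push Not at hcon
    exact hd (Finsupp.ext hcon)
  refine ⟨i, d - Finsupp.single i 1, ?_, ?_⟩
  · ext j
    by_cases hj : j = i
    · subst hj
      simp
      omega
    · simp [Ne.symm hj]
  · have h2 : d = Finsupp.single i 1 + (d - Finsupp.single i 1) := by
      ext j
      by_cases hj : j = i
      · subst hj
        simp
        omega
      · simp [Ne.symm hj]
    have h3 := congrArg Finsupp.degree h2
    rw [map_add, Finsupp.degree_single, h] at h3
    omega

theorem monomial_three {d : Fin 3 →₀ ℕ} (h : d.degree = 3) (r : ℂ) :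
    ∃ i j k : Fin 3, monomial d r = C r * X i * X j * X k := by
  obtain ⟨i, d1, rfl, h1⟩ := degree_succ h
  obtain ⟨j, d2, rfl, h2⟩ := degree_succ h1
  obtain ⟨k, d3, rfl, h3⟩ := degree_succ (n := 0) h2
  rw [Finsupp.degree_eq_zero_iff] at h3
  subst h3
  refine ⟨i, j, k, ?_⟩
  simp only [add_zero, X, C_apply, monomial_mul, mul_one]
  congr 1
  rw [zero_add, add_assoc]

noncomputable def polarMono (r : ℂ) (i j k : Fin 3) : Polar (C r * X i * X j * X k) where
  T x y z := r / 6 * (x i * y j * z k + x i * y k * z j + x j * y i * z k + x j * y k * z i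
    + x k * y i * z j + x k * y j * z i)
  add₁ x x' y z := by simp only [Pi.add_apply]; ring
  smul₁ a x y z := by simp only [Pi.smul_apply, smul_eq_mul]; ring
  swap₁₂ x y z := by ring
  swap₂₃ x y z := by ring
  diag x := by simp only [map_mul, eval_C, eval_X]; ring
  deriv x l := by
    simp only [Derivation.leibniz, pderiv_C, pderiv_X, smul_eq_mul, map_add,
      map_mul, eval_C, eval_X, Pi.single_apply]
    split_ifs <;> simp only [map_one, map_zero] <;> ring
  deriv2 x l m := by
    simp only [Derivation.leibniz, pderiv_C, pderiv_X, smul_eq_mul, map_add,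
      map_mul, eval_C, eval_X, Pi.single_apply, add_zero, mul_zero]
    split_ifs <;> simp <;> ring


noncomputable def polarZero : Polar (0 : MvPolynomial (Fin 3) ℂ) where
  T _ _ _ := 0
  add₁ := by simp
  smul₁ := by simp
  swap₁₂ := by simp
  swap₂₃ := by simp
  diag := by simp
  deriv := by simp
  deriv2 := by simp

noncomputable def polarAdd {f g : MvPolynomial (Fin 3) ℂ} (P : Polar f) (Q : Polar g) :
    Polar (f + g) where
  T x y z := P.T x y z + Q.T x y z
  add₁ x x' y z := by rw [P.add₁, Q.add₁]; ring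
  smul₁ a x y z := by rw [P.smul₁, Q.smul₁]; ring
  swap₁₂ x y z := by rw [P.swap₁₂, Q.swap₁₂]
  swap₂₃ x y z := by rw [P.swap₂₃, Q.swap₂₃]
  diag x := by rw [P.diag, Q.diag, map_add]
  deriv x i := by rw [map_add, map_add, P.deriv, Q.deriv]; ring
  deriv2 x i j := by rw [map_add, map_add, map_add, P.deriv2, Q.deriv2]; ring

theorem exists_polar {f : MvPolynomial (Fin 3) ℂ} (hf : f.IsHomogeneous 3) :
    Nonempty (Polar f) := by
  induction hf using IsWeightedHomogeneous.induction_on with
  | zero => exact ⟨polarZero⟩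
  | add p q hp hq ihp ihq => exact ⟨polarAdd ihp.some ihq.some⟩
  | monomial d r hr =>
    have h3 : d.degree = 3 := by rw [Finsupp.degree_eq_weight_one]; exact hr
    obtain ⟨i, j, k, h⟩ := monomial_three h3 r
    rw [h]
    exact ⟨polarMono r i j k⟩

namespace Polar

variable {f : MvPolynomial (Fin 3) ℂ} (P : Polar f)

lemma swap₁₃ (x y z : V) : P.T x y z = P.T z y x := by
  rw [P.swap₁₂ x y z, P.swap₂₃ y x z, P.swap₁₂ y z x]

lemma add₂ (x y y' z : V) : P.T x (y + y') z = P.T x y z + P.T x y' z := by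
  rw [P.swap₁₂, P.add₁, P.swap₁₂ y, P.swap₁₂ y']

lemma add₃ (x y z z' : V) : P.T x y (z + z') = P.T x y z + P.T x y z' := by
  rw [P.swap₁₃, P.add₁, P.swap₁₃ z, P.swap₁₃ z']

lemma smul₂ (a : ℂ) (x y z : V) : P.T x (a • y) z = a * P.T x y z := by
  rw [P.swap₁₂, P.smul₁, P.swap₁₂ y]

lemma smul₃ (a : ℂ) (x y z : V) : P.T x y (a • z) = a * P.T x y z := by
  rw [P.swap₁₃, P.smul₁, P.swap₁₃ z]

lemma zero₁ (y z : V) : P.T 0 y z = 0 := by
  have := P.smul₁ 0 0 y z
  simpa using this

lemma zero₂ (x z : V) : P.T x 0 z = 0 := by rw [P.swap₁₂, P.zero₁]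

lemma zero₃ (x y : V) : P.T x y 0 = 0 := by rw [P.swap₁₃, P.zero₁]

/-- `T a b ·` as a linear map. -/
noncomputable def lin (a b : V) : V →ₗ[ℂ] ℂ where
  toFun z := P.T a b z
  map_add' z z' := P.add₃ a b z z'
  map_smul' c z := by simp [P.smul₃]

@[simp] lemma lin_apply (a b z : V) : P.lin a b z = P.T a b z := rfl

lemma T_eq_sum (a b z : V) : P.T a b z = ∑ j : Fin 3, z j * P.T a b (Pi.single j 1) := by
  have := LinearMap.pi_apply_eq_sum_univ (P.lin a b) z
  rw [lin_apply] at this
  rw [this]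
  refine Finset.sum_congr rfl fun j _ => ?_
  rw [smul_eq_mul, lin_apply]
  congr 2
  funext k
  simp [Pi.single_apply, eq_comm]

/-- Expansion of `T (x + t y) (x + t y) z`. -/
lemma sq_add (x y z : V) (t : ℂ) :
    P.T (x + t • y) (x + t • y) z = P.T x x z + 2 * t * P.T x y z + t ^ 2 * P.T y y z := by
  simp only [P.add₁, P.add₂, P.smul₁, P.smul₂]
  rw [P.swap₁₂ y x z]
  ring

/-- Taylor expansion of the cubic along a line. -/
lemma cube_add (x y : V) (t : ℂ) :
    eval (x + t • y) f = eval x f + 3 * t * P.T x x y + 3 * t ^ 2 * P.T x y y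
      + t ^ 3 * eval y f := by
  rw [← P.diag, ← P.diag, ← P.diag]
  simp only [P.add₁, P.add₂, P.add₃, P.smul₁, P.smul₂, P.smul₃]
  rw [P.swap₂₃ x y x, P.swap₁₃ y x x, P.swap₁₂ y x y, P.swap₁₃ y y x]
  ring

include P in
lemma eval_smul (a : ℂ) (x : V) : eval (a • x) f = a ^ 3 * eval x f := by
  rw [← P.diag, ← P.diag]
  simp only [P.smul₁, P.smul₂, P.smul₃]
  ring

include P in
lemma eval_zero : eval (0 : V) f = 0 := by
  rw [← P.diag, P.zero₁]

end Polar

/-- determinant of a matrix of forms of degree `d` is a form of degree `card * d`. -/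
theorem det_isHomogeneous {R : Type*} [CommRing R] {τ : Type*} {ι : Type*} [Fintype ι]
    [DecidableEq ι] (M : Matrix ι ι (MvPolynomial τ R)) (d : ℕ)
    (hM : ∀ a b, (M a b).IsHomogeneous d) : (M.det).IsHomogeneous (Fintype.card ι * d) := by
  rw [Matrix.det_apply]
  refine IsHomogeneous.sum _ _ _ fun σ _ => ?_
  have hp : (∏ a, M (σ a) a).IsHomogeneous (Fintype.card ι * d) := by
    have := IsHomogeneous.prod Finset.univ (fun a => M (σ a) a) (fun _ => d) (fun a _ => hM _ _)
    simpa using this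
  rcases Int.units_eq_one_or (Equiv.Perm.sign σ) with h | h
  · rw [h, one_smul]; exact hp
  · rw [h, Units.neg_smul, one_smul]; exact hp.neg

/-- The Hessian polynomial. -/
noncomputable def hessian (f : MvPolynomial (Fin 3) ℂ) : MvPolynomial (Fin 3) ℂ :=
  Matrix.det (Matrix.of fun i j : Fin 3 => pderiv i (pderiv j f))

lemma hessian_isHomogeneous {f : MvPolynomial (Fin 3) ℂ} (hf : f.IsHomogeneous 3) :
    (hessian f).IsHomogeneous 3 := by
  have := det_isHomogeneous (Matrix.of fun i j : Fin 3 => pderiv i (pderiv j f)) 1 (by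
    intro a b
    simp only [Matrix.of_apply]
    exact (hf.pderiv).pderiv)
  simpa [hessian] using this

lemma eval_hessian (f : MvPolynomial (Fin 3) ℂ) (v : V) :
    eval v (hessian f) = Matrix.det (Matrix.of fun i j : Fin 3 => eval v (pderiv i (pderiv j f))) := by
  rw [hessian, RingHom.map_det]
  rfl

/-- A flex with its tangent direction, in polar terms. -/
theorem exists_flex {f : MvPolynomial (Fin 3) ℂ} (hf : f.IsHomogeneous 3) (P : Polar f)
    (hsm : Smooth f) :
    ∃ v u : V, LinearIndependent ℂ ![v, u] ∧ P.T v v v = 0 ∧ ∀ y, P.T v u y = 0 := by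
  obtain ⟨v, hv0, hv⟩ := Groth.Agent.Lib.Helper5.exists_ne_zero_forall_eval_eq_zero ℂ (m := 3)
    (ι := Fin 2) (by simp) ![f, hessian f] ![3, 3]
    (by intro j; fin_cases j <;> simp)
    (by intro j; fin_cases j
        · simpa using hf
        · simpa using hessian_isHomogeneous hf)
  have hfv : eval v f = 0 := by simpa using hv 0
  have hHv : eval v (hessian f) = 0 := by simpa using hv 1
  rw [eval_hessian] at hHv
  have hM : (Matrix.of fun i j : Fin 3 => P.T v (Pi.single i 1) (Pi.single j 1)).det = 0 := by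
    have : (Matrix.of fun i j : Fin 3 => eval v (pderiv i (pderiv j f))) =
        (6 : ℂ) • (Matrix.of fun i j : Fin 3 => P.T v (Pi.single i 1) (Pi.single j 1)) := by
      ext i j
      simp [P.deriv2]
    rw [this, Matrix.det_smul] at hHv
    have h6 : ((6 : ℂ) ^ Fintype.card (Fin 3)) ≠ 0 := by norm_num
    exact (mul_eq_zero.mp hHv).resolve_left h6
  obtain ⟨u, hu0, hu⟩ := Matrix.exists_mulVec_eq_zero_iff.mpr hM
  have hvu : ∀ y, P.T v u y = 0 := by
    intro y
    rw [P.T_eq_sum]
    refine Finset.sum_eq_zero fun i _ => ?_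
    have := congrFun hu i
    simp only [Matrix.mulVec, dotProduct, Matrix.of_apply, Pi.zero_apply] at this
    rw [P.swap₂₃, P.T_eq_sum]
    rw [show ∑ j : Fin 3, u j * P.T v (Pi.single i 1) (Pi.single j 1) = 0 by
      rw [← this]; refine Finset.sum_congr rfl fun j _ => by ring]
    ring
  refine ⟨v, u, ?_, by rw [P.diag, hfv], hvu⟩
  rw [LinearIndependent.pair_iff' hv0]
  intro a ha
  -- u = a • v, then T v v · = 0 contradicting smoothness
  obtain ⟨i, hi⟩ := hsm v hv0 hfv
  apply hi
  rw [P.deriv]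
  have ha0 : a ≠ 0 := by
    rintro rfl
    apply hu0
    simpa using ha.symm
  have := hvu (Pi.single i 1)
  rw [← ha, P.smul₂] at this
  rw [(mul_eq_zero.mp this).resolve_left ha0, mul_zero]

end Groth.Agent.Lib.Helper8.HesseL
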