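import Groth.Agent.Lib.Helper8.Hesse2
import Groth.Prelude.Def_W4c5monodromycubicsHesse
set_option backward.isDefEq.respectTransparency.types false
set_option autoImplicit false

namespace Groth.Agent.Lib.Helper8.HesseL

open MvPolynomial Matrix

/-- Projective equivalence of ternary forms (up to a nonzero constant). -/
def Eqv (f g : MvPolynomial (Fin 3) ℂ) : Prop :=
  ∃ (A : Matrix (Fin 3) (Fin 3) ℂ) (c : ℂ), IsUnit A.det ∧ c ≠ 0 ∧ sub A f = C c * g

lemma Eqv.trans {f g h : MvPolynomial (Fin 3) ℂ} (h1 : Eqv f g) (h2 : Eqv g h) : Eqv f h := by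
  obtain ⟨A, c, hA, hc, h1⟩ := h1
  obtain ⟨B, d, hB, hd, h2⟩ := h2
  refine ⟨A * B, c * d, ?_, mul_ne_zero hc hd, ?_⟩
  · rw [Matrix.det_mul]; exact hA.mul hB
  · rw [← sub_sub, h1, map_mul, sub_C, h2, C_mul, mul_assoc]

lemma Eqv.symm {f g : MvPolynomial (Fin 3) ℂ} (h1 : Eqv f g) : Eqv g f := by
  obtain ⟨A, c, hA, hc, h1⟩ := h1
  refine ⟨A⁻¹, c⁻¹, ?_, inv_ne_zero hc, ?_⟩
  · rw [Matrix.det_nonsing_inv]; exact (Ring.inverse_unit hA.unit).symm ▸ hA.unit⁻¹.isUnit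
  · have h2 : sub A⁻¹ (sub A f) = f := by
      rw [sub_sub, Matrix.mul_nonsing_inv _ hA, sub_one]
    rw [h1, map_mul, sub_C] at h2
    rw [← h2, ← mul_assoc, ← C_mul, inv_mul_cancel₀ hc, C_1, one_mul]

lemma smooth_of_C_mul {c : ℂ} (hc : c ≠ 0) {g : MvPolynomial (Fin 3) ℂ} (h : Smooth (C c * g)) :
    Smooth g := by
  intro v hv h0
  obtain ⟨i, hi⟩ := h v hv (by rw [map_mul, h0, mul_zero])
  refine ⟨i, ?_⟩
  intro h1
  apply hi
  rw [Derivation.leibniz, pderiv_C]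
  simp [h1]

lemma Eqv.smooth {f g : MvPolynomial (Fin 3) ℂ} (h1 : Eqv f g) (hf : Smooth f) : Smooth g := by
  obtain ⟨A, c, hA, hc, h1⟩ := h1
  have := smooth_sub hA hf
  rw [h1] at this
  exact smooth_of_C_mul hc this

/-- matrix with columns `u v w`. -/
def colMat (u v w : V) : Matrix (Fin 3) (Fin 3) ℂ := Matrix.of fun i j => ![u, v, w] j i

lemma colMat_mulVec (u v w x : V) : colMat u v w *ᵥ x = x 0 • u + x 1 • v + x 2 • w := by
  funext i
  simp [colMat, Matrix.mulVec, dotProduct, Fin.sum_univ_three]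
  ring

lemma det_colMat (u v w : V) : (colMat u v w).det = Matrix.det ![u, v, w] := by
  rw [← Matrix.det_transpose]
  rfl

namespace Polar

variable {f : MvPolynomial (Fin 3) ℂ} (P : Polar f)

lemma p231 (a b c : V) : P.T a b c = P.T b c a := by
  rw [P.swap₁₂ a b c, P.swap₂₃ b a c]

lemma p312 (a b c : V) : P.T a b c = P.T c a b := by
  rw [P.swap₂₃ a b c, P.swap₁₂ a c b]

lemma eval_flex_basis (u v w : V) (hvvv : P.T v v v = 0) (hvu : ∀ y, P.T v u y = 0) (x : V) :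
    eval (x 0 • u + x 1 • v + x 2 • w) f = P.T u u u * x 0 ^ 3 + 3 * P.T u u w * x 0 ^ 2 * x 2
      + 3 * P.T v v w * x 1 ^ 2 * x 2 + 3 * P.T u w w * x 0 * x 2 ^ 2
      + 3 * P.T v w w * x 1 * x 2 ^ 2 + P.T w w w * x 2 ^ 3 := by
  rw [← P.diag]
  simp only [P.add₁, P.add₂, P.add₃, P.smul₁, P.smul₂, P.smul₃]
  have e1 : P.T u v u = 0 := by rw [P.swap₁₂]; exact hvu u
  have e2 : P.T v u u = 0 := hvu u
  have e3 : P.T u u v = 0 := by rw [P.p312]; exact hvu u
  have e4 : P.T v u v = 0 := hvu v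
  have e5 : P.T v v u = 0 := by rw [P.swap₂₃]; exact hvu v
  have e6 : P.T u v v = 0 := by rw [P.swap₁₂]; exact hvu v
  have e7 : P.T v u w = 0 := hvu w
  have e8 : P.T u v w = 0 := by rw [P.swap₁₂]; exact hvu w
  have e9 : P.T v w u = 0 := by rw [P.swap₂₃]; exact hvu w
  have e10 : P.T u w v = 0 := by rw [P.p312]; exact hvu w
  have e11 : P.T w u v = 0 := by rw [P.swap₁₃]; exact hvu w
  have e12 : P.T w v u = 0 := by rw [P.swap₁₃]; exact e8
  rw [e1, e2, e3, e4, e5, e6, e7, e8, e9, e10, e11, e12, hvvv]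
  rw [P.swap₂₃ u w u, P.swap₁₃ w u u, P.swap₁₂ w u w, P.swap₁₃ w w u, P.swap₂₃ v w v,
    P.swap₁₃ w v v, P.swap₁₂ w v w, P.swap₁₃ w w v]
  ring


lemma T_eq_zero_of_basis (p q u v w : V) (hdet : IsUnit (colMat u v w).det)
    (hu : P.T p q u = 0) (hv : P.T p q v = 0) (hw : P.T p q w = 0) (y : V) : P.T p q y = 0 := by
  have : y = colMat u v w *ᵥ ((colMat u v w)⁻¹ *ᵥ y) := by
    rw [Matrix.mulVec_mulVec, Matrix.mul_nonsing_inv _ hdet, Matrix.one_mulVec]
  rw [this, colMat_mulVec]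
  simp only [P.add₃, P.smul₃, hu, hv, hw]
  ring

include P in
lemma not_singular (hsm : Smooth f) {p : V} (hp : p ≠ 0) (h : ∀ y, P.T p p y = 0) : False := by
  obtain ⟨i, hi⟩ := hsm p hp (by rw [← P.diag, h])
  apply hi
  rw [P.deriv, h, mul_zero]

end Polar

/-- six-coefficient normal form of a cubic with a flex at `(0,1,0)` and flex tangent `X₂ = 0`. -/
noncomputable def six (a c h f i j : ℂ) : MvPolynomial (Fin 3) ℂ :=
  C a * X 0 ^ 3 + C c * X 0 ^ 2 * X 2 + C h * X 1 ^ 2 * X 2 + C f * X 0 * X 2 ^ 2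
    + C i * X 1 * X 2 ^ 2 + C j * X 2 ^ 3

theorem stageA {f : MvPolynomial (Fin 3) ℂ} (hf : f.IsHomogeneous 3) (hsm : Smooth f) :
    ∃ a c h f' i j : ℂ, a ≠ 0 ∧ h ≠ 0 ∧ Eqv f (six a c h f' i j) := by
  obtain ⟨P⟩ := exists_polar hf
  obtain ⟨v, u, hlin, hvvv, hvu⟩ := exists_flex hf P hsm
  have hc := crossProduct_ne_zero_iff_linearIndependent.mpr hlin
  obtain ⟨k, hk⟩ := Function.ne_iff.mp hc
  set w : V := Pi.single k 1 with hw
  have hdet : (colMat u v w).det = -(crossProduct v u) k := by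
    rw [det_colMat, Matrix.det_fin_three]
    fin_cases k <;> simp [w, cross_apply, Pi.single_apply] <;> ring
  have hdet' : IsUnit (colMat u v w).det := by
    rw [hdet, isUnit_iff_ne_zero]
    simpa using hk
  have hv0 : v ≠ 0 := by
    have := hlin.ne_zero 0
    simpa using this
  have e5 : P.T v v u = 0 := by rw [P.swap₂₃]; exact hvu v
  have e6 : P.T u v v = 0 := by rw [P.swap₁₂]; exact hvu v
  have e1 : P.T u v u = 0 := by rw [P.swap₁₂]; exact hvu u
  have e3 : P.T u u v = 0 := by rw [P.p312]; exact hvu u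
  have e8 : P.T u v w = 0 := by rw [P.swap₁₂]; exact hvu w
  have hh : P.T v v w ≠ 0 := by
    intro h0
    exact P.not_singular hsm hv0 (P.T_eq_zero_of_basis v v u v w hdet' e5 hvvv h0)
  have ha : P.T u u u ≠ 0 := by
    intro h0
    obtain ⟨s, hs⟩ := IsAlgClosed.exists_pow_nat_eq (-(P.T u u w) / P.T v v w) (n := 2) (by norm_num)
    have hp0 : u + s • v ≠ 0 := by
      intro h
      have := (LinearIndependent.pair_iff.mp hlin) s 1 (by rw [one_smul, add_comm]; exact h)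
      exact one_ne_zero this.2
    refine P.not_singular hsm hp0 (P.T_eq_zero_of_basis _ _ u v w hdet' ?_ ?_ ?_)
    · rw [P.sq_add, h0, e1, e5]; ring
    · rw [P.sq_add, e3, e6, hvvv]; ring
    · rw [P.sq_add, e8, hs]; field_simp; ring
  refine ⟨P.T u u u, 3 * P.T u u w, 3 * P.T v v w, 3 * P.T u w w, 3 * P.T v w w, P.T w w w, ha,
    mul_ne_zero (by norm_num) hh, colMat u v w, 1, hdet', one_ne_zero, ?_⟩
  apply eq_of_eval
  intro x
  rw [eval_sub, colMat_mulVec, P.eval_flex_basis u v w hvvv hvu]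
  simp only [six, map_add, map_mul, map_pow, eval_C, eval_X]
  ring

end Groth.Agent.Lib.Helper8.HesseL
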