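import Groth.Agent.Lib.Helper8.Hesse3
set_option backward.isDefEq.respectTransparency.types false
set_option autoImplicit false

namespace Groth.Agent.Lib.Helper8.HesseL

open MvPolynomial Matrix

/-- Weierstrass form. -/
noncomputable def W (p q : ℂ) : MvPolynomial (Fin 3) ℂ :=
  X 1 ^ 2 * X 2 - X 0 ^ 3 - C p * X 0 * X 2 ^ 2 - C q * X 2 ^ 3

/-- triangle form `abc - μ (a+b+c)^3`. -/
noncomputable def G (μ : ℂ) : MvPolynomial (Fin 3) ℂ :=
  X 0 * X 1 * X 2 - C μ * (X 0 + X 1 + X 2) ^ 3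

theorem stageB (a c h f i j : ℂ) (ha : a ≠ 0) (hh : h ≠ 0) :
    ∃ p q : ℂ, Eqv (six a c h f i j) (W p q) := by
  obtain ⟨ρ, hρ⟩ := IsAlgClosed.exists_pow_nat_eq (-a / h) (n := 2) (by norm_num)
  have hρ' : h * ρ ^ 2 = -a := by rw [hρ]; field_simp
  have hρ0 : ρ ≠ 0 := by
    rintro rfl
    apply ha
    simpa using hρ'.symm
  obtain ⟨α, hα⟩ : ∃ α : ℂ, 3 * a * α + c = 0 := ⟨-c / (3 * a), by field_simp; ring⟩
  obtain ⟨β, hβ⟩ : ∃ β : ℂ, 2 * h * β + i = 0 := ⟨-i / (2 * h), by field_simp; ring⟩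
  obtain ⟨p, hp⟩ : ∃ p : ℂ, a * p = 3 * a * α ^ 2 + 2 * c * α + f :=
    ⟨(3 * a * α ^ 2 + 2 * c * α + f) / a, by field_simp⟩
  obtain ⟨q, hq⟩ : ∃ q : ℂ, a * q = a * α ^ 3 + c * α ^ 2 + h * β ^ 2 + f * α + i * β + j :=
    ⟨(a * α ^ 3 + c * α ^ 2 + h * β ^ 2 + f * α + i * β + j) / a, by field_simp⟩
  refine ⟨p, q, !![1, 0, α; 0, ρ, β; 0, 0, 1], -a, ?_, neg_ne_zero.mpr ha, ?_⟩
  · rw [isUnit_iff_ne_zero]
    simpa [Matrix.det_fin_three] using hρ0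
  · apply eq_of_eval
    intro x
    rw [eval_sub]
    simp [six, W, Matrix.mulVec, dotProduct, Fin.sum_univ_three]
    linear_combination (x 1 ^ 2 * x 2) * hρ' + (x 0 ^ 2 * x 2) * hα + (ρ * x 1 * x 2 ^ 2) * hβ
      - (x 0 * x 2 ^ 2) * hp - (x 2 ^ 3) * hq


lemma exists_root_quartic (a b c d e : ℂ) (ha : a ≠ 0) :
    ∃ x : ℂ, a * x ^ 4 + b * x ^ 3 + c * x ^ 2 + d * x + e = 0 := by
  let P : Polynomial ℂ := Polynomial.C a * Polynomial.X ^ 4 + Polynomial.C b * Polynomial.X ^ 3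
    + Polynomial.C c * Polynomial.X ^ 2 + Polynomial.C d * Polynomial.X + Polynomial.C e
  have hdeg : P.degree = 4 := by
    simp only [P]
    compute_degree!
  obtain ⟨x, hx⟩ := IsAlgClosed.exists_root P (by rw [hdeg]; norm_num)
  refine ⟨x, ?_⟩
  simpa [P] using hx

lemma exists_root_cubic (a b c d : ℂ) (ha : a ≠ 0) :
    ∃ x : ℂ, a * x ^ 3 + b * x ^ 2 + c * x + d = 0 := by
  let P : Polynomial ℂ := Polynomial.C a * Polynomial.X ^ 3 + Polynomial.C b * Polynomial.X ^ 2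
    + Polynomial.C c * Polynomial.X + Polynomial.C d
  have hdeg : P.degree = 3 := by
    simp only [P]
    compute_degree!
  obtain ⟨x, hx⟩ := IsAlgClosed.exists_root P (by rw [hdeg]; norm_num)
  refine ⟨x, ?_⟩
  simpa [P] using hx

lemma eval_pderiv_W (p q : ℂ) (v : V) :
    eval v (pderiv 0 (W p q)) = -3 * v 0 ^ 2 - p * v 2 ^ 2 ∧
    eval v (pderiv 1 (W p q)) = 2 * v 1 * v 2 ∧
    eval v (pderiv 2 (W p q)) = v 1 ^ 2 - 2 * p * v 0 * v 2 - 3 * q * v 2 ^ 2 := by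
  refine ⟨?_, ?_, ?_⟩ <;>
  · simp [W, Derivation.leibniz, Derivation.leibniz_pow, Pi.single_apply]
    try ring


lemma Smooth.false_of {f : MvPolynomial (Fin 3) ℂ} (hsm : Smooth f) (v : V) (hv : v ≠ 0)
    (h : eval v f = 0) (h0 : eval v (pderiv 0 f) = 0) (h1 : eval v (pderiv 1 f) = 0)
    (h2 : eval v (pderiv 2 f) = 0) : False := by
  obtain ⟨i, hi⟩ := hsm v hv h
  fin_cases i
  · exact hi h0
  · exact hi h1
  · exact hi h2

lemma stepC (m y₀ : ℂ) (hm : m ≠ 0) :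
    sub !![0, 0, -y₀ / m; 1 / 2, -1 / (2 * m), y₀ / (2 * m) - m ^ 2 / 6;
        1 / 2, 1 / (2 * m), y₀ / (2 * m) - m ^ 2 / 6] (G (y₀ / (4 * m ^ 3))) =
      C (y₀ / (4 * m ^ 3)) * W (2 * y₀ * m - m ^ 4 / 3)
        (y₀ ^ 2 - (m ^ 2 / 3) ^ 3 - (2 * y₀ * m - m ^ 4 / 3) * (m ^ 2 / 3)) := by
  apply eq_of_eval
  intro x
  rw [eval_sub]
  simp [G, W, Matrix.mulVec, dotProduct, Fin.sum_univ_three]
  field_simp
  ring

theorem stageC (p q : ℂ) (hsm : Smooth (W p q)) : ∃ μ : ℂ, μ ≠ 0 ∧ Eqv (W p q) (G μ) := by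
  -- a nonzero root of ψ₃
  obtain ⟨x₀, hx0, hψ⟩ : ∃ x₀ : ℂ, x₀ ≠ 0 ∧ 3 * x₀ ^ 4 + 6 * p * x₀ ^ 2 + 12 * q * x₀ - p ^ 2 = 0 := by
    by_cases hp : p = 0
    · subst hp
      have hq : q ≠ 0 := by
        rintro rfl
        obtain ⟨h0, h1, h2⟩ := eval_pderiv_W 0 0 ![0, 0, 1]
        refine hsm.false_of ![0, 0, 1] (by intro h; simpa using congrFun h 2) (by simp [W]) ?_ ?_ ?_
        · rw [h0]; simp
        · rw [h1]; simp
        · rw [h2]; simp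
      obtain ⟨x₀, hx⟩ := IsAlgClosed.exists_pow_nat_eq (-4 * q) (n := 3) (by norm_num)
      refine ⟨x₀, ?_, ?_⟩
      · rintro rfl
        apply hq
        have : (0 : ℂ) = -4 * q := by simpa using hx
        linear_combination (1 / 4 : ℂ) * this
      · linear_combination (3 * x₀) * hx
    · obtain ⟨x₀, hx⟩ := exists_root_quartic 3 0 (6 * p) (12 * q) (-p ^ 2) (by norm_num)
      refine ⟨x₀, ?_, by linear_combination hx⟩
      rintro rfl
      apply hp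
      have : p ^ 2 = 0 := by linear_combination -hx
      exact pow_eq_zero_iff (two_ne_zero) |>.mp this
  obtain ⟨y₀, hy⟩ := IsAlgClosed.exists_pow_nat_eq (x₀ ^ 3 + p * x₀ + q) (n := 2) (by norm_num)
  have hy0 : y₀ ≠ 0 := by
    rintro rfl
    have hc : x₀ ^ 3 + p * x₀ + q = 0 := by rw [← hy]; ring
    have hc' : (3 * x₀ ^ 2 + p) ^ 2 = 0 := by
      linear_combination (12 * x₀) * hc - hψ
    have hc'' : 3 * x₀ ^ 2 + p = 0 := pow_eq_zero_iff (two_ne_zero) |>.mp hc'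
    obtain ⟨h0, h1, h2⟩ := eval_pderiv_W p q ![x₀, 0, 1]
    refine hsm.false_of ![x₀, 0, 1] (by intro h; simpa using congrFun h 2)
      (by simp [W]; linear_combination -hc) ?_ ?_ ?_
    · rw [h0]; simp; linear_combination -hc''
    · rw [h1]; simp
    · rw [h2]; simp; linear_combination (-3) * hc + x₀ * hc''
  set m : ℂ := (3 * x₀ ^ 2 + p) / (2 * y₀) with hm
  have hm1 : 2 * y₀ * m = 3 * x₀ ^ 2 + p := by rw [hm]; field_simp
  have hm2 : m ^ 2 = 3 * x₀ := by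
    have h4 : (2 * y₀) ^ 2 * m ^ 2 = (2 * y₀) ^ 2 * (3 * x₀) := by
      have : (2 * y₀ * m) ^ 2 = (3 * x₀ ^ 2 + p) ^ 2 := by rw [hm1]
      linear_combination this - hψ - (12 * x₀) * hy
    exact mul_left_cancel₀ (pow_ne_zero 2 (mul_ne_zero two_ne_zero hy0)) h4
  have hm0 : m ≠ 0 := by
    intro h
    rw [h] at hm2
    apply hx0
    linear_combination (-1 / 3 : ℂ) * hm2
  have hx₀ : x₀ = m ^ 2 / 3 := by rw [hm2]; ring
  have hp : p = 2 * y₀ * m - m ^ 4 / 3 := by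
    rw [hm1, show m ^ 4 = (m ^ 2) ^ 2 by ring, hm2]; ring
  have hq : q = y₀ ^ 2 - (m ^ 2 / 3) ^ 3 - (2 * y₀ * m - m ^ 4 / 3) * (m ^ 2 / 3) := by
    rw [← hp, ← hx₀, hy]; ring
  have hμ : y₀ / (4 * m ^ 3) ≠ 0 := div_ne_zero hy0 (mul_ne_zero (by norm_num) (pow_ne_zero 3 hm0))
  have key := stepC m y₀ hm0
  rw [← hq, ← hp] at key
  refine ⟨y₀ / (4 * m ^ 3), hμ, Eqv.symm ⟨_, _, ?_, hμ, key⟩⟩
  rw [isUnit_iff_ne_zero, Matrix.det_fin_three]
  simp
  field_simp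
  ring_nf
  simp [hy0]


lemma eval_pderiv_G (μ : ℂ) (v : V) :
    eval v (pderiv 0 (G μ)) = v 1 * v 2 - 3 * μ * (v 0 + v 1 + v 2) ^ 2 ∧
    eval v (pderiv 1 (G μ)) = v 0 * v 2 - 3 * μ * (v 0 + v 1 + v 2) ^ 2 ∧
    eval v (pderiv 2 (G μ)) = v 0 * v 1 - 3 * μ * (v 0 + v 1 + v 2) ^ 2 := by
  refine ⟨?_, ?_, ?_⟩ <;>
  · simp [G, Derivation.leibniz, Derivation.leibniz_pow, Pi.single_apply]
    try ring

lemma stepD (r : ℂ) (hr3 : r + 3 ≠ 0) :
    sub !![r + 1, 1, 1; 1, r + 1, 1; 1, 1, r + 1] (G ((r ^ 2 + 3 * r + 3) / (3 * (r + 3) ^ 3))) =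
      C (-r ^ 2 / 3) * HesseCubic.form (1 + r) := by
  apply eq_of_eval
  intro x
  rw [eval_sub]
  simp [G, HesseCubic.form, Matrix.mulVec, dotProduct, Fin.sum_univ_three]
  field_simp
  ring

theorem stageD (μ : ℂ) (hμ : μ ≠ 0) (hsm : Smooth (G μ)) :
    ∃ k : ℂ, k ^ 3 ≠ 1 ∧ Eqv (G μ) (HesseCubic.form k) := by
  have hμ27 : 27 * μ ≠ 1 := by
    intro h
    obtain ⟨h0, h1, h2⟩ := eval_pderiv_G μ ![1, 1, 1]
    refine hsm.false_of ![1, 1, 1] (by intro h; simpa using congrFun h 2)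
      (by simp [G]; linear_combination -h) ?_ ?_ ?_
    · rw [h0]; simp; linear_combination -h
    · rw [h1]; simp; linear_combination -h
    · rw [h2]; simp; linear_combination -h
  obtain ⟨r, hr⟩ := exists_root_cubic (3 * μ) (27 * μ - 1) (81 * μ - 3) (81 * μ - 3)
    (mul_ne_zero (by norm_num) hμ)
  have hr' : 3 * μ * (r + 3) ^ 3 = r ^ 2 + 3 * r + 3 := by linear_combination hr
  have hr3 : r + 3 ≠ 0 := by
    intro h
    have h3 : r = -3 := by linear_combination h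
    rw [h3] at hr
    norm_num at hr
    ring_nf at hr
    norm_num at hr
  have hr0 : r ≠ 0 := by
    rintro rfl
    apply hμ27
    linear_combination (1 / 3 : ℂ) * hr
  have hμr : μ = (r ^ 2 + 3 * r + 3) / (3 * (r + 3) ^ 3) := by
    field_simp
    linear_combination hr'
  have key := stepD r hr3
  rw [← hμr] at key
  refine ⟨1 + r, ?_, _, _, ?_, ?_, key⟩
  · intro hk
    have h1 : r * (r ^ 2 + 3 * r + 3) = 0 := by linear_combination hk
    have h2 : r ^ 2 + 3 * r + 3 = 0 := (mul_eq_zero.mp h1).resolve_left hr0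
    rw [h2] at hr'
    exact mul_ne_zero (mul_ne_zero (by norm_num) hμ) (pow_ne_zero 3 hr3) hr'
  · rw [isUnit_iff_ne_zero, Matrix.det_fin_three]
    simp only [Matrix.of_apply, Matrix.cons_val', Matrix.cons_val_zero, Matrix.cons_val_one,
      Matrix.cons_val]
    intro h
    have : r ^ 2 * (r + 3) = 0 := by linear_combination h
    exact mul_ne_zero (pow_ne_zero 2 hr0) hr3 this
  · intro h
    apply hr0
    have : r ^ 2 = 0 := by linear_combination (-3 : ℂ) * h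
    exact pow_eq_zero_iff (two_ne_zero) |>.mp this


/-- Every smooth ternary cubic over `ℂ` is projectively equivalent to a Hesse cubic. -/
theorem exists_hesse {f : MvPolynomial (Fin 3) ℂ} (hf : f.IsHomogeneous 3) (hsm : Smooth f) :
    ∃ k : ℂ, k ^ 3 ≠ 1 ∧ Eqv f (HesseCubic.form k) := by
  obtain ⟨a, c, h, f', i, j, ha, hh, e1⟩ := stageA hf hsm
  obtain ⟨p, q, e2⟩ := stageB a c h f' i j ha hh
  have e12 := e1.trans e2
  obtain ⟨μ, hμ, e3⟩ := stageC p q (e12.smooth hsm)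
  have e123 := e12.trans e3
  obtain ⟨k, hk, e4⟩ := stageD μ hμ (e123.smooth hsm)
  exact ⟨k, hk, e123.trans e4⟩

end Groth.Agent.Lib.Helper8.HesseL
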