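import Groth.Agent.Lib.Helper8.Hesse4
import Groth.Agent.S18404
set_option backward.isDefEq.respectTransparency.types false
set_option autoImplicit false

namespace Groth.Agent.Lib.Helper8.HesseL

open MvPolynomial Matrix

/-- `v` is a flex of the plane curve of `f`. -/
def IsFlex (f : MvPolynomial (Fin 3) ℂ) (v : V) : Prop :=
  v ≠ 0 ∧ eval v f = 0 ∧
    ∃ w : V, LinearIndependent ℂ ![v, w] ∧ ∀ t : ℂ, eval (v + t • w) f = t ^ 3 * eval w f

lemma sub_inv {f g : MvPolynomial (Fin 3) ℂ} {A : Matrix (Fin 3) (Fin 3) ℂ} {c : ℂ}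
    (hA : IsUnit A.det) (hc : c ≠ 0) (h1 : sub A f = C c * g) : sub A⁻¹ g = C c⁻¹ * f := by
  have h2 : sub A⁻¹ (sub A f) = f := by
    rw [sub_sub, Matrix.mul_nonsing_inv _ hA, sub_one]
  rw [h1, map_mul, sub_C] at h2
  rw [← h2, ← mul_assoc, ← C_mul, inv_mul_cancel₀ hc, C_1, one_mul]

lemma isUnit_det_inv {A : Matrix (Fin 3) (Fin 3) ℂ} (hA : IsUnit A.det) : IsUnit A⁻¹.det := by
  rw [Matrix.det_nonsing_inv]; exact (Ring.inverse_unit hA.unit).symm ▸ hA.unit⁻¹.isUnit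

lemma isFlex_of_sub {f g : MvPolynomial (Fin 3) ℂ} {A : Matrix (Fin 3) (Fin 3) ℂ} {c : ℂ}
    (hA : IsUnit A.det) (hc : c ≠ 0) (h : sub A f = C c * g) {x : V} (hx : IsFlex g x) :
    IsFlex f (A *ᵥ x) := by
  obtain ⟨hx0, hgx, w, hlin, hw⟩ := hx
  have hev : ∀ y, eval (A *ᵥ y) f = c * eval y g := by
    intro y
    rw [← eval_sub, h, map_mul, eval_C]
  refine ⟨mulVec_ne_zero hA hx0, by rw [hev, hgx, mul_zero], A *ᵥ w, ?_, ?_⟩
  · rw [LinearIndependent.pair_iff] at hlin ⊢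
    intro s t hst
    apply hlin s t
    by_contra hne
    apply mulVec_ne_zero hA hne
    rw [Matrix.mulVec_add, Matrix.mulVec_smul, Matrix.mulVec_smul]
    exact hst
  · intro t
    rw [← Matrix.mulVec_smul, ← Matrix.mulVec_add, hev, hev, hw]
    ring

/-- the base flex of the Hesse cubics. -/
def P₀ : V := ![0, 1, -1]

lemma eval_form (k : ℂ) (x : V) :
    eval x (HesseCubic.form k) = x 0 ^ 3 + x 1 ^ 3 + x 2 ^ 3 - 3 * k * (x 0 * x 1 * x 2) := by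
  simp [HesseCubic.form]

/-- The Hesse group acts transitively on the nine flexes. -/
lemma hesse_trans (k : ℂ) (hk : k ^ 3 ≠ 1) {x : V} (hx : IsFlex (HesseCubic.form k) x) :
    ∃ (B : Matrix (Fin 3) (Fin 3) ℂ) (d : ℂ), IsUnit B.det ∧ d ≠ 0 ∧
      sub B (HesseCubic.form k) = HesseCubic.form k ∧ x = d • (B *ᵥ P₀) := by
  obtain ⟨hx0, hhx, hw⟩ := hx
  obtain ⟨γ, c, hγ, hc⟩ := (Groth.Agent.S18404.result k hk x hx0 hhx).mp hw
  have hc0 : c ≠ 0 := by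
    rintro rfl
    apply hx0
    rcases hc with h | h | h <;> simpa using h
  have hγ0 : γ ≠ 0 := by
    rintro rfl
    simp at hγ
  rcases hc with h | h | h
  · refine ⟨!![1, 0, 0; 0, γ, 0; 0, 0, γ ^ 2], c / γ, ?_, div_ne_zero hc0 hγ0, ?_, ?_⟩
    · rw [isUnit_iff_ne_zero, Matrix.det_fin_three]
      simp [hγ0]
    · apply eq_of_eval
      intro y
      rw [eval_sub, eval_form, eval_form]
      simp [Matrix.mulVec, dotProduct, Fin.sum_univ_three]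
      linear_combination (y 1 ^ 3 + (γ ^ 3 + 1) * y 2 ^ 3 - 3 * k * y 0 * y 1 * y 2) * hγ
    · rw [h]
      funext i
      fin_cases i <;> simp [P₀, Matrix.mulVec, dotProduct, Fin.sum_univ_three] <;> field_simp
  · refine ⟨!![0, 0, γ ^ 2; 1, 0, 0; 0, γ, 0], c / γ, ?_, div_ne_zero hc0 hγ0, ?_, ?_⟩
    · rw [isUnit_iff_ne_zero, Matrix.det_fin_three]
      simp [hγ0]
    · apply eq_of_eval
      intro y
      rw [eval_sub, eval_form, eval_form]
      simp [Matrix.mulVec, dotProduct, Fin.sum_univ_three]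
      linear_combination (y 1 ^ 3 + (γ ^ 3 + 1) * y 2 ^ 3 - 3 * k * y 0 * y 1 * y 2) * hγ
    · rw [h]
      funext i
      fin_cases i <;> simp [P₀, Matrix.mulVec, dotProduct, Fin.sum_univ_three] <;> field_simp
  · refine ⟨!![0, γ, 0; 0, 0, γ ^ 2; 1, 0, 0], c / γ, ?_, div_ne_zero hc0 hγ0, ?_, ?_⟩
    · rw [isUnit_iff_ne_zero, Matrix.det_fin_three]
      simp [hγ0]
    · apply eq_of_eval
      intro y
      rw [eval_sub, eval_form, eval_form]
      simp [Matrix.mulVec, dotProduct, Fin.sum_univ_three]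
      linear_combination (y 1 ^ 3 + (γ ^ 3 + 1) * y 2 ^ 3 - 3 * k * y 0 * y 1 * y 2) * hγ
    · rw [h]
      funext i
      fin_cases i <;> simp [P₀, Matrix.mulVec, dotProduct, Fin.sum_univ_three] <;> field_simp


/-- The projective automorphisms of a smooth plane cubic act transitively on its flexes. -/
theorem flex_transitive {f : MvPolynomial (Fin 3) ℂ} (hf : f.IsHomogeneous 3) (hsm : Smooth f)
    {v v' : V} (hv : IsFlex f v) (hv' : IsFlex f v') :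
    ∃ (A : Matrix (Fin 3) (Fin 3) ℂ) (d : ℂ), IsUnit A.det ∧ sub A f = f ∧ A *ᵥ v = d • v' := by
  obtain ⟨k, hk, A₀, c₀, hA₀, hc₀, h₀⟩ := exists_hesse hf hsm
  have hinv := sub_inv hA₀ hc₀ h₀
  have hx := isFlex_of_sub (isUnit_det_inv hA₀) (inv_ne_zero hc₀) hinv hv
  have hx' := isFlex_of_sub (isUnit_det_inv hA₀) (inv_ne_zero hc₀) hinv hv'
  obtain ⟨B, d, hB, hd, hBh, hxB⟩ := hesse_trans k hk hx
  obtain ⟨B', d', hB', hd', hBh', hxB'⟩ := hesse_trans k hk hx'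
  have hBinv : sub B⁻¹ (HesseCubic.form k) = HesseCubic.form k := by
    have := sub_inv hB one_ne_zero (f := HesseCubic.form k) (g := HesseCubic.form k) (by simpa using hBh)
    simpa using this
  refine ⟨A₀ * B' * B⁻¹ * A₀⁻¹, d * d'⁻¹, ?_, ?_, ?_⟩
  · simp only [Matrix.det_mul]
    exact ((hA₀.mul hB').mul (isUnit_det_inv hB)).mul (isUnit_det_inv hA₀)
  · rw [← sub_sub, ← sub_sub, ← sub_sub, h₀, map_mul, sub_C, hBh', map_mul, sub_C, hBinv, map_mul,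
      sub_C, hinv, ← mul_assoc, ← C_mul, mul_inv_cancel₀ hc₀, C_1, one_mul]
  · have e1 : (A₀ * B' * B⁻¹ * A₀⁻¹) *ᵥ v = A₀ *ᵥ (B' *ᵥ (B⁻¹ *ᵥ (A₀⁻¹ *ᵥ v))) := by
      simp only [Matrix.mulVec_mulVec, Matrix.mul_assoc]
    have e2 : B' *ᵥ P₀ = d'⁻¹ • (A₀⁻¹ *ᵥ v') := by
      rw [hxB', smul_smul, inv_mul_cancel₀ hd', one_smul]
    have s1 : B⁻¹ *ᵥ (A₀⁻¹ *ᵥ v) = d • P₀ := by
      rw [hxB, Matrix.mulVec_smul, Matrix.mulVec_mulVec, Matrix.nonsing_inv_mul _ hB,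
        Matrix.one_mulVec]
    have s2 : B' *ᵥ (d • P₀) = (d * d'⁻¹) • (A₀⁻¹ *ᵥ v') := by
      rw [Matrix.mulVec_smul, e2, smul_smul]
    have s3 : A₀ *ᵥ ((d * d'⁻¹) • (A₀⁻¹ *ᵥ v')) = (d * d'⁻¹) • v' := by
      rw [Matrix.mulVec_smul, Matrix.mulVec_mulVec, Matrix.mul_nonsing_inv _ hA₀,
        Matrix.one_mulVec]
    rw [e1, s1, s2, s3]

lemma exists_root_quadratic (a b c : ℂ) (ha : a ≠ 0) :
    ∃ x : ℂ, a * x ^ 2 + b * x + c = 0 := by
  let P : Polynomial ℂ := Polynomial.C a * Polynomial.X ^ 2 + Polynomial.C b * Polynomial.X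
    + Polynomial.C c
  have hdeg : P.degree = 2 := by
    simp only [P]
    compute_degree!
  obtain ⟨x, hx⟩ := IsAlgClosed.exists_root P (by rw [hdeg]; norm_num)
  refine ⟨x, ?_⟩
  simpa [P] using hx

lemma exists_omega : ∃ ω : ℂ, ω ^ 2 + ω + 1 = 0 ∧ ω ^ 3 = 1 ∧ ω ≠ 1 := by
  obtain ⟨ω, hω⟩ := exists_root_quadratic 1 1 1 one_ne_zero
  have h2 : ω ^ 2 + ω + 1 = 0 := by linear_combination hω
  refine ⟨ω, h2, by linear_combination (ω - 1) * h2, ?_⟩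
  rintro rfl
  norm_num at h2


lemma scalar_of_fix_nine (M : Matrix (Fin 3) (Fin 3) ℂ)
    (h1 : ∀ γ : ℂ, γ ^ 3 = 1 → ∃ d : ℂ, M *ᵥ ![0, 1, -γ] = d • ![0, 1, -γ])
    (h2 : ∀ γ : ℂ, γ ^ 3 = 1 → ∃ d : ℂ, M *ᵥ ![-γ, 0, 1] = d • ![-γ, 0, 1])
    (h3 : ∀ γ : ℂ, γ ^ 3 = 1 → ∃ d : ℂ, M *ᵥ ![1, -γ, 0] = d • ![1, -γ, 0]) :
    ∃ c : ℂ, M = c • (1 : Matrix (Fin 3) (Fin 3) ℂ) := by
  obtain ⟨ω, hω2, hω3, hω1⟩ := exists_omega
  have hω1' : ω - 1 ≠ 0 := sub_ne_zero.mpr hω1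
  obtain ⟨d1, hd1⟩ := h1 1 (by norm_num)
  obtain ⟨d1', hd1'⟩ := h1 ω hω3
  obtain ⟨d2, hd2⟩ := h2 1 (by norm_num)
  obtain ⟨d2', hd2'⟩ := h2 ω hω3
  obtain ⟨d3, hd3⟩ := h3 1 (by norm_num)
  obtain ⟨d3', hd3'⟩ := h3 ω hω3
  have a0 := congrFun hd1 0
  have a1 := congrFun hd1 1
  have a2 := congrFun hd1 2
  have a0' := congrFun hd1' 0
  have b0 := congrFun hd2 0
  have b1 := congrFun hd2 1
  have b2 := congrFun hd2 2
  have b1' := congrFun hd2' 1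
  have c2 := congrFun hd3 2
  have c2' := congrFun hd3' 2
  simp [Matrix.mulVec, dotProduct, Fin.sum_univ_three] at a0 a1 a2 a0' b0 b1 b2 b1' c2 c2'
  have m02 : M 0 2 = 0 := by
    have : (ω - 1) * M 0 2 = 0 := by linear_combination a0 - a0'
    exact (mul_eq_zero.mp this).resolve_left hω1'
  have m01 : M 0 1 = 0 := by linear_combination a0 + m02
  have m10 : M 1 0 = 0 := by
    have : (ω - 1) * M 1 0 = 0 := by linear_combination b1 - b1'
    exact (mul_eq_zero.mp this).resolve_left hω1'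
  have m12 : M 1 2 = 0 := by linear_combination b1 + m10
  have m21 : M 2 1 = 0 := by
    have : (ω - 1) * M 2 1 = 0 := by linear_combination c2 - c2'
    exact (mul_eq_zero.mp this).resolve_left hω1'
  have m20 : M 2 0 = 0 := by linear_combination c2 + m21
  have e12 : M 1 1 = M 2 2 := by linear_combination a1 + a2 + m12 - m21
  have e02 : M 0 0 = M 2 2 := by linear_combination -b0 - b2 + m02 - m20
  refine ⟨M 2 2, ?_⟩
  ext i j
  fin_cases i <;> fin_cases j <;> simp [m01, m02, m10, m12, m20, m21, e12, e02]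

lemma form_flex (k : ℂ) (hk : k ^ 3 ≠ 1) {v : V} (hv : v ≠ 0) {γ : ℂ} (hγ : γ ^ 3 = 1)
    (h : v = ![0, 1, -γ] ∨ v = ![-γ, 0, 1] ∨ v = ![1, -γ, 0]) :
    IsFlex (HesseCubic.form k) v := by
  have h0 : eval v (HesseCubic.form k) = 0 := by
    rw [eval_form]
    rcases h with h | h | h <;> (rw [h]; simp) <;> linear_combination -hγ
  refine ⟨hv, h0, (Groth.Agent.S18404.result k hk v hv h0).mpr ⟨γ, 1, hγ, ?_⟩⟩
  simpa using h

/-- The projective automorphisms of a smooth plane cubic act faithfully on its flexes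
(the matrix need not even preserve the cubic). -/
theorem scalar_of_fix_flexes {f : MvPolynomial (Fin 3) ℂ} (hf : f.IsHomogeneous 3) (hsm : Smooth f)
    (A : Matrix (Fin 3) (Fin 3) ℂ)
    (hfix : ∀ v : V, IsFlex f v → ∃ d : ℂ, A *ᵥ v = d • v) :
    ∃ c : ℂ, A = c • (1 : Matrix (Fin 3) (Fin 3) ℂ) := by
  obtain ⟨k, hk, A₀, c₀, hA₀, hc₀, h₀⟩ := exists_hesse hf hsm
  have key : ∀ P : V, IsFlex (HesseCubic.form k) P → ∃ d : ℂ, (A₀⁻¹ * A * A₀) *ᵥ P = d • P := by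
    intro P hP
    obtain ⟨d, hd⟩ := hfix _ (isFlex_of_sub hA₀ hc₀ h₀ hP)
    refine ⟨d, ?_⟩
    have : (A₀⁻¹ * A * A₀) *ᵥ P = A₀⁻¹ *ᵥ (A *ᵥ (A₀ *ᵥ P)) := by
      simp only [Matrix.mulVec_mulVec, Matrix.mul_assoc]
    rw [this, hd, Matrix.mulVec_smul, Matrix.mulVec_mulVec, Matrix.nonsing_inv_mul _ hA₀,
      Matrix.one_mulVec]
  obtain ⟨c, hc⟩ := scalar_of_fix_nine (A₀⁻¹ * A * A₀)
    (fun γ hγ => key _ (form_flex k hk (by intro h; simpa using congrFun h 1) hγ (Or.inl rfl)))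
    (fun γ hγ => key _ (form_flex k hk (by intro h; simpa using congrFun h 2) hγ (Or.inr (Or.inl rfl))))
    (fun γ hγ => key _ (form_flex k hk (by intro h; simpa using congrFun h 0) hγ (Or.inr (Or.inr rfl))))
  refine ⟨c, ?_⟩
  have : A = A₀ * (A₀⁻¹ * A * A₀) * A₀⁻¹ := by
    rw [Matrix.mul_assoc, Matrix.mul_assoc, Matrix.mul_nonsing_inv _ hA₀, Matrix.mul_one,
      ← Matrix.mul_assoc, Matrix.mul_nonsing_inv _ hA₀, Matrix.one_mul]
  rw [this, hc, Matrix.mul_smul, Matrix.mul_one, Matrix.smul_mul, Matrix.mul_nonsing_inv _ hA₀]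

end Groth.Agent.Lib.Helper8.HesseL
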