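import Groth.Agent.Lib.Helper8.Hesse5
set_option backward.isDefEq.respectTransparency.types false
set_option autoImplicit false

namespace Groth.Agent.Lib.Helper8.HesseL

open MvPolynomial Matrix

/-- the matrix of second partial derivatives. -/
noncomputable def hessMat (f : MvPolynomial (Fin 3) ℂ) : Matrix (Fin 3) (Fin 3) (MvPolynomial (Fin 3) ℂ) :=
  Matrix.of fun i j : Fin 3 => pderiv i (pderiv j f)

lemma hessian_eq (f : MvPolynomial (Fin 3) ℂ) : hessian f = (hessMat f).det := rfl

lemma hessMat_sub (A : Matrix (Fin 3) (Fin 3) ℂ) (f : MvPolynomial (Fin 3) ℂ) :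
    hessMat (sub A f) = (A.map (C : ℂ → MvPolynomial (Fin 3) ℂ))ᵀ * ((hessMat f).map (sub A)) *
      (A.map (C : ℂ → MvPolynomial (Fin 3) ℂ)) := by
  apply Matrix.ext
  intro r q
  simp only [hessMat, Matrix.of_apply, Matrix.mul_apply, Matrix.transpose_apply, Matrix.map_apply]
  rw [pderiv_sub, map_sum]
  simp only [Derivation.leibniz, pderiv_C, smul_eq_mul, pderiv_sub, mul_zero, add_zero,
    Finset.mul_sum, Finset.sum_mul]
  refine Finset.sum_congr rfl fun i _ => Finset.sum_congr rfl fun j _ => ?_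
  ring


lemma hessian_sub (A : Matrix (Fin 3) (Fin 3) ℂ) (f : MvPolynomial (Fin 3) ℂ) :
    hessian (sub A f) = C (A.det ^ 2) * sub A (hessian f) := by
  rw [hessian_eq, hessMat_sub, Matrix.det_mul, Matrix.det_mul, Matrix.det_transpose, hessian_eq]
  have h1 : (A.map (C : ℂ → MvPolynomial (Fin 3) ℂ)).det = C A.det := by
    have := (RingHom.map_det (C : ℂ →+* MvPolynomial (Fin 3) ℂ) A).symm
    simpa using this
  have h2 : ((hessMat f).map (sub A)).det = sub A (hessMat f).det := by
    have := (AlgHom.map_det (sub A) (hessMat f)).symm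
    simpa using this
  rw [h1, h2, C_pow]
  ring

lemma hessian_C_mul (c : ℂ) (f : MvPolynomial (Fin 3) ℂ) :
    hessian (C c * f) = C (c ^ 3) * hessian f := by
  have h : hessMat (C c * f) = (C c : MvPolynomial (Fin 3) ℂ) • hessMat f := by
    apply Matrix.ext
    intro i j
    simp only [hessMat, Matrix.of_apply, Matrix.smul_apply, smul_eq_mul, Derivation.leibniz,
      pderiv_C, mul_zero, add_zero, smul_zero]
  rw [hessian_eq, h, Matrix.det_smul, hessian_eq]
  simp

/-- sum of cubes and product of the variables. -/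
noncomputable def sCub : MvPolynomial (Fin 3) ℂ := X 0 ^ 3 + X 1 ^ 3 + X 2 ^ 3
noncomputable def pPrd : MvPolynomial (Fin 3) ℂ := X 0 * X 1 * X 2

/-- member of the Hesse pencil. -/
noncomputable def member (α β : ℂ) : MvPolynomial (Fin 3) ℂ := C α * sCub + C β * pPrd

lemma form_eq_member (k : ℂ) : HesseCubic.form k = member 1 (-3 * k) := by
  simp [HesseCubic.form, member, sCub, pPrd]
  ring

lemma hessian_member (α β : ℂ) :
    hessian (member α β) = member (-6 * α * β ^ 2) (216 * α ^ 3 + 2 * β ^ 3) := by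
  rw [hessian_eq, Matrix.det_fin_three]
  have h3 : ∀ i : Fin 3, pderiv i (3 : MvPolynomial (Fin 3) ℂ) = 0 := by
    intro i
    have := (pderiv i : Derivation ℂ (MvPolynomial (Fin 3) ℂ) (MvPolynomial (Fin 3) ℂ)).map_natCast 3
    simpa using this
  have c6 : (C (6 : ℂ) : MvPolynomial (Fin 3) ℂ) = 6 := map_ofNat C 6
  have c216 : (C (216 : ℂ) : MvPolynomial (Fin 3) ℂ) = 216 := map_ofNat C 216
  have c2 : (C (2 : ℂ) : MvPolynomial (Fin 3) ℂ) = 2 := map_ofNat C 2
  simp [hessMat, member, sCub, pPrd, Derivation.leibniz, Derivation.leibniz_pow, Pi.single_apply, h3]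
  rw [c6, c216, c2]
  ring


lemma eval_member (α β : ℂ) (x : V) :
    eval x (member α β) = α * (x 0 ^ 3 + x 1 ^ 3 + x 2 ^ 3) + β * (x 0 * x 1 * x 2) := by
  simp [member, sCub, pPrd]

lemma member_inj {α β α' β' : ℂ} (h : member α β = member α' β') : α = α' ∧ β = β' := by
  have h1 := congrArg (eval ![1, 0, 0]) h
  have h2 := congrArg (eval ![1, 1, 1]) h
  rw [eval_member, eval_member] at h1 h2
  simp at h1 h2
  refine ⟨h1, ?_⟩
  subst h1
  linear_combination h2

lemma member_congr {α β α' β' : ℂ} (h1 : α = α') (h2 : β = β') : member α β = member α' β' := by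
  rw [h1, h2]

lemma C_mul_member (c α β : ℂ) : C c * member α β = member (c * α) (c * β) := by
  simp only [member, C_mul]; ring

lemma member_add (α β α' β' : ℂ) : member α β + member α' β' = member (α + α') (β + β') := by
  simp only [member, C_add]; ring

lemma sub_member (A : Matrix (Fin 3) (Fin 3) ℂ) (α β : ℂ) :
    sub A (member α β) = C α * sub A sCub + C β * sub A pPrd := by
  simp only [member, map_add, map_mul, sub_C]

lemma sub_injective {A : Matrix (Fin 3) (Fin 3) ℂ} (hA : IsUnit A.det) {f g : MvPolynomial (Fin 3) ℂ}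
    (h : sub A f = sub A g) : f = g := by
  have := congrArg (sub A⁻¹) h
  rwa [sub_sub, sub_sub, Matrix.mul_nonsing_inv _ hA, sub_one, sub_one] at this

theorem pencil_scalar (k : ℂ) (hk0 : k ≠ 0) (hk1 : k ^ 3 ≠ 1) (hk8 : k ^ 3 + 8 ≠ 0)
    (hk6 : k ^ 6 - 20 * k ^ 3 - 8 ≠ 0) (A : Matrix (Fin 3) (Fin 3) ℂ) (hdet : A.det = 1) (c : ℂ)
    (h : sub A (HesseCubic.form k) = C c * HesseCubic.form k) :
    c ^ 2 = 1 ∧ sub A sCub = C c * sCub ∧ sub A pPrd = C c * pPrd := by
  have hA : IsUnit A.det := by rw [hdet]; exact isUnit_one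
  have hc0 : c ≠ 0 := by
    rintro rfl
    have h0 : sub A (HesseCubic.form k) = sub A 0 := by rw [h]; simp
    have h1 := sub_injective hA h0
    have h2 := congrArg (eval ![1, 0, 0]) h1
    rw [eval_form] at h2
    simp at h2
  rw [form_eq_member] at h
  set H₁ : MvPolynomial (Fin 3) ℂ := member (-k ^ 2) (4 - k ^ 3) with hH₁
  have hH : hessian (member 1 (-3 * k)) = C 54 * H₁ := by
    rw [hessian_member, hH₁, C_mul_member]
    exact member_congr (by ring) (by ring)
  have c54 : (C (54 : ℂ) : MvPolynomial (Fin 3) ℂ) ≠ 0 := by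
    rw [Ne, C_eq_zero]; norm_num
  have e1 : sub A H₁ = C (c ^ 3) * H₁ := by
    have := hessian_sub A (member 1 (-3 * k))
    rw [hdet, one_pow, C_1, one_mul, h, hessian_C_mul, hH, map_mul, sub_C] at this
    apply mul_left_cancel₀ c54
    rw [← this]; ring
  have e2 : sub A (hessian H₁) = C (c ^ 9) * hessian H₁ := by
    have := hessian_sub A H₁
    rw [hdet, one_pow, C_1, one_mul, e1, hessian_C_mul] at this
    rw [← this]; congr 2; ring
  obtain ⟨x, hx⟩ : ∃ x : ℂ, x = 2 * k ^ 2 * (k ^ 3 + 8) ^ 2 := ⟨_, rfl⟩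
  obtain ⟨y, hy⟩ : ∃ y : ℂ, y = -4 * (k ^ 6 - 20 * k ^ 3 - 8) := ⟨_, rfl⟩
  have hHH : hessian H₁ = C x * member 1 (-3 * k) + C y * H₁ := by
    rw [hH₁, hessian_member, C_mul_member, C_mul_member, member_add, hx, hy]
    exact member_congr (by ring) (by ring)
  have hx0 : x ≠ 0 := by
    rw [hx]; exact mul_ne_zero (mul_ne_zero two_ne_zero (pow_ne_zero 2 hk0)) (pow_ne_zero 2 hk8)
  have hy0 : y ≠ 0 := by
    rw [hy]; exact mul_ne_zero (by norm_num) hk6
  have e3 : sub A (hessian H₁) = C (x * c) * member 1 (-3 * k) + C (y * c ^ 3) * H₁ := by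
    rw [hHH, map_add, map_mul (sub A) (C x), map_mul (sub A) (C y), sub_C, sub_C, h, e1]
    simp only [C_mul]
    ring
  rw [e3, hHH, hH₁, C_mul_member, C_mul_member, member_add, C_mul_member, C_mul_member, member_add,
    C_mul_member] at e2
  obtain ⟨q1, q2⟩ := member_inj e2
  have hk1' : 4 - 4 * k ^ 3 ≠ 0 := by
    intro h0
    apply hk1
    linear_combination (-1 / 4 : ℂ) * h0
  have hW : y * (c ^ 3 - c ^ 9) = 0 := by
    have : (4 - 4 * k ^ 3) * (y * (c ^ 3 - c ^ 9)) = 0 := by
      linear_combination (3 * k) * q1 + q2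
    exact (mul_eq_zero.mp this).resolve_left hk1'
  have hU : x * (c - c ^ 9) = 0 := by linear_combination q1 + (k ^ 2) * hW
  have hc8 : c ^ 8 = 1 := by
    have h1 := (mul_eq_zero.mp hU).resolve_left hx0
    have : c * (1 - c ^ 8) = 0 := by linear_combination h1
    have := (mul_eq_zero.mp this).resolve_left hc0
    linear_combination -this
  have hc6 : c ^ 6 = 1 := by
    have h1 := (mul_eq_zero.mp hW).resolve_left hy0
    have : c ^ 3 * (1 - c ^ 6) = 0 := by linear_combination h1
    have := (mul_eq_zero.mp this).resolve_left (pow_ne_zero 3 hc0)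
    linear_combination -this
  have hc2 : c ^ 2 = 1 := by
    have : c ^ 6 * (c ^ 2 - 1) = 0 := by linear_combination hc8 - hc6
    have := (mul_eq_zero.mp this).resolve_left (pow_ne_zero 6 hc0)
    linear_combination this
  have hc3 : c ^ 3 = c := by linear_combination c * hc2
  rw [hc3, hH₁, sub_member, C_mul_member] at e1
  rw [sub_member, C_mul_member] at h
  have hp : sub A pPrd = C c * pPrd := by
    have c4 : (C (4 - 4 * k ^ 3) : MvPolynomial (Fin 3) ℂ) ≠ 0 := by
      rw [Ne, C_eq_zero]; exact hk1'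
    apply mul_left_cancel₀ c4
    simp only [member, map_mul, map_sub, map_neg, map_pow, map_one, map_ofNat] at h e1 ⊢
    linear_combination (C k ^ 2) * h + e1
  refine ⟨hc2, ?_, hp⟩
  rw [hp] at h
  simp only [member, map_mul, map_sub, map_neg, map_pow, map_one, map_ofNat] at h ⊢
  linear_combination h

end Groth.Agent.Lib.Helper8.HesseL
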