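import Groth.Agent.Lib.Helper8.Hesse6
set_option backward.isDefEq.respectTransparency.types false
set_option autoImplicit false

namespace Groth.Agent.Lib.Helper8.HesseL

open MvPolynomial Matrix

/-- kill the variable `j`. -/
noncomputable def killVar (j : Fin 3) : MvPolynomial (Fin 3) ℂ →ₐ[ℂ] MvPolynomial (Fin 3) ℂ :=
  aeval (fun l : Fin 3 => if l = j then 0 else X l)

lemma killVar_pPrd (j : Fin 3) : killVar j pPrd = 0 := by
  fin_cases j <;> simp [killVar, pPrd]

theorem monomial_of_sub_pPrd (A : Matrix (Fin 3) (Fin 3) ℂ) (hA : IsUnit A.det) (c : ℂ)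
    (h : sub A pPrd = C c * pPrd) :
    ∃ σ : Equiv.Perm (Fin 3), ∀ i j, j ≠ σ i → A i j = 0 := by
  have hL : sub A pPrd = (∑ j : Fin 3, C (A 0 j) * X j) * (∑ j : Fin 3, C (A 1 j) * X j) *
      (∑ j : Fin 3, C (A 2 j) * X j) := by
    simp only [pPrd, map_mul, sub_X]
  have key : ∀ j : Fin 3, ∃ i : Fin 3, ∀ l : Fin 3, l ≠ j → A i l = 0 := by
    intro j
    have h0 : killVar j (sub A pPrd) = 0 := by rw [h, map_mul, killVar_pPrd, mul_zero]
    rw [hL, map_mul, map_mul] at h0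
    have hrow : ∀ i : Fin 3, killVar j (∑ l : Fin 3, C (A i l) * X l) = 0 →
        ∀ l : Fin 3, l ≠ j → A i l = 0 := by
      intro i hi l hl
      have := congrArg (eval (Pi.single l (1 : ℂ))) hi
      simp only [killVar, map_sum, map_mul, aeval_C, aeval_X, map_zero] at this
      rw [Finset.sum_eq_single l] at this
      · simpa [hl] using this
      · intro b _ hb
        by_cases hbj : b = j
        · simp [hbj]
        · simp [hbj, Pi.single_apply, hb]
      · intro hl'; exact absurd (Finset.mem_univ l) hl'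
    rcases mul_eq_zero.mp h0 with h1 | h1
    · rcases mul_eq_zero.mp h1 with h2 | h2
      · exact ⟨0, hrow 0 h2⟩
      · exact ⟨1, hrow 1 h2⟩
    · exact ⟨2, hrow 2 h1⟩
  choose τ hτ using key
  have hinj : Function.Injective τ := by
    intro j j' hjj
    by_contra hne
    have hrow : ∀ l, A (τ j) l = 0 := by
      intro l
      by_cases hl : l = j
      · subst hl
        rw [hjj]
        exact hτ j' l hne
      · exact hτ j l hl
    have := Matrix.det_eq_zero_of_row_eq_zero (τ j) hrow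
    rw [this] at hA
    exact not_isUnit_zero hA
  have hbij : Function.Bijective τ := Finite.injective_iff_bijective.mp hinj
  refine ⟨(Equiv.ofBijective τ hbij).symm, ?_⟩
  intro i j hj
  have hi : τ ((Equiv.ofBijective τ hbij).symm i) = i := (Equiv.ofBijective τ hbij).apply_symm_apply i
  rw [← hi]
  exact hτ _ j hj


/-- the sign of a permutation as a complex number. -/
noncomputable def sgn (σ : Equiv.Perm (Fin 3)) : ℂ := ((Equiv.Perm.sign σ : ℤˣ) : ℤ)

lemma sgn_sq (σ : Equiv.Perm (Fin 3)) : sgn σ ^ 2 = 1 := by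
  rcases Int.units_eq_one_or (Equiv.Perm.sign σ) with h | h <;> simp [sgn, h]

lemma sgn_ne_zero (σ : Equiv.Perm (Fin 3)) : sgn σ ≠ 0 := by
  intro h
  have := sgn_sq σ
  rw [h] at this
  norm_num at this

/-- a monomial matrix. -/
def monoMat (σ : Equiv.Perm (Fin 3)) (e : Fin 3 → ℂ) : Matrix (Fin 3) (Fin 3) ℂ :=
  Matrix.of fun i j => if j = σ i then e i else 0

lemma monoMat_eq (σ : Equiv.Perm (Fin 3)) (e : Fin 3 → ℂ) :
    monoMat σ e = Matrix.diagonal e * σ.permMatrix ℂ := by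
  apply Matrix.ext
  intro i j
  rw [Matrix.diagonal_mul]
  simp [monoMat, Equiv.Perm.permMatrix, PEquiv.toMatrix_apply, Equiv.toPEquiv_apply, eq_comm]

lemma det_monoMat (σ : Equiv.Perm (Fin 3)) (e : Fin 3 → ℂ) :
    (monoMat σ e).det = (∏ i, e i) * sgn σ := by
  rw [monoMat_eq, Matrix.det_mul, Matrix.det_diagonal, Matrix.det_permutation]
  rfl

lemma monoMat_mulVec (σ : Equiv.Perm (Fin 3)) (e : Fin 3 → ℂ) (x : V) (i : Fin 3) :
    (monoMat σ e *ᵥ x) i = e i * x (σ i) := by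
  simp [monoMat, Matrix.mulVec, dotProduct]

lemma eval_form' (k : ℂ) (x : V) :
    eval x (HesseCubic.form k) = ∑ i, x i ^ 3 - 3 * k * ∏ i, x i := by
  rw [eval_form, Fin.sum_univ_three, Fin.prod_univ_three]

lemma sub_monoMat_form (k : ℂ) (σ : Equiv.Perm (Fin 3)) (e : Fin 3 → ℂ) (c : ℂ)
    (he : ∀ i, e i ^ 3 = c) (hp : ∏ i, e i = c) :
    sub (monoMat σ e) (HesseCubic.form k) = C c * HesseCubic.form k := by
  apply eq_of_eval
  intro x
  rw [eval_sub, map_mul, eval_C, eval_form', eval_form']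
  simp only [monoMat_mulVec, mul_pow, he, Finset.prod_mul_distrib, hp]
  rw [← Finset.mul_sum, Equiv.sum_comp σ (fun i => x i ^ 3), Equiv.prod_comp σ (fun i => x i)]
  ring


lemma monoMat_inj {σ σ' : Equiv.Perm (Fin 3)} {e e' : Fin 3 → ℂ} (he : ∀ i, e i ≠ 0)
    (h : monoMat σ e = monoMat σ' e') : σ = σ' ∧ e = e' := by
  have hσ : σ = σ' := by
    ext i
    have := congrFun (congrFun h i) (σ i)
    simp only [monoMat, Matrix.of_apply, if_true] at this
    by_cases hi : σ i = σ' i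
    · rw [hi]
    · rw [if_neg hi] at this
      exact absurd this (he i)
  subst hσ
  refine ⟨rfl, ?_⟩
  funext i
  have := congrFun (congrFun h i) (σ i)
  simpa [monoMat] using this

abbrev Mu3 := rootsOfUnity 3 ℂ

lemma mu3_cube (z : Mu3) : ((z : ℂˣ) : ℂ) ^ 3 = 1 :=
  (mem_rootsOfUnity' 3 (z : ℂˣ)).mp z.2

/-- the diagonal entries attached to two cube roots of unity. -/
noncomputable def dvec (z₀ z₁ : Mu3) : Fin 3 → ℂ :=
  ![((z₀ : ℂˣ) : ℂ), ((z₁ : ℂˣ) : ℂ), (((z₀ * z₁)⁻¹ : Mu3) : ℂˣ)]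

lemma dvec_cube (z₀ z₁ : Mu3) (i : Fin 3) : dvec z₀ z₁ i ^ 3 = 1 := by
  fin_cases i
  · exact mu3_cube z₀
  · exact mu3_cube z₁
  · exact mu3_cube (z₀ * z₁)⁻¹

lemma dvec_prod (z₀ z₁ : Mu3) : ∏ i, dvec z₀ z₁ i = 1 := by
  rw [Fin.prod_univ_three]
  have h0 : ((z₀ : ℂˣ) : ℂ) ≠ 0 := Units.ne_zero _
  have h1 : ((z₁ : ℂˣ) : ℂ) ≠ 0 := Units.ne_zero _
  simp [dvec]
  field_simp

/-- The set of determinant-one automorphisms of the Hesse cubic. -/
abbrev AutSet (k : ℂ) : Type := {A : Matrix (Fin 3) (Fin 3) ℂ // A.det = 1 ∧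
  ∃ c : ℂ, sub A (HesseCubic.form k) = C c * HesseCubic.form k}

lemma sgn_cube (σ : Equiv.Perm (Fin 3)) : sgn σ ^ 3 = sgn σ := by
  have := sgn_sq σ
  linear_combination sgn σ * this

noncomputable def paramF (k : ℂ) (p : Equiv.Perm (Fin 3) × Mu3 × Mu3) : AutSet k :=
  ⟨monoMat p.1 (fun i => sgn p.1 * dvec p.2.1 p.2.2 i), by
    rw [det_monoMat, Finset.prod_mul_distrib, dvec_prod, Finset.prod_const, Finset.card_univ,
      Fintype.card_fin, mul_one, sgn_cube]
    have := sgn_sq p.1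
    linear_combination this,
   ⟨sgn p.1, sub_monoMat_form k p.1 _ _
    (fun i => by rw [mul_pow, dvec_cube, mul_one, sgn_cube])
    (by rw [Finset.prod_mul_distrib, dvec_prod, Finset.prod_const, Finset.card_univ,
      Fintype.card_fin, mul_one, sgn_cube])⟩⟩

lemma paramF_injective (k : ℂ) : Function.Injective (paramF k) := by
  rintro ⟨σ, z₀, z₁⟩ ⟨σ', z₀', z₁'⟩ h
  have h1 := congrArg Subtype.val h
  simp only [paramF] at h1
  obtain ⟨hσ, he⟩ := monoMat_inj (fun i => mul_ne_zero (sgn_ne_zero σ) (by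
    intro h0
    have := dvec_cube z₀ z₁ i
    rw [h0] at this
    norm_num at this)) h1
  subst hσ
  have e0 := congrFun he 0
  have e1 := congrFun he 1
  simp only [dvec, Matrix.cons_val_zero, Matrix.cons_val_one] at e0 e1
  have e0' := mul_left_cancel₀ (sgn_ne_zero σ) e0
  have e1' := mul_left_cancel₀ (sgn_ne_zero σ) e1
  have hz0 : z₀ = z₀' := Subtype.ext (Units.ext e0')
  have hz1 : z₁ = z₁' := Subtype.ext (Units.ext e1')
  rw [hz0, hz1]


lemma eval_sCub (x : V) : eval x sCub = ∑ i, x i ^ 3 := by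
  simp [sCub, Fin.sum_univ_three]

lemma eval_pPrd (x : V) : eval x pPrd = ∏ i, x i := by
  simp [pPrd, Fin.prod_univ_three]

lemma paramF_surjective (k : ℂ) (hk0 : k ≠ 0) (hk1 : k ^ 3 ≠ 1) (hk8 : k ^ 3 + 8 ≠ 0)
    (hk6 : k ^ 6 - 20 * k ^ 3 - 8 ≠ 0) : Function.Surjective (paramF k) := by
  rintro ⟨A, hdet, c, hc⟩
  have hA : IsUnit A.det := by rw [hdet]; exact isUnit_one
  obtain ⟨hc2, hs, hp⟩ := pencil_scalar k hk0 hk1 hk8 hk6 A hdet c hc
  obtain ⟨σ, hσ⟩ := monomial_of_sub_pPrd A hA c hp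
  obtain ⟨d, hd⟩ : ∃ d : Fin 3 → ℂ, d = fun i => A i (σ i) := ⟨_, rfl⟩
  have hAm : A = monoMat σ d := by
    apply Matrix.ext
    intro i j
    by_cases hj : j = σ i
    · simp [monoMat, hj, hd]
    · simp [monoMat, hj, hσ i j hj]
  have hd3 : ∀ i, d i ^ 3 = c := by
    intro i
    have := congrArg (eval (Pi.single (σ i) (1 : ℂ))) hs
    rw [eval_sub, map_mul, eval_C, eval_sCub, eval_sCub, hAm] at this
    simp only [monoMat_mulVec] at this
    rw [Finset.sum_eq_single i, Finset.sum_eq_single (σ i)] at this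
    · simpa using this
    · intro b _ hb; simp [Pi.single_apply, hb]
    · intro h; exact absurd (Finset.mem_univ _) h
    · intro b _ hb
      have : σ b ≠ σ i := fun h => hb (σ.injective h)
      simp [Pi.single_apply, this]
    · intro h; exact absurd (Finset.mem_univ _) h
  have hdp : ∏ i, d i = c := by
    have := congrArg (eval (fun _ => (1 : ℂ))) hp
    rw [eval_sub, map_mul, eval_C, eval_pPrd, eval_pPrd, hAm] at this
    simp only [monoMat_mulVec] at this
    simpa using this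
  have hcs : c = sgn σ := by
    have h1 : c * sgn σ = 1 := by
      rw [← hdp, ← det_monoMat, ← hAm, hdet]
    have h2 := sgn_sq σ
    linear_combination (sgn σ) * h1 - c * h2
  have hz : ∀ i, (sgn σ * d i) ^ 3 = 1 := by
    intro i
    rw [mul_pow, hd3, sgn_cube, hcs]
    have := sgn_sq σ
    linear_combination this
  refine ⟨(σ, rootsOfUnity.mkOfPowEq _ (hz 0), rootsOfUnity.mkOfPowEq _ (hz 1)), ?_⟩
  apply Subtype.ext
  simp only [paramF]
  rw [hAm]
  congr 1
  funext i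
  have hs2 := sgn_sq σ
  have hs0 := sgn_ne_zero σ
  have hd0 : d 0 ≠ 0 := by
    intro h
    have := hd3 0
    rw [h, hcs] at this
    exact hs0 (by linear_combination -this)
  have hd1 : d 1 ≠ 0 := by
    intro h
    have := hd3 1
    rw [h, hcs] at this
    exact hs0 (by linear_combination -this)
  fin_cases i
  · simp [dvec]
    linear_combination (d 0) * hs2
  · simp [dvec]
    linear_combination (d 1) * hs2
  · simp [dvec]
    rw [Fin.prod_univ_three, hcs] at hdp
    field_simp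
    linear_combination -hs2 - (sgn σ) * hdp
      
theorem card_autSet (k : ℂ) (hk0 : k ≠ 0) (hk1 : k ^ 3 ≠ 1) (hk8 : k ^ 3 + 8 ≠ 0)
    (hk6 : k ^ 6 - 20 * k ^ 3 - 8 ≠ 0) : Nat.card (AutSet k) = 54 := by
  have e := Equiv.ofBijective (paramF k) ⟨paramF_injective k, paramF_surjective k hk0 hk1 hk8 hk6⟩
  rw [← Nat.card_congr e, Nat.card_prod, Nat.card_prod, Nat.card_perm,
    Complex.card_rootsOfUnity, Nat.card_eq_fintype_card, Fintype.card_fin]
  rfl


theorem exists_bad_set : ∃ T : Finset ℂ, ∀ k : ℂ, k ∉ T →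
    k ≠ 0 ∧ k ^ 3 ≠ 1 ∧ k ^ 3 + 8 ≠ 0 ∧ k ^ 6 - 20 * k ^ 3 - 8 ≠ 0 := by
  let P : Polynomial ℂ := Polynomial.X * (Polynomial.X ^ 3 - 1) * (Polynomial.X ^ 3 + 8) *
    (Polynomial.X ^ 6 - 20 * Polynomial.X ^ 3 - 8)
  have hP : P ≠ 0 := by
    intro h
    have := congrArg (Polynomial.eval 2) h
    simp [P] at this
    norm_num at this
  refine ⟨P.roots.toFinset, fun k hk => ?_⟩
  rw [Multiset.mem_toFinset, Polynomial.mem_roots hP, Polynomial.IsRoot] at hk
  simp [P] at hk
  push Not at hk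
  obtain ⟨⟨⟨h1, h2⟩, h3⟩, h4⟩ := hk
  refine ⟨h1, ?_, h3, h4⟩
  intro h
  apply h2
  rw [h]; ring

end Groth.Agent.Lib.Helper8.HesseL
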