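import Mathlib

set_option backward.isDefEq.respectTransparency.types false
set_option autoImplicit false
set_option linter.unusedSectionVars false
set_option linter.style.haveILetI false

namespace Groth.Agent.Lib.Helper8.IE

open Polynomial PrimeSpectrum Topology

section generic

variable {R : Type*} [CommRing R] [IsDomain R]

/-- A constructible subset of the spectrum of a domain contains a nonempty basic open subset or
its complement does, according to whether it contains the generic point. -/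
lemma constructible_generic {E : Set (PrimeSpectrum R)} (hE : IsConstructible E) :
    ((⟨⊥, Ideal.isPrime_bot⟩ : PrimeSpectrum R) ∈ E →
        ∃ g : R, g ≠ 0 ∧ (basicOpen g : Set (PrimeSpectrum R)) ⊆ E) ∧
    ((⟨⊥, Ideal.isPrime_bot⟩ : PrimeSpectrum R) ∉ E →
        ∃ g : R, g ≠ 0 ∧ (basicOpen g : Set (PrimeSpectrum R)) ⊆ Eᶜ) := by
  induction hE using IsConstructible.empty_union_induction with
  | open_retrocompact U hU _ =>
    constructor
    · intro hη
      obtain ⟨v, ⟨g, rfl⟩, hgv, hvU⟩ :=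
        (isTopologicalBasis_basic_opens (R := R)).exists_subset_of_mem_open hη hU
      refine ⟨g, ?_, hvU⟩
      intro h0
      rw [h0] at hgv
      simp at hgv
    · intro hη
      refine ⟨1, one_ne_zero, ?_⟩
      intro P _ hP
      apply hη
      have hsp : (⟨⊥, Ideal.isPrime_bot⟩ : PrimeSpectrum R) ⤳ P :=
        (PrimeSpectrum.le_iff_specializes _ _).mp bot_le
      exact hsp.mem_open hU hP
  | union s _ t _ ihs iht =>
    constructor
    · rintro (h | h)
      · obtain ⟨g, hg, hgs⟩ := ihs.1 h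
        exact ⟨g, hg, hgs.trans Set.subset_union_left⟩
      · obtain ⟨g, hg, hgs⟩ := iht.1 h
        exact ⟨g, hg, hgs.trans Set.subset_union_right⟩
    · intro h
      have h1 : (⟨⊥, Ideal.isPrime_bot⟩ : PrimeSpectrum R) ∉ s := fun h' => h (Or.inl h')
      have h2 : (⟨⊥, Ideal.isPrime_bot⟩ : PrimeSpectrum R) ∉ t := fun h' => h (Or.inr h')
      obtain ⟨g₁, hg₁, hs⟩ := ihs.2 h1
      obtain ⟨g₂, hg₂, ht⟩ := iht.2 h2
      refine ⟨g₁ * g₂, mul_ne_zero hg₁ hg₂, ?_⟩
      intro P hP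
      rw [basicOpen_mul] at hP
      rw [Set.compl_union]
      exact ⟨hs hP.1, ht hP.2⟩
  | compl s _ ih =>
    constructor
    · intro h
      exact ih.2 h
    · intro h
      rw [compl_compl]
      exact ih.1 (Set.notMem_compl_iff.mp h)

end generic

section roots

variable {k : Type*} [Field k]

lemma exists_nat_gt_cast_ne_zero (d : ℕ) : ∃ n : ℕ, d < n ∧ ((n : ℕ) : k) ≠ 0 := by
  by_cases h0 : ringChar k = 0
  · haveI : CharZero k := (CharP.ringChar_zero_iff_CharZero k).mp h0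
    exact ⟨d + 1, Nat.lt_succ_self d, Nat.cast_ne_zero.mpr (Nat.succ_ne_zero d)⟩
  · refine ⟨ringChar k * (d + 1) + 1, ?_, ?_⟩
    · have : 1 ≤ ringChar k := Nat.one_le_iff_ne_zero.mpr h0
      nlinarith
    · rw [Nat.cast_add, Nat.cast_mul, ringChar.Nat.cast_ringChar, zero_mul, zero_add, Nat.cast_one]
      exact one_ne_zero

lemma exists_prime_dvd_X_pow_sub_one (g : k[X]) (hg : g ≠ 0) :
    ∃ n : ℕ, 0 < n ∧ ∃ q : k[X], Prime q ∧ q ∣ X ^ n - 1 ∧ ¬ q ∣ g := by
  classical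
  obtain ⟨n, hdn, hn⟩ := exists_nat_gt_cast_ne_zero (k := k) g.natDegree
  have hn0 : 0 < n := lt_of_le_of_lt (Nat.zero_le _) hdn
  refine ⟨n, hn0, ?_⟩
  by_contra hcon
  have hall : ∀ q : k[X], Prime q → q ∣ X ^ n - 1 → q ∣ g := by
    intro q hq hqw
    by_contra hqg
    exact hcon ⟨q, hq, hqw, hqg⟩
  have hw : (X ^ n - 1 : k[X]) = X ^ n - C 1 := by rw [map_one]
  have hw0 : (X ^ n - 1 : k[X]) ≠ 0 := by
    rw [hw]; exact X_pow_sub_C_ne_zero hn0 1
  have hsep : (X ^ n - 1 : k[X]).Separable := by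
    rw [hw]; exact separable_X_pow_sub_C 1 hn one_ne_zero
  have hsq : Squarefree (X ^ n - 1 : k[X]) := hsep.squarefree
  have hnd := (UniqueFactorizationMonoid.squarefree_iff_nodup_normalizedFactors hw0).mp hsq
  have hdvd : (X ^ n - 1 : k[X]) ∣ g := by
    rw [UniqueFactorizationMonoid.dvd_iff_normalizedFactors_le_normalizedFactors hw0 hg,
      Multiset.le_iff_subset hnd]
    intro q hq
    rw [UniqueFactorizationMonoid.mem_normalizedFactors_iff' hg]
    refine ⟨UniqueFactorizationMonoid.irreducible_of_normalized_factor q hq,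
      UniqueFactorizationMonoid.normalize_normalized_factor q hq, ?_⟩
    exact hall q (UniqueFactorizationMonoid.prime_of_normalized_factor q hq)
      (UniqueFactorizationMonoid.dvd_of_mem_normalizedFactors hq)
  have := natDegree_le_of_dvd hdvd hg
  rw [hw, natDegree_X_pow_sub_C] at this
  omega

end roots

section main

variable {k A : Type*} [Field k] [CommRing A]

/-- (B'): if `m` is transcendental at a prime `𝔭` of a finite type `k`-algebra, then some
`m ^ n - 1` lies in a prime ideal. -/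
theorem exists_prime_of_transcendental (ψ : k →+* A) (hψ : ψ.FiniteType) (m : A)
    (𝔭 : Ideal A) [𝔭.IsPrime] (htr : ∀ Q : k[X], Q ≠ 0 → eval₂ ψ m Q ∉ 𝔭) :
    ∃ n : ℕ, 0 < n ∧ ∃ 𝔮 : Ideal A, 𝔮.IsPrime ∧ m ^ n - 1 ∈ 𝔮 := by
  let ι : k[X] →+* A := eval₂RingHom ψ m
  have hιC : ι.comp C = ψ := by
    ext a
    simp [ι]
  have hft : ι.FiniteType := by
    apply RingHom.FiniteType.of_comp_finiteType (f := (C : k →+* k[X]))
    rw [hιC]; exact hψ
  have hfp : ι.FinitePresentation := RingHom.FinitePresentation.of_finiteType.mp hft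
  have hE : IsConstructible (Set.range (comap ι)) := isConstructible_range_comap hfp
  have hη : (⟨⊥, Ideal.isPrime_bot⟩ : PrimeSpectrum k[X]) ∈ Set.range (comap ι) := by
    refine ⟨⟨𝔭, inferInstance⟩, ?_⟩
    apply PrimeSpectrum.ext
    show Ideal.comap ι 𝔭 = ⊥
    rw [eq_bot_iff]
    intro Q hQ
    by_contra hQ0
    exact htr Q hQ0 hQ
  obtain ⟨g, hg, hgE⟩ := (constructible_generic hE).1 hη
  obtain ⟨n, hn0, q, hq, hqw, hqg⟩ := exists_prime_dvd_X_pow_sub_one g hg
  refine ⟨n, hn0, ?_⟩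
  have hqprime : (Ideal.span {q}).IsPrime :=
    (Ideal.span_singleton_prime hq.ne_zero).mpr hq
  have hmem : (⟨Ideal.span {q}, hqprime⟩ : PrimeSpectrum k[X]) ∈
      (basicOpen g : Set (PrimeSpectrum k[X])) := by
    show g ∉ Ideal.span {q}
    rw [Ideal.mem_span_singleton]
    exact hqg
  obtain ⟨𝔮, h𝔮⟩ := hgE hmem
  refine ⟨𝔮.asIdeal, 𝔮.2, ?_⟩
  have h1 : q ∈ Ideal.comap ι 𝔮.asIdeal := by
    have : (comap ι 𝔮).asIdeal = Ideal.span {q} := congrArg PrimeSpectrum.asIdeal h𝔮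
    rw [show Ideal.comap ι 𝔮.asIdeal = (comap ι 𝔮).asIdeal from rfl, this]
    exact Ideal.subset_span rfl
  have h2 : (X ^ n - 1 : k[X]) ∈ Ideal.comap ι 𝔮.asIdeal := Ideal.mem_of_dvd _ hqw h1
  have h3 : ι (X ^ n - 1) = m ^ n - 1 := by simp [ι]
  rw [← h3]
  exact h2

/-- (A2), local algebraic part. -/
theorem exists_mul_eq_zero [IsReduced A] (ψ : k →+* A) (m : A)
    (H : ∀ 𝔮 : Ideal A, 𝔮.IsPrime → ∃ Q : k[X], Q ≠ 0 ∧ eval₂ ψ m Q ∈ 𝔮)
    (𝔭 : Ideal A) [𝔭.IsPrime] (Q₀ : k[X]) (hQ₀ : eval₂ ψ m Q₀ ∈ 𝔭) :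
    ∃ s : A, s ∉ 𝔭 ∧ s * eval₂ ψ m Q₀ = 0 := by
  let ι : k[X] →+* A := eval₂RingHom ψ m
  have key : ∀ 𝔮 : Ideal A, 𝔮.IsPrime → 𝔮 ≤ 𝔭 → eval₂ ψ m Q₀ ∈ 𝔮 := by
    intro 𝔮 h𝔮 hle
    haveI := h𝔮
    have hne : Ideal.comap ι 𝔮 ≠ ⊥ := by
      obtain ⟨Q, hQ0, hQ⟩ := H 𝔮 h𝔮
      intro hbot
      have : Q ∈ Ideal.comap ι 𝔮 := hQ
      rw [hbot] at this
      exact hQ0 this
    have hmax : (Ideal.comap ι 𝔮).IsMaximal := IsPrime.to_maximal_ideal hne
    have hle' : Ideal.comap ι 𝔮 ≤ Ideal.comap ι 𝔭 := Ideal.comap_mono hle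
    have hp : (Ideal.comap ι 𝔭) ≠ ⊤ := (inferInstance : (Ideal.comap ι 𝔭).IsPrime).ne_top
    have heq := hmax.eq_of_le hp hle'
    have : Q₀ ∈ Ideal.comap ι 𝔭 := hQ₀
    rw [← heq] at this
    exact this
  have hnil : IsNilpotent (algebraMap A (Localization.AtPrime 𝔭) (eval₂ ψ m Q₀)) := by
    rw [nilpotent_iff_mem_prime]
    intro J hJ
    haveI := hJ
    have h1 : Ideal.comap (algebraMap A (Localization.AtPrime 𝔭)) J ≤ 𝔭 := by
      have := Ideal.comap_mono (f := algebraMap A (Localization.AtPrime 𝔭))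
        (IsLocalRing.le_maximalIdeal hJ.ne_top)
      exact this.trans (le_of_eq (Localization.AtPrime.under_maximalIdeal (I := 𝔭)))
    exact key _ inferInstance h1
  have hzero := hnil.eq_zero
  obtain ⟨s, hs⟩ := (IsLocalization.map_eq_zero_iff 𝔭.primeCompl _ _).mp hzero
  exact ⟨s, s.2, hs⟩

end main

end Groth.Agent.Lib.Helper8.IE
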