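import Mathlib
import Groth.Agent.Lib.Helper8.IE1

set_option backward.isDefEq.respectTransparency.types false
set_option autoImplicit false
set_option linter.unusedSectionVars false
set_option linter.style.haveILetI false

namespace Groth.Agent.Lib.Helper8.IE

open Polynomial AlgebraicGeometry CategoryTheory Opposite TopologicalSpace

universe u

variable {X : Scheme.{u}}

/-- evaluation of a global function at a point. -/
noncomputable def ev (x : X) : Γ(X, ⊤) →+* X.residueField x := (X.evaluation ⊤ x trivial).hom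

lemma mem_basicOpen_iff (x : X) (g : Γ(X, ⊤)) : x ∈ X.basicOpen g ↔ ev x g ≠ 0 :=
  (X.evaluation_ne_zero_iff_mem_basicOpen (U := ⊤) x trivial g).symm

/-- restriction from global sections. -/
noncomputable def res (U : X.Opens) : Γ(X, ⊤) →+* Γ(X, U) :=
  (X.presheaf.map (homOfLE (le_top : U ≤ ⊤)).op).hom

lemma basicOpen_res' (U : X.Opens) (g : Γ(X, ⊤)) : X.basicOpen (res U g) = U ⊓ X.basicOpen g :=
  X.basicOpen_res g (homOfLE (le_top : U ≤ ⊤)).op

/-- (A1): the non-vanishing locus of a function integral over a field is clopen. -/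
theorem isClopen_basicOpen_of_isIntegralElem {k : Type*} [Field k] (φ : k →+* Γ(X, ⊤))
    (g : Γ(X, ⊤)) (hg : φ.IsIntegralElem g) : IsClopen (X.basicOpen g : Set X) := by
  obtain ⟨P, hmonic, hP⟩ := hg
  obtain ⟨P₀, hPP₀, hndvd⟩ := exists_eq_pow_rootMultiplicity_mul_and_not_dvd P hmonic.ne_zero 0
  rw [map_zero, sub_zero] at hPP₀ hndvd
  set e := rootMultiplicity 0 P
  have hc : P₀.coeff 0 ≠ 0 := fun h => hndvd (X_dvd_iff.mpr h)
  set h := eval₂ φ g P₀ with hh
  have h1 : g ^ e * h = 0 := by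
    rw [← hP, hPP₀, eval₂_mul, eval₂_pow, eval₂_X]
  have h2 : h = eval₂ φ g (divX P₀) * g + φ (P₀.coeff 0) := by
    conv_lhs => rw [hh, ← divX_mul_X_add P₀]
    rw [eval₂_add, eval₂_mul, eval₂_X, eval₂_C]
  have hset : (X.basicOpen g : Set X) = (X.basicOpen h : Set X)ᶜ := by
    ext x
    simp only [SetLike.mem_coe, Set.mem_compl_iff, mem_basicOpen_iff, ne_eq, not_not]
    constructor
    · intro hgx
      have := congrArg (ev x) h1
      rw [map_mul, map_pow, map_zero] at this
      exact (mul_eq_zero.mp this).resolve_left (pow_ne_zero _ hgx)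
    · intro hhx hgx
      have := congrArg (ev x) h2
      rw [hhx, map_add, map_mul, hgx, mul_zero, zero_add] at this
      have hne : ((ev x).comp φ) (P₀.coeff 0) ≠ 0 := (_root_.map_ne_zero _).mpr hc
      exact hne this.symm
  refine ⟨?_, (X.basicOpen g).isOpen⟩
  rw [hset, isClosed_compl_iff]
  exact (X.basicOpen h).isOpen

/-- points of an affine open from primes of its ring of functions. -/
lemma exists_point_of_prime (U : X.Opens) (hU : IsAffineOpen U) (𝔮 : Ideal Γ(X, U)) [𝔮.IsPrime] :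
    ∃ y : X, y ∈ U ∧ ∀ s : Γ(X, U), s ∈ 𝔮 ↔ y ∉ X.basicOpen s := by
  refine ⟨hU.fromSpec ⟨𝔮, inferInstance⟩, ?_, fun s => ?_⟩
  · have : hU.fromSpec ⟨𝔮, inferInstance⟩ ∈ Set.range hU.fromSpec := ⟨_, rfl⟩
    rw [hU.range_fromSpec] at this
    exact this
  · have h1 : (hU.fromSpec ⟨𝔮, inferInstance⟩ ∈ X.basicOpen s) ↔
        ((⟨𝔮, inferInstance⟩ : PrimeSpectrum Γ(X, U)) ∈ hU.fromSpec ⁻¹ᵁ X.basicOpen s) := Iff.rfl
    rw [h1, hU.fromSpec_preimage_basicOpen]
    show s ∈ 𝔮 ↔ ¬ (s ∉ 𝔮)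
    rw [not_not]

/-- the prime ideal of a point of an open. -/
noncomputable def primeOf (U : X.Opens) (x : X) (hx : x ∈ U) : Ideal Γ(X, U) :=
  RingHom.ker (X.evaluation U x hx).hom

instance (U : X.Opens) (x : X) (hx : x ∈ U) : (primeOf U x hx).IsPrime :=
  RingHom.ker_isPrime _

lemma mem_primeOf (U : X.Opens) (x : X) (hx : x ∈ U) (s : Γ(X, U)) :
    s ∈ primeOf U x hx ↔ x ∉ X.basicOpen s := by
  rw [← X.evaluation_eq_zero_iff_notMem_basicOpen x hx s]
  exact RingHom.mem_ker

end Groth.Agent.Lib.Helper8.IE
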