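import Mathlib
import Groth.Agent.Lib.Helper8.IE2
import Groth.Prelude.Def_Coh

set_option backward.isDefEq.respectTransparency.types false
set_option autoImplicit false
set_option linter.unusedSectionVars false
set_option linter.style.haveILetI false

namespace Groth.Agent.Lib.Helper8.IE

open Polynomial AlgebraicGeometry CategoryTheory Opposite TopologicalSpace

universe u

variable {X : Scheme.{u}}

/-- (A2): pointwise algebraic implies integral, on a connected reduced scheme. -/
theorem isIntegralElem_of_pointwise [IsReduced X] [ConnectedSpace X] {k : Type*} [Field k]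
    (ψ : k →+* Γ(X, ⊤)) (f : Γ(X, ⊤))
    (H : ∀ x : X, ∃ Q : k[X], Q ≠ 0 ∧ ev x (eval₂ ψ f Q) = 0) : ψ.IsIntegralElem f := by
  obtain ⟨x₀⟩ : Nonempty X := ConnectedSpace.toNonempty
  obtain ⟨Q₀, hQ₀, hx₀⟩ := H x₀
  set h := eval₂ ψ f Q₀ with hh
  have hopen : IsOpen ((X.basicOpen h : Set X)ᶜ) := by
    rw [isOpen_iff_forall_mem_open]
    intro x hx
    obtain ⟨U, hU, hxU, -⟩ := exists_isAffineOpen_mem_and_subset (X := X) (x := x) (U := ⊤) trivial
    have hHU : ∀ 𝔮 : Ideal Γ(X, U), 𝔮.IsPrime →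
        ∃ Q : k[X], Q ≠ 0 ∧ eval₂ ((res U).comp ψ) (res U f) Q ∈ 𝔮 := by
      intro 𝔮 h𝔮
      haveI := h𝔮
      obtain ⟨y, hyU, hy⟩ := exists_point_of_prime U hU 𝔮
      obtain ⟨Q, hQ, hQy⟩ := H y
      refine ⟨Q, hQ, ?_⟩
      rw [← hom_eval₂, hy, basicOpen_res']
      rintro ⟨-, hmem⟩
      exact (mem_basicOpen_iff y _).mp hmem hQy
    have hQ₀U : eval₂ ((res U).comp ψ) (res U f) Q₀ ∈ primeOf U x hxU := by
      rw [← hom_eval₂, mem_primeOf, basicOpen_res']
      rintro ⟨-, hmem⟩
      exact hx hmem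
    obtain ⟨s, hs, hs0⟩ := exists_mul_eq_zero ((res U).comp ψ) (res U f) hHU (primeOf U x hxU) Q₀ hQ₀U
    rw [← hom_eval₂] at hs0
    refine ⟨(X.basicOpen s : Set X), ?_, (X.basicOpen s).isOpen, ?_⟩
    · intro y hyW hyh
      have hyU : y ∈ U := X.basicOpen_le s hyW
      have hyh' : y ∈ X.basicOpen h := hyh
      have : y ∈ X.basicOpen (s * res U h) := by
        rw [Scheme.basicOpen_mul, basicOpen_res']
        exact ⟨hyW, hyU, hyh'⟩
      rw [hs0, Scheme.basicOpen_zero] at this
      exact this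
    · by_contra hcon
      exact hs ((mem_primeOf U x hxU s).mpr hcon)
  have hclopen : IsClopen ((X.basicOpen h : Set X)ᶜ) :=
    ⟨isClosed_compl_iff.mpr (X.basicOpen h).isOpen, hopen⟩
  have hx₀Z : x₀ ∈ (X.basicOpen h : Set X)ᶜ := by
    intro hmem
    exact (mem_basicOpen_iff x₀ h).mp hmem hx₀
  have huniv : (X.basicOpen h : Set X)ᶜ = Set.univ := by
    rcases isClopen_iff.mp hclopen with h0 | h1
    · rw [h0] at hx₀Z
      exact (Set.notMem_empty _ hx₀Z).elim
    · exact h1
  have hbot : X.basicOpen h = ⊥ := by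
    ext y
    simp only [Opens.coe_bot, Set.mem_empty_iff_false, iff_false]
    intro hy
    have : y ∈ (X.basicOpen h : Set X)ᶜ := by rw [huniv]; trivial
    exact this hy
  have hzero : h = 0 := (basicOpen_eq_bot_iff h).mp hbot
  refine ⟨Q₀ * C (Q₀.leadingCoeff)⁻¹, monic_mul_leadingCoeff_inv hQ₀, ?_⟩
  rw [eval₂_mul, ← hh, hzero, zero_mul]

/-- the structure map on global sections -/
noncomputable def toG {k : Type u} [CommRing k] (a : X ⟶ Spec (CommRingCat.of k)) : k →+* Γ(X, ⊤) :=
  (a.appTop).hom.comp (Scheme.ΓSpecIso (CommRingCat.of k)).inv.hom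

lemma finiteType_res_toG {k : Type u} [CommRing k] (b : X ⟶ Spec (CommRingCat.of k))
    [LocallyOfFiniteType b] (U : X.Opens) (hU : IsAffineOpen U) :
    ((res U).comp (toG b)).FiniteType := by
  have h1 := LocallyOfFiniteType.finiteType_appLE b (isAffineOpen_top (Spec (CommRingCat.of k))) hU
    (le_top : U ≤ b ⁻¹ᵁ ⊤)
  have h2 : (Scheme.ΓSpecIso (CommRingCat.of k)).inv.hom.FiniteType := by
    apply RingHom.FiniteType.of_surjective
    exact (ConcreteCategory.bijective_of_isIso (Scheme.ΓSpecIso (CommRingCat.of k)).inv).2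
  have h3 := h1.comp h2
  have heq : (res U).comp (toG b) =
      (b.appLE ⊤ U le_top).hom.comp (Scheme.ΓSpecIso (CommRingCat.of k)).inv.hom := by
    rfl
  rw [heq]
  exact h3

theorem isIntegralElem_transfer [IsReduced X] [ConnectedSpace X] {k₁ k₂ : Type u} [Field k₁]
    [Field k₂] (a : X ⟶ Spec (CommRingCat.of k₁)) (b : X ⟶ Spec (CommRingCat.of k₂))
    [LocallyOfFiniteType b] (f : Γ(X, ⊤)) (hf : (toG a).IsIntegralElem f) :
    (toG b).IsIntegralElem f := by
  apply isIntegralElem_of_pointwise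
  by_contra hcon
  simp only [not_forall, not_exists, not_and] at hcon
  obtain ⟨x, hx⟩ := hcon
  obtain ⟨U, hU, hxU, -⟩ := exists_isAffineOpen_mem_and_subset (X := X) (x := x) (U := ⊤) trivial
  have hft := finiteType_res_toG b U hU
  have htr : ∀ Q : k₂[X], Q ≠ 0 → eval₂ ((res U).comp (toG b)) (res U f) Q ∉ primeOf U x hxU := by
    intro Q hQ
    rw [← hom_eval₂, mem_primeOf, not_not, basicOpen_res']
    exact ⟨hxU, (mem_basicOpen_iff x _).mpr (hx Q hQ)⟩
  obtain ⟨n, hn, 𝔮, h𝔮, hmem⟩ :=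
    exists_prime_of_transcendental ((res U).comp (toG b)) hft (res U f) (primeOf U x hxU) htr
  haveI := h𝔮
  obtain ⟨y, hyU, hy⟩ := exists_point_of_prime U hU 𝔮
  set g : Γ(X, ⊤) := f ^ n - 1 with hg
  have hresg : res U g = res U f ^ n - 1 := by
    rw [hg, map_sub, map_pow, map_one]
  have hyg : y ∉ X.basicOpen g := by
    intro hyg
    have : y ∈ X.basicOpen (res U g) := by
      rw [basicOpen_res']
      exact ⟨hyU, hyg⟩
    rw [hresg] at this
    exact (hy _).mp hmem this
  have hgint : (toG a).IsIntegralElem g := by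
    letI := (toG a).toAlgebra
    have h1 : IsIntegral k₁ f := hf
    have h2 : IsIntegral k₁ (f ^ n - 1) := (h1.pow n).sub isIntegral_one
    exact h2
  have hclopen := isClopen_basicOpen_of_isIntegralElem (toG a) g hgint
  have hempty : (X.basicOpen g : Set X) = ∅ := by
    rcases isClopen_iff.mp hclopen with h0 | h1
    · exact h0
    · exfalso
      apply hyg
      show y ∈ (X.basicOpen g : Set X)
      rw [h1]; trivial
  have hxg : ev x g = 0 := by
    by_contra hne
    have : x ∈ (X.basicOpen g : Set X) := (mem_basicOpen_iff x g).mpr hne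
    rw [hempty] at this
    exact this
  have hXn : (Polynomial.X ^ n - 1 : k₂[X]) ≠ 0 := by
    rw [show (Polynomial.X ^ n - 1 : k₂[X]) = Polynomial.X ^ n - C 1 by rw [map_one]]
    exact X_pow_sub_C_ne_zero hn 1
  apply hx (Polynomial.X ^ n - 1) hXn
  rw [eval₂_sub, eval₂_pow, eval₂_X, eval₂_one]
  exact hxg

theorem main (X : Scheme.{u}) [IsReduced X] [ConnectedSpace X]
    (k₁ k₂ : Type u) [Field k₁] [Field k₂]
    (a : X ⟶ Spec (CommRingCat.of k₁)) (b : X ⟶ Spec (CommRingCat.of k₂))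
    [LocallyOfFiniteType a] [LocallyOfFiniteType b] (x : Coh.Γtop X) :
    (Coh.toGlobal a).IsIntegralElem x ↔ (Coh.toGlobal b).IsIntegralElem x := by
  constructor
  · intro h
    exact isIntegralElem_transfer a b x h
  · intro h
    exact isIntegralElem_transfer b a x h

end Groth.Agent.Lib.Helper8.IE
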