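import Mathlib
import Groth.Prelude.Def_Isoc
set_option backward.isDefEq.respectTransparency.types false
set_option autoImplicit false
set_option linter.unusedSectionVars false

open scoped Pointwise Isocrystal

universe u v

namespace Groth.Agent.Lib.Helper8.IsocL

open Isoc

variable {p : ℕ} [Fact p.Prime] {k : Type u} [Field k] [CharP k p] [PerfectRing k p]
variable {N : Type v} [AddCommGroup N] [Module (WittVector p k) N] [Module K(p, k) N]
  [IsScalarTower (WittVector p k) K(p, k) N]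
variable {τ : K(p, k) →+* K(p, k)}

/-- The twist maps `W` onto `W`. -/
structure Good (τ : K(p, k) →+* K(p, k)) : Prop where
  map_W : ∀ w : WittVector p k, ∃ w' : WittVector p k,
    τ (algebraMap (WittVector p k) K(p, k) w) = algebraMap (WittVector p k) K(p, k) w'
  surj_W : ∀ w' : WittVector p k, ∃ w : WittVector p k,
    τ (algebraMap (WittVector p k) K(p, k) w) = algebraMap (WittVector p k) K(p, k) w'

lemma good_frob (a : ℤ) : Good (frob p k a) where
  map_W w := ⟨_, frob_algebraMap p k a w⟩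
  surj_W w' := ⟨(WittVector.frobeniusEquiv p k ^ a).symm w', by
    rw [frob_algebraMap, RingEquiv.apply_symm_apply]⟩

lemma Good.one : Good (1 : K(p, k) →+* K(p, k)) where
  map_W w := ⟨w, rfl⟩
  surj_W w := ⟨w, rfl⟩

lemma Good.mul {τ τ' : K(p, k) →+* K(p, k)} (h : Good τ) (h' : Good τ') : Good (τ * τ') where
  map_W w := by
    obtain ⟨w₁, h₁⟩ := h'.map_W w
    obtain ⟨w₂, h₂⟩ := h.map_W w₁
    exact ⟨w₂, by rw [RingHom.mul_def, RingHom.comp_apply, h₁, h₂]⟩
  surj_W w := by
    obtain ⟨w₁, h₁⟩ := h.surj_W w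
    obtain ⟨w₂, h₂⟩ := h'.surj_W w₁
    exact ⟨w₂, by rw [RingHom.mul_def, RingHom.comp_apply, h₂, h₁]⟩

lemma Good.pow (h : Good τ) (n : ℕ) : Good (τ ^ n) := by
  induction n with
  | zero => rw [pow_zero]; exact Good.one
  | succ n ih => rw [pow_succ]; exact ih.mul h

lemma p_ne_zero : (p : K(p, k)) ≠ 0 := by
  have h1 : (p : WittVector p k) ≠ 0 := WittVector.p_nonzero p k
  have h2 : (p : K(p, k)) = algebraMap (WittVector p k) K(p, k) (p : WittVector p k) := by
    rw [map_natCast]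
  rw [h2]
  exact fun h => h1 ((IsFractionRing.injective (WittVector p k) K(p, k)) (by rw [h, map_zero]))

lemma ppow_ne_zero (r : ℤ) : (p : K(p, k)) ^ r ≠ 0 := zpow_ne_zero r p_ne_zero

lemma map_ppow (τ : K(p, k) →+* K(p, k)) (r : ℤ) : τ ((p : K(p, k)) ^ r) = (p : K(p, k)) ^ r := by
  rw [map_zpow₀, map_natCast]

/-! ### `pPow` -/

lemma mem_pPow {r : ℤ} {M : Submodule (WittVector p k) N} {x : N} :
    x ∈ pPow r M ↔ ∃ m ∈ M, (p : K(p, k)) ^ r • m = x :=
  Submodule.mem_smul_pointwise_iff_exists x _ M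

lemma mem_pPow' {r : ℤ} {M : Submodule (WittVector p k) N} {x : N} :
    x ∈ pPow r M ↔ (p : K(p, k)) ^ (-r) • x ∈ M := by
  rw [mem_pPow]
  constructor
  · rintro ⟨m, hm, rfl⟩
    rw [smul_smul, ← zpow_add₀ p_ne_zero, neg_add_cancel, zpow_zero, one_smul]
    exact hm
  · intro h
    refine ⟨_, h, ?_⟩
    rw [smul_smul, ← zpow_add₀ p_ne_zero, add_neg_cancel, zpow_zero, one_smul]

lemma smul_mem_pPow {r : ℤ} {M : Submodule (WittVector p k) N} {m : N} (hm : m ∈ M) :
    (p : K(p, k)) ^ r • m ∈ pPow r M := mem_pPow.mpr ⟨m, hm, rfl⟩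

@[simp] lemma pPow_zero (M : Submodule (WittVector p k) N) : pPow 0 M = M := by
  ext x
  rw [mem_pPow']
  simp

lemma pPow_add (r s : ℤ) (M : Submodule (WittVector p k) N) :
    pPow (r + s) M = pPow r (pPow s M) := by
  ext x
  rw [mem_pPow', mem_pPow', mem_pPow', smul_smul, ← zpow_add₀ p_ne_zero]
  congr! 3
  ring

lemma pPow_mono {r : ℤ} {M M' : Submodule (WittVector p k) N} (h : M ≤ M') :
    pPow r M ≤ pPow r M' := by
  intro x hx
  rw [mem_pPow'] at hx ⊢
  exact h hx

lemma natCast_smul_mem {M : Submodule (WittVector p k) N} {m : N} (hm : m ∈ M) (n : ℕ) :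
    ((p : K(p, k)) ^ n) • m ∈ M := by
  have : ((p : K(p, k)) ^ n) • m = ((p : WittVector p k) ^ n) • m := by
    rw [← algebraMap_smul K(p, k) ((p : WittVector p k) ^ n) m, map_pow, map_natCast]
  rw [this]
  exact M.smul_mem _ hm

/-- `p^r M` decreases with `r`. -/
lemma pPow_anti {r s : ℤ} (h : r ≤ s) (M : Submodule (WittVector p k) N) :
    pPow s M ≤ pPow r M := by
  intro x hx
  rw [mem_pPow'] at hx ⊢
  obtain ⟨n, hn⟩ := Int.eq_ofNat_of_zero_le (sub_nonneg.mpr h)
  have : (p : K(p, k)) ^ (-r) • x = ((p : K(p, k)) ^ n) • ((p : K(p, k)) ^ (-s) • x) := by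
    rw [smul_smul, ← zpow_natCast, ← zpow_add₀ p_ne_zero, ← hn]
    congr 2
    ring
  rw [this]
  exact natCast_smul_mem hx n

lemma pPow_le_iff {r : ℤ} {M M' : Submodule (WittVector p k) N} :
    pPow r M ≤ M' ↔ M ≤ pPow (-r) M' := by
  constructor
  · intro h x hx
    rw [mem_pPow', neg_neg]
    exact h (smul_mem_pPow hx)
  · intro h x hx
    rw [mem_pPow'] at hx
    have := h hx
    rw [mem_pPow', neg_neg, smul_smul, ← zpow_add₀ p_ne_zero, add_neg_cancel, zpow_zero,
      one_smul] at this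
    exact this

/-! ### `latImg` -/

lemma iter_add (F : N →ₛₗ[τ] N) (s t : ℕ) (x : N) :
    iter F (s + t) x = iter F s (iter F t x) := by
  simp only [iter_apply, Function.iterate_add_apply]

lemma mem_latImg (hτ : Good τ) {F : N →ₛₗ[τ] N} {s : ℕ} {M : Submodule (WittVector p k) N}
    {x : N} : x ∈ latImg F s M ↔ ∃ m ∈ M, iter F s m = x := by
  constructor
  · intro hx
    unfold latImg at hx
    induction hx using Submodule.span_induction with
    | mem x hx =>
      obtain ⟨m, hm, rfl⟩ := hx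
      exact ⟨m, hm, rfl⟩
    | zero => exact ⟨0, M.zero_mem, map_zero _⟩
    | add x y _ _ hx hy =>
      obtain ⟨m, hm, rfl⟩ := hx
      obtain ⟨m', hm', rfl⟩ := hy
      exact ⟨m + m', M.add_mem hm hm', map_add _ _ _⟩
    | smul w x _ hx =>
      obtain ⟨m, hm, rfl⟩ := hx
      obtain ⟨w₀, hw₀⟩ := (hτ.pow s).surj_W w
      refine ⟨w₀ • m, M.smul_mem _ hm, ?_⟩
      rw [← algebraMap_smul K(p, k) w₀ m, map_smulₛₗ, hw₀, algebraMap_smul]
  · rintro ⟨m, hm, rfl⟩
    exact Submodule.subset_span ⟨m, hm, rfl⟩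

lemma iter_mem_latImg {F : N →ₛₗ[τ] N} {s : ℕ} {M : Submodule (WittVector p k) N}
    {m : N} (hm : m ∈ M) : iter F s m ∈ latImg F s M :=
  Submodule.subset_span ⟨m, hm, rfl⟩

lemma latImg_mono (F : N →ₛₗ[τ] N) (s : ℕ) {M M' : Submodule (WittVector p k) N} (h : M ≤ M') :
    latImg F s M ≤ latImg F s M' :=
  Submodule.span_mono (Set.image_mono h)

@[simp] lemma latImg_zero (F : N →ₛₗ[τ] N) (M : Submodule (WittVector p k) N) :
    latImg F 0 M = M := by
  unfold latImg
  simp

lemma latImg_add (hτ : Good τ) (F : N →ₛₗ[τ] N) (s t : ℕ) (M : Submodule (WittVector p k) N) :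
    latImg F (s + t) M = latImg F s (latImg F t M) := by
  ext x
  rw [mem_latImg hτ, mem_latImg hτ]
  constructor
  · rintro ⟨m, hm, rfl⟩
    exact ⟨iter F t m, iter_mem_latImg hm, (iter_add F s t m).symm⟩
  · rintro ⟨y, hy, rfl⟩
    obtain ⟨m, hm, rfl⟩ := (mem_latImg hτ).mp hy
    exact ⟨m, hm, iter_add F s t m⟩

lemma iter_ppow_smul (F : N →ₛₗ[τ] N) (s : ℕ) (r : ℤ) (x : N) :
    iter F s ((p : K(p, k)) ^ r • x) = (p : K(p, k)) ^ r • iter F s x := by
  rw [map_smulₛₗ, map_ppow]

lemma latImg_pPow (hτ : Good τ) (F : N →ₛₗ[τ] N) (s : ℕ) (r : ℤ)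
    (M : Submodule (WittVector p k) N) : latImg F s (pPow r M) = pPow r (latImg F s M) := by
  ext x
  rw [mem_latImg hτ, mem_pPow]
  constructor
  · rintro ⟨y, hy, rfl⟩
    obtain ⟨m, hm, rfl⟩ := mem_pPow.mp hy
    exact ⟨iter F s m, iter_mem_latImg hm, (iter_ppow_smul F s r m).symm⟩
  · rintro ⟨y, hy, rfl⟩
    obtain ⟨m, hm, rfl⟩ := (mem_latImg hτ).mp hy
    exact ⟨_, smul_mem_pPow hm, iter_ppow_smul F s r m⟩


/-! ### Lattices -/

lemma isLattice_pPow {M : Submodule (WittVector p k) N} (hM : M.IsLattice K(p, k)) (r : ℤ) :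
    (pPow r M).IsLattice K(p, k) := by
  have := Submodule.IsLattice.smul K(p, k) M (Units.mk0 ((p : K(p, k)) ^ r) (ppow_ne_zero r))
  exact this

lemma iterate_bijective {F : N →ₛₗ[τ] N} (hF : IsIsoc F) (s : ℕ) :
    Function.Bijective (iter F s) := by
  rw [coe_iter]
  exact hF.bijective.iterate s

lemma isLattice_latImg (hτ : Good τ) {F : N →ₛₗ[τ] N} (hF : IsIsoc F)
    {M : Submodule (WittVector p k) N} (hM : M.IsLattice K(p, k)) (s : ℕ) :
    (latImg F s M).IsLattice K(p, k) := by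
  classical
  constructor
  · obtain ⟨S, hS⟩ := hM.fg
    refine ⟨S.image (iter F s), ?_⟩
    apply le_antisymm
    · rw [Submodule.span_le]
      intro x hx
      simp only [Finset.coe_image, Set.mem_image, Finset.mem_coe] at hx
      obtain ⟨m, hm, rfl⟩ := hx
      apply iter_mem_latImg
      rw [← hS]
      exact Submodule.subset_span hm
    · have key : ∀ m, m ∈ Submodule.span (WittVector p k) (S : Set N) →
          iter F s m ∈ Submodule.span (WittVector p k) ((S.image (iter F s) : Finset N) : Set N) := by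
        intro m hm
        induction hm using Submodule.span_induction with
        | mem x hx => exact Submodule.subset_span (by simpa using ⟨x, hx, rfl⟩)
        | zero => rw [map_zero]; exact Submodule.zero_mem _
        | add x y _ _ hx hy => rw [map_add]; exact Submodule.add_mem _ hx hy
        | smul w x _ hx =>
          obtain ⟨w', hw'⟩ := (hτ.pow s).map_W w
          rw [← algebraMap_smul K(p, k) w x, map_smulₛₗ, hw', algebraMap_smul]
          exact Submodule.smul_mem _ _ hx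
      intro x hx
      obtain ⟨m, hm, rfl⟩ := (mem_latImg hτ).mp hx
      rw [← hS] at hm
      exact key m hm
  · rw [eq_top_iff]
    intro x _
    have key : ∀ y, y ∈ Submodule.span K(p, k) (M : Set N) →
        iter F s y ∈ Submodule.span K(p, k) (latImg F s M : Set N) := by
      intro y hy
      induction hy using Submodule.span_induction with
      | mem y hy => exact Submodule.subset_span (iter_mem_latImg hy)
      | zero => rw [map_zero]; exact Submodule.zero_mem _
      | add x y _ _ hx hy => rw [map_add]; exact Submodule.add_mem _ hx hy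
      | smul c x _ hx => rw [map_smulₛₗ]; exact Submodule.smul_mem _ _ hx
    obtain ⟨y, rfl⟩ := (iterate_bijective hF s).surjective x
    exact key y (by rw [hM.span_eq_top]; trivial)

/-- Every element of `L` becomes integral after multiplying by a power of `p`. -/
lemma exists_ppow_mul_mem (c : K(p, k)) :
    ∃ (j : ℕ) (w : WittVector p k), (p : K(p, k)) ^ j * c = algebraMap (WittVector p k) K(p, k) w := by
  obtain ⟨a, b, hb, rfl⟩ := IsFractionRing.div_surjective (A := WittVector p k) c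
  have hb0 : b ≠ 0 := nonZeroDivisors.ne_zero hb
  obtain ⟨j, u, hu⟩ := WittVector.exists_eq_pow_p_mul' b hb0
  refine ⟨j, a * ((u⁻¹ : (WittVector p k)ˣ) : WittVector p k), ?_⟩
  have hbL : algebraMap (WittVector p k) K(p, k) b ≠ 0 := by
    intro h
    exact hb0 ((IsFractionRing.injective (WittVector p k) K(p, k)) (by rw [h, map_zero]))
  have hU : algebraMap (WittVector p k) K(p, k) (u : WittVector p k) ≠ 0 := by
    intro h
    exact u.ne_zero ((IsFractionRing.injective (WittVector p k) K(p, k)) (by rw [h, map_zero]))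
  have hinv : algebraMap (WittVector p k) K(p, k) ((u⁻¹ : (WittVector p k)ˣ) : WittVector p k)
      = (algebraMap (WittVector p k) K(p, k) (u : WittVector p k))⁻¹ := by
    apply eq_inv_of_mul_eq_one_left
    rw [← map_mul, Units.inv_mul, map_one]
  have hp0 : (p : K(p, k)) ≠ 0 := p_ne_zero
  rw [map_mul, hinv, hu, map_mul, map_pow, map_natCast]
  field_simp

lemma exists_ppow_smul_mem {M : Submodule (WittVector p k) N} (hM : M.IsLattice K(p, k)) (x : N) :
    ∃ e : ℕ, (p : K(p, k)) ^ e • x ∈ M := by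
  have hx : x ∈ Submodule.span K(p, k) (M : Set N) := by rw [hM.span_eq_top]; trivial
  induction hx using Submodule.span_induction with
  | mem y hy => exact ⟨0, by simpa using hy⟩
  | zero => exact ⟨0, by simp⟩
  | add x y _ _ hx hy =>
    obtain ⟨e₁, h₁⟩ := hx
    obtain ⟨e₂, h₂⟩ := hy
    refine ⟨e₁ + e₂, ?_⟩
    rw [smul_add]
    apply M.add_mem
    · rw [add_comm, pow_add, mul_smul]
      exact natCast_smul_mem h₁ e₂
    · rw [pow_add, mul_smul]
      exact natCast_smul_mem h₂ e₁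
  | smul c x _ hx =>
    obtain ⟨e, he⟩ := hx
    obtain ⟨j, w, hw⟩ := exists_ppow_mul_mem c
    refine ⟨j + e, ?_⟩
    have : (p : K(p, k)) ^ (j + e) • c • x = w • ((p : K(p, k)) ^ e • x) := by
      rw [← algebraMap_smul K(p, k) w, ← hw, smul_smul, smul_smul, pow_add]
      congr 1
      ring
    rw [this]
    exact M.smul_mem _ he

/-- Any two lattices are commensurable. -/
lemma exists_pPow_le {M₁ M₂ : Submodule (WittVector p k) N} (hM₁ : M₁.IsLattice K(p, k))
    (hM₂ : M₂.IsLattice K(p, k)) : ∃ c : ℕ, pPow c M₁ ≤ M₂ := by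
  obtain ⟨S, hS⟩ := hM₁.fg
  have h : ∀ x : N, ∃ e : ℕ, (p : K(p, k)) ^ e • x ∈ M₂ := exists_ppow_smul_mem hM₂
  choose e he using h
  refine ⟨S.sup e, ?_⟩
  rw [pPow_le_iff, ← hS, Submodule.span_le]
  intro x hx
  rw [SetLike.mem_coe, mem_pPow', neg_neg, zpow_natCast]
  have hle : e x ≤ S.sup e := Finset.le_sup hx
  obtain ⟨j, hj⟩ := Nat.exists_eq_add_of_le hle
  rw [hj, add_comm, pow_add, mul_smul]
  exact natCast_smul_mem (he x) j

lemma p_mem_maximalIdeal : (p : WittVector p k) ∈ IsLocalRing.maximalIdeal (WittVector p k) := by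
  rw [IsLocalRing.mem_maximalIdeal, mem_nonunits_iff]
  exact (WittVector.irreducible p).not_isUnit

/-- Nakayama: a finitely generated `M` with `M ⊆ p^e M`, `e ≥ 1`, is zero. -/
lemma eq_bot_of_le_pPow {M : Submodule (WittVector p k) N} (hM : M.FG) {e : ℤ} (he : 1 ≤ e)
    (h : M ≤ pPow e M) : M = ⊥ := by
  apply Submodule.eq_bot_of_le_smul_of_le_jacobson_bot
    (Ideal.span {(p : WittVector p k)}) M hM
  · intro x hx
    have h1 := pPow_anti he M (h hx)
    obtain ⟨m, hm, rfl⟩ := mem_pPow.mp h1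
    have : (p : K(p, k)) ^ (1 : ℤ) • m = (p : WittVector p k) • m := by
      rw [zpow_one, ← algebraMap_smul K(p, k) (p : WittVector p k) m, map_natCast]
    rw [this]
    exact Submodule.smul_mem_smul (Ideal.subset_span rfl) hm
  · rw [IsLocalRing.jacobson_eq_maximalIdeal ⊥ bot_ne_top, Ideal.span_le]
    intro x hx
    rw [Set.mem_singleton_iff] at hx
    rw [hx]
    exact p_mem_maximalIdeal

lemma ne_bot_of_isLattice [Nontrivial N] {M : Submodule (WittVector p k) N}
    (hM : M.IsLattice K(p, k)) : M ≠ ⊥ := by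
  rintro rfl
  have h := hM.span_eq_top
  simp only [Submodule.bot_coe, Submodule.span_zero_singleton] at h
  obtain ⟨x, hx⟩ := exists_ne (0 : N)
  have : x ∈ (⊥ : Submodule K(p, k) N) := by rw [h]; trivial
  exact hx ((Submodule.mem_bot _).mp this)

/-! ### Orders -/

lemma IsOrd.le_of_le {M : Submodule (WittVector p k) N} {F : N →ₛₗ[τ] N} {s : ℕ} {r e : ℤ}
    (h : IsOrd M F s r) (he : latImg F s M ≤ pPow e M) : e ≤ r := by
  by_contra hlt
  push Not at hlt
  exact h.2 (le_trans he (pPow_anti (by omega) M))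

lemma IsOrd.unique {M : Submodule (WittVector p k) N} {F : N →ₛₗ[τ] N} {s : ℕ} {r r' : ℤ}
    (h : IsOrd M F s r) (h' : IsOrd M F s r') : r = r' :=
  le_antisymm (IsOrd.le_of_le h' h.1) (IsOrd.le_of_le h h'.1)

/-- If `p^c M ⊆ F^s M ⊆ p^r M` for a nonzero lattice then `r ≤ c`. -/
lemma le_of_pPow_le_of_le {M M' : Submodule (WittVector p k) N} (hM : M.FG) (hM0 : M ≠ ⊥)
    {c r : ℤ} (h1 : pPow c M ≤ M') (h2 : M' ≤ pPow r M) : r ≤ c := by
  by_contra hlt
  push Not at hlt
  apply hM0
  apply eq_bot_of_le_pPow hM (e := r - c) (by omega)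
  have h3 := le_trans h1 h2
  rw [pPow_le_iff, ← pPow_add] at h3
  have : -c + r = r - c := by ring
  rwa [this] at h3

lemma exists_isOrd [Nontrivial N] (hτ : Good τ) {F : N →ₛₗ[τ] N} (hF : IsIsoc F)
    {M : Submodule (WittVector p k) N} (hM : M.IsLattice K(p, k)) (s : ℕ) :
    ∃ r : ℤ, IsOrd M F s r := by
  have hL := isLattice_latImg hτ hF hM s
  obtain ⟨c, hc⟩ := exists_pPow_le hL hM
  obtain ⟨c', hc'⟩ := exists_pPow_le hM hL
  have hne : ∃ r : ℤ, latImg F s M ≤ pPow r M := ⟨-c, pPow_le_iff.mp hc⟩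
  have hbdd : ∃ b : ℤ, ∀ r : ℤ, latImg F s M ≤ pPow r M → r ≤ b :=
    ⟨c', fun r hr => le_of_pPow_le_of_le hM.fg (ne_bot_of_isLattice hM) hc' hr⟩
  obtain ⟨r, hr, hmax⟩ := Int.exists_greatest_of_bdd hbdd hne
  refine ⟨r, hr, fun h => ?_⟩
  have := hmax (r + 1) h
  omega

end Groth.Agent.Lib.Helper8.IsocL
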