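import Mathlib
import Groth.Agent.Lib.Helper8.Isoc1
set_option backward.isDefEq.respectTransparency.types false
set_option autoImplicit false
set_option linter.unusedSectionVars false

open scoped Pointwise Isocrystal

universe u v

namespace Groth.Agent.Lib.Helper8.IsocL

open Isoc Filter Topology

variable {p : ℕ} [Fact p.Prime] {k : Type u} [Field k] [CharP k p] [PerfectRing k p]
variable {N : Type v} [AddCommGroup N] [Module (WittVector p k) N] [Module K(p, k) N]
  [IsScalarTower (WittVector p k) K(p, k) N]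
variable {τ : K(p, k) →+* K(p, k)}

lemma IsOrd.ne_bot {M : Submodule (WittVector p k) N} {F : N →ₛₗ[τ] N} {s : ℕ} {r : ℤ}
    (h : IsOrd M F s r) : M ≠ ⊥ := by
  rintro rfl
  apply h.2
  unfold latImg
  simp

/-- Superadditivity of orders. -/
lemma isOrd_superadd (hτ : Good τ) {M : Submodule (WittVector p k) N} {F : N →ₛₗ[τ] N} {m n : ℕ}
    {a b c : ℤ} (ha : IsOrd M F m a) (hb : IsOrd M F n b) (hc : IsOrd M F (m + n) c) :
    a + b ≤ c := by
  apply IsOrd.le_of_le hc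
  rw [latImg_add hτ]
  calc latImg F m (latImg F n M) ≤ latImg F m (pPow b M) := latImg_mono F m hb.1
    _ = pPow b (latImg F m M) := latImg_pPow hτ F m b M
    _ ≤ pPow b (pPow a M) := pPow_mono ha.1
    _ = pPow (a + b) M := by rw [← pPow_add, add_comm]

lemma pPow_mul_le_latImg (hτ : Good τ) {M : Submodule (WittVector p k) N} {F : N →ₛₗ[τ] N}
    {c : ℤ} (hc : pPow c M ≤ latImg F 1 M) (n : ℕ) : pPow (n * c) M ≤ latImg F n M := by
  induction n with
  | zero => simp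
  | succ n ih =>
    have h1 : ((n + 1 : ℕ) : ℤ) * c = n * c + c := by push_cast; ring
    rw [h1, pPow_add, add_comm n 1, latImg_add hτ]
    calc pPow (n * c) (pPow c M) ≤ pPow (n * c) (latImg F 1 M) := pPow_mono hc
      _ = latImg F 1 (pPow (n * c) M) := (latImg_pPow hτ F 1 _ M).symm
      _ ≤ latImg F 1 (latImg F n M) := latImg_mono F 1 ih

/-- Linear upper bound for the orders of the iterates. -/
lemma exists_ord_le_mul (hτ : Good τ) {F : N →ₛₗ[τ] N} (hF : IsIsoc F)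
    {M : Submodule (WittVector p k) N} (hM : M.IsLattice K(p, k)) :
    ∃ c : ℕ, ∀ (n : ℕ) (r : ℤ), IsOrd M F n r → r ≤ n * c := by
  obtain ⟨c, hc⟩ := exists_pPow_le hM (isLattice_latImg hτ hF hM 1)
  refine ⟨c, fun n r hr => ?_⟩
  exact le_of_pPow_le_of_le hM.fg (IsOrd.ne_bot hr) (pPow_mul_le_latImg hτ hc n) hr.1

/-- **S17141** for a general good twist. -/
theorem exists_ord_tendsto [Nontrivial N] (hτ : Good τ) {F : N →ₛₗ[τ] N} (hF : IsIsoc F)
    {M : Submodule (WittVector p k) N} (hM : M.IsLattice K(p, k)) :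
    ∃ o : ℕ → ℤ, (∀ n : ℕ, IsOrd M F n (o n)) ∧
      ∃ lam : ℝ, Tendsto (fun n : ℕ => (o n : ℝ) / n) atTop (𝓝 lam) := by
  choose o ho using fun s => exists_isOrd hτ hF hM s
  refine ⟨o, ho, ?_⟩
  obtain ⟨c, hc⟩ := exists_ord_le_mul hτ hF hM
  have hsub : Subadditive (fun n => -(o n : ℝ)) := by
    intro m n
    have := isOrd_superadd hτ (ho m) (ho n) (ho (m + n))
    have h2 : ((o m : ℝ) + o n) ≤ o (m + n) := by exact_mod_cast this
    simp only
    linarith
  have hbdd : BddBelow (Set.range fun n : ℕ => -(o n : ℝ) / n) := by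
    refine ⟨-(c : ℝ), ?_⟩
    rintro _ ⟨n, rfl⟩
    simp only
    rcases Nat.eq_zero_or_pos n with rfl | hn
    · simp
    · have h1 := hc n (o n) (ho n)
      have h2 : (o n : ℝ) ≤ n * c := by exact_mod_cast h1
      have hn' : (0 : ℝ) < n := by exact_mod_cast hn
      rw [le_div_iff₀ hn']
      nlinarith
  refine ⟨-hsub.lim, ?_⟩
  have := (hsub.tendsto_lim hbdd).neg
  refine this.congr (fun n => ?_)
  ring

/-- Two lattices give comparable orders. -/
lemma ord_sub_le (hτ : Good τ) {F : N →ₛₗ[τ] N} {M₁ M₂ : Submodule (WittVector p k) N}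
    {c c' : ℤ} (h12 : pPow c M₁ ≤ M₂) (h21 : pPow c' M₂ ≤ M₁) {n : ℕ} {r₁ r₂ : ℤ}
    (h₁ : IsOrd M₁ F n r₁) (h₂ : IsOrd M₂ F n r₂) : r₁ - c - c' ≤ r₂ := by
  apply IsOrd.le_of_le h₂
  have h21' : M₂ ≤ pPow (-c') M₁ := by
    rw [← pPow_le_iff]; exact h21
  have h12' : M₁ ≤ pPow (-c) M₂ := by
    rw [← pPow_le_iff]; exact h12
  calc latImg F n M₂ ≤ latImg F n (pPow (-c') M₁) := latImg_mono F n h21'
    _ = pPow (-c') (latImg F n M₁) := latImg_pPow hτ F n _ M₁
    _ ≤ pPow (-c') (pPow r₁ M₁) := pPow_mono h₁.1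
    _ ≤ pPow (-c') (pPow r₁ (pPow (-c) M₂)) := pPow_mono (pPow_mono h12')
    _ = pPow (r₁ - c - c') M₂ := by
      rw [← pPow_add, ← pPow_add]
      congr 1
      ring

/-- **S17142** for a general good twist. -/
theorem lim_ord_eq (hτ : Good τ) {F : N →ₛₗ[τ] N}
    {M₁ M₂ : Submodule (WittVector p k) N} (hM₁ : M₁.IsLattice K(p, k))
    (hM₂ : M₂.IsLattice K(p, k)) (o₁ o₂ : ℕ → ℤ) (ho₁ : ∀ n : ℕ, 1 ≤ n → IsOrd M₁ F n (o₁ n))
    (ho₂ : ∀ n : ℕ, 1 ≤ n → IsOrd M₂ F n (o₂ n)) (lam₁ lam₂ : ℝ)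
    (h₁ : Tendsto (fun n : ℕ => (o₁ n : ℝ) / n) atTop (𝓝 lam₁))
    (h₂ : Tendsto (fun n : ℕ => (o₂ n : ℝ) / n) atTop (𝓝 lam₂)) : lam₁ = lam₂ := by
  obtain ⟨c, hc⟩ := exists_pPow_le hM₁ hM₂
  obtain ⟨c', hc'⟩ := exists_pPow_le hM₂ hM₁
  have hdiff : Tendsto (fun n : ℕ => (o₁ n : ℝ) / n - (o₂ n : ℝ) / n) atTop (𝓝 (lam₁ - lam₂)) :=
    h₁.sub h₂
  have hzero : Tendsto (fun n : ℕ => (o₁ n : ℝ) / n - (o₂ n : ℝ) / n) atTop (𝓝 0) := by
    have hC : Tendsto (fun n : ℕ => ((c : ℝ) + c') / n) atTop (𝓝 0) :=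
      tendsto_const_div_atTop_nhds_zero_nat _
    apply squeeze_zero_norm' _ hC
    filter_upwards [eventually_ge_atTop 1] with n hn
    have hn' : (0 : ℝ) < n := by exact_mod_cast hn
    have e1 := ord_sub_le hτ hc hc' (ho₁ n hn) (ho₂ n hn)
    have e2 := ord_sub_le hτ hc' hc (ho₂ n hn) (ho₁ n hn)
    have e1' : (o₁ n : ℝ) - c - c' ≤ o₂ n := by exact_mod_cast e1
    have e2' : (o₂ n : ℝ) - c' - c ≤ o₁ n := by exact_mod_cast e2
    rw [Real.norm_eq_abs, ← sub_div, abs_div, abs_of_pos hn']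
    apply div_le_div_of_nonneg_right _ hn'.le
    rw [abs_le]
    constructor <;> linarith
  have := tendsto_nhds_unique hdiff hzero
  linarith


/-! ### Twisted iterates -/

lemma iter_succ_apply (F : N →ₛₗ[τ] N) (j : ℕ) (x : N) : iter F (j + 1) x = F (iter F j x) := by
  simp only [iter_apply, Function.iterate_succ_apply']

lemma iter_twist (F : N →ₛₗ[τ] N) (m : ℤ) (n j : ℕ) (x : N) :
    iter ((p : K(p, k)) ^ m • iter F n) j x = ((p : K(p, k)) ^ m) ^ j • iter F (n * j) x := by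
  induction j with
  | zero => simp [iter_apply]
  | succ j ih =>
    rw [iter_succ_apply, ih, LinearMap.smul_apply, map_smulₛₗ, map_pow, map_ppow, smul_smul,
      ← pow_succ', Nat.mul_succ, add_comm (n * j) n, iter_add]

lemma ppow_pow (m : ℤ) (j : ℕ) : ((p : K(p, k)) ^ m) ^ j = (p : K(p, k)) ^ (m * j) := by
  rw [← zpow_natCast, ← zpow_mul]

lemma latImg_twist (hτ : Good τ) (F : N →ₛₗ[τ] N) (m : ℤ) (n j : ℕ)
    (M : Submodule (WittVector p k) N) :
    latImg ((p : K(p, k)) ^ m • iter F n) j M = pPow (m * j) (latImg F (n * j) M) := by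
  ext x
  rw [mem_latImg (hτ.pow n), mem_pPow]
  constructor
  · rintro ⟨y, hy, rfl⟩
    exact ⟨iter F (n * j) y, iter_mem_latImg hy, by rw [iter_twist, ppow_pow]⟩
  · rintro ⟨y, hy, rfl⟩
    obtain ⟨z, hz, rfl⟩ := (mem_latImg hτ).mp hy
    exact ⟨z, hz, by rw [iter_twist, ppow_pow]⟩

lemma isOrd_of_latImg_eq {τ' : K(p, k) →+* K(p, k)} {M : Submodule (WittVector p k) N}
    {F : N →ₛₗ[τ] N} {G : N →ₛₗ[τ'] N} {j t : ℕ} {e r : ℤ}
    (h : latImg G j M = pPow e (latImg F t M)) (ho : IsOrd M F t r) : IsOrd M G j (e + r) := by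
  constructor
  · rw [h, pPow_add]
    exact pPow_mono ho.1
  · intro hle
    apply ho.2
    rw [h, pPow_le_iff, ← pPow_add] at hle
    have : -e + (e + r + 1) = r + 1 := by ring
    rwa [this] at hle

/-- **S17143** for a general good twist. -/
theorem isFirstSlope_twist (hτ : Good τ) {F : N →ₛₗ[τ] N} {lam : ℝ}
    (hlam : IsFirstSlope F lam) (m : ℤ) (n : ℕ) :
    IsFirstSlope ((p : K(p, k)) ^ m • iter F n) (n * lam + m) := by
  obtain ⟨M, hM, o, ho, hlim⟩ := hlam
  have hM0 : M ≠ ⊥ := IsOrd.ne_bot (ho 1 le_rfl)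
  refine ⟨M, hM, ?_⟩
  rcases Nat.eq_zero_or_pos n with rfl | hn
  · refine ⟨fun j => m * j, ?_, ?_⟩
    · intro j _
      have h0 : IsOrd M F 0 0 := by
        constructor
        · simp
        · intro hle
          rw [latImg_zero] at hle
          exact hM0 (eq_bot_of_le_pPow hM.fg (by norm_num) hle)
      have := isOrd_of_latImg_eq (latImg_twist hτ F m 0 j M) (by rw [zero_mul]; exact h0)
      rwa [add_zero] at this
    · have : ∀ᶠ j : ℕ in atTop, ((m : ℝ)) = ((m * j : ℤ) : ℝ) / j := by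
        filter_upwards [eventually_ge_atTop 1] with j hj
        have hj' : (j : ℝ) ≠ 0 := by exact_mod_cast (by omega : j ≠ 0)
        push_cast
        field_simp
      simp only [Nat.cast_zero, zero_mul, zero_add]
      exact Tendsto.congr' this tendsto_const_nhds
  · refine ⟨fun j => m * j + o (n * j), ?_, ?_⟩
    · intro j hj
      exact isOrd_of_latImg_eq (latImg_twist hτ F m n j M)
        (ho (n * j) (Nat.one_le_iff_ne_zero.mpr (Nat.mul_ne_zero (by omega) (by omega))))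
    · have hsub : Tendsto (fun j : ℕ => n * j) atTop atTop :=
        tendsto_atTop_mono (fun j => Nat.le_mul_of_pos_left j hn) tendsto_id
      have h1 := hlim.comp hsub
      have h2 : Tendsto (fun j : ℕ => (n : ℝ) * ((o (n * j) : ℝ) / ((n * j : ℕ) : ℝ)) + m) atTop
          (𝓝 (n * lam + m)) := (h1.const_mul (n : ℝ)).add_const (m : ℝ)
      refine Tendsto.congr' ?_ h2
      filter_upwards [eventually_ge_atTop 1] with j hj
      have hj' : (j : ℝ) ≠ 0 := by exact_mod_cast (by omega : j ≠ 0)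
      have hn' : (n : ℝ) ≠ 0 := by exact_mod_cast (by omega : n ≠ 0)
      push_cast
      field_simp
      ring

end Groth.Agent.Lib.Helper8.IsocL
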