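import Mathlib
import Groth.Agent.Lib.Helper8.Isoc2
set_option backward.isDefEq.respectTransparency.types false
set_option autoImplicit false
set_option linter.unusedSectionVars false

open scoped Pointwise Isocrystal

universe u v w

namespace Groth.Agent.Lib.Helper8.IsocL

open Isoc Filter Topology

variable {p : ℕ} [Fact p.Prime] {k : Type u} [Field k] [CharP k p] [PerfectRing k p]
variable {N : Type v} [AddCommGroup N] [Module (WittVector p k) N] [Module K(p, k) N]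
  [IsScalarTower (WittVector p k) K(p, k) N]
variable {N' : Type w} [AddCommGroup N'] [Module (WittVector p k) N'] [Module K(p, k) N']
  [IsScalarTower (WittVector p k) K(p, k) N']
variable {τ : K(p, k) →+* K(p, k)}

lemma Good.surjective (h : Good τ) : Function.Surjective τ := by
  intro c
  obtain ⟨a, b, hb, rfl⟩ := IsFractionRing.div_surjective (A := WittVector p k) c
  obtain ⟨a', ha'⟩ := h.surj_W a
  obtain ⟨b', hb'⟩ := h.surj_W b
  exact ⟨algebraMap _ _ a' / algebraMap _ _ b', by rw [map_div₀, ha', hb']⟩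

/-! ### Intertwining maps -/

lemma iterate_intertwine (f : N →ₗ[K(p, k)] N') {F : N →ₛₗ[τ] N} {F' : N' →ₛₗ[τ] N'}
    (hf : ∀ x, f (F x) = F' (f x)) (s : ℕ) (x : N) : f (iter F s x) = iter F' s (f x) := by
  induction s with
  | zero => rfl
  | succ s ih => rw [iter_succ_apply, iter_succ_apply, hf, ih]

lemma map_latImg (f : N →ₗ[K(p, k)] N') {F : N →ₛₗ[τ] N} {F' : N' →ₛₗ[τ] N'}
    (hf : ∀ x, f (F x) = F' (f x)) (s : ℕ) (M : Submodule (WittVector p k) N) :
    (latImg F s M).map (f.restrictScalars (WittVector p k))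
      = latImg F' s (M.map (f.restrictScalars (WittVector p k))) := by
  unfold latImg
  rw [Submodule.map_span]
  congr 1
  ext y
  simp only [Set.mem_image, SetLike.mem_coe, Submodule.mem_map, LinearMap.coe_restrictScalars]
  constructor
  · rintro ⟨_, ⟨m, hm, rfl⟩, rfl⟩
    exact ⟨f m, ⟨m, hm, rfl⟩, (iterate_intertwine f hf s m).symm⟩
  · rintro ⟨_, ⟨m, hm, rfl⟩, rfl⟩
    exact ⟨_, ⟨m, hm, rfl⟩, iterate_intertwine f hf s m⟩

lemma map_pPow (f : N →ₗ[K(p, k)] N') (r : ℤ) (M : Submodule (WittVector p k) N) :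
    (pPow r M).map (f.restrictScalars (WittVector p k))
      = pPow r (M.map (f.restrictScalars (WittVector p k))) := by
  ext y
  simp only [Submodule.mem_map, mem_pPow, LinearMap.coe_restrictScalars]
  constructor
  · rintro ⟨_, ⟨m, hm, rfl⟩, rfl⟩
    exact ⟨f m, ⟨m, hm, rfl⟩, (map_smul f _ m).symm⟩
  · rintro ⟨_, ⟨m, hm, rfl⟩, rfl⟩
    exact ⟨_, ⟨m, hm, rfl⟩, map_smul f _ m⟩

/-! ### Miscellaneous lattice lemmas -/

lemma exists_pPow_le_of_fg {Y M₂ : Submodule (WittVector p k) N} (hY : Y.FG)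
    (hM₂ : M₂.IsLattice K(p, k)) : ∃ c : ℕ, pPow c Y ≤ M₂ := by
  obtain ⟨S, hS⟩ := hY
  have h : ∀ x : N, ∃ e : ℕ, (p : K(p, k)) ^ e • x ∈ M₂ := exists_ppow_smul_mem hM₂
  choose e he using h
  refine ⟨S.sup e, ?_⟩
  rw [pPow_le_iff, ← hS, Submodule.span_le]
  intro x hx
  rw [SetLike.mem_coe, mem_pPow', neg_neg, zpow_natCast]
  have hle : e x ≤ S.sup e := Finset.le_sup hx
  obtain ⟨j, hj⟩ := Nat.exists_eq_add_of_le hle
  rw [hj, add_comm, pow_add, mul_smul]
  exact natCast_smul_mem (he x) j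

/-- The intersection of the `p^j M` is zero. -/
lemma eq_bot_of_forall_le_pPow {M Y : Submodule (WittVector p k) N} (hM : M.FG)
    (h : ∀ j : ℕ, Y ≤ pPow j M) : Y = ⊥ := by
  set Z : Submodule (WittVector p k) N := ⨅ j : ℕ, pPow j M with hZ
  have hZM : Z ≤ M := by
    have := iInf_le (fun j : ℕ => pPow (j : ℤ) M) 0
    simpa using this
  have hnoeth : IsNoetherian (WittVector p k) M := isNoetherian_of_fg_of_noetherian M hM
  have hZfg : Z.FG := isNoetherian_submodule.mp hnoeth Z hZM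
  have hZle : Z ≤ pPow 1 Z := by
    intro y hy
    rw [mem_pPow']
    rw [hZ, Submodule.mem_iInf] at hy ⊢
    intro j
    have h1 := hy (j + 1)
    rw [mem_pPow'] at h1 ⊢
    rw [smul_smul, ← zpow_add₀ p_ne_zero]
    have : -(j : ℤ) + -1 = -((j + 1 : ℕ) : ℤ) := by push_cast; ring
    rw [this]
    exact h1
  have hZbot : Z = ⊥ := eq_bot_of_le_pPow hZfg le_rfl hZle
  rw [eq_bot_iff, ← hZbot, hZ]
  exact le_iInf h

lemma latImg_mul_eq (hτ : Good τ) {F : N →ₛₗ[τ] N} {M : Submodule (WittVector p k) N} {s : ℕ}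
    {r : ℤ} (h : latImg F s M = pPow r M) (n : ℕ) : latImg F (s * n) M = pPow (r * n) M := by
  induction n with
  | zero => simp
  | succ n ih =>
    rw [Nat.mul_succ, latImg_add hτ, h, latImg_pPow hτ, ih, ← pPow_add]
    congr 1
    push_cast
    ring

lemma le_of_latImg_le (hτ : Good τ) {F : N →ₛₗ[τ] N} (hF : Function.Injective F) {s : ℕ}
    {A B : Submodule (WittVector p k) N} (h : latImg F s A ≤ latImg F s B) : A ≤ B := by
  intro x hx
  obtain ⟨y, hy, hxy⟩ := (mem_latImg hτ).mp (h (iter_mem_latImg hx))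
  have hinj : Function.Injective (iter F s) := by
    rw [coe_iter]; exact hF.iterate s
  rw [← hinj hxy]
  exact hy

/-! ### Stable subspaces -/

/-- An injective semilinear endomorphism maps a stable finite-dimensional subspace onto
itself. -/
lemma restrict_surjective (hτ : Good τ) {F : N →ₛₗ[τ] N} (hF : IsIsoc F)
    (P : Submodule K(p, k) N) (hP : ∀ x ∈ P, F x ∈ P) : ∀ y ∈ P, ∃ x ∈ P, F x = y := by
  have := hF.finite
  set d := Module.finrank K(p, k) P with hd
  let v := Module.finBasis K(p, k) P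
  let wv : Fin d → P := fun i => ⟨F (v i), hP _ (v i).2⟩
  have hli : LinearIndependent K(p, k) wv := by
    rw [linearIndependent_iff']
    intro S g hg i hi
    choose g' hg' using fun i => hτ.surjective (g i)
    have h1 : F (∑ i ∈ S, g' i • (v i : N)) = 0 := by
      rw [map_sum]
      have h2 := congrArg (Subtype.val) hg
      simp only [Submodule.coe_sum, Submodule.coe_smul, ZeroMemClass.coe_zero] at h2
      rw [← h2]
      apply Finset.sum_congr rfl
      intro j _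
      rw [map_smulₛₗ, hg']
    have h3 : ∑ i ∈ S, g' i • (v i : N) = 0 := hF.bijective.injective (by rw [h1, map_zero])
    have h4 : ∑ i ∈ S, g' i • v i = 0 := by
      apply Subtype.ext
      simp only [Submodule.coe_sum, Submodule.coe_smul, ZeroMemClass.coe_zero]
      exact h3
    have h5 := (linearIndependent_iff'.mp v.linearIndependent) S g' h4 i hi
    rw [← hg' i, h5, map_zero]
  have hspan := hli.span_eq_top_of_card_eq_finrank' (by simp [hd])
  intro y hy
  have hy' : (⟨y, hy⟩ : P) ∈ Submodule.span K(p, k) (Set.range wv) := by rw [hspan]; trivial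
  rw [Submodule.mem_span_range_iff_exists_fun] at hy'
  obtain ⟨c, hc⟩ := hy'
  choose c' hc' using fun i => hτ.surjective (c i)
  refine ⟨∑ i, c' i • (v i : N), Submodule.sum_mem _ (fun i _ => P.smul_mem _ (v i).2), ?_⟩
  have h2 := congrArg (Subtype.val) hc
  simp only [Submodule.coe_sum, Submodule.coe_smul] at h2
  rw [map_sum, ← h2]
  apply Finset.sum_congr rfl
  intro j _
  rw [map_smulₛₗ, hc']


lemma iter_mem_of_stable {F : N →ₛₗ[τ] N} (P : Submodule K(p, k) N) (hP : ∀ x ∈ P, F x ∈ P)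
    (s : ℕ) {x : N} (hx : x ∈ P) : iter F s x ∈ P := by
  induction s with
  | zero => exact hx
  | succ s ih => rw [iter_succ_apply]; exact hP _ ih

lemma iter_restrict_surjective (hτ : Good τ) {F : N →ₛₗ[τ] N} (hF : IsIsoc F)
    (P : Submodule K(p, k) N) (hP : ∀ x ∈ P, F x ∈ P) (s : ℕ) :
    ∀ y ∈ P, ∃ x ∈ P, iter F s x = y := by
  induction s with
  | zero => exact fun y hy => ⟨y, hy, rfl⟩
  | succ s ih =>
    intro y hy
    obtain ⟨z, hz, hzy⟩ := restrict_surjective hτ hF P hP y hy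
    obtain ⟨x, hx, hxz⟩ := ih z hz
    exact ⟨x, hx, by rw [iter_succ_apply, hxz, hzy]⟩

/-- Ambient form of "`(P, F|P)` is isoclinic of slope `μ`". -/
def IsoIn (F : N →ₛₗ[τ] N) (P : Submodule K(p, k) N) (μ : ℚ) : Prop :=
  ∃ M : Submodule (WittVector p k) N, M.FG ∧ Submodule.span K(p, k) (M : Set N) = P ∧
    ∃ (r : ℤ) (s : ℕ), 0 < s ∧ (r : ℚ) / s = μ ∧ latImg F s M = pPow r M

lemma isoIn_top_iff (F : N →ₛₗ[τ] N) (μ : ℚ) : IsoIn F ⊤ μ ↔ IsIsoclinic F μ := by
  constructor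
  · rintro ⟨M, hfg, hspan, r, s, hs, hrs, h⟩
    exact ⟨M, ⟨hfg, hspan⟩, r, s, hs, hrs, h⟩
  · rintro ⟨M, hM, r, s, hs, hrs, h⟩
    exact ⟨M, hM.fg, hM.span_eq_top, r, s, hs, hrs, h⟩

lemma isIsoclinic_restrict_iff (F : N →ₛₗ[τ] N) (P : Submodule K(p, k) N)
    (hP : ∀ x ∈ P, F x ∈ P) (μ : ℚ) : IsIsoclinic (F.restrict hP) μ ↔ IsoIn F P μ := by
  have hinj : Function.Injective (P.subtype.restrictScalars (WittVector p k)) :=
    Subtype.val_injective
  have hint : ∀ x : P, P.subtype ((F.restrict hP) x) = F (P.subtype x) := fun x => rfl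
  constructor
  · rintro ⟨M', hM', r, s, hs, hrs, h⟩
    refine ⟨M'.map (P.subtype.restrictScalars (WittVector p k)), hM'.fg.map _, ?_, r, s, hs, hrs, ?_⟩
    · rw [Submodule.map_coe, LinearMap.coe_restrictScalars, ← Submodule.map_span,
        hM'.span_eq_top, Submodule.map_top, Submodule.range_subtype]
    · rw [← map_latImg P.subtype hint, h, map_pPow]
  · rintro ⟨M, hfg, hspan, r, s, hs, hrs, h⟩
    have hMP : ∀ x ∈ M, x ∈ P := fun x hx => by
      rw [← hspan]; exact Submodule.subset_span hx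
    set M' := M.comap (P.subtype.restrictScalars (WittVector p k)) with hM'def
    have hmap : M'.map (P.subtype.restrictScalars (WittVector p k)) = M := by
      rw [hM'def, Submodule.map_comap_eq, inf_eq_right]
      intro x hx
      exact ⟨⟨x, hMP x hx⟩, rfl⟩
    refine ⟨M', ⟨?_, ?_⟩, r, s, hs, hrs, ?_⟩
    · apply Submodule.fg_of_fg_map_injective _ hinj
      rw [hmap]; exact hfg
    · apply Submodule.map_injective_of_injective (f := P.subtype) Subtype.val_injective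
      rw [Submodule.map_span, Submodule.map_top, Submodule.range_subtype]
      have hcoe : (P.subtype '' (M' : Set P)) = (M : Set N) := by
        rw [← hmap]; rfl
      rw [hcoe, hspan]
    · apply Submodule.map_injective_of_injective hinj
      rw [map_latImg P.subtype hint, map_pPow, hmap, h]

/-- **S17148**, ambient form. -/
theorem isoIn_of_isIsoclinic (hτ : Good τ) {F : N →ₛₗ[τ] N} (hF : IsIsoc F) {μ : ℚ}
    (hμ : IsIsoclinic F μ) (P : Submodule K(p, k) N) (hP : ∀ x ∈ P, F x ∈ P) : IsoIn F P μ := by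
  obtain ⟨M, hM, r, s, hs, hrs, h⟩ := hμ
  set MP : Submodule (WittVector p k) N := M ⊓ P.restrictScalars (WittVector p k) with hMP
  have hmemMP : ∀ x, x ∈ MP ↔ x ∈ M ∧ x ∈ P := fun x => by
    rw [hMP, Submodule.mem_inf, Submodule.restrictScalars_mem]
  refine ⟨MP, ?_, ?_, r, s, hs, hrs, ?_⟩
  · have hnoeth : IsNoetherian (WittVector p k) M := isNoetherian_of_fg_of_noetherian M hM.fg
    exact isNoetherian_submodule.mp hnoeth MP inf_le_left
  · apply le_antisymm
    · rw [Submodule.span_le]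
      intro x hx
      exact ((hmemMP x).mp hx).2
    · intro x hx
      obtain ⟨e, he⟩ := exists_ppow_smul_mem hM x
      have h1 : (p : K(p, k)) ^ e • x ∈ MP := (hmemMP _).mpr ⟨he, P.smul_mem _ hx⟩
      have h2 : x = ((p : K(p, k)) ^ e)⁻¹ • ((p : K(p, k)) ^ e • x) := by
        rw [smul_smul, inv_mul_cancel₀ (pow_ne_zero _ p_ne_zero), one_smul]
      rw [h2]
      exact Submodule.smul_mem _ _ (Submodule.subset_span h1)
  · ext x
    rw [mem_latImg hτ, mem_pPow']
    constructor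
    · rintro ⟨m, hm, rfl⟩
      obtain ⟨hmM, hmP⟩ := (hmemMP m).mp hm
      rw [hmemMP]
      refine ⟨?_, P.smul_mem _ (iter_mem_of_stable P hP s hmP)⟩
      rw [← mem_pPow', ← h]
      exact iter_mem_latImg hmM
    · intro hx
      obtain ⟨hxM, hxP⟩ := (hmemMP _).mp hx
      have hxM' : x ∈ latImg F s M := by rw [h, mem_pPow']; exact hxM
      obtain ⟨z, hz, rfl⟩ := (mem_latImg hτ).mp hxM'
      have hxP' : iter F s z ∈ P := by
        have := P.smul_mem ((p : K(p, k)) ^ r) hxP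
        rwa [smul_smul, ← zpow_add₀ p_ne_zero, add_neg_cancel, zpow_zero, one_smul] at this
      obtain ⟨z', hz', hzz'⟩ := iter_restrict_surjective hτ hF P hP s _ hxP'
      have : z' = z := (iterate_bijective hF s).injective hzz'
      subst this
      exact ⟨z', (hmemMP _).mpr ⟨hz, hz'⟩, rfl⟩

/-- **S17149** for a general twist. -/
theorem isIsoclinic_mapQ {F : N →ₛₗ[τ] N} {μ : ℚ}
    (hμ : IsIsoclinic F μ) (P : Submodule K(p, k) N) (hP : P ≤ P.comap F) :
    IsIsoclinic (P.mapQ P F hP) μ := by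
  obtain ⟨M, hM, r, s, hs, hrs, h⟩ := hμ
  have hint : ∀ x : N, P.mkQ (F x) = (P.mapQ P F hP) (P.mkQ x) := fun x => rfl
  refine ⟨M.map (P.mkQ.restrictScalars (WittVector p k)), ⟨hM.fg.map _, ?_⟩, r, s, hs, hrs, ?_⟩
  · rw [Submodule.map_coe, LinearMap.coe_restrictScalars, ← Submodule.map_span,
      hM.span_eq_top, Submodule.map_top, Submodule.range_mkQ]
  · rw [← map_latImg P.mkQ hint, h, map_pPow]


/-- **S17150** for a general good twist. -/
theorem hom_eq_zero_of_slope_ne (hτ : Good τ) {F₁ : N →ₛₗ[τ] N} {F₂ : N' →ₛₗ[τ] N'}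
    (h₂ : IsIsoc F₂) {μ₁ μ₂ : ℚ} (hμ₁ : IsIsoclinic F₁ μ₁) (hμ₂ : IsIsoclinic F₂ μ₂)
    (hne : μ₁ ≠ μ₂) (f : N →ₗ[K(p, k)] N') (hf : ∀ x : N, f (F₁ x) = F₂ (f x)) : f = 0 := by
  obtain ⟨M₁, hM₁, r₁, s₁, hs₁, hrs₁, e₁⟩ := hμ₁
  obtain ⟨M₂, hM₂, r₂, s₂, hs₂, hrs₂, e₂⟩ := hμ₂
  set a : ℤ := r₁ * s₂ with ha
  set b : ℤ := r₂ * s₁ with hb
  have hab : a ≠ b := by
    intro hab
    apply hne
    rw [← hrs₁, ← hrs₂, div_eq_div_iff (by exact_mod_cast hs₁.ne') (by exact_mod_cast hs₂.ne')]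
    have : ((r₁ * s₂ : ℤ) : ℚ) = ((r₂ * s₁ : ℤ) : ℚ) := by rw [← ha, ← hb, hab]
    push_cast at this
    exact this
  have E₁ : ∀ n : ℕ, latImg F₁ (s₁ * s₂ * n) M₁ = pPow (a * n) M₁ := fun n =>
    latImg_mul_eq hτ (latImg_mul_eq hτ e₁ s₂) n
  have E₂ : ∀ n : ℕ, latImg F₂ (s₁ * s₂ * n) M₂ = pPow (b * n) M₂ := fun n => by
    have := latImg_mul_eq hτ (latImg_mul_eq hτ e₂ s₁) n
    rwa [mul_comm s₂ s₁] at this
  set Y := M₁.map (f.restrictScalars (WittVector p k)) with hY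
  have hYfg : Y.FG := hM₁.fg.map _
  have EY : ∀ n : ℕ, latImg F₂ (s₁ * s₂ * n) Y = pPow (a * n) Y := fun n => by
    rw [hY, ← map_latImg f hf, E₁, map_pPow]
  obtain ⟨c, hc⟩ := exists_pPow_le_of_fg hYfg hM₂
  have hc' : Y ≤ pPow (-(c : ℤ)) M₂ := pPow_le_iff.mp hc
  have hkey : ∀ j : ℕ, Y ≤ pPow j M₂ := by
    intro j
    rcases lt_or_gt_of_ne hab with hlt | hgt
    · -- a < b
      have h1 : pPow (a * (j + c : ℕ)) Y ≤ pPow (-(c : ℤ)) (pPow (b * (j + c : ℕ)) M₂) := by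
        rw [← EY, ← E₂, ← latImg_pPow hτ]
        exact latImg_mono _ _ hc'
      rw [pPow_le_iff, ← pPow_add, ← pPow_add] at h1
      refine le_trans h1 (pPow_anti ?_ M₂)
      push_cast
      nlinarith
    · -- b < a
      have h1 : latImg F₂ (s₁ * s₂ * (j + c : ℕ)) Y
          ≤ latImg F₂ (s₁ * s₂ * (j + c : ℕ)) (pPow (a * (j + c : ℕ) - c - b * (j + c : ℕ)) M₂) := by
        rw [EY, latImg_pPow hτ, E₂, ← pPow_add]
        have : a * ((j + c : ℕ) : ℤ) - c - b * ((j + c : ℕ) : ℤ) + b * ((j + c : ℕ) : ℤ)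
            = a * ((j + c : ℕ) : ℤ) + -(c : ℤ) := by ring
        rw [this, pPow_add]
        exact pPow_mono hc'
      refine le_trans (le_of_latImg_le hτ h₂.bijective.injective h1) (pPow_anti ?_ M₂)
      push_cast
      nlinarith
  have hYbot : Y = ⊥ := eq_bot_of_forall_le_pPow hM₂.fg hkey
  apply LinearMap.ext
  intro x
  have hx : x ∈ Submodule.span K(p, k) (M₁ : Set N) := by rw [hM₁.span_eq_top]; trivial
  induction hx using Submodule.span_induction with
  | mem y hy =>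
    have : f y ∈ Y := ⟨y, hy, rfl⟩
    rw [hYbot] at this
    simpa using this
  | zero => simp
  | add x y _ _ hx hy => rw [map_add, hx, hy]; simp
  | smul c x _ hx => rw [map_smul, hx]; simp

lemma latImg_sup (hτ : Good τ) (F : N →ₛₗ[τ] N) (s : ℕ) (M₁ M₂ : Submodule (WittVector p k) N) :
    latImg F s (M₁ ⊔ M₂) = latImg F s M₁ ⊔ latImg F s M₂ := by
  apply le_antisymm
  · intro x hx
    obtain ⟨m, hm, rfl⟩ := (mem_latImg hτ).mp hx
    obtain ⟨m₁, hm₁, m₂, hm₂, rfl⟩ := Submodule.mem_sup.mp hm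
    rw [map_add]
    exact Submodule.add_mem_sup (iter_mem_latImg hm₁) (iter_mem_latImg hm₂)
  · exact sup_le (latImg_mono F s le_sup_left) (latImg_mono F s le_sup_right)

lemma pPow_sup (r : ℤ) (M₁ M₂ : Submodule (WittVector p k) N) :
    pPow r (M₁ ⊔ M₂) = pPow r M₁ ⊔ pPow r M₂ :=
  Submodule.smul_sup' _ _ _

lemma IsoIn.bot (F : N →ₛₗ[τ] N) (μ : ℚ) : IsoIn F ⊥ μ := by
  refine ⟨⊥, Submodule.fg_bot, by simp, μ.num, μ.den, μ.den_pos, ?_, ?_⟩
  · exact_mod_cast Rat.num_div_den μ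
  · unfold latImg pPow
    simp

lemma IsoIn.sup (hτ : Good τ) {F : N →ₛₗ[τ] N} {P₁ P₂ : Submodule K(p, k) N} {μ : ℚ}
    (h₁ : IsoIn F P₁ μ) (h₂ : IsoIn F P₂ μ) : IsoIn F (P₁ ⊔ P₂) μ := by
  obtain ⟨M₁, hfg₁, hsp₁, r₁, s₁, hs₁, hrs₁, e₁⟩ := h₁
  obtain ⟨M₂, hfg₂, hsp₂, r₂, s₂, hs₂, hrs₂, e₂⟩ := h₂
  have hr : r₂ * s₁ = r₁ * s₂ := by
    have h := hrs₁.trans hrs₂.symm
    rw [div_eq_div_iff (by exact_mod_cast hs₁.ne') (by exact_mod_cast hs₂.ne')] at h
    exact_mod_cast h.symm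
  refine ⟨M₁ ⊔ M₂, hfg₁.sup hfg₂, ?_, r₁ * s₂, s₁ * s₂, Nat.mul_pos hs₁ hs₂, ?_, ?_⟩
  · apply le_antisymm
    · rw [Submodule.span_le]
      intro x hx
      obtain ⟨m₁, hm₁, m₂, hm₂, rfl⟩ := Submodule.mem_sup.mp hx
      apply Submodule.add_mem_sup
      · rw [← hsp₁]; exact Submodule.subset_span hm₁
      · rw [← hsp₂]; exact Submodule.subset_span hm₂
    · rw [← hsp₁, ← hsp₂]
      exact sup_le (Submodule.span_mono (by exact_mod_cast (le_sup_left : M₁ ≤ M₁ ⊔ M₂)))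
        (Submodule.span_mono (by exact_mod_cast (le_sup_right : M₂ ≤ M₁ ⊔ M₂)))
  · rw [← hrs₁]
    have h1 : (s₁ : ℚ) ≠ 0 := by exact_mod_cast hs₁.ne'
    have h2 : (s₂ : ℚ) ≠ 0 := by exact_mod_cast hs₂.ne'
    push_cast
    field_simp
  · have E₁ := latImg_mul_eq hτ e₁ s₂
    have E₂ := latImg_mul_eq hτ e₂ s₁
    rw [mul_comm s₂ s₁, hr] at E₂
    rw [latImg_sup hτ, pPow_sup, E₁, E₂]

/-- **S17151** for a general good twist. -/
theorem slopePart_isIsoclinic (hτ : Good τ) {F : N →ₛₗ[τ] N} (hF : IsIsoc F) (μ : ℚ) :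
    ∃ hP : ∀ x ∈ slopePart F μ, F x ∈ slopePart F μ, IsIsoclinic (F.restrict hP) μ := by
  classical
  have := hF.finite
  obtain ⟨t, hts, hsup⟩ := CompleteLattice.WellFoundedGT.isSupFiniteCompact (Submodule K(p, k) N)
    {P : Submodule K(p, k) N | ∃ hP : ∀ x ∈ P, F x ∈ P, IsIsoclinic (F.restrict hP) μ}
  have key : ∀ t : Finset (Submodule K(p, k) N),
      (↑t ⊆ {P : Submodule K(p, k) N | ∃ hP : ∀ x ∈ P, F x ∈ P, IsIsoclinic (F.restrict hP) μ}) →
      (∀ x ∈ t.sup id, F x ∈ t.sup id) ∧ IsoIn F (t.sup id) μ := by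
    intro t
    induction t using Finset.induction_on with
    | empty =>
      intro _
      refine ⟨?_, by simpa using IsoIn.bot F μ⟩
      intro x hx
      simp only [Finset.sup_empty, Submodule.mem_bot] at hx ⊢
      rw [hx, map_zero]
    | insert P t hPt ih =>
      intro hsub
      have hP : P ∈ {P : Submodule K(p, k) N | ∃ hP : ∀ x ∈ P, F x ∈ P,
          IsIsoclinic (F.restrict hP) μ} := hsub (by simp)
      obtain ⟨hPst, hPiso⟩ := hP
      obtain ⟨htst, htiso⟩ := ih (fun Q hQ => hsub (by simp [Finset.mem_coe.mp hQ]))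
      rw [Finset.sup_insert, id]
      refine ⟨?_, IsoIn.sup hτ ((isIsoclinic_restrict_iff F P hPst μ).mp hPiso) htiso⟩
      intro x hx
      obtain ⟨a, ha, b, hb, rfl⟩ := Submodule.mem_sup.mp hx
      rw [map_add]
      exact Submodule.add_mem_sup (hPst a ha) (htst b hb)
  obtain ⟨hst, hiso⟩ := key t hts
  have heq : slopePart F μ = t.sup id := hsup
  rw [← heq] at hst hiso
  exact ⟨hst, (isIsoclinic_restrict_iff F _ hst μ).mpr hiso⟩

end Groth.Agent.Lib.Helper8.IsocL
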