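import Mathlib
import Groth.Agent.Lib.Helper8.Isoc3
set_option backward.isDefEq.respectTransparency.types false
set_option autoImplicit false
set_option linter.unusedSectionVars false

open scoped Pointwise Isocrystal

universe u v w

namespace Groth.Agent.Lib.Helper8.IsocL

open Isoc Filter Topology

variable {p : ℕ} [Fact p.Prime] {k : Type u} [Field k] [CharP k p] [PerfectRing k p]
variable {N : Type v} [AddCommGroup N] [Module (WittVector p k) N] [Module K(p, k) N]
  [IsScalarTower (WittVector p k) K(p, k) N]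
variable {τ : K(p, k) →+* K(p, k)}

lemma algebraMap_injective' : Function.Injective (algebraMap (WittVector p k) K(p, k)) :=
  IsFractionRing.injective (WittVector p k) K(p, k)

lemma algebraMap_unit_ne_zero (u : (WittVector p k)ˣ) :
    algebraMap (WittVector p k) K(p, k) (u : WittVector p k) ≠ 0 := fun h =>
  u.ne_zero (algebraMap_injective' (by rw [h, map_zero]))

/-- Every nonzero element of `L` has a `p`-adic order. -/
lemma exists_isOrdP (x : K(p, k)) (hx : x ≠ 0) : ∃ n : ℤ, IsOrdP x n := by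
  obtain ⟨a, b, hb, rfl⟩ := IsFractionRing.div_surjective (A := WittVector p k) x
  have hb0 : b ≠ 0 := nonZeroDivisors.ne_zero hb
  have ha0 : a ≠ 0 := by
    rintro rfl
    simp at hx
  obtain ⟨m, u, hu⟩ := WittVector.exists_eq_pow_p_mul' a ha0
  obtain ⟨n, v, hv⟩ := WittVector.exists_eq_pow_p_mul' b hb0
  refine ⟨(m : ℤ) - n, u * v⁻¹, ?_⟩
  have hp0 : (p : K(p, k)) ≠ 0 := p_ne_zero
  have hV := algebraMap_unit_ne_zero (p := p) (k := k) v
  have hinv : algebraMap (WittVector p k) K(p, k) ((v⁻¹ : (WittVector p k)ˣ) : WittVector p k)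
      = (algebraMap (WittVector p k) K(p, k) (v : WittVector p k))⁻¹ := by
    apply eq_inv_of_mul_eq_one_left
    rw [← map_mul, Units.inv_mul, map_one]
  rw [Units.val_mul, map_mul, hinv, hu, hv, map_mul, map_mul, map_pow, map_pow, map_natCast,
    zpow_sub₀ hp0, zpow_natCast, zpow_natCast]
  field_simp

lemma isOrdP_ne_zero {x : K(p, k)} {n : ℤ} (h : IsOrdP x n) : x ≠ 0 := by
  obtain ⟨u, rfl⟩ := h
  exact mul_ne_zero (ppow_ne_zero n) (algebraMap_unit_ne_zero u)

/-- `p^n u` with `n ≥ 0` is integral. -/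
lemma isOrdP_nonneg_int {x : K(p, k)} {n : ℤ} (h : IsOrdP x n) (hn : 0 ≤ n) :
    ∃ w : WittVector p k, x = algebraMap (WittVector p k) K(p, k) w := by
  obtain ⟨u, rfl⟩ := h
  obtain ⟨m, rfl⟩ := Int.eq_ofNat_of_zero_le hn
  exact ⟨(p : WittVector p k) ^ m * u, by rw [map_mul, map_pow, map_natCast, zpow_natCast]⟩

lemma IsOrdP_mul {x y : K(p, k)} {m n : ℤ} (hx : IsOrdP x m) (hy : IsOrdP y n) :
    IsOrdP (x * y) (m + n) := by
  obtain ⟨u, rfl⟩ := hx
  obtain ⟨v, rfl⟩ := hy
  refine ⟨u * v, ?_⟩
  rw [Units.val_mul, map_mul, zpow_add₀ p_ne_zero]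
  ring

lemma isOrdP_ppow (n : ℤ) : IsOrdP ((p : K(p, k)) ^ n) n := ⟨1, by simp⟩

/-- Normalisation of a nonzero finite family of scalars: after scaling all are integral and one
is a unit. -/
lemma exists_normalise {ι : Type*} [Fintype ι] (g : ι → K(p, k)) (hg : ∃ i, g i ≠ 0) :
    ∃ (c : K(p, k)) (wt : ι → WittVector p k), c ≠ 0 ∧
      (∀ i, c * g i = algebraMap (WittVector p k) K(p, k) (wt i)) ∧ ∃ i, IsUnit (wt i) := by
  classical
  have hval : ∀ i, g i ≠ 0 → ∃ n : ℤ, IsOrdP (g i) n := fun i hi => exists_isOrdP _ hi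
  let val : ι → ℤ := fun i => if hi : g i ≠ 0 then (hval i hi).choose else 0
  have hvalspec : ∀ i (hi : g i ≠ 0), IsOrdP (g i) (val i) := fun i hi => by
    simp only [val, dif_pos hi]
    exact (hval i hi).choose_spec
  set S : Finset ι := Finset.univ.filter (fun i => g i ≠ 0) with hS
  have hSne : S.Nonempty := by
    obtain ⟨i, hi⟩ := hg
    exact ⟨i, by simp [hS, hi]⟩
  obtain ⟨i₀, hi₀S, hmin⟩ := Finset.exists_min_image S val hSne
  have hi₀ : g i₀ ≠ 0 := by simpa [hS] using hi₀S
  have hall : ∀ i, ∃ w : WittVector p k,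
      (p : K(p, k)) ^ (-(val i₀)) * g i = algebraMap (WittVector p k) K(p, k) w ∧
        (i = i₀ → IsUnit w) := by
    intro i
    by_cases hi : g i = 0
    · refine ⟨0, by rw [hi, mul_zero, map_zero], fun h => ?_⟩
      exact absurd (h ▸ hi) hi₀
    · have h1 := IsOrdP_mul (isOrdP_ppow (p := p) (k := k) (-(val i₀))) (hvalspec i hi)
      have h2 : 0 ≤ -(val i₀) + val i := by
        have := hmin i (by simp [hS, hi])
        omega
      by_cases hii : i = i₀
      · subst hii
        obtain ⟨u, hu⟩ := h1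
        rw [neg_add_cancel, zpow_zero, one_mul] at hu
        exact ⟨u, hu, fun _ => u.isUnit⟩
      · obtain ⟨w, hw⟩ := isOrdP_nonneg_int h1 h2
        exact ⟨w, hw, fun h => absurd h hii⟩
  choose wt hwt hunit using hall
  exact ⟨_, wt, ppow_ne_zero _, hwt, i₀, hunit i₀ rfl⟩


lemma Good.map_isUnit (h : Good τ) {w w' : WittVector p k} (hw : IsUnit w)
    (hw' : τ (algebraMap (WittVector p k) K(p, k) w) = algebraMap (WittVector p k) K(p, k) w') :
    IsUnit w' := by
  obtain ⟨u, rfl⟩ := hw
  obtain ⟨v', hv'⟩ := h.map_W ((u⁻¹ : (WittVector p k)ˣ) : WittVector p k)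
  apply IsUnit.of_mul_eq_one v'
  apply algebraMap_injective' (p := p) (k := k)
  rw [map_mul, ← hw', ← hv', ← map_mul, ← map_mul, Units.mul_inv, map_one, map_one]

lemma Good.map_p_mul (h : Good τ) {w a a' : WittVector p k}
    (ha : τ (algebraMap (WittVector p k) K(p, k) ((p : WittVector p k) * w))
      = algebraMap (WittVector p k) K(p, k) a)
    (ha' : τ (algebraMap (WittVector p k) K(p, k) w) = algebraMap (WittVector p k) K(p, k) a') :
    a = (p : WittVector p k) * a' := by
  apply algebraMap_injective' (p := p) (k := k)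
  rw [← ha, map_mul, map_mul, map_mul, ha', map_natCast, map_natCast]

/-- **S17144** for a general good twist. -/
theorem isEffective_of_latImg_succ_le (hτ : Good τ) {F : N →ₛₗ[τ] N} (hF : IsIsoc F) {h : ℕ}
    (hh : Module.finrank K(p, k) N = h) {M : Submodule (WittVector p k) N}
    (hM : M.IsLattice K(p, k)) (hFM : latImg F (h + 1) M ≤ pPow (-1) M) : IsEffective F := by
  classical
  have hfin := hF.finite
  set Mh : Submodule (WittVector p k) N := (Finset.range (h + 1)).sup (fun i => latImg F i M)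
    with hMh
  have hle : ∀ i, i ≤ h → latImg F i M ≤ Mh := fun i hi =>
    Finset.le_sup (f := fun i => latImg F i M) (Finset.mem_range.mpr (by omega))
  have hMle : M ≤ Mh := by
    have := hle 0 (Nat.zero_le _)
    rwa [latImg_zero] at this
  have hMhfg : Mh.FG :=
    Submodule.fg_finset_sup _ _ (fun i _ => (isLattice_latImg hτ hF hM i).fg)
  have hMhlat : Mh.IsLattice K(p, k) := by
    have := hM
    exact Submodule.IsLattice.of_le_of_isLattice_of_fg K(p, k) hMle hMhfg
  -- key claim
  have key : ∀ m ∈ M, iter F (h + 1) m ∈ Mh := by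
    intro m hm
    let v : Fin (h + 1) → N := fun i => iter F i m
    have hdep : ¬ LinearIndependent K(p, k) v := by
      intro hli
      have := hli.fintype_card_le_finrank
      rw [Fintype.card_fin, hh] at this
      omega
    obtain ⟨g, hg, hg0⟩ := Fintype.not_linearIndependent_iff.mp hdep
    obtain ⟨c, wt, hc, hwt, i₁, hi₁⟩ := exists_normalise g hg0
    have hrel : ∑ i, wt i • v i = 0 := by
      have h1 : ∑ i, (c * g i) • v i = 0 := by
        simp_rw [mul_smul, ← Finset.smul_sum, hg, smul_zero]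
      simp_rw [hwt, algebraMap_smul] at h1
      exact h1
    obtain ⟨j₀, hj₀mem, hj₀max⟩ := Finset.exists_max_image
      (Finset.univ.filter (fun i : Fin (h + 1) => IsUnit (wt i))) (fun i => (i : ℕ))
      ⟨i₁, by simp [hi₁]⟩
    have hj₀ : IsUnit (wt j₀) := by simpa using hj₀mem
    have hgt : ∀ i : Fin (h + 1), j₀ < i → ∃ w', wt i = (p : WittVector p k) * w' := by
      intro i hi
      have hnu : ¬ IsUnit (wt i) := fun hu => by
        have := hj₀max i (by simp [hu])
        exact absurd hi (not_lt.mpr (by exact_mod_cast this))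
      have hmem : wt i ∈ IsLocalRing.maximalIdeal (WittVector p k) := hnu
      rw [(WittVector.irreducible p).maximalIdeal_eq, Ideal.mem_span_singleton'] at hmem
      obtain ⟨w', hw'⟩ := hmem
      exact ⟨w', by rw [← hw', mul_comm]⟩
    set t := h + 1 - (j₀ : ℕ) with ht
    have hj₀le : (j₀ : ℕ) ≤ h := by have := j₀.2; omega
    have hσ := hτ.pow t
    choose a ha using fun i => hσ.map_W (wt i)
    have hrel2 : ∑ i : Fin (h + 1), a i • iter F (t + i) m = 0 := by
      have h1 := congrArg (iter F t) hrel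
      rw [map_sum, map_zero] at h1
      rw [← h1]
      apply Finset.sum_congr rfl
      intro i _
      rw [← algebraMap_smul K(p, k) (wt i), map_smulₛₗ, ha, algebraMap_smul, iter_add]
    have haj₀ : IsUnit (a j₀) := hσ.map_isUnit hj₀ (ha j₀)
    obtain ⟨m', hm', hm'eq⟩ := mem_pPow.mp (hFM (iter_mem_latImg (F := F) (s := h + 1) hm))
    have hterm : ∀ i : Fin (h + 1), i ≠ j₀ → a i • iter F (t + i) m ∈ Mh := by
      intro i hij
      rcases lt_or_gt_of_ne hij with hlt | hgt'
      · apply Mh.smul_mem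
        have hlt' : (i : ℕ) < j₀ := hlt
        exact hle (t + i) (by omega) (iter_mem_latImg hm)
      · obtain ⟨w', hw'⟩ := hgt i hgt'
        obtain ⟨a', ha'⟩ := hσ.map_W w'
        have hai : a i = (p : WittVector p k) * a' :=
          hσ.map_p_mul (by rw [← hw']; exact ha i) ha'
        have hgt'' : (j₀ : ℕ) < i := hgt'
        have hti : t + (i : ℕ) = ((i : ℕ) - j₀) + (h + 1) := by omega
        have hz : iter F ((i : ℕ) - j₀) m' ∈ Mh :=
          hle _ (by have := i.2; omega) (iter_mem_latImg hm')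
        have heq : a i • iter F (t + i) m = a' • iter F ((i : ℕ) - j₀) m' := by
          rw [hti, iter_add, ← hm'eq, iter_ppow_smul, hai, ← algebraMap_smul K(p, k),
            ← algebraMap_smul K(p, k) a', smul_smul, map_mul, map_natCast]
          congr 1
          rw [zpow_neg, zpow_one, mul_assoc, mul_comm _ ((p : K(p, k))⁻¹), ← mul_assoc,
            mul_inv_cancel₀ p_ne_zero, one_mul]
        rw [heq]
        exact Mh.smul_mem _ hz
    have hsum : a j₀ • iter F (t + j₀) m ∈ Mh := by
      have h1 := Finset.add_sum_erase Finset.univ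
        (fun i : Fin (h + 1) => a i • iter F (t + i) m) (Finset.mem_univ j₀)
      rw [hrel2] at h1
      have h2 : a j₀ • iter F (t + j₀) m
          = -∑ i ∈ Finset.univ.erase j₀, a i • iter F (t + i) m := eq_neg_of_add_eq_zero_left h1
      rw [h2]
      apply Mh.neg_mem
      exact Mh.sum_mem (fun i hi => hterm i (Finset.ne_of_mem_erase hi))
    have htj : t + (j₀ : ℕ) = h + 1 := by omega
    rw [htj] at hsum
    obtain ⟨u, hu⟩ := haj₀
    have := Mh.smul_mem ((u⁻¹ : (WittVector p k)ˣ) : WittVector p k) hsum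
    rwa [← hu, smul_smul, Units.inv_mul, one_smul] at this
  refine ⟨Mh, hMhlat, ?_⟩
  let C : Submodule (WittVector p k) N :=
    { carrier := {x | F x ∈ Mh}
      add_mem' := by
        intro x y hx hy
        simp only [Set.mem_ofPred_eq] at hx hy ⊢
        rw [map_add]
        exact Mh.add_mem hx hy
      zero_mem' := by
        simp only [Set.mem_ofPred_eq]
        rw [map_zero]
        exact Mh.zero_mem
      smul_mem' := by
        intro w x hx
        simp only [Set.mem_ofPred_eq] at hx ⊢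
        obtain ⟨w', hw'⟩ := hτ.map_W w
        rw [← algebraMap_smul K(p, k) w x, map_smulₛₗ, hw', algebraMap_smul]
        exact Mh.smul_mem _ hx }
  have hC : Mh ≤ C := by
    apply Finset.sup_le
    intro i hi
    have hi' : i ≤ h := by have := Finset.mem_range.mp hi; omega
    intro x hx
    obtain ⟨m, hm, rfl⟩ := (mem_latImg hτ).mp hx
    show F (iter F i m) ∈ Mh
    rw [← iter_succ_apply]
    rcases Nat.lt_or_ge i h with hlt | hge
    · exact hle (i + 1) (by omega) (iter_mem_latImg hm)
    · have : i = h := by omega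
      subst this
      exact key m hm
  intro x hx
  obtain ⟨y, hy, rfl⟩ := (mem_latImg hτ).mp hx
  exact hC hy


lemma isIsoc_twist {F : N →ₛₗ[τ] N} (hF : IsIsoc F) (m : ℤ) (n : ℕ) :
    IsIsoc ((p : K(p, k)) ^ m • iter F n) := by
  refine ⟨hF.finite, ?_⟩
  have hb := iterate_bijective hF n
  constructor
  · intro x y hxy
    simp only [LinearMap.smul_apply] at hxy
    exact hb.injective (smul_right_injective N (ppow_ne_zero m) hxy)
  · intro y
    obtain ⟨x, hx⟩ := hb.surjective (((p : K(p, k)) ^ m)⁻¹ • y)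
    refine ⟨x, ?_⟩
    rw [LinearMap.smul_apply, hx, smul_smul, mul_inv_cancel₀ (ppow_ne_zero m), one_smul]

lemma latImg_bot (F : N →ₛₗ[τ] N) (s : ℕ) : latImg F s (⊥ : Submodule (WittVector p k) N) = ⊥ := by
  unfold latImg
  simp

lemma latImg_finset_sup (hτ : Good τ) (F : N →ₛₗ[τ] N) (s : ℕ) {ι : Type*} (S : Finset ι)
    (A : ι → Submodule (WittVector p k) N) :
    latImg F s (S.sup A) = S.sup (fun i => latImg F s (A i)) := by
  classical
  induction S using Finset.induction_on with
  | empty => simp [latImg_bot]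
  | insert i S hi ih => rw [Finset.sup_insert, Finset.sup_insert, latImg_sup hτ, ih]

/-- Positive first slope implies effective. -/
lemma isEffective_of_pos_slope (hτ : Good τ) {G : N →ₛₗ[τ] N} (hG : IsIsoc G) {lam : ℝ}
    (hlam : IsFirstSlope G lam) (hpos : 0 < lam) : IsEffective G := by
  obtain ⟨M, hM, o, ho, hlim⟩ := hlam
  have hev : ∀ᶠ n : ℕ in atTop, 0 < (o n : ℝ) / n ∧ 1 ≤ n :=
    (hlim.eventually (lt_mem_nhds hpos)).and (eventually_ge_atTop 1)
  obtain ⟨n₀, hn₀pos, hn₀⟩ := hev.exists
  have hon₀ : 0 ≤ o n₀ := by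
    have hn' : (0 : ℝ) < n₀ := by exact_mod_cast hn₀
    have := (div_pos_iff_of_pos_right hn').mp hn₀pos
    exact_mod_cast this.le
  set M' : Submodule (WittVector p k) N := (Finset.range n₀).sup (fun i => latImg G i M) with hM'
  have hle : ∀ i, i < n₀ → latImg G i M ≤ M' := fun i hi =>
    Finset.le_sup (f := fun i => latImg G i M) (Finset.mem_range.mpr hi)
  have hMle : M ≤ M' := by
    have := hle 0 (by omega)
    rwa [latImg_zero] at this
  have hfg : M'.FG :=
    Submodule.fg_finset_sup _ _ (fun i _ => (isLattice_latImg hτ hG hM i).fg)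
  have hlat : M'.IsLattice K(p, k) := by
    have := hM
    exact Submodule.IsLattice.of_le_of_isLattice_of_fg K(p, k) hMle hfg
  refine ⟨M', hlat, ?_⟩
  rw [hM', latImg_finset_sup hτ]
  apply Finset.sup_le
  intro i hi
  have hi' : i < n₀ := Finset.mem_range.mp hi
  rw [← latImg_add hτ]
  rcases Nat.lt_or_ge (1 + i) n₀ with hlt | hge
  · exact hle (1 + i) hlt
  · have : 1 + i = n₀ := by omega
    rw [this]
    refine le_trans (ho n₀ hn₀).1 (le_trans (pPow_anti hon₀ M) ?_)
    rw [pPow_zero]
    exact hMle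

/-- Nonnegative first slope implies effective. -/
lemma isEffective_of_nonneg_slope (hτ : Good τ) {G : N →ₛₗ[τ] N} (hG : IsIsoc G) {lam : ℝ}
    (hlam : IsFirstSlope G lam) (h0 : 0 ≤ lam) : IsEffective G := by
  have hfin := hG.finite
  set h := Module.finrank K(p, k) N with hh
  have hslope := isFirstSlope_twist hτ hlam 1 (h + 1)
  have hpos : (0 : ℝ) < ((h + 1 : ℕ) : ℝ) * lam + ((1 : ℤ) : ℝ) := by
    have : (0 : ℝ) ≤ ((h + 1 : ℕ) : ℝ) * lam := mul_nonneg (by positivity) h0
    have h1 : (((1 : ℤ) : ℝ)) = 1 := by norm_num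
    rw [h1]
    linarith
  obtain ⟨M, hM, hMle⟩ := isEffective_of_pos_slope (hτ.pow (h + 1)) (isIsoc_twist hG 1 (h + 1))
    hslope hpos
  rw [latImg_twist hτ, pPow_le_iff] at hMle
  simp only [mul_one, Nat.cast_one] at hMle
  exact isEffective_of_latImg_succ_le hτ hG hh.symm hM hMle

/-- **S17145** for a general good twist. -/
theorem exists_lattice_of_le_slope (hτ : Good τ) {F : N →ₛₗ[τ] N} (hF : IsIsoc F) {lam : ℝ}
    (hlam : IsFirstSlope F lam) (r : ℤ) (s : ℕ) (hs : 0 < s) (hrs : (r : ℝ) / s ≤ lam) :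
    ∃ M : Submodule (WittVector p k) N, M.IsLattice K(p, k) ∧ latImg F s M ≤ pPow r M := by
  have hslope := isFirstSlope_twist hτ hlam (-r) s
  have hs' : (0 : ℝ) < s := by exact_mod_cast hs
  have h0 : (0 : ℝ) ≤ (s : ℝ) * lam + ((-r : ℤ) : ℝ) := by
    rw [div_le_iff₀ hs'] at hrs
    push_cast
    linarith
  obtain ⟨M, hM, hMle⟩ := isEffective_of_nonneg_slope (hτ.pow s) (isIsoc_twist hF (-r) s)
    hslope h0
  refine ⟨M, hM, ?_⟩
  rw [latImg_twist hτ, pPow_le_iff] at hMle
  simpa using hMle

end Groth.Agent.Lib.Helper8.IsocL
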