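import Mathlib
import Groth.Agent.Lib.Helper8.Isoc4
set_option backward.isDefEq.respectTransparency.types false
set_option autoImplicit false
set_option linter.unusedSectionVars false

open scoped Pointwise Isocrystal

universe u v w

namespace Groth.Agent.Lib.Helper8.IsocL

open Isoc Filter Topology Module

variable {p : ℕ} [Fact p.Prime] {k : Type u} [Field k] [CharP k p] [PerfectRing k p]
variable {N : Type v} [AddCommGroup N] [Module (WittVector p k) N] [Module K(p, k) N]
  [IsScalarTower (WittVector p k) K(p, k) N]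
variable {τ τ' τ'' : K(p, k) →+* K(p, k)}

/-- The matrix of a semilinear map in a basis. -/
noncomputable def amat {n : ℕ} (b : Basis (Fin n) K(p, k) N) (F : N →ₛₗ[τ] N) :
    Matrix (Fin n) (Fin n) K(p, k) :=
  Matrix.of fun i j => b.repr (F (b j)) i

lemma detCoeff_eq {n : ℕ} (b : Basis (Fin n) K(p, k) N) (F : N →ₛₗ[τ] N) :
    detCoeff b F = (amat b F).det := rfl

lemma repr_apply_semilinear {n : ℕ} (b : Basis (Fin n) K(p, k) N) (F : N →ₛₗ[τ] N) (x : N)
    (i : Fin n) : b.repr (F x) i = ∑ j, amat b F i j * τ (b.repr x j) := by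
  conv_lhs => rw [← b.sum_repr x]
  rw [map_sum, map_sum, Finsupp.finsetSum_apply]
  apply Finset.sum_congr rfl
  intro j _
  rw [map_smulₛₗ, map_smul, Finsupp.smul_apply, smul_eq_mul, mul_comm]
  rfl

lemma amat_comp {n : ℕ} (b : Basis (Fin n) K(p, k) N) (F : N →ₛₗ[τ] N) (G : N →ₛₗ[τ'] N)
    (H : N →ₛₗ[τ''] N) (hH : ∀ x, H x = G (F x)) :
    amat b H = amat b G * (amat b F).map τ' := by
  ext i j
  rw [Matrix.mul_apply]
  show b.repr (H (b j)) i = _
  rw [hH, repr_apply_semilinear]
  rfl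

lemma detCoeff_comp {n : ℕ} (b : Basis (Fin n) K(p, k) N) (F : N →ₛₗ[τ] N) (G : N →ₛₗ[τ'] N)
    (H : N →ₛₗ[τ''] N) (hH : ∀ x, H x = G (F x)) :
    detCoeff b H = detCoeff b G * τ' (detCoeff b F) := by
  rw [detCoeff_eq, detCoeff_eq, detCoeff_eq, amat_comp b F G H hH, Matrix.det_mul,
    RingHom.map_det, RingHom.mapMatrix_apply]

lemma detCoeff_iter_zero {n : ℕ} (b : Basis (Fin n) K(p, k) N) (F : N →ₛₗ[τ] N) :
    detCoeff b (iter F 0) = 1 := by
  have : amat b (iter F 0) = 1 := by
    ext i j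
    show b.repr ((iter F 0) (b j)) i = _
    rw [iter_apply, Function.iterate_zero, id, b.repr_self, Finsupp.single_apply, Matrix.one_apply]
    simp [eq_comm]
  rw [detCoeff_eq, this, Matrix.det_one]

lemma detCoeff_iter_succ {n : ℕ} (b : Basis (Fin n) K(p, k) N) (F : N →ₛₗ[τ] N) (m : ℕ) :
    detCoeff b (iter F (m + 1)) = detCoeff b F * τ (detCoeff b (iter F m)) :=
  detCoeff_comp b (iter F m) F (iter F (m + 1)) (fun x => iter_succ_apply F m x)

lemma IsOrdP_map (hτ : Good τ) {c : K(p, k)} {r : ℤ} (h : IsOrdP c r) : IsOrdP (τ c) r := by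
  obtain ⟨u, rfl⟩ := h
  obtain ⟨w', hw'⟩ := hτ.map_W (u : WittVector p k)
  obtain ⟨u', hu'⟩ := hτ.map_isUnit u.isUnit hw'
  exact ⟨u', by rw [map_mul, map_ppow, hw', hu']⟩

lemma isOrdP_one : IsOrdP (1 : K(p, k)) 0 := ⟨1, by simp⟩

lemma isOrdP_detCoeff_iter (hτ : Good τ) {n : ℕ} (b : Basis (Fin n) K(p, k) N)
    {F : N →ₛₗ[τ] N} {d : ℤ} (hd : IsOrdP (detCoeff b F) d) (m : ℕ) :
    IsOrdP (detCoeff b (iter F m)) (m * d) := by
  induction m with
  | zero => rw [detCoeff_iter_zero]; simpa using isOrdP_one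
  | succ m ih =>
    rw [detCoeff_iter_succ]
    have := IsOrdP_mul hd (IsOrdP_map hτ ih)
    have h2 : d + m * d = ((m + 1 : ℕ) : ℤ) * d := by push_cast; ring
    rwa [h2] at this

lemma IsOrdP_inv {x : K(p, k)} {m : ℤ} (hx : IsOrdP x m) : IsOrdP x⁻¹ (-m) := by
  obtain ⟨u, rfl⟩ := hx
  refine ⟨u⁻¹, ?_⟩
  have hinv : algebraMap (WittVector p k) K(p, k) ((u⁻¹ : (WittVector p k)ˣ) : WittVector p k)
      = (algebraMap (WittVector p k) K(p, k) (u : WittVector p k))⁻¹ := by
    apply eq_inv_of_mul_eq_one_left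
    rw [← map_mul, Units.inv_mul, map_one]
  rw [hinv, mul_inv, zpow_neg]

lemma IsOrdP_unique {x : K(p, k)} {m n : ℤ} (hx : IsOrdP x m) (hx' : IsOrdP x n) : m = n := by
  wlog hmn : m ≤ n generalizing m n
  · exact (this hx' hx (by omega)).symm
  by_contra hne
  have hlt : m < n := lt_of_le_of_ne hmn hne
  obtain ⟨u, hu⟩ := hx
  obtain ⟨v, hv⟩ := hx'
  -- u = p^(n-m) v, so p divides a unit
  obtain ⟨j, hj⟩ := Int.eq_ofNat_of_zero_le (by omega : 0 ≤ n - m - 1)
  have h1 : algebraMap (WittVector p k) K(p, k) (u : WittVector p k)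
      = algebraMap (WittVector p k) K(p, k) ((p : WittVector p k) * ((p : WittVector p k) ^ j * v)) := by
    have h2 : (p : K(p, k)) ^ m * algebraMap (WittVector p k) K(p, k) (u : WittVector p k)
        = (p : K(p, k)) ^ n * algebraMap (WittVector p k) K(p, k) (v : WittVector p k) := by
      rw [← hu, ← hv]
    have h3 : n = m + (1 + j) := by omega
    rw [h3, zpow_add₀ p_ne_zero, mul_assoc] at h2
    have h4 := mul_left_cancel₀ (ppow_ne_zero m) h2
    rw [h4, map_mul, map_mul, map_pow, map_natCast, zpow_add₀ p_ne_zero, zpow_one, zpow_natCast]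
    ring
  have h5 := algebraMap_injective' (p := p) (k := k) h1
  have h6 : IsUnit (p : WittVector p k) := by
    have : IsUnit ((p : WittVector p k) * ((p : WittVector p k) ^ j * v)) := h5 ▸ u.isUnit
    exact isUnit_of_mul_isUnit_left this
  exact (WittVector.irreducible p).not_isUnit h6

/-- If `p^a w` with `w` integral has order `D` then `a ≤ D`. -/
lemma le_of_isOrdP_int {a D : ℤ} {w : WittVector p k}
    (h : IsOrdP ((p : K(p, k)) ^ a * algebraMap (WittVector p k) K(p, k) w) D) : a ≤ D := by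
  have hw0 : w ≠ 0 := by
    rintro rfl
    exact isOrdP_ne_zero h (by simp)
  obtain ⟨j, u, hu⟩ := WittVector.exists_eq_pow_p_mul' w hw0
  have h2 : IsOrdP ((p : K(p, k)) ^ a * algebraMap (WittVector p k) K(p, k) w) (a + j) := by
    refine ⟨u, ?_⟩
    rw [hu, map_mul, map_pow, map_natCast, zpow_add₀ p_ne_zero, zpow_natCast]
    ring
  have := IsOrdP_unique h h2
  omega


/-! ### Change of basis -/

lemma toMatrix_mul_amat {n : ℕ} (b b' : Basis (Fin n) K(p, k) N) (F : N →ₛₗ[τ] N) :
    b.toMatrix b' * amat b' F = amat b F * (b.toMatrix b').map τ := by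
  ext i j
  rw [Matrix.mul_apply, Matrix.mul_apply]
  have h1 : ∑ l, amat b F i l * ((b.toMatrix b').map τ) l j = b.repr (F (b' j)) i := by
    rw [repr_apply_semilinear]
    rfl
  rw [h1]
  conv_rhs => rw [← b'.sum_repr (F (b' j))]
  rw [map_sum, Finsupp.finsetSum_apply]
  apply Finset.sum_congr rfl
  intro l _
  rw [map_smul, Finsupp.smul_apply, smul_eq_mul, mul_comm]
  rfl

lemma det_toMatrix_ne_zero {n : ℕ} (b b' : Basis (Fin n) K(p, k) N) :
    (b.toMatrix b').det ≠ 0 := by
  have h := b.toMatrix_mul_toMatrix_flip b'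
  have h2 := congrArg Matrix.det h
  rw [Matrix.det_mul, Matrix.det_one] at h2
  exact left_ne_zero_of_mul_eq_one h2

lemma isOrdP_detCoeff_basis (hτ : Good τ) {n : ℕ} (b b' : Basis (Fin n) K(p, k) N)
    {F : N →ₛₗ[τ] N} {d : ℤ} (hd : IsOrdP (detCoeff b F) d) : IsOrdP (detCoeff b' F) d := by
  have h := congrArg Matrix.det (toMatrix_mul_amat b b' F)
  rw [Matrix.det_mul, Matrix.det_mul, ← RingHom.mapMatrix_apply, ← RingHom.map_det,
    ← detCoeff_eq, ← detCoeff_eq] at h
  have hP := det_toMatrix_ne_zero b b'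
  obtain ⟨e, he⟩ := exists_isOrdP _ hP
  have h2 : detCoeff b' F = detCoeff b F * τ (b.toMatrix b').det * ((b.toMatrix b').det)⁻¹ := by
    rw [← h]
    field_simp
  rw [h2]
  have := IsOrdP_mul (IsOrdP_mul hd (IsOrdP_map hτ he)) (IsOrdP_inv he)
  have h3 : d + e + -e = d := by ring
  rwa [h3] at this

/-! ### Lattice bases -/

lemma exists_lattice_basis {M : Submodule (WittVector p k) N} (hM : M.IsLattice K(p, k)) :
    ∃ (n : ℕ) (e : Basis (Fin n) K(p, k) N), ∀ x : N, x ∈ M ↔
      ∀ i, ∃ w : WittVector p k, e.repr x i = algebraMap (WittVector p k) K(p, k) w := by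
  have := hM
  let bM := Module.Free.chooseBasis (WittVector p k) M
  let eι := bM.extendOfIsLattice K(p, k)
  have heι : ∀ i, eι i = (bM i : N) := fun i => Basis.extendOfIsLattice_apply K(p, k) bM i
  have hchar : ∀ x : N, x ∈ M ↔
      ∀ i, ∃ w : WittVector p k, eι.repr x i = algebraMap (WittVector p k) K(p, k) w := by
    intro x
    constructor
    · intro hx i
      refine ⟨bM.repr ⟨x, hx⟩ i, ?_⟩
      have h1 : x = ∑ j, (algebraMap (WittVector p k) K(p, k) (bM.repr ⟨x, hx⟩ j)) • eι j := by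
        have h2 := bM.sum_repr ⟨x, hx⟩
        have h3 := congrArg Subtype.val h2
        simp only [Submodule.coe_sum, Submodule.coe_smul] at h3
        refine h3.symm.trans ?_
        apply Finset.sum_congr rfl
        intro j _
        rw [algebraMap_smul, heι]
      refine (congrArg (fun y => eι.repr y i) h1).trans ?_
      rw [Basis.repr_sum_self]
    · intro hx
      choose wt hwt using hx
      rw [← eι.sum_repr x]
      apply Submodule.sum_mem
      intro i _
      rw [hwt, algebraMap_smul, heι]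
      exact M.smul_mem _ (bM i).2
  refine ⟨_, eι.reindex (Fintype.equivFin _), ?_⟩
  intro x
  rw [hchar]
  constructor
  · intro h i
    obtain ⟨w, hw⟩ := h ((Fintype.equivFin _).symm i)
    exact ⟨w, by rw [Basis.repr_reindex_apply, hw]⟩
  · intro h i
    obtain ⟨w, hw⟩ := h (Fintype.equivFin _ i)
    refine ⟨w, ?_⟩
    rw [Basis.repr_reindex_apply, Equiv.symm_apply_apply] at hw
    exact hw

lemma mem_pPow_iff_coords {M : Submodule (WittVector p k) N} {n : ℕ}
    {e : Basis (Fin n) K(p, k) N}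
    (he : ∀ x : N, x ∈ M ↔ ∀ i, ∃ w : WittVector p k,
      e.repr x i = algebraMap (WittVector p k) K(p, k) w) (r : ℤ) (x : N) :
    x ∈ pPow r M ↔ ∀ i, ∃ w : WittVector p k,
      e.repr x i = (p : K(p, k)) ^ r * algebraMap (WittVector p k) K(p, k) w := by
  rw [mem_pPow', he]
  apply forall_congr'
  intro i
  apply exists_congr
  intro w
  rw [map_smul, Finsupp.smul_apply, smul_eq_mul, zpow_neg]
  constructor
  · intro h
    rw [← h, ← mul_assoc, mul_inv_cancel₀ (ppow_ne_zero r), one_mul]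
  · intro h
    rw [h, ← mul_assoc, inv_mul_cancel₀ (ppow_ne_zero r), one_mul]

/-- If `F^s M ⊆ p^r M` then the determinant of `F^s` in a lattice basis is `p^(r n)` times an
integral element. -/
lemma detCoeff_of_latImg_le {M : Submodule (WittVector p k) N} {n : ℕ}
    {e : Basis (Fin n) K(p, k) N}
    (he : ∀ x : N, x ∈ M ↔ ∀ i, ∃ w : WittVector p k,
      e.repr x i = algebraMap (WittVector p k) K(p, k) w)
    {G : N →ₛₗ[τ] N} {r : ℤ} (hG : ∀ x ∈ M, G x ∈ pPow r M) :
    ∃ Wm : Matrix (Fin n) (Fin n) (WittVector p k),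
      amat e G = (p : K(p, k)) ^ r • Wm.map (algebraMap (WittVector p k) K(p, k)) ∧
      detCoeff e G = (p : K(p, k)) ^ (r * n) * algebraMap (WittVector p k) K(p, k) Wm.det := by
  have hej : ∀ j, e j ∈ M := by
    intro j
    rw [he]
    intro i
    rw [e.repr_self, Finsupp.single_apply]
    split_ifs
    · exact ⟨1, by simp⟩
    · exact ⟨0, by simp⟩
  have h1 : ∀ i j, ∃ w : WittVector p k,
      e.repr (G (e j)) i = (p : K(p, k)) ^ r * algebraMap (WittVector p k) K(p, k) w :=
    fun i j => (mem_pPow_iff_coords he r _).mp (hG _ (hej j)) i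
  choose Wm hWm using h1
  have hA : amat e G = (p : K(p, k)) ^ r •
      (Matrix.of Wm).map (algebraMap (WittVector p k) K(p, k)) := by
    ext i j
    show e.repr (G (e j)) i = _
    rw [hWm]
    rfl
  refine ⟨Matrix.of Wm, hA, ?_⟩
  rw [detCoeff_eq, hA, Matrix.det_smul, Fintype.card_fin, ← RingHom.mapMatrix_apply,
    ← RingHom.map_det, ← zpow_natCast, ← zpow_mul]


lemma basis_card_eq {n h : ℕ} (e : Basis (Fin n) K(p, k) N) (b : Basis (Fin h) K(p, k) N) :
    n = h := by
  have h1 := Module.finrank_eq_card_basis e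
  have h2 := Module.finrank_eq_card_basis b
  rw [Fintype.card_fin] at h1 h2
  omega

/-- Determinant bound: `F^n M ⊆ p^rn M` implies `rn · h ≤ n · d`. -/
theorem ord_mul_le_det (hτ : Good τ) {F : N →ₛₗ[τ] N} {h : ℕ} (b : Basis (Fin h) K(p, k) N)
    {d : ℤ} (hd : IsOrdP (detCoeff b F) d) {M : Submodule (WittVector p k) N}
    (hM : M.IsLattice K(p, k)) {n : ℕ} {rn : ℤ} (hle : latImg F n M ≤ pPow rn M) :
    rn * h ≤ n * d := by
  obtain ⟨n', e, he⟩ := exists_lattice_basis hM
  have hn' := basis_card_eq e b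
  subst hn'
  have hd' := isOrdP_detCoeff_iter hτ e (isOrdP_detCoeff_basis hτ b e hd) n
  obtain ⟨Wm, -, hdet⟩ := detCoeff_of_latImg_le he (G := iter F n) (r := rn)
    (fun x hx => hle (iter_mem_latImg hx))
  rw [hdet] at hd'
  exact le_of_isOrdP_int hd'

lemma latImg_le_pPow_mul (hτ : Good τ) {F : N →ₛₗ[τ] N} {M : Submodule (WittVector p k) N}
    {r : ℤ} (hr : latImg F 1 M ≤ pPow r M) (n : ℕ) : latImg F n M ≤ pPow (n * r) M := by
  induction n with
  | zero => simp
  | succ n ih =>
    rw [latImg_add hτ]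
    calc latImg F n (latImg F 1 M) ≤ latImg F n (pPow r M) := latImg_mono F n hr
      _ = pPow r (latImg F n M) := latImg_pPow hτ F n r M
      _ ≤ pPow r (pPow (n * r) M) := pPow_mono ih
      _ = pPow (((n + 1 : ℕ) : ℤ) * r) M := by
        rw [← pPow_add]
        congr 1
        push_cast
        ring

/-- **S17140** for a general good twist. -/
theorem ord_bounds (hτ : Good τ) {F : N →ₛₗ[τ] N} {h : ℕ} (b : Basis (Fin h) K(p, k) N)
    {d : ℤ} (hd : IsOrdP (detCoeff b F) d) {M : Submodule (WittVector p k) N}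
    (hM : M.IsLattice K(p, k)) {n : ℕ} {r rn : ℤ} (hr : IsOrd M F 1 r) (hrn : IsOrd M F n rn) :
    (n : ℤ) * r ≤ rn ∧ rn * h ≤ n * d :=
  ⟨IsOrd.le_of_le hrn (latImg_le_pPow_mul hτ hr.1 n), ord_mul_le_det hτ b hd hM hrn.1⟩

/-- Equality case: if `G M = p^r M` the determinant in a lattice basis has order `r n`. -/
lemma isOrdP_detCoeff_of_eq (hτ : Good τ) {M : Submodule (WittVector p k) N} {n : ℕ}
    {e : Basis (Fin n) K(p, k) N}
    (he : ∀ x : N, x ∈ M ↔ ∀ i, ∃ w : WittVector p k,
      e.repr x i = algebraMap (WittVector p k) K(p, k) w)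
    {G : N →ₛₗ[τ] N} {r : ℤ} (hG : ∀ x ∈ M, G x ∈ pPow r M)
    (hG' : ∀ y ∈ pPow r M, ∃ x ∈ M, G x = y) : IsOrdP (detCoeff e G) (r * n) := by
  obtain ⟨Wm, hA, hdet⟩ := detCoeff_of_latImg_le he hG
  have hej : ∀ j, e j ∈ M := by
    intro j
    rw [he]
    intro i
    rw [e.repr_self, Finsupp.single_apply]
    split_ifs
    · exact ⟨1, by simp⟩
    · exact ⟨0, by simp⟩
  choose mm hmmM hmm using fun i => hG' _ (smul_mem_pPow (r := r) (hej i))
  choose B hB using fun i => (he (mm i)).mp (hmmM i)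
  choose B' hB' using fun i l => hτ.map_W (B i l)
  -- the matrix identity Wm * B'ᵀ = 1
  have hmat : Wm * (Matrix.of fun l i => B' i l) = 1 := by
    apply Matrix.ext
    intro t i
    apply algebraMap_injective' (p := p) (k := k)
    have h1 : e.repr (G (mm i)) t = (p : K(p, k)) ^ r *
        algebraMap (WittVector p k) K(p, k) ((Wm * (Matrix.of fun l i => B' i l)) t i) := by
      rw [repr_apply_semilinear, Matrix.mul_apply, map_sum, Finset.mul_sum]
      apply Finset.sum_congr rfl
      intro l _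
      rw [hA, hB, hB', map_mul]
      simp only [Matrix.smul_apply, Matrix.map_apply, Matrix.of_apply, smul_eq_mul]
      ring
    have h2 : e.repr (G (mm i)) t = (p : K(p, k)) ^ r *
        algebraMap (WittVector p k) K(p, k) ((1 : Matrix (Fin n) (Fin n) (WittVector p k)) t i) := by
      rw [hmm, map_smul, Finsupp.smul_apply, e.repr_self, Finsupp.single_apply, smul_eq_mul,
        Matrix.one_apply]
      by_cases hti : i = t
      · subst hti
        simp
      · have hti' : ¬ t = i := fun h => hti h.symm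
        simp [hti, hti']
    exact mul_left_cancel₀ (ppow_ne_zero r) (h1.symm.trans h2)
  have hdetu : IsUnit Wm.det := by
    have := congrArg Matrix.det hmat
    rw [Matrix.det_mul, Matrix.det_one] at this
    exact IsUnit.of_mul_eq_one _ this
  obtain ⟨u, hu⟩ := hdetu
  rw [hdet, ← hu]
  exact ⟨u, rfl⟩

/-- **S17139** for a general good twist. -/
theorem slope_of_latImg_eq [Nontrivial N] (hτ : Good τ) {F : N →ₛₗ[τ] N} (hF : IsIsoc F)
    {h : ℕ} (b : Basis (Fin h) K(p, k) N) {d : ℤ} (hd : IsOrdP (detCoeff b F) d)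
    {M : Submodule (WittVector p k) N} (hM : M.IsLattice K(p, k)) {r : ℤ} {s : ℕ} (hs : 0 < s)
    (hFM : latImg F s M = pPow r M) : IsFirstSlope F ((r : ℝ) / s) ∧ r * h = s * d := by
  constructor
  · obtain ⟨o, ho, lam, hlam⟩ := exists_ord_tendsto hτ hF hM
    have hM0 := ne_bot_of_isLattice hM
    have hos : ∀ n : ℕ, o (s * n) = r * n := by
      intro n
      apply IsOrd.unique (ho (s * n))
      have heq := latImg_mul_eq hτ hFM n
      refine ⟨heq.le, fun hle => hM0 ?_⟩
      rw [heq, pPow_le_iff, ← pPow_add] at hle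
      have : -(r * n) + (r * n + 1) = 1 := by ring
      rw [this] at hle
      exact eq_bot_of_le_pPow hM.fg le_rfl hle
    have hsub : Tendsto (fun n : ℕ => s * n) atTop atTop :=
      tendsto_atTop_mono (fun n => Nat.le_mul_of_pos_left n hs) tendsto_id
    have h1 := hlam.comp hsub
    have h2 : Tendsto (fun n : ℕ => (r : ℝ) / s) atTop (𝓝 lam) := by
      refine Tendsto.congr' ?_ h1
      filter_upwards [eventually_ge_atTop 1] with n hn
      simp only [Function.comp_apply]
      rw [hos]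
      have hn' : (n : ℝ) ≠ 0 := by exact_mod_cast (by omega : n ≠ 0)
      have hs' : (s : ℝ) ≠ 0 := by exact_mod_cast hs.ne'
      push_cast
      field_simp
    have hlameq : lam = (r : ℝ) / s := tendsto_nhds_unique h2 tendsto_const_nhds |>.symm ▸ rfl
    exact ⟨M, hM, o, fun n _ => ho n, hlameq ▸ hlam⟩
  · obtain ⟨n', e, he⟩ := exists_lattice_basis hM
    have hn' := basis_card_eq e b
    subst hn'
    have hd' := isOrdP_detCoeff_iter hτ e (isOrdP_detCoeff_basis hτ b e hd) s
    have hd'' := isOrdP_detCoeff_of_eq (hτ.pow s) he (G := iter F s) (r := r)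
      (fun x hx => hFM ▸ iter_mem_latImg hx)
      (fun y hy => (mem_latImg hτ).mp (hFM ▸ hy))
    exact IsOrdP_unique hd'' hd'

end Groth.Agent.Lib.Helper8.IsocL
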