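import Mathlib
import Groth.Agent.Lib.Helper8.Isoc5
set_option backward.isDefEq.respectTransparency.types false
set_option autoImplicit false
set_option linter.unusedSectionVars false

open scoped Pointwise Isocrystal

universe u v w

namespace Groth.Agent.Lib.Helper8.IsocL

open Isoc Filter Topology Module

variable {p : ℕ} [Fact p.Prime] {k : Type u} [Field k] [CharP k p] [PerfectRing k p]
variable {N : Type v} [AddCommGroup N] [Module (WittVector p k) N] [Module K(p, k) N]
  [IsScalarTower (WittVector p k) K(p, k) N]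
variable {τ τ' τ'' : K(p, k) →+* K(p, k)}

/-- Converse of `isOrdP_detCoeff_of_eq`: if `G M ⊆ p^r M` and the determinant has order exactly
`r n` then `G M = p^r M`. -/
lemma exists_preimage_of_isOrdP (hτ : Good τ) {M : Submodule (WittVector p k) N} {n : ℕ}
    {e : Basis (Fin n) K(p, k) N}
    (he : ∀ x : N, x ∈ M ↔ ∀ i, ∃ w : WittVector p k,
      e.repr x i = algebraMap (WittVector p k) K(p, k) w)
    {G : N →ₛₗ[τ] N} {r : ℤ} (hG : ∀ x ∈ M, G x ∈ pPow r M)
    (hdet : IsOrdP (detCoeff e G) (r * n)) :
    ∀ y ∈ pPow r M, ∃ x ∈ M, G x = y := by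
  obtain ⟨Wm, hA, hdetW⟩ := detCoeff_of_latImg_le he hG
  have hu : IsUnit Wm.det := by
    obtain ⟨u, hu⟩ := hdet
    rw [hdetW] at hu
    have h1 := mul_left_cancel₀ (ppow_ne_zero _) hu
    have h2 := algebraMap_injective' (p := p) (k := k) h1
    rw [h2]
    exact u.isUnit
  intro y hy
  choose c hc using (mem_pPow_iff_coords he r y).mp hy
  set v := Wm⁻¹.mulVec c with hv
  have hWv : Wm.mulVec v = c := by
    rw [hv, Matrix.mulVec_mulVec, Matrix.mul_nonsing_inv _ hu, Matrix.one_mulVec]
  choose w hw using fun l => hτ.surj_W (v l)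
  refine ⟨∑ l, algebraMap (WittVector p k) K(p, k) (w l) • e l, ?_, ?_⟩
  · rw [he]
    intro i
    exact ⟨w i, by rw [e.repr_sum_self]⟩
  · apply e.repr.injective
    ext t
    rw [repr_apply_semilinear, hc, hA]
    have : ∀ l, e.repr (∑ l, algebraMap (WittVector p k) K(p, k) (w l) • e l) l
        = algebraMap (WittVector p k) K(p, k) (w l) := fun l => by rw [e.repr_sum_self]
    simp only [this, hw, Matrix.smul_apply, Matrix.map_apply, smul_eq_mul]
    rw [← hWv, Matrix.mulVec, dotProduct, map_sum, Finset.mul_sum]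
    apply Finset.sum_congr rfl
    intro l _
    rw [map_mul]
    ring

/-- **S17147** for a general good twist. -/
theorem exists_lattice_of_slope_eq (hτ : Good τ) {F : N →ₛₗ[τ] N} (hF : IsIsoc F)
    {h : ℕ} (b : Basis (Fin h) K(p, k) N) {d : ℤ} (hd : IsOrdP (detCoeff b F) d)
    (hlam : IsFirstSlope F ((d : ℝ) / h)) :
    ∃ M : Submodule (WittVector p k) N, M.IsLattice K(p, k) ∧ latImg F h M = pPow d M := by
  rcases Nat.eq_zero_or_pos h with h0 | hpos
  · subst h0
    obtain ⟨M, hM, -⟩ := hlam
    refine ⟨M, hM, ?_⟩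
    have : Subsingleton N := by
      constructor
      intro x y
      apply b.repr.injective
      ext i
      exact i.elim0
    have : Subsingleton (Submodule (WittVector p k) N) := Submodule.subsingleton_iff _ |>.mpr this
    exact Subsingleton.elim _ _
  · obtain ⟨M, hM, hle⟩ := exists_lattice_of_le_slope hτ hF hlam d h hpos le_rfl
    refine ⟨M, hM, le_antisymm hle ?_⟩
    obtain ⟨n', e, he⟩ := exists_lattice_basis hM
    have hn' := basis_card_eq e b
    subst hn'
    have hd' := isOrdP_detCoeff_iter hτ e (isOrdP_detCoeff_basis hτ b e hd) n'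
    have hd'' : IsOrdP (detCoeff e (iter F n')) (d * n') := by
      rwa [mul_comm] at hd'
    intro y hy
    obtain ⟨x, hx, rfl⟩ := exists_preimage_of_isOrdP (hτ.pow n') he (G := iter F n') (r := d)
      (fun x hx => hle (iter_mem_latImg hx)) hd'' y hy
    exact iter_mem_latImg hx

end Groth.Agent.Lib.Helper8.IsocL
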