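import Mathlib
import Groth.Agent.Lib.Helper8.Isoc6
set_option backward.isDefEq.respectTransparency.types false
set_option autoImplicit false
set_option linter.unusedSectionVars false

open scoped Pointwise Isocrystal

universe u v w

namespace Groth.Agent.Lib.Helper8.IsocL

open Isoc Filter Topology Module

variable {p : ℕ} [Fact p.Prime] {k : Type u} [Field k] [CharP k p] [PerfectRing k p]
variable {N : Type v} [AddCommGroup N] [Module (WittVector p k) N] [Module K(p, k) N]
  [IsScalarTower (WittVector p k) K(p, k) N]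
variable {τ τ' τ'' : K(p, k) →+* K(p, k)}

lemma iter_mem_of_latImg_le (hτ : Good τ) {G : N →ₛₗ[τ] N} {M : Submodule (WittVector p k) N}
    (hGM : latImg G 1 M ≤ M) (s : ℕ) {x : N} (hx : x ∈ M) : iter G s x ∈ M := by
  induction s with
  | zero => exact hx
  | succ s ih =>
    rw [iter_succ_apply]
    have := iter_mem_latImg (F := G) (s := 1) ih
    exact hGM this

lemma latImg_mul_le (hτ : Good τ) {F : N →ₛₗ[τ] N} {M : Submodule (WittVector p k) N} {s : ℕ}
    {r : ℤ} (h : latImg F s M ≤ pPow r M) (n : ℕ) : latImg F (s * n) M ≤ pPow (r * n) M := by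
  induction n with
  | zero => simp
  | succ n ih =>
    rw [Nat.mul_succ, latImg_add hτ]
    calc latImg F (s * n) (latImg F s M) ≤ latImg F (s * n) (pPow r M) := latImg_mono F _ h
      _ = pPow r (latImg F (s * n) M) := latImg_pPow hτ F _ r M
      _ ≤ pPow r (pPow (r * n) M) := pPow_mono ih
      _ = pPow (r * ((n + 1 : ℕ) : ℤ)) M := by
        rw [← pPow_add]
        congr 1
        push_cast
        ring

/-- Nilpotence bound: if `G M ⊆ M` and `G^n M ⊆ p M` for some `n`, then `G^h M ⊆ p M`, where `h`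
is the dimension of `N`. -/
theorem nilpotent_bound (hτ : Good τ) {G : N →ₛₗ[τ] N} [Module.Finite K(p, k) N] {h : ℕ}
    (hh : Module.finrank K(p, k) N = h) {M : Submodule (WittVector p k) N}
    (hGM : latImg G 1 M ≤ M) {n : ℕ} (hn : latImg G n M ≤ pPow 1 M) :
    latImg G h M ≤ pPow 1 M := by
  classical
  have hstab : ∀ (s : ℕ) {x : N}, x ∈ M → iter G s x ∈ M := fun s x hx =>
    iter_mem_of_latImg_le hτ hGM s hx
  have hbig : ∀ q, n ≤ q → ∀ m ∈ M, iter G q m ∈ pPow 1 M := by
    intro q hq m hm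
    obtain ⟨t, rfl⟩ := Nat.exists_eq_add_of_le hq
    rw [iter_add]
    exact hn (iter_mem_latImg (hstab t hm))
  intro x hx
  obtain ⟨m, hm, rfl⟩ := (mem_latImg hτ).mp hx
  let v : Fin (h + 1) → N := fun i => iter G i m
  have hdep : ¬ LinearIndependent K(p, k) v := by
    intro hli
    have := hli.fintype_card_le_finrank
    rw [Fintype.card_fin, hh] at this
    omega
  obtain ⟨g, hg, hg0⟩ := Fintype.not_linearIndependent_iff.mp hdep
  obtain ⟨c, wt, hc, hwt, i₁, hi₁⟩ := exists_normalise g hg0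
  have hrel : ∑ i, wt i • v i = 0 := by
    have h1 : ∑ i, (c * g i) • v i = 0 := by
      simp_rw [mul_smul, ← Finset.smul_sum, hg, smul_zero]
    simp_rw [hwt, algebraMap_smul] at h1
    exact h1
  obtain ⟨j₀, hj₀mem, hj₀min⟩ := Finset.exists_min_image
    (Finset.univ.filter (fun i : Fin (h + 1) => IsUnit (wt i))) (fun i => (i : ℕ))
    ⟨i₁, by simp [hi₁]⟩
  have hj₀ : IsUnit (wt j₀) := by simpa using hj₀mem
  have hlt : ∀ i : Fin (h + 1), i < j₀ → ∃ w', wt i = (p : WittVector p k) * w' := by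
    intro i hi
    have hnu : ¬ IsUnit (wt i) := fun hu => by
      have := hj₀min i (by simp [hu])
      exact absurd hi (not_lt.mpr (by exact_mod_cast this))
    have hmem : wt i ∈ IsLocalRing.maximalIdeal (WittVector p k) := hnu
    rw [(WittVector.irreducible p).maximalIdeal_eq, Ideal.mem_span_singleton'] at hmem
    obtain ⟨w', hw'⟩ := hmem
    exact ⟨w', by rw [← hw', mul_comm]⟩
  -- the descending step
  have hstep : ∀ q, (j₀ : ℕ) ≤ q → (∀ q', q < q' → iter G q' m ∈ pPow 1 M) →
      iter G q m ∈ pPow 1 M := by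
    intro q hq hq'
    obtain ⟨t, rfl⟩ := Nat.exists_eq_add_of_le' hq
    have hσ := hτ.pow t
    choose a ha using fun i => hσ.map_W (wt i)
    have hrel2 : ∑ i : Fin (h + 1), a i • iter G (t + i) m = 0 := by
      have h1 := congrArg (iter G t) hrel
      rw [map_sum, map_zero] at h1
      rw [← h1]
      apply Finset.sum_congr rfl
      intro i _
      rw [← algebraMap_smul K(p, k) (wt i), map_smulₛₗ, ha, algebraMap_smul, iter_add]
    have haj₀ : IsUnit (a j₀) := hσ.map_isUnit hj₀ (ha j₀)
    have hterm : ∀ i : Fin (h + 1), i ≠ j₀ → a i • iter G (t + i) m ∈ pPow 1 M := by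
      intro i hij
      rcases lt_or_gt_of_ne hij with hlt' | hgt'
      · obtain ⟨w', hw'⟩ := hlt i hlt'
        obtain ⟨a', ha'⟩ := hσ.map_W w'
        have hai : a i = (p : WittVector p k) * a' :=
          hσ.map_p_mul (by rw [← hw']; exact ha i) ha'
        rw [mem_pPow]
        refine ⟨a' • iter G (t + i) m, M.smul_mem _ (hstab _ hm), ?_⟩
        rw [hai, zpow_one, mul_smul]
        rw [← algebraMap_smul K(p, k) (p : WittVector p k), map_natCast]
      · apply (pPow 1 M).smul_mem
        have : (j₀ : ℕ) < i := hgt'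
        exact hq' _ (by omega)
    have hsum : a j₀ • iter G (t + j₀) m ∈ pPow 1 M := by
      have h1 := Finset.add_sum_erase Finset.univ
        (fun i : Fin (h + 1) => a i • iter G (t + i) m) (Finset.mem_univ j₀)
      rw [hrel2] at h1
      have h2 : a j₀ • iter G (t + j₀) m
          = -∑ i ∈ Finset.univ.erase j₀, a i • iter G (t + i) m := eq_neg_of_add_eq_zero_left h1
      rw [h2]
      apply (pPow 1 M).neg_mem
      exact (pPow 1 M).sum_mem (fun i hi => hterm i (Finset.ne_of_mem_erase hi))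
    obtain ⟨u, hu⟩ := haj₀
    have := (pPow 1 M).smul_mem ((u⁻¹ : (WittVector p k)ˣ) : WittVector p k) hsum
    rwa [← hu, smul_smul, Units.inv_mul, one_smul] at this
  have hall : ∀ e q : ℕ, (j₀ : ℕ) ≤ q → n ≤ q + e → iter G q m ∈ pPow 1 M := by
    intro e
    induction e with
    | zero =>
      intro q _ hq
      exact hbig q (by omega) m hm
    | succ e ih =>
      intro q hjq hq
      apply hstep q hjq
      intro q' hq'
      exact ih q' (by omega) (by omega)
  have hj₀le : (j₀ : ℕ) ≤ h := by have := j₀.2; omega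
  exact hall n h hj₀le (by omega)

/-- **S17146** for a general good twist. -/
theorem exists_rational_slope (hτ : Good τ) {F : N →ₛₗ[τ] N} (hF : IsIsoc F) {h : ℕ}
    (b : Basis (Fin h) K(p, k) N) {d : ℤ} (hd : IsOrdP (detCoeff b F) d) {lam : ℝ}
    (hlam : IsFirstSlope F lam) :
    ∃ (r : ℤ) (s : ℕ) (M : Submodule (WittVector p k) N), 0 < s ∧ s ≤ h ∧ lam = (r : ℝ) / s ∧
      M.IsLattice K(p, k) ∧ IsOrd M F s r ∧ r * h ≤ s * d := by
  have hfin := hF.finite
  have hh : Module.finrank K(p, k) N = h := by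
    rw [Module.finrank_eq_card_basis b, Fintype.card_fin]
  have hnt : Nontrivial N := by
    obtain ⟨M₀, hM₀, o, ho, -⟩ := hlam
    have hne := IsOrd.ne_bot (ho 1 le_rfl)
    by_contra hnn
    rw [not_nontrivial_iff_subsingleton] at hnn
    apply hne
    have : Subsingleton (Submodule (WittVector p k) N) := Submodule.subsingleton_iff _ |>.mpr hnn
    exact Subsingleton.elim _ _
  have hpos : 0 < h := by
    rw [← hh]; exact Module.finrank_pos
  obtain ⟨s, hs0, hsh, habs⟩ := Real.exists_nat_abs_mul_sub_round_le lam hpos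
  set r : ℤ := round ((s : ℝ) * lam) with hr
  set F' := (p : K(p, k)) ^ (-r) • iter F s with hF'def
  have hτ' := hτ.pow s
  have hF' : IsIsoc F' := isIsoc_twist hF (-r) s
  have hslope : IsFirstSlope F' ((s : ℝ) * lam + ((-r : ℤ) : ℝ)) :=
    isFirstSlope_twist hτ hlam (-r) s
  set lam' := (s : ℝ) * lam + ((-r : ℤ) : ℝ) with hlam'
  have habs' : |lam'| ≤ 1 / ((h : ℝ) + 1) := by
    rw [hlam']; push_cast; rw [← sub_eq_add_neg]; exact habs
  have hle1 : (((-1 : ℤ)) : ℝ) / ((h + 1 : ℕ) : ℝ) ≤ lam' := by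
    have := neg_abs_le lam'
    push_cast
    have h2 : (-1 : ℝ) / ((h : ℝ) + 1) = -(1 / ((h : ℝ) + 1)) := by ring
    rw [h2]; linarith
  obtain ⟨M₁, hM₁, hM₁le⟩ :=
    exists_lattice_of_le_slope hτ' hF' hslope (-1) (h + 1) (by omega) hle1
  obtain ⟨M, hM, hMle⟩ := isEffective_of_latImg_succ_le hτ' hF' hh hM₁ hM₁le
  obtain ⟨o, ho, lam'', hlim⟩ := exists_ord_tendsto hτ' hF' hM
  have hlameq : lam'' = lam' := by
    obtain ⟨M₂, hM₂, o₂, ho₂, hlim₂⟩ := hslope
    exact lim_ord_eq hτ' hM hM₂ o o₂ (fun n _ => ho n) ho₂ lam'' lam' hlim hlim₂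
  have hstabM : ∀ n, latImg F' n M ≤ M := by
    intro n x hx
    obtain ⟨m, hm, rfl⟩ := (mem_latImg hτ').mp hx
    exact iter_mem_of_latImg_le hτ' hMle n hm
  have ho0 : ∀ n, 0 ≤ o n := by
    intro n
    apply IsOrd.le_of_le (ho n)
    rw [pPow_zero]; exact hstabM n
  have hh' : (0 : ℝ) < h := by exact_mod_cast hpos
  have ho1 : ∀ n, o n ≤ 0 := by
    intro n
    by_contra hcon
    push Not at hcon
    have h1 : latImg F' n M ≤ pPow 1 M := le_trans (ho n).1 (pPow_anti (by omega) M)
    have h2 := nilpotent_bound hτ' hh hMle h1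
    have h3 : ∀ m : ℕ, (m : ℤ) ≤ o (h * m) := by
      intro m
      apply IsOrd.le_of_le (ho (h * m))
      have := latImg_mul_le hτ' h2 m
      rwa [one_mul] at this
    have h4 : (1 : ℝ) / h ≤ lam'' := by
      have hsub : Tendsto (fun m : ℕ => h * m) atTop atTop :=
        tendsto_atTop_mono (fun m => Nat.le_mul_of_pos_left m hpos) tendsto_id
      have h5 := hlim.comp hsub
      apply ge_of_tendsto h5
      filter_upwards [eventually_ge_atTop 1] with m hm
      simp only [Function.comp_apply]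
      have hm' : (0 : ℝ) < m := by exact_mod_cast hm
      have h7 : ((m : ℤ) : ℝ) ≤ (o (h * m) : ℝ) := by exact_mod_cast h3 m
      rw [div_le_div_iff₀ hh' (by push_cast; positivity)]
      push_cast at h7 ⊢
      nlinarith
    have h6 : lam'' ≤ 1 / ((h : ℝ) + 1) := hlameq ▸ (le_abs_self lam').trans habs'
    have : (1 : ℝ) / ((h : ℝ) + 1) < 1 / h := by
      apply one_div_lt_one_div_of_lt hh'; linarith
    linarith
  have hoz : ∀ n, o n = 0 := fun n => le_antisymm (ho1 n) (ho0 n)
  have hlam0 : lam' = 0 := by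
    rw [← hlameq]
    have : Tendsto (fun n : ℕ => (o n : ℝ) / n) atTop (𝓝 0) := by
      simp only [hoz, Int.cast_zero, zero_div]
      exact tendsto_const_nhds
    exact tendsto_nhds_unique hlim this
  have hord : IsOrd M F s r := by
    have h1 : IsOrd M F' 1 0 := hoz 1 ▸ ho 1
    have h2 : latImg F s M = pPow r (latImg F' 1 M) := by
      rw [hF'def, latImg_twist hτ, ← pPow_add]
      simp
    have := isOrd_of_latImg_eq h2 h1
    rwa [add_zero] at this
  refine ⟨r, s, M, hs0, hsh, ?_, hM, hord, ?_⟩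
  · have hs' : (s : ℝ) ≠ 0 := by exact_mod_cast hs0.ne'
    rw [hlam'] at hlam0
    push_cast at hlam0
    field_simp
    linarith
  · exact ord_mul_le_det hτ b hd hM hord.1

end Groth.Agent.Lib.Helper8.IsocL
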