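import Mathlib
import Groth.Agent.Lib.Helper8.Isoc7
set_option backward.isDefEq.respectTransparency.types false
set_option autoImplicit false
set_option linter.unusedSectionVars false

open scoped Pointwise Isocrystal

universe u v w

namespace Groth.Agent.Lib.Helper8.IsocL

open Isoc Filter Topology Module

variable {p : ℕ} [Fact p.Prime] {k : Type u} [Field k] [CharP k p] [PerfectRing k p]
variable {N : Type v} [AddCommGroup N] [Module (WittVector p k) N] [Module K(p, k) N]
  [IsScalarTower (WittVector p k) K(p, k) N]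
variable {τ τ' τ'' : K(p, k) →+* K(p, k)}

/-! ### Completeness -/

/-- `p`-adic series converge in `W`. -/
lemma exists_witt_limit (w : ℕ → WittVector p k) :
    ∃ s : WittVector p k, ∀ J : ℕ, ∃ t : WittVector p k,
      s - ∑ j ∈ Finset.range J, (p : WittVector p k) ^ j * w j = (p : WittVector p k) ^ J * t := by
  have hcomp : IsPrecomplete (Ideal.span {(p : WittVector p k)}) (WittVector p k) :=
    WittVector.isAdicCompleteIdealSpanP.toIsPrecomplete
  obtain ⟨s, hs⟩ := hcomp.prec' (fun J => ∑ j ∈ Finset.range J, (p : WittVector p k) ^ j * w j) (by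
    intro m n hmn
    rw [SModEq.sub_mem, smul_eq_mul, Ideal.mul_top, Ideal.span_singleton_pow,
      Ideal.mem_span_singleton]
    obtain ⟨t, rfl⟩ := Nat.exists_eq_add_of_le hmn
    rw [Finset.sum_range_add, sub_add_cancel_left]
    apply Dvd.dvd.neg_right
    apply Finset.dvd_sum
    intro i _
    rw [pow_add, mul_assoc]
    exact dvd_mul_right _ _)
  refine ⟨s, fun J => ?_⟩
  have := hs J
  rw [SModEq.sub_mem, smul_eq_mul, Ideal.mul_top, Ideal.span_singleton_pow,
    Ideal.mem_span_singleton] at this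
  obtain ⟨t, ht⟩ := this
  exact ⟨-t, by rw [mul_neg, ← ht]; ring⟩

/-- Lattices are `p`-adically complete. -/
lemma exists_lattice_limit {M : Submodule (WittVector p k) N} (hM : M.IsLattice K(p, k))
    (y : ℕ → N) (hy : ∀ j : ℕ, y (j + 1) - y j ∈ pPow j M) :
    ∃ b : N, ∀ J : ℕ, b - y J ∈ pPow J M := by
  obtain ⟨n, e, he⟩ := exists_lattice_basis hM
  choose wt hwt using fun (j : ℕ) i => (mem_pPow_iff_coords he (j : ℤ) _).mp (hy j) i
  choose s hs using fun i => exists_witt_limit (fun j => wt j i)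
  refine ⟨y 0 + ∑ i, algebraMap (WittVector p k) K(p, k) (s i) • e i, fun J => ?_⟩
  rw [mem_pPow_iff_coords he]
  intro i
  obtain ⟨t, ht⟩ := hs i J
  refine ⟨t, ?_⟩
  have hyJ : y J = y 0 + ∑ j ∈ Finset.range J, (y (j + 1) - y j) := by
    rw [Finset.sum_range_sub]; abel
  have h1 : e.repr (y J) i = e.repr (y 0) i + ∑ j ∈ Finset.range J,
      (p : K(p, k)) ^ (j : ℤ) * algebraMap (WittVector p k) K(p, k) (wt j i) := by
    conv_lhs => rw [hyJ]
    rw [map_add, Finsupp.add_apply, map_sum, Finsupp.finsetSum_apply]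
    congr 1
    apply Finset.sum_congr rfl
    intro j _
    rw [hwt]
  rw [map_sub, Finsupp.sub_apply, map_add, Finsupp.add_apply, e.repr_sum_self, h1]
  have h2 : algebraMap (WittVector p k) K(p, k) (s i) - ∑ j ∈ Finset.range J,
      (p : K(p, k)) ^ (j : ℤ) * algebraMap (WittVector p k) K(p, k) (wt j i)
      = (p : K(p, k)) ^ (J : ℤ) * algebraMap (WittVector p k) K(p, k) t := by
    have := congrArg (algebraMap (WittVector p k) K(p, k)) ht
    rw [map_sub, map_sum, map_mul, map_pow, map_natCast] at this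
    rw [zpow_natCast, ← this]
    congr 1
    apply Finset.sum_congr rfl
    intro j _
    rw [map_mul, map_pow, map_natCast, zpow_natCast]
  rw [← h2]
  ring

/-! ### Stabilisation of kernels and images modulo `p^j` -/

lemma iter_mem_pPow_of_latImg_le (hτ : Good τ) {G : N →ₛₗ[τ] N}
    {M : Submodule (WittVector p k) N} (hGM : latImg G 1 M ≤ M) (s : ℕ) {r : ℤ} {x : N}
    (hx : x ∈ pPow r M) : iter G s x ∈ pPow r M := by
  obtain ⟨m, hm, rfl⟩ := mem_pPow.mp hx
  rw [iter_ppow_smul]
  exact smul_mem_pPow (iter_mem_of_latImg_le hτ hGM s hm)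

lemma latImg_antitone (hτ : Good τ) {G : N →ₛₗ[τ] N}
    {M : Submodule (WittVector p k) N} (hGM : latImg G 1 M ≤ M) {m n : ℕ} (hmn : m ≤ n) :
    latImg G n M ≤ latImg G m M := by
  obtain ⟨t, rfl⟩ := Nat.exists_eq_add_of_le hmn
  intro x hx
  obtain ⟨y, hy, rfl⟩ := (mem_latImg hτ).mp hx
  rw [iter_add]
  exact iter_mem_latImg (iter_mem_of_latImg_le hτ hGM t hy)

/-- The pivot lemma: a normalised linear dependence among `x, Gx, …, G^h x`. -/
lemma exists_pivot (hτ : Good τ) {G : N →ₛₗ[τ] N} [Module.Finite K(p, k) N] {h : ℕ}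
    (hh : Module.finrank K(p, k) N ≤ h) {M : Submodule (WittVector p k) N}
    (hGM : latImg G 1 M ≤ M) {x : N} (hx : x ∈ M) :
    ∃ j₀ : ℕ, j₀ ≤ h ∧ ∀ (t : ℕ) (X : Submodule (WittVector p k) N), pPow 1 M ≤ X →
      (∀ i, j₀ < i → i ≤ h → iter G (t + i) x ∈ X) → iter G (t + j₀) x ∈ X := by
  classical
  have hstab : ∀ (s : ℕ) {x : N}, x ∈ M → iter G s x ∈ M := fun s x hx =>
    iter_mem_of_latImg_le hτ hGM s hx
  let v : Fin (h + 1) → N := fun i => iter G i x
  have hdep : ¬ LinearIndependent K(p, k) v := by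
    intro hli
    have := hli.fintype_card_le_finrank
    rw [Fintype.card_fin] at this
    omega
  obtain ⟨g, hg, hg0⟩ := Fintype.not_linearIndependent_iff.mp hdep
  obtain ⟨c, wt, hc, hwt, i₁, hi₁⟩ := exists_normalise g hg0
  have hrel : ∑ i, wt i • v i = 0 := by
    have h1 : ∑ i, (c * g i) • v i = 0 := by
      simp_rw [mul_smul, ← Finset.smul_sum, hg, smul_zero]
    simp_rw [hwt, algebraMap_smul] at h1
    exact h1
  obtain ⟨j₀, hj₀mem, hj₀min⟩ := Finset.exists_min_image
    (Finset.univ.filter (fun i : Fin (h + 1) => IsUnit (wt i))) (fun i => (i : ℕ))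
    ⟨i₁, by simp [hi₁]⟩
  have hj₀ : IsUnit (wt j₀) := by simpa using hj₀mem
  have hlt : ∀ i : Fin (h + 1), i < j₀ → ∃ w', wt i = (p : WittVector p k) * w' := by
    intro i hi
    have hnu : ¬ IsUnit (wt i) := fun hu => by
      have := hj₀min i (by simp [hu])
      exact absurd hi (not_lt.mpr (by exact_mod_cast this))
    have hmem : wt i ∈ IsLocalRing.maximalIdeal (WittVector p k) := hnu
    rw [(WittVector.irreducible p).maximalIdeal_eq, Ideal.mem_span_singleton'] at hmem
    obtain ⟨w', hw'⟩ := hmem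
    exact ⟨w', by rw [← hw', mul_comm]⟩
  refine ⟨j₀, by have := j₀.2; omega, ?_⟩
  intro t X hX hbig
  have hσ := hτ.pow t
  choose a ha using fun i => hσ.map_W (wt i)
  have hrel2 : ∑ i : Fin (h + 1), a i • iter G (t + i) x = 0 := by
    have h1 := congrArg (iter G t) hrel
    rw [map_sum, map_zero] at h1
    rw [← h1]
    apply Finset.sum_congr rfl
    intro i _
    rw [← algebraMap_smul K(p, k) (wt i), map_smulₛₗ, ha, algebraMap_smul, iter_add]
  have haj₀ : IsUnit (a j₀) := hσ.map_isUnit hj₀ (ha j₀)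
  have hterm : ∀ i : Fin (h + 1), i ≠ j₀ → a i • iter G (t + i) x ∈ X := by
    intro i hij
    rcases lt_or_gt_of_ne hij with hlt' | hgt'
    · obtain ⟨w', hw'⟩ := hlt i hlt'
      obtain ⟨a', ha'⟩ := hσ.map_W w'
      have hai : a i = (p : WittVector p k) * a' :=
        hσ.map_p_mul (by rw [← hw']; exact ha i) ha'
      apply hX
      rw [mem_pPow]
      refine ⟨a' • iter G (t + i) x, M.smul_mem _ (hstab _ hx), ?_⟩
      rw [hai, zpow_one, mul_smul]
      rw [← algebraMap_smul K(p, k) (p : WittVector p k), map_natCast]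
    · apply X.smul_mem
      have h1 : (j₀ : ℕ) < i := hgt'
      exact hbig _ h1 (by have := i.2; omega)
  have hsum : a j₀ • iter G (t + j₀) x ∈ X := by
    have h1 := Finset.add_sum_erase Finset.univ
      (fun i : Fin (h + 1) => a i • iter G (t + i) x) (Finset.mem_univ j₀)
    rw [hrel2] at h1
    have h2 : a j₀ • iter G (t + j₀) x
        = -∑ i ∈ Finset.univ.erase j₀, a i • iter G (t + i) x := eq_neg_of_add_eq_zero_left h1
    rw [h2]
    apply X.neg_mem
    exact X.sum_mem (fun i hi => hterm i (Finset.ne_of_mem_erase hi))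
  obtain ⟨u, hu⟩ := haj₀
  have := X.smul_mem ((u⁻¹ : (WittVector p k)ˣ) : WittVector p k) hsum
  rwa [← hu, smul_smul, Units.inv_mul, one_smul] at this

/-- Kernel stabilisation modulo `p`. -/
lemma ker_stab_one (hτ : Good τ) {G : N →ₛₗ[τ] N} [Module.Finite K(p, k) N] {h : ℕ}
    (hh : Module.finrank K(p, k) N ≤ h) {M : Submodule (WittVector p k) N}
    (hGM : latImg G 1 M ≤ M) {x : N} (hx : x ∈ M) {n : ℕ} (hn : iter G n x ∈ pPow 1 M) :
    iter G h x ∈ pPow 1 M := by
  obtain ⟨j₀, hj₀, hpiv⟩ := exists_pivot hτ hh hGM hx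
  have hbig : ∀ q, n ≤ q → iter G q x ∈ pPow 1 M := by
    intro q hq
    obtain ⟨t, rfl⟩ := Nat.exists_eq_add_of_le' hq
    rw [iter_add]
    exact iter_mem_pPow_of_latImg_le hτ hGM t hn
  have hall : ∀ e q : ℕ, j₀ ≤ q → n ≤ q + e → iter G q x ∈ pPow 1 M := by
    intro e
    induction e with
    | zero =>
      intro q _ hq
      exact hbig q (by omega)
    | succ e ih =>
      intro q hjq hq
      obtain ⟨t, rfl⟩ := Nat.exists_eq_add_of_le' hjq
      apply hpiv t _ le_rfl
      intro i hi _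
      exact ih (t + i) (by omega) (by omega)
  exact hall n h hj₀ (by omega)

/-- Image stabilisation modulo `p`. -/
lemma im_stab_one (hτ : Good τ) {G : N →ₛₗ[τ] N} [Module.Finite K(p, k) N] {h : ℕ}
    (hh : Module.finrank K(p, k) N ≤ h) {M : Submodule (WittVector p k) N}
    (hGM : latImg G 1 M ≤ M) : latImg G h M ≤ pPow 1 M ⊔ latImg G (h + 1) M := by
  intro y hy
  obtain ⟨x, hx, rfl⟩ := (mem_latImg hτ).mp hy
  obtain ⟨j₀, hj₀, hpiv⟩ := exists_pivot hτ hh hGM hx
  obtain ⟨t, rfl⟩ := Nat.exists_eq_add_of_le' hj₀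
  apply hpiv t _ le_sup_left
  intro i hi hih
  apply Submodule.mem_sup_right
  have : t + i = (t + j₀ + 1) + (i - j₀ - 1) := by omega
  rw [this, iter_add]
  exact iter_mem_latImg (iter_mem_of_latImg_le hτ hGM _ hx)

lemma pPow_nat_le (j : ℕ) (X : Submodule (WittVector p k) N) : pPow (j : ℤ) X ≤ X := by
  have := pPow_anti (show (0 : ℤ) ≤ j by positivity) X
  rwa [pPow_zero] at this

/-- Kernel stabilisation modulo `p^j`. -/
lemma ker_stab (hτ : Good τ) {G : N →ₛₗ[τ] N} [Module.Finite K(p, k) N] {h : ℕ}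
    (hh : Module.finrank K(p, k) N ≤ h) {M : Submodule (WittVector p k) N}
    (hGM : latImg G 1 M ≤ M) (j : ℕ) {x : N} (hx : x ∈ M) {n : ℕ}
    (hn : iter G n x ∈ pPow (j : ℤ) M) : iter G (j * h) x ∈ pPow (j : ℤ) M := by
  induction j generalizing x n with
  | zero =>
    rw [Nat.zero_mul, Nat.cast_zero, pPow_zero]
    exact hx
  | succ j ih =>
    have h1 : iter G n x ∈ pPow 1 M :=
      pPow_anti (by push_cast; omega) M hn
    have h2 := ker_stab_one hτ hh hGM hx h1
    obtain ⟨y, hy, hyx⟩ := mem_pPow.mp h2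
    have h3 : iter G n y ∈ pPow (j : ℤ) M := by
      have h4 : iter G (n + h) x ∈ pPow ((j + 1 : ℕ) : ℤ) M := by
        rw [show n + h = h + n from add_comm _ _, iter_add]
        exact iter_mem_pPow_of_latImg_le hτ hGM h hn
      rw [iter_add, ← hyx, iter_ppow_smul, mem_pPow', smul_smul, ← zpow_add₀ p_ne_zero] at h4
      rw [mem_pPow']
      have : -(((j + 1 : ℕ) : ℤ)) + 1 = -(j : ℤ) := by push_cast; ring
      rwa [this] at h4
    have h5 := ih hy h3
    have h6 : (j + 1) * h = j * h + h := by ring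
    rw [h6, iter_add, ← hyx, iter_ppow_smul]
    obtain ⟨z, hz, hzy⟩ := mem_pPow.mp h5
    rw [mem_pPow]
    refine ⟨z, hz, ?_⟩
    rw [← hzy, smul_smul, ← zpow_add₀ p_ne_zero]
    congr 2
    push_cast
    ring

lemma im_stab_one' (hτ : Good τ) {G : N →ₛₗ[τ] N} [Module.Finite K(p, k) N] {h : ℕ}
    (hh : Module.finrank K(p, k) N ≤ h) {M : Submodule (WittVector p k) N}
    (hGM : latImg G 1 M ≤ M) (m : ℕ) : latImg G h M ≤ pPow 1 M ⊔ latImg G (h + m) M := by
  induction m with
  | zero => exact le_sup_right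
  | succ m ih =>
    refine le_trans ih (sup_le le_sup_left ?_)
    have h1 : latImg G (h + m) M = latImg G m (latImg G h M) := by
      rw [add_comm, latImg_add hτ]
    rw [h1]
    refine le_trans (latImg_mono G m (im_stab_one hτ hh hGM)) ?_
    rw [latImg_sup hτ, latImg_pPow hτ, ← latImg_add hτ]
    refine sup_le (le_trans (pPow_mono ?_) le_sup_left) ?_
    · have := latImg_antitone hτ hGM (Nat.zero_le m)
      rwa [latImg_zero] at this
    · have : m + (h + 1) = h + (m + 1) := by ring
      rw [this]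
      exact le_sup_right

/-- Image stabilisation modulo `p^j`. -/
lemma im_stab (hτ : Good τ) {G : N →ₛₗ[τ] N} [Module.Finite K(p, k) N] {h : ℕ}
    (hh : Module.finrank K(p, k) N ≤ h) {M : Submodule (WittVector p k) N}
    (hGM : latImg G 1 M ≤ M) (j m : ℕ) :
    latImg G (j * h) M ≤ pPow (j : ℤ) M ⊔ latImg G (j * h + m) M := by
  induction j generalizing m with
  | zero =>
    simp only [zero_mul, Nat.cast_zero, pPow_zero, latImg_zero]
    exact le_sup_left
  | succ j ih =>
    have h1 : (j + 1) * h = j * h + h := by ring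
    rw [h1, latImg_add hτ]
    refine le_trans (latImg_mono G (j * h) (im_stab_one' hτ hh hGM m)) ?_
    rw [latImg_sup hτ, latImg_pPow hτ, ← latImg_add hτ]
    refine sup_le ?_ ?_
    · refine le_trans (pPow_mono (ih (h + m))) ?_
      rw [pPow_sup, ← pPow_add]
      refine sup_le ?_ ?_
      · have : (1 : ℤ) + (j : ℤ) = ((j + 1 : ℕ) : ℤ) := by push_cast; ring
        rw [this]
        exact le_sup_left
      · have h2 : j * h + (h + m) = j * h + h + m := by ring
        rw [h2]
        exact le_trans (pPow_nat_le 1 _) le_sup_right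
    · have h2 : j * h + (h + m) = j * h + h + m := by ring
      rw [h2]
      exact le_sup_right

/-- **Fitting decomposition** of an element of an effective lattice: a part lying in all the
images `G^n M` plus a topologically nilpotent part. -/
theorem fitting_lattice (hτ : Good τ) {G : N →ₛₗ[τ] N} (hG : IsIsoc G)
    {M : Submodule (WittVector p k) N} (hM : M.IsLattice K(p, k)) (hGM : latImg G 1 M ≤ M)
    {x : N} (hx : x ∈ M) :
    ∃ b z : N, x = b + z ∧ (∀ n, b ∈ latImg G n M) ∧ z ∈ M ∧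
      ∀ j : ℕ, ∃ n, iter G n z ∈ pPow (j : ℤ) M := by
  have hfin := hG.finite
  set h := Module.finrank K(p, k) N + 1 with hh'
  have hh : Module.finrank K(p, k) N ≤ h := by omega
  have hpos : 1 ≤ h := by omega
  have hstab : ∀ (s : ℕ) {x : N}, x ∈ M → iter G s x ∈ M := fun s x hx =>
    iter_mem_of_latImg_le hτ hGM s hx
  have hLM : ∀ n, latImg G n M ≤ M := fun n => by
    have := latImg_antitone hτ hGM (Nat.zero_le n)
    rwa [latImg_zero] at this
  have hex : ∀ j : ℕ, ∃ b z : N, x = b + z ∧ b ∈ latImg G (j * h) M ∧ z ∈ M ∧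
      iter G (j * h) z ∈ pPow (j : ℤ) M := by
    intro j
    have h1 : iter G (j * h) x ∈ pPow (j : ℤ) M ⊔ latImg G (j * h + j * h) M :=
      im_stab hτ hh hGM j (j * h) (iter_mem_latImg hx)
    obtain ⟨q, hq, u, hu, hqu⟩ := Submodule.mem_sup.mp h1
    obtain ⟨y, hy, rfl⟩ := (mem_latImg hτ).mp hu
    refine ⟨iter G (j * h) y, x - iter G (j * h) y, by abel, iter_mem_latImg hy,
      M.sub_mem hx (hstab _ hy), ?_⟩
    rw [map_sub, ← iter_add, ← hqu, add_sub_cancel_right]
    exact hq
  choose b z hxbz hb hz hzn using hex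
  have hcauchy : ∀ j : ℕ, b (j + 1) - b j ∈ pPow (j : ℤ) M := by
    intro j
    have hw1 : b (j + 1) - b j ∈ latImg G (j * h) M := by
      apply Submodule.sub_mem _ _ (hb j)
      exact latImg_antitone hτ hGM (Nat.mul_le_mul_right h (Nat.le_succ j)) (hb (j + 1))
    obtain ⟨y, hy, hyw⟩ := (mem_latImg hτ).mp hw1
    have hw2 : b (j + 1) - b j = z j - z (j + 1) := by
      have h1 := hxbz j
      have h2 := hxbz (j + 1)
      have : b j + z j = b (j + 1) + z (j + 1) := by rw [← h1, ← h2]
      calc b (j + 1) - b j = (b (j + 1) + z (j + 1)) - z (j + 1) - b j := by abel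
        _ = (b j + z j) - z (j + 1) - b j := by rw [this]
        _ = z j - z (j + 1) := by abel
    have hw3 : iter G (j * h) (b (j + 1) - b j) ∈ pPow (j : ℤ) M := by
      rw [hw2, map_sub]
      apply Submodule.sub_mem _ (hzn j)
      apply ker_stab hτ hh hGM j (hz (j + 1)) (n := (j + 1) * h)
      exact pPow_anti (by push_cast; omega) M (hzn (j + 1))
    rw [← hyw, ← iter_add] at hw3
    have := ker_stab hτ hh hGM j hy hw3
    rwa [hyw] at this
  obtain ⟨b', hb'⟩ := exists_lattice_limit hM b hcauchy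
  have hb'mem : ∀ n, b' ∈ latImg G n M := by
    intro n
    obtain ⟨c, hc⟩ := exists_pPow_le hM (isLattice_latImg hτ hG hM n)
    set J := max c n with hJ
    have h1 : b' = (b' - b J) + b J := by abel
    rw [h1]
    apply Submodule.add_mem
    · apply hc
      exact pPow_anti (by exact_mod_cast le_max_left c n) M (hb' J)
    · refine latImg_antitone hτ hGM ?_ (hb J)
      calc n ≤ J := le_max_right c n
        _ = J * 1 := (Nat.mul_one J).symm
        _ ≤ J * h := Nat.mul_le_mul_left J hpos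
  have hb'M : b' ∈ M := by
    have := hb'mem 0
    rwa [latImg_zero] at this
  refine ⟨b', x - b', by abel, hb'mem, M.sub_mem hx hb'M, fun j => ⟨j * h, ?_⟩⟩
  have h1 : x - b' = z j + (b j - b') := by
    have := hxbz j
    rw [this]; abel
  rw [h1, map_add]
  apply Submodule.add_mem _ (hzn j)
  apply iter_mem_pPow_of_latImg_le hτ hGM
  have := (pPow (j : ℤ) M).neg_mem (hb' j)
  rwa [neg_sub] at this

end Groth.Agent.Lib.Helper8.IsocL
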