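import Mathlib
import Groth.Agent.Lib.Helper8.Isoc8
set_option backward.isDefEq.respectTransparency.types false
set_option autoImplicit false
set_option linter.unusedSectionVars false

open scoped Pointwise Isocrystal

universe u v w

namespace Groth.Agent.Lib.Helper8.IsocL

open Isoc Filter Topology Module

variable {p : ℕ} [Fact p.Prime] {k : Type u} [Field k] [CharP k p] [PerfectRing k p]
variable {N : Type v} [AddCommGroup N] [Module (WittVector p k) N] [Module K(p, k) N]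
  [IsScalarTower (WittVector p k) K(p, k) N]
variable {τ τ' τ'' : K(p, k) →+* K(p, k)}

/-! ### Generalities -/

lemma mem_span_iff_exists_ppow {Y : Submodule (WittVector p k) N} {x : N} :
    x ∈ Submodule.span K(p, k) (Y : Set N) ↔ ∃ e : ℕ, (p : K(p, k)) ^ e • x ∈ Y := by
  constructor
  · intro hx
    induction hx using Submodule.span_induction with
    | mem y hy => exact ⟨0, by simpa using hy⟩
    | zero => exact ⟨0, by simp⟩
    | add x y _ _ hx hy =>
      obtain ⟨e₁, h₁⟩ := hx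
      obtain ⟨e₂, h₂⟩ := hy
      refine ⟨e₁ + e₂, ?_⟩
      rw [smul_add]
      apply Y.add_mem
      · rw [add_comm, pow_add, mul_smul]; exact natCast_smul_mem h₁ e₂
      · rw [pow_add, mul_smul]; exact natCast_smul_mem h₂ e₁
    | smul c x _ hx =>
      obtain ⟨e, he⟩ := hx
      obtain ⟨e', w, hw⟩ := exists_ppow_mul_mem c
      refine ⟨e' + e, ?_⟩
      have : (p : K(p, k)) ^ (e' + e) • c • x
          = algebraMap (WittVector p k) K(p, k) w • ((p : K(p, k)) ^ e • x) := by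
        rw [← hw, smul_smul, smul_smul]
        congr 1
        ring
      rw [this, algebraMap_smul]
      exact Y.smul_mem _ he
  · rintro ⟨e, he⟩
    have h2 : x = ((p : K(p, k)) ^ e)⁻¹ • ((p : K(p, k)) ^ e • x) := by
      rw [smul_smul, inv_mul_cancel₀ (pow_ne_zero _ p_ne_zero), one_smul]
    rw [h2]
    exact Submodule.smul_mem _ _ (Submodule.subset_span he)

lemma smul_mem_pPow_of_mul {M : Submodule (WittVector p k) N} {c : K(p, k)} {e : ℕ}
    {w : WittVector p k} (hc : (p : K(p, k)) ^ e * c = algebraMap (WittVector p k) K(p, k) w)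
    {j : ℤ} {y : N} (hy : y ∈ pPow (j + e) M) : c • y ∈ pPow j M := by
  rw [mem_pPow'] at hy ⊢
  have : (p : K(p, k)) ^ (-j) • c • y
      = algebraMap (WittVector p k) K(p, k) w • ((p : K(p, k)) ^ (-(j + e)) • y) := by
    rw [← hc, smul_smul, smul_smul]
    congr 1
    rw [neg_add, zpow_add₀ p_ne_zero, zpow_neg (p : K(p, k)) (e : ℤ), zpow_natCast]
    field_simp [p_ne_zero (p := p) (k := k)]
  rw [this, algebraMap_smul]
  exact M.smul_mem _ hy

lemma Good.iter_map_of_mul (hτ : Good τ) {c : K(p, k)} {e : ℕ} {w : WittVector p k}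
    (hc : (p : K(p, k)) ^ e * c = algebraMap (WittVector p k) K(p, k) w) (m : ℕ) :
    ∃ w' : WittVector p k,
      (p : K(p, k)) ^ e * (τ ^ m) c = algebraMap (WittVector p k) K(p, k) w' := by
  obtain ⟨w', hw'⟩ := (hτ.pow m).map_W w
  refine ⟨w', ?_⟩
  rw [← hw', ← hc, map_mul, map_pow, map_natCast]

lemma iter_comm {G : N →ₛₗ[τ] N} {F : N →ₛₗ[τ'] N} (hFG : ∀ x, F (G x) = G (F x)) (m : ℕ)
    (x : N) : iter G m (F x) = F (iter G m x) := by
  induction m with
  | zero => rfl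
  | succ m ih => rw [iter_succ_apply, iter_succ_apply, ih, hFG]

lemma map_mem_pPow {F : N →ₛₗ[τ'] N} {M : Submodule (WittVector p k) N} {c : ℤ}
    (hFM : latImg F 1 M ≤ pPow c M) {r : ℤ} {y : N} (hy : y ∈ pPow r M) :
    F y ∈ pPow (r + c) M := by
  obtain ⟨m, hm, rfl⟩ := mem_pPow.mp hy
  have h1 : F m ∈ pPow c M := hFM (iter_mem_latImg (F := F) (s := 1) hm)
  have h2 : F ((p : K(p, k)) ^ r • m) = (p : K(p, k)) ^ r • F m := by
    rw [map_smulₛₗ, map_ppow]
  rw [h2, pPow_add]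
  exact smul_mem_pPow h1

/-! ### The topologically nilpotent part -/

/-- The subspace of vectors on which the iterates of `G` tend to zero (relative to `M`). -/
def Nnil (hτ : Good τ) (G : N →ₛₗ[τ] N) (M : Submodule (WittVector p k) N) :
    Submodule K(p, k) N where
  carrier := {x | ∀ j : ℕ, ∃ n, ∀ m, n ≤ m → iter G m x ∈ pPow (j : ℤ) M}
  add_mem' := by
    intro x y hx hy j
    obtain ⟨n₁, h₁⟩ := hx j
    obtain ⟨n₂, h₂⟩ := hy j
    refine ⟨max n₁ n₂, fun m hm => ?_⟩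
    rw [map_add]
    exact Submodule.add_mem _ (h₁ m (le_trans (le_max_left _ _) hm))
      (h₂ m (le_trans (le_max_right _ _) hm))
  zero_mem' := fun j => ⟨0, fun m _ => by rw [map_zero]; exact Submodule.zero_mem _⟩
  smul_mem' := by
    intro c x hx j
    obtain ⟨e, w, hw⟩ := exists_ppow_mul_mem c
    obtain ⟨n, hn⟩ := hx (j + e)
    refine ⟨n, fun m hm => ?_⟩
    rw [map_smulₛₗ]
    obtain ⟨w', hw'⟩ := hτ.iter_map_of_mul hw m
    refine smul_mem_pPow_of_mul hw' ?_
    have := hn m hm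
    push_cast at this
    exact this

lemma mem_Nnil (hτ : Good τ) {G : N →ₛₗ[τ] N} {M : Submodule (WittVector p k) N} {x : N} :
    x ∈ Nnil hτ G M ↔ ∀ j : ℕ, ∃ n, ∀ m, n ≤ m → iter G m x ∈ pPow (j : ℤ) M := Iff.rfl

lemma mem_Nnil_of (hτ : Good τ) {G : N →ₛₗ[τ] N} {M : Submodule (WittVector p k) N}
    (hGM : latImg G 1 M ≤ M) {x : N} (hx : ∀ j : ℕ, ∃ n, iter G n x ∈ pPow (j : ℤ) M) :
    x ∈ Nnil hτ G M := by
  intro j
  obtain ⟨n, hn⟩ := hx j
  refine ⟨n, fun m hm => ?_⟩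
  obtain ⟨t, rfl⟩ := Nat.exists_eq_add_of_le' hm
  rw [iter_add]
  exact iter_mem_pPow_of_latImg_le hτ hGM t hn

/-- `Nnil` is stable under every semilinear map commuting with `G` and bounded on `M`. -/
lemma Nnil_stable (hτ : Good τ) {G : N →ₛₗ[τ] N} {M : Submodule (WittVector p k) N}
    {F : N →ₛₗ[τ'] N} (hFG : ∀ x, F (G x) = G (F x)) {c : ℕ}
    (hFM : latImg F 1 M ≤ pPow (-(c : ℤ)) M) {x : N} (hx : x ∈ Nnil hτ G M) :
    F x ∈ Nnil hτ G M := by
  intro j
  obtain ⟨n, hn⟩ := hx (j + c)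
  refine ⟨n, fun m hm => ?_⟩
  rw [iter_comm hFG]
  have := map_mem_pPow hFM (hn m hm)
  have h2 : ((j + c : ℕ) : ℤ) + -(c : ℤ) = j := by push_cast; ring
  rwa [h2] at this

/-- Uniform convergence on finitely generated submodules of `Nnil`. -/
lemma Nnil_uniform (hτ : Good τ) {G : N →ₛₗ[τ] N} {M Y : Submodule (WittVector p k) N}
    (hY : Y.FG) (hYn : ∀ y ∈ Y, y ∈ Nnil hτ G M) (j : ℕ) :
    ∃ n, ∀ m, n ≤ m → latImg G m Y ≤ pPow (j : ℤ) M := by
  classical
  obtain ⟨S, hS⟩ := hY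
  have hSY : ∀ x ∈ S, x ∈ Y := fun x hx => hS ▸ Submodule.subset_span hx
  choose! n hn using fun x (hx : x ∈ S) => hYn x (hSY x hx) j
  refine ⟨S.sup n, fun m hm => ?_⟩
  intro y hy
  obtain ⟨x, hx, rfl⟩ := (mem_latImg hτ).mp hy
  clear hy
  rw [← hS] at hx
  induction hx using Submodule.span_induction with
  | mem x hx => exact hn x hx m (le_trans (Finset.le_sup hx) hm)
  | zero => rw [map_zero]; exact Submodule.zero_mem _
  | add x y _ _ hx hy => rw [map_add]; exact Submodule.add_mem _ hx hy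
  | smul w x _ hx =>
    obtain ⟨w', hw'⟩ := (hτ.pow m).map_W w
    rw [← algebraMap_smul K(p, k) w x, map_smulₛₗ, hw', algebraMap_smul]
    exact Submodule.smul_mem _ _ hx

/-- `Nnil` contains no non-zero finitely generated submodule fixed by a power of `G`. -/
lemma eq_bot_of_le_Nnil (hτ : Good τ) {G : N →ₛₗ[τ] N} {M Y : Submodule (WittVector p k) N}
    (hM : M.FG) (hY : Y.FG) (hYn : ∀ y ∈ Y, y ∈ Nnil hτ G M) {t : ℕ} (ht : 0 < t)
    (hfix : latImg G t Y = Y) : Y = ⊥ := by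
  apply eq_bot_of_forall_le_pPow hM
  intro j
  obtain ⟨n, hn⟩ := Nnil_uniform hτ hY hYn j
  have h0 : latImg G t Y = pPow 0 Y := by rw [pPow_zero]; exact hfix
  have h1 : latImg G (t * n) Y = Y := by
    have := latImg_mul_eq hτ h0 n
    rwa [zero_mul, pPow_zero] at this
  rw [← h1]
  exact hn (t * n) (Nat.le_mul_of_pos_left n ht)

/-! ### The bijective part -/

/-- The intersection of all images `G^n M`. -/
noncomputable def Minf (G : N →ₛₗ[τ] N) (M : Submodule (WittVector p k) N) : Submodule (WittVector p k) N :=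
  ⨅ n : ℕ, latImg G n M

lemma mem_Minf {G : N →ₛₗ[τ] N} {M : Submodule (WittVector p k) N} {x : N} :
    x ∈ Minf G M ↔ ∀ n, x ∈ latImg G n M := Submodule.mem_iInf _

lemma Minf_le (G : N →ₛₗ[τ] N) (M : Submodule (WittVector p k) N) : Minf G M ≤ M := by
  intro x hx
  have := mem_Minf.mp hx 0
  rwa [latImg_zero] at this

lemma latImg_one_Minf (hτ : Good τ) {G : N →ₛₗ[τ] N} (hinj : Function.Injective G)
    {M : Submodule (WittVector p k) N} (hGM : latImg G 1 M ≤ M) :
    latImg G 1 (Minf G M) = Minf G M := by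
  apply le_antisymm
  · intro y hy
    obtain ⟨x, hx, rfl⟩ := (mem_latImg hτ).mp hy
    rw [mem_Minf] at hx ⊢
    intro n
    refine latImg_antitone hτ hGM (by omega : n ≤ 1 + n) ?_
    rw [latImg_add hτ]
    exact iter_mem_latImg (hx n)
  · intro y hy
    rw [mem_Minf] at hy
    obtain ⟨x, hx, rfl⟩ := (mem_latImg hτ).mp (hy 1)
    refine iter_mem_latImg (mem_Minf.mpr fun n => ?_)
    have h1 := hy (1 + n)
    rw [latImg_add hτ] at h1
    obtain ⟨x', hx', hxx'⟩ := (mem_latImg hτ).mp h1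
    have : x' = x := by
      apply hinj
      simpa [iter_apply] using hxx'
    rwa [this] at hx'

/-- The span of `Minf`. -/
noncomputable def Nbij (G : N →ₛₗ[τ] N) (M : Submodule (WittVector p k) N) : Submodule K(p, k) N :=
  Submodule.span K(p, k) (Minf G M : Set N)

lemma Nbij_stable (hτ : Good τ) {G : N →ₛₗ[τ] N} {M : Submodule (WittVector p k) N}
    {F : N →ₛₗ[τ'] N} (hFG : ∀ x, F (G x) = G (F x)) {c : ℕ}
    (hFM : latImg F 1 M ≤ pPow (-(c : ℤ)) M) {x : N} (hx : x ∈ Nbij G M) :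
    F x ∈ Nbij G M := by
  obtain ⟨e, he⟩ := mem_span_iff_exists_ppow.mp hx
  apply mem_span_iff_exists_ppow.mpr
  refine ⟨c + e, mem_Minf.mpr fun n => ?_⟩
  obtain ⟨y', hy', hy'e⟩ := (mem_latImg hτ).mp (mem_Minf.mp he n)
  have h1 : F y' ∈ pPow (-(c : ℤ)) M := hFM (iter_mem_latImg (F := F) (s := 1) hy')
  rw [mem_pPow', neg_neg, zpow_natCast] at h1
  have h2 : (p : K(p, k)) ^ (c + e) • F x = iter G n ((p : K(p, k)) ^ c • F y') := by
    have h3 : iter G n ((p : K(p, k)) ^ c • F y') = (p : K(p, k)) ^ c • iter G n (F y') := by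
      have := iter_ppow_smul G n (c : ℤ) (F y')
      rwa [zpow_natCast] at this
    rw [h3, iter_comm hFG, hy'e, pow_add, mul_smul]
    congr 1
    have : F ((p : K(p, k)) ^ e • x) = (p : K(p, k)) ^ e • F x := by
      rw [map_smulₛₗ, map_pow, map_natCast]
    rw [this]
  rw [h2]
  exact iter_mem_latImg h1

/-! ### The decomposition -/

lemma Nbij_inf_Nnil (hτ : Good τ) {G : N →ₛₗ[τ] N} (hinj : Function.Injective G)
    {M : Submodule (WittVector p k) N} (hM : M.FG) (hGM : latImg G 1 M ≤ M) :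
    Nbij G M ⊓ Nnil hτ G M = ⊥ := by
  set Y : Submodule (WittVector p k) N :=
    Minf G M ⊓ (Nnil hτ G M).restrictScalars (WittVector p k) with hY
  have hmemY : ∀ x, x ∈ Y ↔ x ∈ Minf G M ∧ x ∈ Nnil hτ G M := fun x => by
    rw [hY, Submodule.mem_inf, Submodule.restrictScalars_mem]
  have hYfg : Y.FG := by
    have hnoeth : IsNoetherian (WittVector p k) M := isNoetherian_of_fg_of_noetherian M hM
    exact isNoetherian_submodule.mp hnoeth Y (le_trans inf_le_left (Minf_le G M))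
  have hGM0 : latImg G 1 M ≤ pPow (-((0 : ℕ) : ℤ)) M := by
    simpa using hGM
  have hfix : latImg G 1 Y = Y := by
    apply le_antisymm
    · intro y hy
      obtain ⟨x, hx, rfl⟩ := (mem_latImg hτ).mp hy
      obtain ⟨hx1, hx2⟩ := (hmemY x).mp hx
      rw [hmemY]
      constructor
      · rw [← latImg_one_Minf hτ hinj hGM]
        exact iter_mem_latImg hx1
      · have := Nnil_stable hτ (F := G) (fun x => rfl) hGM0 hx2
        simpa [iter_apply] using this
    · intro y hy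
      obtain ⟨hy1, hy2⟩ := (hmemY y).mp hy
      rw [← latImg_one_Minf hτ hinj hGM] at hy1
      obtain ⟨x, hx, rfl⟩ := (mem_latImg hτ).mp hy1
      refine iter_mem_latImg ((hmemY x).mpr ⟨hx, fun j => ?_⟩)
      obtain ⟨n, hn⟩ := hy2 j
      refine ⟨n + 1, fun m hm => ?_⟩
      obtain ⟨t, rfl⟩ := Nat.exists_eq_add_of_le hm
      have h1 : n + 1 + t = (n + t) + 1 := by ring
      rw [h1, iter_add]
      exact hn (n + t) (by omega)
  have hYbot : Y = ⊥ :=
    eq_bot_of_le_Nnil hτ hM hYfg (fun y hy => ((hmemY y).mp hy).2) Nat.one_pos hfix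
  rw [eq_bot_iff]
  intro x hx
  obtain ⟨hx1, hx2⟩ := Submodule.mem_inf.mp hx
  obtain ⟨e, he⟩ := mem_span_iff_exists_ppow.mp hx1
  have h1 : (p : K(p, k)) ^ e • x ∈ Y :=
    (hmemY _).mpr ⟨he, (Nnil hτ G M).smul_mem _ hx2⟩
  rw [hYbot, Submodule.mem_bot] at h1
  rw [Submodule.mem_bot]
  exact (smul_eq_zero.mp h1).resolve_left (pow_ne_zero _ p_ne_zero)

lemma Nbij_sup_Nnil (hτ : Good τ) {G : N →ₛₗ[τ] N} (hG : IsIsoc G)
    {M : Submodule (WittVector p k) N} (hM : M.IsLattice K(p, k)) (hGM : latImg G 1 M ≤ M) :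
    Nbij G M ⊔ Nnil hτ G M = ⊤ := by
  rw [eq_top_iff]
  intro x _
  obtain ⟨e, he⟩ := exists_ppow_smul_mem hM x
  obtain ⟨b, z, hbz, hb, hz, hzn⟩ := fitting_lattice hτ hG hM hGM he
  have h2 : x = ((p : K(p, k)) ^ e)⁻¹ • ((p : K(p, k)) ^ e • x) := by
    rw [smul_smul, inv_mul_cancel₀ (pow_ne_zero _ p_ne_zero), one_smul]
  rw [h2, hbz]
  apply Submodule.smul_mem
  apply Submodule.add_mem_sup
  · exact Submodule.subset_span (mem_Minf.mpr hb)
  · exact mem_Nnil_of hτ hGM hzn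

lemma isCompl_Nbij_Nnil (hτ : Good τ) {G : N →ₛₗ[τ] N} (hG : IsIsoc G)
    {M : Submodule (WittVector p k) N} (hM : M.IsLattice K(p, k)) (hGM : latImg G 1 M ≤ M) :
    IsCompl (Nbij G M) (Nnil hτ G M) :=
  ⟨disjoint_iff.mpr (Nbij_inf_Nnil hτ hG.bijective.injective hM.fg hGM),
    codisjoint_iff.mpr (Nbij_sup_Nnil hτ hG hM hGM)⟩

lemma Nbij_ne_bot (hτ : Good τ) {G : N →ₛₗ[τ] N} (hG : IsIsoc G)
    {M : Submodule (WittVector p k) N} (hM : M.IsLattice K(p, k)) (hGM : latImg G 1 M ≤ M)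
    (hnn : ∀ n, ¬ latImg G n M ≤ pPow 1 M) : Nbij G M ≠ ⊥ := by
  intro hbot
  have htop := Nbij_sup_Nnil hτ hG hM hGM
  rw [hbot, bot_sup_eq] at htop
  obtain ⟨n, hn⟩ := Nnil_uniform hτ (Y := M) hM.fg (fun y _ => htop ▸ Submodule.mem_top) 1
  exact hnn n (by simpa using hn n le_rfl)

end Groth.Agent.Lib.Helper8.IsocL
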