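import Mathlib
import Groth.Agent.Lib.Helper8.Isoc9
set_option backward.isDefEq.respectTransparency.types false
set_option autoImplicit false
set_option linter.unusedSectionVars false

open scoped Pointwise Isocrystal

universe u v w

namespace Groth.Agent.Lib.Helper8.IsocL

open Isoc Filter Topology Module

variable {p : ℕ} [Fact p.Prime] {k : Type u} [Field k] [CharP k p] [PerfectRing k p]
variable {N : Type v} [AddCommGroup N] [Module (WittVector p k) N] [Module K(p, k) N]
  [IsScalarTower (WittVector p k) K(p, k) N]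
variable {N' : Type w} [AddCommGroup N'] [Module (WittVector p k) N'] [Module K(p, k) N']
  [IsScalarTower (WittVector p k) K(p, k) N']
variable {τ τ' τ'' : K(p, k) →+* K(p, k)}

lemma exists_lattice [Module.Finite K(p, k) N] :
    ∃ M : Submodule (WittVector p k) N, M.IsLattice K(p, k) := by
  let b := Module.finBasis K(p, k) N
  refine ⟨Submodule.span (WittVector p k) (Set.range b),
    ⟨Submodule.fg_span (Set.finite_range b), ?_⟩⟩
  rw [eq_top_iff, ← b.span_eq]
  exact Submodule.span_mono Submodule.subset_span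

lemma exists_isFirstSlope [Nontrivial N] (hτ : Good τ) {F : N →ₛₗ[τ] N} (hF : IsIsoc F) :
    ∃ lam : ℝ, IsFirstSlope F lam := by
  have := hF.finite
  obtain ⟨M, hM⟩ := exists_lattice (p := p) (k := k) (N := N)
  obtain ⟨o, ho, lam, hlim⟩ := exists_ord_tendsto hτ hF hM
  exact ⟨lam, M, hM, o, fun n _ => ho n, hlim⟩

/-- Core of the rationality proof: a twist `p^{-r} F^s` of a non-zero isocrystal is effective on
some lattice and not nilpotent modulo `p`. -/
theorem exists_twist_effective [Nontrivial N] (hτ : Good τ) {F : N →ₛₗ[τ] N} (hF : IsIsoc F) :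
    ∃ (r : ℤ) (s : ℕ) (M : Submodule (WittVector p k) N), 0 < s ∧ M.IsLattice K(p, k) ∧
      latImg ((p : K(p, k)) ^ (-r) • iter F s) 1 M ≤ M ∧
      ∀ n, ¬ latImg ((p : K(p, k)) ^ (-r) • iter F s) n M ≤ pPow 1 M := by
  have hfin := hF.finite
  obtain ⟨lam, hlam⟩ := exists_isFirstSlope hτ hF
  set h := Module.finrank K(p, k) N with hh'
  have hh : Module.finrank K(p, k) N = h := rfl
  have hpos : 0 < h := Module.finrank_pos
  obtain ⟨s, hs0, hsh, habs⟩ := Real.exists_nat_abs_mul_sub_round_le lam hpos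
  set r : ℤ := round ((s : ℝ) * lam) with hr
  set F' := (p : K(p, k)) ^ (-r) • iter F s with hF'def
  have hτ' := hτ.pow s
  have hF' : IsIsoc F' := isIsoc_twist hF (-r) s
  have hslope : IsFirstSlope F' ((s : ℝ) * lam + ((-r : ℤ) : ℝ)) :=
    isFirstSlope_twist hτ hlam (-r) s
  set lam' := (s : ℝ) * lam + ((-r : ℤ) : ℝ) with hlam'
  have habs' : |lam'| ≤ 1 / ((h : ℝ) + 1) := by
    rw [hlam']; push_cast; rw [← sub_eq_add_neg]; exact habs
  have hle1 : (((-1 : ℤ)) : ℝ) / ((h + 1 : ℕ) : ℝ) ≤ lam' := by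
    have := neg_abs_le lam'
    push_cast
    have h2 : (-1 : ℝ) / ((h : ℝ) + 1) = -(1 / ((h : ℝ) + 1)) := by ring
    rw [h2]; linarith
  obtain ⟨M₁, hM₁, hM₁le⟩ :=
    exists_lattice_of_le_slope hτ' hF' hslope (-1) (h + 1) (by omega) hle1
  obtain ⟨M, hM, hMle⟩ := isEffective_of_latImg_succ_le hτ' hF' hh hM₁ hM₁le
  obtain ⟨o, ho, lam'', hlim⟩ := exists_ord_tendsto hτ' hF' hM
  have hlameq : lam'' = lam' := by
    obtain ⟨M₂, hM₂, o₂, ho₂, hlim₂⟩ := hslope
    exact lim_ord_eq hτ' hM hM₂ o o₂ (fun n _ => ho n) ho₂ lam'' lam' hlim hlim₂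
  have hh'' : (0 : ℝ) < h := by exact_mod_cast hpos
  refine ⟨r, s, M, hs0, hM, hMle, ?_⟩
  intro n h1
  have h2 := nilpotent_bound hτ' hh hMle h1
  have h3 : ∀ m : ℕ, (m : ℤ) ≤ o (h * m) := by
    intro m
    apply IsOrd.le_of_le (ho (h * m))
    have := latImg_mul_le hτ' h2 m
    rwa [one_mul] at this
  have h4 : (1 : ℝ) / h ≤ lam'' := by
    have hsub : Tendsto (fun m : ℕ => h * m) atTop atTop :=
      tendsto_atTop_mono (fun m => Nat.le_mul_of_pos_left m hpos) tendsto_id
    have h5 := hlim.comp hsub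
    apply ge_of_tendsto h5
    filter_upwards [eventually_ge_atTop 1] with m hm
    simp only [Function.comp_apply]
    have hm' : (0 : ℝ) < m := by exact_mod_cast hm
    have h7 : ((m : ℤ) : ℝ) ≤ (o (h * m) : ℝ) := by exact_mod_cast h3 m
    rw [div_le_div_iff₀ hh'' (by push_cast; positivity)]
    push_cast at h7 ⊢
    nlinarith
  have h6 : lam'' ≤ 1 / ((h : ℝ) + 1) := hlameq ▸ (le_abs_self lam').trans habs'
  have : (1 : ℝ) / ((h : ℝ) + 1) < 1 / h := by
    apply one_div_lt_one_div_of_lt hh''; linarith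
  linarith

/-! ### Transport of `IsoIn` -/

lemma le_slopePart {F : N →ₛₗ[τ] N} {P : Submodule K(p, k) N} (hP : ∀ x ∈ P, F x ∈ P) {μ : ℚ}
    (h : IsoIn F P μ) : P ≤ slopePart F μ :=
  le_sSup ⟨hP, (isIsoclinic_restrict_iff F P hP μ).mpr h⟩

lemma IsoIn.map {F : N →ₛₗ[τ] N} {F' : N' →ₛₗ[τ] N'} (f : N →ₗ[K(p, k)] N')
    (hf : ∀ x, f (F x) = F' (f x)) {P : Submodule K(p, k) N} {μ : ℚ} (h : IsoIn F P μ) :
    IsoIn F' (P.map f) μ := by
  obtain ⟨M, hfg, hspan, r, s, hs, hrs, h⟩ := h
  refine ⟨M.map (f.restrictScalars (WittVector p k)), hfg.map _, ?_, r, s, hs, hrs, ?_⟩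
  · rw [Submodule.map_coe, LinearMap.coe_restrictScalars, ← Submodule.map_span, hspan]
  · rw [← map_latImg f hf, h, map_pPow]

lemma IsoIn.comap {F : N →ₛₗ[τ] N} {F' : N' →ₛₗ[τ] N'} (f : N →ₗ[K(p, k)] N')
    (hinj : Function.Injective f)
    (hf : ∀ x, f (F x) = F' (f x)) {Q : Submodule K(p, k) N'} (hQ : Q ≤ LinearMap.range f)
    {μ : ℚ} (h : IsoIn F' Q μ) : IsoIn F (Q.comap f) μ := by
  obtain ⟨M', hfg, hspan, r, s, hs, hrs, h⟩ := h
  have hinj' : Function.Injective (f.restrictScalars (WittVector p k)) := hinj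
  have hM'Q : ∀ x ∈ M', x ∈ Q := fun x hx => by
    rw [← hspan]; exact Submodule.subset_span hx
  set M := M'.comap (f.restrictScalars (WittVector p k)) with hMdef
  have hmap : M.map (f.restrictScalars (WittVector p k)) = M' := by
    rw [hMdef, Submodule.map_comap_eq, inf_eq_right]
    intro x hx
    obtain ⟨y, rfl⟩ := hQ (hM'Q x hx)
    exact ⟨y, rfl⟩
  refine ⟨M, ?_, ?_, r, s, hs, hrs, ?_⟩
  · apply Submodule.fg_of_fg_map_injective _ hinj'
    rw [hmap]; exact hfg
  · apply Submodule.map_injective_of_injective (f := f) hinj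
    rw [Submodule.map_span, Submodule.map_comap_eq, inf_eq_right.mpr hQ]
    have hcoe : (f '' (M : Set N)) = (M' : Set N') := by
      rw [← hmap]; rfl
    rw [hcoe, hspan]
  · apply Submodule.map_injective_of_injective hinj'
    rw [map_latImg f hf, map_pPow, hmap, h]

lemma isIsoc_restrict (hτ : Good τ) {F : N →ₛₗ[τ] N} (hF : IsIsoc F)
    (P : Submodule K(p, k) N) (hP : ∀ x ∈ P, F x ∈ P) : IsIsoc (F.restrict hP) := by
  have := hF.finite
  refine ⟨inferInstance, ?_, ?_⟩
  · intro x y hxy
    apply Subtype.ext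
    apply hF.bijective.injective
    exact congrArg Subtype.val hxy
  · intro y
    obtain ⟨x, hx, hxy⟩ := restrict_surjective hτ hF P hP y y.2
    exact ⟨⟨x, hx⟩, Subtype.ext hxy⟩

lemma projection_comm {B P : Submodule K(p, k) N} (hc : IsCompl B P) {F : N →ₛₗ[τ] N}
    (hB : ∀ x ∈ B, F x ∈ B) (hP : ∀ x ∈ P, F x ∈ P) (x : N) :
    B.projection P hc (F x) = F (B.projection P hc x) := by
  have hx := Submodule.projection_add_projection_eq_self hc x
  conv_lhs => rw [← hx]
  rw [map_add, map_add,
    Submodule.projection_apply_of_mem_left hc (hB _ (Submodule.projection_apply_mem hc x)),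
    Submodule.projection_apply_of_mem_right hc (hP _ (Submodule.projection_apply_mem hc.symm x)),
    add_zero]

lemma comm_twist (F : N →ₛₗ[τ] N) (r : ℤ) (s : ℕ) (x : N) :
    F (((p : K(p, k)) ^ r • iter F s) x) = ((p : K(p, k)) ^ r • iter F s) (F x) := by
  rw [LinearMap.smul_apply, LinearMap.smul_apply, map_smulₛₗ, map_ppow]
  congr 1
  rw [← iter_succ_apply]
  have : iter F s (F x) = iter F s (iter F 1 x) := rfl
  rw [this, ← iter_add]

/-- The one-step splitting: a non-zero isocrystal is the direct sum of a non-zero isoclinic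
`F`-stable subspace `B` of some slope `λ` and an `F`-stable complement `P` having no non-zero
isoclinic subspace of slope `λ`. -/
theorem exists_splitting [Nontrivial N] (hτ : Good τ) {F : N →ₛₗ[τ] N} (hF : IsIsoc F) :
    ∃ (B P : Submodule K(p, k) N) (lam : ℚ), IsCompl B P ∧ B ≠ ⊥ ∧
      (∀ x ∈ B, F x ∈ B) ∧ (∀ x ∈ P, F x ∈ P) ∧ IsoIn F B lam ∧
      ∀ P' : Submodule K(p, k) N, P' ≤ P → IsoIn F P' lam → P' = ⊥ := by
  obtain ⟨r, s, M, hs, hM, hGM, hnn⟩ := exists_twist_effective hτ hF
  set G := (p : K(p, k)) ^ (-r) • iter F s with hGdef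
  have hτG := hτ.pow s
  have hG : IsIsoc G := isIsoc_twist hF (-r) s
  have hFG : ∀ x, F (G x) = G (F x) := comm_twist F (-r) s
  obtain ⟨c, hc⟩ := exists_pPow_le (isLattice_latImg hτ hF hM 1) hM
  have hFM : latImg F 1 M ≤ pPow (-(c : ℤ)) M := pPow_le_iff.mp hc
  refine ⟨Nbij G M, Nnil hτG G M, (r : ℚ) / s, isCompl_Nbij_Nnil hτG hG hM hGM,
    Nbij_ne_bot hτG hG hM hGM hnn, fun x hx => Nbij_stable hτG hFG hFM hx,
    fun x hx => Nnil_stable hτG hFG hFM hx, ?_, ?_⟩
  · have hfg : (Minf G M).FG := by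
      have hnoeth : IsNoetherian (WittVector p k) M := isNoetherian_of_fg_of_noetherian M hM.fg
      exact isNoetherian_submodule.mp hnoeth _ (Minf_le G M)
    refine ⟨Minf G M, hfg, rfl, r, s, hs, rfl, ?_⟩
    have h1 := latImg_one_Minf hτG hG.bijective.injective hGM
    rw [hGdef, latImg_twist hτ] at h1
    simp only [mul_one, Nat.cast_one] at h1
    calc latImg F s (Minf G M) = pPow (r + -r) (latImg F s (Minf G M)) := by simp
      _ = pPow r (Minf G M) := by rw [pPow_add, h1]
  · rintro P' hP'P ⟨M', hfg', hspan', r', s', hs', hrs', h'⟩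
    have hrr : r' * s = r * s' := by
      rw [div_eq_div_iff (by exact_mod_cast hs'.ne') (by exact_mod_cast hs.ne')] at hrs'
      exact_mod_cast hrs'
    have hM'P : ∀ y ∈ M', y ∈ Nnil hτG G M := fun y hy => hP'P (by
      rw [← hspan']; exact Submodule.subset_span hy)
    have hfix : latImg G s' M' = M' := by
      rw [hGdef, latImg_twist hτ]
      have h2 := latImg_mul_eq hτ h' s
      rw [mul_comm s' s] at h2
      rw [h2, ← pPow_add]
      have : -r * (s' : ℤ) + r' * s = 0 := by rw [hrr]; ring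
      rw [this, pPow_zero]
    have hbot := eq_bot_of_le_Nnil hτG hM.fg hfg' hM'P hs' hfix
    rw [← hspan', hbot]
    simp

/-- Structure of the slope parts relative to a splitting. -/
theorem slopePart_of_splitting (hτ : Good τ) {F : N →ₛₗ[τ] N} (hF : IsIsoc F)
    {B P : Submodule K(p, k) N} {lam : ℚ} (hc : IsCompl B P)
    (hBst : ∀ x ∈ B, F x ∈ B) (hPst : ∀ x ∈ P, F x ∈ P) (hBiso : IsoIn F B lam)
    (hPno : ∀ P' : Submodule K(p, k) N, P' ≤ P → IsoIn F P' lam → P' = ⊥) :
    slopePart F lam = B ∧ slopePart (F.restrict hPst) lam = ⊥ ∧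
      ∀ μ, μ ≠ lam → slopePart F μ = (slopePart (F.restrict hPst) μ).map P.subtype := by
  have hfin := hF.finite
  have hSiso : ∀ μ, ∃ hst : ∀ x ∈ slopePart F μ, F x ∈ slopePart F μ,
      IsoIn F (slopePart F μ) μ := fun μ => by
    obtain ⟨hst, h⟩ := slopePart_isIsoclinic hτ hF μ
    exact ⟨hst, (isIsoclinic_restrict_iff F _ hst μ).mp h⟩
  set FP := F.restrict hPst with hFPdef
  have hFP : IsIsoc FP := isIsoc_restrict hτ hF P hPst
  have hFB : IsIsoc (F.restrict hBst) := isIsoc_restrict hτ hF B hBst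
  -- Claim 1
  have claim1 : ∀ μ, μ ≠ lam → slopePart F μ ≤ P := by
    intro μ hμ
    obtain ⟨hst, hiso⟩ := hSiso μ
    set f : slopePart F μ →ₗ[K(p, k)] B := (B.projectionOnto P hc) ∘ₗ (slopePart F μ).subtype
      with hf
    have hint : ∀ x : slopePart F μ, f ((F.restrict hst) x) = (F.restrict hBst) (f x) := by
      intro x
      apply Subtype.ext
      exact projection_comm hc hBst hPst (x : N)
    have hzero := hom_eq_zero_of_slope_ne hτ hFB
      ((isIsoclinic_restrict_iff F _ hst μ).mpr hiso)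
      ((isIsoclinic_restrict_iff F _ hBst lam).mpr hBiso) hμ f hint
    intro x hx
    have h1 : f ⟨x, hx⟩ = 0 := by rw [hzero]; rfl
    have h2 : B.projectionOnto P hc x = 0 := h1
    exact (Submodule.projectionOnto_apply_eq_zero_iff hc).mp h2
  -- Claim 2
  have claim2 : slopePart F lam ≤ B := by
    obtain ⟨hst, hiso⟩ := hSiso lam
    have h1 := hiso.map (P.projection B hc.symm)
      (fun x => projection_comm hc.symm hPst hBst x)
    have h2 : (slopePart F lam).map (P.projection B hc.symm) ≤ P := by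
      rintro _ ⟨x, -, rfl⟩
      exact Submodule.projection_apply_mem hc.symm x
    have h3 := hPno _ h2 h1
    intro x hx
    have h4 : P.projection B hc.symm x ∈ (slopePart F lam).map (P.projection B hc.symm) :=
      ⟨x, hx, rfl⟩
    rw [h3, Submodule.mem_bot] at h4
    exact (Submodule.projection_apply_eq_zero_iff hc.symm).mp h4
  have claim3 : slopePart F lam = B := le_antisymm claim2 (le_slopePart hBst hBiso)
  -- Claim 4
  have claim4 : ∀ μ, (slopePart FP μ).map P.subtype ≤ slopePart F μ := by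
    intro μ
    obtain ⟨hst, h⟩ := slopePart_isIsoclinic hτ hFP μ
    have hiso := (isIsoclinic_restrict_iff FP _ hst μ).mp h
    have h1 := hiso.map P.subtype (F' := F) (fun x => rfl)
    refine le_slopePart ?_ h1
    rintro _ ⟨x, hx, rfl⟩
    exact ⟨FP x, hst x hx, rfl⟩
  refine ⟨claim3, ?_, ?_⟩
  · rw [eq_bot_iff]
    intro x hx
    have h1 : (x : N) ∈ B := by
      rw [← claim3]
      exact claim4 lam ⟨x, hx, rfl⟩
    have h2 : (x : N) ∈ B ⊓ P := ⟨h1, x.2⟩
    rw [hc.inf_eq_bot, Submodule.mem_bot] at h2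
    rw [Submodule.mem_bot]
    exact Subtype.ext h2
  · intro μ hμ
    apply le_antisymm _ (claim4 μ)
    obtain ⟨hst, hiso⟩ := hSiso μ
    have hle := claim1 μ hμ
    have h1 : IsoIn FP ((slopePart F μ).comap P.subtype) μ :=
      hiso.comap P.subtype Subtype.val_injective (fun x => rfl)
        (by rw [Submodule.range_subtype]; exact hle)
    have h2 : (slopePart F μ).comap P.subtype ≤ slopePart FP μ := by
      refine le_slopePart ?_ h1
      intro x hx
      exact hst _ hx
    intro x hx
    exact ⟨⟨x, hle hx⟩, h2 hx, rfl⟩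

/-- **Slope decomposition** (S17152 for a general good twist). -/
theorem slope_decomposition_aux (hτ : Good τ) : ∀ (n : ℕ) (N : Type v) [AddCommGroup N]
    [Module (WittVector p k) N] [Module K(p, k) N] [IsScalarTower (WittVector p k) K(p, k) N]
    (F : N →ₛₗ[τ] N), IsIsoc F → Module.finrank K(p, k) N = n →
    iSupIndep (fun μ : ℚ => slopePart F μ) ∧ ⨆ μ : ℚ, slopePart F μ = ⊤ := by
  intro n
  induction n using Nat.strong_induction_on with
  | _ n ih =>
    intro N _ _ _ _ F hF hn
    have hfin := hF.finite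
    rcases subsingleton_or_nontrivial N with hsub | hnt
    · have hss : Subsingleton (Submodule K(p, k) N) := Submodule.subsingleton_iff _ |>.mpr hsub
      refine ⟨?_, Subsingleton.elim _ _⟩
      intro μ
      beta_reduce
      rw [Subsingleton.elim (slopePart F μ) ⊥]
      exact disjoint_bot_left
    · obtain ⟨B, P, lam, hc, hBne, hBst, hPst, hBiso, hPno⟩ := exists_splitting hτ hF
      obtain ⟨hlamB, hlamP, hne⟩ := slopePart_of_splitting hτ hF hc hBst hPst hBiso hPno
      have hFP := isIsoc_restrict hτ hF P hPst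
      have hlt : Module.finrank K(p, k) P < n := by
        have h1 := Submodule.finrank_add_eq_of_isCompl hc
        have h2 : Module.finrank K(p, k) B ≠ 0 := fun h0 => hBne (Submodule.finrank_eq_zero.mp h0)
        omega
      obtain ⟨hind, hsup⟩ := ih _ hlt P (F.restrict hPst) hFP rfl
      constructor
      · intro μ
        beta_reduce
        by_cases hμ : μ = lam
        · subst hμ
          rw [hlamB]
          refine hc.disjoint.mono_right (iSup₂_le fun ν hν => ?_)
          rw [hne ν hν]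
          exact Submodule.map_subtype_le P _
        · rw [disjoint_iff, eq_bot_iff]
          rintro x ⟨hx1, hx2⟩
          rw [SetLike.mem_coe, hne μ hμ] at hx1
          obtain ⟨x₁, hx₁, rfl⟩ := hx1
          have hle : (⨆ ν, ⨆ (_ : ν ≠ μ), slopePart F ν)
              ≤ B ⊔ (⨆ ν, ⨆ (_ : ν ≠ μ), slopePart (F.restrict hPst) ν).map P.subtype := by
            refine iSup₂_le fun ν hν => ?_
            by_cases hνl : ν = lam
            · subst hνl
              rw [hlamB]
              exact le_sup_left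
            · rw [hne ν hνl]
              exact le_sup_of_le_right (Submodule.map_mono (le_iSup₂ (f := fun ν (_ : ν ≠ μ) =>
                slopePart (F.restrict hPst) ν) ν hν))
          obtain ⟨y, hy, z, hz, hyz⟩ := Submodule.mem_sup.mp (hle hx2)
          obtain ⟨z₁, hz₁, rfl⟩ := hz
          simp only [Submodule.subtype_apply] at hyz
          have hyP : y ∈ P := by
            have : y = ((x₁ - z₁ : P) : N) := by
              rw [Submodule.coe_sub]
              exact eq_sub_of_add_eq hyz
            rw [this]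
            exact (x₁ - z₁).2
          have hy0 : y = 0 := by
            have : y ∈ B ⊓ P := ⟨hy, hyP⟩
            rwa [hc.inf_eq_bot, Submodule.mem_bot] at this
          have hxz : x₁ = z₁ := by
            apply Subtype.ext
            rw [← hyz, hy0, zero_add]
          have h0 : x₁ ∈ slopePart (F.restrict hPst) μ ⊓
              ⨆ ν, ⨆ (_ : ν ≠ μ), slopePart (F.restrict hPst) ν := ⟨hx₁, hxz ▸ hz₁⟩
          rw [(hind μ).eq_bot, Submodule.mem_bot] at h0
          rw [h0]
          simp
      · rw [eq_top_iff, ← hc.sup_eq_top]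
        refine sup_le ?_ ?_
        · rw [← hlamB]
          exact le_iSup (fun μ => slopePart F μ) lam
        · have h1 : P = (⊤ : Submodule K(p, k) P).map P.subtype := by
            rw [Submodule.map_subtype_top]
          rw [h1, ← hsup, Submodule.map_iSup]
          refine iSup_le fun μ => ?_
          by_cases hμ : μ = lam
          · subst hμ
            rw [hlamP, Submodule.map_bot]
            exact bot_le
          · rw [← hne μ hμ]
            exact le_iSup (fun μ => slopePart F μ) μ

theorem slope_decomposition (hτ : Good τ) {F : N →ₛₗ[τ] N} (hF : IsIsoc F) :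
    DirectSum.IsInternal (fun μ : ℚ => slopePart F μ) := by
  obtain ⟨h1, h2⟩ := slope_decomposition_aux hτ _ N F hF rfl
  exact (DirectSum.isInternal_submodule_iff_iSupIndep_and_iSup_eq_top _).mpr ⟨h1, h2⟩

end Groth.Agent.Lib.Helper8.IsocL
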