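import Mathlib
import Groth.Agent.Lib.Helper8.Isoc10
set_option backward.isDefEq.respectTransparency.types false
set_option autoImplicit false
set_option linter.unusedSectionVars false

open scoped Pointwise Isocrystal

universe u v w

namespace Groth.Agent.Lib.Helper8.IsocL

open Isoc Filter Topology Module

variable {p : ℕ} [Fact p.Prime] {k : Type u} [Field k] [CharP k p] [PerfectRing k p]
variable {N : Type v} [AddCommGroup N] [Module (WittVector p k) N] [Module K(p, k) N]
  [IsScalarTower (WittVector p k) K(p, k) N]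
variable {τ τ' τ'' : K(p, k) →+* K(p, k)}
variable {Ω : Type w} [Field Ω] [Algebra (WittVector p k) Ω] [Algebra K(p, k) Ω]
  [IsScalarTower (WittVector p k) K(p, k) Ω]

/-! ### Matrix lemmas -/

lemma exists_eigvec_of_root {Ω : Type w} [Field Ω] {n : ℕ} (A : Matrix (Fin n) (Fin n) Ω) {α : Ω}
    (h : A.charpoly.IsRoot α) : ∃ v : Fin n → Ω, v ≠ 0 ∧ A.mulVec v = α • v := by
  rw [Polynomial.IsRoot.def, Matrix.eval_charpoly] at h
  obtain ⟨v, hv, hv0⟩ := Matrix.exists_mulVec_eq_zero_iff.mpr h
  refine ⟨v, hv, ?_⟩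
  rw [Matrix.sub_mulVec, sub_eq_zero] at hv0
  rw [← hv0]
  ext i
  simp [Matrix.mulVec, dotProduct, Matrix.scalar_apply, Matrix.diagonal_apply]

lemma isIntegral_of_eigvec {n : ℕ} (U : Matrix (Fin n) (Fin n) (WittVector p k)) {β : Ω}
    {v : Fin n → Ω} (hv : v ≠ 0)
    (h : (U.map (algebraMap (WittVector p k) Ω)).mulVec v = β • v) :
    IsIntegral (WittVector p k) β := by
  refine ⟨U.charpoly, U.charpoly_monic, ?_⟩
  rw [← Polynomial.eval_map, ← Matrix.charpoly_map, Matrix.eval_charpoly]
  apply Matrix.exists_mulVec_eq_zero_iff.mp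
  refine ⟨v, hv, ?_⟩
  rw [Matrix.sub_mulVec, h, sub_eq_zero]
  ext i
  simp [Matrix.mulVec, dotProduct, Matrix.scalar_apply, Matrix.diagonal_apply]

lemma pow_mulVec_eigvec {Ω : Type w} [Field Ω] {n : ℕ} (A : Matrix (Fin n) (Fin n) Ω) {α : Ω}
    {v : Fin n → Ω} (h : A.mulVec v = α • v) (s : ℕ) : (A ^ s).mulVec v = α ^ s • v := by
  induction s with
  | zero => simp
  | succ s ih =>
    rw [pow_succ, ← Matrix.mulVec_mulVec, h, Matrix.mulVec_smul, ih, smul_smul, pow_succ,
      mul_comm]

/-! ### Eigenvalues of a linear power of Frobenius on an isoclinic isocrystal -/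

theorem eigen_of_isoclinic [Module.Finite K(p, k) N] (hτ : Good τ) {F : N →ₛₗ[τ] N}
    (hF : IsIsoc F) {M : Submodule (WittVector p k) N} (hM : M.IsLattice K(p, k)) {r : ℤ} {s : ℕ} (hs : 0 < s)
    (hFM : latImg F s M = pPow r M) {m : ℕ} (π : N →ₗ[K(p, k)] N) (hπ : ∀ x, π x = iter F m x)
    {α : Ω} (hα : (π.charpoly.map (algebraMap K(p, k) Ω)).IsRoot α) :
    α ≠ 0 ∧ IsIntegral (WittVector p k)
        (α ^ s * (algebraMap K(p, k) Ω (p : K(p, k))) ^ (-(r * m)))
      ∧ IsIntegral (WittVector p k)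
        (α ^ s * (algebraMap K(p, k) Ω (p : K(p, k))) ^ (-(r * m)))⁻¹ := by
  obtain ⟨n, e, he⟩ := exists_lattice_basis hM
  set A := LinearMap.toMatrix e e π with hAdef
  have hcp : π.charpoly = A.charpoly := (LinearMap.charpoly_toMatrix π e).symm
  rw [hcp, ← Matrix.charpoly_map] at hα
  obtain ⟨v, hv, hAv⟩ := exists_eigvec_of_root _ hα
  set G := iter F (m * s) with hGdef
  have hGM : latImg F (m * s) M = pPow (r * m) M := by
    rw [mul_comm m s]; exact latImg_mul_eq hτ hFM m
  have hG : ∀ x ∈ M, G x ∈ pPow (r * m) M := fun x hx => by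
    rw [← hGM]; exact iter_mem_latImg hx
  have hG' : ∀ y ∈ pPow (r * m) M, ∃ x ∈ M, G x = y := fun y hy =>
    (mem_latImg hτ).mp (hGM ▸ hy)
  obtain ⟨Wm, hA, hdet⟩ := detCoeff_of_latImg_le he hG
  have hord := isOrdP_detCoeff_of_eq (hτ.pow (m * s)) he hG hG'
  have hu : IsUnit Wm.det := by
    obtain ⟨u, hu⟩ := hord
    rw [hdet] at hu
    have h1 := mul_left_cancel₀ (ppow_ne_zero _) hu
    have h2 := algebraMap_injective' (p := p) (k := k) h1
    rw [h2]
    exact u.isUnit
  have hπs : ∀ (t : ℕ) (x : N), (π ^ t) x = iter F (m * t) x := by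
    intro t
    induction t with
    | zero => intro x; rfl
    | succ t ih =>
      intro x
      rw [pow_succ', Module.End.mul_apply, ih, hπ, ← iter_add, Nat.mul_succ, add_comm]
  have hAs : amat e G = A ^ s := by
    rw [hAdef, LinearMap.toMatrix_pow]
    ext i j
    show e.repr (G (e j)) i = LinearMap.toMatrix e e (π ^ s) i j
    rw [LinearMap.toMatrix_apply, hπs]
  set P := algebraMap K(p, k) Ω (p : K(p, k)) with hPdef
  have hP : P ≠ 0 := by
    rw [hPdef, Ne, map_eq_zero]
    exact p_ne_zero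
  have h1 : Wm.map (algebraMap (WittVector p k) K(p, k)) = (p : K(p, k)) ^ (-(r * m)) • A ^ s := by
    rw [← hAs, hA, smul_smul, ← zpow_add₀ p_ne_zero, neg_add_cancel, zpow_zero, one_smul]
  have hWΩ : Wm.map (algebraMap (WittVector p k) Ω)
      = P ^ (-(r * m)) • (A.map (algebraMap K(p, k) Ω)) ^ s := by
    have h2 : Wm.map (algebraMap (WittVector p k) Ω)
        = (Wm.map (algebraMap (WittVector p k) K(p, k))).map (algebraMap K(p, k) Ω) := by
      ext i j
      simp [IsScalarTower.algebraMap_apply (WittVector p k) K(p, k) Ω]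
    rw [h2, h1]
    have h3 : (A ^ s).map (algebraMap K(p, k) Ω) = (A.map (algebraMap K(p, k) Ω)) ^ s := by
      rw [← RingHom.mapMatrix_apply, map_pow, RingHom.mapMatrix_apply]
    rw [← h3]
    ext i j
    simp only [Matrix.map_apply, Matrix.smul_apply, smul_eq_mul, map_mul, map_zpow₀, hPdef]
  set β := α ^ s * P ^ (-(r * m)) with hβ
  have hWv : (Wm.map (algebraMap (WittVector p k) Ω)).mulVec v = β • v := by
    rw [hWΩ, Matrix.smul_mulVec, pow_mulVec_eigvec _ hAv, smul_smul, hβ, mul_comm]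
  -- the inverse matrix
  have hinv : Wm * Wm⁻¹ = 1 := Matrix.mul_nonsing_inv _ hu
  have hinv' : Wm⁻¹ * Wm = 1 := Matrix.nonsing_inv_mul _ hu
  have hmapmul : ∀ X Y : Matrix (Fin n) (Fin n) (WittVector p k),
      (X * Y).map (algebraMap (WittVector p k) Ω)
        = X.map (algebraMap (WittVector p k) Ω) * Y.map (algebraMap (WittVector p k) Ω) := by
    intro X Y
    rw [← RingHom.mapMatrix_apply, map_mul, RingHom.mapMatrix_apply, RingHom.mapMatrix_apply]
  have hβ0 : β ≠ 0 := by
    intro h0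
    rw [h0, zero_smul] at hWv
    apply hv
    have := congrArg ((Wm⁻¹).map (algebraMap (WittVector p k) Ω)).mulVec hWv
    rw [Matrix.mulVec_mulVec, ← hmapmul, hinv', Matrix.mulVec_zero] at this
    simpa using this
  have hWinv : ((Wm⁻¹).map (algebraMap (WittVector p k) Ω)).mulVec v = β⁻¹ • v := by
    have := congrArg ((Wm⁻¹).map (algebraMap (WittVector p k) Ω)).mulVec hWv
    rw [Matrix.mulVec_mulVec, ← hmapmul, hinv', Matrix.mulVec_smul] at this
    have h5 : ((1 : Matrix (Fin n) (Fin n) (WittVector p k)).map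
        (algebraMap (WittVector p k) Ω)).mulVec v = v := by
      rw [← RingHom.mapMatrix_apply, map_one, Matrix.one_mulVec]
    rw [h5] at this
    rw [eq_inv_smul_iff₀ hβ0]
    exact this.symm
  refine ⟨?_, isIntegral_of_eigvec Wm hv hWv, isIntegral_of_eigvec Wm⁻¹ hv hWinv⟩
  rintro rfl
  apply hβ0
  rw [hβ, zero_pow hs.ne', zero_mul]

/-! ### Separation of slopes -/

lemma zpow_identity {Ω : Type w} [Field Ω] {α P : Ω} (hα : α ≠ 0) (hP : P ≠ 0)
    (a a' b b' m : ℤ) :
    (α ^ a * P ^ (-(b * m))) ^ a' * ((α ^ a' * P ^ (-(b' * m)))⁻¹) ^ a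
      = P ^ ((b' * a - b * a') * m) := by
  rw [mul_zpow, mul_inv, mul_zpow, ← zpow_mul, ← zpow_mul, ← zpow_neg, ← zpow_neg, ← zpow_mul,
    ← zpow_mul]
  have h1 : α ^ (a * a') * P ^ (-(b * m) * a') * (α ^ (-a' * a) * P ^ (- -(b' * m) * a))
      = (α ^ (a * a') * α ^ (-a' * a)) * (P ^ (-(b * m) * a') * P ^ (- -(b' * m) * a)) := by ring
  rw [h1, ← zpow_add₀ hα, ← zpow_add₀ hP]
  have h2 : a * a' + -a' * a = 0 := by ring
  have h3 : -(b * m) * a' + - -(b' * m) * a = (b' * a - b * a') * m := by ring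
  rw [h2, h3, zpow_zero, one_mul]

lemma algebraMap_p_eq :
    algebraMap K(p, k) Ω (p : K(p, k)) = algebraMap (WittVector p k) Ω (p : WittVector p k) := by
  rw [IsScalarTower.algebraMap_apply (WittVector p k) K(p, k) Ω,
    map_natCast (algebraMap (WittVector p k) K(p, k))]

lemma not_isIntegral_inv_p :
    ¬ IsIntegral (WittVector p k) ((algebraMap K(p, k) Ω (p : K(p, k)))⁻¹) := by
  intro h
  rw [← map_inv₀] at h
  have hinj : Function.Injective (algebraMap K(p, k) Ω) := (algebraMap K(p, k) Ω).injective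
  rw [isIntegral_algebraMap_iff hinj] at h
  obtain ⟨y, hy⟩ := IsIntegrallyClosed.isIntegral_iff.mp h
  have h1 : algebraMap (WittVector p k) K(p, k) ((p : WittVector p k) * y) = 1 := by
    rw [map_mul, hy, map_natCast, mul_inv_cancel₀ p_ne_zero]
  have h2 : (p : WittVector p k) * y = 1 := by
    apply algebraMap_injective' (p := p) (k := k)
    rw [h1, map_one]
  exact (WittVector.irreducible p).not_isUnit (IsUnit.of_mul_eq_one _ h2)

lemma not_isIntegral_zpow_neg {c : ℤ} (hc : 0 < c) :
    ¬ IsIntegral (WittVector p k) ((algebraMap K(p, k) Ω (p : K(p, k))) ^ (-c)) := by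
  intro h
  apply not_isIntegral_inv_p (p := p) (k := k) (Ω := Ω)
  have hP : algebraMap K(p, k) Ω (p : K(p, k)) ≠ 0 := by
    rw [Ne, map_eq_zero]; exact p_ne_zero
  obtain ⟨j, hj⟩ := Int.eq_ofNat_of_zero_le (by omega : 0 ≤ c - 1)
  have h1 : (algebraMap K(p, k) Ω (p : K(p, k)))⁻¹
      = (algebraMap K(p, k) Ω (p : K(p, k))) ^ j * (algebraMap K(p, k) Ω (p : K(p, k))) ^ (-c) := by
    rw [← zpow_natCast, ← zpow_add₀ hP, ← hj]
    have : c - 1 + -c = -1 := by ring
    rw [this, zpow_neg_one]
  rw [h1]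
  refine IsIntegral.mul (IsIntegral.pow ?_ j) h
  rw [algebraMap_p_eq]
  exact isIntegral_algebraMap

/-- The slope of an eigenvalue is unique. -/
lemma eq_of_pred {m : ℕ} (hm : 0 < m) {α : Ω} (hα : α ≠ 0) {μ ν : ℚ}
    (hμ : IsIntegral (WittVector p k)
        (α ^ μ.den * (algebraMap K(p, k) Ω (p : K(p, k))) ^ (-(μ.num * (m : ℤ))))
      ∧ IsIntegral (WittVector p k)
        (α ^ μ.den * (algebraMap K(p, k) Ω (p : K(p, k))) ^ (-(μ.num * (m : ℤ))))⁻¹)
    (hν : IsIntegral (WittVector p k)
        (α ^ ν.den * (algebraMap K(p, k) Ω (p : K(p, k))) ^ (-(ν.num * (m : ℤ))))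
      ∧ IsIntegral (WittVector p k)
        (α ^ ν.den * (algebraMap K(p, k) Ω (p : K(p, k))) ^ (-(ν.num * (m : ℤ))))⁻¹) :
    μ = ν := by
  by_contra hne
  set P := algebraMap K(p, k) Ω (p : K(p, k)) with hPdef
  have hP : P ≠ 0 := by
    rw [hPdef, Ne, map_eq_zero]; exact p_ne_zero
  have hc : (ν.num * (μ.den : ℤ) - μ.num * (ν.den : ℤ)) * (m : ℤ) ≠ 0 := by
    apply mul_ne_zero _ (by exact_mod_cast hm.ne')
    intro h0
    apply hne
    rw [Rat.eq_iff_mul_eq_mul]
    linarith
  have e1 := zpow_identity hα hP (μ.den : ℤ) (ν.den : ℤ) μ.num ν.num (m : ℤ)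
  have e2 := zpow_identity hα hP (ν.den : ℤ) (μ.den : ℤ) ν.num μ.num (m : ℤ)
  simp only [zpow_natCast] at e1 e2
  have i1 : IsIntegral (WittVector p k)
      (P ^ ((ν.num * (μ.den : ℤ) - μ.num * (ν.den : ℤ)) * (m : ℤ))) := by
    rw [← e1]
    exact IsIntegral.mul (IsIntegral.pow hμ.1 _) (IsIntegral.pow hν.2 _)
  have i2 : IsIntegral (WittVector p k)
      (P ^ ((μ.num * (ν.den : ℤ) - ν.num * (μ.den : ℤ)) * (m : ℤ))) := by
    rw [← e2]
    exact IsIntegral.mul (IsIntegral.pow hν.1 _) (IsIntegral.pow hμ.2 _)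
  rcases lt_or_gt_of_ne hc with hlt | hgt
  · have := not_isIntegral_zpow_neg (p := p) (k := k) (Ω := Ω)
      (c := -((ν.num * (μ.den : ℤ) - μ.num * (ν.den : ℤ)) * (m : ℤ))) (by omega)
    rw [neg_neg] at this
    exact this i1
  · have := not_isIntegral_zpow_neg (p := p) (k := k) (Ω := Ω)
      (c := (ν.num * (μ.den : ℤ) - μ.num * (ν.den : ℤ)) * (m : ℤ)) hgt
    apply this
    have h3 : -((ν.num * (μ.den : ℤ) - μ.num * (ν.den : ℤ)) * (m : ℤ))
        = (μ.num * (ν.den : ℤ) - ν.num * (μ.den : ℤ)) * (m : ℤ) := by ring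
    rw [h3]
    exact i2

/-! ### The finite field theorem -/

/-- The predicate "`α` has slope `μ`" of S17156. -/
abbrev slopePred (p : ℕ) [Fact p.Prime] (k : Type u) [Field k] [CharP k p] [PerfectRing k p]
    (Ω : Type w) [Field Ω] [Algebra (WittVector p k) Ω] [Algebra K(p, k) Ω]
    (m : ℕ) (μ : ℚ) (α : Ω) : Prop :=
  IsIntegral (WittVector p k)
      (α ^ μ.den * (algebraMap K(p, k) Ω (p : K(p, k))) ^ (-(μ.num * (m : ℤ))))
    ∧ IsIntegral (WittVector p k)
      (α ^ μ.den * (algebraMap K(p, k) Ω (p : K(p, k))) ^ (-(μ.num * (m : ℤ))))⁻¹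

lemma pred_of_pow {m : ℕ} {α : Ω} {r : ℤ} {s : ℕ} (hs : 0 < s)
    (h1 : IsIntegral (WittVector p k)
        (α ^ s * (algebraMap K(p, k) Ω (p : K(p, k))) ^ (-(r * m))))
    (h2 : IsIntegral (WittVector p k)
        (α ^ s * (algebraMap K(p, k) Ω (p : K(p, k))) ^ (-(r * m)))⁻¹) :
    slopePred p k Ω m ((r : ℚ) / s) α := by
  set lam : ℚ := (r : ℚ) / s with hlam
  have hden : ((lam.den : ℤ)) ∣ (s : ℤ) := by
    have := Rat.den_dvd r (s : ℤ)
    rwa [Rat.divInt_eq_div, Int.cast_natCast] at this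
  obtain ⟨t, ht⟩ := hden
  have hdpos : (0 : ℤ) < lam.den := by exact_mod_cast lam.den_pos
  have htpos : 0 < t := by
    have : (0 : ℤ) < (lam.den : ℤ) * t := by rw [← ht]; exact_mod_cast hs
    by_contra hneg
    push Not at hneg
    nlinarith [mul_nonpos_of_nonneg_of_nonpos hdpos.le hneg]
  have hr : r = lam.num * t := by
    have h3 : (lam.num : ℚ) / lam.den = (r : ℚ) / s := by rw [Rat.num_div_den]
    rw [div_eq_div_iff (by exact_mod_cast hdpos.ne') (by exact_mod_cast hs.ne')] at h3
    have h4 : lam.num * (s : ℤ) = r * lam.den := by exact_mod_cast h3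
    rw [ht] at h4
    have h5 : (lam.den : ℤ) * (lam.num * t) = (lam.den : ℤ) * r := by linarith
    exact (mul_left_cancel₀ hdpos.ne' h5).symm
  obtain ⟨t', rfl⟩ := Int.eq_ofNat_of_zero_le htpos.le
  have ht'pos : 0 < t' := by exact_mod_cast htpos
  have hs' : s = lam.den * t' := by exact_mod_cast ht
  have hpow : (α ^ lam.den * (algebraMap K(p, k) Ω (p : K(p, k))) ^ (-(lam.num * (m : ℤ)))) ^ t'
      = α ^ s * (algebraMap K(p, k) Ω (p : K(p, k))) ^ (-(r * m)) := by
    have e1 : (α ^ lam.den) ^ t' = α ^ s := by rw [← pow_mul, ← hs']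
    have e2 : ((algebraMap K(p, k) Ω (p : K(p, k))) ^ (-(lam.num * (m : ℤ)))) ^ t'
        = (algebraMap K(p, k) Ω (p : K(p, k))) ^ (-(r * m)) := by
      rw [← zpow_natCast ((algebraMap K(p, k) Ω (p : K(p, k))) ^ (-(lam.num * (m : ℤ)))) t',
        ← zpow_mul, hr]
      congr 1
      ring
    rw [mul_pow, e1, e2]
  constructor
  · apply IsIntegral.of_pow ht'pos
    rw [hpow]; exact h1
  · apply IsIntegral.of_pow ht'pos
    rw [inv_pow, hpow]; exact h2

lemma coe_iter_restrict {F : N →ₛₗ[τ] N} {P : Submodule K(p, k) N} (hP : ∀ x ∈ P, F x ∈ P)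
    (m : ℕ) (x : P) : ((iter (F.restrict hP) m x : P) : N) = iter F m (x : N) := by
  induction m with
  | zero => rfl
  | succ m ih => rw [iter_succ_apply, iter_succ_apply, ← ih]; rfl

lemma charpoly_eq_mul_of_isCompl [Module.Finite K(p, k) N] {B P : Submodule K(p, k) N}
    (hc : IsCompl B P) (π : N →ₗ[K(p, k)] N) (hB : ∀ x ∈ B, π x ∈ B) (hP : ∀ x ∈ P, π x ∈ P) :
    π.charpoly = (π.restrict hB).charpoly * (π.restrict hP).charpoly := by
  have hconj : (Submodule.prodEquivOfIsCompl B P hc).conj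
      ((π.restrict hB).prodMap (π.restrict hP)) = π := by
    apply LinearMap.ext
    intro x
    obtain ⟨y, rfl⟩ := (Submodule.prodEquivOfIsCompl B P hc).surjective x
    rw [LinearEquiv.conj_apply_apply, LinearEquiv.symm_apply_apply]
    simp only [LinearMap.prodMap_apply, Submodule.coe_prodEquivOfIsCompl', map_add]
    rfl
  calc π.charpoly = ((Submodule.prodEquivOfIsCompl B P hc).conj
      ((π.restrict hB).prodMap (π.restrict hP))).charpoly := by rw [hconj]
    _ = _ := by rw [LinearEquiv.charpoly_conj, LinearMap.charpoly_prodMap]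

/-- **S17156** for a general good twist: Newton multiplicities count the eigenvalues of a linear
power `π = F^m` by their valuations. -/
theorem newtonMult_eq_countP_aux [IsAlgClosed Ω] (hτ : Good τ) {m : ℕ} (hm : 0 < m)
    [inst : ∀ μ : ℚ, DecidablePred (slopePred p k Ω m μ)] :
    ∀ (n : ℕ) (N : Type v) [AddCommGroup N]
    [Module (WittVector p k) N] [Module K(p, k) N] [IsScalarTower (WittVector p k) K(p, k) N]
    [Module.Finite K(p, k) N]
    (F : N →ₛₗ[τ] N), IsIsoc F → Module.finrank K(p, k) N = n →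
    ∀ (π : N →ₗ[K(p, k)] N), (∀ x, π x = iter F m x) → ∀ μ : ℚ,
    newtonMult F μ = Multiset.countP (slopePred p k Ω m μ)
      ((π.charpoly.map (algebraMap K(p, k) Ω)).roots) := by
  intro n
  induction n using Nat.strong_induction_on with
  | _ n ih =>
    intro N _ _ _ _ _ F hF hn π hπ μ
    rcases subsingleton_or_nontrivial N with hsub | hnt
    · have h1 : newtonMult F μ = 0 := by
        unfold newtonMult
        exact Module.finrank_zero_of_subsingleton
      have h2 : (π.charpoly.map (algebraMap K(p, k) Ω)).roots = 0 := by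
        have h3 : (π.charpoly.map (algebraMap K(p, k) Ω)).natDegree = 0 := by
          rw [Polynomial.natDegree_map, LinearMap.charpoly_natDegree,
            Module.finrank_zero_of_subsingleton]
        apply Multiset.card_eq_zero.mp
        have := Polynomial.card_roots' (π.charpoly.map (algebraMap K(p, k) Ω))
        omega
      rw [h1, h2]
      simp
    · obtain ⟨B, P, lam, hc, hBne, hBst, hPst, hBiso, hPno⟩ := exists_splitting hτ hF
      obtain ⟨hlamB, hlamP, hne⟩ := slopePart_of_splitting hτ hF hc hBst hPst hBiso hPno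
      have hFP := isIsoc_restrict hτ hF P hPst
      have hFB := isIsoc_restrict hτ hF B hBst
      have hlt : Module.finrank K(p, k) P < n := by
        have h1 := Submodule.finrank_add_eq_of_isCompl hc
        have h2 : Module.finrank K(p, k) B ≠ 0 := fun h0 => hBne (Submodule.finrank_eq_zero.mp h0)
        omega
      have hπB : ∀ x ∈ B, π x ∈ B := fun x hx => by
        rw [hπ]; exact iter_mem_of_stable B hBst m hx
      have hπP : ∀ x ∈ P, π x ∈ P := fun x hx => by
        rw [hπ]; exact iter_mem_of_stable P hPst m hx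
      have hπB' : ∀ x : B, (π.restrict hπB) x = iter (F.restrict hBst) m x := fun x => by
        apply Subtype.ext
        rw [coe_iter_restrict]
        exact hπ x
      have hπP' : ∀ x : P, (π.restrict hπP) x = iter (F.restrict hPst) m x := fun x => by
        apply Subtype.ext
        rw [coe_iter_restrict]
        exact hπ x
      have hIH := ih _ hlt P (F.restrict hPst) hFP rfl (π.restrict hπP) hπP'
      have hcp := charpoly_eq_mul_of_isCompl hc π hπB hπP
      have hneB : (π.restrict hπB).charpoly.map (algebraMap K(p, k) Ω) ≠ 0 :=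
        ((π.restrict hπB).charpoly_monic.map _).ne_zero
      have hneP : (π.restrict hπP).charpoly.map (algebraMap K(p, k) Ω) ≠ 0 :=
        ((π.restrict hπP).charpoly_monic.map _).ne_zero
      rw [hcp, Polynomial.map_mul, Polynomial.roots_mul (mul_ne_zero hneB hneP),
        Multiset.countP_add, ← hIH μ]
      -- the B part
      obtain ⟨M', hM', r, s, hs, hrs, hFM'⟩ := (isIsoclinic_restrict_iff F B hBst lam).mpr hBiso
      have hBroots : ∀ α ∈ ((π.restrict hπB).charpoly.map (algebraMap K(p, k) Ω)).roots,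
          α ≠ 0 ∧ slopePred p k Ω m lam α := by
        intro α hα
        have hroot := (Polynomial.mem_roots hneB).mp hα
        obtain ⟨h0, h1, h2⟩ := eigen_of_isoclinic hτ hFB hM' hs hFM' (π.restrict hπB) hπB' hroot
        refine ⟨h0, ?_⟩
        rw [← hrs]
        exact pred_of_pow hs h1 h2
      have hcard : Multiset.card ((π.restrict hπB).charpoly.map (algebraMap K(p, k) Ω)).roots
          = Module.finrank K(p, k) B := by
        rw [IsAlgClosed.card_roots_eq_natDegree, Polynomial.natDegree_map,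
          LinearMap.charpoly_natDegree]
      by_cases hμ : μ = lam
      · subst hμ
        have h1 : Multiset.countP (slopePred p k Ω m μ)
            ((π.restrict hπB).charpoly.map (algebraMap K(p, k) Ω)).roots
            = Module.finrank K(p, k) B := by
          rw [← hcard]
          exact Multiset.countP_eq_card.mpr fun α hα => (hBroots α hα).2
        rw [h1]
        unfold newtonMult
        rw [hlamB, hlamP]
        simp
      · have h1 : Multiset.countP (slopePred p k Ω m μ)
            ((π.restrict hπB).charpoly.map (algebraMap K(p, k) Ω)).roots = 0 := by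
          apply Multiset.countP_eq_zero.mpr
          intro α hα hpred
          obtain ⟨h0, hl⟩ := hBroots α hα
          exact hμ (eq_of_pred hm h0 hpred hl)
        rw [h1, zero_add]
        unfold newtonMult
        rw [hne μ hμ, Submodule.finrank_map_subtype_eq]

end Groth.Agent.Lib.Helper8.IsocL
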