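import Mathlib
import Groth.Agent.Lib.Helper8.Isoc10
set_option backward.isDefEq.respectTransparency.types false
set_option autoImplicit false
set_option linter.unusedSectionVars false

open scoped Pointwise Isocrystal

universe u v w

namespace Groth.Agent.Lib.Helper8.IsocL

open Isoc Filter Topology Module

variable {p : ℕ} [Fact p.Prime] {k : Type u} [Field k] [CharP k p] [PerfectRing k p]
variable {N : Type v} [AddCommGroup N] [Module (WittVector p k) N] [Module K(p, k) N]
  [IsScalarTower (WittVector p k) K(p, k) N]
variable {τ τ' τ'' : K(p, k) →+* K(p, k)}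

/-- The determinant coefficient of a bijective semilinear map is non-zero. -/
lemma detCoeff_ne_zero (hτ : Good τ) {F : N →ₛₗ[τ] N} (hF : Function.Injective F) {n : ℕ}
    (b : Basis (Fin n) K(p, k) N) : detCoeff b F ≠ 0 := by
  intro h0
  rw [detCoeff_eq] at h0
  obtain ⟨v, hv, hAv⟩ := Matrix.exists_mulVec_eq_zero_iff.mpr h0
  choose v' hv' using fun j => hτ.surjective (v j)
  have h1 : F (∑ j, v' j • b j) = 0 := by
    apply b.repr.injective
    ext i
    rw [repr_apply_semilinear, map_zero, Finsupp.zero_apply]
    have := congrFun hAv i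
    rw [Matrix.mulVec, dotProduct, Pi.zero_apply] at this
    rw [← this]
    apply Finset.sum_congr rfl
    intro j _
    rw [b.repr_sum_self, hv']
  have h2 : ∑ j, v' j • b j = 0 := hF (by rw [h1, map_zero])
  apply hv
  ext j
  have h3 := congrArg (fun x => b.repr x j) h2
  simp only [b.repr_sum_self, map_zero, Finsupp.zero_apply] at h3
  rw [Pi.zero_apply, ← hv', h3, map_zero]

/-- Block decomposition of the determinant coefficient along a stable splitting. -/
lemma exists_basis_detCoeff_mul {B P : Submodule K(p, k) N} (hc : IsCompl B P)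
    {F : N →ₛₗ[τ] N} (hB : ∀ x ∈ B, F x ∈ B) (hP : ∀ x ∈ P, F x ∈ P) {nB nP : ℕ}
    (bB : Basis (Fin nB) K(p, k) B) (bP : Basis (Fin nP) K(p, k) P) :
    ∃ b : Basis (Fin (nB + nP)) K(p, k) N,
      detCoeff b F = detCoeff bB (F.restrict hB) * detCoeff bP (F.restrict hP) := by
  classical
  set b' : Basis (Fin nB ⊕ Fin nP) K(p, k) N :=
    (bB.prod bP).map (Submodule.prodEquivOfIsCompl B P hc) with hb'
  have hb'l : ∀ i, b' (Sum.inl i) = (bB i : N) := by
    intro i
    rw [hb', Basis.map_apply, Submodule.coe_prodEquivOfIsCompl']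
    simp
  have hb'r : ∀ i, b' (Sum.inr i) = (bP i : N) := by
    intro i
    rw [hb', Basis.map_apply, Submodule.coe_prodEquivOfIsCompl']
    simp
  have hreprl : ∀ (x : N) i, b'.repr x (Sum.inl i) = bB.repr (B.projectionOnto P hc x) i := by
    intro x i
    rw [hb', Basis.map_repr, LinearEquiv.trans_apply, Submodule.prodEquivOfIsCompl_symm_apply,
      Basis.prod_repr_inl]
  have hreprr : ∀ (x : N) i, b'.repr x (Sum.inr i) = bP.repr (P.projectionOnto B hc.symm x) i := by
    intro x i
    rw [hb', Basis.map_repr, LinearEquiv.trans_apply, Submodule.prodEquivOfIsCompl_symm_apply,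
      Basis.prod_repr_inr]
  refine ⟨b'.reindex finSumFinEquiv, ?_⟩
  have hM : (Matrix.of fun i j => (b'.reindex finSumFinEquiv).repr
      (F ((b'.reindex finSumFinEquiv) j)) i)
      = Matrix.reindex finSumFinEquiv finSumFinEquiv
        (Matrix.fromBlocks (amat bB (F.restrict hB)) 0 0 (amat bP (F.restrict hP))) := by
    ext i j
    simp only [Matrix.of_apply, Basis.repr_reindex_apply, Basis.reindex_apply,
      Matrix.reindex_apply, Matrix.submatrix_apply]
    rcases h1 : finSumFinEquiv.symm i with i' | i' <;> rcases h2 : finSumFinEquiv.symm j with j' | j'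
    · rw [hreprl, hb'l, Matrix.fromBlocks_apply₁₁,
        Submodule.projectionOnto_apply_of_mem_left hc (hB _ (bB j').2)]
      rfl
    · rw [hreprl, hb'r, Matrix.fromBlocks_apply₁₂,
        (Submodule.projectionOnto_apply_eq_zero_iff hc).mpr (hP _ (bP j').2)]
      simp
    · rw [hreprr, hb'l, Matrix.fromBlocks_apply₂₁,
        (Submodule.projectionOnto_apply_eq_zero_iff hc.symm).mpr (hB _ (bB j').2)]
      simp
    · rw [hreprr, hb'r, Matrix.fromBlocks_apply₂₂,
        Submodule.projectionOnto_apply_of_mem_left hc.symm (hP _ (bP j').2)]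
      rfl
  unfold detCoeff at *
  rw [hM, Matrix.det_reindex_self, Matrix.det_fromBlocks_zero₂₁]
  rfl

/-- **S17158** for a general good twist. -/
theorem newton_endpoint_aux (hτ : Good τ) : ∀ (n : ℕ) (N : Type v) [AddCommGroup N]
    [Module (WittVector p k) N] [Module K(p, k) N] [IsScalarTower (WittVector p k) K(p, k) N]
    (F : N →ₛₗ[τ] N), IsIsoc F → Module.finrank K(p, k) N = n →
    ∀ (h : ℕ) (b : Basis (Fin h) K(p, k) N) (d : ℤ), IsOrdP (detCoeff b F) d →
    ∑ᶠ μ : ℚ, μ * (newtonMult F μ : ℚ) = d := by
  intro n
  induction n using Nat.strong_induction_on with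
  | _ n ih =>
    intro N _ _ _ _ F hF hn h b d hd
    have hfin := hF.finite
    rcases subsingleton_or_nontrivial N with hsub | hnt
    · have h1 : ∀ μ, newtonMult F μ = 0 := fun μ => by
        unfold newtonMult
        exact Module.finrank_zero_of_subsingleton
      have h0 : h = 0 := by
        have h2 := Module.finrank_eq_card_basis b
        rw [Fintype.card_fin, Module.finrank_zero_of_subsingleton] at h2
        exact h2.symm
      subst h0
      have h3 : detCoeff b F = 1 := by
        unfold detCoeff
        exact Matrix.det_isEmpty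
      rw [h3] at hd
      have h4 := IsOrdP_unique hd isOrdP_one
      simp [h1, h4]
    · obtain ⟨B, P, lam, hc, hBne, hBst, hPst, hBiso, hPno⟩ := exists_splitting hτ hF
      obtain ⟨hlamB, hlamP, hne⟩ := slopePart_of_splitting hτ hF hc hBst hPst hBiso hPno
      have hFP := isIsoc_restrict hτ hF P hPst
      have hFB := isIsoc_restrict hτ hF B hBst
      have hlt : Module.finrank K(p, k) P < n := by
        have h1 := Submodule.finrank_add_eq_of_isCompl hc
        have h2 : Module.finrank K(p, k) B ≠ 0 := fun h0 => hBne (Submodule.finrank_eq_zero.mp h0)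
        omega
      set bB := Module.finBasis K(p, k) B with hbB
      set bP := Module.finBasis K(p, k) P with hbP
      obtain ⟨dB, hdB⟩ := exists_isOrdP _ (detCoeff_ne_zero hτ hFB.bijective.injective bB)
      obtain ⟨dP, hdP⟩ := exists_isOrdP _ (detCoeff_ne_zero hτ hFP.bijective.injective bP)
      obtain ⟨b', hb'⟩ := exists_basis_detCoeff_mul hc hBst hPst bB bP
      have hcard := basis_card_eq b' b
      subst hcard
      have hd' : IsOrdP (detCoeff b' F) (dB + dP) := by
        rw [hb']; exact IsOrdP_mul hdB hdP
      have hdeq : d = dB + dP := IsOrdP_unique (isOrdP_detCoeff_basis hτ b b' hd) hd'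
      have hIH := ih _ hlt P (F.restrict hPst) hFP rfl _ bP dP hdP
      -- the isoclinic part
      obtain ⟨M', hM', r, s, hs, hrs, hFM'⟩ := (isIsoclinic_restrict_iff F B hBst lam).mpr hBiso
      have hBnt : Nontrivial B := Submodule.nontrivial_iff_ne_bot.mpr hBne
      have hrel := (slope_of_latImg_eq hτ hFB bB hdB hM' hs hFM').2
      have hdBlam : lam * (Module.finrank K(p, k) B : ℚ) = dB := by
        rw [← hrs]
        have hs' : (s : ℚ) ≠ 0 := by exact_mod_cast hs.ne'
        have : (r : ℚ) * (Module.finrank K(p, k) B : ℚ) = s * dB := by exact_mod_cast hrel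
        field_simp
        linarith
      -- the finsum
      have hindP := (slope_decomposition_aux hτ _ P (F.restrict hPst) hFP rfl).1
      have hfinP : (Function.support fun μ : ℚ => μ * (newtonMult (F.restrict hPst) μ : ℚ)).Finite := by
        have hwf : WellFoundedGT (Submodule K(p, k) P) := inferInstance
        refine (WellFoundedGT.finite_ne_bot_of_iSupIndep hindP).subset ?_
        intro μ hμ
        simp only [Function.mem_support, ne_eq, mul_eq_zero, not_or] at hμ
        intro hbot
        apply hμ.2
        unfold newtonMult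
        rw [hbot]
        simp
      have hfun : (fun μ : ℚ => μ * (newtonMult F μ : ℚ))
          = fun μ => μ * (newtonMult (F.restrict hPst) μ : ℚ)
            + (if μ = lam then lam * (Module.finrank K(p, k) B : ℚ) else 0) := by
        funext μ
        by_cases hμ : μ = lam
        · subst hμ
          unfold newtonMult
          rw [hlamB, hlamP, if_pos rfl]
          simp
        · unfold newtonMult
          rw [hne μ hμ, Submodule.finrank_map_subtype_eq, if_neg hμ, add_zero]
      have hfin2 : (Function.support fun μ : ℚ =>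
          (if μ = lam then lam * (Module.finrank K(p, k) B : ℚ) else 0)).Finite := by
        refine (Set.finite_singleton lam).subset ?_
        intro μ hμ
        by_contra hne'
        simp only [Set.mem_singleton_iff] at hne'
        simp [hne'] at hμ
      rw [hfun, finsum_add_distrib hfinP hfin2, hIH,
        finsum_eq_single _ lam (fun μ hμ => if_neg hμ), if_pos rfl, hdBlam, hdeq]
      push_cast
      ring

theorem newton_endpoint (hτ : Good τ) {F : N →ₛₗ[τ] N} (hF : IsIsoc F) {h : ℕ}
    (b : Basis (Fin h) K(p, k) N) {d : ℤ} (hd : IsOrdP (detCoeff b F) d) :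
    ∑ᶠ μ : ℚ, μ * (newtonMult F μ : ℚ) = d :=
  newton_endpoint_aux hτ _ N F hF rfl h b d hd

end Groth.Agent.Lib.Helper8.IsocL
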