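import Mathlib
set_option backward.isDefEq.respectTransparency.types false
set_option autoImplicit false
set_option linter.unusedSectionVars false

universe u v w

namespace Groth.Agent.Lib.Helper8.LangL

open Polynomial Module

variable {k : Type u} [Field k] [IsAlgClosed k]
variable {V : Type v} [AddCommGroup V] [Module k V] [FiniteDimensional k V]

/-- A non-zero fixed vector of an injective `q`-Frobenius-semilinear endomorphism over an
algebraically closed field. -/
theorem exists_fixed_ne_zero {φ : k →+* k} {q : ℕ} (hq : 2 ≤ q) (hφ : ∀ x, φ x = x ^ q)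
    (G : V →ₛₗ[φ] V) (hG : Function.Injective G) [Nontrivial V] :
    ∃ x : V, x ≠ 0 ∧ G x = x := by
  classical
  obtain ⟨v, hv⟩ := exists_ne (0 : V)
  set u : ℕ → V := fun i => (⇑G)^[i] v with hu
  have hu_succ : ∀ i, G (u i) = u (i + 1) := fun i =>
    (Function.iterate_succ_apply' G i v).symm
  have hex : ∃ r, u r ∈ Submodule.span k (Set.range fun i : Fin r => u i) := by
    by_contra hne
    push Not at hne
    have hli : ∀ r, LinearIndependent k (fun i : Fin r => u i) := by
      intro r
      induction r with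
      | zero => exact linearIndependent_empty_type
      | succ r ih =>
        rw [linearIndependent_finSucc']
        exact ⟨ih, hne r⟩
    have := (hli (finrank k V + 1)).fintype_card_le_finrank
    simp at this
  let r := Nat.find hex
  have hr : u r ∈ Submodule.span k (Set.range fun i : Fin r => u i) := Nat.find_spec hex
  have hmin : ∀ j, j < r → u j ∉ Submodule.span k (Set.range fun i : Fin j => u i) :=
    fun j hj => Nat.find_min hex hj
  have hr0 : r ≠ 0 := by
    intro h0
    rw [h0] at hr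
    simp at hr
    exact hv hr
  obtain ⟨r', hr'⟩ : ∃ r', r = r' + 1 := ⟨r - 1, by omega⟩
  obtain ⟨a, ha⟩ := (Submodule.mem_span_range_iff_exists_fun k).mp hr
  set a' : ℕ → k := fun i => if h : i < r then a ⟨i, h⟩ else 0 with ha'
  have hsum : ∑ i ∈ Finset.range r, a' i • u i = u r := by
    rw [← ha, ← Fin.sum_univ_eq_sum_range (fun i => a' i • u i) r]
    apply Finset.sum_congr rfl
    intro i _
    simp [ha', i.2]
  have hGinj : ∀ n, Function.Injective ((⇑G)^[n]) := fun n => hG.iterate n
  have hur : u r ≠ 0 := by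
    intro h0
    apply hv
    apply hGinj r
    rw [Function.iterate_fixed (map_zero G) r]
    exact h0
  have hane : ∃ j, j ≤ r' ∧ a' j ≠ 0 := by
    by_contra hall
    push Not at hall
    apply hur
    rw [← hsum]
    apply Finset.sum_eq_zero
    intro i hi
    rw [hall i (by have := Finset.mem_range.mp hi; omega), zero_smul]
  -- the polynomials
  obtain ⟨q', rfl⟩ : ∃ q', q = q' + 2 := ⟨q - 2, by omega⟩
  let Z : ℕ → k[X] := fun i => Nat.rec (C (a' 0))
    (fun i Zi => X ^ ((q' + 2) * (q' + 1)) * Zi ^ (q' + 2) + C (a' (i + 1))) i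
  have hZ0 : Z 0 = C (a' 0) := rfl
  have hZs : ∀ i, Z (i + 1) = X ^ ((q' + 2) * (q' + 1)) * Z i ^ (q' + 2) + C (a' (i + 1)) :=
    fun i => rfl
  have hZne : ∀ i, (∃ j, j ≤ i ∧ a' j ≠ 0) → Z i ≠ 0 := by
    intro i
    induction i with
    | zero =>
      rintro ⟨j, hj, hja⟩
      have : j = 0 := by omega
      subst this
      rw [hZ0]
      exact fun h => hja (C_eq_zero.mp h)
    | succ i ih =>
      rintro ⟨j, hj, hja⟩
      by_cases hai : a' (i + 1) = 0
      · have hj' : j ≤ i := by
          rcases Nat.lt_or_ge i j with h | h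
          · have : j = i + 1 := by omega
            subst this
            exact absurd hai hja
          · exact h
        have := ih ⟨j, hj', hja⟩
        rw [hZs, hai, C_0, add_zero]
        exact mul_ne_zero (pow_ne_zero _ X_ne_zero) (pow_ne_zero _ this)
      · intro h0
        apply hai
        have := congrArg (eval 0) h0
        rw [hZs] at this
        simpa using this
  have hZr : Z r' ≠ 0 := hZne r' hane
  set H : k[X] := X ^ (q' + 1) * Z r' - 1 with hH
  have hdeg : H.degree ≠ 0 := by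
    have h1 : (1 : k[X]).degree < (X ^ (q' + 1) * Z r').degree := by
      rw [degree_one, degree_mul, degree_X_pow]
      have : (0 : WithBot ℕ) ≤ (Z r').degree := by
        rw [← not_lt, Nat.WithBot.lt_zero_iff, degree_eq_bot]
        exact hZr
      calc (0 : WithBot ℕ) < ((q' + 1 : ℕ) : WithBot ℕ) := by exact_mod_cast Nat.succ_pos q'
        _ ≤ ((q' + 1 : ℕ) : WithBot ℕ) + (Z r').degree := le_add_of_nonneg_right this
    rw [hH, degree_sub_eq_left_of_degree_lt h1]
    intro h0
    rw [h0, degree_one] at h1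
    exact lt_irrefl _ h1
  obtain ⟨t, ht⟩ := IsAlgClosed.exists_root H hdeg
  have ht1 : t ^ (q' + 1) * eval t (Z r') = 1 := by
    rw [IsRoot.def, hH, eval_sub, eval_mul, eval_pow, eval_X, eval_one, sub_eq_zero] at ht
    exact ht
  have ht0 : t ≠ 0 := by
    rintro rfl
    rw [zero_pow (Nat.succ_ne_zero q'), zero_mul] at ht1
    exact zero_ne_one ht1
  set y : ℕ → k := fun i => t ^ (q' + 2) * eval t (Z i) with hy
  have hy0 : y 0 = a' 0 * t ^ (q' + 2) := by
    simp only [hy, hZ0, eval_C]; ring
  have hys : ∀ i, y (i + 1) = (y i) ^ (q' + 2) + a' (i + 1) * t ^ (q' + 2) := by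
    intro i
    simp only [hy, hZs, eval_add, eval_mul, eval_pow, eval_X, eval_C]
    ring
  have hyr : y r' = t := by
    simp only [hy]
    calc t ^ (q' + 2) * eval t (Z r') = t * (t ^ (q' + 1) * eval t (Z r')) := by ring
      _ = t := by rw [ht1, mul_one]
  refine ⟨∑ i ∈ Finset.range r, y i • u i, ?_, ?_⟩
  · intro h0
    rw [hr', Finset.sum_range_succ, hyr] at h0
    apply hmin r' (by omega)
    have h1 : u r' = -(t⁻¹ • ∑ i ∈ Finset.range r', y i • u i) := by
      have h2 : t • u r' = -∑ i ∈ Finset.range r', y i • u i := eq_neg_of_add_eq_zero_right h0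
      rw [← smul_neg, ← h2, smul_smul, inv_mul_cancel₀ ht0, one_smul]
    rw [h1]
    apply Submodule.neg_mem
    apply Submodule.smul_mem
    apply Submodule.sum_mem
    intro i hi
    apply Submodule.smul_mem
    exact Submodule.subset_span ⟨⟨i, Finset.mem_range.mp hi⟩, rfl⟩
  · rw [map_sum]
    have h1 : ∀ i ∈ Finset.range r, G (y i • u i) = (y i) ^ (q' + 2) • u (i + 1) := by
      intro i _
      rw [map_smulₛₗ, hφ, hu_succ]
    rw [Finset.sum_congr rfl h1, hr', Finset.sum_range_succ, hyr, ← hr', ← hsum, hr',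
      Finset.sum_range_succ' (fun i => a' i • u i), Finset.sum_range_succ' (fun i => y i • u i),
      hy0, smul_add, Finset.smul_sum, ← add_assoc, ← Finset.sum_add_distrib, smul_smul,
      mul_comm (t ^ (q' + 2)) (a' 0)]
    congr 1
    apply Finset.sum_congr rfl
    intro i _
    rw [hys, add_smul, smul_smul, mul_comm (t ^ (q' + 2))]

lemma exists_artin_schreier {q : ℕ} (hq : 2 ≤ q) (c : k) : ∃ e : k, e ^ q - e = c := by
  have hdeg : (X ^ q - X - C c : k[X]).degree ≠ 0 := by
    have h1 : (X ^ q - X - C c : k[X]) = X ^ q - (X + C c) := by ring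
    have h2 : (X + C c : k[X]).degree < (X ^ q : k[X]).degree := by
      rw [degree_X_pow, degree_X_add_C]
      exact_mod_cast hq
    rw [h1, degree_sub_eq_left_of_degree_lt h2, degree_X_pow]
    exact_mod_cast (by omega : q ≠ 0)
  obtain ⟨e, he⟩ := IsAlgClosed.exists_root _ hdeg
  refine ⟨e, ?_⟩
  rw [IsRoot.def, eval_sub, eval_sub, eval_pow, eval_X, eval_C, sub_eq_zero] at he
  exact he

/-- **Lang's lemma modulo `p`**: the fixed vectors span. -/
theorem span_fixed_eq_top {φ : k →+* k} {q : ℕ} (hq : 2 ≤ q) (hφ : ∀ x, φ x = x ^ q)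
    (G : V →ₛₗ[φ] V) (hG : Function.Injective G) :
    Submodule.span k {x : V | G x = x} = ⊤ := by
  set U := Submodule.span k {x : V | G x = x} with hU
  by_contra hne
  have hU1 : ∀ u ∈ U, ∀ c : k, ∃ z ∈ U, G z - z = c • u := by
    intro u hu
    induction hu using Submodule.span_induction with
    | mem f hf =>
      intro c
      obtain ⟨e, he⟩ := exists_artin_schreier hq c
      refine ⟨e • f, U.smul_mem _ (Submodule.subset_span hf), ?_⟩
      rw [map_smulₛₗ, hφ, hf, ← sub_smul, he]
    | zero => exact fun c => ⟨0, U.zero_mem, by simp⟩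
    | add u₁ u₂ _ _ h₁ h₂ =>
      intro c
      obtain ⟨z₁, hz₁, e₁⟩ := h₁ c
      obtain ⟨z₂, hz₂, e₂⟩ := h₂ c
      refine ⟨z₁ + z₂, U.add_mem hz₁ hz₂, ?_⟩
      rw [map_add, smul_add, ← e₁, ← e₂]; abel
    | smul d u _ h =>
      intro c
      obtain ⟨z, hz, e⟩ := h (c * d)
      exact ⟨z, hz, by rw [e, mul_smul]⟩
  have hUsurj : ∀ u ∈ U, ∃ w ∈ U, G w = u := by
    intro u hu
    induction hu using Submodule.span_induction with
    | mem f hf => exact ⟨f, Submodule.subset_span hf, hf⟩
    | zero => exact ⟨0, U.zero_mem, map_zero _⟩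
    | add u₁ u₂ _ _ h₁ h₂ =>
      obtain ⟨w₁, hw₁, e₁⟩ := h₁
      obtain ⟨w₂, hw₂, e₂⟩ := h₂
      exact ⟨w₁ + w₂, U.add_mem hw₁ hw₂, by rw [map_add, e₁, e₂]⟩
    | smul c u _ h =>
      obtain ⟨w, hw, e⟩ := h
      obtain ⟨c', hc'⟩ := IsAlgClosed.exists_pow_nat_eq c (by omega : 0 < q)
      exact ⟨c' • w, U.smul_mem _ hw, by rw [map_smulₛₗ, hφ, hc', e]⟩
  have hU2 : ∀ v, G v ∈ U → v ∈ U := by
    intro v hv
    obtain ⟨w, hw, e⟩ := hUsurj _ hv
    rw [← hG e]
    exact hw
  have hUst : U ≤ U.comap G := by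
    intro u hu
    rw [Submodule.mem_comap]
    induction hu using Submodule.span_induction with
    | mem f hf => rw [hf]; exact Submodule.subset_span hf
    | zero => rw [map_zero]; exact U.zero_mem
    | add u₁ u₂ _ _ h₁ h₂ => rw [map_add]; exact U.add_mem h₁ h₂
    | smul c u _ h => rw [map_smulₛₗ]; exact U.smul_mem _ h
  set G' := U.mapQ U G hUst with hG'
  have hG'inj : Function.Injective G' := by
    rw [injective_iff_map_eq_zero]
    intro x' hx'
    obtain ⟨x, rfl⟩ := U.mkQ_surjective x'
    have h1 : G' (U.mkQ x) = U.mkQ (G x) := rfl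
    rw [h1, Submodule.mkQ_apply, Submodule.Quotient.mk_eq_zero] at hx'
    rw [Submodule.mkQ_apply, Submodule.Quotient.mk_eq_zero]
    exact hU2 x hx'
  have hnt : Nontrivial (V ⧸ U) := Submodule.Quotient.nontrivial_iff.mpr hne
  obtain ⟨x', hx'0, hx'⟩ := exists_fixed_ne_zero hq hφ G' hG'inj
  obtain ⟨x, rfl⟩ := U.mkQ_surjective x'
  have h1 : G' (U.mkQ x) = U.mkQ (G x) := rfl
  rw [h1, ← sub_eq_zero, ← map_sub, Submodule.mkQ_apply, Submodule.Quotient.mk_eq_zero] at hx'
  obtain ⟨z, hz, e⟩ := hU1 _ hx' 1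
  rw [one_smul] at e
  have hfix : G (x - z) = x - z := by
    rw [map_sub]
    have : G x - G z = (G x - x) - (G z - z) + (x - z) := by abel
    rw [this, e, sub_self, zero_add]
  apply hx'0
  rw [Submodule.mkQ_apply, Submodule.Quotient.mk_eq_zero]
  have : x = (x - z) + z := by abel
  rw [this]
  exact U.add_mem (Submodule.subset_span hfix) hz

/-- A basis of fixed vectors. -/
theorem exists_basis_fixed {φ : k →+* k} {q : ℕ} (hq : 2 ≤ q) (hφ : ∀ x, φ x = x ^ q)
    (G : V →ₛₗ[φ] V) (hG : Function.Injective G) :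
    ∃ b : Basis (Fin (finrank k V)) k V, ∀ i, G (b i) = b i := by
  have hspan := span_fixed_eq_top hq hφ G hG
  obtain ⟨s, hs, hspan', hli⟩ := exists_linearIndependent k {x : V | G x = x}
  have hspan'' : Submodule.span k s = ⊤ := by rw [hspan', hspan]
  let b₀ : Basis s k V := Basis.mk hli (by rw [Subtype.range_coe]; exact hspan''.ge)
  have hfin : Fintype s := FiniteDimensional.fintypeBasisIndex b₀
  have hcard : Fintype.card s = finrank k V := (Module.finrank_eq_card_basis b₀).symm
  let e : s ≃ Fin (finrank k V) := Fintype.equivFinOfCardEq hcard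
  refine ⟨b₀.reindex e, fun i => ?_⟩
  rw [Basis.reindex_apply, Basis.mk_apply]
  exact hs (e.symm i).2

/-- `G - 1` is surjective. -/
theorem exists_sub_eq {φ : k →+* k} {q : ℕ} (hq : 2 ≤ q) (hφ : ∀ x, φ x = x ^ q)
    (G : V →ₛₗ[φ] V) (hG : Function.Injective G) (c : V) : ∃ d : V, G d - d = c := by
  obtain ⟨b, hb⟩ := exists_basis_fixed hq hφ G hG
  choose e he using fun i => exists_artin_schreier (k := k) hq (b.repr c i)
  refine ⟨∑ i, e i • b i, ?_⟩
  rw [map_sum, ← Finset.sum_sub_distrib]
  conv_rhs => rw [← b.sum_repr c]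
  apply Finset.sum_congr rfl
  intro i _
  rw [map_smulₛₗ, hφ, hb, ← sub_smul, he]

end Groth.Agent.Lib.Helper8.LangL
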