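import Mathlib
import Groth.Agent.Lib.Helper8.Lang1
import Groth.Agent.Lib.Helper8.Isoc8
set_option backward.isDefEq.respectTransparency.types false
set_option autoImplicit false
set_option linter.unusedSectionVars false

universe u v w

namespace Groth.Agent.Lib.Helper8.LangL

open Module WittVector

variable {p : ℕ} [Fact p.Prime] {k : Type u} [Field k] [CharP k p] [PerfectRing k p]

/-- The `c`-th power of the Frobenius automorphism of `W(k)`. -/
noncomputable def Psi (p : ℕ) [Fact p.Prime] (k : Type u) [Field k] [CharP k p] [PerfectRing k p]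
    (c : ℤ) : WittVector p k ≃+* WittVector p k := (WittVector.frobeniusEquiv p k) ^ c

/-- The `c`-th power of the Frobenius automorphism of `k`. -/
noncomputable def psi (p : ℕ) [Fact p.Prime] (k : Type u) [Field k] [CharP k p] [PerfectRing k p]
    (c : ℤ) : k ≃+* k := (_root_.frobeniusEquiv k p) ^ c

lemma cc_frobeniusEquiv (w : WittVector p k) :
    constantCoeff (WittVector.frobeniusEquiv p k w)
      = _root_.frobeniusEquiv k p (constantCoeff w) := by
  rw [WittVector.frobeniusEquiv_apply, _root_.frobeniusEquiv_apply, _root_.frobenius_def]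
  exact WittVector.coeff_frobenius_charP p w 0

lemma cc_frobeniusEquiv_symm (w : WittVector p k) :
    constantCoeff ((WittVector.frobeniusEquiv p k).symm w)
      = (_root_.frobeniusEquiv k p).symm (constantCoeff w) := by
  apply (_root_.frobeniusEquiv k p).injective
  rw [← cc_frobeniusEquiv, RingEquiv.apply_symm_apply, RingEquiv.apply_symm_apply]

lemma cc_Psi (c : ℤ) (w : WittVector p k) :
    constantCoeff (Psi p k c w) = psi p k c (constantCoeff w) := by
  unfold Psi psi
  induction c using Int.induction_on generalizing w with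
  | zero => simp
  | succ n ih =>
    rw [zpow_add_one, zpow_add_one, RingAut.mul_apply, RingAut.mul_apply, ih, cc_frobeniusEquiv]
  | pred n ih =>
    rw [zpow_sub_one, zpow_sub_one, RingAut.mul_apply, RingAut.mul_apply, ih, RingAut.inv_apply,
      RingAut.inv_apply, cc_frobeniusEquiv_symm]

lemma psi_natCast (c : ℕ) (x : k) : psi p k (c : ℤ) x = x ^ p ^ c := by
  unfold psi
  rw [zpow_natCast]
  induction c generalizing x with
  | zero => simp
  | succ c ih =>
    rw [pow_succ, RingAut.mul_apply, ih, _root_.frobeniusEquiv_apply, _root_.frobenius_def,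
      ← pow_mul, pow_succ, mul_comm]

lemma Psi_add (c d : ℤ) (w : WittVector p k) : Psi p k (c + d) w = Psi p k c (Psi p k d w) := by
  unfold Psi
  rw [zpow_add, RingAut.mul_apply]

lemma Psi_neg_apply (c : ℤ) (w : WittVector p k) : Psi p k (-c) (Psi p k c w) = w := by
  rw [← Psi_add, neg_add_cancel]
  unfold Psi
  simp

lemma Psi_apply_neg (c : ℤ) (w : WittVector p k) : Psi p k c (Psi p k (-c) w) = w := by
  rw [← Psi_add, add_neg_cancel]
  unfold Psi
  simp

lemma mem_ker_cc {w : WittVector p k} (h : constantCoeff w = 0) :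
    ∃ w', w = (p : WittVector p k) * w' := by
  have := (WittVector.mem_span_p_iff_coeff_zero_eq_zero w).mpr h
  rw [Ideal.mem_span_singleton'] at this
  obtain ⟨a, ha⟩ := this
  exact ⟨a, by rw [← ha, mul_comm]⟩

lemma cc_p_mul (w : WittVector p k) : constantCoeff ((p : WittVector p k) * w) = 0 := by
  rw [map_mul, map_natCast, CharP.cast_eq_zero, zero_mul]

lemma eq_zero_of_forall_dvd {w : WittVector p k}
    (h : ∀ J : ℕ, ∃ t, w = (p : WittVector p k) ^ J * t) : w = 0 := by
  have hh : IsHausdorff (Ideal.span {(p : WittVector p k)}) (WittVector p k) :=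
    WittVector.isAdicCompleteIdealSpanP.toIsHausdorff
  apply hh.haus'
  intro J
  rw [SModEq.zero, smul_eq_mul, Ideal.mul_top, Ideal.span_singleton_pow,
    Ideal.mem_span_singleton]
  obtain ⟨t, ht⟩ := h J
  exact ⟨t, ht⟩

lemma exists_limit_of_cauchy (y : ℕ → WittVector p k)
    (hy : ∀ j, ∃ d, y (j + 1) - y j = (p : WittVector p k) ^ (j + 1) * d) :
    ∃ l : WittVector p k, ∀ J, ∃ t, l - y J = (p : WittVector p k) ^ (J + 1) * t := by
  choose d hd using hy
  obtain ⟨s, hs⟩ := IsocL.exists_witt_limit (p := p) (k := k)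
    (fun j => if j = 0 then 0 else d (j - 1))
  refine ⟨y 0 + s, fun J => ?_⟩
  obtain ⟨t, ht⟩ := hs (J + 1)
  refine ⟨t, ?_⟩
  rw [← ht, Finset.sum_range_succ']
  have h1 : ∑ j ∈ Finset.range J, (p : WittVector p k) ^ (j + 1) * d j = y J - y 0 := by
    rw [← Finset.sum_range_sub y J]
    apply Finset.sum_congr rfl
    intro j _
    rw [hd]
  have h2 : ∑ j ∈ Finset.range J, (p : WittVector p k) ^ (j + 1)
      * (if j + 1 = 0 then 0 else d (j + 1 - 1)) = y J - y 0 := by
    rw [← h1]
    apply Finset.sum_congr rfl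
    intro j _
    simp
  rw [h2]
  simp only [if_true, mul_zero, add_zero]
  ring

section Main

variable {n : ℕ}

/-- The `Ψ_c`-semilinear map `x ↦ A Ψ_c(x)` on `W^n`. -/
noncomputable def TW (A : Matrix (Fin n) (Fin n) (WittVector p k)) (c : ℤ)
    (x : Fin n → WittVector p k) : Fin n → WittVector p k :=
  A.mulVec (fun i => Psi p k c (x i))

lemma TW_add (A : Matrix (Fin n) (Fin n) (WittVector p k)) (c : ℤ)
    (x y : Fin n → WittVector p k) : TW A c (x + y) = TW A c x + TW A c y := by
  unfold TW
  rw [← Matrix.mulVec_add]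
  congr 1
  ext i
  simp

lemma TW_sub (A : Matrix (Fin n) (Fin n) (WittVector p k)) (c : ℤ)
    (x y : Fin n → WittVector p k) : TW A c (x - y) = TW A c x - TW A c y := by
  unfold TW
  rw [← Matrix.mulVec_sub]
  congr 1
  ext i
  simp

lemma TW_smul (A : Matrix (Fin n) (Fin n) (WittVector p k)) (c : ℤ) (j : ℕ)
    (x : Fin n → WittVector p k) :
    TW A c ((p : WittVector p k) ^ j • x) = (p : WittVector p k) ^ j • TW A c x := by
  unfold TW
  rw [← Matrix.mulVec_smul]
  congr 1
  ext i
  simp

/-- The reduction of `TW` modulo `p`. -/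
noncomputable def Tk (A : Matrix (Fin n) (Fin n) (WittVector p k)) (c : ℤ) :
    (Fin n → k) →ₛₗ[((psi p k c : k ≃+* k) : k →+* k)] (Fin n → k) where
  toFun x := (A.map constantCoeff).mulVec (fun i => psi p k c (x i))
  map_add' x y := by
    rw [← Matrix.mulVec_add]
    congr 1
    ext i
    simp
  map_smul' a x := by
    rw [← Matrix.mulVec_smul]
    congr 1
    ext i
    simp

lemma cc_TW (A : Matrix (Fin n) (Fin n) (WittVector p k)) (c : ℤ)
    (x : Fin n → WittVector p k) :
    (fun i => constantCoeff (TW A c x i)) = Tk A c (fun i => constantCoeff (x i)) := by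
  ext i
  show constantCoeff (A.mulVec (fun i => Psi p k c (x i)) i)
    = (A.map constantCoeff).mulVec (fun i => psi p k c (constantCoeff (x i))) i
  simp only [Matrix.mulVec, dotProduct, map_sum, map_mul, cc_Psi, Matrix.map_apply]

lemma Tk_injective {A : Matrix (Fin n) (Fin n) (WittVector p k)} (hA : IsUnit A.det) (c : ℤ) :
    Function.Injective (Tk A c) := by
  have hdet : IsUnit (A.map constantCoeff).det := by
    have : (A.map constantCoeff).det = constantCoeff A.det := by
      rw [← RingHom.mapMatrix_apply, ← RingHom.map_det]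
    rw [this]
    exact hA.map constantCoeff
  have h1 : Function.Injective (A.map constantCoeff).mulVec :=
    Matrix.mulVec_injective_iff_isUnit.mpr ((Matrix.isUnit_iff_isUnit_det _).mpr hdet)
  intro x y hxy
  have h2 := h1 hxy
  ext i
  exact (psi p k c).injective (congrFun h2 i)

/-- **Lang's lemma over `W`**, vector form, positive exponent. -/
theorem lang_vec [IsAlgClosed k] {A : Matrix (Fin n) (Fin n) (WittVector p k)}
    (hA : IsUnit A.det) {c : ℕ} (hc : 0 < c) (x₀ : Fin n → k) (hx₀ : Tk A c x₀ = x₀) :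
    ∃ x : Fin n → WittVector p k, TW A c x = x ∧ ∀ i, constantCoeff (x i) = x₀ i := by
  have hq : 2 ≤ p ^ c := by
    calc 2 ≤ p := (Fact.out : p.Prime).two_le
      _ = p ^ 1 := (pow_one p).symm
      _ ≤ p ^ c := Nat.pow_le_pow_right (Fact.out : p.Prime).pos hc
  have hφ : ∀ a : k, ((psi p k (c : ℤ) : k ≃+* k) : k →+* k) a = a ^ p ^ c := psi_natCast c
  have hinj := Tk_injective (p := p) (k := k) hA (c : ℤ)
  -- predicate
  let P : ℕ → (Fin n → WittVector p k) → Prop := fun j x =>
    ∃ C : Fin n → WittVector p k, TW A c x - x = (p : WittVector p k) ^ (j + 1) • C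
  have hker : ∀ y : Fin n → WittVector p k, (∀ i, constantCoeff (y i) = 0) →
      ∃ C : Fin n → WittVector p k, y = (p : WittVector p k) • C := by
    intro y hy
    choose C hC using fun i => mem_ker_cc (hy i)
    exact ⟨C, by ext i; rw [hC i]; rfl⟩
  have step : ∀ j x, P j x → ∃ D : Fin n → WittVector p k,
      P (j + 1) (x + (p : WittVector p k) ^ (j + 1) • D) := by
    intro j x ⟨C, hC⟩
    obtain ⟨Dbar, hDbar⟩ := exists_sub_eq hq hφ (Tk A c) hinj
      (fun i => - constantCoeff (C i))
    choose D hD using fun i => WittVector.constantCoeff_surjective p (Dbar i)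
    have hDfun : (fun i => constantCoeff (D i)) = Dbar := funext hD
    refine ⟨D, ?_⟩
    have h1 : ∀ i, constantCoeff ((C + TW A c D - D) i) = 0 := by
      intro i
      have h2 := congrFun (cc_TW A c D) i
      simp only [Pi.add_apply, Pi.sub_apply, map_add, map_sub]
      rw [h2, hDfun, hD]
      have h3 := congrFun hDbar i
      simp only [Pi.sub_apply] at h3
      rw [add_sub_assoc, h3]
      ring
    obtain ⟨C', hC'⟩ := hker _ h1
    refine ⟨C', ?_⟩
    rw [TW_add, TW_smul]
    have : TW A c x + (p : WittVector p k) ^ (j + 1) • TW A c D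
        - (x + (p : WittVector p k) ^ (j + 1) • D)
        = (TW A c x - x) + (p : WittVector p k) ^ (j + 1) • (TW A c D - D) := by
      rw [smul_sub]; abel
    rw [this, hC, ← smul_add, ← add_sub_assoc, hC', smul_smul, ← pow_succ]
  -- the starting point
  choose x₁ hx₁ using fun i => WittVector.constantCoeff_surjective p (x₀ i)
  have hP0 : P 0 x₁ := by
    have h1 : ∀ i, constantCoeff ((TW A c x₁ - x₁) i) = 0 := by
      intro i
      have h2 := congrFun (cc_TW A c x₁) i
      simp only [Pi.sub_apply, map_sub]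
      rw [h2, funext hx₁, hx₀, hx₁, sub_self]
    obtain ⟨C, hC⟩ := hker _ h1
    exact ⟨C, by rw [hC, zero_add, pow_one]⟩
  -- the sequence
  let Fstep : (j : ℕ) → {x // P j x} → {x // P (j + 1) x} := fun j x =>
    ⟨x.1 + (p : WittVector p k) ^ (j + 1) • Classical.choose (step j x.1 x.2),
      Classical.choose_spec (step j x.1 x.2)⟩
  let s' : (j : ℕ) → {x // P j x} := fun j => Nat.rec ⟨x₁, hP0⟩ (fun j xj => Fstep j xj) j
  let s : ℕ → (Fin n → WittVector p k) := fun j => (s' j).1
  have hs0 : s 0 = x₁ := rfl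
  have hsP : ∀ j, P j (s j) := fun j => (s' j).2
  have hss : ∀ j, ∃ D : Fin n → WittVector p k, s (j + 1) = s j + (p : WittVector p k) ^ (j + 1) • D :=
    fun j => ⟨Classical.choose (step j (s' j).1 (s' j).2), rfl⟩
  -- the limit
  have hlim : ∀ i, ∃ l : WittVector p k, ∀ J, ∃ t, l - s J i = (p : WittVector p k) ^ (J + 1) * t := by
    intro i
    apply exists_limit_of_cauchy
    intro j
    obtain ⟨D, hD⟩ := hss j
    exact ⟨D i, by rw [hD]; simp⟩
  choose x hx using hlim
  choose t ht using hx
  have hxs : ∀ J, x - s J = (p : WittVector p k) ^ (J + 1) • (fun i => t i J) := by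
    intro J
    ext i
    rw [Pi.sub_apply, ht i J]
    rfl
  refine ⟨x, ?_, ?_⟩
  · have hzero : TW A c x - x = 0 := by
      funext i
      apply eq_zero_of_forall_dvd
      intro J
      obtain ⟨C, hC⟩ := hsP J
      have h1 : TW A c x - x = (TW A c (s J) - s J) + (TW A c (x - s J) - (x - s J)) := by
        rw [TW_sub]; abel
      rw [h1, hC, hxs J, TW_smul, ← smul_sub, ← smul_add]
      refine ⟨(p : WittVector p k) * (C + (TW A c (fun i => t i J) - fun i => t i J)) i, ?_⟩
      rw [Pi.smul_apply, smul_eq_mul, pow_succ]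
      ring
    exact sub_eq_zero.mp hzero
  · intro i
    have h1 := ht i 0
    rw [hs0, zero_add, pow_one] at h1
    have h2 : x i = x₁ i + (p : WittVector p k) * t i 0 := by rw [← h1]; ring
    rw [h2, map_add, cc_p_mul, add_zero, hx₁]

end Main

section Matrix

variable {n : ℕ} [IsAlgClosed k]

/-- **Lang's lemma over `W`**, matrix form, positive exponent. -/
theorem lang_matrix_pos {A : Matrix (Fin n) (Fin n) (WittVector p k)}
    (hA : IsUnit A.det) {c : ℕ} (hc : 0 < c) :
    ∃ X : Matrix (Fin n) (Fin n) (WittVector p k), IsUnit X.det ∧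
      ∀ j, TW A c (fun i => X i j) = fun i => X i j := by
  have hq : 2 ≤ p ^ c := by
    calc 2 ≤ p := (Fact.out : p.Prime).two_le
      _ = p ^ 1 := (pow_one p).symm
      _ ≤ p ^ c := Nat.pow_le_pow_right (Fact.out : p.Prime).pos hc
  have hφ : ∀ a : k, ((psi p k (c : ℤ) : k ≃+* k) : k →+* k) a = a ^ p ^ c := psi_natCast c
  have hinj := Tk_injective (p := p) (k := k) hA (c : ℤ)
  obtain ⟨b₀, hb₀⟩ := exists_basis_fixed hq hφ (Tk A c) hinj
  have hfr : finrank k (Fin n → k) = n := Module.finrank_fin_fun k
  let b : Basis (Fin n) k (Fin n → k) := b₀.reindex (finCongr hfr)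
  have hb : ∀ j, Tk A c (b j) = b j := fun j => by
    rw [Basis.reindex_apply]; exact hb₀ _
  choose x hxfix hxcc using fun j => lang_vec hA hc (b j) (hb j)
  refine ⟨Matrix.of fun i j => x j i, ?_, fun j => hxfix j⟩
  have h1 : constantCoeff (Matrix.of fun i j => x j i).det
      = ((Pi.basisFun k (Fin n)).toMatrix b).det := by
    rw [RingHom.map_det]
    congr 1
    ext i j
    simp [Basis.toMatrix_apply, hxcc]
  have h2 : ((Pi.basisFun k (Fin n)).toMatrix b).det ≠ 0 := by
    rw [← Basis.det_apply]
    exact ((Pi.basisFun k (Fin n)).isUnit_det b).ne_zero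
  apply WittVector.isUnit_of_coeff_zero_ne_zero
  have h3 : (Matrix.of fun i j => x j i).det.coeff 0
      = constantCoeff (Matrix.of fun i j => x j i).det := rfl
  rw [h3, h1]
  exact h2

/-- **Lang's lemma over `W`**, matrix form. -/
theorem lang_matrix {A : Matrix (Fin n) (Fin n) (WittVector p k)}
    (hA : IsUnit A.det) {c : ℤ} (hc : c ≠ 0) :
    ∃ X : Matrix (Fin n) (Fin n) (WittVector p k), IsUnit X.det ∧
      ∀ j, TW A c (fun i => X i j) = fun i => X i j := by
  rcases lt_or_gt_of_ne hc with hneg | hpos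
  · -- negative exponent
    obtain ⟨c', hc'⟩ := Int.eq_ofNat_of_zero_le (by omega : 0 ≤ -c)
    have hc'pos : 0 < c' := by omega
    have hcc : c = -(c' : ℤ) := by omega
    set B := A.map (Psi p k (c' : ℤ)) with hB
    have hBdet : IsUnit B.det := by
      have : B.det = Psi p k (c' : ℤ) A.det := by
        rw [hB]
        exact (RingHom.map_det ((Psi p k (c' : ℤ)) : WittVector p k →+* WittVector p k) A).symm
      rw [this]
      exact hA.map _
    have hBinv : IsUnit (B⁻¹).det := by
      rw [Matrix.det_nonsing_inv]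
      exact (Ring.inverse_unit hBdet.unit) ▸ (hBdet.unit⁻¹).isUnit
    obtain ⟨X, hX, hfix⟩ := lang_matrix_pos hBinv hc'pos
    refine ⟨X, hX, fun j => ?_⟩
    have h1 := hfix j
    unfold TW at h1 ⊢
    -- Ψ_{c'} x = B x
    have h2 : (fun i => Psi p k (c' : ℤ) (X i j)) = B.mulVec (fun i => X i j) := by
      have := congrArg B.mulVec h1
      rw [Matrix.mulVec_mulVec, Matrix.mul_nonsing_inv _ hBdet, Matrix.one_mulVec] at this
      exact this
    funext i
    have h3 := congrFun h2 i
    have h4 := congrArg (Psi p k c) h3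
    rw [hcc, Psi_neg_apply] at h4
    rw [hcc, h4]
    have h5 := RingHom.map_mulVec ((Psi p k (-(c' : ℤ))) : WittVector p k →+* WittVector p k) B
      (fun i => X i j) i
    have h6 : B.map ((Psi p k (-(c' : ℤ))) : WittVector p k →+* WittVector p k) = A := by
      apply Matrix.ext
      intro a b
      simp only [hB, Matrix.map_apply, RingHom.coe_coe]
      exact Psi_neg_apply (p := p) (k := k) _ _
    rw [h6] at h5
    exact h5.symm
  · obtain ⟨c', hc'⟩ := Int.eq_ofNat_of_zero_le hpos.le
    subst hc'
    exact lang_matrix_pos hA (by exact_mod_cast hpos)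

end Matrix

end Groth.Agent.Lib.Helper8.LangL
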