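import Mathlib
import Groth.Agent.Lib.Helper8.Lang2
import Groth.Agent.Lib.Helper8.Isoc12
set_option backward.isDefEq.respectTransparency.types false
set_option autoImplicit false
set_option linter.unusedSectionVars false

open scoped Pointwise Isocrystal

universe u v w

namespace Groth.Agent.Lib.Helper8.IsocL

open Isoc Filter Topology Module LangL

variable {p : ℕ} [Fact p.Prime] {k : Type u} [Field k] [CharP k p] [PerfectRing k p]
variable {N : Type v} [AddCommGroup N] [Module (WittVector p k) N] [Module K(p, k) N]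
  [IsScalarTower (WittVector p k) K(p, k) N]
variable {τ τ' τ'' : K(p, k) →+* K(p, k)}

/-- `τ` restricts to the `c`-th power of Frobenius on `W`. -/
def IsFrobPow (τ : K(p, k) →+* K(p, k)) (c : ℤ) : Prop :=
  ∀ w : WittVector p k, τ (algebraMap (WittVector p k) K(p, k) w)
    = algebraMap (WittVector p k) K(p, k) (Psi p k c w)

lemma IsFrobPow.good {c : ℤ} (h : IsFrobPow τ c) : Good τ where
  map_W w := ⟨_, h w⟩
  surj_W w' := ⟨Psi p k (-c) w', by rw [h, Psi_apply_neg]⟩

lemma isFrobPow_frob (a : ℤ) : IsFrobPow (frob p k a) a := fun w => frob_algebraMap p k a w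

lemma IsFrobPow.mul {c d : ℤ} (h : IsFrobPow τ c) (h' : IsFrobPow τ' d) :
    IsFrobPow (τ * τ') (c + d) := by
  intro w
  rw [RingHom.mul_def, RingHom.comp_apply, h', h, Psi_add]

lemma IsFrobPow.one : IsFrobPow (1 : K(p, k) →+* K(p, k)) 0 := by
  intro w
  unfold Psi
  simp

lemma IsFrobPow.pow {c : ℤ} (h : IsFrobPow τ c) (s : ℕ) : IsFrobPow (τ ^ s) (c * s) := by
  induction s with
  | zero => simpa using IsFrobPow.one
  | succ s ih =>
    rw [pow_succ]
    have := ih.mul h
    have h2 : c * (s : ℤ) + c = c * ((s + 1 : ℕ) : ℤ) := by push_cast; ring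
    rwa [h2] at this

/-- **Lang's lemma for lattices**: a lattice fixed by a bijective `σ^c`-semilinear map, `c ≠ 0`,
over an algebraically closed field has a basis of fixed vectors. -/
theorem lang_isoc [IsAlgClosed k] {c : ℤ} (hc : c ≠ 0) (hτ : IsFrobPow τ c)
    {G : N →ₛₗ[τ] N} {M : Submodule (WittVector p k) N} {n : ℕ} {e : Basis (Fin n) K(p, k) N}
    (he : ∀ x : N, x ∈ M ↔ ∀ i, ∃ w : WittVector p k,
      e.repr x i = algebraMap (WittVector p k) K(p, k) w)
    (hGM : latImg G 1 M = M) :
    ∃ b : Basis (Fin n) K(p, k) N, (∀ i, G (b i) = b i) ∧ ∀ i, b i ∈ M := by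
  classical
  have hgood := hτ.good
  have hG : ∀ x ∈ M, G x ∈ pPow 0 M := fun x hx => by
    rw [pPow_zero, ← hGM]; exact iter_mem_latImg (F := G) (s := 1) hx
  have hG' : ∀ y ∈ pPow 0 M, ∃ x ∈ M, G x = y := fun y hy => by
    rw [pPow_zero, ← hGM] at hy
    exact (mem_latImg hgood).mp hy
  obtain ⟨Wm, hA, hdet⟩ := detCoeff_of_latImg_le he hG
  have hord := isOrdP_detCoeff_of_eq hgood he hG hG'
  have hu : IsUnit Wm.det := by
    obtain ⟨u, hu⟩ := hord
    rw [hdet] at hu
    have h1 := mul_left_cancel₀ (ppow_ne_zero _) hu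
    have h2 := algebraMap_injective' (p := p) (k := k) h1
    rw [h2]
    exact u.isUnit
  rw [zpow_zero, one_smul] at hA
  obtain ⟨X, hX, hfix⟩ := lang_matrix hu hc
  have hdetX : IsUnit (X.map (algebraMap (WittVector p k) K(p, k))).det := by
    have : (X.map (algebraMap (WittVector p k) K(p, k))).det
        = algebraMap (WittVector p k) K(p, k) X.det := by
      rw [← RingHom.mapMatrix_apply, ← RingHom.map_det]
    rw [this]
    exact hX.map _
  set b := e.map (Matrix.toLinearEquiv e (X.map (algebraMap (WittVector p k) K(p, k))) hdetX)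
    with hb
  have hbj : ∀ j, b j = ∑ i, algebraMap (WittVector p k) K(p, k) (X i j) • e i := by
    intro j
    rw [hb, Basis.map_apply]
    show Matrix.toLin e e _ (e j) = _
    rw [Matrix.toLin_self]
    rfl
  have hrepr : ∀ j i, e.repr (b j) i = algebraMap (WittVector p k) K(p, k) (X i j) := by
    intro j i
    rw [hbj, e.repr_sum_self]
  refine ⟨b, fun j => ?_, fun j => ?_⟩
  · apply e.repr.injective
    ext l
    rw [repr_apply_semilinear, hrepr]
    have h1 := congrFun (hfix j) l
    unfold TW at h1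
    rw [← h1, Matrix.mulVec, dotProduct, map_sum]
    apply Finset.sum_congr rfl
    intro i _
    rw [hrepr, hτ, hA, Matrix.map_apply, map_mul]
  · rw [he]
    intro i
    exact ⟨X i j, hrepr j i⟩

end Groth.Agent.Lib.Helper8.IsocL
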