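import Mathlib
import Groth.Agent.Lib.Helper8.Lang3
set_option backward.isDefEq.respectTransparency.types false
set_option autoImplicit false
set_option linter.unusedSectionVars false

open scoped Pointwise Isocrystal

universe u v w

namespace Groth.Agent.Lib.Helper8.IsocL

open Isoc Filter Topology Module LangL

variable {p : ℕ} [Fact p.Prime] {k : Type u} [Field k] [CharP k p] [PerfectRing k p]
variable {N : Type v} [AddCommGroup N] [Module (WittVector p k) N] [Module K(p, k) N]
  [IsScalarTower (WittVector p k) K(p, k) N]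
variable {τ τ' τ'' : K(p, k) →+* K(p, k)}

lemma natCast_ne_zero_K {s : ℕ} (hs : 0 < s) : (s : K(p, k)) ≠ 0 := by
  have h1 : (s : WittVector p k) ≠ 0 := by
    intro h0
    obtain ⟨j, m, hm, rfl⟩ := Nat.exists_eq_pow_mul_and_not_dvd hs.ne' p
      (Fact.out : p.Prime).ne_one
    rw [Nat.cast_mul, Nat.cast_pow, mul_eq_zero] at h0
    rcases h0 with h0 | h0
    · exact pow_ne_zero _ (WittVector.p_nonzero p k) h0
    · have h2 := congrArg WittVector.constantCoeff h0
      rw [map_natCast, map_zero] at h2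
      exact hm ((CharP.cast_eq_zero_iff k p m).mp h2)
  have h2 : (s : K(p, k)) = algebraMap (WittVector p k) K(p, k) (s : WittVector p k) := by
    rw [map_natCast]
  rw [h2]
  exact fun h => h1 (algebraMap_injective' (p := p) (k := k) (by rw [h, map_zero]))

/-! ### Conjugating a linear map by a bijective semilinear map -/

section Conj

variable {σ : K(p, k) →+* K(p, k)}

/-- `H ∘ f ∘ H⁻¹` for a bijective semilinear `H` (with surjective twist) and linear `f`. -/
noncomputable def conjBy (H : N →ₛₗ[σ] N) (hH : Function.Bijective H)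
    (hσ : Function.Surjective σ) (f : N →ₗ[K(p, k)] N) : N →ₗ[K(p, k)] N where
  toFun x := H (f (Function.surjInv hH.2 x))
  map_add' x y := by
    have hs : Function.Surjective H := hH.2
    have e1 : ∀ x, H (Function.surjInv hs x) = x := Function.surjInv_eq hs
    have : Function.surjInv hs (x + y)
        = Function.surjInv hs x + Function.surjInv hs y := by
      apply hH.1
      rw [map_add, e1, e1, e1]
    show H (f (Function.surjInv hs (x + y))) = H (f (Function.surjInv hs x))
      + H (f (Function.surjInv hs y))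
    rw [this, map_add, map_add]
  map_smul' c x := by
    have hs : Function.Surjective H := hH.2
    have e1 : ∀ x, H (Function.surjInv hs x) = x := Function.surjInv_eq hs
    obtain ⟨c', rfl⟩ := hσ c
    have : Function.surjInv hs (σ c' • x) = c' • Function.surjInv hs x := by
      apply hH.1
      rw [map_smulₛₗ, e1, e1]
    show H (f (Function.surjInv hs (σ c' • x))) = (RingHom.id _ (σ c')) • H (f (Function.surjInv hs x))
    rw [this, map_smul, map_smulₛₗ]
    rfl

lemma conjBy_apply (H : N →ₛₗ[σ] N) (hH : Function.Bijective H)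
    (hσ : Function.Surjective σ) (f : N →ₗ[K(p, k)] N) (y : N) :
    conjBy H hH hσ f (H y) = H (f y) := by
  have hs : Function.Surjective H := hH.2
  have e1 : ∀ x, H (Function.surjInv hs x) = x := Function.surjInv_eq hs
  show H (f (Function.surjInv hs (H y))) = H (f y)
  have : Function.surjInv hs (H y) = y := hH.1 (e1 (H y))
  rw [this]

end Conj


/-- A subspace has a complement spanned by part of any given finite spanning family. -/
lemma exists_compl_span {K : Type*} [Field K] {N : Type*} [AddCommGroup N] [Module K N]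
    {ι : Type*} [Finite ι] (P : Submodule K N) (v : ι → N)
    (hv : Submodule.span K (Set.range v) = ⊤) :
    ∃ S : Set ι, IsCompl P (Submodule.span K (v '' S)) := by
  classical
  obtain ⟨S, -, hS⟩ := Finite.exists_le_maximal
    (p := fun S : Set ι => Disjoint P (Submodule.span K (v '' S))) (a := ∅)
    (by simp)
  refine ⟨S, hS.prop, ?_⟩
  rw [codisjoint_iff, eq_top_iff, ← hv, Submodule.span_le]
  rintro _ ⟨i, rfl⟩
  by_cases hi : i ∈ S
  · exact (le_sup_right : _ ≤ P ⊔ Submodule.span K (v '' S))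
      (Submodule.subset_span ⟨i, hi, rfl⟩)
  · by_contra hcon
    have hdis : Disjoint P (Submodule.span K (v '' (insert i S))) := by
      rw [Submodule.disjoint_def]
      intro x hxP hx
      rw [Set.image_insert_eq, Submodule.mem_span_insert] at hx
      obtain ⟨c, y, hy, rfl⟩ := hx
      by_cases hc : c = 0
      · subst hc
        rw [zero_smul, zero_add] at hxP ⊢
        exact (Submodule.disjoint_def.mp hS.prop) y hxP hy
      · exfalso
        apply hcon
        have : v i = c⁻¹ • (c • v i + y) - c⁻¹ • y := by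
          rw [smul_add, smul_smul, inv_mul_cancel₀ hc, one_smul, add_sub_cancel_right]
        show v i ∈ P ⊔ Submodule.span K (v '' S)
        rw [this]
        exact Submodule.sub_mem _ (Submodule.mem_sup_left (P.smul_mem _ hxP))
          (Submodule.mem_sup_right (Submodule.smul_mem _ _ hy))
    have := hS.le_of_ge hdis (Set.subset_insert i S)
    exact hi (this (Set.mem_insert i S))

/-- **Averaging**: an `F`-stable subspace with an `F^s`-stable complement has an `F`-stable
complement. -/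
theorem exists_stable_compl_of_iter (hτ : Good τ) {F : N →ₛₗ[τ] N} (hF : IsIsoc F) {s : ℕ}
    (hs : 0 < s) {P Q₀ : Submodule K(p, k) N} (hc : IsCompl P Q₀) (hP : ∀ x ∈ P, F x ∈ P)
    (hQ₀ : ∀ x ∈ Q₀, iter F s x ∈ Q₀) :
    ∃ Q : Submodule K(p, k) N, (∀ x ∈ Q, F x ∈ Q) ∧ IsCompl P Q := by
  set π₀ := P.projection Q₀ hc with hπ₀
  set T : ℕ → (N →ₗ[K(p, k)] N) := fun i =>
    conjBy (iter F i) (iterate_bijective hF i) ((hτ.pow i).surjective) π₀ with hT
  have hTapp : ∀ i y, T i (iter F i y) = iter F i (π₀ y) := fun i y => conjBy_apply _ _ _ _ y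
  have hTmem : ∀ i x, T i x ∈ P := by
    intro i x
    obtain ⟨y, rfl⟩ := (iterate_bijective hF i).2 x
    rw [hTapp]
    exact iter_mem_of_stable P hP i (Submodule.projection_apply_mem hc y)
  have hTid : ∀ i x, x ∈ P → T i x = x := by
    intro i x hx
    obtain ⟨y, hy, rfl⟩ := iter_restrict_surjective hτ hF P hP i x hx
    rw [hTapp, hπ₀, Submodule.projection_apply_of_mem_left hc hy]
  have hTF : ∀ i x, F (T i x) = T (i + 1) (F x) := by
    intro i x
    obtain ⟨y, rfl⟩ := (iterate_bijective hF i).2 x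
    rw [hTapp, ← iter_succ_apply, ← iter_succ_apply, hTapp]
  have hTs : ∀ x, T s x = T 0 x := by
    intro x
    obtain ⟨y, rfl⟩ := (iterate_bijective hF s).2 x
    rw [hTapp]
    have h0 : ∀ z, T 0 z = π₀ z := fun z => hTapp 0 z
    rw [h0]
    exact (projection_comm hc (F := iter F s) (fun x hx => iter_mem_of_stable P hP s hx)
      hQ₀ y).symm
  have hs0 : (s : K(p, k)) ≠ 0 := natCast_ne_zero_K hs
  set π : N →ₗ[K(p, k)] N := (s : K(p, k))⁻¹ • ∑ i ∈ Finset.range s, T i with hπ
  have hπapp : ∀ x, π x = (s : K(p, k))⁻¹ • ∑ i ∈ Finset.range s, T i x := by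
    intro x
    rw [hπ, LinearMap.smul_apply, LinearMap.sum_apply]
  have hπmem : ∀ x, π x ∈ P := by
    intro x
    rw [hπapp]
    exact P.smul_mem _ (Submodule.sum_mem _ (fun i _ => hTmem i x))
  have hπid : ∀ x ∈ P, π x = x := by
    intro x hx
    rw [hπapp, Finset.sum_congr rfl (fun i _ => hTid i x hx), Finset.sum_const,
      Finset.card_range, ← Nat.cast_smul_eq_nsmul K(p, k), smul_smul, inv_mul_cancel₀ hs0,
      one_smul]
  have hπF : ∀ x, F (π x) = π (F x) := by
    intro x
    rw [hπapp, hπapp, map_smulₛₗ, map_inv₀, map_natCast, map_sum]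
    congr 1
    rw [Finset.sum_congr rfl (fun i _ => hTF i x)]
    have h1 := Finset.sum_range_succ' (fun i => T i (F x)) s
    have h2 := Finset.sum_range_succ (fun i => T i (F x)) s
    rw [h1, hTs] at h2
    exact add_right_cancel h2
  refine ⟨LinearMap.ker π, ?_, ?_⟩
  · intro x hx
    rw [LinearMap.mem_ker] at hx ⊢
    rw [← hπF, hx, map_zero]
  · have := LinearMap.isCompl_of_proj (f := π.codRestrict P hπmem)
      (fun x => Subtype.ext (hπid x x.2))
    rwa [LinearMap.ker_codRestrict] at this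


/-- **Semisimplicity, isoclinic case.** -/
theorem exists_stable_compl_of_isIsoclinic [IsAlgClosed k] {c : ℤ} (hc : c ≠ 0)
    (hτ : IsFrobPow τ c) {F : N →ₛₗ[τ] N} (hF : IsIsoc F) {μ : ℚ} (hμ : IsIsoclinic F μ)
    (P : Submodule K(p, k) N) (hP : ∀ x ∈ P, F x ∈ P) :
    ∃ Q : Submodule K(p, k) N, (∀ x ∈ Q, F x ∈ Q) ∧ IsCompl P Q := by
  obtain ⟨M, hM, r, s, hs, -, h⟩ := hμ
  have hgood := hτ.good
  set G := (p : K(p, k)) ^ (-r) • iter F s with hG
  have hGM : latImg G 1 M = M := by
    rw [hG, latImg_twist hgood, Nat.cast_one, mul_one, mul_one, h, ← pPow_add, neg_add_cancel,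
      pPow_zero]
  obtain ⟨n, e, he⟩ := exists_lattice_basis hM
  have hcs : c * (s : ℤ) ≠ 0 := mul_ne_zero hc (by exact_mod_cast hs.ne')
  obtain ⟨b, hb, -⟩ := lang_isoc hcs (hτ.pow s) he hGM
  obtain ⟨S, hS⟩ := exists_compl_span P b b.span_eq
  refine exists_stable_compl_of_iter hgood hF hs hS hP ?_
  intro x hx
  induction hx using Submodule.span_induction with
  | mem x hx =>
    obtain ⟨i, hi, rfl⟩ := hx
    have h1 : iter F s (b i) = (p : K(p, k)) ^ r • G (b i) := by
      rw [hG, LinearMap.smul_apply, smul_smul, ← zpow_add₀ p_ne_zero, add_neg_cancel, zpow_zero,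
        one_smul]
    rw [h1, hb]
    exact Submodule.smul_mem _ _ (Submodule.subset_span ⟨i, hi, rfl⟩)
  | zero => rw [map_zero]; exact Submodule.zero_mem _
  | add x y _ _ hx hy => rw [map_add]; exact Submodule.add_mem _ hx hy
  | smul a x _ hx => rw [map_smulₛₗ]; exact Submodule.smul_mem _ _ hx


/-- The slope parts of a stable subspace lie in the slope parts of the ambient space. -/
lemma map_slopePart_restrict_le (hτ : Good τ) {F : N →ₛₗ[τ] N} (hF : IsIsoc F)
    (P : Submodule K(p, k) N) (hP : ∀ x ∈ P, F x ∈ P) (μ : ℚ) :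
    (slopePart (F.restrict hP) μ).map P.subtype ≤ slopePart F μ := by
  have hFP := isIsoc_restrict hτ hF P hP
  obtain ⟨hst, h⟩ := slopePart_isIsoclinic hτ hFP μ
  have hiso := (isIsoclinic_restrict_iff (F.restrict hP) _ hst μ).mp h
  have h1 := hiso.map P.subtype (F' := F) (fun x => rfl)
  refine le_slopePart ?_ h1
  rintro _ ⟨x, hx, rfl⟩
  exact ⟨(F.restrict hP) x, hst x hx, rfl⟩

/-- Transfer of complements from a stable subspace `B` (as a type) to the ambient space. -/
lemma exists_compl_in_sub {F : N →ₛₗ[τ] N} {B P : Submodule K(p, k) N}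
    (hB : ∀ x ∈ B, F x ∈ B) (hP : ∀ x ∈ P, F x ∈ P)
    (h : ∀ P' : Submodule K(p, k) B, (∀ x ∈ P', (F.restrict hB) x ∈ P') →
      ∃ Q' : Submodule K(p, k) B, (∀ x ∈ Q', (F.restrict hB) x ∈ Q') ∧ IsCompl P' Q') :
    ∃ Q : Submodule K(p, k) N, Q ≤ B ∧ (∀ x ∈ Q, F x ∈ Q) ∧ P ⊓ B ⊓ Q = ⊥ ∧
      B ≤ (P ⊓ B) ⊔ Q := by
  obtain ⟨Q', hQ'st, hQ'c⟩ := h (P.comap B.subtype) (fun x hx => hP _ hx)
  refine ⟨Q'.map B.subtype, Submodule.map_subtype_le _ _, ?_, ?_, ?_⟩
  · rintro _ ⟨y, hy, rfl⟩
    exact ⟨(F.restrict hB) y, hQ'st y hy, rfl⟩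
  · rw [eq_bot_iff]
    rintro x ⟨⟨hxP, -⟩, ⟨y, hy, rfl⟩⟩
    have h0 : y ∈ P.comap B.subtype ⊓ Q' := ⟨hxP, hy⟩
    rw [hQ'c.inf_eq_bot, Submodule.mem_bot] at h0
    rw [h0]
    exact Submodule.zero_mem _
  · intro x hx
    have h0 : (⟨x, hx⟩ : B) ∈ P.comap B.subtype ⊔ Q' := by rw [hQ'c.sup_eq_top]; trivial
    obtain ⟨y, hy, z, hz, hyz⟩ := Submodule.mem_sup.mp h0
    have h1 : x = (y : N) + (z : N) := by
      have := congrArg Subtype.val hyz
      simpa using this.symm
    rw [h1]
    exact Submodule.add_mem_sup ⟨hy, y.2⟩ ⟨z, hz, rfl⟩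

/-- Gluing complements along a direct sum decomposition. -/
lemma isCompl_of_pieces {K : Type*} [Field K] {N : Type*} [AddCommGroup N] [Module K N]
    {B P₀ P Q₁ Q₂ : Submodule K N} (hc : IsCompl B P₀)
    (hP : P ≤ (P ⊓ B) ⊔ (P ⊓ P₀)) (h1 : Q₁ ≤ B) (h2 : Q₂ ≤ P₀)
    (d1 : P ⊓ B ⊓ Q₁ = ⊥) (s1 : B ≤ (P ⊓ B) ⊔ Q₁)
    (d2 : P ⊓ P₀ ⊓ Q₂ = ⊥) (s2 : P₀ ≤ (P ⊓ P₀) ⊔ Q₂) : IsCompl P (Q₁ ⊔ Q₂) := by
  constructor
  · rw [Submodule.disjoint_def]
    intro x hxP hxQ
    obtain ⟨b, hb, c, hc', rfl⟩ := Submodule.mem_sup.mp hxQ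
    obtain ⟨b', hb', c', hc'', hbc⟩ := Submodule.mem_sup.mp (hP hxP)
    have hd : b - b' = c' - c := by
      rw [sub_eq_sub_iff_add_eq_add, add_comm c' b', hbc, add_comm]
    have hm : b - b' ∈ B ⊓ P₀ :=
      ⟨B.sub_mem (h1 hb) hb'.2, hd ▸ P₀.sub_mem hc''.2 (h2 hc')⟩
    rw [hc.inf_eq_bot, Submodule.mem_bot, sub_eq_zero] at hm
    have hm' : c' - c = 0 := by rw [← hd, hm, sub_self]
    rw [sub_eq_zero] at hm'
    have hb0 : b ∈ P ⊓ B ⊓ Q₁ := ⟨hm ▸ hb', hb⟩
    have hc0 : c ∈ P ⊓ P₀ ⊓ Q₂ := ⟨hm' ▸ hc'', hc'⟩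
    rw [d1, Submodule.mem_bot] at hb0
    rw [d2, Submodule.mem_bot] at hc0
    rw [hb0, hc0, add_zero]
  · rw [codisjoint_iff, eq_top_iff, ← hc.sup_eq_top]
    refine sup_le (s1.trans ?_) (s2.trans ?_)
    · exact sup_le (inf_le_left.trans le_sup_left) (le_sup_left.trans le_sup_right)
    · exact sup_le (inf_le_left.trans le_sup_left) (le_sup_right.trans le_sup_right)


/-- **Semisimplicity** of the category of isocrystals over an algebraically closed field
(twist a non-zero power of Frobenius). -/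
theorem exists_stable_compl_aux [IsAlgClosed k] {c : ℤ} (hc : c ≠ 0) (hτ : IsFrobPow τ c) :
    ∀ (n : ℕ) (N : Type v) [AddCommGroup N] [Module (WittVector p k) N] [Module K(p, k) N]
    [IsScalarTower (WittVector p k) K(p, k) N] (F : N →ₛₗ[τ] N), IsIsoc F →
    Module.finrank K(p, k) N = n → ∀ (P : Submodule K(p, k) N), (∀ x ∈ P, F x ∈ P) →
    ∃ Q : Submodule K(p, k) N, (∀ x ∈ Q, F x ∈ Q) ∧ IsCompl P Q := by
  intro n
  induction n using Nat.strong_induction_on with
  | _ n ih =>
    intro N _ _ _ _ F hF hn P hP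
    have hgood := hτ.good
    have hfin := hF.finite
    rcases subsingleton_or_nontrivial N with hsub | hnt
    · refine ⟨⊤, fun _ _ => trivial, ?_⟩
      have : P = ⊥ := by
        rw [eq_bot_iff]; intro x _; rw [Submodule.mem_bot]; exact Subsingleton.elim _ _
      rw [this]
      exact isCompl_bot_top
    · obtain ⟨B, P₀, lam, hcBP, hBne, hBst, hP₀st, hBiso, hPno⟩ := exists_splitting hgood hF
      obtain ⟨hlamB, -, hne⟩ := slopePart_of_splitting hgood hF hcBP hBst hP₀st hBiso hPno
      -- Step A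
      have hA : P ≤ (P ⊓ B) ⊔ (P ⊓ P₀) := by
        have hFP := isIsoc_restrict hgood hF P hP
        obtain ⟨-, htop⟩ := slope_decomposition_aux hgood _ P (F.restrict hP) hFP rfl
        have h1 : P = (⨆ μ : ℚ, slopePart (F.restrict hP) μ).map P.subtype := by
          rw [htop, Submodule.map_top, Submodule.range_subtype]
        rw [Submodule.map_iSup] at h1
        conv_lhs => rw [h1]
        apply iSup_le
        intro μ
        have h2 := map_slopePart_restrict_le hgood hF P hP μ
        have h3 : (slopePart (F.restrict hP) μ).map P.subtype ≤ P := Submodule.map_subtype_le _ _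
        by_cases hμ : μ = lam
        · subst hμ
          rw [hlamB] at h2
          exact (le_inf h3 h2).trans le_sup_left
        · have h4 : slopePart F μ ≤ P₀ := by
            rw [hne μ hμ]
            exact Submodule.map_subtype_le _ _
          exact (le_inf h3 (h2.trans h4)).trans le_sup_right
      -- Step B
      obtain ⟨Q₁, hQ₁B, hQ₁st, hd1, hs1⟩ := exists_compl_in_sub (F := F) (P := P) hBst hP
        (fun P' hP' => exists_stable_compl_of_isIsoclinic hc hτ
          (isIsoc_restrict hgood hF B hBst)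
          ((isIsoclinic_restrict_iff F B hBst lam).mpr hBiso) P' hP')
      -- Step C
      have hlt : Module.finrank K(p, k) P₀ < n := by
        have h1 := Submodule.finrank_add_eq_of_isCompl hcBP
        have h2 : 0 < Module.finrank K(p, k) B := by
          rw [Module.finrank_pos_iff]
          exact Submodule.nontrivial_iff_ne_bot.mpr hBne
        omega
      obtain ⟨Q₂, hQ₂P₀, hQ₂st, hd2, hs2⟩ := exists_compl_in_sub (F := F) (P := P) hP₀st hP
        (fun P' hP' => ih _ hlt P₀ (F.restrict hP₀st)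
          (isIsoc_restrict hgood hF P₀ hP₀st) rfl P' hP')
      refine ⟨Q₁ ⊔ Q₂, ?_, isCompl_of_pieces hcBP hA hQ₁B hQ₂P₀ hd1 hs1 hd2 hs2⟩
      intro x hx
      obtain ⟨a, ha, b, hb, rfl⟩ := Submodule.mem_sup.mp hx
      rw [map_add]
      exact Submodule.add_mem_sup (hQ₁st a ha) (hQ₂st b hb)

theorem exists_stable_compl [IsAlgClosed k] {c : ℤ} (hc : c ≠ 0) (hτ : IsFrobPow τ c)
    {F : N →ₛₗ[τ] N} (hF : IsIsoc F) (P : Submodule K(p, k) N) (hP : ∀ x ∈ P, F x ∈ P) :
    ∃ Q : Submodule K(p, k) N, (∀ x ∈ Q, F x ∈ Q) ∧ IsCompl P Q :=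
  exists_stable_compl_aux hc hτ _ N F hF rfl P hP

end Groth.Agent.Lib.Helper8.IsocL
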