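import Mathlib
import Groth.Agent.Lib.Helper8.Isoc13
import Groth.Agent.Lib.Helper8.Isoc11
set_option backward.isDefEq.respectTransparency.types false
set_option autoImplicit false
set_option linter.unusedSectionVars false

open scoped Pointwise Isocrystal

universe u v w

namespace Groth.Agent.Lib.Helper8.IsocL

open Isoc Filter Topology Module LangL

variable {p : ℕ} [Fact p.Prime] {k : Type u} [Field k] [CharP k p] [PerfectRing k p]
variable {N : Type v} [AddCommGroup N] [Module (WittVector p k) N] [Module K(p, k) N]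
  [IsScalarTower (WittVector p k) K(p, k) N]
variable {τ τ' τ'' : K(p, k) →+* K(p, k)}

/-- From `F^{h m} M = p^{d m} M` to a lattice with `F^h M' = p^d M'`. -/
lemma exists_lattice_reduced (hτ : Good τ) {F : N →ₛₗ[τ] N} (hF : IsIsoc F)
    {M : Submodule (WittVector p k) N} (hM : M.IsLattice K(p, k)) {h₀ m : ℕ} {d : ℤ} (hm : 0 < m)
    (h : latImg F (h₀ * m) M = pPow (d * m) M) :
    ∃ M' : Submodule (WittVector p k) N, M'.IsLattice K(p, k) ∧ latImg F h₀ M' = pPow d M' := by
  classical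
  set G' := (p : K(p, k)) ^ (-d) • iter F h₀ with hG'
  have hτ' := hτ.pow h₀
  have hG'i : IsIsoc G' := isIsoc_twist hF (-d) h₀
  set f : ℕ → Submodule (WittVector p k) N := fun i => latImg G' i M with hf
  have hf0 : f 0 = M := latImg_zero G' M
  have hfm : f m = M := by
    rw [hf]
    show latImg G' m M = M
    rw [hG', latImg_twist hτ, h, ← pPow_add]
    have : -d * (m : ℤ) + d * m = 0 := by ring
    rw [this, pPow_zero]
  set M' := (Finset.range m).sup f with hM'
  have hstep : latImg G' 1 M' = M' := by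
    rw [hM', latImg_finset_sup hτ']
    have h1 : ∀ i, latImg G' 1 (f i) = f (i + 1) := by
      intro i
      rw [hf]
      show latImg G' 1 (latImg G' i M) = latImg G' (i + 1) M
      rw [add_comm, latImg_add hτ']
    simp only [h1]
    apply le_antisymm
    · apply Finset.sup_le
      intro i hi
      rw [Finset.mem_range] at hi
      by_cases him : i + 1 = m
      · rw [him, hfm, ← hf0]
        exact Finset.le_sup (f := f) (Finset.mem_range.mpr hm)
      · exact Finset.le_sup (f := f) (Finset.mem_range.mpr (by omega))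
    · apply Finset.sup_le
      intro i hi
      rw [Finset.mem_range] at hi
      rcases Nat.eq_zero_or_pos i with h0 | hpos
      · subst h0
        rw [hf0, ← hfm]
        have : m = (m - 1) + 1 := by omega
        rw [this]
        exact Finset.le_sup (f := fun i => f (i + 1)) (Finset.mem_range.mpr (by omega))
      · have : i = (i - 1) + 1 := by omega
        rw [this]
        exact Finset.le_sup (f := fun i => f (i + 1)) (Finset.mem_range.mpr (by omega))
  refine ⟨M', ⟨?_, ?_⟩, ?_⟩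
  · rw [hM']
    have : ∀ S : Finset ℕ, (S.sup f).FG := by
      intro S
      induction S using Finset.induction_on with
      | empty => rw [Finset.sup_empty]; exact Submodule.fg_bot
      | insert i S _ ih =>
        rw [Finset.sup_insert]
        exact (isLattice_latImg hτ' hG'i hM i).fg.sup ih
    exact this _
  · rw [eq_top_iff, ← hM.span_eq_top]
    apply Submodule.span_mono
    have : M ≤ M' := by
      rw [← hf0]
      exact Finset.le_sup (f := f) (Finset.mem_range.mpr hm)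
    exact this
  · have h2 := latImg_twist hτ F (-d) h₀ 1 M'
    rw [← hG', hstep, Nat.cast_one, mul_one, mul_one] at h2
    conv_rhs => rw [h2]
    rw [← pPow_add, add_neg_cancel, pPow_zero]


/-- In a non-zero isoclinic isocrystal of slope `μ` over an algebraically closed field there is a
non-zero vector with `F^h x = p^d x`, where `μ = d/h` in lowest terms. -/
lemma exists_eigvec_of_isIsoclinic [IsAlgClosed k] [Nontrivial N] {c : ℤ} (hc : c ≠ 0)
    (hτ : IsFrobPow τ c) {F : N →ₛₗ[τ] N} (hF : IsIsoc F) {μ : ℚ} (hμ : IsIsoclinic F μ) :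
    ∃ x : N, x ≠ 0 ∧ iter F μ.den x = (p : K(p, k)) ^ μ.num • x := by
  obtain ⟨M, hM, r, s, hs, hrs, h⟩ := hμ
  have hgood := hτ.good
  have hs0 : (s : ℤ) ≠ 0 := by exact_mod_cast hs.ne'
  obtain ⟨c₀, hc₁, hc₂⟩ := Rat.exists_eq_mul_div_num_and_eq_mul_div_den r hs0
  have hrs' : (r : ℚ) / ((s : ℤ) : ℚ) = μ := by rw [← hrs]; norm_cast
  rw [hrs'] at hc₁ hc₂
  have hc₀pos : 0 < c₀ := by
    by_contra hcon
    push Not at hcon
    have h1 : c₀ * (μ.den : ℤ) ≤ 0 := mul_nonpos_of_nonpos_of_nonneg hcon (by positivity)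
    have h2 : (0 : ℤ) < s := by exact_mod_cast hs
    omega
  obtain ⟨m, rfl⟩ := Int.eq_ofNat_of_zero_le hc₀pos.le
  have hm : 0 < m := by exact_mod_cast hc₀pos
  have hs' : s = μ.den * m := by
    have : (s : ℤ) = ((μ.den * m : ℕ) : ℤ) := by rw [hc₂]; push_cast; ring
    exact_mod_cast this
  have hr' : r = μ.num * m := by rw [hc₁]; ring
  rw [hs', hr'] at h
  obtain ⟨M', hM', h'⟩ := exists_lattice_reduced hgood hF hM hm h
  set G := (p : K(p, k)) ^ (-μ.num) • iter F μ.den with hG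
  have hGM : latImg G 1 M' = M' := by
    rw [hG, latImg_twist hgood, Nat.cast_one, mul_one, mul_one, h', ← pPow_add, neg_add_cancel,
      pPow_zero]
  obtain ⟨n, e, he⟩ := exists_lattice_basis hM'
  have hcs : c * (μ.den : ℤ) ≠ 0 := mul_ne_zero hc (by exact_mod_cast μ.den_pos.ne')
  obtain ⟨b, hb, -⟩ := lang_isoc hcs (hτ.pow μ.den) he hGM
  have hn : 0 < n := by
    rcases Nat.eq_zero_or_pos n with h0 | hpos
    · exfalso
      subst h0
      obtain ⟨x, hx⟩ := exists_ne (0 : N)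
      apply hx
      apply b.repr.injective
      ext i
      exact i.elim0
    · exact hpos
  refine ⟨b ⟨0, hn⟩, b.ne_zero _, ?_⟩
  have h1 := hb ⟨0, hn⟩
  rw [hG, LinearMap.smul_apply] at h1
  conv_rhs => rw [← h1]
  rw [smul_smul, ← zpow_add₀ p_ne_zero, add_neg_cancel, zpow_zero, one_smul]

/-- The map `y ↦ ∑ i, y i • F^i x`. -/
noncomputable def stdMap (F : N →ₛₗ[τ] N) (h₀ : ℕ) (x : N) : (Fin h₀ → K(p, k)) →ₗ[K(p, k)] N :=
  Fintype.linearCombination K(p, k) (fun i : Fin h₀ => iter F i x)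

lemma stdMap_apply (F : N →ₛₗ[τ] N) (h₀ : ℕ) (x : N) (y : Fin h₀ → K(p, k)) :
    stdMap F h₀ x y = ∑ i, y i • iter F i x := rfl

lemma stdMap_single_zero (F : N →ₛₗ[τ] N) {h₀ : ℕ} (hh : 0 < h₀) (x : N) :
    stdMap F h₀ x (Pi.single ⟨0, hh⟩ 1) = x := by
  classical
  unfold stdMap
  rw [Fintype.linearCombination_apply_single, one_smul]
  rfl

lemma stdMap_equivariant (F : N →ₛₗ[τ] N) {h₀ : ℕ} {d : ℤ} {x : N}
    (hx : iter F h₀ x = (p : K(p, k)) ^ d • x) (y : Fin h₀ → K(p, k)) :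
    stdMap F h₀ x (stdIsoc τ d h₀ y) = F (stdMap F h₀ x y) := by
  rcases Nat.eq_zero_or_pos h₀ with h0 | hpos
  · subst h0
    rw [stdMap_apply, stdMap_apply]
    simp
  obtain ⟨n, rfl⟩ : ∃ n, h₀ = n + 1 := ⟨h₀ - 1, by omega⟩
  rw [stdMap_apply, stdMap_apply, map_sum, ← Equiv.sum_comp (finRotate (n + 1))]
  apply Finset.sum_congr rfl
  intro i _
  rw [stdIsoc_apply, Equiv.symm_apply_apply, map_smulₛₗ, ← iter_succ_apply]
  by_cases hi : i = Fin.last n
  · subst hi
    rw [finRotate_last]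
    simp only [Fin.val_zero, if_true, Fin.val_last]
    rw [hx, smul_smul, mul_comm]
    rfl
  · have h1 : ((finRotate (n + 1) i : Fin (n + 1)) : ℕ) = i + 1 := coe_finRotate_of_ne_last hi
    rw [h1, if_neg (Nat.succ_ne_zero _), one_mul]


lemma stdMap_injective (F : N →ₛₗ[τ] N) {h₀ : ℕ} (hh : 0 < h₀) {d : ℤ} {x : N} (hx0 : x ≠ 0)
    (hx : iter F h₀ x = (p : K(p, k)) ^ d • x)
    (hsimple : ∀ P : Submodule K(p, k) (Fin h₀ → K(p, k)),
      (∀ y ∈ P, stdIsoc τ d h₀ y ∈ P) → P = ⊥ ∨ P = ⊤) :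
    Function.Injective (stdMap F h₀ x) := by
  rw [← LinearMap.ker_eq_bot]
  rcases hsimple (LinearMap.ker (stdMap F h₀ x)) (fun y hy => by
    rw [LinearMap.mem_ker] at hy ⊢
    rw [stdMap_equivariant F hx, hy, map_zero]) with h | h
  · exact h
  · exfalso
    apply hx0
    have h1 : (Pi.single ⟨0, hh⟩ 1 : Fin h₀ → K(p, k)) ∈ LinearMap.ker (stdMap F h₀ x) := by
      rw [h]; trivial
    rw [LinearMap.mem_ker, stdMap_single_zero] at h1
    exact h1

lemma stdMap_range_le (F : N →ₛₗ[τ] N) (h₀ : ℕ) {x : N} {B : Submodule K(p, k) N}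
    (hB : ∀ x ∈ B, F x ∈ B) (hx : x ∈ B) : LinearMap.range (stdMap F h₀ x) ≤ B := by
  rintro _ ⟨y, rfl⟩
  rw [stdMap_apply]
  exact Submodule.sum_mem _ (fun i _ => B.smul_mem _ (iter_mem_of_stable B hB i hx))

/-- The Newton multiplicities of an isoclinic isocrystal. -/
lemma newtonMult_of_isIsoclinic (hτ : Good τ) {F : N →ₛₗ[τ] N} (hF : IsIsoc F) {lam : ℚ}
    (h : IsIsoclinic F lam) (μ : ℚ) :
    newtonMult F μ = if lam = μ then Module.finrank K(p, k) N else 0 := by
  have htop : slopePart F lam = ⊤ := by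
    rw [eq_top_iff]
    exact le_slopePart (P := ⊤) (fun _ _ => trivial) ((isoIn_top_iff F lam).mpr h)
  unfold newtonMult
  split_ifs with hμ
  · subst hμ
    rw [htop, finrank_top]
  · obtain ⟨hind, -⟩ := slope_decomposition_aux hτ _ N F hF rfl
    have h1 := hind μ
    have h2 : slopePart F lam ≤ ⨆ ν, ⨆ (_ : ν ≠ μ), slopePart F ν :=
      le_iSup₂_of_le lam hμ le_rfl
    rw [htop, top_le_iff] at h2
    rw [h2, disjoint_top] at h1
    have h1' : slopePart F μ = ⊥ := h1
    rw [h1', finrank_bot]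

/-- Slope parts and direct sum decompositions. -/
lemma slopePart_inf_eq_map (hτ : Good τ) {F : N →ₛₗ[τ] N} (hF : IsIsoc F)
    {S Q : Submodule K(p, k) N} (hc : IsCompl S Q) (hS : ∀ x ∈ S, F x ∈ S)
    (hQ : ∀ x ∈ Q, F x ∈ Q) (μ : ℚ) :
    slopePart F μ ⊓ S = (slopePart (F.restrict hS) μ).map S.subtype ∧
      slopePart F μ ⊓ S = (slopePart F μ).map (S.projection Q hc) := by
  obtain ⟨hZst, hZ⟩ := slopePart_isIsoclinic hτ hF μ
  have hZiso := (isIsoclinic_restrict_iff F _ hZst μ).mp hZ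
  set Z := slopePart F μ with hZdef
  set π := S.projection Q hc with hπ
  have hcomm : ∀ x, π (F x) = F (π x) := projection_comm hc hS hQ
  have hmapiso : IsoIn F (Z.map π) μ := hZiso.map π hcomm
  have ha : Z.map π ≤ Z := by
    refine le_slopePart ?_ hmapiso
    rintro _ ⟨z, hz, rfl⟩
    exact ⟨F z, hZst z hz, hcomm z⟩
  have hb : Z ⊓ S = Z.map π := by
    apply le_antisymm
    · rintro z ⟨hzZ, hzS⟩
      exact ⟨z, hzZ, Submodule.projection_apply_of_mem_left hc hzS⟩
    · refine le_inf ha ?_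
      rintro _ ⟨z, -, rfl⟩
      exact Submodule.projection_apply_mem hc z
  refine ⟨?_, hb⟩
  apply le_antisymm
  · have hiso : IsoIn F (Z ⊓ S) μ := hb ▸ hmapiso
    have h1 : IsoIn (F.restrict hS) ((Z ⊓ S).comap S.subtype) μ :=
      hiso.comap S.subtype Subtype.val_injective (fun x => rfl)
        (by rw [Submodule.range_subtype]; exact inf_le_right)
    have h2 : (Z ⊓ S).comap S.subtype ≤ slopePart (F.restrict hS) μ := by
      refine le_slopePart ?_ h1
      rintro x ⟨hxZ, hxS⟩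
      exact ⟨hZst _ hxZ, hS _ hxS⟩
    rintro z ⟨hzZ, hzS⟩
    exact ⟨⟨z, hzS⟩, h2 ⟨hzZ, hzS⟩, rfl⟩
  · exact le_inf (map_slopePart_restrict_le hτ hF S hS μ) (Submodule.map_subtype_le _ _)

/-- Additivity of Newton multiplicities over stable direct sum decompositions. -/
lemma newtonMult_add_of_isCompl (hτ : Good τ) {F : N →ₛₗ[τ] N} (hF : IsIsoc F)
    {S Q : Submodule K(p, k) N} (hc : IsCompl S Q) (hS : ∀ x ∈ S, F x ∈ S)
    (hQ : ∀ x ∈ Q, F x ∈ Q) (μ : ℚ) :
    newtonMult F μ = newtonMult (F.restrict hS) μ + newtonMult (F.restrict hQ) μ := by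
  have hfin := hF.finite
  obtain ⟨h1, h1'⟩ := slopePart_inf_eq_map hτ hF hc hS hQ μ
  obtain ⟨h2, h2'⟩ := slopePart_inf_eq_map hτ hF hc.symm hQ hS μ
  set Z := slopePart F μ with hZdef
  have hsup : Z = (Z ⊓ S) ⊔ (Z ⊓ Q) := by
    apply le_antisymm
    · intro z hz
      rw [← Submodule.projection_add_projection_eq_self hc z]
      apply Submodule.add_mem_sup
      · rw [h1']; exact ⟨z, hz, rfl⟩
      · rw [h2']; exact ⟨z, hz, rfl⟩
    · exact sup_le inf_le_left inf_le_left
  have hinf : (Z ⊓ S) ⊓ (Z ⊓ Q) = ⊥ := by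
    rw [eq_bot_iff, ← hc.inf_eq_bot]
    exact inf_le_inf inf_le_right inf_le_right
  have h3 := Submodule.finrank_sup_add_finrank_inf_eq (Z ⊓ S) (Z ⊓ Q)
  rw [← hsup, hinf, finrank_bot, add_zero, h1, h2, Submodule.finrank_map_subtype_eq,
    Submodule.finrank_map_subtype_eq] at h3
  exact h3


/-- Adding one standard summand to a standard decomposition of a complement. -/
lemma exists_equiv_cons {F : N →ₛₗ[τ] N} {S Q : Submodule K(p, k) N} (hc : IsCompl S Q)
    (hS : ∀ x ∈ S, F x ∈ S) (hQ : ∀ x ∈ Q, F x ∈ Q) {d₀ : ℤ} {h₀ : ℕ}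
    (ψ : (Fin h₀ → K(p, k)) ≃ₗ[K(p, k)] S)
    (hψ : ∀ y, (ψ (stdIsoc τ d₀ h₀ y) : N) = F (ψ y)) {t : ℕ} {d : Fin t → ℤ} {h : Fin t → ℕ}
    (e' : Q ≃ₗ[K(p, k)] ((i : Fin t) → (Fin (h i) → K(p, k))))
    (he' : ∀ (x : Q) (i : Fin t), e' ((F.restrict hQ) x) i = stdIsoc τ (d i) (h i) (e' x i)) :
    ∃ e : N ≃ₗ[K(p, k)]
        ((i : Fin (t + 1)) → (Fin ((Fin.cons h₀ h : Fin (t + 1) → ℕ) i) → K(p, k))),
      ∀ (x : N) (i : Fin (t + 1)), e (F x) i =
        stdIsoc τ ((Fin.cons d₀ d : Fin (t + 1) → ℤ) i) ((Fin.cons h₀ h : Fin (t + 1) → ℕ) i)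
          (e x i) := by
  set E₁ := Submodule.prodEquivOfIsCompl S Q hc with hE₁
  set E₃ := Fin.consLinearEquiv K(p, k)
    (fun i : Fin (t + 1) => (Fin ((Fin.cons h₀ h : Fin (t + 1) → ℕ) i) → K(p, k))) with hE₃
  refine ⟨E₁.symm ≪≫ₗ (ψ.symm.prodCongr e') ≪≫ₗ E₃, ?_⟩
  intro x i
  obtain ⟨⟨s, q⟩, rfl⟩ := E₁.surjective x
  have hF1 : F (E₁ (s, q)) = E₁ ((F.restrict hS) s, (F.restrict hQ) q) := by
    rw [hE₁, Submodule.coe_prodEquivOfIsCompl', Submodule.coe_prodEquivOfIsCompl', map_add]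
    rfl
  rw [hF1]
  simp only [LinearEquiv.trans_apply, LinearEquiv.symm_apply_apply, LinearEquiv.prodCongr_apply]
  have hs : ψ.symm ((F.restrict hS) s) = stdIsoc τ d₀ h₀ (ψ.symm s) := by
    rw [LinearEquiv.symm_apply_eq]
    apply Subtype.ext
    rw [hψ, LinearEquiv.apply_symm_apply]
    rfl
  induction i using Fin.cases with
  | zero =>
    show ψ.symm ((F.restrict hS) s) = stdIsoc τ d₀ h₀ (ψ.symm s)
    exact hs
  | succ j =>
    show e' ((F.restrict hQ) q) j = stdIsoc τ (d j) (h j) (e' q j)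
    exact he' q j


/-- **Dieudonné–Manin classification** for a twist which is a non-zero power of Frobenius over an
algebraically closed field, assuming the simplicity of the standard isocrystals. -/
theorem classification_aux [IsAlgClosed k] {c : ℤ} (hc : c ≠ 0) (hτ : IsFrobPow τ c)
    (hsimple : ∀ (d : ℤ) (h : ℕ), 0 < h → Int.gcd d h = 1 →
      ∀ P : Submodule K(p, k) (Fin h → K(p, k)),
        (∀ y ∈ P, stdIsoc τ d h y ∈ P) → P = ⊥ ∨ P = ⊤) :
    ∀ (n : ℕ) (N : Type v) [AddCommGroup N] [Module (WittVector p k) N] [Module K(p, k) N]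
    [IsScalarTower (WittVector p k) K(p, k) N] (F : N →ₛₗ[τ] N), IsIsoc F →
    Module.finrank K(p, k) N = n →
    ∃ (t : ℕ) (d : Fin t → ℤ) (h : Fin t → ℕ)
      (e : N ≃ₗ[K(p, k)] ((i : Fin t) → (Fin (h i) → K(p, k)))),
      (∀ i, 0 < h i ∧ Int.gcd (d i) (h i) = 1) ∧
      (∀ (x : N) (i : Fin t), e (F x) i = stdIsoc τ (d i) (h i) (e x i)) ∧
      ∀ μ : ℚ, newtonMult F μ =
        ∑ i : Fin t, (if ((d i : ℚ) / (h i : ℚ)) = μ then h i else 0) := by
  intro n
  induction n using Nat.strong_induction_on with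
  | _ n ih =>
    intro N _ _ _ _ F hF hn
    have hgood := hτ.good
    have hfin := hF.finite
    rcases subsingleton_or_nontrivial N with hsub | hnt
    · refine ⟨0, fun i => i.elim0, fun i => i.elim0, LinearEquiv.ofSubsingleton _ _,
        fun i => i.elim0, fun _ i => i.elim0, ?_⟩
      intro μ
      unfold newtonMult
      rw [Module.finrank_zero_of_subsingleton]
      simp
    · obtain ⟨B, P₀, lam, hcBP, hBne, hBst, hP₀st, hBiso, hPno⟩ := exists_splitting hgood hF
      have hFB := isIsoc_restrict hgood hF B hBst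
      have hBisoc : IsIsoclinic (F.restrict hBst) lam :=
        (isIsoclinic_restrict_iff F B hBst lam).mpr hBiso
      have hBnt : Nontrivial B := Submodule.nontrivial_iff_ne_bot.mpr hBne
      obtain ⟨x', hx'0, hx'⟩ := exists_eigvec_of_isIsoclinic hc hτ hFB hBisoc
      set x : N := (x' : N) with hxdef
      have hx0 : x ≠ 0 := fun h0 => hx'0 (Subtype.ext h0)
      have hx : iter F lam.den x = (p : K(p, k)) ^ lam.num • x := by
        have := congrArg Subtype.val hx'
        rw [coe_iter_restrict] at this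
        exact this
      have hden : 0 < lam.den := lam.den_pos
      have hgcd : Int.gcd lam.num (lam.den : ℤ) = 1 := by
        rw [Int.gcd, Int.natAbs_natCast]; exact lam.reduced
      set ψ₀ := stdMap F lam.den x with hψ₀
      have hinj := stdMap_injective F hden hx0 hx (hsimple lam.num lam.den hden hgcd)
      set S := LinearMap.range ψ₀ with hSdef
      have hSB : S ≤ B := stdMap_range_le F lam.den hBst x'.2
      have hSst : ∀ y ∈ S, F y ∈ S := by
        rintro _ ⟨y, rfl⟩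
        exact ⟨stdIsoc τ lam.num lam.den y, stdMap_equivariant F hx y⟩
      let ψ : (Fin lam.den → K(p, k)) ≃ₗ[K(p, k)] S := LinearEquiv.ofInjective ψ₀ hinj
      have hψ : ∀ y, (ψ (stdIsoc τ lam.num lam.den y) : N) = F (ψ y) :=
        fun y => stdMap_equivariant F hx y
      have hSiso : IsIsoclinic (F.restrict hSst) lam := by
        rw [isIsoclinic_restrict_iff]
        have h1 := isoIn_of_isIsoclinic hgood hFB hBisoc (S.comap B.subtype)
          (fun y hy => hSst _ hy)
        have h2 := h1.map B.subtype (F' := F) (fun _ => rfl)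
        rwa [Submodule.map_comap_subtype, inf_eq_right.mpr hSB] at h2
      have hSrank : Module.finrank K(p, k) S = lam.den := by
        rw [← LinearEquiv.finrank_eq ψ, Module.finrank_fin_fun]
      obtain ⟨Q, hQst, hcSQ⟩ := exists_stable_compl hc hτ hF S hSst
      have hlt : Module.finrank K(p, k) Q < n := by
        have := Submodule.finrank_add_eq_of_isCompl hcSQ
        omega
      obtain ⟨t, d, h, e', hdh, he', hmult⟩ := ih _ hlt Q (F.restrict hQst)
        (isIsoc_restrict hgood hF Q hQst) rfl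
      obtain ⟨e, he⟩ := exists_equiv_cons hcSQ hSst hQst ψ hψ e' he'
      refine ⟨t + 1, Fin.cons lam.num d, Fin.cons lam.den h, e, ?_, he, ?_⟩
      · intro i
        induction i using Fin.cases with
        | zero => exact ⟨hden, hgcd⟩
        | succ j => exact hdh j
      · intro μ
        rw [newtonMult_add_of_isCompl hgood hF hcSQ hSst hQst μ,
          newtonMult_of_isIsoclinic hgood (isIsoc_restrict hgood hF S hSst) hSiso μ, hSrank,
          hmult μ, Fin.sum_univ_succ]
        simp only [Fin.cons_zero, Fin.cons_succ]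
        rw [Rat.num_div_den]

theorem classification [IsAlgClosed k] {c : ℤ} (hc : c ≠ 0) (hτ : IsFrobPow τ c)
    (hsimple : ∀ (d : ℤ) (h : ℕ), 0 < h → Int.gcd d h = 1 →
      ∀ P : Submodule K(p, k) (Fin h → K(p, k)),
        (∀ y ∈ P, stdIsoc τ d h y ∈ P) → P = ⊥ ∨ P = ⊤)
    {F : N →ₛₗ[τ] N} (hF : IsIsoc F) :
    ∃ (t : ℕ) (d : Fin t → ℤ) (h : Fin t → ℕ)
      (e : N ≃ₗ[K(p, k)] ((i : Fin t) → (Fin (h i) → K(p, k)))),
      (∀ i, 0 < h i ∧ Int.gcd (d i) (h i) = 1) ∧
      (∀ (x : N) (i : Fin t), e (F x) i = stdIsoc τ (d i) (h i) (e x i)) ∧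
      ∀ μ : ℚ, newtonMult F μ =
        ∑ i : Fin t, (if ((d i : ℚ) / (h i : ℚ)) = μ then h i else 0) :=
  classification_aux hc hτ hsimple _ N F hF rfl

end Groth.Agent.Lib.Helper8.IsocL
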