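import Mathlib

set_option backward.isDefEq.respectTransparency.types false
set_option synthInstance.maxHeartbeats 400000
set_option autoImplicit false
set_option linter.unusedSectionVars false
set_option linter.style.haveILetI false

namespace Groth.Agent.Lib.Helper8.KU1

universe u

/-- `(q+1)^(m+1) ≤ (q+1)^m * q * (m+1) + 1`. -/
lemma key_ineq (q m : ℕ) : (q + 1) ^ (m + 1) ≤ (q + 1) ^ m * q * (m + 1) + 1 := by
  induction m with
  | zero => simp
  | succ m ih =>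
    have h1 : 1 ≤ (q + 1) ^ (m + 1) := Nat.one_le_pow _ _ (by omega)
    calc (q + 1) ^ (m + 1 + 1) = (q + 1) ^ (m + 1) * (q + 1) := pow_succ _ _
      _ ≤ ((q + 1) ^ m * q * (m + 1) + 1) * (q + 1) := Nat.mul_le_mul_right _ ih
      _ = (q + 1) ^ (m + 1) * q * (m + 1) + (q + 1) := by ring
      _ ≤ (q + 1) ^ (m + 1) * q * (m + 1) + ((q + 1) ^ (m + 1) * q + 1) := by nlinarith
      _ = (q + 1) ^ (m + 1) * q * (m + 1 + 1) + 1 := by ring

/-- For `a < n` and `p ≥ 1`: `p^n - p^a ≤ p^(n-1) * (p-1) * (n-a)`. -/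
lemma pow_sub_pow_le (p n a : ℕ) (hp : 1 ≤ p) (ha : a < n) :
    p ^ n - p ^ a ≤ p ^ (n - 1) * (p - 1) * (n - a) := by
  obtain ⟨q, rfl⟩ : ∃ q, p = q + 1 := ⟨p - 1, by omega⟩
  obtain ⟨m, rfl⟩ : ∃ m, n = a + m + 1 := ⟨n - a - 1, by omega⟩
  have e1 : a + m + 1 - 1 = a + m := by omega
  have e2 : a + m + 1 - a = m + 1 := by omega
  have e3 : q + 1 - 1 = q := by omega
  rw [e1, e2, e3]
  have h := key_ineq q m
  have h2 : (q + 1) ^ (a + m + 1) = (q + 1) ^ a * (q + 1) ^ (m + 1) := by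
    rw [← pow_add]; congr 1
  have h3 : (q + 1) ^ (a + m) = (q + 1) ^ a * (q + 1) ^ m := pow_add _ _ _
  rw [h2, h3]
  have h4 : (q + 1) ^ a * (q + 1) ^ (m + 1) ≤
      (q + 1) ^ a * ((q + 1) ^ m * q * (m + 1) + 1) := Nat.mul_le_mul_left _ h
  have h5 : (q + 1) ^ a * ((q + 1) ^ m * q * (m + 1) + 1) =
      (q + 1) ^ a * (q + 1) ^ m * q * (m + 1) + (q + 1) ^ a := by ring
  omega

/-- Binomial coefficients `C(p^n, i)` are divisible by `π^(J (p^n - i))` as soon as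
`π^(p^(n-1) (p-1) J)` divides `p`. -/
lemma choose_dvd (A : Type u) [CommRing A] (π : A) (p n J : ℕ) (hp : p.Prime)
    (hJ : π ^ (p ^ (n - 1) * (p - 1) * J) ∣ (p : A)) (i : ℕ) (h1 : 1 ≤ i) (hi : i ≤ p ^ n) :
    π ^ (J * (p ^ n - i)) ∣ ((Nat.choose (p ^ n) i : ℕ) : A) := by
  rcases eq_or_lt_of_le hi with rfl | hlt
  · simp
  set a := i.factorization p with ha
  have hi0 : i ≠ 0 := by omega
  have hpa : p ^ a ∣ i := Nat.ordProj_dvd i p
  have hpai : p ^ a ≤ i := Nat.le_of_dvd (by omega) hpa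
  have han : a < n := by
    by_contra hcon
    have : p ^ n ≤ p ^ a := Nat.pow_le_pow_right hp.pos (by omega)
    omega
  have hfac := Nat.factorization_choose_prime_pow hp hi hi0
  have hdvd : p ^ (n - a) ∣ Nat.choose (p ^ n) i := by
    rw [← hfac]
    exact Nat.ordProj_dvd _ p
  obtain ⟨t, ht⟩ := hdvd
  rw [ht, Nat.cast_mul, Nat.cast_pow]
  refine Dvd.dvd.mul_right ?_ _
  have h2 : π ^ ((p ^ (n - 1) * (p - 1) * J) * (n - a)) ∣ (p : A) ^ (n - a) := by
    rw [pow_mul]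
    exact pow_dvd_pow_of_dvd hJ _
  refine dvd_trans (pow_dvd_pow π ?_) h2
  have h3 := pow_sub_pow_le p n a hp.pos han
  calc J * (p ^ n - i) ≤ J * (p ^ n - p ^ a) := Nat.mul_le_mul_left _ (by omega)
    _ ≤ J * (p ^ (n - 1) * (p - 1) * (n - a)) := Nat.mul_le_mul_left _ h3
    _ = p ^ (n - 1) * (p - 1) * J * (n - a) := by ring

/-- Binomial expansion with divided coefficients. -/
lemma one_add_pow_eq (S : Type u) [CommRing S] (π : S) (N J : ℕ) (d : ℕ → S)
    (hd : ∀ i, 1 ≤ i → i ≤ N → ((Nat.choose N i : ℕ) : S) = d i * π ^ (J * (N - i))) (t : S) :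
    (1 + π ^ J * t) ^ N = 1 + π ^ (J * N) * ∑ m ∈ Finset.range N, d (m + 1) * t ^ (m + 1) := by
  rw [add_comm 1, add_pow, Finset.sum_range_succ', Finset.mul_sum]
  simp only [one_pow, mul_one, pow_zero, Nat.choose_zero_right, Nat.cast_one]
  rw [add_comm]
  congr 1
  refine Finset.sum_congr rfl fun m hm => ?_
  have hm' : m < N := Finset.mem_range.1 hm
  rw [hd (m + 1) (by omega) (by omega), mul_pow, ← pow_mul]
  have e : J * N = J * (m + 1) + J * (N - (m + 1)) := by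
    rw [← Nat.mul_add]; congr 1; omega
  rw [e, pow_add]
  ring

/-- Modulo `π`, the divided binomial polynomial of level `j` is `t^N`. -/
lemma sum_eq_pow {A S : Type*} [CommRing A] [CommRing S] (φ : A →+* S) (π : A) (hπ : φ π = 0)
    (N : ℕ) (hN : 1 ≤ N) (d : ℕ → A) (hdN : d N = 1) (t : S) :
    ∑ m ∈ Finset.range N, φ (d (m + 1) * π ^ (N - (m + 1))) * t ^ (m + 1) = t ^ N := by
  obtain ⟨M, rfl⟩ : ∃ M, N = M + 1 := ⟨N - 1, by omega⟩
  rw [Finset.sum_range_succ, Finset.sum_eq_zero, zero_add, hdN]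
  · simp
  · intro m hm
    have hm' : m < M := Finset.mem_range.1 hm
    rw [map_mul, map_pow, hπ, zero_pow (by omega), mul_zero, zero_mul]

end Groth.Agent.Lib.Helper8.KU1
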