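import Mathlib
import Groth.Agent.Lib.Helper8.KU1

set_option backward.isDefEq.respectTransparency.types false
set_option synthInstance.maxHeartbeats 400000
set_option autoImplicit false
set_option linter.unusedSectionVars false
set_option linter.style.haveILetI false

namespace Groth.Agent.Lib.Helper8.KU2

universe u

open Polynomial

section

variable {A L : Type u} [CommRing A] [CommRing L] [IsDomain L] [Algebra A L]

local notation "ι" => algebraMap A L

/-- If `b` is integral over `A` and `π^m b ∈ A`, then `π^m` divides it in `A` (for `π` prime). -/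
lemma pow_dvd_of_integral (hinj : Function.Injective (algebraMap A L)) (π : A) (hπ : Prime π)
    (hπL : ι π ≠ 0) :
    ∀ (m : ℕ) (a : A) (b : L), IsIntegral A b → (ι π) ^ m * b = ι a → π ^ m ∣ a := by
  intro m
  induction m with
  | zero => intro a b _ _; simp
  | succ m ih =>
    intro a b hb hab
    have hb1 : IsIntegral A ((ι π) ^ m * b) := (isIntegral_algebraMap.pow m).mul hb
    obtain ⟨Q, hQm, hQ⟩ := hb1
    have h1 : ι π * ((ι π) ^ m * b) = ι a := by
      rw [← hab, pow_succ]; ring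
    have h2 : π ∣ a ^ Q.natDegree :=
      Polynomial.dvd_pow_natDegree_of_eval₂_eq_zero hinj hQm π a _ hQ h1
    obtain ⟨a₁, rfl⟩ := hπ.dvd_of_dvd_pow h2
    have h3 : (ι π) ^ m * b = ι a₁ := by
      apply mul_left_cancel₀ hπL
      rw [h1, map_mul]
    have := ih a₁ b hb h3
    rw [pow_succ']
    exact mul_dvd_mul_left π this

end

section Core

variable (A L : Type u) [CommRing A] [CommRing L] [IsDomain L] [Algebra A L]

local notation "ι" => algebraMap A L

theorem core (hinj : Function.Injective (algebraMap A L)) (π : A) (hπ : Prime π)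
    (hπL : IsUnit (ι π))
    (hlift : ∀ a : A, IsUnit (Ideal.Quotient.mk (Ideal.span {π}) a) → IsUnit a)
    (p n N : ℕ) [hpp : Fact p.Prime] (hN : N = p ^ n) (j : ℕ) (d : ℕ → A)
    (hd : ∀ i, 1 ≤ i → i ≤ N →
      ((Nat.choose N i : ℕ) : A) = d i * π ^ ((j + 1) * (N - i)))
    (hp : π ∣ (p : A))
    (f g : Aˣ) (f₀ : A)
    (hfg : (f : A) * (g : A) ^ N = 1 + π ^ (j * N) * f₀)
    (hmax : ∀ (g' : Aˣ) (c : A), (f : A) * (g' : A) ^ N ≠ 1 + π ^ ((j + 1) * N) * c)
    (ρ : L) (hρ : ρ ^ N = ι f)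
    (hred : (Ideal.span {algebraMap A (integralClosure A L) π}).IsRadical)
    (g₀ : A) : f₀ - g₀ ^ N ∉ Ideal.span {π} := by
  intro hmem
  obtain ⟨c₀, hc₀⟩ := Ideal.mem_span_singleton.1 hmem
  have hf₀ : f₀ = g₀ ^ N + π * c₀ := by rw [← hc₀]; ring
  have hNpos : 1 ≤ N := by rw [hN]; exact Nat.one_le_pow _ _ hpp.out.pos
  -- level-`j` coefficients
  obtain ⟨dj, hdj_def⟩ : ∃ dj : ℕ → A, ∀ i, dj i = d i * π ^ (N - i) := ⟨_, fun _ => rfl⟩
  have hdj : ∀ i, 1 ≤ i → i ≤ N →
      ((Nat.choose N i : ℕ) : A) = dj i * π ^ (j * (N - i)) := by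
    intro i h1 hi
    rw [hd i h1 hi, hdj_def, mul_assoc, ← pow_add]
    congr 2; ring
  have hdN : d N = 1 := by
    have := hd N hNpos le_rfl
    simpa using this.symm
  have hdL : ∀ i, 1 ≤ i → i ≤ N →
      ((Nat.choose N i : ℕ) : L) = ι (d i) * (ι π) ^ ((j + 1) * (N - i)) := by
    intro i h1 hi
    rw [← map_pow, ← map_mul, ← hd i h1 hi, map_natCast]
  have hdjL : ∀ i, 1 ≤ i → i ≤ N →
      ((Nat.choose N i : ℕ) : L) = ι (dj i) * (ι π) ^ (j * (N - i)) := by
    intro i h1 hi
    rw [← map_pow, ← map_mul, ← hdj i h1 hi, map_natCast]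
  -- the element `z`
  obtain ⟨z, hz⟩ : ∃ z : L, z = ρ * ι g := ⟨_, rfl⟩
  have hzN' : z ^ N = ι ((f : A) * (g : A) ^ N) := by
    rw [hz, mul_pow, hρ, map_mul, map_pow]
  have hzN : z ^ N = 1 + (ι π) ^ (j * N) * ι f₀ := by
    rw [hzN', hfg, map_add, map_one, map_mul, map_pow]
  obtain ⟨v, hv⟩ := hπL.exists_right_inv
  obtain ⟨y, hy⟩ : ∃ y : L, y = v ^ j * (z - 1) := ⟨_, rfl⟩
  have hzy : z = 1 + (ι π) ^ j * y := by
    rw [hy, ← mul_assoc, ← mul_pow, hv, one_pow, one_mul]; ring
  have hPy : ∑ m ∈ Finset.range N, ι (dj (m + 1)) * y ^ (m + 1) = ι f₀ := by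
    have h := KU1.one_add_pow_eq L (ι π) N j (fun i => ι (dj i)) hdjL y
    rw [← hzy, hzN] at h
    have h' := add_left_cancel h
    exact ((hπL.pow _).mul_left_cancel h').symm
  have hdjN : dj N = 1 := by rw [hdj_def, hdN]; simp
  -- integrality of `y`
  have hyint : IsIntegral A y := by
    obtain ⟨M, hM⟩ : ∃ M, N = M + 1 := ⟨N - 1, by omega⟩
    refine ⟨X ^ N + (∑ m ∈ Finset.range M, C (dj (m + 1)) * X ^ (m + 1) - C f₀), ?_, ?_⟩
    · apply Polynomial.monic_X_pow_add
      rw [← Polynomial.mem_degreeLT]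
      refine Submodule.sub_mem _ (Submodule.sum_mem _ fun m hm => ?_) ?_
      · rw [Polynomial.mem_degreeLT]
        refine lt_of_le_of_lt (Polynomial.degree_C_mul_X_pow_le _ _) ?_
        have := Finset.mem_range.1 hm
        exact_mod_cast (by omega : m + 1 < N)
      · rw [Polynomial.mem_degreeLT]
        exact lt_of_le_of_lt Polynomial.degree_C_le (by exact_mod_cast hNpos)
    · rw [Polynomial.eval₂_add, Polynomial.eval₂_sub, Polynomial.eval₂_finsetSum]
      simp only [Polynomial.eval₂_mul, Polynomial.eval₂_pow, Polynomial.eval₂_X,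
        Polynomial.eval₂_C]
      have h := hPy
      rw [show Finset.range N = Finset.range (M + 1) by rw [hM], Finset.sum_range_succ,
        ← hM, hdjN, map_one, one_mul] at h
      rw [← h]; ring
  -- work in the integral closure
  have hstep5 : ∃ y' : L, IsIntegral A y' ∧ y = ι g₀ + ι π * y' := by
    obtain ⟨yB, hyB⟩ : ∃ yB : integralClosure A L, (yB : L) = y := ⟨⟨y, hyint⟩, rfl⟩
    have hPyB : ∑ m ∈ Finset.range N,
        algebraMap A (integralClosure A L) (dj (m + 1)) * yB ^ (m + 1) =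
        algebraMap A (integralClosure A L) f₀ := by
      apply Subtype.ext
      push_cast
      rw [hyB]
      exact hPy
    obtain ⟨mk, hmk⟩ : ∃ mk : integralClosure A L →+*
        (integralClosure A L ⧸ Ideal.span {algebraMap A (integralClosure A L) π}),
        mk = Ideal.Quotient.mk _ := ⟨_, rfl⟩
    obtain ⟨φ, hφ⟩ : ∃ φ : A →+*
        (integralClosure A L ⧸ Ideal.span {algebraMap A (integralClosure A L) π}),
        φ = mk.comp (algebraMap A (integralClosure A L)) := ⟨_, rfl⟩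
    have hφπ : φ π = 0 := by
      rw [hφ, hmk, RingHom.comp_apply]
      exact Ideal.Quotient.eq_zero_iff_mem.2 (Ideal.mem_span_singleton_self _)
    have h1 : (mk yB) ^ N = φ f₀ := by
      have h := KU1.sum_eq_pow φ π hφπ N hNpos d hdN (mk yB)
      have h2 := congrArg mk hPyB
      rw [map_sum] at h2
      have hφa : ∀ a, φ a = mk (algebraMap A (integralClosure A L) a) := by
        intro a; rw [hφ]; rfl
      rw [← h, hφa f₀, ← h2]
      refine Finset.sum_congr rfl fun m _ => ?_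
      rw [map_mul mk, map_pow mk, hφa, hdj_def]
    have h2 : φ f₀ = (φ g₀) ^ N := by
      rw [hf₀, map_add, map_mul, hφπ, zero_mul, add_zero, map_pow]
    have hp0 : ((p : ℕ) : integralClosure A L ⧸
        Ideal.span {algebraMap A (integralClosure A L) π}) = 0 := by
      obtain ⟨t, ht⟩ := hp
      have : φ ((p : ℕ) : A) = 0 := by rw [ht, map_mul, hφπ, zero_mul]
      rwa [map_natCast] at this
    have h3 : (mk yB - φ g₀) ^ N = 0 := by
      rcases subsingleton_or_nontrivial (integralClosure A L ⧸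
        Ideal.span {algebraMap A (integralClosure A L) π}) with hsub | hnt
      · exact Subsingleton.elim _ _
      · have hrc := CharP.ringChar_of_prime_eq_zero hpp.out hp0
        haveI : CharP (integralClosure A L ⧸
            Ideal.span {algebraMap A (integralClosure A L) π}) p := hrc ▸ ringChar.charP _
        rw [hN, sub_pow_char_pow, ← hN, h1, h2, sub_self]
    have h4 : yB - algebraMap A (integralClosure A L) g₀ ∈
        Ideal.span {algebraMap A (integralClosure A L) π} := by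
      apply hred
      refine ⟨N, ?_⟩
      rw [← Ideal.Quotient.eq_zero_iff_mem, map_pow, map_sub, ← hmk]
      have : mk (algebraMap A (integralClosure A L) g₀) = φ g₀ := by rw [hφ]; rfl
      rw [this]; exact h3
    obtain ⟨y'B, hy'B⟩ := Ideal.mem_span_singleton.1 h4
    refine ⟨(y'B : L), y'B.2, ?_⟩
    have h5 := congrArg (integralClosure A L).val hy'B
    rw [map_sub, map_mul, AlgHom.commutes, AlgHom.commutes, Subalgebra.val_apply, hyB,
      Subalgebra.val_apply] at h5
    rw [← h5]; ring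
  obtain ⟨y', hy'int, hyy'⟩ := hstep5
  -- the unit `u`
  obtain ⟨u, hu⟩ : ∃ u : A, u = 1 + π ^ j * g₀ := ⟨_, rfl⟩
  have hu_unit : IsUnit u := by
    apply hlift
    have huN : u ^ N = 1 + π ^ (j * N) * ∑ m ∈ Finset.range N, dj (m + 1) * g₀ ^ (m + 1) := by
      rw [hu]; exact KU1.one_add_pow_eq A π N j dj hdj g₀
    have hπ0 : Ideal.Quotient.mk (Ideal.span {π}) π = 0 :=
      Ideal.Quotient.eq_zero_iff_mem.2 (Ideal.mem_span_singleton_self π)
    have hsum : Ideal.Quotient.mk (Ideal.span {π})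
        (∑ m ∈ Finset.range N, dj (m + 1) * g₀ ^ (m + 1)) =
        (Ideal.Quotient.mk (Ideal.span {π}) g₀) ^ N := by
      rw [map_sum, ← KU1.sum_eq_pow (Ideal.Quotient.mk (Ideal.span {π})) π hπ0 N hNpos d hdN
        (Ideal.Quotient.mk (Ideal.span {π}) g₀)]
      refine Finset.sum_congr rfl fun m _ => ?_
      rw [map_mul, map_pow, hdj_def]
    have h1 : (Ideal.Quotient.mk (Ideal.span {π}) u) ^ N =
        Ideal.Quotient.mk (Ideal.span {π}) ((f : A) * (g : A) ^ N) := by
      rw [← map_pow, huN, hfg, map_add, map_add, map_mul, map_mul, hsum, hf₀, map_add,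
        map_mul _ π, hπ0, zero_mul, add_zero, map_pow _ g₀]
    have h2 : IsUnit ((Ideal.Quotient.mk (Ideal.span {π}) u) ^ N) := by
      rw [h1, map_mul, map_pow]
      exact (f.isUnit.map _).mul ((g.isUnit.map _).pow N)
    exact (isUnit_pow_iff (by omega)).1 h2
  obtain ⟨uu, huu⟩ := hu_unit
  obtain ⟨y'', hy''⟩ : ∃ y'' : L, y'' = y' * ι ↑uu⁻¹ := ⟨_, rfl⟩
  have hy''int : IsIntegral A y'' := by rw [hy'']; exact hy'int.mul isIntegral_algebraMap
  have hzu : z = ι u + (ι π) ^ (j + 1) * y' := by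
    rw [hzy, hyy', hu, map_add, map_one, map_mul, map_pow]; ring
  have huinv : ι u * ι ↑uu⁻¹ = 1 := by
    rw [← map_mul, ← huu, Units.mul_inv, map_one]
  have hz2 : z * ι ↑uu⁻¹ = 1 + (ι π) ^ (j + 1) * y'' := by
    rw [hzu, add_mul, huinv, hy'']; ring
  have hkey : ι ((f : A) * ((g * uu⁻¹ : Aˣ) : A) ^ N) = (z * ι ↑uu⁻¹) ^ N := by
    rw [mul_pow, hzN', Units.val_mul, mul_pow, map_mul, map_mul, map_mul, map_pow, map_pow]
    ring
  have h8 := KU1.one_add_pow_eq L (ι π) N (j + 1) (fun i => ι (d i)) hdL y''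
  obtain ⟨b, hb⟩ : ∃ b : L, b = ∑ m ∈ Finset.range N, ι (d (m + 1)) * y'' ^ (m + 1) := ⟨_, rfl⟩
  have hbint : IsIntegral A b := by
    rw [hb]
    exact IsIntegral.sum _ fun m _ => isIntegral_algebraMap.mul (hy''int.pow _)
  have h9 : (ι π) ^ ((j + 1) * N) * b = ι ((f : A) * ((g * uu⁻¹ : Aˣ) : A) ^ N - 1) := by
    rw [map_sub, map_one, hkey, hz2, h8, hb]; ring
  obtain ⟨c, hc⟩ := pow_dvd_of_integral hinj π hπ hπL.ne_zero ((j + 1) * N) _ b hbint h9
  exact hmax (g * uu⁻¹) c (by rw [← hc]; ring)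

end Core

section Main

open Polynomial

theorem main14692
    (R : Type u) [CommRing R]
    (p : ℕ) [hpp : Fact p.Prime] (ϖ : R)
    (n : ℕ)
    (A : Type u) [CommRing A] [IsDomain A] [Algebra R A]
    (hprime : (Ideal.span {algebraMap R A ϖ}).IsPrime)
    (hlift : ∀ a : A, IsUnit (Ideal.Quotient.mk (Ideal.span {algebraMap R A ϖ}) a) → IsUnit a)
    (f g : Aˣ) (j : ℕ) (hj : ϖ ^ (p ^ (n - 1) * (p - 1) * (j + 1)) ∣ (p : R)) (f₀ : A)
    (hfg : (f : A) * (g : A) ^ (p ^ n) = 1 + (algebraMap R A ϖ) ^ (j * p ^ n) * f₀)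
    (hmax : ∀ (g' : Aˣ) (c : A),
      (f : A) * (g' : A) ^ (p ^ n) ≠ 1 + (algebraMap R A ϖ) ^ ((j + 1) * p ^ n) * c)
    [IsDomain (AdjoinRoot (Polynomial.X ^ (p ^ n) -
      Polynomial.C (algebraMap A (Localization.Away (algebraMap R A ϖ)) (f : A))))]
    (hred : (Ideal.span {algebraMap A (integralClosure A (AdjoinRoot (Polynomial.X ^ (p ^ n) -
      Polynomial.C (algebraMap A (Localization.Away (algebraMap R A ϖ)) (f : A)))))
      (algebraMap R A ϖ)}).IsRadical)
    (g₀ : A) : f₀ - g₀ ^ (p ^ n) ∉ Ideal.span {(algebraMap R A ϖ)} := by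
  have hNpos : 0 < p ^ n := pow_pos hpp.out.pos n
  have hunit : IsUnit (algebraMap A (Localization.Away (algebraMap R A ϖ)) (algebraMap R A ϖ)) :=
    IsLocalization.Away.algebraMap_isUnit _
  have halg : algebraMap A (AdjoinRoot (Polynomial.X ^ (p ^ n) -
      Polynomial.C (algebraMap A (Localization.Away (algebraMap R A ϖ)) (f : A)))) =
      (AdjoinRoot.of _).comp (algebraMap A (Localization.Away (algebraMap R A ϖ))) :=
    AdjoinRoot.algebraMap_eq' A _
  have hπ0 : algebraMap R A ϖ ≠ 0 := by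
    intro h0
    have h00 : algebraMap A (Localization.Away (algebraMap R A ϖ)) (algebraMap R A ϖ) = 0 :=
      (congrArg _ h0).trans (map_zero _)
    rw [h00] at hunit
    have h1 : (1 : Localization.Away (algebraMap R A ϖ)) = 0 := (isUnit_zero_iff.1 hunit).symm
    have h2 := congrArg (AdjoinRoot.of (Polynomial.X ^ (p ^ n) -
      Polynomial.C (algebraMap A (Localization.Away (algebraMap R A ϖ)) (f : A)))) h1
    rw [map_one, map_zero] at h2
    exact one_ne_zero h2
  have hπprime : Prime (algebraMap R A ϖ) := (Ideal.span_singleton_prime hπ0).1 hprime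
  have hle : Submonoid.powers (algebraMap R A ϖ) ≤ nonZeroDivisors A :=
    powers_le_nonZeroDivisors_of_noZeroDivisors hπ0
  haveI : IsDomain (Localization.Away (algebraMap R A ϖ)) :=
    IsLocalization.isDomain_localization hle
  have hq : (Polynomial.X ^ (p ^ n) - Polynomial.C (algebraMap A
      (Localization.Away (algebraMap R A ϖ)) (f : A))).degree ≠ 0 := by
    rw [Polynomial.degree_X_pow_sub_C hNpos]
    exact_mod_cast hNpos.ne'
  have hinj : Function.Injective (algebraMap A (AdjoinRoot (Polynomial.X ^ (p ^ n) -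
      Polynomial.C (algebraMap A (Localization.Away (algebraMap R A ϖ)) (f : A))))) := by
    rw [halg]
    exact (AdjoinRoot.of.injective_of_degree_ne_zero hq).comp (IsLocalization.injective _ hle)
  have hπL : IsUnit (algebraMap A (AdjoinRoot (Polynomial.X ^ (p ^ n) -
      Polynomial.C (algebraMap A (Localization.Away (algebraMap R A ϖ)) (f : A))))
      (algebraMap R A ϖ)) := by
    rw [halg, RingHom.comp_apply]
    exact hunit.map _
  have hJ : (algebraMap R A ϖ) ^ (p ^ (n - 1) * (p - 1) * (j + 1)) ∣ ((p : ℕ) : A) := by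
    have := map_dvd (algebraMap R A) hj
    rwa [map_pow, map_natCast] at this
  have hE : p ^ (n - 1) * (p - 1) * (j + 1) ≠ 0 := by
    have h1 : 0 < p ^ (n - 1) := pow_pos hpp.out.pos _
    have h2 : 0 < p - 1 := by have := hpp.out.two_le; omega
    exact (Nat.mul_pos (Nat.mul_pos h1 h2) (Nat.succ_pos j)).ne'
  have hp : algebraMap R A ϖ ∣ ((p : ℕ) : A) := dvd_trans (dvd_pow_self _ hE) hJ
  have hex : ∀ i, ∃ di : A, 1 ≤ i → i ≤ p ^ n →
      ((Nat.choose (p ^ n) i : ℕ) : A) = di * (algebraMap R A ϖ) ^ ((j + 1) * (p ^ n - i)) := by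
    intro i
    by_cases h : 1 ≤ i ∧ i ≤ p ^ n
    · obtain ⟨c, hc⟩ := KU1.choose_dvd A (algebraMap R A ϖ) p n (j + 1) hpp.out hJ i h.1 h.2
      exact ⟨c, fun _ _ => by rw [hc, mul_comm]⟩
    · exact ⟨0, fun h1 h2 => absurd ⟨h1, h2⟩ h⟩
  choose d hd using hex
  have hρ : (AdjoinRoot.root (Polynomial.X ^ (p ^ n) - Polynomial.C (algebraMap A
      (Localization.Away (algebraMap R A ϖ)) (f : A)))) ^ (p ^ n) =
      algebraMap A (AdjoinRoot (Polynomial.X ^ (p ^ n) -
      Polynomial.C (algebraMap A (Localization.Away (algebraMap R A ϖ)) (f : A)))) (f : A) := by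
    have h := AdjoinRoot.eval₂_root (Polynomial.X ^ (p ^ n) - Polynomial.C (algebraMap A
      (Localization.Away (algebraMap R A ϖ)) (f : A)))
    rw [Polynomial.eval₂_sub, Polynomial.eval₂_pow, Polynomial.eval₂_X, Polynomial.eval₂_C,
      sub_eq_zero] at h
    rw [h, halg, RingHom.comp_apply]
  exact core A _ hinj (algebraMap R A ϖ) hπprime hπL hlift p n (p ^ n) rfl j d hd hp f g f₀ hfg
    hmax _ hρ hred g₀

end Main

end Groth.Agent.Lib.Helper8.KU2
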