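import Mathlib

set_option backward.isDefEq.respectTransparency.types false
set_option autoImplicit false
set_option linter.unusedSectionVars false
set_option linter.style.haveILetI false

/-!
# Lengths of local rings at minimal primes of a radicial free extension of a reduced ring
-/

namespace Groth.Agent.Lib.Helper8.LK1

universe u

open TensorProduct

/-- length of a ring over itself is invariant under ring isomorphisms. -/
theorem length_eq_of_ringEquiv {R S : Type*} [CommRing R] [CommRing S] (e : R ≃+* S) :
    Module.length R R = Module.length S S := by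
  apply WithBot.coe_injective
  rw [Module.coe_length, Module.coe_length]
  exact Order.krullDim_eq_of_orderIso (e.idealComapOrderIso).symm

section W

/-- the contraction of a minimal prime along a radicial injective extension is minimal. -/
theorem comap_mem_minimalPrimes (k : Type u) [Field k] (p : ℕ) [ExpChar k p]
    {As A : Type u} [CommRing As] [CommRing A] [Algebra k A] [Algebra As A] (hinj : Function.Injective (algebraMap As A)) (N : ℕ)
    (hpow : ∀ x : A, x ^ p ^ N ∈ (algebraMap As A).range)
    (q : Ideal A) (hq : q ∈ minimalPrimes A) :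
    q.comap (algebraMap As A) ∈ minimalPrimes As := by
  haveI := hq.1.1
  haveI : Nontrivial A := ⟨0, 1, fun h => hq.1.1.ne_top ((Ideal.eq_top_iff_one _).mpr (h ▸ q.zero_mem))⟩
  haveI : ExpChar A p := expChar_of_injective_algebraMap (algebraMap k A).injective p
  refine ⟨⟨Ideal.comap_isPrime _ _, bot_le⟩, ?_⟩
  rintro n' ⟨hn', -⟩ hle
  -- the prime over n'
  let q' : Ideal A :=
    { carrier := {x | ∃ s ∈ n', x ^ p ^ N = algebraMap As A s}
      add_mem' := by
        rintro x y ⟨s, hs, hx⟩ ⟨t, ht, hy⟩
        exact ⟨s + t, n'.add_mem hs ht, by rw [add_pow_expChar_pow, hx, hy, map_add]⟩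
      zero_mem' := ⟨0, n'.zero_mem, by
        rw [map_zero]; exact zero_pow (pow_ne_zero _ (expChar_pos k p).ne')⟩
      smul_mem' := by
        rintro c x ⟨s, hs, hx⟩
        obtain ⟨t, ht⟩ := hpow c
        exact ⟨t * s, n'.mul_mem_left t hs, by rw [smul_eq_mul, mul_pow, hx, ← ht, map_mul]⟩ }
  have hq'prime : q'.IsPrime := by
    constructor
    · intro h
      have h1 : (1 : A) ∈ q' := h ▸ Submodule.mem_top
      obtain ⟨s, hs, h1s⟩ := h1
      rw [one_pow] at h1s
      have : s = 1 := hinj (by rw [← h1s, map_one])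
      exact hn'.ne_top ((Ideal.eq_top_iff_one _).mpr (this ▸ hs))
    · intro x y ⟨s, hs, hxy⟩
      obtain ⟨t, ht⟩ := hpow x
      obtain ⟨r, hr⟩ := hpow y
      have : t * r = s := hinj (by rw [map_mul, ht, hr, ← hxy, mul_pow])
      rcases hn'.mem_or_mem (this ▸ hs) with h | h
      · exact Or.inl ⟨t, h, ht.symm⟩
      · exact Or.inr ⟨r, h, hr.symm⟩
  have hq'le : q' ≤ q := by
    rintro x ⟨s, hs, hx⟩
    have : x ^ p ^ N ∈ q := hx ▸ (hle hs)
    exact hq.1.1.mem_of_pow_mem _ this
  have hqq' : q ≤ q' := hq.2 ⟨hq'prime, bot_le⟩ hq'le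
  intro s hs
  obtain ⟨t, ht, hst⟩ := hqq' hs
  have : t = s ^ p ^ N := hinj (by rw [← hst, map_pow])
  exact hn'.mem_of_pow_mem _ (this ▸ ht)

/-- auxiliary abstract version. -/
theorem length_aux (k : Type u) [Field k] (p : ℕ) [ExpChar k p]
    {As A : Type u} [CommRing As] [CommRing A] [Algebra k As] [Algebra k A] [Algebra As A]
    [IsScalarTower k As A] [Module.Free As A] [Module.Finite As A]
    (N : ℕ) (hpow : ∀ x : A, x ^ p ^ N ∈ (algebraMap As A).range)
    (a : ℕ) (hrank : Module.finrank As A = p ^ a)
    (q : Ideal A) [q.IsPrime] [(q.comap (algebraMap As A)).IsPrime]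
    (Φ : Type u) [Field Φ] [Algebra As Φ] [IsLocalization.AtPrime Φ (q.comap (algebraMap As A))]
    (A' : Type u) [CommRing A'] [Algebra A A'] [Algebra As A'] [IsScalarTower As A A']
    [IsLocalization (Algebra.algebraMapSubmonoid A (q.comap (algebraMap As A)).primeCompl) A']
    [IsLocalization q.primeCompl A'] [Algebra Φ A'] [IsScalarTower As Φ A'] :
    ∃ m : ℕ, Module.length (Localization.AtPrime q) (Localization.AtPrime q) = (p ^ m : ℕ) := by
  haveI : IsLocalRing A' := IsLocalization.AtPrime.isLocalRing A' q
  haveI : IsLocalizedModule (q.comap (algebraMap As A)).primeCompl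
      (IsScalarTower.toAlgHom As A A').toLinearMap :=
    isLocalizedModule_iff_isLocalization.mpr inferInstance
  haveI : Module.Free Φ A' :=
    Module.free_of_isLocalizedModule (q.comap (algebraMap As A)).primeCompl
      (IsScalarTower.toAlgHom As A A').toLinearMap
  haveI : Module.Finite Φ A' :=
    Module.Finite.of_isLocalizedModule (q.comap (algebraMap As A)).primeCompl
      (IsScalarTower.toAlgHom As A A').toLinearMap
  have hfr : Module.finrank Φ A' = p ^ a := by
    rw [← hrank]
    exact Module.finrank_of_isLocalizedModule_of_free Φ (q.comap (algebraMap As A)).primeCompl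
      (IsScalarTower.toAlgHom As A A').toLinearMap
  haveI : IsLocalHom (algebraMap Φ A') := ⟨fun x hx => by
    have hx0 : x ≠ 0 := by
      rintro rfl
      rw [map_zero] at hx
      exact not_isUnit_zero hx
    exact isUnit_iff_ne_zero.mpr hx0⟩
  have hlen := IsLocalRing.length_restrictScalars Φ A' A'
  have h1 : Module.length Φ A' = (p ^ a : ℕ) := by
    rw [Module.length_eq_finrank, hfr]
  haveI : ExpChar Φ p := by
    haveI : Algebra k Φ := ((algebraMap As Φ).comp (algebraMap k As)).toAlgebra
    exact expChar_of_injective_algebraMap (algebraMap k Φ).injective p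
  haveI : ExpChar (IsLocalRing.ResidueField Φ) p :=
    expChar_of_injective_algebraMap (algebraMap Φ (IsLocalRing.ResidueField Φ)).injective p
  have hpi : IsPurelyInseparable (IsLocalRing.ResidueField Φ) (IsLocalRing.ResidueField A') := by
    rw [isPurelyInseparable_iff_pow_mem _ p]
    intro x
    obtain ⟨y, rfl⟩ := IsLocalRing.residue_surjective x
    refine ⟨N, ?_⟩
    obtain ⟨⟨c, ⟨_, s₀, hs₀, rfl⟩⟩, hy⟩ := IsLocalization.surj
      (Algebra.algebraMapSubmonoid A (q.comap (algebraMap As A)).primeCompl) y
    simp only at hy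
    obtain ⟨t, ht⟩ := hpow c
    -- y ^ P * σ = τ
    have e1 : y ^ p ^ N * algebraMap Φ A' (algebraMap As Φ (s₀ ^ p ^ N)) =
        algebraMap Φ A' (algebraMap As Φ t) := by
      rw [← IsScalarTower.algebraMap_apply As Φ A', ← IsScalarTower.algebraMap_apply As Φ A',
        IsScalarTower.algebraMap_apply As A A', IsScalarTower.algebraMap_apply As A A', ht,
        map_pow, map_pow, map_pow, ← mul_pow, hy]
    have hσ : algebraMap As Φ (s₀ ^ p ^ N) ≠ 0 := by
      have : IsUnit (algebraMap As Φ (s₀ ^ p ^ N)) := by
        rw [map_pow]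
        exact (IsLocalization.map_units Φ (⟨s₀, hs₀⟩ : (q.comap (algebraMap As A)).primeCompl)).pow _
      exact this.ne_zero
    have e2 : y ^ p ^ N = algebraMap Φ A' (algebraMap As Φ t * (algebraMap As Φ (s₀ ^ p ^ N))⁻¹) := by
      rw [map_mul, ← e1, mul_assoc, ← map_mul, mul_inv_cancel₀ hσ, map_one, mul_one]
    refine ⟨IsLocalRing.residue Φ (algebraMap As Φ t * (algebraMap As Φ (s₀ ^ p ^ N))⁻¹), ?_⟩
    rw [← map_pow, e2]
    rfl
  haveI : Module.Finite (IsLocalRing.ResidueField Φ) (IsLocalRing.ResidueField A') := by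
    by_contra hfin
    have : Module.length (IsLocalRing.ResidueField Φ) (IsLocalRing.ResidueField A') = ⊤ := by
      rw [Module.length_eq_rank, Cardinal.toENat_eq_top]
      by_contra hlt
      rw [not_le] at hlt
      exact hfin (Module.rank_lt_aleph0_iff.mp hlt)
    rw [this, h1, ENat.mul_top (Module.length_pos (R := A') (M := A')).ne'] at hlen
    exact ENat.natCast_ne_top _ hlen
  obtain ⟨b, hb⟩ := IsPurelyInseparable.finrank_eq_pow (F := IsLocalRing.ResidueField Φ)
    (IsLocalRing.ResidueField A') p
  have h2 : Module.length (IsLocalRing.ResidueField Φ) (IsLocalRing.ResidueField A') =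
      (p ^ b : ℕ) := by
    rw [Module.length_eq_finrank, hb]
  rw [h1, h2] at hlen
  have hpb : (p ^ b : ℕ) ≠ 0 := (pow_pos (expChar_pos k p) b).ne'
  have hfinite : Module.length A' A' ≠ ⊤ := by
    intro htop
    rw [htop, ENat.top_mul (by exact_mod_cast hpb)] at hlen
    exact ENat.natCast_ne_top _ hlen
  obtain ⟨l, hl⟩ := ENat.ne_top_iff_exists.mp hfinite
  rw [← hl] at hlen
  have hnat : p ^ a = l * p ^ b := by exact_mod_cast hlen
  have hlA : Module.length (Localization.AtPrime q) (Localization.AtPrime q) = l := by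
    rw [hl]
    exact length_eq_of_ringEquiv
      (IsLocalization.algEquiv q.primeCompl (Localization.AtPrime q) A').toRingEquiv
  rcases expChar_is_prime_or_one k p with hp | hp
  · have hdvd : l ∣ p ^ a := ⟨p ^ b, hnat⟩
    obtain ⟨m, -, hm⟩ := (Nat.dvd_prime_pow hp).mp hdvd
    exact ⟨m, by rw [hlA, hm]⟩
  · subst hp
    simp only [one_pow, mul_one] at hnat
    exact ⟨0, by rw [hlA, ← hnat]; simp⟩

/-- main lemma -/
theorem length_atPrime_minimal (k : Type u) [Field k] (p : ℕ) [ExpChar k p]
    {As A : Type u} [CommRing As] [CommRing A] [Algebra k As] [Algebra k A] [Algebra As A]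
    [IsScalarTower k As A] [IsReduced As] [Module.Free As A] [Module.Finite As A]
    (N : ℕ) (hpow : ∀ x : A, x ^ p ^ N ∈ (algebraMap As A).range)
    (a : ℕ) (hrank : Module.finrank As A = p ^ a)
    (q : Ideal A) [q.IsPrime] (hq : q ∈ minimalPrimes A) :
    ∃ m : ℕ, Module.length (Localization.AtPrime q) (Localization.AtPrime q) = (p ^ m : ℕ) := by
  haveI : Nontrivial A :=
    ⟨0, 1, fun h => hq.1.1.ne_top ((Ideal.eq_top_iff_one _).mpr (h ▸ q.zero_mem))⟩
  haveI : FaithfulSMul As A := inferInstance
  have hinj : Function.Injective (algebraMap As A) := FaithfulSMul.algebraMap_injective As A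
  have hnmin := comap_mem_minimalPrimes k p hinj N hpow q hq
  haveI : (q.comap (algebraMap As A)).IsPrime := hnmin.1.1
  -- Φ is a field
  haveI : Ring.KrullDimLE 0 (Localization.AtPrime (q.comap (algebraMap As A))) :=
    .of_isLocalization _ hnmin _
  have hΦ : IsField (Localization.AtPrime (q.comap (algebraMap As A))) :=
    Ring.KrullDimLE.isField_of_isReduced
  letI : Field (Localization.AtPrime (q.comap (algebraMap As A))) := hΦ.toField
  haveI : ExpChar A p := expChar_of_injective_algebraMap (algebraMap k A).injective p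
  have hppos : 0 < p ^ N := pow_pos (expChar_pos k p) N
  -- A' is the localization of A at q
  haveI : IsLocalization q.primeCompl
      (Localization (Algebra.algebraMapSubmonoid A (q.comap (algebraMap As A)).primeCompl)) := by
    refine IsLocalization.of_le_of_exists_dvd
      (Algebra.algebraMapSubmonoid A (q.comap (algebraMap As A)).primeCompl) q.primeCompl ?_ ?_
    · rintro _ ⟨s, hs, rfl⟩
      exact hs
    · intro s hs
      obtain ⟨t, ht⟩ := hpow s
      refine ⟨s ^ p ^ N, ⟨t, ?_, ht⟩, dvd_pow_self s hppos.ne'⟩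
      intro htn
      apply hs
      have : algebraMap As A t ∈ q := htn
      rw [ht] at this
      exact Ideal.IsPrime.mem_of_pow_mem inferInstance _ this
  exact length_aux k p N hpow a hrank q (Localization.AtPrime (q.comap (algebraMap As A)))
    (Localization (Algebra.algebraMapSubmonoid A (q.comap (algebraMap As A)).primeCompl))

end W

end Groth.Agent.Lib.Helper8.LK1
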