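import Mathlib
import Groth.Agent.Lib.Helper8.LK1

set_option backward.isDefEq.respectTransparency.types false
set_option autoImplicit false
set_option linter.unusedSectionVars false
set_option linter.style.haveILetI false

namespace Groth.Agent.Lib.Helper8.LK2

universe u

open TensorProduct Groth.Agent.Lib.Helper8.LK1

section V

variable (k : Type u) [Field k] (p : ℕ) [ExpChar k p]
  (E L K : Type u) [Field E] [Field L] [Field K] [Algebra k E] [Algebra E L] [Algebra k L]
  [IsScalarTower k E L] [Algebra k K]

/-- radicial property of the base change. -/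
theorem pow_mem_range [IsPurelyInseparable E L] [FiniteDimensional E L] :
    ∀ x : (E ⊗[k] K) ⊗[E] L, x ^ p ^ (IsPurelyInseparable.exponent E L) ∈
      (algebraMap (E ⊗[k] K) ((E ⊗[k] K) ⊗[E] L)).range := by
  haveI : ExpChar E p := expChar_of_injective_algebraMap (algebraMap k E).injective p
  intro x
  rcases subsingleton_or_nontrivial ((E ⊗[k] K) ⊗[E] L) with hsub | hnt
  · exact ⟨0, Subsingleton.elim _ _⟩
  haveI : Algebra k ((E ⊗[k] K) ⊗[E] L) :=
    ((algebraMap (E ⊗[k] K) ((E ⊗[k] K) ⊗[E] L)).comp (algebraMap k (E ⊗[k] K))).toAlgebra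
  haveI : ExpChar ((E ⊗[k] K) ⊗[E] L) p :=
    expChar_of_injective_algebraMap (algebraMap k ((E ⊗[k] K) ⊗[E] L)).injective p
  induction x using TensorProduct.induction_on with
  | zero =>
    rw [zero_pow (pow_ne_zero _ (expChar_pos k p).ne')]
    exact Subring.zero_mem _
  | tmul a l =>
    obtain ⟨e, he⟩ := IsPurelyInseparable.exponent_def' E p l
    refine ⟨a ^ p ^ (IsPurelyInseparable.exponent E L) * algebraMap E (E ⊗[k] K) e, ?_⟩
    rw [Algebra.TensorProduct.tmul_pow, ← he, Algebra.TensorProduct.algebraMap_apply,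
      Algebra.algebraMap_self, RingHom.id_apply, Algebra.algebraMap_eq_smul_one (A := L) e,
      ← TensorProduct.smul_tmul, Algebra.smul_def, mul_comm]
  | add x y hx hy =>
    rw [add_pow_expChar_pow]
    exact Subring.add_mem _ hx hy

end V

/-- transfer of the length of the localization along a ring isomorphism. -/
theorem length_atPrime_ringEquiv {R S : Type*} [CommRing R] [CommRing S] (e : R ≃+* S)
    (q : Ideal R) [q.IsPrime] :
    haveI : (q.comap e.symm.toRingHom).IsPrime := Ideal.comap_isPrime _ _
    Module.length (Localization.AtPrime q) (Localization.AtPrime q) =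
      Module.length (Localization.AtPrime (q.comap e.symm.toRingHom))
        (Localization.AtPrime (q.comap e.symm.toRingHom)) := by
  haveI : (q.comap e.symm.toRingHom).IsPrime := Ideal.comap_isPrime _ _
  apply length_eq_of_ringEquiv
  refine IsLocalization.ringEquivOfRingEquiv (M := q.primeCompl)
    (T := (q.comap e.symm.toRingHom).primeCompl) _ _ e ?_
  ext x
  simp only [Submonoid.mem_map, Ideal.mem_primeCompl_iff, Ideal.mem_comap]
  constructor
  · rintro ⟨y, hy, rfl⟩
    simpa using hy
  · intro hx
    exact ⟨e.symm x, hx, by simp⟩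

section V2

variable (k : Type u) [Field k] (p : ℕ) [ExpChar k p]
  (E L K : Type u) [Field E] [Field L] [Field K] [Algebra k E] [Algebra E L] [Algebra k L]
  [IsScalarTower k E L] [Algebra k K]

/-- the ring isomorphism `K ⊗ L ≅ (E ⊗ K) ⊗_E L`. -/
noncomputable def tensorEquiv : K ⊗[k] L ≃+* (E ⊗[k] K) ⊗[E] L :=
  ((Algebra.TensorProduct.comm k K L).toRingEquiv.trans
    (Algebra.TensorProduct.cancelBaseChange k E E L K).symm.toRingEquiv).trans
    (Algebra.TensorProduct.comm E L (E ⊗[k] K)).toRingEquiv

theorem length_of_reduced [IsReduced (E ⊗[k] K)] [IsPurelyInseparable E L] [FiniteDimensional E L]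
    (q : Ideal (K ⊗[k] L)) [q.IsPrime] (hq : q ∈ minimalPrimes (K ⊗[k] L)) :
    ∃ n : ℕ, Module.length (Localization.AtPrime q) (Localization.AtPrime q) = (p ^ n : ℕ) := by
  haveI : ExpChar E p := expChar_of_injective_algebraMap (algebraMap k E).injective p
  let e := tensorEquiv k E L K
  haveI : (q.comap e.symm.toRingHom).IsPrime := Ideal.comap_isPrime _ _
  have hq' : q.comap e.symm.toRingHom ∈ minimalPrimes ((E ⊗[k] K) ⊗[E] L) := by
    have := Ideal.minimalPrimes_comap_of_surjective (f := e.symm.toRingHom)
      e.symm.surjective hq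
    rwa [← RingHom.ker_eq_comap_bot,
      (RingHom.injective_iff_ker_eq_bot e.symm.toRingHom).mp e.symm.injective] at this
  rw [length_atPrime_ringEquiv e q]
  obtain ⟨a, ha⟩ := IsPurelyInseparable.finrank_eq_pow (F := E) L p
  have hrank : Module.finrank (E ⊗[k] K) ((E ⊗[k] K) ⊗[E] L) = p ^ a := by
    rw [Module.finrank_baseChange, ha]
  exact length_atPrime_minimal k p (IsPurelyInseparable.exponent E L)
    (pow_mem_range k p E L K) a hrank _ hq'

end V2

end Groth.Agent.Lib.Helper8.LK2
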