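import Mathlib
import Groth.Agent.Lib.Helper8.LK1

set_option backward.isDefEq.respectTransparency.types false
set_option autoImplicit false
set_option linter.unusedSectionVars false
set_option linter.style.haveILetI false

namespace Groth.Agent.Lib.Helper8.LK3

universe u

open TensorProduct

section R1

variable (k : Type u) [Field k] (K : Type u) [Field K] [Algebra k K] (ι : Type u)

/-- `k[ι] ⊗ K` is a domain. -/
theorem isDomain_mvPolynomial_tensor : IsDomain (MvPolynomial ι k ⊗[k] K) := by
  let e : MvPolynomial ι k ⊗[k] K ≃+* MvPolynomial ι K :=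
    (Algebra.TensorProduct.comm k (MvPolynomial ι k) K).toRingEquiv.trans
      (MvPolynomial.algebraTensorAlgEquiv k K).toRingEquiv
  exact Function.Injective.isDomain e e.injective

attribute [local instance] Algebra.TensorProduct.rightAlgebra in
/-- `k(ι) ⊗ K` is a domain. -/
theorem isDomain_fractionRing_tensor :
    IsDomain (FractionRing (MvPolynomial ι k) ⊗[k] K) := by
  haveI := isDomain_mvPolynomial_tensor k K ι
  -- Q ⊗[P] (P ⊗[k] K) is a localization of P ⊗[k] K
  haveI hloc : IsLocalization (Algebra.algebraMapSubmonoid (MvPolynomial ι k ⊗[k] K)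
      (nonZeroDivisors (MvPolynomial ι k)))
      (FractionRing (MvPolynomial ι k) ⊗[MvPolynomial ι k] (MvPolynomial ι k ⊗[k] K)) :=
    IsLocalization.tensorRight (R := MvPolynomial ι k) (S := MvPolynomial ι k ⊗[k] K)
      (FractionRing (MvPolynomial ι k)) (nonZeroDivisors (MvPolynomial ι k))
  have hle : Algebra.algebraMapSubmonoid (MvPolynomial ι k ⊗[k] K)
      (nonZeroDivisors (MvPolynomial ι k)) ≤ nonZeroDivisors (MvPolynomial ι k ⊗[k] K) := by
    rintro _ ⟨m, hm, rfl⟩
    apply mem_nonZeroDivisors_of_ne_zero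
    intro h0
    have hinj : Function.Injective (algebraMap (MvPolynomial ι k) (MvPolynomial ι k ⊗[k] K)) :=
      Algebra.TensorProduct.includeLeft_injective (S := k) (algebraMap k K).injective
    exact nonZeroDivisors.ne_zero hm (hinj (by rw [h0, map_zero]))
  haveI : IsDomain (FractionRing (MvPolynomial ι k) ⊗[MvPolynomial ι k]
      (MvPolynomial ι k ⊗[k] K)) :=
    IsLocalization.isDomain_of_le_nonZeroDivisors (FractionRing (MvPolynomial ι k) ⊗[MvPolynomial ι k]
      (MvPolynomial ι k ⊗[k] K)) hle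
  let e : FractionRing (MvPolynomial ι k) ⊗[MvPolynomial ι k] (MvPolynomial ι k ⊗[k] K) ≃+*
      FractionRing (MvPolynomial ι k) ⊗[k] K :=
    (Algebra.TensorProduct.cancelBaseChange k (MvPolynomial ι k) (MvPolynomial ι k)
      (FractionRing (MvPolynomial ι k)) K).toRingEquiv
  exact Function.Injective.isDomain e.symm e.symm.injective

end R1

section R2

variable (k L₀ E K : Type u) [Field k] [Field L₀] [Field E] [Field K] [Algebra k L₀] [Algebra L₀ E]
  [Algebra k E] [IsScalarTower k L₀ E] [Algebra k K]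

theorem isReduced_tensor_of_separable [IsDomain (L₀ ⊗[k] K)] [Algebra.IsSeparable L₀ E]
    [FiniteDimensional L₀ E] : IsReduced (E ⊗[k] K) := by
  let j1 : E ⊗[k] K ≃+* E ⊗[L₀] (L₀ ⊗[k] K) :=
    (Algebra.TensorProduct.cancelBaseChange k L₀ L₀ E K).symm.toRingEquiv
  let φ : L₀ ⊗[k] K →ₐ[L₀] FractionRing (L₀ ⊗[k] K) :=
    IsScalarTower.toAlgHom L₀ (L₀ ⊗[k] K) (FractionRing (L₀ ⊗[k] K))
  have hφ : Function.Injective φ := IsFractionRing.injective _ _
  let j2 : E ⊗[L₀] (L₀ ⊗[k] K) →ₐ[L₀] E ⊗[L₀] FractionRing (L₀ ⊗[k] K) :=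
    Algebra.TensorProduct.map (AlgHom.id L₀ E) φ
  have hj2 : Function.Injective j2 := by
    have : ⇑j2 = ⇑(LinearMap.lTensor E φ.toLinearMap) := by
      ext x
      induction x using TensorProduct.induction_on with
      | zero => simp
      | tmul a b => simp [j2]
      | add a b ha hb => simp [ha, hb]
    rw [this]
    exact Module.Flat.lTensor_preserves_injective_linearMap _ hφ
  let j3 : E ⊗[L₀] FractionRing (L₀ ⊗[k] K) ≃+* FractionRing (L₀ ⊗[k] K) ⊗[L₀] E :=
    (Algebra.TensorProduct.comm L₀ E (FractionRing (L₀ ⊗[k] K))).toRingEquiv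
  haveI : Algebra.FormallyUnramified L₀ E := Algebra.FormallyUnramified.of_isSeparable L₀ E
  haveI : IsReduced (FractionRing (L₀ ⊗[k] K) ⊗[L₀] E) :=
    Algebra.FormallyUnramified.isReduced_of_field (FractionRing (L₀ ⊗[k] K)) _
  let j : E ⊗[k] K →+* FractionRing (L₀ ⊗[k] K) ⊗[L₀] E :=
    (j3.toRingHom.comp j2.toRingHom).comp j1.toRingHom
  have hj : Function.Injective j := by
    show Function.Injective (j3 ∘ j2 ∘ j1)
    exact j3.injective.comp (hj2.comp j1.injective)
  exact isReduced_of_injective j hj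

end R2

end Groth.Agent.Lib.Helper8.LK3
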