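import Mathlib
import Groth.Agent.Lib.Helper8.LK2
import Groth.Agent.Lib.Helper8.LK3

set_option backward.isDefEq.respectTransparency.types false
set_option autoImplicit false
set_option linter.unusedSectionVars false
set_option linter.style.haveILetI false

namespace Groth.Agent.Lib.Helper8.LK4

universe u

open TensorProduct Groth.Agent.Lib.Helper8.LK1 Groth.Agent.Lib.Helper8.LK2 Groth.Agent.Lib.Helper8.LK3

/-- abstract tower version. -/
theorem length_pow_of_tower (k : Type u) [Field k] (p : ℕ) [ExpChar k p]
    (L₀ E L K : Type u) [Field L₀] [Field E] [Field L] [Field K]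
    [Algebra k L₀] [Algebra L₀ E] [Algebra k E] [IsScalarTower k L₀ E] [Algebra E L] [Algebra k L]
    [IsScalarTower k E L] [Algebra k K]
    (ι : Type u) (e : FractionRing (MvPolynomial ι k) ≃ₐ[k] L₀)
    [Algebra.IsSeparable L₀ E] [FiniteDimensional L₀ E] [IsPurelyInseparable E L]
    [FiniteDimensional E L]
    (q : Ideal (K ⊗[k] L)) [q.IsPrime] (hq : q ∈ minimalPrimes (K ⊗[k] L)) :
    ∃ n : ℕ, Module.length (Localization.AtPrime q) (Localization.AtPrime q) = (p ^ n : ℕ) := by
  haveI := isDomain_fractionRing_tensor k K ι
  haveI : IsDomain (L₀ ⊗[k] K) := by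
    let f : L₀ ⊗[k] K ≃ₐ[k] FractionRing (MvPolynomial ι k) ⊗[k] K :=
      Algebra.TensorProduct.congr e.symm AlgEquiv.refl
    exact Function.Injective.isDomain f f.injective
  haveI := isReduced_tensor_of_separable k L₀ E K
  exact length_of_reduced k p E L K q hq

/-- finite generation + algebraic implies finite. -/
theorem finiteDimensional_of_fg_of_isAlgebraic (F L : Type u) [Field F] [Field L] [Algebra F L]
    (h : (⊤ : IntermediateField F L).FG) [Algebra.IsAlgebraic F L] : FiniteDimensional F L := by
  obtain ⟨t, ht, hts⟩ := IntermediateField.fg_def.mp h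
  haveI : Finite t := ht
  haveI : FiniteDimensional F (IntermediateField.adjoin F t) :=
    IntermediateField.finiteDimensional_adjoin
      (fun x _ => (Algebra.IsAlgebraic.isAlgebraic x).isIntegral)
  rw [hts] at this
  exact Module.Finite.equiv (IntermediateField.topEquiv (F := F) (E := L)).toLinearEquiv

/-- S1875. -/
theorem main1875 (k K L : Type u) [Field k] [Field K] [Field L] [Algebra k K] [Algebra k L]
    (hL : (⊤ : IntermediateField k L).FG) (p : ℕ) [ExpChar k p] (q : Ideal (K ⊗[k] L)) [q.IsPrime]
    (hq : q ∈ minimalPrimes (K ⊗[k] L)) :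
    ∃ n : ℕ, Module.length (Localization.AtPrime q) (Localization.AtPrime q) = (p ^ n : ℕ) := by
  obtain ⟨ι, x, hx⟩ := exists_isTranscendenceBasis' k L
  haveI : Algebra.IsAlgebraic (IntermediateField.adjoin k (Set.range x)) L := hx.isAlgebraic_field
  have hfg : (⊤ : IntermediateField (IntermediateField.adjoin k (Set.range x)) L).FG := by
    apply IntermediateField.FG.of_restrictScalars (K := k)
    rwa [IntermediateField.restrictScalars_top]
  haveI : FiniteDimensional (IntermediateField.adjoin k (Set.range x)) L :=
    finiteDimensional_of_fg_of_isAlgebraic _ L hfg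
  haveI : IsPurelyInseparable
      (separableClosure (IntermediateField.adjoin k (Set.range x)) L) L :=
    separableClosure.isPurelyInseparable _ L
  haveI : IsScalarTower k (separableClosure (IntermediateField.adjoin k (Set.range x)) L) L :=
    IsScalarTower.of_algebraMap_eq (fun _ => rfl)
  exact length_pow_of_tower k p (IntermediateField.adjoin k (Set.range x))
    (separableClosure (IntermediateField.adjoin k (Set.range x)) L) L K ι
    hx.1.aevalEquivField q hq

end Groth.Agent.Lib.Helper8.LK4
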