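import Mathlib
import Groth.Prelude.Def_W4c1etcurveeff2PicMod
import Groth.Agent.Lib.Helper8.LSh

set_option autoImplicit false
set_option linter.unusedSectionVars false
set_option linter.unusedVariables false
set_option linter.style.haveILetI false

/-!
# Torsion of the generalised Picard group with a reduced modulus, part 2 (helper8)
-/

universe v u

open CategoryTheory AlgebraicGeometry LocSym W4c1etcurveeff2

namespace Groth.Agent.Lib.Helper8.LSi

open Groth.Agent.Lib.Helper8.LSc Groth.Agent.Lib.Helper8.LSe Groth.Agent.Lib.Helper8.LSf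
open Groth.Agent.Lib.Helper8.LSg Groth.Agent.Lib.Helper8.LSh

variable {k : Type u} [Field k] [IsAlgClosed k] {X : Scheme.{u}} [IsIntegral X]
  (c : X ⟶ Spec (CommRingCat.of k)) [IsProper c] [Smooth c]
  (hdim : topologicalKrullDim X = 1)

local notation "K" => X.functionField

include hdim

theorem exists_cls_of_ker (m : Pt c →₀ ℕ) (hm : ∀ x : Pt c, m x ≤ 1) (x : PicMod c m)
    (hx : picModToPic c m x = 0) :
    ∃ (g : US c hdim m) (v : Pt c → kˣ),
      (∀ y ∈ m.support, HasValueAt y ((g.1 : (K)ˣ) : K) (v y : k)) ∧ x = cls c hdim m g := by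
  obtain ⟨g, D, v, hg, hv, rfl⟩ := ((LSg.main c hdim m hm).2.1 x).mp hx
  refine ⟨⟨Units.mk0 g hg.1, fun y hy => ?_⟩, v, hv, ?_⟩
  · rw [Units.val_mk0, ← hg.2 y]
    exact D.2 y hy
  · unfold cls
    congr 1
    apply Subtype.ext
    apply Finsupp.ext
    intro y
    exact hg.2 y


theorem hasValue_mul_inv (m : Pt c →₀ ℕ) (g h : US c hdim m) (v w : Pt c → kˣ)
    (hv : ∀ y ∈ m.support, HasValueAt y ((g.1 : (K)ˣ) : K) (v y : k))
    (hw : ∀ y ∈ m.support, HasValueAt y ((h.1 : (K)ˣ) : K) (w y : k)) :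
    ∀ y ∈ m.support, HasValueAt y (((g * h⁻¹ : US c hdim m).1 : (K)ˣ) : K)
      ((v y * (w y)⁻¹ : kˣ) : k) := by
  intro y hy
  rw [Subgroup.coe_mul, Subgroup.coe_inv, Units.val_mul, Units.val_inv_eq_inv_val, Units.val_mul,
    Units.val_inv_eq_inv_val]
  exact hasValue_mul c hdim (hv y hy) (hasValue_inv c hdim (w y).ne_zero (hw y hy))

theorem hasValue_pow' (m : Pt c →₀ ℕ) (g : US c hdim m) (v : Pt c → kˣ) (n : ℕ)
    (hv : ∀ y ∈ m.support, HasValueAt y ((g.1 : (K)ˣ) : K) (v y : k)) :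
    ∀ y ∈ m.support, HasValueAt y (((g ^ n : US c hdim m).1 : (K)ˣ) : K) ((v y ^ n : kˣ) : k) := by
  intro y hy
  rw [Subgroup.coe_pow, Units.val_pow_eq_pow_val, Units.val_pow_eq_pow_val]
  exact hasValue_pow c hdim (hv y hy) n

/-- two functions with the same values along the support have the same class -/
theorem cls_eq_of_values (m : Pt c →₀ ℕ) (hm : ∀ x : Pt c, m x ≤ 1) (g h : US c hdim m)
    (v w : Pt c → kˣ)
    (hv : ∀ y ∈ m.support, HasValueAt y ((g.1 : (K)ˣ) : K) (v y : k))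
    (hw : ∀ y ∈ m.support, HasValueAt y ((h.1 : (K)ˣ) : K) (w y : k))
    (a : kˣ) (ha : ∀ y ∈ m.support, v y * (w y)⁻¹ = a) : cls c hdim m g = cls c hdim m h := by
  have h1 := (cls_eq_zero_iff c hdim m hm (g * h⁻¹) (fun y => v y * (w y)⁻¹)
    (hasValue_mul_inv c hdim m g h v w hv hw)).mpr ⟨a, ha⟩
  rw [cls_mul, cls_inv] at h1
  exact (add_neg_eq_zero.mp h1)

theorem main (m : Pt c →₀ ℕ) (hm : ∀ x : Pt c, m x ≤ 1) (s : ℕ) (hs : m.support.card = s)
    (n : ℕ) (hn : 1 ≤ n) (hnk : (n : k) ≠ 0) :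
    (∀ y : Pic c, n • y = 0 → ∃ x : PicMod c m, n • x = 0 ∧ picModToPic c m x = y) ∧
    Nat.card {x : PicMod c m // n • x = 0 ∧ picModToPic c m x = 0} = n ^ (s - 1) := by
  classical
  refine ⟨?_, ?_⟩
  · intro y hy
    obtain ⟨x₀, rfl⟩ := (LSg.main c hdim m hm).1 y
    have hx : picModToPic c m (n • x₀) = 0 := by rw [map_nsmul, hy]
    obtain ⟨g, v, hv, hg⟩ := exists_cls_of_ker c hdim m hm (n • x₀) hx
    have hroot : ∀ y : Pt c, ∃ w : kˣ, w ^ n = v y := by
      intro y
      obtain ⟨z, hz⟩ := IsAlgClosed.exists_pow_nat_eq (v y : k) (Nat.lt_of_lt_of_le zero_lt_one hn)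
      have hz0 : z ≠ 0 := by
        rintro rfl
        rw [zero_pow (by omega)] at hz
        exact (v y).ne_zero hz.symm
      refine ⟨Units.mk0 z hz0, ?_⟩
      apply Units.ext
      rw [Units.val_pow_eq_pow_val, Units.val_mk0, hz]
    choose w hw using hroot
    obtain ⟨g', hg'⟩ := exists_US c hdim m w
    refine ⟨x₀ - cls c hdim m g', ?_, ?_⟩
    · rw [nsmul_sub, hg, ← cls_pow, sub_eq_zero]
      exact cls_eq_of_values c hdim m hm g (g' ^ n) v (fun y => w y ^ n) hv
        (hasValue_pow' c hdim m g' w n hg') 1 (fun y _ => by rw [hw y, mul_inv_cancel])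
    · rw [map_sub, picModToPic_cls, sub_zero]
  · by_cases hS : m.support = ∅
    · have hs0 : s = 0 := by rw [← hs, hS, Finset.card_empty]
      rw [hs0, Nat.zero_sub, pow_zero]
      have huniq : ∀ x : {x : PicMod c m // n • x = 0 ∧ picModToPic c m x = 0},
          x = ⟨0, smul_zero n, map_zero _⟩ := by
        intro x
        apply Subtype.ext
        obtain ⟨g, v, hv, hg⟩ := exists_cls_of_ker c hdim m hm x.1 x.2.2
        rw [hg]
        refine (cls_eq_zero_iff c hdim m hm g v hv).mpr ⟨1, fun y hy => ?_⟩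
        rw [hS] at hy
        exact absurd hy (Finset.notMem_empty y)
      haveI : Unique {x : PicMod c m // n • x = 0 ∧ picModToPic c m x = 0} :=
        ⟨⟨⟨0, smul_zero n, map_zero _⟩⟩, huniq⟩
      exact Nat.card_unique
    obtain ⟨x₀, hx₀⟩ := Finset.nonempty_iff_ne_empty.mpr hS
    haveI : NeZero (n : k) := ⟨hnk⟩
    haveI : NeZero n := ⟨by omega⟩
    let S' : Finset (Pt c) := m.support.erase x₀
    let ext : (S' → rootsOfUnity n k) → Pt c → kˣ := fun ζ x =>
      if h : x ∈ S' then ((ζ ⟨x, h⟩ : rootsOfUnity n k) : kˣ) else 1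
    have hext0 : ∀ ζ, ext ζ x₀ = 1 := by
      intro ζ
      simp only [ext]
      rw [dif_neg]
      exact Finset.notMem_erase x₀ m.support
    have hextS : ∀ ζ (y : S'), ext ζ y.1 = ((ζ y : rootsOfUnity n k) : kˣ) := by
      intro ζ y
      simp only [ext]
      rw [dif_pos y.2]
    have hextpow : ∀ ζ x, ext ζ x ^ n = 1 := by
      intro ζ x
      simp only [ext]
      split_ifs with h
      · exact (mem_rootsOfUnity n _).mp (ζ ⟨x, h⟩).2
      · exact one_pow n
    have hG : ∀ ζ : S' → rootsOfUnity n k, ∃ g : US c hdim m,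
        ∀ x ∈ m.support, HasValueAt x ((g.1 : (K)ˣ) : K) (ext ζ x : k) := fun ζ =>
      exists_US c hdim m (ext ζ)
    choose G hGv using hG
    let f : (S' → rootsOfUnity n k) → {x : PicMod c m // n • x = 0 ∧ picModToPic c m x = 0} :=
      fun ζ => ⟨cls c hdim m (G ζ), by
        rw [← cls_pow]
        exact (cls_eq_zero_iff c hdim m hm (G ζ ^ n) (fun x => ext ζ x ^ n)
          (hasValue_pow' c hdim m (G ζ) (ext ζ) n (hGv ζ))).mpr ⟨1, fun x _ => hextpow ζ x⟩,
        picModToPic_cls c hdim m _⟩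
    have hfinj : Function.Injective f := by
      intro ζ ζ' h
      have h1 : cls c hdim m (G ζ) = cls c hdim m (G ζ') := congrArg Subtype.val h
      have h2 : cls c hdim m (G ζ * (G ζ')⁻¹) = 0 := by
        rw [cls_mul, cls_inv, h1, add_neg_cancel]
      obtain ⟨a, ha⟩ := (cls_eq_zero_iff c hdim m hm (G ζ * (G ζ')⁻¹)
        (fun y => ext ζ y * (ext ζ' y)⁻¹)
        (hasValue_mul_inv c hdim m (G ζ) (G ζ') (ext ζ) (ext ζ') (hGv ζ) (hGv ζ'))).mp h2
      have ha1 : a = 1 := by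
        rw [← ha x₀ hx₀, hext0, hext0, inv_one, mul_one]
      funext y
      apply Subtype.ext
      have h3 := ha y.1 (Finset.mem_of_mem_erase y.2)
      rw [ha1, hextS, hextS, mul_inv_eq_one] at h3
      exact h3
    have hfsurj : Function.Surjective f := by
      rintro ⟨x, hnx, hkx⟩
      obtain ⟨g, v, hv, rfl⟩ := exists_cls_of_ker c hdim m hm x hkx
      have h1 : cls c hdim m (g ^ n) = 0 := by rw [cls_pow]; exact hnx
      obtain ⟨a, ha⟩ := (cls_eq_zero_iff c hdim m hm (g ^ n) (fun y => v y ^ n)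
        (hasValue_pow' c hdim m g v n hv)).mp h1
      let ζ : S' → rootsOfUnity n k := fun y => ⟨v y.1 * (v x₀)⁻¹, by
        rw [mem_rootsOfUnity, mul_pow, inv_pow, ha y.1 (Finset.mem_of_mem_erase y.2), ha x₀ hx₀,
          mul_inv_cancel]⟩
      refine ⟨ζ, Subtype.ext ?_⟩
      change cls c hdim m (G ζ) = cls c hdim m g
      refine cls_eq_of_values c hdim m hm (G ζ) g (ext ζ) v (hGv ζ) hv (v x₀)⁻¹ (fun y hy => ?_)
      by_cases hy' : y ∈ S'
      · rw [hextS ζ ⟨y, hy'⟩]
        change v y * (v x₀)⁻¹ * (v y)⁻¹ = (v x₀)⁻¹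
        rw [mul_comm (v y), mul_assoc, mul_inv_cancel, mul_one]
      · have hyx : y = x₀ := by
          by_contra hne
          exact hy' (Finset.mem_erase.mpr ⟨hne, hy⟩)
        rw [hyx, hext0, one_mul]
    rw [← Nat.card_congr (Equiv.ofBijective f ⟨hfinj, hfsurj⟩), Nat.card_fun,
      HasEnoughRootsOfUnity.natCard_rootsOfUnity k n, Nat.card_eq_fintype_card, Fintype.card_coe,
      Finset.card_erase_of_mem hx₀, hs]

end Groth.Agent.Lib.Helper8.LSi
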