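import Mathlib

set_option autoImplicit false
set_option backward.isDefEq.respectTransparency.types false

/-!
# Discriminant group of `Im d` versus torsion of `Coker (d* d)`
-/

namespace Groth.Agent.Lib.Helper8.Latt

open Module

section Torsion

variable {M : Type*} [AddCommGroup M] [Module.Finite ℤ M] [Module.Free ℤ M]

/-- an injective endomorphism of a finite free `ℤ`-module has torsion cokernel -/
lemma exists_smul_mem_range_of_injective (f : M →ₗ[ℤ] M) (hf : Function.Injective f) (x : M) :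
    ∃ a : ℤ, a ≠ 0 ∧ a • x ∈ LinearMap.range f := by
  have hrank : Module.finrank ℤ (LinearMap.range f) = Module.finrank ℤ M :=
    (LinearEquiv.ofInjective f hf).finrank_eq.symm
  have hfin : Finite (M ⧸ LinearMap.range f) :=
    Submodule.finiteQuotientOfFreeOfRankEq _ hrank
  have hcard : Nat.card (M ⧸ LinearMap.range f) ≠ 0 := Nat.card_ne_zero.2 ⟨⟨0⟩, hfin⟩
  refine ⟨(Nat.card (M ⧸ LinearMap.range f) : ℤ), by exact_mod_cast hcard, ?_⟩
  have := AddSubgroup.nsmul_index_mem (LinearMap.range f).toAddSubgroup x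
  rw [natCast_zsmul]
  exact this

end Torsion

variable {L₀ L₁ : Type} [AddCommGroup L₀] [AddCommGroup L₁]
  [Module.Finite ℤ L₀] [Module.Free ℤ L₀] [Module.Finite ℤ L₁] [Module.Free ℤ L₁]
  (B₀ : LinearMap.BilinForm ℤ L₀) (B₁ : LinearMap.BilinForm ℤ L₁)
  (h₀s : B₀.IsSymm) (h₁s : B₁.IsSymm)
  (h₀p : ∀ x, x ≠ 0 → 0 < B₀ x x) (h₁p : ∀ x, x ≠ 0 → 0 < B₁ x x)
  (d : L₀ →ₗ[ℤ] L₁) (ds : L₁ →ₗ[ℤ] L₀) (hadj : ∀ x y, B₁ (d x) y = B₀ x (ds y))

/-- the orthogonal complement of `ker d` -/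
def perpKer : Submodule ℤ L₀ where
  carrier := {x | ∀ k, d k = 0 → B₀ x k = 0}
  add_mem' := by
    intro x y hx hy k hk
    simp [hx k hk, hy k hk]
  zero_mem' := by intro k _; simp
  smul_mem' := by
    intro c x hx k hk
    simp [hx k hk]

include h₀s h₁s hadj in
lemma dsd_mem_perpKer (y : L₀) : ds (d y) ∈ perpKer B₀ d := by
  intro k hk
  have h1 : B₀ (ds (d y)) k = B₀ k (ds (d y)) := h₀s.eq _ _
  rw [h1, ← hadj, hk]
  simp

include h₀s h₁s h₀p h₁p hadj in
/-- elements orthogonal to `ker d` are torsion modulo `im (d* d)` -/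
lemma exists_smul_mem_range (x : L₀) (hx : x ∈ perpKer B₀ d) :
    ∃ a : ℤ, a ≠ 0 ∧ a • x ∈ LinearMap.range (ds ∘ₗ d) := by
  let M := perpKer B₀ d
  let f : M →ₗ[ℤ] M := LinearMap.codRestrict M ((ds ∘ₗ d) ∘ₗ M.subtype)
    (fun y => dsd_mem_perpKer B₀ B₁ h₀s h₁s d ds hadj y.1)
  have hf : Function.Injective f := by
    rw [← LinearMap.ker_eq_bot, LinearMap.ker_eq_bot']
    intro y hy
    have h1 : ds (d y.1) = 0 := congrArg Subtype.val hy
    have h2 : B₁ (d y.1) (d y.1) = 0 := by rw [hadj, h1]; simp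
    have h3 : d y.1 = 0 := by
      by_contra h
      exact (h₁p _ h).ne' h2
    have h4 : B₀ y.1 y.1 = 0 := y.2 y.1 h3
    have h5 : y.1 = 0 := by
      by_contra h
      exact (h₀p _ h).ne' h4
    exact Subtype.ext h5
  obtain ⟨a, ha, y, hy⟩ := exists_smul_mem_range_of_injective f hf ⟨x, hx⟩
  refine ⟨a, ha, y.1, ?_⟩
  have := congrArg Subtype.val hy
  simpa [f] using this


include h₀s h₁s h₀p h₁p hadj in
theorem discriminant_equiv (huni : Function.Bijective B₀) :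
    ∃ Φ : ↥(Submodule.torsion ℤ (L₀ ⧸ LinearMap.range (ds ∘ₗ d))) ≃ₗ[ℤ]
        (Module.Dual ℤ ↥(LinearMap.range d) ⧸
          LinearMap.range ((B₁.compl₂ (LinearMap.range d).subtype) ∘ₗ (LinearMap.range d).subtype)),
      ∀ (x : L₀) (hx : Submodule.Quotient.mk x ∈ Submodule.torsion ℤ (L₀ ⧸ LinearMap.range (ds ∘ₗ d)))
        (ψ : Module.Dual ℤ ↥(LinearMap.range d)),
        (∀ y' : L₀, ψ ⟨d y', LinearMap.mem_range_self d y'⟩ = B₀ x y') →
          Φ ⟨Submodule.Quotient.mk x, hx⟩ = Submodule.Quotient.mk ψ := by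
  classical
  set N := LinearMap.range (ds ∘ₗ d) with hN
  set Rd := LinearMap.range d with hRd
  set ι : ↥Rd →ₗ[ℤ] Module.Dual ℤ ↥Rd := (B₁.compl₂ Rd.subtype) ∘ₗ Rd.subtype with hι
  set R := LinearMap.range ι with hR
  have hι_apply : ∀ z z' : ↥Rd, ι z z' = B₁ z.1 z'.1 := fun z z' => rfl
  let d' : L₀ →ₗ[ℤ] ↥Rd := d.rangeRestrict
  have hd'_apply : ∀ y, (d' y).1 = d y := fun y => rfl
  have hd'_surj : Function.Surjective d' := LinearMap.surjective_rangeRestrict d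
  let e₀ : L₀ ≃ₗ[ℤ] (L₀ →ₗ[ℤ] ℤ) := LinearEquiv.ofBijective B₀ huni
  let θ : Module.Dual ℤ ↥Rd →ₗ[ℤ] L₀ := e₀.symm.toLinearMap ∘ₗ (Module.Dual.transpose (R := ℤ) d')
  have hθ : ∀ (ψ : Module.Dual ℤ ↥Rd) (y' : L₀), B₀ (θ ψ) y' = ψ (d' y') := by
    intro ψ y'
    have : B₀ (θ ψ) = Module.Dual.transpose (R := ℤ) d' ψ := by
      change e₀ (e₀.symm _) = _
      rw [LinearEquiv.apply_symm_apply]
    rw [this]
    rfl
  have hinj₀ : ∀ x x' : L₀, (∀ y', B₀ x y' = B₀ x' y') → x = x' := by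
    intro x x' h
    apply huni.1
    ext y'
    exact h y'
  -- symmetric adjointness
  have hB : ∀ y y' : L₀, B₀ (ds (d y)) y' = B₁ (d y) (d y') := by
    intro y y'
    rw [h₀s.eq (ds (d y)) y', ← hadj, h₁s.eq]
  let Θ : Module.Dual ℤ ↥Rd →ₗ[ℤ] L₀ ⧸ N := N.mkQ ∘ₗ θ
  have hθperp : ∀ ψ, θ ψ ∈ perpKer B₀ d := by
    intro ψ k hk
    rw [hθ]
    have : d' k = 0 := Subtype.ext (by rw [hd'_apply, hk]; rfl)
    rw [this, map_zero]
  have htors : ∀ ψ, Θ ψ ∈ Submodule.torsion ℤ (L₀ ⧸ N) := by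
    intro ψ
    obtain ⟨a, ha, hmem⟩ := exists_smul_mem_range B₀ B₁ h₀s h₁s h₀p h₁p d ds hadj (θ ψ) (hθperp ψ)
    rw [Submodule.mem_torsion_iff]
    refine ⟨⟨a, mem_nonZeroDivisors_of_ne_zero ha⟩, ?_⟩
    change a • Θ ψ = 0
    simp only [Θ, LinearMap.comp_apply, Submodule.mkQ_apply]
    rw [← Submodule.Quotient.mk_smul, Submodule.Quotient.mk_eq_zero]
    exact hmem
  have hker : LinearMap.ker Θ = R := by
    ext ψ
    simp only [Θ, LinearMap.mem_ker, LinearMap.comp_apply, Submodule.mkQ_apply,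
      Submodule.Quotient.mk_eq_zero]
    constructor
    · rintro ⟨y, hy⟩
      refine ⟨d' y, ?_⟩
      apply LinearMap.ext
      intro z
      obtain ⟨y', rfl⟩ := hd'_surj z
      rw [hι_apply, hd'_apply, hd'_apply, ← hθ, ← hy]
      exact (hB y y').symm
    · rintro ⟨z, rfl⟩
      obtain ⟨y, rfl⟩ := hd'_surj z
      refine ⟨y, ?_⟩
      apply hinj₀
      intro y'
      rw [hθ, hι_apply, hd'_apply, hd'_apply]
      exact hB y y'
  -- the induced map on the quotient, landing in the torsion submodule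
  let Θq : (Module.Dual ℤ ↥Rd ⧸ R) →ₗ[ℤ] L₀ ⧸ N := R.liftQ Θ (le_of_eq hker.symm)
  have hΘq_tors : ∀ q, Θq q ∈ Submodule.torsion ℤ (L₀ ⧸ N) := by
    intro q
    obtain ⟨ψ, rfl⟩ := Submodule.Quotient.mk_surjective R q
    exact htors ψ
  let Θt : (Module.Dual ℤ ↥Rd ⧸ R) →ₗ[ℤ] ↥(Submodule.torsion ℤ (L₀ ⧸ N)) :=
    LinearMap.codRestrict _ Θq hΘq_tors
  have hΘt_inj : Function.Injective Θt := by
    rw [← LinearMap.ker_eq_bot, LinearMap.ker_codRestrict]
    exact Submodule.ker_liftQ_eq_bot _ _ _ (le_of_eq hker)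
  -- construct a functional from an element orthogonal to `ker d`
  have hexψ : ∀ x : L₀, x ∈ perpKer B₀ d → ∃ ψ : Module.Dual ℤ ↥Rd, ∀ y', ψ (d' y') = B₀ x y' := by
    intro x hx
    have hle : LinearMap.ker d' ≤ LinearMap.ker (B₀ x) := by
      intro k hk
      have hk' : d k = 0 := by
        have := congrArg Subtype.val (LinearMap.mem_ker.1 hk)
        simpa [hd'_apply] using this
      exact hx k hk'
    let eq := LinearMap.quotKerEquivOfSurjective d' hd'_surj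
    refine ⟨((LinearMap.ker d').liftQ (B₀ x) hle) ∘ₗ eq.symm.toLinearMap, ?_⟩
    intro y'
    have : eq.symm (d' y') = Submodule.Quotient.mk y' := by
      rw [LinearEquiv.symm_apply_eq]
      rfl
    simp only [LinearMap.comp_apply, LinearEquiv.coe_coe, this, Submodule.liftQ_apply]
  have hΘt_surj : Function.Surjective Θt := by
    rintro ⟨q, hq⟩
    obtain ⟨x, rfl⟩ := Submodule.Quotient.mk_surjective N q
    rw [Submodule.mem_torsion_iff] at hq
    obtain ⟨⟨a, ha⟩, hax⟩ := hq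
    have ha0 : a ≠ 0 := nonZeroDivisors.ne_zero ha
    change a • (Submodule.Quotient.mk x : L₀ ⧸ N) = 0 at hax
    rw [← Submodule.Quotient.mk_smul, Submodule.Quotient.mk_eq_zero] at hax
    obtain ⟨y, hy⟩ := hax
    have hx : x ∈ perpKer B₀ d := by
      intro k hk
      have h1 : a * B₀ x k = 0 := by
        have : B₀ (a • x) k = 0 := by
          rw [← hy]
          exact dsd_mem_perpKer B₀ B₁ h₀s h₁s d ds hadj y k hk
        simpa using this
      exact (mul_eq_zero.1 h1).resolve_left ha0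
    obtain ⟨ψ, hψ⟩ := hexψ x hx
    refine ⟨Submodule.Quotient.mk ψ, ?_⟩
    apply Subtype.ext
    change Θq (Submodule.Quotient.mk ψ) = Submodule.Quotient.mk x
    simp only [Θq, Submodule.liftQ_apply, Θ, LinearMap.comp_apply, Submodule.mkQ_apply]
    congr 1
    apply hinj₀
    intro y'
    rw [hθ, hψ]
  let Φ := (LinearEquiv.ofBijective Θt ⟨hΘt_inj, hΘt_surj⟩).symm
  refine ⟨Φ, ?_⟩
  intro x hx ψ hψ
  change (LinearEquiv.ofBijective Θt ⟨hΘt_inj, hΘt_surj⟩).symm _ = _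
  rw [LinearEquiv.symm_apply_eq]
  apply Subtype.ext
  change Submodule.Quotient.mk x = Θq (Submodule.Quotient.mk ψ)
  simp only [Θq, Submodule.liftQ_apply, Θ, LinearMap.comp_apply, Submodule.mkQ_apply]
  congr 1
  apply hinj₀
  intro y'
  rw [hθ]
  exact (hψ y').symm

end Groth.Agent.Lib.Helper8.Latt
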