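import Mathlib
import Groth.Agent.Lib.Helper8.Lazard4

set_option autoImplicit false
set_option linter.unusedSectionVars false
set_option backward.isDefEq.respectTransparency.types false

/-!
# Multiplicative cocycles and their splittings: general tools
-/

universe u

namespace Groth.Agent.Lib.Helper8.Lazard

open MvPolynomial

section Mult

variable {R : Type u} [CommRing R]

/-- `f` splits the multiplicative cocycle `k`: `f(X+Y) = f(X) f(Y) k(X,Y)` -/
def Splits (f : Polynomial R) (k : MvPolynomial (Fin 2) R) : Prop :=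
  Polynomial.aeval (X 0 + X 1 : MvPolynomial (Fin 2) R) f =
    Polynomial.aeval (X 0 : MvPolynomial (Fin 2) R) f *
      Polynomial.aeval (X 1 : MvPolynomial (Fin 2) R) f * k

lemma Splits.one : Splits (1 : Polynomial R) 1 := by unfold Splits; simp

lemma Splits.mul {f f' : Polynomial R} {k k' : MvPolynomial (Fin 2) R} (h : Splits f k)
    (h' : Splits f' k') : Splits (f * f') (k * k') := by
  unfold Splits at *
  rw [map_mul, map_mul, map_mul, h, h']; ring

lemma Splits.prod {ι : Type*} (s : Finset ι) (f : ι → Polynomial R)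
    (k : ι → MvPolynomial (Fin 2) R) (h : ∀ i ∈ s, Splits (f i) (k i)) :
    Splits (∏ i ∈ s, f i) (∏ i ∈ s, k i) := by
  classical
  induction s using Finset.induction_on with
  | empty => simpa using Splits.one
  | insert a s ha ih =>
    rw [Finset.prod_insert ha, Finset.prod_insert ha]
    exact (h a (Finset.mem_insert_self _ _)).mul
      (ih fun i hi => h i (Finset.mem_insert_of_mem hi))

lemma Splits.inv {f f' : Polynomial R} {k k' : MvPolynomial (Fin 2) R} (h : Splits f k)
    (hf : f * f' = 1) (hk : k * k' = 1) : Splits f' k' := by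
  unfold Splits at *
  have e1 := congrArg (Polynomial.aeval (X 0 + X 1 : MvPolynomial (Fin 2) R)) hf
  have e2 := congrArg (Polynomial.aeval (X 0 : MvPolynomial (Fin 2) R)) hf
  have e3 := congrArg (Polynomial.aeval (X 1 : MvPolynomial (Fin 2) R)) hf
  rw [map_mul, map_one] at e1 e2 e3
  set a := Polynomial.aeval (X 0 + X 1 : MvPolynomial (Fin 2) R) f
  set a' := Polynomial.aeval (X 0 + X 1 : MvPolynomial (Fin 2) R) f'
  set b := Polynomial.aeval (X 0 : MvPolynomial (Fin 2) R) f
  set b' := Polynomial.aeval (X 0 : MvPolynomial (Fin 2) R) f'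
  set c := Polynomial.aeval (X 1 : MvPolynomial (Fin 2) R) f
  set c' := Polynomial.aeval (X 1 : MvPolynomial (Fin 2) R) f'
  linear_combination (-(a' * c * c' * k * k')) * e2 + (-(a' * k * k')) * e3 + (-a') * hk +
    (-(b' * c' * k' * a')) * h + (b' * c' * k') * e1

lemma Splits.congr {f : Polynomial R} {k k' : MvPolynomial (Fin 2) R} (h : Splits f k)
    (hk : k = k') : Splits f k' := hk ▸ h

/-- the multiplicative coboundary `g(X+Y) v(X) v(Y)` (with `v = g⁻¹`) -/
noncomputable def cobM (g v : Polynomial R) : MvPolynomial (Fin 2) R :=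
  Polynomial.aeval (X 0 + X 1 : MvPolynomial (Fin 2) R) g *
    Polynomial.aeval (X 0 : MvPolynomial (Fin 2) R) v *
      Polynomial.aeval (X 1 : MvPolynomial (Fin 2) R) v

lemma aeval2_cobM {S : Type*} [CommRing S] [Algebra R S] (a b : S) (g v : Polynomial R) :
    aeval ![a, b] (cobM g v) =
      Polynomial.aeval (a + b) g * Polynomial.aeval a v * Polynomial.aeval b v := by
  unfold cobM
  rw [map_mul, map_mul, ← Polynomial.aeval_algHom_apply, ← Polynomial.aeval_algHom_apply,
    ← Polynomial.aeval_algHom_apply]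
  simp

lemma aeval_mul_eq_one {S : Type*} [CommRing S] [Algebra R S] {g v : Polynomial R}
    (hgv : g * v = 1) (z : S) : Polynomial.aeval z g * Polynomial.aeval z v = 1 := by
  rw [← map_mul, hgv, map_one]

lemma splits_cobM {g v : Polynomial R} (hgv : g * v = 1) : Splits g (cobM g v) := by
  unfold Splits cobM
  have e2 := aeval_mul_eq_one hgv (X 0 : MvPolynomial (Fin 2) R)
  have e3 := aeval_mul_eq_one hgv (X 1 : MvPolynomial (Fin 2) R)
  set a := Polynomial.aeval (X 0 + X 1 : MvPolynomial (Fin 2) R) g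
  set b := Polynomial.aeval (X 0 : MvPolynomial (Fin 2) R) g
  set b' := Polynomial.aeval (X 0 : MvPolynomial (Fin 2) R) v
  set c := Polynomial.aeval (X 1 : MvPolynomial (Fin 2) R) g
  set c' := Polynomial.aeval (X 1 : MvPolynomial (Fin 2) R) v
  linear_combination (-(a * c * c')) * e2 + (-a) * e3

lemma cobM_mul_cobM {g v : Polynomial R} (hgv : g * v = 1) : cobM g v * cobM v g = 1 := by
  unfold cobM
  have e1 := aeval_mul_eq_one hgv (X 0 + X 1 : MvPolynomial (Fin 2) R)
  have e2 := aeval_mul_eq_one hgv (X 0 : MvPolynomial (Fin 2) R)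
  have e3 := aeval_mul_eq_one hgv (X 1 : MvPolynomial (Fin 2) R)
  set a := Polynomial.aeval (X 0 + X 1 : MvPolynomial (Fin 2) R) g
  set a' := Polynomial.aeval (X 0 + X 1 : MvPolynomial (Fin 2) R) v
  set b := Polynomial.aeval (X 0 : MvPolynomial (Fin 2) R) g
  set b' := Polynomial.aeval (X 0 : MvPolynomial (Fin 2) R) v
  set c := Polynomial.aeval (X 1 : MvPolynomial (Fin 2) R) g
  set c' := Polynomial.aeval (X 1 : MvPolynomial (Fin 2) R) v
  linear_combination (b * b' * c * c') * e1 + (c * c') * e2 + e3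

lemma cobM_symm (g v : Polynomial R) :
    aeval ![(X 1 : MvPolynomial (Fin 2) R), X 0] (cobM g v) = cobM g v := by
  rw [aeval2_cobM]; unfold cobM; rw [add_comm]; ring

/-- multiplicative 2-cocycle identity -/
def MulCoc (k : MvPolynomial (Fin 2) R) : Prop :=
  aeval ![(X 1 : MvPolynomial (Fin 3) R), X 2] k *
      aeval ![(X 0 : MvPolynomial (Fin 3) R), X 1 + X 2] k =
    aeval ![(X 0 + X 1 : MvPolynomial (Fin 3) R), X 2] k *
      aeval ![(X 0 : MvPolynomial (Fin 3) R), X 1] k

lemma MulCoc.mul {k k' : MvPolynomial (Fin 2) R} (h : MulCoc k) (h' : MulCoc k') :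
    MulCoc (k * k') := by
  unfold MulCoc at *
  simp only [map_mul]
  linear_combination (aeval ![(X 1 : MvPolynomial (Fin 3) R), X 2] k' *
      aeval ![(X 0 : MvPolynomial (Fin 3) R), X 1 + X 2] k') * h +
    (aeval ![(X 0 + X 1 : MvPolynomial (Fin 3) R), X 2] k *
      aeval ![(X 0 : MvPolynomial (Fin 3) R), X 1] k) * h'

lemma mulCoc_cobM {g v : Polynomial R} (hgv : g * v = 1) : MulCoc (cobM g v) := by
  unfold MulCoc
  rw [aeval2_cobM, aeval2_cobM, aeval2_cobM, aeval2_cobM]
  have hA := aeval_mul_eq_one hgv (X 1 + X 2 : MvPolynomial (Fin 3) R)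
  have hB := aeval_mul_eq_one hgv (X 0 + X 1 : MvPolynomial (Fin 3) R)
  rw [← add_assoc]
  set g3 := Polynomial.aeval (X 0 + X 1 + X 2 : MvPolynomial (Fin 3) R) g
  set v0 := Polynomial.aeval (X 0 : MvPolynomial (Fin 3) R) v
  set v1 := Polynomial.aeval (X 1 : MvPolynomial (Fin 3) R) v
  set v2 := Polynomial.aeval (X 2 : MvPolynomial (Fin 3) R) v
  linear_combination (g3 * v0 * v1 * v2) * hA - (g3 * v0 * v1 * v2) * hB

lemma MulCoc.map {B : Type*} [CommRing B] (φ : R →+* B) {k : MvPolynomial (Fin 2) R}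
    (h : MulCoc k) : MulCoc (MvPolynomial.map φ k) := by
  unfold MulCoc at *
  have := congrArg (MvPolynomial.map φ) h
  simpa only [map_mul, map_aeval2, map_add, map_X] using this

/-! ### square-zero ideals of coefficients -/

lemma mul_eq_zero_of_mem_map_C {σ : Type*} {K : Ideal R} (hK : K * K = ⊥)
    {P Q : MvPolynomial σ R} (hP : P ∈ Ideal.map (C : R →+* MvPolynomial σ R) K)
    (hQ : Q ∈ Ideal.map (C : R →+* MvPolynomial σ R) K) : P * Q = 0 := by
  have : P * Q ∈ Ideal.map (C : R →+* MvPolynomial σ R) K *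
      Ideal.map (C : R →+* MvPolynomial σ R) K := Ideal.mul_mem_mul hP hQ
  rw [← Ideal.map_mul, hK, Ideal.map_bot] at this
  exact this

lemma poly_mul_eq_zero_of_mem_map_C {K : Ideal R} (hK : K * K = ⊥)
    {P Q : Polynomial R} (hP : ∀ n, P.coeff n ∈ K) (hQ : ∀ n, Q.coeff n ∈ K) : P * Q = 0 := by
  have : P * Q ∈ Ideal.map (Polynomial.C : R →+* Polynomial R) K *
      Ideal.map (Polynomial.C : R →+* Polynomial R) K :=
    Ideal.mul_mem_mul (Ideal.mem_map_C_iff.2 hP) (Ideal.mem_map_C_iff.2 hQ)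
  rw [← Ideal.map_mul, hK, Ideal.map_bot] at this
  exact this

lemma aeval_mem_map_C {σ τ : Type*} {K : Ideal R} (g : σ → MvPolynomial τ R)
    {P : MvPolynomial σ R} (hP : P ∈ Ideal.map (C : R →+* MvPolynomial σ R) K) :
    aeval g P ∈ Ideal.map (C : R →+* MvPolynomial τ R) K := by
  have : Ideal.map (C : R →+* MvPolynomial σ R) K ≤
      Ideal.comap ((aeval g : MvPolynomial σ R →ₐ[R] MvPolynomial τ R) : _ →+* _)
        (Ideal.map (C : R →+* MvPolynomial τ R) K) := by
    rw [Ideal.map_le_iff_le_comap]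
    intro x hx
    rw [Ideal.mem_comap, Ideal.mem_comap]
    simp only [RingHom.coe_coe, aeval_C, algebraMap_eq]
    exact Ideal.mem_map_of_mem _ hx
  exact this hP

lemma polyAeval_mem_map_C {τ : Type*} {K : Ideal R} (z : MvPolynomial τ R)
    {G : Polynomial R} (hG : ∀ n, G.coeff n ∈ K) :
    Polynomial.aeval z G ∈ Ideal.map (C : R →+* MvPolynomial τ R) K := by
  rw [Polynomial.aeval_eq_sum_range]
  refine Ideal.sum_mem _ fun n _ => ?_
  rw [Algebra.smul_def, algebraMap_eq]
  exact Ideal.mul_mem_right _ _ (Ideal.mem_map_of_mem _ (hG n))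

lemma cobG_mem_map_C {K : Ideal R} {G : Polynomial R} (hG : ∀ n, G.coeff n ∈ K) :
    cobG G ∈ Ideal.map (C : R →+* MvPolynomial (Fin 2) R) K := by
  unfold cobG
  exact Ideal.sub_mem _ (Ideal.sub_mem _ (polyAeval_mem_map_C _ hG) (polyAeval_mem_map_C _ hG))
    (polyAeval_mem_map_C _ hG)

/-- multiplicative cocycle `1 + F` with square-zero coefficients gives an additive cocycle -/
lemma delta_eq_zero_of_mulCoc {K : Ideal R} (hK : K * K = ⊥) {F : MvPolynomial (Fin 2) R}
    (hF : F ∈ Ideal.map (C : R →+* MvPolynomial (Fin 2) R) K) (h : MulCoc (1 + F)) :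
    delta F = 0 := by
  unfold MulCoc at h
  simp only [map_add, map_one] at h
  have hab := mul_eq_zero_of_mem_map_C hK
    (aeval_mem_map_C ![(X 1 : MvPolynomial (Fin 3) R), X 2] hF)
    (aeval_mem_map_C ![(X 0 : MvPolynomial (Fin 3) R), X 1 + X 2] hF)
  have hcd := mul_eq_zero_of_mem_map_C hK
    (aeval_mem_map_C ![(X 0 + X 1 : MvPolynomial (Fin 3) R), X 2] hF)
    (aeval_mem_map_C ![(X 0 : MvPolynomial (Fin 3) R), X 1] hF)
  unfold delta
  linear_combination h - hab + hcd

lemma prod_one_add {A : Type*} [CommRing A] {ι : Type*} (s : Finset ι) (x : ι → A) (J : Ideal A)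
    (hJ : ∀ a ∈ J, ∀ b ∈ J, a * b = 0) (hx : ∀ i ∈ s, x i ∈ J) :
    ∏ i ∈ s, (1 + x i) = 1 + ∑ i ∈ s, x i := by
  classical
  induction s using Finset.induction_on with
  | empty => simp
  | insert a s ha ih =>
    rw [Finset.prod_insert ha, Finset.sum_insert ha, ih fun i hi => hx i (Finset.mem_insert_of_mem hi)]
    have h0 : x a * ∑ i ∈ s, x i = 0 :=
      hJ _ (hx a (Finset.mem_insert_self _ _)) _
        (J.sum_mem fun i hi => hx i (Finset.mem_insert_of_mem hi))
    linear_combination h0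

lemma isUnit_one_add_of_sq {A : Type*} [CommRing A] {x : A} (hx : x * x = 0) : IsUnit (1 + x) := by
  refine IsUnit.of_mul_eq_one (1 - x) ?_
  linear_combination (-1 : A) * hx

lemma splits_one_add {K : Ideal R} (hK : K * K = ⊥) {G : Polynomial R}
    (hG : ∀ n, G.coeff n ∈ K) : Splits (1 + G) (1 + cobG G) := by
  unfold Splits cobG
  simp only [map_add, map_one]
  have ha := polyAeval_mem_map_C (X 0 : MvPolynomial (Fin 2) R) hG
  have hb := polyAeval_mem_map_C (X 1 : MvPolynomial (Fin 2) R) hG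
  have hc := polyAeval_mem_map_C (X 0 + X 1 : MvPolynomial (Fin 2) R) hG
  have hab := mul_eq_zero_of_mem_map_C hK ha hb
  have hac := mul_eq_zero_of_mem_map_C hK ha hc
  have haa := mul_eq_zero_of_mem_map_C hK ha ha
  have hbc := mul_eq_zero_of_mem_map_C hK hb hc
  have hbb := mul_eq_zero_of_mem_map_C hK hb hb
  set a := Polynomial.aeval (X 0 : MvPolynomial (Fin 2) R) G
  set b := Polynomial.aeval (X 1 : MvPolynomial (Fin 2) R) G
  set c := Polynomial.aeval (X 0 + X 1 : MvPolynomial (Fin 2) R) G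
  linear_combination (-1 : MvPolynomial (Fin 2) R) * hac + haa - hbc + (1 - c + a + b) * hab + hbb

/-- Frobenius twist of a splitting -/
lemma Splits.expand (p : ℕ) [hp : Fact p.Prime] [CharP R p] {f : Polynomial R}
    {k : MvPolynomial (Fin 2) R} (h : Splits f k) (t : ℕ) :
    Splits (Polynomial.expand R (p ^ t) f)
      (aeval ![(X 0 : MvPolynomial (Fin 2) R) ^ p ^ t, X 1 ^ p ^ t] k) := by
  unfold Splits at *
  have : CharP (MvPolynomial (Fin 2) R) p := inferInstance
  rw [Polynomial.expand_aeval, Polynomial.expand_aeval, Polynomial.expand_aeval, add_pow_char_pow]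
  have := congrArg (aeval ![(X 0 : MvPolynomial (Fin 2) R) ^ p ^ t, X 1 ^ p ^ t]) h
  rw [map_mul, map_mul, ← Polynomial.aeval_algHom_apply, ← Polynomial.aeval_algHom_apply,
    ← Polynomial.aeval_algHom_apply, map_add] at this
  simpa using this

end Mult

end Groth.Agent.Lib.Helper8.Lazard
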