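import Mathlib
import Groth.Agent.Lib.Helper8.Lazard5
import Groth.Agent.Lib.Helper8.GaCh2

set_option autoImplicit false
set_option linter.unusedSectionVars false
set_option backward.isDefEq.respectTransparency.types false

/-!
# The key lemma: the cocycle `1 + λ S` splits when `λ² = 0` and `λ` has a `p`-th root
-/

universe u

namespace Groth.Agent.Lib.Helper8.Lazard

open MvPolynomial

section Grading

variable {R : Type u} [CommRing R] {σ : Type*}

/-- the coefficient of a monomial of degree `n` is a multiple of `s^n` -/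
def InGr (s : R) (P : MvPolynomial σ R) : Prop :=
  ∀ e : σ →₀ ℕ, coeff e P ∈ Ideal.span {s ^ Finsupp.degree e}

variable {s : R}

lemma InGr.C (c : R) : InGr s (C c : MvPolynomial σ R) := by
  classical
  intro e
  rw [coeff_C]
  split_ifs with h
  · subst h; simp
  · exact Ideal.zero_mem _

lemma InGr.one : InGr s (1 : MvPolynomial σ R) := by
  rw [← C_1]; exact InGr.C 1

lemma InGr.zero : InGr s (0 : MvPolynomial σ R) := fun e => by simp

lemma InGr.add {P Q : MvPolynomial σ R} (hP : InGr s P) (hQ : InGr s Q) : InGr s (P + Q) :=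
  fun e => by rw [coeff_add]; exact Ideal.add_mem _ (hP e) (hQ e)

lemma InGr.sub {P Q : MvPolynomial σ R} (hP : InGr s P) (hQ : InGr s Q) : InGr s (P - Q) :=
  fun e => by rw [coeff_sub]; exact Ideal.sub_mem _ (hP e) (hQ e)

lemma InGr.mul {P Q : MvPolynomial σ R} (hP : InGr s P) (hQ : InGr s Q) : InGr s (P * Q) := by
  classical
  intro e
  rw [coeff_mul]
  refine Ideal.sum_mem _ fun x hx => ?_
  rw [Finset.HasAntidiagonal.mem_antidiagonal] at hx
  obtain ⟨a, ha⟩ := Ideal.mem_span_singleton'.1 (hP x.1)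
  obtain ⟨b, hb⟩ := Ideal.mem_span_singleton'.1 (hQ x.2)
  rw [Ideal.mem_span_singleton']
  refine ⟨a * b, ?_⟩
  rw [← ha, ← hb, ← hx, map_add, pow_add]; ring

lemma InGr.pow {P : MvPolynomial σ R} (hP : InGr s P) (n : ℕ) : InGr s (P ^ n) := by
  induction n with
  | zero => rw [pow_zero]; exact InGr.one
  | succ n ih => rw [pow_succ]; exact ih.mul hP

lemma InGr.sum {ι : Type*} (t : Finset ι) (f : ι → MvPolynomial σ R) (h : ∀ i ∈ t, InGr s (f i)) :
    InGr s (∑ i ∈ t, f i) := by
  intro e
  rw [coeff_sum]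
  exact Ideal.sum_mem _ fun i hi => h i hi e

lemma InGr.C_mul_X (i : σ) : InGr s (MvPolynomial.C s * X i : MvPolynomial σ R) := by
  classical
  intro e
  rw [coeff_C_mul, coeff_X']
  split_ifs with h
  · subst h
    rw [Finsupp.degree_single, pow_one, mul_one]
    exact Ideal.mem_span_singleton_self _
  · rw [mul_zero]; exact Ideal.zero_mem _

end Grading

lemma degree_fin2 (x : Fin 2 →₀ ℕ) : Finsupp.degree x = x 0 + x 1 := by
  conv_lhs => rw [eq_e2 x]
  exact e2_degree _ _

open Groth.Agent.Lib.Helper8.GaCh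

variable (p : ℕ) [hp : Fact p.Prime] {R : Type u} [CommRing R] [CharP R p]

/-- the truncated exponential is a character in low degrees -/
lemma coeff_Ep_low (a : R) {i j : ℕ} (hij : i + j < p) :
    (((i + j).choose i : ℕ) : R) * (Ep p a 0).coeff (i + j) =
      (Ep p a 0).coeff i * (Ep p a 0).coeff j := by
  rw [coeff_Ep_zero, coeff_Ep_zero, coeff_Ep_zero]
  have hi : i < p := by omega
  have hj : j < p := by omega
  rw [if_pos hij, if_pos hi, if_pos hj]
  have hu := isUnit_factorial (A := R) p hij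
  have hui := isUnit_factorial (A := R) p hi
  have huj := isUnit_factorial (A := R) p hj
  have hfac : ((((i + j).choose i : ℕ) : R)) * ((i.factorial : ℕ) : R) * ((j.factorial : ℕ) : R) =
      (((i + j).factorial : ℕ) : R) := by
    have := Nat.add_choose_mul_factorial_mul_factorial i j
    rw [← this, Nat.choose_symm_add]; push_cast; ring
  apply hu.mul_left_cancel
  have e1 : (((i + j).factorial : ℕ) : R) * Ring.inverse (((i + j).factorial : ℕ) : R) = 1 :=
    Ring.mul_inverse_cancel _ hu
  have e2 : ((i.factorial : ℕ) : R) * Ring.inverse ((i.factorial : ℕ) : R) = 1 :=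
    Ring.mul_inverse_cancel _ hui
  have e3 : ((j.factorial : ℕ) : R) * Ring.inverse ((j.factorial : ℕ) : R) = 1 :=
    Ring.mul_inverse_cancel _ huj
  calc (((i + j).factorial : ℕ) : R) * ((((i + j).choose i : ℕ) : R) *
        (Ring.inverse (((i + j).factorial : ℕ) : R) * a ^ (i + j)))
      = (((i + j).factorial : ℕ) : R) * Ring.inverse (((i + j).factorial : ℕ) : R) *
          ((((i + j).choose i : ℕ) : R)) * a ^ (i + j) := by ring
    _ = ((((i + j).choose i : ℕ) : R)) * a ^ (i + j) := by rw [e1, one_mul]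
    _ = ((((i + j).choose i : ℕ) : R)) *
          (((i.factorial : ℕ) : R) * Ring.inverse ((i.factorial : ℕ) : R)) *
          (((j.factorial : ℕ) : R) * Ring.inverse ((j.factorial : ℕ) : R)) * a ^ (i + j) := by
        rw [e2, e3, mul_one, mul_one]
    _ = (((((i + j).choose i : ℕ) : R)) * ((i.factorial : ℕ) : R) * ((j.factorial : ℕ) : R)) *
          (Ring.inverse ((i.factorial : ℕ) : R) * a ^ i *
            (Ring.inverse ((j.factorial : ℕ) : R) * a ^ j)) := by
        rw [pow_add]; ring
    _ = _ := by rw [hfac]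

/-- the defect of multiplicativity of the truncated exponential -/
noncomputable def Qdef (a : R) : MvPolynomial (Fin 2) R :=
  Polynomial.aeval (X 0 : MvPolynomial (Fin 2) R) (Ep p a 0) *
      Polynomial.aeval (X 1 : MvPolynomial (Fin 2) R) (Ep p a 0) -
    Polynomial.aeval (X 0 + X 1 : MvPolynomial (Fin 2) R) (Ep p a 0)

lemma coeff_Qdef (a : R) (e : Fin 2 →₀ ℕ) : coeff e (Qdef p a) =
    (Ep p a 0).coeff (e 0) * (Ep p a 0).coeff (e 1) -
      (((e 0 + e 1).choose (e 0) : ℕ) : R) * (Ep p a 0).coeff (e 0 + e 1) := by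
  unfold Qdef
  rw [coeff_sub, coeff_aeval_mul, coeff_aeval_add]

lemma coeff_Qdef_low (a : R) (e : Fin 2 →₀ ℕ) (h : e 0 + e 1 < p) : coeff e (Qdef p a) = 0 := by
  rw [coeff_Qdef, coeff_Ep_low p a h, sub_self]

lemma coeff_Qdef_mem (a : R) (e : Fin 2 →₀ ℕ) : coeff e (Qdef p a) ∈ Ideal.span {a ^ p} := by
  by_cases h : e 0 + e 1 < p
  · rw [coeff_Qdef_low p a e h]; exact Ideal.zero_mem _
  · rw [coeff_Qdef, coeff_Ep_zero, coeff_Ep_zero, coeff_Ep_zero, if_neg h, mul_zero, sub_zero]
    split_ifs with h0 h1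
    · rw [Ideal.mem_span_singleton']
      refine ⟨Ring.inverse ((e 0).factorial : R) * Ring.inverse ((e 1).factorial : R) *
        a ^ (e 0 + e 1 - p), ?_⟩
      have : a ^ e 0 * a ^ e 1 = a ^ (e 0 + e 1 - p) * a ^ p := by
        rw [← pow_add, ← pow_add]; congr 1; omega
      calc _ = Ring.inverse ((e 0).factorial : R) * Ring.inverse ((e 1).factorial : R) *
            (a ^ (e 0 + e 1 - p) * a ^ p) := by ring
        _ = _ := by rw [← this]; ring
    · rw [mul_zero]; exact Ideal.zero_mem _
    · rw [zero_mul]; exact Ideal.zero_mem _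
    · rw [zero_mul]; exact Ideal.zero_mem _

lemma wilson_cast : (((p - 1).factorial : ℕ) : R) = -1 := by
  have h1 : (((p - 1).factorial + 1 : ℕ) : ZMod p) = 0 := by
    push_cast; rw [ZMod.wilsons_lemma]; ring
  have h2 : p ∣ (p - 1).factorial + 1 := (ZMod.natCast_eq_zero_iff _ _).1 h1
  have h3 : (((p - 1).factorial + 1 : ℕ) : R) = 0 := (CharP.cast_eq_zero_iff R p _).2 h2
  push_cast at h3
  linear_combination h3

lemma coeff_Qdef_top (a : R) : coeff (e2 1 (p - 1)) (Qdef p a) = - a ^ p := by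
  have hp1 : 1 < p := hp.out.one_lt
  rw [coeff_Qdef, e2_zero, e2_one, show 1 + (p - 1) = p by omega, coeff_Ep_zero, coeff_Ep_zero,
    coeff_Ep_zero, if_pos hp1, if_pos (by omega), if_neg (lt_irrefl _), mul_zero, sub_zero,
    wilson_cast]
  have : Ring.inverse (-1 : R) = -1 := by
    have := Ring.inverse_unit (-1 : Rˣ)
    simpa using this
  rw [Nat.factorial_one, Nat.cast_one, Ring.inverse_one, this, one_mul, pow_one]
  have : a * a ^ (p - 1) = a ^ p := by rw [← pow_succ']; congr 1; omega
  linear_combination (-1 : R) * this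

lemma aeval_Ep {σ : Type*} (a : R) (z : MvPolynomial σ R) :
    Polynomial.aeval z (Ep p a 0) =
      ∑ j ∈ Finset.range p, C (Ring.inverse ((j.factorial : ℕ) : R)) * (C a * z) ^ j := by
  unfold Ep
  rw [map_sum]
  refine Finset.sum_congr rfl fun j _ => ?_
  rw [map_mul, Polynomial.aeval_C, map_pow, Polynomial.aeval_X, pow_zero, mul_one, algebraMap_eq,
    C_mul, mul_pow, C_pow]
  ring

lemma inGr_aeval_Ep {σ : Type*} (a : R) (z : MvPolynomial σ R)
    (hz : InGr a (C a * z)) : InGr a (Polynomial.aeval z (Ep p a 0)) := by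
  rw [aeval_Ep]
  exact InGr.sum _ _ fun j _ => (InGr.C _).mul (hz.pow j)

/-- **Key lemma.** If `l² = 0` and `l` has a `p`-th root, the cocycle `1 + l S(X,Y)` splits. -/
theorem key_lemma (hFrob : Function.Surjective (frobenius R p)) (l : R) (hl : l * l = 0) :
    ∃ ε : Polynomial R, IsUnit ε ∧ Splits ε (1 + C l * Sp p R) := by
  have hp1 : 1 < p := hp.out.one_lt
  obtain ⟨s, hs⟩ := hFrob l
  rw [frobenius_def] at hs
  have hs2 : s ^ (2 * p) = 0 := by rw [two_mul, pow_add, hs, hl]
  set g := Ep p s 0 with hg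
  -- `1 - g` is a multiple of `s`
  obtain ⟨w, hw⟩ : Polynomial.C s ∣ 1 - g := by
    rw [Polynomial.C_dvd_iff_dvd_coeff]
    intro i
    rw [Polynomial.coeff_sub, Polynomial.coeff_one, coeff_Ep_zero]
    by_cases hi : i = 0
    · subst hi
      rw [if_pos rfl, if_pos hp.out.pos]
      simp
    · rw [if_neg hi, zero_sub]
      split_ifs
      · refine ⟨-(Ring.inverse ((i.factorial : ℕ) : R) * s ^ (i - 1)), ?_⟩
        have : s ^ i = s * s ^ (i - 1) := by rw [← pow_succ']; congr 1; omega
        rw [this]; ring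
      · simp
  have hN : (1 - g) ^ (2 * p) = 0 := by
    rw [hw, mul_pow, ← Polynomial.C_pow, hs2, Polynomial.C_0, zero_mul]
  set v := ∑ k ∈ Finset.range (2 * p), (1 - g) ^ k with hv
  have hgv : g * v = 1 := by
    have := mul_neg_geom_sum (1 - g) (2 * p)
    rw [hN, sub_zero, sub_sub_cancel] at this
    exact this
  have hv0 : v.coeff 0 = 1 := by
    have := congrArg (fun P : Polynomial R => P.coeff 0) hgv
    simp only [Polynomial.mul_coeff_zero, Polynomial.coeff_one_zero] at this
    rwa [hg, coeff_zero_Ep, one_mul] at this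
  -- the ideal
  set K : Ideal R := Ideal.span {l} with hKdef
  have hK : K * K = ⊥ := by
    rw [hKdef, Ideal.span_singleton_mul_span_singleton, hl]
    exact Ideal.span_singleton_eq_bot.2 rfl
  -- notation
  set gX := Polynomial.aeval (X 0 : MvPolynomial (Fin 2) R) g with hgX
  set gY := Polynomial.aeval (X 1 : MvPolynomial (Fin 2) R) g with hgY
  set gXY := Polynomial.aeval (X 0 + X 1 : MvPolynomial (Fin 2) R) g with hgXY
  set vX := Polynomial.aeval (X 0 : MvPolynomial (Fin 2) R) v with hvX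
  set vY := Polynomial.aeval (X 1 : MvPolynomial (Fin 2) R) v with hvY
  have hX1 : gX * vX = 1 := aeval_mul_eq_one hgv _
  have hY1 : gY * vY = 1 := aeval_mul_eq_one hgv _
  have hk : cobM g v = gXY * vX * vY := rfl
  have hQ : Qdef p s = gX * gY - gXY := rfl
  set F₁ := cobM g v - 1 with hF₁
  have hF₁Q : F₁ = -(Qdef p s) * (vX * vY) := by
    rw [hF₁, hk, hQ]
    linear_combination (gY * vY) * hX1 + hY1
  have hQmem : Qdef p s ∈ Ideal.map (C : R →+* MvPolynomial (Fin 2) R) K := by
    rw [mem_map_C_iff]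
    intro e
    have := coeff_Qdef_mem p s e
    rwa [hs] at this
  have hF₁mem : F₁ ∈ Ideal.map (C : R →+* MvPolynomial (Fin 2) R) K := by
    rw [hF₁Q]
    exact Ideal.mul_mem_right _ _ (Submodule.neg_mem _ hQmem)
  have hk1 : cobM g v = 1 + F₁ := by rw [hF₁]; ring
  have hsymm : aeval ![(X 1 : MvPolynomial (Fin 2) R), X 0] F₁ = F₁ := by
    rw [hF₁, map_sub, map_one, cobM_symm]
  have hcoc : delta F₁ = 0 :=
    delta_eq_zero_of_mulCoc hK hF₁mem (by rw [← hk1]; exact mulCoc_cobM hgv)
  -- degree bound via the grading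
  have hGr : InGr s (cobM g v) := by
    rw [hk]
    have hz0 : InGr s (C s * (X 0 : MvPolynomial (Fin 2) R)) := InGr.C_mul_X 0
    have hz1 : InGr s (C s * (X 1 : MvPolynomial (Fin 2) R)) := InGr.C_mul_X 1
    have hz01 : InGr s (C s * (X 0 + X 1 : MvPolynomial (Fin 2) R)) := by
      rw [mul_add]; exact hz0.add hz1
    have hv' : ∀ z : MvPolynomial (Fin 2) R, InGr s (C s * z) →
        InGr s (Polynomial.aeval z v) := by
      intro z hz
      rw [hv, map_sum]
      refine InGr.sum _ _ fun k _ => ?_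
      rw [map_pow, map_sub, map_one]
      exact (InGr.one.sub (inGr_aeval_Ep p s z hz)).pow k
    exact ((inGr_aeval_Ep p s _ hz01).mul (hv' _ hz0)).mul (hv' _ hz1)
  have hD : ∀ i j, 2 * p - 1 < i + j → coeff (e2 i j) F₁ = 0 := by
    intro i j hij
    have h1 := hGr (e2 i j)
    rw [e2_degree, show i + j = 2 * p + (i + j - 2 * p) by omega, pow_add, hs2, zero_mul] at h1
    have h2 : coeff (e2 i j) (cobM g v) = 0 := by
      rw [Ideal.mem_span_singleton'] at h1
      obtain ⟨a, ha⟩ := h1
      rw [← ha, mul_zero]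
    have h3 : coeff (e2 i j) (1 : MvPolynomial (Fin 2) R) = 0 := by
      classical
      rw [coeff_one, if_neg]
      intro h
      have := congrArg Finsupp.degree h
      rw [e2_degree, map_zero] at this
      omega
    rw [hF₁, coeff_sub, h2, h3, sub_zero]
  obtain ⟨G, r, hGK, hrK, hr0', hr0, hF₁eq⟩ :=
    additive_lazard p R K F₁ (mem_map_C_iff.1 hF₁mem) hsymm hcoc (2 * p - 1) hD
  -- the value of `r 0`
  have hr0l : r 0 = l := by
    classical
    rw [hr0, hF₁Q, coeff_mul]
    rw [Finset.sum_eq_single (e2 1 (p - 1), 0)]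
    · rw [coeff_neg, coeff_Qdef_top, hs, neg_neg, hvX, hvY, coeff_aeval_mul]
      simp [hv0]
    · intro x hx hne
      rw [Finset.HasAntidiagonal.mem_antidiagonal] at hx
      have hx2 : x.2 ≠ 0 := by
        intro h0
        apply hne
        rw [h0, add_zero] at hx
        exact Prod.ext hx h0
      have hdeg := congrArg Finsupp.degree hx
      rw [map_add, e2_degree, degree_fin2 x.1] at hdeg
      have hpos : 0 < Finsupp.degree x.2 := by
        rw [Nat.pos_iff_ne_zero]
        intro h0
        exact hx2 ((Finsupp.degree_eq_zero_iff _).1 h0)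
      rw [coeff_neg, coeff_Qdef_low p s x.1 (by omega), neg_zero, zero_mul]
    · intro h
      exfalso; apply h
      rw [Finset.HasAntidiagonal.mem_antidiagonal, add_zero]
  -- only `t = 0` contributes
  have hsum : ∑ t ∈ Finset.range (2 * p - 1), C (r t) *
      aeval ![(X 0 : MvPolynomial (Fin 2) R) ^ p ^ t, X 1 ^ p ^ t] (Sp p R) = C l * Sp p R := by
    rw [Finset.sum_eq_single 0]
    · rw [hr0l, pow_zero, pow_one, pow_one, aeval2_X]
    · intro t _ ht
      have : 2 * p - 1 < p ^ (t + 1) := by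
        have h1 : p ^ 2 ≤ p ^ (t + 1) := Nat.pow_le_pow_right hp.out.pos (by omega)
        have h2 : 2 * p ≤ p ^ 2 := by rw [pow_two]; exact Nat.mul_le_mul_right p hp1
        omega
      rw [hr0' t this, C_0, zero_mul]
    · intro h
      exfalso; apply h
      rw [Finset.mem_range]; omega
  rw [hsum] at hF₁eq
  -- assemble
  have hGneg : ∀ n, (-G).coeff n ∈ K := fun n => by
    rw [Polynomial.coeff_neg]; exact Submodule.neg_mem _ (hGK n)
  have hcobneg : cobG (-G) = - cobG G := by
    unfold cobG; simp only [map_neg]; ring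
  have hsplit1 : Splits g (cobM g v) := splits_cobM hgv
  have hsplit2 : Splits (1 + -G) (1 + cobG (-G)) := splits_one_add hK hGneg
  have hcc : cobG G * cobG G = 0 :=
    mul_eq_zero_of_mem_map_C hK (cobG_mem_map_C hGK) (cobG_mem_map_C hGK)
  have hcS : cobG G * (C l * Sp p R) = 0 :=
    mul_eq_zero_of_mem_map_C hK (cobG_mem_map_C hGK)
      (Ideal.mul_mem_right _ _ (Ideal.mem_map_of_mem _ (Ideal.mem_span_singleton_self l)))
  refine ⟨g * (1 + -G), ?_, ?_⟩
  · refine (IsUnit.of_mul_eq_one v hgv).mul (isUnit_one_add_of_sq ?_)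
    rw [neg_mul_neg]
    exact poly_mul_eq_zero_of_mem_map_C hK hGK hGK
  · refine (hsplit1.mul hsplit2).congr ?_
    rw [hk1, hF₁eq, hcobneg]
    linear_combination (-1 : MvPolynomial (Fin 2) R) * hcc - hcS

end Groth.Agent.Lib.Helper8.Lazard
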