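import Mathlib
import Groth.Agent.Lib.Helper8.Lazard6

set_option autoImplicit false
set_option linter.unusedSectionVars false
set_option backward.isDefEq.respectTransparency.types false

/-!
# Splitting of multiplicative symmetric cocycles over rings of characteristic `p`
with surjective Frobenius
-/

universe u

namespace Groth.Agent.Lib.Helper8.Lazard

open MvPolynomial

section Aux

variable {R : Type u} [CommRing R]

lemma splits_of_subsingleton [Subsingleton R] (f : Polynomial R) (k : MvPolynomial (Fin 2) R) :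
    Splits f k := by
  unfold Splits
  ext e
  exact Subsingleton.elim _ _

lemma map_polyAeval {B : Type*} [CommRing B] (φ : R →+* B) {τ : Type*} (z : MvPolynomial τ R)
    (g : Polynomial R) :
    MvPolynomial.map φ (Polynomial.aeval z g) =
      Polynomial.aeval (MvPolynomial.map φ z) (g.map φ) := by
  rw [Polynomial.aeval_def, Polynomial.aeval_def, Polynomial.hom_eval₂, Polynomial.eval₂_map]
  congr 1
  ext x
  simp

lemma map_cobM {B : Type*} [CommRing B] (φ : R →+* B) (g v : Polynomial R) :
    MvPolynomial.map φ (cobM g v) = cobM (g.map φ) (v.map φ) := by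
  unfold cobM
  simp only [map_mul, map_polyAeval, map_add, map_X]

lemma Splits.mul_cobM_eq_one {f u : Polynomial R} {k : MvPolynomial (Fin 2) R} (h : Splits f k)
    (hfu : f * u = 1) : k * cobM u f = 1 := by
  unfold Splits at h
  unfold cobM
  have e1 := aeval_mul_eq_one hfu (X 0 + X 1 : MvPolynomial (Fin 2) R)
  set a := Polynomial.aeval (X 0 + X 1 : MvPolynomial (Fin 2) R) f
  set a' := Polynomial.aeval (X 0 + X 1 : MvPolynomial (Fin 2) R) u
  linear_combination (-a') * h + e1

end Aux

variable (p : ℕ) [hp : Fact p.Prime]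

/-- the square-zero case -/
theorem sz_split {R : Type u} [CommRing R] [CharP R p]
    (hFrob : Function.Surjective (frobenius R p)) (K : Ideal R) (hK : K * K = ⊥)
    (F : MvPolynomial (Fin 2) R) (hF : F ∈ Ideal.map (C : R →+* MvPolynomial (Fin 2) R) K)
    (hsymm : aeval ![(X 1 : MvPolynomial (Fin 2) R), X 0] F = F) (hcoc : delta F = 0) :
    ∃ f : Polynomial R, IsUnit f ∧ Splits f (1 + F) := by
  classical
  have hD : ∀ i j, F.totalDegree < i + j → coeff (e2 i j) F = 0 := by
    intro i j hij
    apply coeff_eq_zero_of_totalDegree_lt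
    rw [← Finsupp.degree_apply, e2_degree]
    exact hij
  obtain ⟨G, r, hGK, hrK, -, -, hFeq⟩ :=
    additive_lazard p R K F (mem_map_C_iff.1 hF) hsymm hcoc F.totalDegree hD
  have hkey : ∀ t, ∃ ε : Polynomial R, IsUnit ε ∧ Splits ε
      (1 + C (r t) * aeval ![(X 0 : MvPolynomial (Fin 2) R) ^ p ^ t, X 1 ^ p ^ t] (Sp p R)) := by
    intro t
    have hl : r t * r t = 0 := by
      have : r t * r t ∈ K * K := Ideal.mul_mem_mul (hrK t) (hrK t)
      rw [hK] at this
      exact this
    obtain ⟨ε, hε, hsp⟩ := key_lemma p hFrob (r t) hl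
    refine ⟨Polynomial.expand R (p ^ t) ε, hε.map (Polynomial.expand R (p ^ t)), ?_⟩
    have := hsp.expand p t
    simpa only [map_add, map_one, map_mul, aeval_C, algebraMap_eq] using this
  choose ε hεu hεs using hkey
  refine ⟨(1 + G) * ∏ t ∈ Finset.range F.totalDegree, ε t, ?_, ?_⟩
  · exact (isUnit_one_add_of_sq (poly_mul_eq_zero_of_mem_map_C hK hGK hGK)).mul
      (IsUnit.prod_iff.2 fun t _ => hεu t)
  · refine ((splits_one_add hK hGK).mul (Splits.prod _ _ _ fun t _ => hεs t)).congr ?_
    have hmem : ∀ t ∈ Finset.range F.totalDegree,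
        C (r t) * aeval ![(X 0 : MvPolynomial (Fin 2) R) ^ p ^ t, X 1 ^ p ^ t] (Sp p R) ∈
          Ideal.map (C : R →+* MvPolynomial (Fin 2) R) K :=
      fun t _ => Ideal.mul_mem_right _ _ (Ideal.mem_map_of_mem _ (hrK t))
    rw [prod_one_add _ _ (Ideal.map (C : R →+* MvPolynomial (Fin 2) R) K)
      (fun a ha b hb => mul_eq_zero_of_mem_map_C hK ha hb) hmem]
    have h0 : cobG G * ∑ t ∈ Finset.range F.totalDegree,
        C (r t) * aeval ![(X 0 : MvPolynomial (Fin 2) R) ^ p ^ t, X 1 ^ p ^ t] (Sp p R) = 0 :=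
      mul_eq_zero_of_mem_map_C hK (cobG_mem_map_C hGK) (Ideal.sum_mem _ hmem)
    nth_rewrite 2 [hFeq]
    linear_combination h0

/-- the induction on the nilpotency order -/
theorem main_split : ∀ (N : ℕ) (R : Type u) [CommRing R] [CharP R p],
    Function.Surjective (frobenius R p) → ∀ (I : Ideal R), I ^ N = ⊥ →
    ∀ h : MvPolynomial (Fin 2) R, (h - 1) ∈ Ideal.map (C : R →+* MvPolynomial (Fin 2) R) I →
    aeval ![(X 1 : MvPolynomial (Fin 2) R), X 0] h = h → MulCoc h →
    ∃ f : Polynomial R, IsUnit f ∧ Splits f h := by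
  intro N
  induction N with
  | zero =>
    intro R _ _ _ I hI h _ _ _
    have : Subsingleton R := by
      rw [pow_zero, Ideal.one_eq_top] at hI
      have h1 : (1 : R) ∈ (⊥ : Ideal R) := by rw [← hI]; trivial
      exact subsingleton_of_zero_eq_one (Ideal.mem_bot.1 h1).symm
    exact ⟨1, isUnit_one, splits_of_subsingleton _ _⟩
  | succ N ih =>
    intro R _ _ hFrob I hI h hh hsymm hcoc
    rcases Nat.eq_zero_or_pos N with rfl | hN
    · -- `I = ⊥`
      rw [zero_add, pow_one] at hI
      rw [hI, Ideal.map_bot, Ideal.mem_bot, sub_eq_zero] at hh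
      exact ⟨1, isUnit_one, hh ▸ Splits.one⟩
    by_cases hsub : Subsingleton R
    · exact ⟨1, isUnit_one, splits_of_subsingleton _ _⟩
    have hnt : Nontrivial R := not_subsingleton_iff_nontrivial.1 hsub
    set K : Ideal R := I ^ N with hKdef
    have hK : K * K = ⊥ := by
      rw [hKdef, ← pow_add, ← le_bot_iff, ← hI]
      exact Ideal.pow_le_pow_right (by omega)
    have hKtop : K ≠ ⊤ := by
      intro htop
      rw [htop, Ideal.top_mul] at hK
      exact top_ne_bot hK
    haveI : CharP (R ⧸ K) p := by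
      refine CharP.quotient' p K fun x hx => ?_
      by_cases hpx : p ∣ x
      · exact (CharP.cast_eq_zero_iff R p x).2 hpx
      · exfalso
        exact hKtop (Ideal.eq_top_of_isUnit_mem _ hx ((CharP.isUnit_natCast_iff hp.out).2 hpx))
    set φ : R →+* R ⧸ K := Ideal.Quotient.mk K with hφ
    have hFrob' : Function.Surjective (frobenius (R ⧸ K) p) := by
      intro y
      obtain ⟨x, rfl⟩ := Ideal.Quotient.mk_surjective y
      obtain ⟨s, hs⟩ := hFrob x
      refine ⟨φ s, ?_⟩
      rw [frobenius_def, ← map_pow, ← frobenius_def, hs]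
    have hI' : (I.map φ) ^ N = ⊥ := by
      rw [← Ideal.map_pow, ← hKdef, hφ, Ideal.map_quotient_self]
    have hh' : MvPolynomial.map φ h - 1 ∈
        Ideal.map (C : (R ⧸ K) →+* MvPolynomial (Fin 2) (R ⧸ K)) (I.map φ) := by
      rw [mem_map_C_iff]
      intro e
      have : MvPolynomial.map φ h - 1 = MvPolynomial.map φ (h - 1) := by
        rw [map_sub, map_one]
      rw [this, coeff_map]
      exact Ideal.mem_map_of_mem _ (mem_map_C_iff.1 hh e)
    have hsymm' : aeval ![(X 1 : MvPolynomial (Fin 2) (R ⧸ K)), X 0] (MvPolynomial.map φ h) =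
        MvPolynomial.map φ h := by
      have := congrArg (MvPolynomial.map φ) hsymm
      rwa [map_aeval2, map_X, map_X] at this
    obtain ⟨f', hf'u, hf's⟩ := ih (R ⧸ K) hFrob' (I.map φ) hI' (MvPolynomial.map φ h) hh' hsymm'
      (hcoc.map φ)
    obtain ⟨u', hu'⟩ := hf'u.exists_right_inv
    obtain ⟨f₀, rfl⟩ := Polynomial.map_surjective φ Ideal.Quotient.mk_surjective f'
    obtain ⟨u₀, rfl⟩ := Polynomial.map_surjective φ Ideal.Quotient.mk_surjective u'
    -- `f₀` is a unit
    set n := f₀ * u₀ - 1 with hn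
    have hnK : ∀ i, n.coeff i ∈ K := by
      intro i
      have h1 : Polynomial.map φ n = 0 := by
        rw [hn, Polynomial.map_sub, Polynomial.map_mul, hu', Polynomial.map_one, sub_self]
      have h2 := congrArg (fun P : Polynomial (R ⧸ K) => P.coeff i) h1
      simp only [Polynomial.coeff_map, Polynomial.coeff_zero] at h2
      exact Ideal.Quotient.eq_zero_iff_mem.1 h2
    have hnn : n * n = 0 := poly_mul_eq_zero_of_mem_map_C hK hnK hnK
    set u := u₀ * (1 - n) with hu
    have hfu : f₀ * u = 1 := by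
      rw [hu]
      linear_combination (1 - n) * hn - hnn
    have huf : u * f₀ = 1 := by rw [mul_comm]; exact hfu
    -- the corrected cocycle
    set h₁ := h * cobM u f₀ with hh₁
    set F := h₁ - 1 with hFdef
    have hF1 : h₁ = 1 + F := by rw [hFdef]; ring
    have hmap1 : MvPolynomial.map φ h₁ = 1 := by
      rw [hh₁, map_mul, map_cobM]
      refine hf's.mul_cobM_eq_one ?_
      rw [← Polynomial.map_mul, hfu, Polynomial.map_one]
    have hFmem : F ∈ Ideal.map (C : R →+* MvPolynomial (Fin 2) R) K := by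
      rw [mem_map_C_iff]
      intro e
      have h1 : MvPolynomial.map φ F = 0 := by
        rw [hFdef, map_sub, hmap1, map_one, sub_self]
      have h2 := congrArg (coeff e) h1
      rw [coeff_map, coeff_zero] at h2
      exact Ideal.Quotient.eq_zero_iff_mem.1 h2
    have hsymm₁ : aeval ![(X 1 : MvPolynomial (Fin 2) R), X 0] h₁ = h₁ := by
      rw [hh₁, map_mul, hsymm, cobM_symm]
    have hcoc₁ : MulCoc h₁ := hcoc.mul (mulCoc_cobM huf)
    have hsymmF : aeval ![(X 1 : MvPolynomial (Fin 2) R), X 0] F = F := by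
      rw [hFdef, map_sub, map_one, hsymm₁]
    have hdelta : delta F = 0 := delta_eq_zero_of_mulCoc hK hFmem (by rw [← hF1]; exact hcoc₁)
    obtain ⟨f₁, hf₁u, hf₁s⟩ := sz_split p hFrob K hK F hFmem hsymmF hdelta
    refine ⟨f₁ * f₀, hf₁u.mul (IsUnit.of_mul_eq_one u hfu), ?_⟩
    refine (hf₁s.mul (splits_cobM hfu)).congr ?_
    rw [← hF1, hh₁, mul_assoc, cobM_mul_cobM huf, mul_one]

/-- **Splitting theorem** in the form of the milestone. -/
theorem exists_splitting (R : Type u) [CommRing R] [CharP R p]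
    (hF : Function.Surjective (frobenius R p))
    (h : MvPolynomial (Fin 2) R) (hu : IsUnit h)
    (h0 : aeval ![(X 0 : MvPolynomial (Fin 2) R), 0] h = 1)
    (hsymm : aeval ![(X 1 : MvPolynomial (Fin 2) R), X 0] h = h)
    (hcoc : MulCoc h) :
    ∃ f : Polynomial R, IsUnit f ∧ Splits f h := by
  classical
  -- the constant coefficient
  have hc0 : coeff 0 h = 1 := by
    have := congrArg (aeval (fun _ : Fin 2 => (0 : R))) h0
    rw [aeval2_comp, map_one] at this
    have h2 : (![aeval (fun _ : Fin 2 => (0 : R)) (X 0 : MvPolynomial (Fin 2) R),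
        aeval (fun _ : Fin 2 => (0 : R)) (0 : MvPolynomial (Fin 2) R)] : Fin 2 → R) =
        fun _ => 0 := by
      funext i; fin_cases i <;> simp
    rw [h2, aeval_zero'] at this
    simpa [constantCoeff_eq] using this
  obtain ⟨-, hnil⟩ := MvPolynomial.isUnit_iff.1 hu
  set I : Ideal R := Ideal.span (((h - 1).support.image fun e => coeff e (h - 1) : Finset R) : Set R)
    with hI
  have hmem : ∀ e, coeff e (h - 1) ∈ I := by
    intro e
    by_cases he : e ∈ (h - 1).support
    · exact Ideal.subset_span (Finset.mem_coe.2 (Finset.mem_image_of_mem _ he))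
    · rw [notMem_support_iff.1 he]; exact I.zero_mem
  have hle : I ≤ nilradical R := by
    rw [hI, Ideal.span_le]
    intro x hx
    obtain ⟨e, _, rfl⟩ := Finset.mem_image.1 (Finset.mem_coe.1 hx)
    rw [SetLike.mem_coe, mem_nilradical]
    by_cases he : e = 0
    · subst he
      rw [coeff_sub, hc0, coeff_one, if_pos rfl, sub_self]
      exact IsNilpotent.zero
    · rw [coeff_sub, coeff_one, if_neg (Ne.symm he), sub_zero]
      exact hnil e he
  have hFG : I.FG := ⟨_, rfl⟩
  obtain ⟨N, hN⟩ := (Ideal.FG.isNilpotent_iff_le_nilradical hFG).2 hle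
  exact main_split p N R hF I hN h (mem_map_C_iff.2 hmem) hsymm hcoc

end Groth.Agent.Lib.Helper8.Lazard
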