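import Mathlib
import Groth.Agent.Lib.Helper8.Lie3

/-!
# The moduli of based three-dimensional Lie algebras: the components `J` and `L` of `I`
(helper8 library)
-/

set_option backward.isDefEq.respectTransparency.types false
set_option autoImplicit false
set_option maxSynthPendingDepth 4
set_option linter.unusedSectionVars false

universe u

namespace Groth.Agent.Lib.Helper8.Lie3

open Lie3Mod MvPolynomial

section general

variable (A : Type u) [CommRing A]

theorem Q1_eq : Q1 A = vh * L1 A - vg * L2 A + vi * L3 A := by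
  unfold Q1 L1 L2 L3; ring

theorem Q2_eq : Q2 A = -ve * L1 A - vh * L2 A + vb * L3 A := by
  unfold Q2 L1 L2 L3; ring

theorem Q3_eq : Q3 A = -vf * L1 A - vi * L2 A + vc * L3 A := by
  unfold Q3 L1 L2 L3; ring

theorem detM_mul_L1 : detM A * L1 A =
    (-(vh * vc) + vb * vi) * Q1 A + (vg * vc - vi ^ 2) * Q2 A + (-(vg * vb) + vi * vh) * Q3 A := by
  unfold detM Q1 Q2 Q3 L1; ring

theorem detM_mul_L2 : detM A * L2 A =
    (ve * vc - vb * vf) * Q1 A + (vh * vc + vi * vf) * Q2 A + (-(vh * vb) - vi * ve) * Q3 A := by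
  unfold detM Q1 Q2 Q3 L2; ring

theorem detM_mul_L3 : detM A * L3 A =
    (ve * vi - vh * vf) * Q1 A + (vh * vi + vg * vf) * Q2 A + (-(vh ^ 2) - vg * ve) * Q3 A := by
  unfold detM Q1 Q2 Q3 L3; ring

theorem Q1_mem_idI : Q1 A ∈ idI A := Ideal.subset_span (by simp)
theorem Q2_mem_idI : Q2 A ∈ idI A := Ideal.subset_span (by simp)
theorem Q3_mem_idI : Q3 A ∈ idI A := Ideal.subset_span (by simp)
theorem L1_mem_idL : L1 A ∈ idL A := Ideal.subset_span (by simp)
theorem L2_mem_idL : L2 A ∈ idL A := Ideal.subset_span (by simp)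
theorem L3_mem_idL : L3 A ∈ idL A := Ideal.subset_span (by simp)
theorem detM_mem_idJ : detM A ∈ idJ A := Ideal.subset_span (by simp)

theorem idI_le_idJ : idI A ≤ idJ A := by
  apply Ideal.span_mono
  intro x hx
  simp only [Set.mem_insert_iff, Set.mem_singleton_iff] at hx ⊢
  tauto

theorem idI_le_idL : idI A ≤ idL A := by
  rw [idI, Ideal.span_le]
  intro x hx
  simp only [Set.mem_insert_iff, Set.mem_singleton_iff] at hx
  rcases hx with rfl | rfl | rfl
  · rw [Q1_eq]
    exact Ideal.add_mem _ (Ideal.sub_mem _ (Ideal.mul_mem_left _ _ (L1_mem_idL A))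
      (Ideal.mul_mem_left _ _ (L2_mem_idL A))) (Ideal.mul_mem_left _ _ (L3_mem_idL A))
  · rw [Q2_eq]
    exact Ideal.add_mem _ (Ideal.sub_mem _ (Ideal.mul_mem_left _ _ (L1_mem_idL A))
      (Ideal.mul_mem_left _ _ (L2_mem_idL A))) (Ideal.mul_mem_left _ _ (L3_mem_idL A))
  · rw [Q3_eq]
    exact Ideal.add_mem _ (Ideal.sub_mem _ (Ideal.mul_mem_left _ _ (L1_mem_idL A))
      (Ideal.mul_mem_left _ _ (L2_mem_idL A))) (Ideal.mul_mem_left _ _ (L3_mem_idL A))

theorem idJ_eq_sup : idJ A = idI A ⊔ Ideal.span {detM A} := by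
  apply le_antisymm
  · rw [idJ, Ideal.span_le]
    intro x hx
    simp only [Set.mem_insert_iff, Set.mem_singleton_iff] at hx
    rcases hx with rfl | rfl | rfl | rfl
    · exact Ideal.mem_sup_left (Q1_mem_idI A)
    · exact Ideal.mem_sup_left (Q2_mem_idI A)
    · exact Ideal.mem_sup_left (Q3_mem_idI A)
    · exact Ideal.mem_sup_right (Ideal.subset_span rfl)
  · apply sup_le (idI_le_idJ A)
    rw [Ideal.span_le, Set.singleton_subset_iff]
    exact detM_mem_idJ A

/-- Cramer: `det M · L ⊆ I`. -/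
theorem idL_le_colon_detM : idL A ≤ (idI A).colon ({detM A} : Set (D A)) := by
  rw [idL, Ideal.span_le]
  intro x hx
  simp only [Set.mem_insert_iff, Set.mem_singleton_iff] at hx
  rw [SetLike.mem_coe, Submodule.mem_colon_singleton]
  rcases hx with rfl | rfl | rfl
  · rw [smul_eq_mul, mul_comm, detM_mul_L1]
    exact Ideal.add_mem _ (Ideal.add_mem _ (Ideal.mul_mem_left _ _ (Q1_mem_idI A))
      (Ideal.mul_mem_left _ _ (Q2_mem_idI A))) (Ideal.mul_mem_left _ _ (Q3_mem_idI A))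
  · rw [smul_eq_mul, mul_comm, detM_mul_L2]
    exact Ideal.add_mem _ (Ideal.add_mem _ (Ideal.mul_mem_left _ _ (Q1_mem_idI A))
      (Ideal.mul_mem_left _ _ (Q2_mem_idI A))) (Ideal.mul_mem_left _ _ (Q3_mem_idI A))
  · rw [smul_eq_mul, mul_comm, detM_mul_L3]
    exact Ideal.add_mem _ (Ideal.add_mem _ (Ideal.mul_mem_left _ _ (Q1_mem_idI A))
      (Ideal.mul_mem_left _ _ (Q2_mem_idI A))) (Ideal.mul_mem_left _ _ (Q3_mem_idI A))

theorem detM_mul_mem_idI {l : D A} (hl : l ∈ idL A) : detM A * l ∈ idI A := by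
  have h := idL_le_colon_detM A hl
  rw [Submodule.mem_colon_singleton, smul_eq_mul, mul_comm] at h
  exact h

/-- `J · L ⊆ I`. -/
theorem mul_mem_idI {x l : D A} (hx : x ∈ idJ A) (hl : l ∈ idL A) : x * l ∈ idI A := by
  rw [idJ_eq_sup, Submodule.mem_sup] at hx
  obtain ⟨y, hy, z, hz, rfl⟩ := hx
  obtain ⟨s, rfl⟩ := Ideal.mem_span_singleton'.mp hz
  rw [add_mul]
  refine Ideal.add_mem _ (Ideal.mul_mem_right _ _ hy) ?_
  rw [mul_assoc]
  exact Ideal.mul_mem_left _ _ (detM_mul_mem_idI A hl)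

/-- substitute `a ↦ i`, `b ↦ -f`, `d ↦ -h`. -/
noncomputable def εv : Fin 9 → D A := ![X 8, -X 5, X 2, -X 7, X 4, X 5, X 6, X 7, X 8]

noncomputable def ε : D A →ₐ[A] D A := aeval (εv A)

theorem X_sub_ε_mem (j : Fin 9) : (X j : D A) - ε A (X j) ∈ idL A := by
  fin_cases j
  · have : (X 0 : D A) - ε A (X 0) = L1 A := by simp [ε, εv, L1]
    simpa using this ▸ L1_mem_idL A
  · have : (X 1 : D A) - ε A (X 1) = L2 A := by simp [ε, εv, L2]
    simpa using this ▸ L2_mem_idL A
  · simp [ε, εv]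
  · have : (X 3 : D A) - ε A (X 3) = L3 A := by simp [ε, εv, L3]
    simpa using this ▸ L3_mem_idL A
  · simp [ε, εv]
  · simp [ε, εv]
  · simp [ε, εv]
  · simp [ε, εv]
  · simp [ε, εv]

theorem sub_ε_mem (P : D A) : P - ε A P ∈ idL A := by
  induction P using MvPolynomial.induction_on with
  | C a => simp [ε]
  | add p q hp hq =>
    have : p + q - ε A (p + q) = (p - ε A p) + (q - ε A q) := by rw [map_add]; ring
    rw [this]; exact Ideal.add_mem _ hp hq
  | mul_X p j hp =>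
    have : p * X j - ε A (p * X j) = (p - ε A p) * X j + ε A p * (X j - ε A (X j)) := by
      rw [map_mul]; ring
    rw [this]
    exact Ideal.add_mem _ (Ideal.mul_mem_right _ _ hp) (Ideal.mul_mem_left _ _ (X_sub_ε_mem A j))

theorem ker_ε : RingHom.ker (ε A).toRingHom = idL A := by
  apply le_antisymm
  · intro P hP
    have h := sub_ε_mem A P
    rw [RingHom.mem_ker] at hP
    change ε A P = 0 at hP
    rwa [hP, sub_zero] at h
  · rw [idL, Ideal.span_le]
    intro x hx
    simp only [Set.mem_insert_iff, Set.mem_singleton_iff] at hx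
    rw [SetLike.mem_coe, RingHom.mem_ker]
    change ε A x = 0
    rcases hx with rfl | rfl | rfl
    · simp [ε, εv, L1]
    · simp [ε, εv, L2]
    · simp [ε, εv, L3]

theorem idL_isPrime [IsDomain A] : (idL A).IsPrime := by
  rw [← ker_ε]
  exact RingHom.ker_isPrime _

/-- the point `a = e = i = 1`, others `0`. -/
def pt1 : Fin 9 → A := ![1, 0, 0, 0, 1, 0, 0, 0, 1]

/-- the point `b = 1`, others `0`. -/
def pt2 : Fin 9 → A := ![0, 1, 0, 0, 0, 0, 0, 0, 0]

theorem idL_le_ker_pt1 : idL A ≤ RingHom.ker (eval (pt1 A)) := by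
  rw [idL, Ideal.span_le]
  intro x hx
  simp only [Set.mem_insert_iff, Set.mem_singleton_iff] at hx
  rw [SetLike.mem_coe, RingHom.mem_ker]
  rcases hx with rfl | rfl | rfl
  · simp [pt1, L1]
  · simp [pt1, L2]
  · simp [pt1, L3]

theorem eval_pt1_detM : eval (pt1 A) (detM A) = 1 := by
  simp [pt1, detM]

theorem idJ_le_ker_pt2 : idJ A ≤ RingHom.ker (eval (pt2 A)) := by
  rw [idJ, Ideal.span_le]
  intro x hx
  simp only [Set.mem_insert_iff, Set.mem_singleton_iff] at hx
  rw [SetLike.mem_coe, RingHom.mem_ker]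
  rcases hx with rfl | rfl | rfl | rfl
  · simp [pt2, Q1]
  · simp [pt2, Q2]
  · simp [pt2, Q3]
  · simp [pt2, detM]

theorem eval_pt2_L2 : eval (pt2 A) (L2 A) = 1 := by
  simp [pt2, L2]

theorem detM_not_mem_idL [Nontrivial A] : detM A ∉ idL A := by
  intro h
  have := idL_le_ker_pt1 A h
  rw [RingHom.mem_ker, eval_pt1_detM] at this
  exact one_ne_zero this

theorem L2_not_mem_idJ [Nontrivial A] : L2 A ∉ idJ A := by
  intro h
  have := idJ_le_ker_pt2 A h
  rw [RingHom.mem_ker, eval_pt2_L2] at this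
  exact one_ne_zero this

theorem C_not_mem_idJ {a : A} (ha : a ≠ 0) : (C a : D A) ∉ idJ A := by
  intro h
  have := idJ_le_ker_pt2 A h
  rw [RingHom.mem_ker, eval_C] at this
  exact ha this

theorem C_not_mem_idL {a : A} (ha : a ≠ 0) : (C a : D A) ∉ idL A := by
  intro h
  have := idL_le_ker_pt1 A h
  rw [RingHom.mem_ker, eval_C] at this
  exact ha this

end general

section domain

variable (A : Type u) [CommRing A] [IsDomain A]

/-- `L` is a minimal prime of `I`. -/
theorem idL_mem_minimalPrimes : idL A ∈ (idI A).minimalPrimes := by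
  have hL : (idL A).IsPrime := idL_isPrime A
  refine ⟨⟨hL, idI_le_idL A⟩, ?_⟩
  rintro q ⟨hq, hIq⟩ hqL l hl
  have h1 : detM A * l ∈ q := hIq (detM_mul_mem_idI A hl)
  rcases hq.mem_or_mem h1 with h2 | h2
  · exact absurd (hqL h2) (detM_not_mem_idL A)
  · exact h2

/-- `J` is a minimal prime of `I`. -/
theorem idJ_mem_minimalPrimes : idJ A ∈ (idI A).minimalPrimes := by
  have hJ : (idJ A).IsPrime := idJ_isPrime
  refine ⟨⟨hJ, idI_le_idJ A⟩, ?_⟩
  rintro q ⟨hq, hIq⟩ hqJ x hx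
  have h1 : x * L2 A ∈ q := hIq (mul_mem_idI A hx (L2_mem_idL A))
  rcases hq.mem_or_mem h1 with h2 | h2
  · exact h2
  · exact absurd (hqJ h2) (L2_not_mem_idJ A)

/-- `I = J ∩ L` over a domain. -/
theorem idI_eq_inf : idI A = idJ A ⊓ idL A := by
  have hL : (idL A).IsPrime := idL_isPrime A
  apply le_antisymm (le_inf (idI_le_idJ A) (idI_le_idL A))
  rintro x ⟨hxJ, hxL⟩
  rw [SetLike.mem_coe, idJ_eq_sup, Submodule.mem_sup] at hxJ
  obtain ⟨y, hy, z, hz, rfl⟩ := hxJ
  obtain ⟨s, rfl⟩ := Ideal.mem_span_singleton'.mp hz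
  have h1 : s * detM A ∈ idL A := by
    have := Ideal.sub_mem _ hxL (idI_le_idL A hy)
    rwa [add_sub_cancel_left] at this
  have h2 : s ∈ idL A := (hL.mem_or_mem h1).resolve_right (detM_not_mem_idL A)
  refine Ideal.add_mem _ hy ?_
  rw [mul_comm]
  exact detM_mul_mem_idI A h2

/-- `(I : L) = J` over a domain. -/
theorem colon_idL : (idI A).colon (idL A : Set (D A)) = idJ A := by
  have hJ : (idJ A).IsPrime := idJ_isPrime
  apply le_antisymm
  · intro x hx
    rw [Submodule.mem_colon] at hx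
    have h1 : x * L2 A ∈ idJ A := idI_le_idJ A (hx _ (L2_mem_idL A))
    exact (hJ.mem_or_mem h1).resolve_right (L2_not_mem_idJ A)
  · intro x hx
    rw [Submodule.mem_colon]
    intro l hl
    exact mul_mem_idI A hx hl

/-- `(I : J) = L` over a domain. -/
theorem colon_idJ : (idI A).colon (idJ A : Set (D A)) = idL A := by
  have hL : (idL A).IsPrime := idL_isPrime A
  apply le_antisymm
  · intro x hx
    rw [Submodule.mem_colon] at hx
    have h1 : x * detM A ∈ idL A := idI_le_idL A (hx _ (detM_mem_idJ A))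
    exact (hL.mem_or_mem h1).resolve_right (detM_not_mem_idL A)
  · intro x hx
    rw [Submodule.mem_colon]
    intro l hl
    rw [smul_eq_mul, mul_comm]
    exact mul_mem_idI A hl hx

end domain

section int

theorem flat_int_quotient (K : Ideal (D ℤ))
    (hK : ∀ (n : ℤ) (x : D ℤ), n ≠ 0 → C n * x ∈ K → x ∈ K) :
    Module.Flat ℤ (D ℤ ⧸ K) := by
  rw [Module.Flat.flat_iff_torsion_eq_bot_of_isBezout, eq_bot_iff]
  intro m hm
  obtain ⟨⟨n, hn⟩, h⟩ := (Submodule.mem_torsion_iff m).mp hm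
  obtain ⟨x, rfl⟩ := Ideal.Quotient.mk_surjective m
  have hn0 : n ≠ 0 := nonZeroDivisors.ne_zero hn
  change n • (Ideal.Quotient.mk K x) = 0 at h
  rw [← map_zsmul, Ideal.Quotient.eq_zero_iff_mem, zsmul_eq_mul] at h
  have h2 : ((n : ℤ) : D ℤ) = C n := by simp
  rw [h2] at h
  rw [Submodule.mem_bot, Ideal.Quotient.eq_zero_iff_mem]
  exact hK n x hn0 h

theorem flat_idJ : Module.Flat ℤ (D ℤ ⧸ idJ ℤ) := by
  have hJ : (idJ ℤ).IsPrime := idJ_isPrime
  apply flat_int_quotient
  intro n x hn h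
  exact (hJ.mem_or_mem h).resolve_left (C_not_mem_idJ ℤ hn)

theorem flat_idI : Module.Flat ℤ (D ℤ ⧸ idI ℤ) := by
  have hJ : (idJ ℤ).IsPrime := idJ_isPrime
  have hL : (idL ℤ).IsPrime := idL_isPrime ℤ
  apply flat_int_quotient
  intro n x hn h
  rw [idI_eq_inf] at h ⊢
  exact ⟨(hJ.mem_or_mem h.1).resolve_left (C_not_mem_idJ ℤ hn),
    (hL.mem_or_mem h.2).resolve_left (C_not_mem_idL ℤ hn)⟩

theorem idI_isRadical (A : Type u) [CommRing A] [IsDomain A] : (idI A).IsRadical := by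
  have hJ : (idJ A).IsPrime := idJ_isPrime
  have hL : (idL A).IsPrime := idL_isPrime A
  rw [idI_eq_inf]
  exact hJ.isRadical.inf hL.isRadical

end int

end Groth.Agent.Lib.Helper8.Lie3
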