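import Mathlib
import Groth.Agent.Lib.Helper8.Lie3b
import Groth.Agent.Lib.Helper21.RegularLocal

/-!
# Lie3Mod: `I = J ∩ L`, `(I : L) = J`, `(I : J) = L` over rings whose local rings are domains
(helper8 library): local-global principle for ideals of `MvPolynomial σ A` along the maximal
ideals of `A`, base change of the ideals, regular rings.
-/

set_option backward.isDefEq.respectTransparency.types false
set_option autoImplicit false
set_option maxSynthPendingDepth 4
set_option linter.unusedSectionVars false

namespace Groth.Agent.Lib.Helper8.Lie3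
open Lie3Mod MvPolynomial

universe u v

section lg
attribute [local instance] MvPolynomial.algebraMvPolynomial


theorem mem_of_forall_localization {σ : Type v} {A : Type u} [CommRing A]
    (𝔟 : Ideal (MvPolynomial σ A)) (x : MvPolynomial σ A)
    (h : ∀ (p : Ideal A) [p.IsMaximal],
      MvPolynomial.map (algebraMap A (Localization.AtPrime p)) x ∈
        𝔟.map (MvPolynomial.map (algebraMap A (Localization.AtPrime p)))) : x ∈ 𝔟 := by
  let 𝔞 : Ideal A := (𝔟.colon ({x} : Set (MvPolynomial σ A))).comap C
  have mem𝔞 : ∀ a, a ∈ 𝔞 ↔ C a * x ∈ 𝔟 := by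
    intro a
    change C a ∈ 𝔟.colon ({x} : Set (MvPolynomial σ A)) ↔ _
    rw [Submodule.mem_colon_singleton, smul_eq_mul]
  by_contra hx
  have h𝔞 : 𝔞 ≠ ⊤ := by
    intro htop
    have h1 : (1 : A) ∈ 𝔞 := htop ▸ Submodule.mem_top
    rw [mem𝔞, map_one, one_mul] at h1
    exact hx h1
  obtain ⟨p, hp, hle⟩ := Ideal.exists_le_maximal 𝔞 h𝔞
  have := hp
  have h1 := h p
  rw [← MvPolynomial.algebraMap_def,
    IsLocalization.mem_map_algebraMap_iff (p.primeCompl.map (C (σ := σ)))] at h1
  obtain ⟨⟨⟨y, hy⟩, ⟨s, hs⟩⟩, h2⟩ := h1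
  simp only at h2
  rw [← map_mul, IsLocalization.eq_iff_exists (p.primeCompl.map (C (σ := σ)))] at h2
  obtain ⟨⟨c, hc⟩, h3⟩ := h2
  simp only at h3
  obtain ⟨s', hs', rfl⟩ := hs
  obtain ⟨c', hc', rfl⟩ := hc
  have h4 : c' * s' ∈ 𝔞 := by
    rw [mem𝔞, map_mul]
    have : C c' * C s' * x = C c' * (x * C s') := by ring
    rw [this, h3]
    exact Ideal.mul_mem_left _ _ hy
  exact (p.primeCompl.mul_mem hc' hs') (hle h4)

end lg

section basechange

variable {A : Type u} {B : Type v} [CommRing A] [CommRing B] (f : A →+* B)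

theorem map_Q1 : MvPolynomial.map f (Q1 A) = Q1 B := by simp [Q1]
theorem map_Q2 : MvPolynomial.map f (Q2 A) = Q2 B := by simp [Q2]
theorem map_Q3 : MvPolynomial.map f (Q3 A) = Q3 B := by simp [Q3]
theorem map_L1 : MvPolynomial.map f (L1 A) = L1 B := by simp [L1]
theorem map_L2 : MvPolynomial.map f (L2 A) = L2 B := by simp [L2]
theorem map_L3 : MvPolynomial.map f (L3 A) = L3 B := by simp [L3]
theorem map_detM : MvPolynomial.map f (detM A) = detM B := by simp [detM]

theorem map_idI : (idI A).map (MvPolynomial.map f) = idI B := by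
  rw [idI, Ideal.map_span, idI]
  simp only [Set.image_insert_eq, Set.image_singleton, map_Q1, map_Q2, map_Q3]

theorem map_idL : (idL A).map (MvPolynomial.map f) = idL B := by
  rw [idL, Ideal.map_span, idL]
  simp only [Set.image_insert_eq, Set.image_singleton, map_L1, map_L2, map_L3]

theorem map_idJ : (idJ A).map (MvPolynomial.map f) = idJ B := by
  rw [idJ, Ideal.map_span, idJ]
  simp only [Set.image_insert_eq, Set.image_singleton, map_Q1, map_Q2, map_Q3, map_detM]

end basechange

section domain2
variable (A : Type u) [CommRing A] [IsDomain A]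

theorem mem_idJ_of_mul_L2_mem {x : D A} (h : x * L2 A ∈ idI A) : x ∈ idJ A := by
  have hJ : (idJ A).IsPrime := idJ_isPrime
  exact (hJ.mem_or_mem (idI_le_idJ A h)).resolve_right (L2_not_mem_idJ A)

theorem mem_idL_of_mul_detM_mem {x : D A} (h : x * detM A ∈ idI A) : x ∈ idL A := by
  have hL : (idL A).IsPrime := idL_isPrime A
  exact (hL.mem_or_mem (idI_le_idL A h)).resolve_right (detM_not_mem_idL A)

end domain2

section locdomain

-- rings all of whose localizations at maximal ideals are domains.
variable (A : Type u) [CommRing A]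
  (hA : ∀ (p : Ideal A) [p.IsMaximal], IsDomain (Localization.AtPrime p))

include hA

theorem idI_eq_inf_of_loc : idI A = idJ A ⊓ idL A := by
  apply le_antisymm (le_inf (idI_le_idJ A) (idI_le_idL A))
  rintro x ⟨hxJ, hxL⟩
  apply mem_of_forall_localization
  intro p hp
  have := hA p
  rw [map_idI, idI_eq_inf (Localization.AtPrime p)]
  constructor
  · rw [← map_idJ (algebraMap A (Localization.AtPrime p))]
    exact Ideal.mem_map_of_mem _ hxJ
  · rw [← map_idL (algebraMap A (Localization.AtPrime p))]
    exact Ideal.mem_map_of_mem _ hxL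

theorem colon_idL_of_loc : (idI A).colon (idL A : Set (D A)) = idJ A := by
  apply le_antisymm
  · intro x hx
    rw [Submodule.mem_colon] at hx
    have h1 : x * L2 A ∈ idI A := hx _ (L2_mem_idL A)
    apply mem_of_forall_localization
    intro p hp
    have := hA p
    rw [map_idJ]
    apply mem_idJ_of_mul_L2_mem
    rw [← map_L2 (algebraMap A (Localization.AtPrime p)), ← map_mul,
      ← map_idI (algebraMap A (Localization.AtPrime p))]
    exact Ideal.mem_map_of_mem _ h1
  · intro x hx
    rw [Submodule.mem_colon]
    intro l hl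
    exact mul_mem_idI A hx hl

theorem colon_idJ_of_loc : (idI A).colon (idJ A : Set (D A)) = idL A := by
  apply le_antisymm
  · intro x hx
    rw [Submodule.mem_colon] at hx
    have h1 : x * detM A ∈ idI A := hx _ (detM_mem_idJ A)
    apply mem_of_forall_localization
    intro p hp
    have := hA p
    rw [map_idL]
    apply mem_idL_of_mul_detM_mem
    rw [← map_detM (algebraMap A (Localization.AtPrime p)), ← map_mul,
      ← map_idI (algebraMap A (Localization.AtPrime p))]
    exact Ideal.mem_map_of_mem _ h1
  · intro x hx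
    rw [Submodule.mem_colon]
    intro l hl
    rw [smul_eq_mul, mul_comm]
    exact mul_mem_idI A hl hx

end locdomain

section regular

variable (A : Type u) [CommRing A] [IsRegularRing A]

theorem isDomain_localization_of_isRegularRing (p : Ideal A) [p.IsMaximal] :
    IsDomain (Localization.AtPrime p) :=
  Groth.Agent.Lib.Helper21.isDomain_of_isRegularLocalRing _

end regular

end Groth.Agent.Lib.Helper8.Lie3
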