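import Mathlib
import Groth.Agent.Lib.Helper8.Lie3b
import Groth.Agent.Lib.Helper12.RegularSeqQuot

/-!
# Lie3Mod: the point `[x,y] = y, [x,z] = t z, [y,z] = 0` is a smooth point of `Spec D/J`
(helper8 library). Contains a Jacobian criterion at rational points of affine space
(`indep_of_gradient`), the dimension of the local ring of affine `N`-space at a rational point
(`ringKrullDim_localization_of_point`).
-/

set_option backward.isDefEq.respectTransparency.types false
set_option autoImplicit false
set_option maxSynthPendingDepth 4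
set_option linter.unusedSectionVars false

namespace Groth.Agent.Lib.Helper8.Lie3
open Lie3Mod MvPolynomial IsLocalRing

universe u

section gradient

variable {k : Type u} [Field k] {σ : Type} [Fintype σ] [DecidableEq σ]

theorem pderiv_mem_of_mem_sq (i : σ) (p : Ideal (MvPolynomial σ k)) {x : MvPolynomial σ k}
    (hx : x ∈ p ^ 2) : pderiv i x ∈ p := by
  rw [pow_two] at hx
  refine Submodule.mul_induction_on hx ?_ ?_
  · intro m hm n hn
    rw [Derivation.leibniz]
    exact p.add_mem (p.mul_mem_right _ hm) (p.mul_mem_right _ hn)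
  · intro x y hx hy
    rw [map_add]
    exact p.add_mem hx hy

/-- Jacobian criterion at a rational point: polynomials vanishing at `pt` with linearly
independent gradients at `pt` are linearly independent modulo `𝔪²` in the local ring at `pt`. -/
theorem indep_of_gradient (pt : σ → k) (p : Ideal (MvPolynomial σ k)) [p.IsPrime]
    (hp : ∀ x, x ∈ p ↔ eval pt x = 0) {n : ℕ} (F : Fin n → MvPolynomial σ k)
    (hF : ∀ j, F j ∈ p)
    (hind : ∀ c : Fin n → k, (∀ i : σ, ∑ j, c j * eval pt (pderiv i (F j)) = 0) → ∀ j, c j = 0)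
    (a : Fin n → Localization.AtPrime p)
    (ha : ∑ j, a j * algebraMap _ (Localization.AtPrime p) (F j) ∈
      maximalIdeal (Localization.AtPrime p) ^ 2) (j : Fin n) :
    a j ∈ maximalIdeal (Localization.AtPrime p) := by
  obtain ⟨⟨s, hs⟩, hsa⟩ := IsLocalization.exist_integer_multiples_of_finite p.primeCompl a
  choose α hα using hsa
  simp only at hα
  -- `algebraMap (∑ α_j F_j) = s • ∑ a_j F_j ∈ 𝔪²`
  have h1 : algebraMap _ (Localization.AtPrime p) (∑ j, α j * F j) ∈
      maximalIdeal (Localization.AtPrime p) ^ 2 := by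
    have : algebraMap _ (Localization.AtPrime p) (∑ j, α j * F j) =
        algebraMap _ (Localization.AtPrime p) s *
          ∑ j, a j * algebraMap _ (Localization.AtPrime p) (F j) := by
      rw [map_sum, Finset.mul_sum]
      refine Finset.sum_congr rfl fun j _ => ?_
      rw [map_mul, hα j, Algebra.smul_def]
      ring
    rw [this]
    exact Ideal.mul_mem_left _ _ ha
  rw [← Localization.AtPrime.map_eq_maximalIdeal, ← Ideal.map_pow,
    IsLocalization.mem_map_algebraMap_iff p.primeCompl] at h1
  obtain ⟨⟨⟨y, hy⟩, ⟨u, hu⟩⟩, h2⟩ := h1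
  simp only at h2
  rw [← map_mul, IsLocalization.eq_iff_exists p.primeCompl] at h2
  obtain ⟨⟨c, hc⟩, h3⟩ := h2
  simp only at h3
  have h4 : c * u * ∑ j, α j * F j ∈ p ^ 2 := by
    have : c * u * ∑ j, α j * F j = c * ((∑ j, α j * F j) * u) := by ring
    rw [this, h3]
    exact Ideal.mul_mem_left _ _ hy
  have hw : eval pt (c * u) ≠ 0 := by
    rw [Ne, ← hp]
    exact fun h => (Ideal.IsPrime.mem_or_mem ‹p.IsPrime› h).elim hc hu
  have hFz : ∀ j, eval pt (F j) = 0 := fun j => (hp _).mp (hF j)
  have h5 : ∀ i : σ, ∑ j, eval pt (α j) * eval pt (pderiv i (F j)) = 0 := by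
    intro i
    have h6 := (hp _).mp (pderiv_mem_of_mem_sq i p h4)
    rw [Finset.mul_sum, map_sum, map_sum] at h6
    have h7 : ∀ j, eval pt (pderiv i (c * u * (α j * F j))) =
        eval pt (c * u) * (eval pt (α j) * eval pt (pderiv i (F j))) := by
      intro j
      have : c * u * (α j * F j) = (c * u * α j) * F j := by ring
      rw [this, Derivation.leibniz, smul_eq_mul, smul_eq_mul]
      simp only [map_add, map_mul, hFz j]
      ring
    simp only [h7] at h6
    rw [← Finset.mul_sum] at h6
    exact (mul_eq_zero.mp h6).resolve_left hw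
  have h8 := hind (fun j => eval pt (α j)) h5 j
  have h9 : α j ∈ p := (hp _).mpr h8
  have h10 : algebraMap _ (Localization.AtPrime p) s * a j ∈
      maximalIdeal (Localization.AtPrime p) := by
    rw [← Algebra.smul_def, ← hα j, ← Localization.AtPrime.map_eq_maximalIdeal]
    exact Ideal.mem_map_of_mem _ h9
  have hsu : IsUnit (algebraMap _ (Localization.AtPrime p) s) :=
    IsLocalization.map_units _ (⟨s, hs⟩ : p.primeCompl)
  exact (Ideal.unit_mul_mem_iff_mem _ hsu).mp h10

end gradient

section dim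
variable {k : Type u} [Field k]

theorem ringKrullDim_localization_of_point {N : ℕ} (pt : Fin N → k)
    (p : Ideal (MvPolynomial (Fin N) k)) [p.IsPrime] (hp : ∀ x, x ∈ p ↔ eval pt x = 0) :
    ringKrullDim (Localization.AtPrime p) = N := by
  apply le_antisymm
  · rw [IsLocalization.AtPrime.ringKrullDim_eq_height p (Localization.AtPrime p)]
    refine (Ideal.height_le_ringKrullDim_of_ne_top (Ideal.IsPrime.ne_top ‹_›)).trans ?_
    rw [MvPolynomial.ringKrullDim_of_isNoetherianRing, ringKrullDim_eq_zero_of_field]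
    simp
  · let G : Fin N → MvPolynomial (Fin N) k := fun j => X j - C (pt j)
    have hG : ∀ j, G j ∈ p := by
      intro j
      rw [hp]
      simp [G]
    have hind : ∀ c : Fin N → k,
        (∀ i : Fin N, ∑ j, c j * eval pt (pderiv i (G j)) = 0) → ∀ j, c j = 0 := by
      intro c hc j
      have := hc j
      simp only [G, map_sub, pderiv_C, sub_zero, pderiv_X, Pi.single_apply] at this
      simpa [Finset.sum_ite_eq', apply_ite] using this
    let G' : Fin N → Localization.AtPrime p := fun j => algebraMap _ _ (G j)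
    have hG' : ∀ j, G' j ∈ maximalIdeal (Localization.AtPrime p) := by
      intro j
      rw [← Localization.AtPrime.map_eq_maximalIdeal]
      exact Ideal.mem_map_of_mem _ (hG j)
    obtain ⟨hreg, hseq⟩ := Groth.Agent.Lib.Helper12.isRegularLocalRing_quotient_and_isRegular_of_indep
      N (Localization.AtPrime p) G' hG' (fun a ha j => indep_of_gradient pt p hp G hG hind a ha j)
    have h1 := ringKrullDim_add_length_eq_ringKrullDim_of_isRegular _ hseq
    rw [List.length_ofFn] at h1
    rw [← h1]
    have hnt : Nontrivial (Localization.AtPrime p ⧸ Ideal.ofList (List.ofFn G')) := by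
      apply Ideal.Quotient.nontrivial_iff.mpr
      intro htop
      apply hseq.top_ne_smul
      rw [htop]
      simp
    have h2 := ringKrullDim_nonneg_of_nontrivial (R := Localization.AtPrime p ⧸ Ideal.ofList (List.ofFn G'))
    calc (N : WithBot ℕ∞) = 0 + N := by simp
      _ ≤ _ := by gcongr

end dim

section point

variable {k : Type u} [Field k] (t : k)

/-- the point `[x,y] = y`, `[x,z] = t z`, `[y,z] = 0`. -/
def ptt : Fin 9 → k := ![0, 1, 0, 0, 0, t, 0, 0, 0]

/-- its maximal ideal. -/
noncomputable def mt : Ideal (D k) :=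
  Ideal.span ({X 0, X 1 - 1, X 2, X 3, X 4, X 5 - C t, X 6, X 7, X 8} : Set (D k))

theorem X_sub_C_mem (j : Fin 9) : (X j : D k) - C (ptt t j) ∈ mt t := by
  fin_cases j
  · have h : (X 0 : D k) - C (ptt t 0) = X 0 := by simp [ptt]
    change (X 0 : D k) - C (ptt t 0) ∈ mt t
    rw [h]; exact Ideal.subset_span (by simp)
  · have h : (X 1 : D k) - C (ptt t 1) = X 1 - 1 := by simp [ptt]
    change (X 1 : D k) - C (ptt t 1) ∈ mt t
    rw [h]; exact Ideal.subset_span (by simp)
  · have h : (X 2 : D k) - C (ptt t 2) = X 2 := by simp [ptt]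
    change (X 2 : D k) - C (ptt t 2) ∈ mt t
    rw [h]; exact Ideal.subset_span (by simp)
  · have h : (X 3 : D k) - C (ptt t 3) = X 3 := by simp [ptt]
    change (X 3 : D k) - C (ptt t 3) ∈ mt t
    rw [h]; exact Ideal.subset_span (by simp)
  · have h : (X 4 : D k) - C (ptt t 4) = X 4 := by simp [ptt]
    change (X 4 : D k) - C (ptt t 4) ∈ mt t
    rw [h]; exact Ideal.subset_span (by simp)
  · have h : (X 5 : D k) - C (ptt t 5) = X 5 - C t := by simp [ptt]
    change (X 5 : D k) - C (ptt t 5) ∈ mt t
    rw [h]; exact Ideal.subset_span (by simp)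
  · have h : (X 6 : D k) - C (ptt t 6) = X 6 := by simp [ptt]
    change (X 6 : D k) - C (ptt t 6) ∈ mt t
    rw [h]; exact Ideal.subset_span (by simp)
  · have h : (X 7 : D k) - C (ptt t 7) = X 7 := by simp [ptt]
    change (X 7 : D k) - C (ptt t 7) ∈ mt t
    rw [h]; exact Ideal.subset_span (by simp)
  · have h : (X 8 : D k) - C (ptt t 8) = X 8 := by simp [ptt]
    change (X 8 : D k) - C (ptt t 8) ∈ mt t
    rw [h]; exact Ideal.subset_span (by simp)

theorem sub_C_eval_mem (P : D k) : P - C (eval (ptt t) P) ∈ mt t := by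
  induction P using MvPolynomial.induction_on with
  | C a => simp
  | add p q hp hq =>
    have : p + q - C (eval (ptt t) (p + q)) =
        (p - C (eval (ptt t) p)) + (q - C (eval (ptt t) q)) := by
      rw [map_add, map_add]; ring
    rw [this]; exact Ideal.add_mem _ hp hq
  | mul_X p j hp =>
    have : p * X j - C (eval (ptt t) (p * X j)) =
        (p - C (eval (ptt t) p)) * X j + C (eval (ptt t) p) * (X j - C (ptt t j)) := by
      rw [map_mul, eval_X, map_mul]; ring
    rw [this]
    exact Ideal.add_mem _ (Ideal.mul_mem_right _ _ hp) (Ideal.mul_mem_left _ _ (X_sub_C_mem t j))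

theorem mem_mt_iff (x : D k) : x ∈ mt t ↔ eval (ptt t) x = 0 := by
  constructor
  · intro hx
    have hle : mt t ≤ RingHom.ker (eval (ptt t)) := by
      rw [mt, Ideal.span_le]
      intro y hy
      simp only [Set.mem_insert_iff, Set.mem_singleton_iff] at hy
      rw [SetLike.mem_coe, RingHom.mem_ker]
      rcases hy with rfl | rfl | rfl | rfl | rfl | rfl | rfl | rfl | rfl <;> simp [ptt]
    exact hle hx
  · intro hx
    have := sub_C_eval_mem t x
    rwa [hx, map_zero, sub_zero] at this

theorem idJ_le_mt : idJ k ≤ mt t := by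
  rw [idJ, Ideal.span_le]
  intro y hy
  simp only [Set.mem_insert_iff, Set.mem_singleton_iff] at hy
  rw [SetLike.mem_coe, mem_mt_iff]
  rcases hy with rfl | rfl | rfl | rfl
  · simp [ptt, Q1]
  · simp [ptt, Q2]
  · simp [ptt, Q3]
  · simp [ptt, detM]

theorem regular_of_local_generators (F : Fin 3 → D k) (hFJ : ∀ j, F j ∈ idJ k)
    (hgen : ∀ g ∈ ({Q1 k, Q2 k, Q3 k, detM k} : Set (D k)),
      ∃ s, eval (ptt t) s ≠ 0 ∧ s * g ∈ Ideal.span (Set.range F))
    (hind : ∀ c : Fin 3 → k,
      (∀ i, ∑ j, c j * eval (ptt t) (pderiv i (F j)) = 0) → ∀ j, c j = 0)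
    (P : Ideal (D k ⧸ idJ k)) [P.IsPrime]
    (hP : P = Ideal.map (Ideal.Quotient.mk (idJ k)) (mt t)) :
    IsRegularLocalRing (Localization.AtPrime P) ∧ ringKrullDim (Localization.AtPrime P) = 6 := by
  obtain ⟨e⟩ := Groth.Agent.Lib.Helper12.nonempty_ringEquiv_localization_quotient (idJ k) P
  set p := P.comap (Ideal.Quotient.mk (idJ k)) with hpdef
  have hpm : p = mt t := by
    rw [hpdef, hP, Ideal.comap_map_of_surjective _ Ideal.Quotient.mk_surjective,
      ← RingHom.ker_eq_comap_bot, Ideal.mk_ker]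
    exact sup_eq_left.mpr (idJ_le_mt t)
  have hp : ∀ x, x ∈ p ↔ eval (ptt t) x = 0 := by
    intro x; rw [hpm, mem_mt_iff]
  let R := Localization.AtPrime p
  let F' : Fin 3 → R := fun j => algebraMap _ R (F j)
  have hF : ∀ j, F j ∈ p := fun j => hpm ▸ idJ_le_mt t (hFJ j)
  have hF' : ∀ j, F' j ∈ maximalIdeal R := by
    intro j
    rw [← Localization.AtPrime.map_eq_maximalIdeal]
    exact Ideal.mem_map_of_mem _ (hF j)
  have hJmap : (idJ k).map (algebraMap (D k) R) = Ideal.span (Set.range F') := by
    apply le_antisymm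
    · rw [Ideal.map_le_iff_le_comap]
      change Ideal.span ({Q1 k, Q2 k, Q3 k, detM k} : Set (D k)) ≤ _
      rw [Ideal.span_le]
      intro g hg
      obtain ⟨s, hs, hsg⟩ := hgen g hg
      rw [SetLike.mem_coe, Ideal.mem_comap]
      have hsu : IsUnit (algebraMap (D k) R s) :=
        IsLocalization.map_units _ (⟨s, fun h => hs ((hp s).mp h)⟩ : p.primeCompl)
      rw [← Ideal.unit_mul_mem_iff_mem _ hsu, ← map_mul]
      have : Ideal.span (Set.range F') = (Ideal.span (Set.range F)).map (algebraMap (D k) R) := by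
        rw [Ideal.map_span, ← Set.range_comp]
        rfl
      rw [this]
      exact Ideal.mem_map_of_mem _ hsg
    · rw [Ideal.span_le]
      rintro _ ⟨j, rfl⟩
      exact Ideal.mem_map_of_mem _ (hFJ j)
  obtain ⟨hreg, hseq⟩ :=
    Groth.Agent.Lib.Helper12.isRegularLocalRing_quotient_and_isRegular_of_indep
      3 R F' hF' (fun a ha j => indep_of_gradient (ptt t) p hp F hF hind a ha j)
  have e2 : Localization.AtPrime P ≃+* R ⧸ Ideal.span (Set.range F') :=
    e.trans (Ideal.quotEquivOfEq hJmap)
  refine ⟨IsRegularLocalRing.of_ringEquiv e2.symm, ?_⟩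
  rw [ringKrullDim_eq_of_ringEquiv e2]
  have h1 := ringKrullDim_add_length_eq_ringKrullDim_of_isRegular _ hseq
  rw [List.length_ofFn, ringKrullDim_localization_of_point (ptt t) p hp] at h1
  have h2 : Ideal.ofList (List.ofFn F') = Ideal.span (Set.range F') := by
    rw [Ideal.ofList]
    congr 1
    ext x
    rw [Set.mem_ofPred_eq, Set.mem_range]
    constructor
    · intro hx
      obtain ⟨i, hi⟩ := (List.mem_ofFn' _ _).mp hx
      exact ⟨i, hi⟩
    · rintro ⟨i, rfl⟩
      exact (List.mem_ofFn' _ _).mpr ⟨i, rfl⟩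
  rw [h2] at h1
  obtain ⟨n, hn⟩ := Groth.Agent.Lib.Helper21.exists_nat_eq_ringKrullDim
    (R := R ⧸ Ideal.span (Set.range F'))
  rw [hn] at h1 ⊢
  have h3 : n + 3 = 9 := by exact_mod_cast h1
  have h4 : n = 6 := by omega
  rw [h4]
  rfl

theorem eval_ptt_pderiv_Q1 (i : Fin 9) : eval (ptt t) (pderiv i (Q1 k)) =
    if i = 6 then -(1 + t) else 0 := by
  fin_cases i <;> simp [Q1, ptt, pderiv_X]
  ring

theorem eval_ptt_pderiv_Q2 (i : Fin 9) : eval (ptt t) (pderiv i (Q2 k)) =
    if i = 3 then 1 else if i = 7 then -t else 0 := by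
  fin_cases i <;> simp [Q2, ptt, pderiv_X]

theorem eval_ptt_pderiv_Q3 (i : Fin 9) : eval (ptt t) (pderiv i (Q3 k)) =
    if i = 0 then -t else if i = 8 then -1 else 0 := by
  fin_cases i <;> simp [Q3, ptt, pderiv_X]

theorem eval_ptt_pderiv_detM (i : Fin 9) : eval (ptt t) (pderiv i (detM k)) =
    if i = 6 then t else 0 := by
  fin_cases i <;> simp [detM, ptt, pderiv_X]

theorem eval_ptt_L2 : eval (ptt t) (L2 k) = 1 + t := by simp [L2, ptt]

theorem eval_ptt_C12 : eval (ptt t) (ve * vc - vb * vf : D k) = -t := by simp [ptt]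

/-- the point `(0,1,0,0,0,t,0,0,0)` is a smooth point of `Spec D/J`. -/
theorem regular_at_point (P : Ideal (D k ⧸ idJ k)) [P.IsPrime]
    (hP : P = Ideal.map (Ideal.Quotient.mk (idJ k)) (mt t)) :
    IsRegularLocalRing (Localization.AtPrime P) ∧ ringKrullDim (Localization.AtPrime P) = 6 := by
  by_cases ht : 1 + t = 0
  · -- `t = -1`, use `Q2, Q3, det M`
    have ht0 : t ≠ 0 := by
      intro h0
      rw [h0, add_zero] at ht
      exact one_ne_zero ht
    refine regular_of_local_generators t ![Q2 k, Q3 k, detM k] ?_ ?_ ?_ P hP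
    · intro j
      fin_cases j
      · exact idI_le_idJ k (Q2_mem_idI k)
      · exact idI_le_idJ k (Q3_mem_idI k)
      · exact detM_mem_idJ k
    · intro g hg
      have m0 : Q2 k ∈ Ideal.span (Set.range ![Q2 k, Q3 k, detM k]) :=
        Ideal.subset_span ⟨0, rfl⟩
      have m1 : Q3 k ∈ Ideal.span (Set.range ![Q2 k, Q3 k, detM k]) :=
        Ideal.subset_span ⟨1, rfl⟩
      have m2 : detM k ∈ Ideal.span (Set.range ![Q2 k, Q3 k, detM k]) :=
        Ideal.subset_span ⟨2, rfl⟩
      simp only [Set.mem_insert_iff, Set.mem_singleton_iff] at hg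
      rcases hg with rfl | rfl | rfl | rfl
      · refine ⟨ve * vc - vb * vf, ?_, ?_⟩
        · rw [eval_ptt_C12]
          exact neg_ne_zero.mpr ht0
        · have : (ve * vc - vb * vf) * Q1 k = L2 k * detM k - (vh * vc + vi * vf) * Q2 k -
              (-(vh * vb) - vi * ve) * Q3 k := by
            rw [mul_comm (L2 k), detM_mul_L2]; ring
          rw [this]
          exact Ideal.sub_mem _ (Ideal.sub_mem _ (Ideal.mul_mem_left _ _ m2)
            (Ideal.mul_mem_left _ _ m0)) (Ideal.mul_mem_left _ _ m1)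
      · exact ⟨1, by simp, by rw [one_mul]; exact m0⟩
      · exact ⟨1, by simp, by rw [one_mul]; exact m1⟩
      · exact ⟨1, by simp, by rw [one_mul]; exact m2⟩
    · intro c hc j
      have h3 := hc 3
      have h8 := hc 8
      have h6 := hc 6
      simp only [Fin.sum_univ_three, Matrix.cons_val_zero, Matrix.cons_val_one,
        Matrix.cons_val, eval_ptt_pderiv_Q2, eval_ptt_pderiv_Q3,
        eval_ptt_pderiv_detM] at h3 h8 h6
      simp at h3 h8 h6
      fin_cases j
      · simpa using h3
      · simpa using h8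
      · simpa [ht0] using h6
  · -- `t ≠ -1`, use `Q1, Q2, Q3`
    refine regular_of_local_generators t ![Q1 k, Q2 k, Q3 k] ?_ ?_ ?_ P hP
    · intro j
      fin_cases j
      · exact idI_le_idJ k (Q1_mem_idI k)
      · exact idI_le_idJ k (Q2_mem_idI k)
      · exact idI_le_idJ k (Q3_mem_idI k)
    · intro g hg
      have m0 : Q1 k ∈ Ideal.span (Set.range ![Q1 k, Q2 k, Q3 k]) :=
        Ideal.subset_span ⟨0, rfl⟩
      have m1 : Q2 k ∈ Ideal.span (Set.range ![Q1 k, Q2 k, Q3 k]) :=
        Ideal.subset_span ⟨1, rfl⟩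
      have m2 : Q3 k ∈ Ideal.span (Set.range ![Q1 k, Q2 k, Q3 k]) :=
        Ideal.subset_span ⟨2, rfl⟩
      simp only [Set.mem_insert_iff, Set.mem_singleton_iff] at hg
      rcases hg with rfl | rfl | rfl | rfl
      · exact ⟨1, by simp, by rw [one_mul]; exact m0⟩
      · exact ⟨1, by simp, by rw [one_mul]; exact m1⟩
      · exact ⟨1, by simp, by rw [one_mul]; exact m2⟩
      · refine ⟨L2 k, ?_, ?_⟩
        · rw [eval_ptt_L2]
          exact ht
        · rw [mul_comm, detM_mul_L2]
          exact Ideal.add_mem _ (Ideal.add_mem _ (Ideal.mul_mem_left _ _ m0)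
            (Ideal.mul_mem_left _ _ m1)) (Ideal.mul_mem_left _ _ m2)
    · intro c hc j
      have h3 := hc 3
      have h8 := hc 8
      have h6 := hc 6
      simp only [Fin.sum_univ_three, Matrix.cons_val_zero, Matrix.cons_val_one,
        Matrix.cons_val, eval_ptt_pderiv_Q1, eval_ptt_pderiv_Q2, eval_ptt_pderiv_Q3] at h3 h8 h6
      simp at h3 h8 h6
      fin_cases j
      · rcases h6 with h | h
        · simpa using h
        · exact absurd (by linear_combination -h) ht
      · simpa using h3
      · simpa using h8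

end point

end Groth.Agent.Lib.Helper8.Lie3
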