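import Mathlib
set_option backward.isDefEq.respectTransparency.types false
set_option autoImplicit false
set_option linter.unusedSectionVars false
set_option linter.style.haveILetI false

namespace Groth.Agent.Lib.Helper8.Lur

open Polynomial IntermediateField

section core

variable {k K F A L : Type*} [Field k] [Field K] [Algebra k K] [CommRing A] [IsDomain A]
  [Algebra k A] [Field F] [Algebra A F] [Algebra k F] [IsScalarTower k A F] [IsFractionRing A F]
  [Field L] [Algebra k L]

/-- Specialisation lemma: a `k`-embedding `φ : K → Frac A`, a `k`-algebra map `ev : A → L` into a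
field such that a generating set of `K` has denominators not killed by `ev`, and `K` algebraic over
`k(x)` with `x` specialising to a transcendental element: then `K` embeds into `L`. -/
theorem core (φ : K →ₐ[k] F) (ev : A →ₐ[k] L) (S : Set K)
    (hS : IntermediateField.adjoin k S = ⊤)
    (num den : K → A) (hden : ∀ g ∈ S, ev (den g) ≠ 0)
    (hnd : ∀ g ∈ S, φ g * algebraMap A F (den g) = algebraMap A F (num g))
    (x : K) (hxS : x ∈ S) (halg : Algebra.IsAlgebraic k⟮x⟯ K)
    (htr : Transcendental k (ev (num x) / ev (den x))) :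
    Nonempty (K →ₐ[k] L) := by
  classical
  let P : Ideal A := RingHom.ker ev.toRingHom
  haveI hP : P.IsPrime := RingHom.ker_isPrime ev.toRingHom
  let Loc := Localization.AtPrime P
  have hmemP : ∀ a : A, a ∈ P.primeCompl ↔ ev a ≠ 0 := by
    intro a
    change ¬ (a ∈ RingHom.ker ev.toRingHom) ↔ _
    rw [RingHom.mem_ker]; rfl
  have hne0 : ∀ y : P.primeCompl, (y : A) ≠ 0 := by
    intro y h0
    have := (hmemP y).1 y.2
    rw [h0, map_zero] at this
    exact this rfl
  have hι : ∀ y : P.primeCompl, IsUnit ((IsScalarTower.toAlgHom k A F) (y : A)) := by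
    intro y
    refine isUnit_iff_ne_zero.mpr ?_
    change algebraMap A F (y : A) ≠ 0
    exact fun h => hne0 y ((IsFractionRing.injective A F) (by rw [h, map_zero]))
  have hρ : ∀ y : P.primeCompl, IsUnit (ev (y : A)) := fun y =>
    isUnit_iff_ne_zero.mpr ((hmemP y).1 y.2)
  let ι : Loc →ₐ[k] F := IsLocalization.liftAlgHom (M := P.primeCompl) hι
  let ρ : Loc →ₐ[k] L := IsLocalization.liftAlgHom (M := P.primeCompl) hρ
  have hιinj : Function.Injective ι := by
    change Function.Injective (IsLocalization.lift (M := P.primeCompl) (S := Loc)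
      (g := (IsScalarTower.toAlgHom k A F).toRingHom) hι)
    rw [IsLocalization.lift_injective_iff]
    intro a b
    have hle : P.primeCompl ≤ nonZeroDivisors A := by
      intro y hy
      exact mem_nonZeroDivisors_of_ne_zero (hne0 ⟨y, hy⟩)
    rw [(IsLocalization.injective Loc hle).eq_iff]
    change a = b ↔ algebraMap A F a = algebraMap A F b
    rw [(IsFractionRing.injective A F).eq_iff]
  -- key facts on `mk'`
  have hιmk : ∀ (a : A) (b : P.primeCompl),
      ι (IsLocalization.mk' Loc a b) * algebraMap A F (b : A) = algebraMap A F a := by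
    intro a b
    have : ι (IsLocalization.mk' Loc a b) = algebraMap A F a / algebraMap A F (b : A) := by
      change IsLocalization.lift (M := P.primeCompl) (S := Loc)
        (g := (IsScalarTower.toAlgHom k A F).toRingHom) hι _ = _
      rw [IsLocalization.lift_mk'_spec]
      change algebraMap A F a = algebraMap A F (b : A) * _
      have hb : algebraMap A F (b : A) ≠ 0 := (hι b).ne_zero
      field_simp
    rw [this]
    have hb : algebraMap A F (b : A) ≠ 0 := (hι b).ne_zero
    field_simp
  have hρmk : ∀ (a : A) (b : P.primeCompl),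
      ρ (IsLocalization.mk' Loc a b) = ev a / ev (b : A) := by
    intro a b
    change IsLocalization.lift (M := P.primeCompl) (S := Loc)
      (g := ev.toRingHom) hρ _ = _
    rw [IsLocalization.lift_mk'_spec]
    change ev a = ev (b : A) * _
    have hb : ev (b : A) ≠ 0 := (hρ b).ne_zero
    field_simp
  have hunit : ∀ z : Loc, ρ z ≠ 0 → IsUnit z := by
    intro z hz
    obtain ⟨a, b, rfl⟩ := IsLocalization.exists_mk'_eq P.primeCompl z
    rw [IsLocalization.AtPrime.isUnit_mk'_iff Loc P, hmemP]
    intro h0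
    apply hz
    rw [hρmk, h0, zero_div]
  -- the subalgebra of elements landing in the local ring
  let T₀ : Subalgebra k K := ι.range.comap φ
  have hT₀ : ∀ a : K, a ∈ T₀ ↔ ∃ z : Loc, ι z = φ a := by
    intro a
    change φ a ∈ ι.range ↔ _
    rw [AlgHom.mem_range]
  have hST : ∀ g ∈ S, ∃ z : Loc, ι z = φ g ∧ ρ z = ev (num g) / ev (den g) := by
    intro g hg
    have hb : den g ∈ P.primeCompl := (hmemP _).2 (hden g hg)
    refine ⟨IsLocalization.mk' Loc (num g) ⟨den g, hb⟩, ?_, hρmk _ _⟩
    have h1 := hιmk (num g) ⟨den g, hb⟩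
    have h2 := hnd g hg
    have hb0 : algebraMap A F (den g) ≠ 0 := (hι ⟨den g, hb⟩).ne_zero
    exact mul_right_cancel₀ hb0 (h1.trans h2.symm)
  obtain ⟨zx, hzx, hρzx⟩ := hST x hxS
  -- inverses of nonzero polynomials in `x` are in `T₀`
  have hinvpoly : ∀ s : k[X], (aeval x s)⁻¹ ∈ T₀ := by
    intro s
    by_cases hs : s = 0
    · rw [hs, map_zero, inv_zero]; exact T₀.zero_mem
    have h1 : ρ (aeval zx s) ≠ 0 := by
      rw [← Polynomial.aeval_algHom_apply, hρzx]
      intro h0
      exact htr ⟨s, hs, h0⟩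
    obtain ⟨u, hu⟩ := hunit _ h1
    rw [hT₀]
    refine ⟨((u⁻¹ : Locˣ) : Loc), ?_⟩
    have h2 : ι ((u⁻¹ : Locˣ) : Loc) * ι (aeval zx s) = 1 := by
      rw [← map_mul, ← hu, Units.inv_mul, map_one]
    rw [← Polynomial.aeval_algHom_apply, hzx, Polynomial.aeval_algHom_apply] at h2
    rw [map_inv₀]
    exact eq_inv_of_mul_eq_one_left h2
  have hpoly : ∀ r : k[X], aeval x r ∈ T₀ := by
    intro r
    rw [hT₀]
    exact ⟨aeval zx r, by rw [← Polynomial.aeval_algHom_apply, hzx, Polynomial.aeval_algHom_apply]⟩
  -- `T₀` as a subalgebra over `k(x)`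
  let T₁ : Subalgebra k⟮x⟯ K :=
    { T₀.toSubsemiring with
      algebraMap_mem' := by
        intro y
        obtain ⟨r, s, hrs⟩ := (IntermediateField.mem_adjoin_simple_iff k (y : K)).1 y.2
        change (y : K) ∈ T₀
        rw [hrs, div_eq_mul_inv]
        exact T₀.mul_mem (hpoly r) (hinvpoly s) }
  have hT₁ : ∀ a : K, a ∈ T₁ ↔ a ∈ T₀ := fun a => Iff.rfl
  have hinv : ∀ a ∈ T₀, a⁻¹ ∈ T₀ := by
    intro a ha
    have := Subalgebra.inv_mem_of_algebraic T₁ (x := ⟨a, (hT₁ a).2 ha⟩) (halg.isAlgebraic a)
    exact this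
  let E : IntermediateField k K := Subalgebra.toIntermediateField T₀ hinv
  have hE : E = ⊤ := by
    rw [eq_top_iff, ← hS, IntermediateField.adjoin_le_iff]
    intro g hg
    obtain ⟨z, hz, -⟩ := hST g hg
    exact (hT₀ g).2 ⟨z, hz⟩
  have hall : ∀ a : K, φ a ∈ ι.range := by
    intro a
    have : a ∈ E := by rw [hE]; exact IntermediateField.mem_top
    exact this
  let e : Loc ≃ₐ[k] ι.range := AlgEquiv.ofInjective ι hιinj
  exact ⟨(ρ.comp e.symm.toAlgHom).comp (φ.codRestrict ι.range hall)⟩

end core

end Groth.Agent.Lib.Helper8.Lur
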