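import Mathlib
import Groth.Agent.Lib.Helper8.Lur1
set_option backward.isDefEq.respectTransparency.types false
set_option autoImplicit false
set_option linter.unusedSectionVars false
set_option linter.style.haveILetI false

namespace Groth.Agent.Lib.Helper8.Lur

open Polynomial IntermediateField

universe u

/-- restriction to the line `c + s·d`, with values in `k(s)`. -/
noncomputable def evLine {k : Type*} [Field k] {n : ℕ} (c d : Fin n → k) :
    MvPolynomial (Fin n) k →ₐ[k] RatFunc k :=
  MvPolynomial.aeval (fun i => RatFunc.C (c i) + RatFunc.C (d i) * RatFunc.X)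

/-- restriction to the line `c + s·d`, polynomial version. -/
noncomputable def evLineP {k : Type*} [Field k] {n : ℕ} (c d : Fin n → k) :
    MvPolynomial (Fin n) k →ₐ[k] k[X] :=
  MvPolynomial.aeval (fun i => Polynomial.C (c i) + Polynomial.C (d i) * Polynomial.X)

theorem evLine_eq {k : Type*} [Field k] {n : ℕ} (c d : Fin n → k) (q : MvPolynomial (Fin n) k) :
    evLine c d q = algebraMap k[X] (RatFunc k) (evLineP c d q) := by
  have : evLine c d = (IsScalarTower.toAlgHom k k[X] (RatFunc k)).comp (evLineP c d) := by
    apply MvPolynomial.algHom_ext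
    intro i
    simp [evLine, evLineP, RatFunc.algebraMap_C, RatFunc.algebraMap_X]
  rw [this]; rfl

theorem eval_evLineP {k : Type*} [Field k] {n : ℕ} (c d : Fin n → k) (s : k)
    (q : MvPolynomial (Fin n) k) :
    (evLineP c d q).eval s = MvPolynomial.eval (fun i => c i + d i * s) q := by
  have : (Polynomial.evalRingHom s).comp (evLineP c d).toRingHom =
      MvPolynomial.eval (fun i => c i + d i * s) := by
    apply MvPolynomial.ringHom_ext
    · intro r; simp [evLineP]
    · intro i; simp [evLineP]
  exact RingHom.congr_fun this q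

theorem evLine_ne_zero {k : Type*} [Field k] {n : ℕ} (c d : Fin n → k) (s : k)
    (q : MvPolynomial (Fin n) k) (h : MvPolynomial.eval (fun i => c i + d i * s) q ≠ 0) :
    evLine c d q ≠ 0 := by
  rw [evLine_eq]
  intro h0
  have h1 : evLineP c d q = 0 :=
    (IsFractionRing.injective k[X] (RatFunc k)) (by rw [h0, map_zero])
  rw [← eval_evLineP, h1, Polynomial.eval_zero] at h
  exact h rfl

theorem main (k : Type u) [Field k] [IsAlgClosed k]
    (K : Type u) [Field K] [Algebra k K] (hfg : (⊤ : IntermediateField k K).FG)
    (x : K) (hx : Transcendental k x)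
    (halg : Algebra.IsAlgebraic ↥(IntermediateField.adjoin k {x}) K)
    (n : ℕ) (φ : K →ₐ[k] FractionRing (MvPolynomial (Fin n) k)) :
    ∃ t : K, Transcendental k t ∧ IntermediateField.adjoin k {t} = ⊤ := by
  classical
  let A := MvPolynomial (Fin n) k
  let F := FractionRing A
  obtain ⟨S₀, hS₀⟩ := hfg
  let S : Finset K := insert x S₀
  have hS : IntermediateField.adjoin k (S : Set K) = ⊤ := by
    rw [eq_top_iff, ← hS₀]
    apply IntermediateField.adjoin.mono
    intro g hg
    simp only [S, Finset.coe_insert]
    exact Set.mem_insert_of_mem _ hg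
  have hxS : x ∈ (S : Set K) := by simp [S]
  -- numerators and denominators
  have hdiv : ∀ g : K, ∃ a b : A, b ≠ 0 ∧ φ g * algebraMap A F b = algebraMap A F a := by
    intro g
    obtain ⟨a, b, hb, hab⟩ := IsFractionRing.div_surjective A (φ g)
    have hb0 : b ≠ 0 := nonZeroDivisors.ne_zero hb
    refine ⟨a, b, hb0, ?_⟩
    have : algebraMap A F b ≠ 0 := fun h =>
      hb0 ((IsFractionRing.injective A F) (by rw [h, map_zero]))
    rw [← hab]; exact div_mul_cancel₀ _ this
  choose num den hden0 hnd using hdiv
  let B : A := ∏ g ∈ S, den g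
  have hB : B ≠ 0 := Finset.prod_ne_zero_iff.mpr (fun g _ => hden0 g)
  haveI : Infinite k := IsAlgClosed.instInfinite
  obtain ⟨c, hc⟩ : ∃ c : Fin n → k, MvPolynomial.eval c B ≠ 0 := by
    by_contra hcon
    simp only [not_exists, not_not] at hcon
    apply hB
    apply MvPolynomial.funext
    intro c; rw [hcon c, map_zero]
  have hdenc : ∀ g ∈ S, MvPolynomial.eval c (den g) ≠ 0 := by
    intro g hg h0
    apply hc
    rw [map_prod]
    exact Finset.prod_eq_zero hg h0
  -- non-constancy polynomial
  let a := num x
  let b := den x
  have hbc : MvPolynomial.eval c b ≠ 0 := hdenc x (by simpa using hxS)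
  let G : A := a * MvPolynomial.C (MvPolynomial.eval c b) - MvPolynomial.C (MvPolynomial.eval c a) * b
  have hG : G ≠ 0 := by
    intro hG0
    have h1 : a * MvPolynomial.C (MvPolynomial.eval c b) =
        MvPolynomial.C (MvPolynomial.eval c a) * b := sub_eq_zero.mp hG0
    have h2 := congrArg (algebraMap A F) h1
    rw [map_mul, map_mul, ← hnd x] at h2
    have hb0 : algebraMap A F b ≠ 0 := fun h =>
      hden0 x ((IsFractionRing.injective A F) (by rw [h, map_zero]))
    have h3 : φ x * algebraMap A F (MvPolynomial.C (MvPolynomial.eval c b)) =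
        algebraMap A F (MvPolynomial.C (MvPolynomial.eval c a)) := by
      apply mul_right_cancel₀ hb0
      rw [← h2]; ring
    have e1 : ∀ r : k, algebraMap A F (MvPolynomial.C r) = φ (algebraMap k K r) := by
      intro r
      rw [AlgHom.commutes, ← MvPolynomial.algebraMap_eq, ← IsScalarTower.algebraMap_apply]
    rw [e1, e1, ← map_mul] at h3
    have h4 := φ.toRingHom.injective h3
    have h5 : x = algebraMap k K (MvPolynomial.eval c a / MvPolynomial.eval c b) := by
      rw [map_div₀, eq_div_iff]
      · exact h4
      · intro h; exact hbc ((algebraMap k K).injective (by rw [h, map_zero]))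
    exact hx (h5 ▸ isAlgebraic_algebraMap _)
  obtain ⟨e, he⟩ : ∃ e : Fin n → k, MvPolynomial.eval e G ≠ 0 := by
    by_contra hcon
    simp only [not_exists, not_not] at hcon
    apply hG
    apply MvPolynomial.funext
    intro c; rw [hcon c, map_zero]
  let d : Fin n → k := fun i => e i - c i
  have hc0 : (fun i => c i + d i * 0) = c := by funext i; simp
  have he1 : (fun i => c i + d i * 1) = e := by funext i; simp [d]
  have hevden : ∀ g ∈ (S : Set K), evLine c d (den g) ≠ 0 := by
    intro g hg
    apply evLine_ne_zero c d 0
    rw [hc0]; exact hdenc g (by simpa using hg)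
  have hevG : evLine c d G ≠ 0 := by
    apply evLine_ne_zero c d 1
    rw [he1]; exact he
  -- transcendence of the specialised `x`
  have htr : Transcendental k (evLine c d (num x) / evLine c d (den x)) := by
    intro hal
    have hint : IsIntegral k (evLine c d (num x) / evLine c d (den x)) := hal.isIntegral
    have hdeg := IsAlgClosed.degree_eq_one_of_irreducible k (minpoly.irreducible hint)
    obtain ⟨lam, hlam⟩ := minpoly.mem_range_of_degree_eq_one k _ hdeg
    have hb' : evLine c d b ≠ 0 := hevden x hxS
    have h1 : evLine c d a = algebraMap k (RatFunc k) lam * evLine c d b := by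
      rw [hlam]; exact (div_mul_cancel₀ _ hb').symm
    -- evaluate at `s = 0` to identify `lam`
    have h2 : evLineP c d a = Polynomial.C lam * evLineP c d b := by
      apply IsFractionRing.injective k[X] (RatFunc k)
      rw [map_mul, ← evLine_eq, ← evLine_eq, h1]
      congr 1
    have h3 : MvPolynomial.eval c a = lam * MvPolynomial.eval c b := by
      have := congrArg (Polynomial.eval 0) h2
      rwa [Polynomial.eval_mul, Polynomial.eval_C, eval_evLineP, eval_evLineP, hc0] at this
    apply hevG
    change evLine c d (a * MvPolynomial.C (MvPolynomial.eval c b)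
      - MvPolynomial.C (MvPolynomial.eval c a) * b) = 0
    have eC : ∀ r : k, evLine c d (MvPolynomial.C r) = algebraMap k (RatFunc k) r := by
      intro r
      rw [← MvPolynomial.algebraMap_eq, AlgHom.commutes]
    rw [map_sub, map_mul, map_mul, h1, h3, eC, eC, map_mul]
    ring
  obtain ⟨ψ⟩ := core (A := A) (F := F) φ (evLine c d) (S : Set K) hS num den hevden
    (fun g _ => hnd g) x hxS halg htr
  -- apply Lüroth
  let E : IntermediateField k (RatFunc k) := ψ.fieldRange
  have hEne : E ≠ ⊥ := by
    intro hE
    have hxE : ψ x ∈ E := ⟨x, rfl⟩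
    rw [hE, IntermediateField.mem_bot] at hxE
    obtain ⟨r, hr⟩ := hxE
    have : ψ (algebraMap k K r) = ψ x := by rw [AlgHom.commutes, hr]
    have := ψ.toRingHom.injective this
    exact hx (this ▸ isAlgebraic_algebraMap _)
  have hgen := RatFunc.Luroth.eq_adjoin_generator (E := E)
  have hgtr := RatFunc.Luroth.transcendental_generator hEne
  have hgmem : RatFunc.Luroth.generator E ∈ E := RatFunc.Luroth.generator_mem
  obtain ⟨t, ht⟩ := hgmem
  refine ⟨t, ?_, ?_⟩
  · intro hal
    apply hgtr
    rw [← ht]
    exact hal.algHom ψ
  · have hmapinj : Function.Injective (IntermediateField.map ψ) := by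
      intro E₁ E₂ h12
      ext y
      have := congrArg (fun E' => ψ y ∈ E') h12
      simp only [eq_iff_iff] at this
      constructor
      · intro hy
        obtain ⟨y', hy', hyy⟩ := this.1 ⟨y, hy, rfl⟩
        have : y' = y := ψ.toRingHom.injective hyy
        exact this ▸ hy'
      · intro hy
        obtain ⟨y', hy', hyy⟩ := this.2 ⟨y, hy, rfl⟩
        have : y' = y := ψ.toRingHom.injective hyy
        exact this ▸ hy'
    apply hmapinj
    rw [IntermediateField.adjoin_map, Set.image_singleton]
    rw [← AlgHom.fieldRange_eq_map]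
    change _ = E
    rw [hgen]
    congr 2

end Groth.Agent.Lib.Helper8.Lur
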