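import Mathlib
import Groth.Prelude.Def_Pi1
import Groth.Agent.Lib.Helper9.VdW2
import Groth.Agent.Lib.Helper14.IntDim
import Groth.Agent.Lib.Helper10.DivLocal

/-!
# Finite surjective morphisms onto normal schemes: ring-level and stalk-level lemmas (helper8)
-/

set_option autoImplicit false
set_option linter.unusedSectionVars false
set_option linter.unusedVariables false
set_option linter.style.haveILetI false
universe u
open CategoryTheory CategoryTheory.Limits AlgebraicGeometry TopologicalSpace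

namespace Groth.Agent.Lib.Helper8.MFa

section Ring

/-- integral + going-down: contraction preserves heights. -/
theorem height_comap_eq_of_goingDown {A R : Type*} [CommRing A] [CommRing R] [Algebra A R]
    [Algebra.HasGoingDown A R] [Algebra.IsIntegral A R] (P : Ideal R) [hP : P.IsPrime] :
    (P.comap (algebraMap A R)).height = P.height := by
  apply le_antisymm
  · haveI hcp : (P.comap (algebraMap A R)).IsPrime := Ideal.comap_isPrime _ _
    rw [PrimeSpectrum.height_eq_orderHeight (⟨P.comap (algebraMap A R), hcp⟩ : PrimeSpectrum _),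
      PrimeSpectrum.height_eq_orderHeight (⟨P, hP⟩ : PrimeSpectrum R)]
    apply Order.height_le
    intro l hl
    haveI : P.LiesOver l.last.asIdeal := ⟨by rw [hl]⟩
    obtain ⟨L, hlen, hlast, -⟩ := Ideal.exists_ltSeries_of_hasGoingDown l P
    rw [← hlen]
    exact Order.length_le_height hlast.le
  · have hsm : StrictMono (PrimeSpectrum.comap (algebraMap A R)) := by
      intro I J hIJ
      have := I.2
      exact Ideal.IsIntegral.comap_lt_comap (R := A) (I := I.asIdeal) (J := J.asIdeal) hIJ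
    have h := Order.height_le_height_apply_of_strictMono _ hsm (⟨P, hP⟩ : PrimeSpectrum R)
    rw [← PrimeSpectrum.height_eq_orderHeight, ← PrimeSpectrum.height_eq_orderHeight] at h
    exact h

/-- a noetherian integrally closed domain of dimension `≤ 1` is Dedekind; an injective map to a
domain is then flat -/
theorem flat_of_dim_le_one {A B : Type*} [CommRing A] [CommRing B] [IsDomain A] [IsDomain B]
    [IsNoetherianRing A] [IsIntegrallyClosed A] (hd : ringKrullDim A ≤ 1) (φ : A →+* B)
    (hφ : Function.Injective φ) : φ.Flat := by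
  haveI : Ring.KrullDimLE 1 A := Ring.krullDimLE_iff.mpr hd
  haveI : Ring.DimensionLEOne A :=
    ⟨fun {p} hp hpp => Ring.krullDimLE_one_iff_of_noZeroDivisors.mp inferInstance p hp hpp⟩
  haveI : IsDedekindDomain A := { }
  algebraize [φ]
  haveI : Module.IsTorsionFree A B :=
    Module.isTorsionFree_iff_algebraMap_injective.mpr hφ
  show Module.Flat A B
  infer_instance

end Ring

section Scheme

variable {X Y : Scheme.{u}} [IsIntegral X] [IsIntegral Y] (f : X ⟶ Y)

theorem map_genericPoint [Surjective f] : f (genericPoint X) = genericPoint Y := by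
  obtain ⟨x, hx⟩ := f.surjective (genericPoint Y)
  have h1 : genericPoint X ⤳ x := genericPoint_specializes x
  have h2 : f (genericPoint X) ⤳ genericPoint Y := hx ▸ h1.map f.continuous
  have h3 : genericPoint Y ⤳ f (genericPoint X) := genericPoint_specializes _
  exact (h2.antisymm h3).eq

omit [IsIntegral X] in
theorem isIntegrallyClosed_sections (hnY : Pi1.IsNormalScheme Y) (U : Y.Opens)
    (hU : IsAffineOpen U) [IsDomain Γ(Y, U)] : IsIntegrallyClosed Γ(Y, U) := by
  apply IsIntegrallyClosed.of_localization_maximal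
  intro p _ hp
  haveI := hp.isPrime
  have hy : hU.fromSpec ⟨p, hp.isPrime⟩ ∈ U := by
    have := Set.mem_range_self (f := hU.fromSpec) ⟨p, hp.isPrime⟩
    rwa [hU.range_fromSpec] at this
  letI := TopCat.Presheaf.algebra_section_stalk Y.presheaf ⟨hU.fromSpec ⟨p, hp.isPrime⟩, hy⟩
  haveI : IsLocalization.AtPrime (Y.presheaf.stalk (hU.fromSpec ⟨p, hp.isPrime⟩)) p :=
    hU.isLocalization_stalk' ⟨p, hp.isPrime⟩ hy
  haveI := (hnY (hU.fromSpec ⟨p, hp.isPrime⟩)).2
  exact IsIntegrallyClosed.of_equiv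
    (IsLocalization.algEquiv p.primeCompl (Y.presheaf.stalk (hU.fromSpec ⟨p, hp.isPrime⟩))
      (Localization.AtPrime p)).toRingEquiv

theorem stalkMap_injective [Surjective f] (x : X) : Function.Injective (f.stalkMap x).hom :=
  Groth.Agent.Lib.Helper9.VdW.stalkMap_injective f (map_genericPoint f) x

theorem app_injective [Surjective f] (U : Y.Opens) (hU : (U : Set Y).Nonempty) :
    Function.Injective (f.app U).hom := by
  rw [injective_iff_map_eq_zero]
  intro a ha
  obtain ⟨y, hy⟩ := hU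
  obtain ⟨x, rfl⟩ := f.surjective y
  have hηV : genericPoint X ∈ f ⁻¹ᵁ U :=
    (genericPoint_specializes x).mem_open (f ⁻¹ᵁ U).isOpen hy
  have hηU : f (genericPoint X) ∈ U := hηV
  have h1 := Scheme.Hom.germ_stalkMap_apply f U (genericPoint X) hηU a
  have ha' : (f.app U) a = 0 := ha
  rw [ha', map_zero] at h1
  have h2 := stalkMap_injective f (genericPoint X) (h1.trans (map_zero _).symm)
  exact germ_injective_of_isIntegral Y (f (genericPoint X)) hηU (h2.trans (map_zero _).symm)

theorem ringKrullDim_stalk_eq [IsFinite f] [Surjective f] (hnY : Pi1.IsNormalScheme Y) (x : X) :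
    ringKrullDim (Y.presheaf.stalk (f x)) = ringKrullDim (X.presheaf.stalk x) := by
  obtain ⟨_, ⟨U, hU : IsAffineOpen U, rfl⟩, hxU, -⟩ :=
    Y.isBasis_affineOpens.exists_subset_of_mem_open (Set.mem_univ (f x)) isOpen_univ
  have hV : IsAffineOpen (f ⁻¹ᵁ U) := hU.preimage f
  have hxV : x ∈ f ⁻¹ᵁ U := hxU
  rw [Groth.Agent.Lib.Helper10.DivLocal.ringKrullDim_stalk_eq_height ⟨U, hU⟩ (f x) hxU,
    Groth.Agent.Lib.Helper10.DivLocal.ringKrullDim_stalk_eq_height ⟨f ⁻¹ᵁ U, hV⟩ x hxV]
  congr 1
  haveI : Nonempty U := ⟨⟨f x, hxU⟩⟩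
  haveI : Nonempty (f ⁻¹ᵁ U : X.Opens) := ⟨⟨x, hxV⟩⟩
  have hint : (f.appLE U (f ⁻¹ᵁ U) le_rfl).hom.IsIntegral := by
    have := IsIntegralHom.isIntegral_app f U hU
    rwa [Scheme.Hom.app_eq_appLE] at this
  have hinj : Function.Injective (f.appLE U (f ⁻¹ᵁ U) le_rfl).hom := by
    have := app_injective f U ⟨f x, hxU⟩
    rwa [Scheme.Hom.app_eq_appLE] at this
  algebraize [(f.appLE U (f ⁻¹ᵁ U) le_rfl).hom]
  haveI : IsIntegrallyClosed Γ(Y, U) := isIntegrallyClosed_sections hnY U hU
  haveI : FaithfulSMul Γ(Y, U) Γ(X, f ⁻¹ᵁ U) :=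
    (faithfulSMul_iff_algebraMap_injective _ _).mpr hinj
  have h := height_comap_eq_of_goingDown (A := Γ(Y, U)) (hV.primeIdealOf ⟨x, hxV⟩).asIdeal
  rw [← h]
  congr 1
  exact congr($(IsAffineOpen.comap_primeIdealOf_appLE U hU _ hV le_rfl hxV).1).symm

end Scheme

section Finite

variable {Y : Scheme.{u}}

/-- no strict specialization between points whose local rings have the same finite dimension -/
theorem eq_of_specializes_of_dim_eq {z c : Y} (h : z ⤳ c) (d : ℕ)
    (hz : ringKrullDim (Y.presheaf.stalk z) = d) (hc : ringKrullDim (Y.presheaf.stalk c) = d) :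
    z = c := by
  obtain ⟨_, ⟨U, hU : IsAffineOpen U, rfl⟩, hcU, -⟩ :=
    Y.isBasis_affineOpens.exists_subset_of_mem_open (Set.mem_univ c) isOpen_univ
  have hzU : z ∈ U := h.mem_open U.isOpen hcU
  rw [Groth.Agent.Lib.Helper10.DivLocal.ringKrullDim_stalk_eq_height ⟨U, hU⟩ z hzU] at hz
  rw [Groth.Agent.Lib.Helper10.DivLocal.ringKrullDim_stalk_eq_height ⟨U, hU⟩ c hcU] at hc
  by_contra hne
  have hsp : hU.primeIdealOf ⟨z, hzU⟩ ⤳ hU.primeIdealOf ⟨c, hcU⟩ := by
    have h0 : hU.fromSpec (hU.primeIdealOf ⟨z, hzU⟩) ⤳ hU.fromSpec (hU.primeIdealOf ⟨c, hcU⟩) := by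
      rw [hU.fromSpec_primeIdealOf, hU.fromSpec_primeIdealOf]
      exact h
    exact hU.fromSpec.isOpenEmbedding.isInducing.specializes_iff.mp h0
  have hle : hU.primeIdealOf ⟨z, hzU⟩ ≤ hU.primeIdealOf ⟨c, hcU⟩ :=
    (PrimeSpectrum.le_iff_specializes _ _).mpr hsp
  have hne' : (hU.primeIdealOf ⟨z, hzU⟩).asIdeal ≠ (hU.primeIdealOf ⟨c, hcU⟩).asIdeal := by
    intro heq
    apply hne
    have h1 := hU.fromSpec_primeIdealOf ⟨z, hzU⟩
    have h2 := hU.fromSpec_primeIdealOf ⟨c, hcU⟩
    rw [PrimeSpectrum.ext heq] at h1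
    exact h1.symm.trans h2
  have hlt : (hU.primeIdealOf ⟨z, hzU⟩).asIdeal < (hU.primeIdealOf ⟨c, hcU⟩).asIdeal :=
    lt_of_le_of_ne hle hne'
  have hz' : (hU.primeIdealOf ⟨z, hzU⟩).asIdeal.height = d := by exact_mod_cast hz
  have hc' : (hU.primeIdealOf ⟨c, hcU⟩).asIdeal.height = d := by exact_mod_cast hc
  haveI : (hU.primeIdealOf ⟨z, hzU⟩).asIdeal.FiniteHeight :=
    ⟨Or.inr (by rw [hz']; exact ENat.natCast_ne_top d)⟩
  have := Ideal.height_strict_mono_of_isPrime hlt
  rw [hz', hc'] at this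
  exact lt_irrefl _ this

/-- a closed subset of a noetherian scheme all of whose points have local rings of the same
finite dimension is finite -/
theorem finite_of_isClosed_of_dim_eq [NoetherianSpace Y] (Z : Set Y) (hZ : IsClosed Z) (d : ℕ)
    (hd : ∀ y ∈ Z, ringKrullDim (Y.presheaf.stalk y) = d) : Z.Finite := by
  obtain ⟨S, hSf, hSc, hSi, hS⟩ := NoetherianSpace.exists_finite_set_isClosed_irreducible hZ
  rw [hS]
  refine Set.Finite.sUnion hSf fun t ht => ?_
  obtain ⟨z, hz⟩ := QuasiSober.sober (hSi t ht) (hSc t ht)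
  have htZ : t ⊆ Z := by
    rw [hS]; exact Set.subset_sUnion_of_mem ht
  have hzt : z ∈ t := hz.mem
  have : t ⊆ {z} := by
    intro c hc
    have hsp : z ⤳ c := hz.specializes hc
    exact (eq_of_specializes_of_dim_eq hsp d (hd z (htZ hzt)) (hd c (htZ hc))).symm
  exact (Set.finite_singleton z).subset this

end Finite

end Groth.Agent.Lib.Helper8.MFa
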