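import Mathlib
import Groth.Prelude.Def_Pi1
import Groth.Agent.Lib.Helper8.MFa
import Groth.Agent.Lib.Helper18.FlG

/-!
# Finite surjective morphisms of normal relative curves are flat away from finitely many
closed points of codimension two (helper8)
-/

set_option autoImplicit false
set_option linter.unusedSectionVars false
set_option linter.unusedVariables false
set_option linter.style.haveILetI false
universe u
open CategoryTheory CategoryTheory.Limits AlgebraicGeometry TopologicalSpace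

namespace Groth.Agent.Lib.Helper8.MFb

open Groth.Agent.Lib.Helper8.MFa

theorem eq_two_of {d : WithBot ℕ∞} (h1 : ¬ d ≤ 1) (h2 : d ≤ 2) : d = 2 := by
  induction d using WithBot.recBotCoe with
  | bot => exact absurd bot_le h1
  | coe n =>
    induction n using ENat.recTopCoe with
    | top =>
      exfalso
      have : ((⊤ : ℕ∞) : WithBot ℕ∞) ≤ ((2 : ℕ∞) : WithBot ℕ∞) := h2
      rw [WithBot.coe_le_coe] at this
      simp at this
    | coe m =>
      have h1' : ¬ (((m : ℕ∞) : WithBot ℕ∞) ≤ ((1 : ℕ) : ℕ∞)) := h1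
      have h2' : (((m : ℕ∞) : WithBot ℕ∞) ≤ ((2 : ℕ) : ℕ∞)) := h2
      rw [WithBot.coe_le_coe, Nat.cast_le] at h1' h2'
      have : m = 2 := by omega
      subst this
      rfl

theorem flat_stalkMap_of_dim_le_one {X Y : Scheme.{u}} [IsIntegral X] [IsIntegral Y] (f : X ⟶ Y)
    [Surjective f] [IsLocallyNoetherian Y] (hnY : Pi1.IsNormalScheme Y) (x : X)
    (hd : ringKrullDim (Y.presheaf.stalk (f x)) ≤ 1) : (f.stalkMap x).hom.Flat := by
  haveI := (hnY (f x)).1
  haveI := (hnY (f x)).2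
  exact flat_of_dim_le_one hd _ (stalkMap_injective f x)

theorem main (R : Type u) [CommRing R] [IsDomain R] [IsDiscreteValuationRing R]
    (X Y : Scheme.{u}) (pX : X ⟶ Spec (CommRingCat.of R)) (pY : Y ⟶ Spec (CommRingCat.of R))
    [LocallyOfFiniteType pX] [LocallyOfFiniteType pY] [QuasiCompact pY]
    [IsIntegral X] [IsIntegral Y] (hnY : Pi1.IsNormalScheme Y)
    (hdY : topologicalKrullDim Y = 2)
    (f : X ⟶ Y) [IsFinite f] [Surjective f] :
    ∃ V : Y.Opens, ((V : Set Y)ᶜ).Finite ∧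
      (∀ y : Y, y ∉ V → ringKrullDim (Y.presheaf.stalk y) = 2) ∧
      (((f ⁻¹ᵁ V : X.Opens) : Set X)ᶜ).Finite ∧
      (∀ x : X, x ∉ f ⁻¹ᵁ V → ringKrullDim (X.presheaf.stalk x) = 2) ∧
      Flat (f ∣_ V) := by
  haveI : IsNoetherianRing (CommRingCat.of R) := (inferInstance : IsNoetherianRing R)
  haveI : IsLocallyNoetherian Y := LocallyOfFiniteType.isLocallyNoetherian pY
  haveI : IsLocallyNoetherian X := LocallyOfFiniteType.isLocallyNoetherian pX
  haveI : CompactSpace Y := QuasiCompact.compactSpace_of_compactSpace pY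
  haveI : IsNoetherian Y := { }
  haveI : NoetherianSpace Y := inferInstance
  -- the non-flat locus
  have hopen : IsOpen {x : X | (f.stalkMap x).hom.Flat} :=
    Groth.Agent.Lib.Helper18.Fl.isOpen_flatLocus_scheme f
  have hNclosed : IsClosed {x : X | (f.stalkMap x).hom.Flat}ᶜ := hopen.isClosed_compl
  have hfN : IsClosed (f '' {x : X | (f.stalkMap x).hom.Flat}ᶜ) := f.isClosedMap _ hNclosed
  let V : Y.Opens := ⟨(f '' {x : X | (f.stalkMap x).hom.Flat}ᶜ)ᶜ, hfN.isOpen_compl⟩
  have hVmem : ∀ y : Y, y ∉ V ↔ ∃ x, ¬ (f.stalkMap x).hom.Flat ∧ f x = y := by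
    intro y
    show ¬ (y ∈ (f '' {x : X | (f.stalkMap x).hom.Flat}ᶜ)ᶜ) ↔ _
    rw [Set.notMem_compl_iff]
    rfl
  have hdimY : ∀ y : Y, y ∉ V → ringKrullDim (Y.presheaf.stalk y) = 2 := by
    intro y hy
    obtain ⟨x, hxN, rfl⟩ := (hVmem y).mp hy
    have h1 : ¬ ringKrullDim (Y.presheaf.stalk (f x)) ≤ 1 := fun hle =>
      hxN (flat_stalkMap_of_dim_le_one f hnY x hle)
    have h2 : ringKrullDim (Y.presheaf.stalk (f x)) ≤ 2 := by
      have := Groth.Agent.Lib.Helper14.AS.ringKrullDim_stalk_le_topologicalKrullDim Y (f x)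
      rwa [hdY] at this
    exact eq_two_of h1 h2
  have hfinY : ((V : Set Y)ᶜ).Finite := by
    refine finite_of_isClosed_of_dim_eq _ V.isOpen.isClosed_compl 2 fun y hy => ?_
    have := hdimY y hy
    exact_mod_cast this
  refine ⟨V, hfinY, hdimY, ?_, ?_, ?_⟩
  · have : ((f ⁻¹ᵁ V : X.Opens) : Set X)ᶜ = f ⁻¹' ((V : Set Y)ᶜ) := rfl
    rw [this]
    exact f.finite_preimage hfinY
  · intro x hx
    have hx' : f x ∉ V := hx
    rw [← ringKrullDim_stalk_eq f hnY x]
    exact hdimY _ hx'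
  · rw [Flat.iff_flat_stalkMap]
    intro x
    rw [RingHom.Flat.respectsIso.arrow_mk_iso_iff (morphismRestrictStalkMap f V x)]
    by_contra hnf
    have hxV : f x.1 ∈ V := x.2
    exact ((hVmem (f x.1)).mpr ⟨x.1, hnf, rfl⟩) hxV

end Groth.Agent.Lib.Helper8.MFb
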