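import Mathlib
import Groth.Agent.Lib.Helper8.MTree4

set_option autoImplicit false
set_option linter.unusedSectionVars false
set_option backward.isDefEq.respectTransparency.types false

/-!
# Matrix-tree development, part 5: the component group of a multigraph with multiplicities

`card_compGrp`: `|ker β / im α| = |det (u uᵀ - α)|` for any integer vector `u` with
`Σ u v β v = gcd β`.  `main`: the order is `gcd² · Σ_T Π_v β v ^ (deg_T v - 2)`.
-/

universe u

namespace Groth.Agent.Lib.Helper8.MTree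

open Finset Matrix

variable {V E : Type u} [Fintype V] [Fintype E] [DecidableEq V] [DecidableEq E]
variable (ends : E → V × V)

/-! ### basic facts on `mfMatrix` (as in `Lib/Helper11/LabGA`, re-proved to stay self-contained) -/

lemma edgeMult_comm (v w : V) : LabGraph.edgeMult ends v w = LabGraph.edgeMult ends w v := by
  unfold LabGraph.edgeMult
  congr 1
  ext e
  simp [or_comm]

lemma mfMatrix_off (β : V → ℤ) {v w : V} (h : v ≠ w) :
    LabGraph.mfMatrix ends β v w = (LabGraph.edgeMult ends v w : ℤ) := by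
  unfold LabGraph.mfMatrix
  rw [if_neg h]

lemma mfMatrix_symm (β : V → ℤ) (v w : V) :
    LabGraph.mfMatrix ends β v w = LabGraph.mfMatrix ends β w v := by
  by_cases h : v = w
  · subst h; rfl
  · rw [mfMatrix_off ends β h, mfMatrix_off ends β (Ne.symm h), edgeMult_comm]

lemma mfMatrix_diag_mul {β : V → ℤ} (hβ : LabGraph.IsMultFn ends β) (v : V) :
    LabGraph.mfMatrix ends β v v * β v =
      -(∑ u ∈ Finset.univ.erase v, β u * (LabGraph.edgeMult ends v u : ℤ)) := by
  unfold LabGraph.mfMatrix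
  rw [if_pos rfl]
  exact Int.ediv_mul_cancel ((dvd_neg).2 (hβ v).2)

lemma mfMatrix_row {β : V → ℤ} (hβ : LabGraph.IsMultFn ends β) (v : V) :
    ∑ w, LabGraph.mfMatrix ends β v w * β w = 0 := by
  rw [← Finset.add_sum_erase _ _ (Finset.mem_univ v), mfMatrix_diag_mul ends hβ]
  rw [neg_add_eq_zero]
  refine Finset.sum_congr rfl fun w hw => ?_
  rw [mfMatrix_off ends β (Finset.ne_of_mem_erase hw).symm, mul_comm]

lemma mfMatrix_col {β : V → ℤ} (hβ : LabGraph.IsMultFn ends β) (w : V) :
    ∑ v, β v * LabGraph.mfMatrix ends β v w = 0 := by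
  rw [← mfMatrix_row ends hβ w]
  refine Finset.sum_congr rfl fun v _ => ?_
  rw [mfMatrix_symm ends β v w, mul_comm]

lemma betaHom_apply (β x : V → ℤ) : LabGraph.betaHom β x = ∑ v, x v * β v := by
  simp [LabGraph.betaHom, Fintype.linearCombination_apply]

lemma mulVec_apply' (M : Matrix V V ℤ) (z : V → ℤ) (v : V) :
    (M *ᵥ z) v = ∑ w, M v w * z w := by
  simp [Matrix.mulVec, dotProduct]

lemma betaHom_mulVec {β : V → ℤ} (hβ : LabGraph.IsMultFn ends β) (z : V → ℤ) :
    ∑ v, ((LabGraph.mfMatrix ends β) *ᵥ z) v * β v = 0 := by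
  simp_rw [mulVec_apply', Finset.sum_mul]
  rw [Finset.sum_comm]
  refine Finset.sum_eq_zero fun w _ => ?_
  calc ∑ v, LabGraph.mfMatrix ends β v w * z w * β v
      = z w * ∑ v, β v * LabGraph.mfMatrix ends β v w := by
        rw [Finset.mul_sum]
        refine Finset.sum_congr rfl fun v _ => ?_
        ring
    _ = 0 := by rw [mfMatrix_col ends hβ, mul_zero]

/-! ### the index formula -/

section Index

variable {ends} {β : V → ℤ} (hβ : LabGraph.IsMultFn ends β) [Nonempty V]
  (u : V → ℤ) (hu : ∑ v, u v * β v = (Finset.univ.gcd β : ℤ))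

include hβ in
lemma gcd_ne_zero : (Finset.univ.gcd β : ℤ) ≠ 0 := by
  intro h
  rw [Finset.gcd_eq_zero_iff] at h
  have v := Classical.arbitrary V
  exact (hβ v).1.ne' (h v (Finset.mem_univ v))

/-- `β / gcd β` -/
noncomputable def bprime (β : V → ℤ) : V → ℤ := fun v => β v / Finset.univ.gcd β

lemma bprime_mul (β : V → ℤ) (v : V) : Finset.univ.gcd β * bprime β v = β v :=
  Int.mul_ediv_cancel' (Finset.gcd_dvd (Finset.mem_univ v))

include hβ hu in
lemma dot_bprime : ∑ v, u v * bprime β v = 1 := by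
  have h0 := gcd_ne_zero hβ
  have h1 : (Finset.univ.gcd β : ℤ) * ∑ v, u v * bprime β v = ∑ v, u v * β v := by
    rw [Finset.mul_sum]
    refine Finset.sum_congr rfl fun v _ => ?_
    rw [← bprime_mul β v]; ring
  have : (Finset.univ.gcd β : ℤ) * ∑ v, u v * bprime β v = Finset.univ.gcd β * 1 := by
    rw [h1, hu, mul_one]
  exact mul_left_cancel₀ h0 this

include hβ in
lemma mfMatrix_mulVec_bprime : (LabGraph.mfMatrix ends β) *ᵥ (bprime β) = 0 := by
  have h0 := gcd_ne_zero hβ
  funext v
  rw [mulVec_apply', Pi.zero_apply]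
  have : (Finset.univ.gcd β : ℤ) * ∑ w, LabGraph.mfMatrix ends β v w * bprime β w = 0 := by
    rw [Finset.mul_sum, ← mfMatrix_row ends hβ v]
    refine Finset.sum_congr rfl fun w _ => ?_
    rw [← bprime_mul β w]; ring
  exact (mul_eq_zero.1 this).resolve_left h0

/-- the matrix `u uᵀ - α` -/
noncomputable def Mmat (ends : E → V × V) (β u : V → ℤ) : Matrix V V ℤ :=
  vecMulVec u u - LabGraph.mfMatrix ends β

lemma Mmat_mulVec (x : V → ℤ) (v : V) :
    (Mmat ends β u *ᵥ x) v =
      u v * (∑ j, u j * x j) - ((LabGraph.mfMatrix ends β) *ᵥ x) v := by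
  unfold Mmat
  rw [Matrix.sub_mulVec, Pi.sub_apply, mulVec_apply']
  congr 1
  rw [Finset.mul_sum]
  refine Finset.sum_congr rfl fun j _ => ?_
  rw [vecMulVec_apply]; ring

include hβ hu in
lemma Mmat_mulVec_bprime : Mmat ends β u *ᵥ (bprime β) = u := by
  funext v
  rw [Mmat_mulVec, dot_bprime hβ u hu, mfMatrix_mulVec_bprime hβ]
  simp

include hβ hu in
/-- for `k ∈ ker β`: `k ∈ im (u uᵀ - α) ↔ k ∈ im α` -/
lemma mem_range_iff (k : V → ℤ) (hk : ∑ v, k v * β v = 0) :
    k ∈ LinearMap.range (Mmat ends β u).mulVecLin ↔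
      k ∈ LinearMap.range (LabGraph.mfMatrix ends β).mulVecLin := by
  have h0 := gcd_ne_zero hβ
  constructor
  · rintro ⟨x, rfl⟩
    simp only [Matrix.mulVecLin_apply] at hk ⊢
    -- `u ⬝ x = 0`
    have h1 : (∑ j, u j * x j) * (Finset.univ.gcd β : ℤ) = 0 := by
      have := betaHom_mulVec ends hβ x
      simp_rw [Mmat_mulVec, sub_mul, Finset.sum_sub_distrib, this, sub_zero] at hk
      have h3 : (∑ j, u j * x j) * ∑ v, u v * β v = 0 := by
        rw [← hk, Finset.mul_sum]
        refine Finset.sum_congr rfl fun v _ => ?_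
        ring
      rw [← hu, h3]
    have h2 : ∑ j, u j * x j = 0 := (mul_eq_zero.1 h1).resolve_right h0
    refine ⟨-x, ?_⟩
    funext v
    rw [Matrix.mulVecLin_apply, Matrix.mulVec_neg, Pi.neg_apply, Mmat_mulVec, h2]
    ring
  · rintro ⟨x, rfl⟩
    simp only [Matrix.mulVecLin_apply]
    set t : ℤ := ∑ j, u j * x j with ht
    refine ⟨-(x - t • bprime β), ?_⟩
    funext v
    rw [Matrix.mulVecLin_apply, Matrix.mulVec_neg, Pi.neg_apply, Mmat_mulVec,
      Matrix.mulVec_sub, Matrix.mulVec_smul, mfMatrix_mulVec_bprime hβ]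
    have : ∑ j, u j * (x - t • bprime β) j = 0 := by
      simp only [Pi.sub_apply, Pi.smul_apply, smul_eq_mul, mul_sub, Finset.sum_sub_distrib]
      have := dot_bprime hβ u hu
      calc ∑ j, u j * x j - ∑ j, u j * (t * bprime β j)
          = t - t * ∑ j, u j * bprime β j := by
            rw [Finset.mul_sum, ← ht]
            congr 1
            refine Finset.sum_congr rfl fun j _ => ?_
            ring
        _ = 0 := by rw [this]; ring
    rw [this]
    simp

include hβ hu in
/-- **Index formula**: `|ker β / im α| = |det (u uᵀ - α)|`. -/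
theorem card_compGrp :
    Nat.card (LabGraph.CompGrp ends β) = (det (Mmat ends β u)).natAbs := by
  rw [← card_quot_range_mulVecLin]
  set Kβ := LinearMap.ker (LabGraph.betaHom β) with hKβ
  set N := LinearMap.range (Mmat ends β u).mulVecLin with hN
  let φ : Kβ →ₗ[ℤ] ((V → ℤ) ⧸ N) := N.mkQ.comp Kβ.subtype
  have hker : LinearMap.ker φ =
      (LinearMap.range (Matrix.mulVecLin (LabGraph.mfMatrix ends β))).comap Kβ.subtype := by
    ext k
    have hk : ∑ v, k.1 v * β v = 0 := by
      have := LinearMap.mem_ker.1 k.2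
      rwa [betaHom_apply] at this
    simp only [φ, LinearMap.mem_ker, LinearMap.comp_apply, Submodule.mkQ_apply,
      Submodule.Quotient.mk_eq_zero, Submodule.mem_comap, Submodule.subtype_apply]
    exact mem_range_iff hβ u hu k.1 hk
  have hsurj : Function.Surjective φ := by
    intro q
    obtain ⟨x, rfl⟩ := Submodule.Quotient.mk_surjective N q
    set c : ℤ := ∑ v, x v * bprime β v with hc
    have hkmem : x - c • u ∈ Kβ := by
      rw [hKβ, LinearMap.mem_ker, betaHom_apply]
      simp only [Pi.sub_apply, Pi.smul_apply, smul_eq_mul, sub_mul, Finset.sum_sub_distrib]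
      have h1 : ∑ v, x v * β v = c * Finset.univ.gcd β := by
        rw [hc, Finset.sum_mul]
        refine Finset.sum_congr rfl fun v _ => ?_
        rw [← bprime_mul β v]; ring
      have h2 : ∑ v, c * u v * β v = c * Finset.univ.gcd β := by
        rw [← hu, Finset.mul_sum]
        refine Finset.sum_congr rfl fun v _ => ?_
        ring
      rw [h1, h2, sub_self]
    refine ⟨⟨x - c • u, hkmem⟩, ?_⟩
    simp only [φ, LinearMap.comp_apply, Submodule.subtype_apply, Submodule.mkQ_apply]
    rw [Submodule.Quotient.eq]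
    have : x - c • u - x = Mmat ends β u *ᵥ ((-c) • bprime β) := by
      rw [Matrix.mulVec_smul, Mmat_mulVec_bprime hβ u hu]
      simp
    rw [this]
    exact ⟨_, rfl⟩
  have e1 : (Kβ ⧸ LinearMap.ker φ) ≃ₗ[ℤ] ((V → ℤ) ⧸ N) :=
    LinearMap.quotKerEquivOfSurjective φ hsurj
  have e2 : LabGraph.CompGrp ends β ≃ₗ[ℤ] (Kβ ⧸ LinearMap.ker φ) :=
    Submodule.quotEquivOfEq _ _ hker.symm
  exact Nat.card_congr (e2.trans e1).toEquiv

end Index

end Groth.Agent.Lib.Helper8.MTree
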