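import Mathlib
import Groth.Agent.Lib.Helper8.MTree5

set_option autoImplicit false
set_option linter.unusedSectionVars false
set_option backward.isDefEq.respectTransparency.types false

/-!
# Matrix-tree development, part 6: order of the component group
-/

universe u

namespace Groth.Agent.Lib.Helper8.MTree

open Finset Matrix

variable {V E : Type u} [Fintype V] [Fintype E] [DecidableEq V] [DecidableEq E]
variable {ends : E → V × V} {β : V → ℤ}

/-- edge weights `β(a) β(b)` -/
def wt (ends : E → V × V) (β : V → ℤ) (e : E) : ℚ := (β (ends e).1 : ℚ) * (β (ends e).2 : ℚ)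

lemma eq_of_offdiag_of_rowsum {K : Type*} [CommRing K] (A B : Matrix V V K)
    (h : ∀ v j, v ≠ j → A v j = B v j) (hA : ∀ v, ∑ j, A v j = 0) (hB : ∀ v, ∑ j, B v j = 0) :
    A = B := by
  ext v j
  by_cases hvj : v = j
  · subst hvj
    have h1 := hA v
    have h2 := hB v
    rw [← Finset.add_sum_erase _ _ (Finset.mem_univ v)] at h1 h2
    have h3 : ∑ j ∈ Finset.univ.erase v, A v j = ∑ j ∈ Finset.univ.erase v, B v j :=
      Finset.sum_congr rfl fun j hj => h v j (Finset.ne_of_mem_erase hj).symm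
    rw [h3] at h1
    linear_combination h1 - h2
  · exact h v j hvj

lemma Lap_term {V : Type*} [DecidableEq V] (β : V → ℚ) (a b v j : V) (hvj : v ≠ j) :
    (β a * β b) * (((if v = a then (1:ℚ) else 0) - (if v = b then 1 else 0)) *
      ((if j = a then (1:ℚ) else 0) - (if j = b then 1 else 0))) =
    -(β v * (if (a = v ∧ b = j) ∨ (a = j ∧ b = v) then (1:ℚ) else 0) * β j) := by
  by_cases h1 : v = a
  · subst h1
    by_cases h4 : j = b
    · subst h4
      have h5 : ¬ (j = v) := fun h => hvj h.symm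
      simp [hvj, h5]
    · have h3 : ¬ (j = v) := fun h => hvj h.symm
      have h6 : ¬ (b = j) := fun h => h4 h.symm
      simp [h3, h4, h6, hvj]
  · by_cases h2 : v = b
    · subst h2
      by_cases h3 : j = a
      · subst h3
        have h5 : ¬ (j = v) := fun h => hvj h.symm
        simp [hvj, h5]
        ring
      · have h4 : ¬ (j = v) := fun h => hvj h.symm
        have h6 : ¬ (a = j) := fun h => h3 h.symm
        have h7 : ¬ (a = v) := fun h => h1 h.symm
        simp [h3, h4, h6, h7]
    · have h5 : ¬ (a = v) := fun h => h1 h.symm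
      have h6 : ¬ (b = v) := fun h => h2 h.symm
      simp [h1, h2, h5, h6]

lemma Lap_offdiag (v j : V) (hvj : v ≠ j) :
    Lap ends (wt ends β) Finset.univ v j =
      -((β v : ℚ) * (LabGraph.mfMatrix ends β v j : ℚ) * (β j : ℚ)) := by
  rw [Lap_apply, mfMatrix_off ends β hvj]
  unfold LabGraph.edgeMult
  rw [Finset.card_filter]
  push_cast
  rw [Finset.mul_sum, Finset.sum_mul, ← Finset.sum_neg_distrib]
  refine Finset.sum_congr rfl fun e _ => ?_
  rcases hends : ends e with ⟨a, b⟩
  simp only [wt, dvec, hends, Pi.sub_apply, Pi.single_apply, Prod.mk.injEq]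
  exact Lap_term (fun v => (β v : ℚ)) a b v j hvj

lemma Lap_eq (hβ : LabGraph.IsMultFn ends β) :
    Lap ends (wt ends β) Finset.univ =
      Matrix.of fun v j => -((β v : ℚ) * (LabGraph.mfMatrix ends β v j : ℚ) * (β j : ℚ)) := by
  refine eq_of_offdiag_of_rowsum _ _ (fun v j hvj => by rw [Lap_offdiag v j hvj]; rfl) ?_ ?_
  · intro v
    have := Lap_mulVec_eq_zero (ends := ends) (wt ends β) Finset.univ (fun _ => (1 : ℚ))
      (fun _ _ => rfl) v
    simpa using this
  · intro v
    simp only [Matrix.of_apply]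
    have := mfMatrix_row ends hβ v
    have h2 : ∑ j, ((LabGraph.mfMatrix ends β v j : ℚ) * (β j : ℚ)) = 0 := by
      exact_mod_cast this
    calc ∑ j, -((β v : ℚ) * (LabGraph.mfMatrix ends β v j : ℚ) * (β j : ℚ))
        = -((β v : ℚ) * ∑ j, ((LabGraph.mfMatrix ends β v j : ℚ) * (β j : ℚ))) := by
          rw [Finset.mul_sum, ← Finset.sum_neg_distrib]
          refine Finset.sum_congr rfl fun j _ => ?_
          ring
      _ = 0 := by rw [h2]; ring

open Classical in
/-- the weighted spanning-tree count, via `forestSum` with any root -/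
lemma forestSum_singleton (w : E → ℚ) (i : V) :
    forestSum (ends := ends) w {i} Finset.univ =
      ∑ T ∈ Finset.univ.powerset.filter (fun T : Finset E => LabGraph.IsSpanningTree ends T),
        ∏ e ∈ T, w e := by
  unfold forestSum
  refine Finset.sum_congr ?_ fun _ _ => rfl
  ext T
  simp only [Finset.mem_filter, Finset.mem_powerset, isSpanningTree_iff ends T i]

open Classical in
/-- determinant of `u uᵀ - α` over `ℚ` -/
theorem det_Mmat (hβ : LabGraph.IsMultFn ends β) [Nonempty V]
    (u : V → ℤ) (hu : ∑ v, u v * β v = (Finset.univ.gcd β : ℤ)) :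
    ((det (Mmat ends β u) : ℤ) : ℚ) =
      ((Finset.univ.gcd β : ℤ) : ℚ) ^ 2 *
        ∑ T ∈ Finset.univ.powerset.filter (fun T : Finset E => LabGraph.IsSpanningTree ends T),
          ∏ v : V, ((β v : ℚ) ^ ((LabGraph.nbrCount ends T v : ℤ) - 2)) := by
  have hβpos : ∀ v, (0 : ℚ) < (β v : ℚ) := fun v => by exact_mod_cast (hβ v).1
  have hβne : ∀ v, (β v : ℚ) ≠ 0 := fun v => (hβpos v).ne'
  set P : ℚ := ∏ v, (β v : ℚ) with hP
  have hPne : P ≠ 0 := Finset.prod_ne_zero_iff.2 fun v _ => hβne v
  set Mq : Matrix V V ℚ := (Mmat ends β u).map (Int.cast : ℤ → ℚ) with hMq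
  have hdetMq : ((det (Mmat ends β u) : ℤ) : ℚ) = det Mq := by
    rw [hMq]
    exact (Int.castRingHom ℚ).map_det _
  set B : Matrix V V ℚ := Matrix.diagonal (fun v => (β v : ℚ)) with hB
  set y : V → ℚ := fun v => (β v : ℚ) * (u v : ℚ) with hy
  have hBMB : B * Mq * B = Lap ends (wt ends β) Finset.univ + vecMulVec y y := by
    rw [Lap_eq hβ]
    ext v j
    rw [hB, Matrix.mul_diagonal, Matrix.diagonal_mul]
    simp only [hMq, Mmat, Matrix.map_apply, Matrix.sub_apply, vecMulVec_apply, Matrix.add_apply,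
      Matrix.of_apply, hy]
    push_cast
    ring
  have hdetB : det B = P := by rw [hB, Matrix.det_diagonal]
  have h1 : P ^ 2 * det Mq = det (Lap ends (wt ends β) Finset.univ + vecMulVec y y) := by
    rw [← hBMB, Matrix.det_mul, Matrix.det_mul, hdetB]
    ring
  rw [det_Lap_add] at h1
  set τ : ℚ := ∑ T ∈ Finset.univ.powerset.filter
      (fun T : Finset E => LabGraph.IsSpanningTree ends T), ∏ e ∈ T, wt ends β e with hτ
  have hsumy : ∑ v, y v = ((Finset.univ.gcd β : ℤ) : ℚ) := by
    rw [← hu]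
    push_cast
    refine Finset.sum_congr rfl fun v _ => ?_
    simp only [hy]; ring
  have h2 : P ^ 2 * det Mq = ((Finset.univ.gcd β : ℤ) : ℚ) ^ 2 * τ := by
    rw [h1, ← hsumy]
    simp_rw [forestSum_singleton, ← hτ]
    rw [sq, Finset.sum_mul_sum, Finset.sum_mul]
    refine Finset.sum_congr rfl fun i _ => ?_
    rw [Finset.sum_mul]
  -- rewrite `τ`
  have hτ2 : τ = P ^ 2 * ∑ T ∈ Finset.univ.powerset.filter
      (fun T : Finset E => LabGraph.IsSpanningTree ends T),
        ∏ v : V, ((β v : ℚ) ^ ((LabGraph.nbrCount ends T v : ℤ) - 2)) := by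
    rw [hτ, Finset.mul_sum]
    refine Finset.sum_congr rfl fun T hT => ?_
    have hTtree : LabGraph.IsSpanningTree ends T := (Finset.mem_filter.1 hT).2
    have hac : Acyc ends T :=
      ((isSpanningTree_iff ends T (Classical.arbitrary V)).1 hTtree).1
    have h3 : ∏ e ∈ T, wt ends β e = ∏ v, (β v : ℚ) ^ LabGraph.endCount ends T v :=
      prod_edges_eq (ends := ends) (fun v => (β v : ℚ)) T
    rw [h3, hP, ← Finset.prod_pow, ← Finset.prod_mul_distrib]
    refine Finset.prod_congr rfl fun v _ => ?_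
    rw [zpow_sub₀ (hβne v), nbrCount_eq_endCount hac v, zpow_natCast, zpow_ofNat]
    have h4 : (β v : ℚ) ^ 2 ≠ 0 := pow_ne_zero 2 (hβne v)
    rw [← mul_div_assoc, mul_div_cancel_left₀ _ h4]
  rw [hdetMq]
  rw [hτ2] at h2
  have hP2 : P ^ 2 ≠ 0 := pow_ne_zero 2 hPne
  apply mul_left_cancel₀ hP2
  rw [h2]
  ring

open Classical in
/-- **Order of the component group** of a connected multigraph with multiplicities. -/
theorem main (hβ : LabGraph.IsMultFn ends β) (hG : LabGraph.Connected ends) :
    (Nat.card (LabGraph.CompGrp ends β) : ℚ) =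
      ((Finset.univ.gcd β : ℤ) : ℚ) ^ 2 *
        ∑ T ∈ Finset.univ.powerset.filter (fun T : Finset E => LabGraph.IsSpanningTree ends T),
          ∏ v : V, ((β v : ℚ) ^ ((LabGraph.nbrCount ends T v : ℤ) - 2)) := by
  have : Nonempty V := hG.1
  obtain ⟨g, hg⟩ := Finset.gcd_eq_sum_mul (Finset.univ : Finset V) β
  have hu : ∑ v, g v * β v = (Finset.univ.gcd β : ℤ) := by
    rw [hg]
    refine Finset.sum_congr rfl fun v _ => ?_
    ring
  rw [card_compGrp hβ g hu, Nat.cast_natAbs, Int.cast_abs, det_Mmat hβ g hu]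
  apply abs_of_nonneg
  apply mul_nonneg (sq_nonneg _)
  refine Finset.sum_nonneg fun T _ => Finset.prod_nonneg fun v _ => ?_
  exact zpow_nonneg (by exact_mod_cast (hβ v).1.le) _

end Groth.Agent.Lib.Helper8.MTree
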