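import Mathlib

/-!
# Uniqueness in Wedderburn's theorem (helper8)

`M_n(D) ≃ₐ[k] M_m(D')` for division rings `D`, `D'` implies `D ≃ₐ[k] D'`.
-/

set_option autoImplicit false

namespace Groth.Agent.Lib.Helper8.MatrixSimple

open Matrix.Module

section

variable {ι : Type*} [Fintype ι] [DecidableEq ι] {D : Type*}

/-- Transitivity of the matrix action on nonzero vectors. -/
theorem exists_smul_eq [DivisionRing D] (v : ι → D) (hv : v ≠ 0) (w : ι → D) :
    ∃ N : Matrix ι ι D, N • v = w := by
  obtain ⟨j, hj⟩ : ∃ j, v j ≠ 0 := by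
    by_contra h
    push Not at h
    exact hv (funext h)
  refine ⟨Matrix.of fun i j' => if j' = j then w i * (v j)⁻¹ else 0, ?_⟩
  ext i
  simp only [Matrix.Module.smul_apply, Matrix.of_apply, smul_eq_mul, ite_mul, zero_mul]
  rw [Finset.sum_ite_eq' Finset.univ j]
  simp [mul_assoc, inv_mul_cancel₀ hj]

variable [Ring D]

/-- right multiplication by a scalar, as a matrix-linear endomorphism of `Dⁿ`. -/
def rmul (d : D) : (ι → D) →ₗ[Matrix ι ι D] (ι → D) where
  toFun v i := v i * d
  map_add' := by intros; ext; simp [add_mul]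
  map_smul' := by intros; ext; simp [Finset.sum_mul, mul_assoc]

@[simp] lemma rmul_apply (d : D) (v : ι → D) (i : ι) : rmul d v i = v i * d := rfl

/-- Every matrix-linear endomorphism of `Dⁿ` is a right multiplication. -/
theorem exists_eq_rmul [Nonempty ι] (f : (ι → D) →ₗ[Matrix ι ι D] (ι → D)) :
    ∃ d : D, f = rmul d := by
  obtain ⟨i₀⟩ := ‹Nonempty ι›
  refine ⟨f (Pi.single i₀ 1) i₀, ?_⟩
  ext v i
  have hv : v = (Matrix.of fun i j => if j = i₀ then v i else 0 : Matrix ι ι D) •
      (Pi.single i₀ (1 : D) : ι → D) := by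
    ext i
    simp only [Matrix.Module.smul_apply, Matrix.of_apply, smul_eq_mul, ite_mul, zero_mul]
    rw [Finset.sum_ite_eq' Finset.univ i₀]
    simp
  conv_lhs => rw [hv, map_smul]
  simp only [Matrix.Module.smul_apply, Matrix.of_apply, smul_eq_mul, ite_mul, zero_mul, rmul_apply]
  rw [Finset.sum_ite_eq' Finset.univ i₀]
  simp

/-- `Dᵐᵒᵖ → End_{M_n(D)}(Dⁿ)`. -/
def rmulHom : Dᵐᵒᵖ →+* Module.End (Matrix ι ι D) (ι → D) where
  toFun d := rmul d.unop
  map_one' := by ext; simp
  map_mul' a b := by ext; simp [mul_assoc]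
  map_zero' := by ext; simp
  map_add' a b := by ext; simp [mul_add]

theorem rmulHom_bijective [Nonempty ι] : Function.Bijective (rmulHom (ι := ι) (D := D)) := by
  constructor
  · intro a b h
    obtain ⟨i₀⟩ := ‹Nonempty ι›
    have := congrArg (fun f : Module.End (Matrix ι ι D) (ι → D) => f (fun _ => 1) i₀) h
    simpa [rmulHom] using this
  · intro f
    obtain ⟨d, hd⟩ := exists_eq_rmul f
    exact ⟨MulOpposite.op d, hd.symm⟩

end

universe u v w

theorem isSimpleModule_matrix {ι : Type*} [Fintype ι] [DecidableEq ι] [Nonempty ι]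
    {D : Type*} [DivisionRing D] : IsSimpleModule (Matrix ι ι D) (ι → D) := by
  rw [isSimpleModule_iff_toSpanSingleton_surjective]
  refine ⟨inferInstance, fun v hv w => ?_⟩
  obtain ⟨N, hN⟩ := exists_smul_eq v hv w
  exact ⟨N, hN⟩

theorem rmul_algebraMap {ι : Type*} [Fintype ι] [DecidableEq ι] {k : Type*} [CommRing k]
    {D : Type*} [Ring D] [Algebra k D] (c : k) (v : ι → D) :
    rmul (algebraMap k D c) v = (algebraMap k (Matrix ι ι D) c) • v := by
  ext i
  simp only [rmul_apply, Matrix.Module.smul_apply, Matrix.algebraMap_matrix_apply, smul_eq_mul,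
    ite_mul, zero_mul]
  rw [Finset.sum_ite_eq Finset.univ i]
  simp [Algebra.commutes]

theorem nonempty_algEquiv_of_matrix_algEquiv (k : Type u) [Field k]
    (D : Type v) [DivisionRing D] [Algebra k D]
    (D' : Type w) [DivisionRing D'] [Algebra k D']
    (n m : ℕ) [NeZero n] [NeZero m]
    (e : Matrix (Fin n) (Fin n) D ≃ₐ[k] Matrix (Fin m) (Fin m) D') :
    Nonempty (D ≃ₐ[k] D') := by
  classical
  let R := Matrix (Fin n) (Fin n) D
  let R' := Matrix (Fin m) (Fin m) D'
  let V := Fin n → D
  let V' := Fin m → D'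
  let iM : Module R V' := Module.compHom V' (e : R →+* R')
  have hsm : ∀ (r : R) (w : V'), r • w = (e r) • w := fun _ _ => rfl
  have hV : IsSimpleModule R V := isSimpleModule_matrix
  have hV' : IsSimpleModule R V' := by
    rw [isSimpleModule_iff_toSpanSingleton_surjective]
    refine ⟨inferInstance, fun v hv w => ?_⟩
    obtain ⟨N, hN⟩ := exists_smul_eq v hv w
    refine ⟨e.symm N, ?_⟩
    simp only [LinearMap.toSpanSingleton_apply, hsm, AlgEquiv.apply_symm_apply]
    exact hN
  obtain ⟨ψ⟩ : Nonempty (V ≃ₗ[R] V') := by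
    let T : Submodule R (V × V') := LinearMap.range (LinearMap.inl R V V')
    let T' : Submodule R (V × V') := LinearMap.range (LinearMap.inr R V V')
    let eT : V ≃ₗ[R] T := LinearEquiv.ofInjective _ LinearMap.inl_injective
    let eT' : V' ≃ₗ[R] T' := LinearEquiv.ofInjective _ LinearMap.inr_injective
    have hT : IsSimpleModule R T := IsSimpleModule.congr eT.symm
    have hT' : IsSimpleModule R T' := IsSimpleModule.congr eT'.symm
    obtain ⟨eTT'⟩ := IsSimpleRing.isIsotypic R (V × V') T T'
    exact ⟨eT.trans (eTT'.symm.trans eT'.symm)⟩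
  let E₁ : Dᵐᵒᵖ ≃+* Module.End R V := RingEquiv.ofBijective rmulHom rmulHom_bijective
  let E₂ : D'ᵐᵒᵖ ≃+* Module.End R' V' := RingEquiv.ofBijective rmulHom rmulHom_bijective
  let E₃ : Module.End R V ≃+* Module.End R V' := ψ.conjRingEquiv
  have h41 : ∀ (g : Module.End R V') (r' : R') (w : V'), g (r' • w) = r' • g w := by
    intro g r' w
    have := g.map_smul (e.symm r') w
    simpa [hsm] using this
  have h42 : ∀ (g : Module.End R' V') (r : R) (w : V'), g (r • w) = r • g w := by
    intro g r w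
    simp [hsm]
  let E₄ : Module.End R V' ≃+* Module.End R' V' :=
    { toFun := fun g => { toFun := g, map_add' := g.map_add, map_smul' := h41 g }
      invFun := fun g => { toFun := g, map_add' := g.map_add, map_smul' := h42 g }
      left_inv := fun g => rfl
      right_inv := fun g => rfl
      map_mul' := fun _ _ => rfl
      map_add' := fun _ _ => rfl }
  let Φ : Dᵐᵒᵖ ≃+* D'ᵐᵒᵖ := E₁.trans (E₃.trans (E₄.trans E₂.symm))
  have hΦ : ∀ c : k, Φ (algebraMap k Dᵐᵒᵖ c) = algebraMap k D'ᵐᵒᵖ c := by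
    intro c
    change E₂.symm (E₄ (E₃ (E₁ _))) = _
    rw [RingEquiv.symm_apply_eq]
    ext w i
    change ψ (rmul (algebraMap k D c) (ψ.symm w)) i = rmul (algebraMap k D' c) w i
    rw [rmul_algebraMap, map_smul, LinearEquiv.apply_symm_apply, hsm, AlgEquiv.commutes,
      rmul_algebraMap]
  exact ⟨AlgEquiv.unop (AlgEquiv.ofRingEquiv (f := Φ) hΦ)⟩

end Groth.Agent.Lib.Helper8.MatrixSimple
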