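import Mathlib
import Groth.Agent.Lib.Helper8.Morse9
set_option backward.isDefEq.respectTransparency.types false
set_option autoImplicit false
set_option linter.unusedSectionVars false
set_option linter.style.haveILetI false

universe u

namespace Groth.Agent.Lib.Helper8.Morse

open MvPowerSeries
open scoped MvPowerSeries.WithPiTopology

section Trans

variable {A : Type u} [CommRing A] [WithIdeal A] [T2Space A] [CompleteSpace A] {n : ℕ}

/-- admissible translation vectors: all entries in the ideal of definition -/
def InI (c : Fin n → A) : Prop := ∀ i, c i ∈ (WithIdeal.i : Ideal A)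

lemma InI.add {c c' : Fin n → A} (hc : InI c) (hc' : InI c') : InI (c + c') :=
  fun i => Ideal.add_mem _ (hc i) (hc' i)

lemma InI.neg {c : Fin n → A} (hc : InI c) : InI (-c) :=
  fun i => Ideal.neg_mem_iff _ |>.mpr (hc i)

lemma InI.zero : InI (0 : Fin n → A) := fun _ => Ideal.zero_mem _

lemma hasEval_trans {c : Fin n → A} (hc : InI c) :
    HasEval (fun i => (X i : MvPowerSeries (Fin n) A) + C (c i)) := by
  refine HasEval.add HasEval.X ?_
  constructor
  · intro s
    apply MvPowerSeries.LinearTopology.isTopologicallyNilpotent_of_constantCoeff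
    simp only [constantCoeff_C]
    exact WithIdeal.isTopologicallyNilpotent_of_mem (hc s)
  · simp

/-- translation `x ↦ x + c` -/
noncomputable def T (c : Fin n → A) (hc : InI c) :
    MvPowerSeries (Fin n) A →ₐ[A] MvPowerSeries (Fin n) A :=
  MvPowerSeries.aeval (hasEval_trans hc)

lemma T_continuous (c : Fin n → A) (hc : InI c) :
    Continuous (T c hc : MvPowerSeries (Fin n) A → MvPowerSeries (Fin n) A) :=
  continuous_aeval _

lemma T_coe (c : Fin n → A) (hc : InI c) (p : MvPolynomial (Fin n) A) :
    T c hc (p : MvPowerSeries (Fin n) A) =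
      MvPolynomial.aeval (fun i => (X i : MvPowerSeries (Fin n) A) + C (c i)) p :=
  aeval_coe _ p

lemma T_X (c : Fin n → A) (hc : InI c) (i : Fin n) :
    T c hc (X i) = X i + C (c i) := by
  have := T_coe c hc (MvPolynomial.X i)
  rwa [MvPolynomial.aeval_X, MvPolynomial.coe_X] at this

lemma T_C (c : Fin n → A) (hc : InI c) (a : A) :
    T c hc (C a) = C a := by
  have := (T c hc).commutes a
  rwa [MvPowerSeries.algebraMap_apply, Algebra.algebraMap_self, RingHom.id_apply] at this

lemma T_congr {c c' : Fin n → A} (hc : InI c) (hc' : InI c') (h : c = c') :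
    T c hc = T c' hc' := by
  subst h; rfl

lemma T_T (c c' : Fin n → A) (hc : InI c) (hc' : InI c') (F : MvPowerSeries (Fin n) A) :
    T c hc (T c' hc' F) = T (c + c') (hc.add hc') F := by
  have h1 := comp_aeval (hasEval_trans hc') (ε := T c hc) (T_continuous c hc)
  have h2 : T (c + c') (hc.add hc') = aeval ((hasEval_trans hc').map (T_continuous c hc)) := by
    unfold T
    congr 1
    funext i
    simp only [Pi.add_apply, map_add]
    change _ = T c hc (X i) + T c hc (C (c' i))
    rw [T_X, T_C]
    ring
  rw [h2, ← h1]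
  rfl

lemma T_zero (F : MvPowerSeries (Fin n) A) : T (0 : Fin n → A) InI.zero F = F := by
  have hid : Continuous (AlgHom.id A (MvPowerSeries (Fin n) A)) := continuous_id
  have h := aeval_unique hid
  have h2 : T (0 : Fin n → A) InI.zero = aeval (HasEval.X.map hid) := by
    unfold T
    congr 1
    funext i
    simp
  rw [h2]
  exact DFunLike.congr_fun h F

lemma T_neg_T (c : Fin n → A) (hc : InI c) (F : MvPowerSeries (Fin n) A) :
    T (-c) hc.neg (T c hc F) = F := by
  rw [T_T, T_congr _ InI.zero (by simp), T_zero]

lemma T_T_neg (c : Fin n → A) (hc : InI c) (F : MvPowerSeries (Fin n) A) :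
    T c hc (T (-c) hc.neg F) = F := by
  rw [T_T, T_congr _ InI.zero (by simp), T_zero]

/-- translation as an automorphism -/
noncomputable def Te (c : Fin n → A) (hc : InI c) :
    MvPowerSeries (Fin n) A ≃ₐ[A] MvPowerSeries (Fin n) A :=
  AlgEquiv.ofAlgHom (T c hc) (T (-c) hc.neg)
    (AlgHom.ext fun F => T_T_neg c hc F) (AlgHom.ext fun F => T_neg_T c hc F)

lemma Te_apply (c : Fin n → A) (hc : InI c) (F : MvPowerSeries (Fin n) A) :
    Te c hc F = T c hc F := rfl

end Trans

end Groth.Agent.Lib.Helper8.Morse
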