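import Mathlib
import Groth.Agent.Lib.Helper8.Morse10
set_option backward.isDefEq.respectTransparency.types false
set_option autoImplicit false
set_option linter.unusedSectionVars false
set_option linter.style.haveILetI false

universe u

namespace Groth.Agent.Lib.Helper8.Morse

open MvPowerSeries
open scoped MvPowerSeries.WithPiTopology

section CoeffIdeal

variable {A : Type u} [CommRing A] {n : ℕ}

/-- power series all of whose coefficients lie in `J` -/
def coeffIdeal (J : Ideal A) : Ideal (MvPowerSeries (Fin n) A) where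
  carrier := {G | ∀ d, coeff d G ∈ J}
  add_mem' := fun {G H} hG hH d => by
    rw [map_add]; exact J.add_mem (hG d) (hH d)
  zero_mem' := fun d => by simp
  smul_mem' := fun c G hG d => by
    classical
    rw [smul_eq_mul, coeff_mul]
    exact J.sum_mem fun p _ => J.mul_mem_left _ (hG _)

lemma mem_coeffIdeal (J : Ideal A) (G : MvPowerSeries (Fin n) A) :
    G ∈ coeffIdeal J ↔ ∀ d, coeff d G ∈ J := Iff.rfl

lemma C_mem_coeffIdeal {J : Ideal A} {a : A} (h : a ∈ J) :
    (C a : MvPowerSeries (Fin n) A) ∈ coeffIdeal J := by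
  classical
  intro d
  rw [coeff_C]
  split_ifs
  · exact h
  · exact J.zero_mem

end CoeffIdeal

section Top

variable {A : Type u} [CommRing A] [WithIdeal A] [T2Space A] [CompleteSpace A] {n : ℕ}

lemma isClosed_coeffIdeal {J : Ideal A} (hJ : IsClosed (J : Set A)) :
    IsClosed ((coeffIdeal J : Ideal (MvPowerSeries (Fin n) A)) : Set (MvPowerSeries (Fin n) A)) := by
  have : ((coeffIdeal J : Ideal (MvPowerSeries (Fin n) A)) : Set (MvPowerSeries (Fin n) A)) =
      ⋂ d, (coeff d) ⁻¹' (J : Set A) := by
    ext G
    simp [mem_coeffIdeal]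
  rw [this]
  exact isClosed_iInter fun d => hJ.preimage (WithPiTopology.continuous_coeff A d)

lemma isClosed_pow (k : ℕ) : IsClosed (((WithIdeal.i : Ideal A) ^ k : Ideal A) : Set A) := by
  have hopen : IsOpen (((WithIdeal.i : Ideal A) ^ k : Ideal A) : Set A) := by
    have hmem : (((WithIdeal.i : Ideal A) ^ k : Ideal A) : Set A) ∈ nhds (0 : A) :=
      (Ideal.hasBasis_nhds_zero_adic (WithIdeal.i : Ideal A)).mem_of_mem (i := k) trivial
    exact AddSubgroup.isOpen_of_mem_nhds
      (Submodule.toAddSubgroup ((WithIdeal.i : Ideal A) ^ k)) hmem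
  exact AddSubgroup.isClosed_of_isOpen
    (Submodule.toAddSubgroup ((WithIdeal.i : Ideal A) ^ k)) hopen

/-- translation by a vector in `J` changes every coefficient by an element of `J` -/
theorem T_sub_mem {J : Ideal A} (hJ : IsClosed (J : Set A)) (δ : Fin n → A) (hδ : InI δ)
    (hδJ : ∀ i, δ i ∈ J) (G : MvPowerSeries (Fin n) A) :
    T δ hδ G - G ∈ coeffIdeal J := by
  refine DenseRange.induction_on (p := fun G => T δ hδ G - G ∈ coeffIdeal J)
    WithPiTopology.denseRange_toMvPowerSeries G ?_ ?_
  · have hc : Continuous (fun G : MvPowerSeries (Fin n) A => T δ hδ G - G) :=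
      (T_continuous δ hδ).sub continuous_id
    exact (isClosed_coeffIdeal hJ).preimage hc
  · intro p
    induction p using MvPolynomial.induction_on with
    | C a =>
      change T δ hδ ((MvPolynomial.C a : MvPolynomial (Fin n) A) : MvPowerSeries (Fin n) A) -
        ((MvPolynomial.C a : MvPolynomial (Fin n) A) : MvPowerSeries (Fin n) A) ∈ coeffIdeal J
      rw [MvPolynomial.coe_C, T_C, sub_self]
      exact Ideal.zero_mem _
    | add p q hp hq =>
      change T δ hδ ((p + q : MvPolynomial (Fin n) A) : MvPowerSeries (Fin n) A) -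
        ((p + q : MvPolynomial (Fin n) A) : MvPowerSeries (Fin n) A) ∈ coeffIdeal J
      rw [MvPolynomial.coe_add, map_add]
      have : T δ hδ (p : MvPowerSeries (Fin n) A) + T δ hδ (q : MvPowerSeries (Fin n) A) -
          ((p : MvPowerSeries (Fin n) A) + (q : MvPowerSeries (Fin n) A)) =
          (T δ hδ (p : MvPowerSeries (Fin n) A) - (p : MvPowerSeries (Fin n) A)) +
            (T δ hδ (q : MvPowerSeries (Fin n) A) - (q : MvPowerSeries (Fin n) A)) := by
        ring
      rw [this]
      exact Ideal.add_mem _ hp hq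
    | mul_X p i hp =>
      change T δ hδ ((p * MvPolynomial.X i : MvPolynomial (Fin n) A) : MvPowerSeries (Fin n) A) -
        ((p * MvPolynomial.X i : MvPolynomial (Fin n) A) : MvPowerSeries (Fin n) A) ∈ coeffIdeal J
      rw [MvPolynomial.coe_mul, MvPolynomial.coe_X, map_mul, T_X]
      have : T δ hδ (p : MvPowerSeries (Fin n) A) * (X i + C (δ i)) -
          (p : MvPowerSeries (Fin n) A) * X i =
          (T δ hδ (p : MvPowerSeries (Fin n) A) - (p : MvPowerSeries (Fin n) A)) * X i +
            T δ hδ (p : MvPowerSeries (Fin n) A) * C (δ i) := by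
        ring
      rw [this]
      exact Ideal.add_mem _ (Ideal.mul_mem_right _ _ hp)
        (Ideal.mul_mem_left _ _ (C_mem_coeffIdeal (hδJ i)))

end Top

end Groth.Agent.Lib.Helper8.Morse
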