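import Mathlib
import Groth.Agent.Lib.Helper8.Morse11
set_option backward.isDefEq.respectTransparency.types false
set_option autoImplicit false
set_option linter.unusedSectionVars false
set_option linter.style.haveILetI false

universe u

namespace Groth.Agent.Lib.Helper8.Morse

open MvPowerSeries

section Alg

variable {A : Type u} [CommRing A] {n : ℕ}

/-- the linear coefficient -/
noncomputable def c1 (m : Fin n) (G : MvPowerSeries (Fin n) A) : A :=
  coeff (Finsupp.single m 1) G

lemma c1_add (m : Fin n) (u v : MvPowerSeries (Fin n) A) : c1 m (u + v) = c1 m u + c1 m v :=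
  map_add _ _ _

lemma c1_sub (m : Fin n) (u v : MvPowerSeries (Fin n) A) : c1 m (u - v) = c1 m u - c1 m v :=
  map_sub _ _ _

lemma c1_sum {ι : Type*} (m : Fin n) (s : Finset ι) (u : ι → MvPowerSeries (Fin n) A) :
    c1 m (∑ i ∈ s, u i) = ∑ i ∈ s, c1 m (u i) :=
  map_sum _ _ _

lemma c1_C (m : Fin n) (a : A) : c1 m (C a : MvPowerSeries (Fin n) A) = 0 := by
  classical
  rw [c1, coeff_C, if_neg]
  intro h
  have := congrArg (fun f => f m) h
  simp at this

lemma c1_X (i m : Fin n) : c1 m (X i : MvPowerSeries (Fin n) A) = if i = m then 1 else 0 := by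
  classical
  rw [c1, coeff_X]
  by_cases h : i = m
  · subst h; simp
  · rw [if_neg h, if_neg]
    intro h2
    apply h
    exact (Finsupp.single_left_injective one_ne_zero h2).symm

lemma c1_of_ord2 (m : Fin n) {G : MvPowerSeries (Fin n) A} (h : Ord 2 G) : c1 m G = 0 :=
  h _ (by rw [degree_single_one]; norm_num)

lemma c1_mul (m : Fin n) (u v : MvPowerSeries (Fin n) A) :
    c1 m (u * v) = c1 m u * constantCoeff v + constantCoeff u * c1 m v := by
  have h1 : u = C (constantCoeff u) + (u - C (constantCoeff u)) := by ring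
  have hu' : Ord 1 (u - C (constantCoeff u)) := Ord_sub_C u
  have e1 : c1 m (C (constantCoeff u) * v) = constantCoeff u * c1 m v := by
    rw [c1, coeff_C_mul]; rfl
  have e2 : c1 m ((u - C (constantCoeff u)) * v) = constantCoeff v * c1 m u := by
    rw [mul_comm, c1, coeff_single_mul m v _ hu']
    change _ * c1 m (u - C (constantCoeff u)) = _
    rw [c1_sub, c1_C, sub_zero]
  conv_lhs => rw [h1, add_mul, c1_add, e1, e2]
  ring

lemma c1_mul3_mem (J : Ideal A) (m : Fin n) (u1 u2 u3 w : MvPowerSeries (Fin n) A)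
    (h1 : constantCoeff u1 ∈ J) (h2 : constantCoeff u2 ∈ J) (h3 : constantCoeff u3 ∈ J) :
    c1 m (u1 * u2 * u3 * w) ∈ J ^ 2 := by
  rw [pow_two]
  rw [c1_mul, c1_mul, c1_mul]
  simp only [map_mul]
  have h12 : constantCoeff u1 * constantCoeff u2 ∈ J * J := Ideal.mul_mem_mul h1 h2
  refine Ideal.add_mem _ (Ideal.mul_mem_right _ _ (Ideal.add_mem _ ?_ ?_)) ?_
  · -- (c1 u1 * c0 u2 + c0 u1 * c1 u2) * c0 u3
    rw [add_mul]
    refine Ideal.add_mem _ ?_ ?_
    · have : c1 m u1 * constantCoeff u2 * constantCoeff u3 =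
          c1 m u1 * (constantCoeff u2 * constantCoeff u3) := by ring
      rw [this]
      exact Ideal.mul_mem_left _ _ (Ideal.mul_mem_mul h2 h3)
    · have : constantCoeff u1 * c1 m u2 * constantCoeff u3 =
          c1 m u2 * (constantCoeff u1 * constantCoeff u3) := by ring
      rw [this]
      exact Ideal.mul_mem_left _ _ (Ideal.mul_mem_mul h1 h3)
  · exact Ideal.mul_mem_right _ _ h12
  · have : constantCoeff u1 * constantCoeff u2 * constantCoeff u3 * c1 m w =
        (constantCoeff u3 * c1 m w) * (constantCoeff u1 * constantCoeff u2) := by ring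
    rw [this]
    exact Ideal.mul_mem_left _ _ h12

lemma exists_cubic_decomp (R : MvPowerSeries (Fin n) A) (hR : Ord 3 R) :
    ∃ S : Fin n → Fin n → Fin n → MvPowerSeries (Fin n) A,
      R = ∑ i, ∑ j, ∑ l, X i * X j * X l * S i j l := by
  have h0 : constantCoeff R = 0 := (Ord_one_iff R).mp (hR.mono (by norm_num))
  have h1 : ∀ i, constantCoeff (rdiv i R) = 0 := fun i =>
    (Ord_one_iff _).mp ((Ord.rdiv (s := 2) hR i).mono (by norm_num))
  have h2 : ∀ i j, constantCoeff (rdiv j (rdiv i R)) = 0 := fun i j =>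
    (Ord_one_iff _).mp (Ord.rdiv (s := 1) (Ord.rdiv (s := 2) hR i) j)
  refine ⟨fun i j l => rdiv l (rdiv j (rdiv i R)), ?_⟩
  conv_lhs => rw [← sum_X_mul_rdiv R h0]
  refine Finset.sum_congr rfl fun i _ => ?_
  conv_lhs => rw [← sum_X_mul_rdiv (rdiv i R) (h1 i)]
  rw [Finset.mul_sum]
  refine Finset.sum_congr rfl fun j _ => ?_
  conv_lhs => rw [← sum_X_mul_rdiv (rdiv j (rdiv i R)) (h2 i j)]
  rw [Finset.mul_sum, Finset.mul_sum]
  refine Finset.sum_congr rfl fun l _ => ?_
  ring

/-- the Hessian entries -/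
noncomputable def Hs (G : MvPowerSeries (Fin n) A) (m j : Fin n) : A :=
  coeff (Finsupp.single j 1) (MvPowerSeries.pderiv A m G)

lemma Hs_decomp (p0 : A) (p : Fin n → A) (Q : Fin n → Fin n → A)
    (R : MvPowerSeries (Fin n) A) (hR : Ord 3 R) (m j : Fin n) :
    Hs (C p0 + ∑ i, C (p i) * X i + qq Q (fun a => X a) + R) m j = Q m j + Q j m := by
  classical
  unfold Hs
  rw [map_add, map_add, map_add, map_add, map_add, map_add, pderiv_C, map_zero, zero_add,
    coeff_single_pderiv_qq]
  have e1 : coeff (Finsupp.single j 1) (MvPowerSeries.pderiv A m (∑ i, C (p i) * X i)) = 0 := by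
    rw [map_sum, map_sum]
    apply Finset.sum_eq_zero
    intro i _
    rw [Derivation.leibniz, pderiv_C, smul_zero, add_zero, smul_eq_mul]
    by_cases h : i = m
    · subst h
      rw [pderiv_X_self, mul_one]
      exact c1_C j _
    · rw [pderiv_X_of_ne h, mul_zero, map_zero]
  have e2 : coeff (Finsupp.single j 1) (MvPowerSeries.pderiv A m R) = 0 :=
    c1_of_ord2 j (Ord.pderiv (s := 2) hR m)
  rw [e1, e2]; ring

lemma Hs_sub_mem (J : Ideal A) (G G' : MvPowerSeries (Fin n) A) (h : G - G' ∈ coeffIdeal J)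
    (m j : Fin n) : Hs G m j - Hs G' m j ∈ J := by
  unfold Hs
  rw [← map_sub, ← map_sub, coeff_pderiv]
  exact Ideal.mul_mem_right _ _ (h _)

end Alg

section Second

variable {A : Type u} [CommRing A] [WithIdeal A] [T2Space A] [CompleteSpace A] {n : ℕ}

theorem c1_T_mem (J : Ideal A) (δ : Fin n → A) (hδ : InI δ) (hδJ : ∀ i, δ i ∈ J)
    (p0 : A) (p : Fin n → A) (Q : Fin n → Fin n → A) (R : MvPowerSeries (Fin n) A)
    (hR : Ord 3 R) (m : Fin n) :
    c1 m (T δ hδ (C p0 + ∑ i, C (p i) * X i + qq Q (fun a => X a) + R)) -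
      (p m + ∑ j, (Q m j + Q j m) * δ j) ∈ J ^ 2 := by
  classical
  obtain ⟨S, hS⟩ := exists_cubic_decomp R hR
  have hc0 : ∀ i, constantCoeff ((X i : MvPowerSeries (Fin n) A) + C (δ i)) = δ i := by
    intro i; simp
  have hc1 : ∀ i, c1 m ((X i : MvPowerSeries (Fin n) A) + C (δ i)) = if i = m then 1 else 0 := by
    intro i; rw [c1_add, c1_C, add_zero, c1_X]
  have e0 : c1 m (T δ hδ (C p0)) = 0 := by rw [T_C, c1_C]
  have e1 : c1 m (T δ hδ (∑ i, C (p i) * X i)) = p m := by
    rw [map_sum, c1_sum]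
    simp only [map_mul, T_C, T_X, c1_mul, c1_C, zero_mul, zero_add, constantCoeff_C, hc1]
    simp
  have e2 : c1 m (T δ hδ (qq Q (fun a => X a))) = ∑ j, (Q m j + Q j m) * δ j := by
    unfold qq
    rw [map_sum, c1_sum]
    simp only [map_sum, c1_sum, map_mul, T_C, T_X, c1_mul, c1_C, zero_mul, zero_add,
      constantCoeff_C, hc1, hc0]
    have : ∀ a b : Fin n, (Q a b * (if a = m then 1 else 0) * δ b +
        Q a b * δ a * (if b = m then 1 else 0) : A) =
        (if a = m then Q a b * δ b else 0) + (if b = m then Q a b * δ a else 0) := by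
      intro a b
      split_ifs <;> ring
    simp only [this, Finset.sum_add_distrib]
    rw [Finset.sum_comm (f := fun a b => if b = m then Q a b * δ a else 0)]
    have hA : (∑ x, ∑ x_1, if x = m then Q x x_1 * δ x_1 else 0) = ∑ j, Q m j * δ j := by
      rw [Finset.sum_eq_single m]
      · simp
      · intro b _ hb; simp [hb]
      · simp
    have hB : (∑ y, ∑ x, if y = m then Q x y * δ x else 0) = ∑ j, Q j m * δ j := by
      rw [Finset.sum_eq_single m]
      · simp
      · intro b _ hb; simp [hb]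
      · simp
    rw [hA, hB, ← Finset.sum_add_distrib]
    refine Finset.sum_congr rfl fun j _ => ?_
    ring
  have e3 : c1 m (T δ hδ R) ∈ J ^ 2 := by
    rw [hS, map_sum, c1_sum]
    refine Ideal.sum_mem _ fun i _ => ?_
    rw [map_sum, c1_sum]
    refine Ideal.sum_mem _ fun j _ => ?_
    rw [map_sum, c1_sum]
    refine Ideal.sum_mem _ fun l _ => ?_
    rw [map_mul, map_mul, map_mul, T_X, T_X, T_X]
    exact c1_mul3_mem J m _ _ _ _ (by rw [hc0]; exact hδJ i) (by rw [hc0]; exact hδJ j)
      (by rw [hc0]; exact hδJ l)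
  rw [map_add, map_add, map_add, c1_add, c1_add, c1_add, e0, e1, e2]
  have : (0 + p m + ∑ j, (Q m j + Q j m) * δ j + c1 m (T δ hδ R)) -
      (p m + ∑ j, (Q m j + Q j m) * δ j) = c1 m (T δ hδ R) := by ring
  rw [this]
  exact e3

end Second

end Groth.Agent.Lib.Helper8.Morse
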