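import Mathlib
import Groth.Agent.Lib.Helper8.Morse12
set_option backward.isDefEq.respectTransparency.types false
set_option autoImplicit false
set_option linter.unusedSectionVars false
set_option linter.style.haveILetI false

universe u

namespace Groth.Agent.Lib.Helper8.Morse

section FP

variable {A : Type u} [CommRing A] (I : Ideal A) [IsAdicComplete I A] {n : ℕ}

lemma smodEq_iff (k : ℕ) (x y : A) :
    x ≡ y [SMOD (I ^ k • ⊤ : Submodule A A)] ↔ x - y ∈ I ^ k := by
  rw [SModEq.sub_mem, smul_eq_mul, Ideal.mul_top]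

/-- a contraction of `I^n` has a fixed point -/
theorem exists_fixed_adic (Ψ : (Fin n → A) → (Fin n → A))
    (h1 : ∀ c, (∀ i, c i ∈ I) → ∀ i, Ψ c i ∈ I)
    (h2 : ∀ k, 1 ≤ k → ∀ c c', (∀ i, c i ∈ I) → (∀ i, c' i ∈ I) →
      (∀ i, c i - c' i ∈ I ^ k) → ∀ i, Ψ c i - Ψ c' i ∈ I ^ (k + 1)) :
    ∃ c, (∀ i, c i ∈ I) ∧ Ψ c = c := by
  let seq : ℕ → (Fin n → A) := fun N => Nat.rec (0 : Fin n → A) (fun _ c => Ψ c) N
  have seq0 : seq 0 = 0 := rfl
  have seqS : ∀ N, seq (N + 1) = Ψ (seq N) := fun N => rfl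
  have hmem : ∀ N i, seq N i ∈ I := by
    intro N
    induction N with
    | zero => intro i; rw [seq0]; exact I.zero_mem
    | succ N ih => rw [seqS]; exact h1 _ ih
  have hstep : ∀ N i, seq (N + 1) i - seq N i ∈ I ^ (N + 1) := by
    intro N
    induction N with
    | zero =>
      intro i
      rw [seq0, Pi.zero_apply, sub_zero, zero_add, pow_one]
      exact hmem 1 i
    | succ N ih =>
      rw [seqS (N + 1)]
      conv => enter [i, 2, 2]; rw [seqS N]
      exact h2 (N + 1) (by omega) (seq (N + 1)) (seq N) (hmem (N + 1)) (hmem N) ih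
  have hcauchy : ∀ m N, m ≤ N → ∀ i, seq N i - seq m i ∈ I ^ (m + 1) := by
    intro m N hmN
    induction N, hmN using Nat.le_induction with
    | base => intro i; rw [sub_self]; exact Ideal.zero_mem _
    | succ N hmN ih =>
      intro i
      have : seq (N + 1) i - seq m i = (seq (N + 1) i - seq N i) + (seq N i - seq m i) := by ring
      rw [this]
      exact Ideal.add_mem _ (Ideal.pow_le_pow_right (by omega) (hstep N i)) (ih i)
  have hex : ∀ i, ∃ L : A, ∀ N, seq N i ≡ L [SMOD (I ^ N • ⊤ : Submodule A A)] := by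
    intro i
    apply IsPrecomplete.prec (inferInstance : IsPrecomplete I A)
    intro m N hmN
    rw [smodEq_iff]
    have := hcauchy m N hmN i
    have h3 : seq m i - seq N i = -(seq N i - seq m i) := by ring
    rw [h3]
    exact Ideal.neg_mem_iff _ |>.mpr (Ideal.pow_le_pow_right (by omega) this)
  choose L hL using hex
  have hL' : ∀ N i, seq N i - L i ∈ I ^ N := fun N i => (smodEq_iff I N _ _).mp (hL i N)
  have hLI : ∀ i, L i ∈ I := by
    intro i
    have h3 := hL' 1 i
    rw [pow_one] at h3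
    have : L i = seq 1 i - (seq 1 i - L i) := by ring
    rw [this]
    exact Ideal.sub_mem _ (hmem 1 i) h3
  refine ⟨L, hLI, ?_⟩
  funext i
  rw [← sub_eq_zero]
  apply IsHausdorff.haus (inferInstance : IsHausdorff I A)
  intro N
  rw [smodEq_iff, sub_zero]
  -- Ψ L - L = (Ψ L - Ψ (seq (N+1))) + (seq (N+2) - L)
  have e : Ψ L i - L i = (Ψ L i - Ψ (seq (N + 1)) i) + (seq (N + 2) i - L i) := by
    rw [seqS (N + 1)]; ring
  rw [e]
  refine Ideal.add_mem _ ?_ ?_
  · have := h2 (N + 1) (by omega) L (seq (N + 1)) hLI (hmem (N + 1)) (by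
      intro j
      have h3 : L j - seq (N + 1) j = -(seq (N + 1) j - L j) := by ring
      rw [h3]
      exact Ideal.neg_mem_iff _ |>.mpr (hL' (N + 1) j)) i
    exact Ideal.pow_le_pow_right (by omega) this
  · exact Ideal.pow_le_pow_right (by omega) (hL' (N + 2) i)

end FP


open MvPowerSeries

section Decomp

variable {A : Type u} [CommRing A] {n : ℕ}

/-- decomposition of a series without terms of degree `≤ 1`, with upper triangular table. -/
lemma exists_quad_decomp_up (f : MvPowerSeries (Fin n) A) (h0 : constantCoeff f = 0)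
    (h1 : ∀ j, coeff (Finsupp.single j 1) f = 0) :
    ∃ (Q : Fin n → Fin n → A) (g : MvPowerSeries (Fin n) A), Ord 3 g ∧
      f = qq Q (fun a => X a) + g ∧ ∀ j l, l < j → Q j l = 0 := by
  classical
  have hfj : ∀ j, constantCoeff (rdiv j f) = 0 := by
    intro j
    have : constantCoeff (rdiv j f) = coeff 0 (rdiv j f) := by simp
    rw [this, coeff_rdiv, if_pos (fun l _ => by simp), zero_add, h1]
  let Q : Fin n → Fin n → A := fun j l => constantCoeff (rdiv l (rdiv j f))
  let g : MvPowerSeries (Fin n) A :=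
    ∑ j, ∑ l, X j * X l * (rdiv l (rdiv j f) - C (Q j l))
  refine ⟨Q, g, ?_, ?_, ?_⟩
  · refine Ord.sum _ fun j _ => Ord.sum _ fun l _ => ?_
    exact ((Ord_X j).mul (Ord_X l)).mul (Ord_sub_C _)
  · have e1 : f = ∑ j, X j * rdiv j f := (sum_X_mul_rdiv f h0).symm
    have e2 : ∀ j, rdiv j f = ∑ l, X l * rdiv l (rdiv j f) :=
      fun j => (sum_X_mul_rdiv (rdiv j f) (hfj j)).symm
    conv_lhs => rw [e1]
    unfold qq
    simp only [g]
    rw [← Finset.sum_add_distrib]
    refine Finset.sum_congr rfl fun j _ => ?_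
    conv_lhs => rw [e2 j]
    rw [Finset.mul_sum, ← Finset.sum_add_distrib]
    refine Finset.sum_congr rfl fun l _ => ?_
    ring
  · intro j l hlj
    change constantCoeff (rdiv l (rdiv j f)) = 0
    have : constantCoeff (rdiv l (rdiv j f)) = coeff 0 (rdiv l (rdiv j f)) := by simp
    rw [this, coeff_rdiv, if_pos (fun l' _ => by simp), zero_add, coeff_rdiv, if_neg]
    intro hcon
    have := hcon l hlj
    simp at this

/-- general decomposition of a series into its 2-jet and a remainder -/
lemma exists_jet_decomp (G : MvPowerSeries (Fin n) A) :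
    ∃ (Q : Fin n → Fin n → A) (g : MvPowerSeries (Fin n) A), Ord 3 g ∧
      G = C (constantCoeff G) + ∑ i, C (c1 i G) * X i + qq Q (fun a => X a) + g ∧
      ∀ j l, l < j → Q j l = 0 := by
  classical
  set f := G - C (constantCoeff G) - ∑ i, C (c1 i G) * X i with hf
  have hlin : ∀ j, c1 j (∑ i, C (c1 i G) * X i) = c1 j G := by
    intro j
    rw [c1_sum]
    simp only [c1_mul, c1_C, zero_mul, zero_add, constantCoeff_C, c1_X]
    simp
  have h0 : constantCoeff f = 0 := by
    rw [hf, map_sub, map_sub, constantCoeff_C, sub_self, zero_sub, neg_eq_zero, map_sum]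
    apply Finset.sum_eq_zero
    intro i _
    simp
  have h1 : ∀ j, coeff (Finsupp.single j 1) f = 0 := by
    intro j
    change c1 j f = 0
    rw [hf, c1_sub, c1_sub, c1_C, hlin]; ring
  obtain ⟨Q, g, hg, hfg, hQ⟩ := exists_quad_decomp_up f h0 h1
  refine ⟨Q, g, hg, ?_, hQ⟩
  have : G = C (constantCoeff G) + ∑ i, C (c1 i G) * X i + f := by rw [hf]; ring
  rw [add_assoc, ← hfg]
  exact this

end Decomp

end Groth.Agent.Lib.Helper8.Morse
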