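import Mathlib
import Groth.Agent.Lib.Helper8.Morse13
set_option backward.isDefEq.respectTransparency.types false
set_option autoImplicit false
set_option linter.unusedSectionVars false
set_option linter.style.haveILetI false

universe u

namespace Groth.Agent.Lib.Helper8.Morse

open MvPowerSeries

section Newton

variable {A : Type u} [CommRing A] [WithIdeal A] [T2Space A] [CompleteSpace A]
  [IsAdicComplete (WithIdeal.i : Ideal A) A] {n : ℕ}

theorem exists_critical (F : MvPowerSeries (Fin n) A) (B : Matrix (Fin n) (Fin n) A)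
    (hB : IsUnit B.det)
    (H1 : ∀ m, c1 m F ∈ (WithIdeal.i : Ideal A))
    (H2 : ∀ m j, Hs F m j - B m j ∈ (WithIdeal.i : Ideal A)) :
    ∃ (c : Fin n → A) (hc : InI c), ∀ m, c1 m (T c hc F) = 0 := by
  classical
  set I := (WithIdeal.i : Ideal A) with hI
  have hIclosed : IsClosed (I : Set A) := by
    have := isClosed_pow (A := A) 1
    rwa [pow_one] at this
  let g : (c : Fin n → A) → InI c → Fin n → A := fun c hc m => c1 m (T c hc F)
  let Ψ : (Fin n → A) → (Fin n → A) := fun c =>
    if h : InI c then fun i => c i - ∑ m, B⁻¹ i m * g c h m else 0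
  have hg_mem : ∀ c hc m, g c hc m ∈ I := by
    intro c hc m
    have h := T_sub_mem hIclosed c hc hc F (Finsupp.single m 1)
    have e : g c hc m = c1 m (T c hc F - F) + c1 m F := by rw [c1_sub]; ring
    rw [e]
    exact Ideal.add_mem _ h (H1 m)
  have ha : ∀ c, (∀ i, c i ∈ I) → ∀ i, Ψ c i ∈ I := by
    intro c hc i
    have hc' : InI c := hc
    simp only [Ψ, dif_pos hc']
    exact Ideal.sub_mem _ (hc i) (Ideal.sum_mem _ fun m _ => Ideal.mul_mem_left _ _ (hg_mem c hc' m))
  have hb : ∀ k, 1 ≤ k → ∀ c c', (∀ i, c i ∈ I) → (∀ i, c' i ∈ I) →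
      (∀ i, c i - c' i ∈ I ^ k) → ∀ i, Ψ c i - Ψ c' i ∈ I ^ (k + 1) := by
    intro k hk c c' hc0 hc0' hcc' i
    have hc : InI c := hc0
    have hc' : InI c' := hc0'
    simp only [Ψ, dif_pos hc, dif_pos hc']
    set δ : Fin n → A := c - c' with hδdef
    have hδ : InI δ := fun j => Ideal.sub_mem _ (hc j) (hc' j)
    have hδk : ∀ j, δ j ∈ I ^ k := hcc'
    have hT : T c hc F = T δ hδ (T c' hc' F) := by
      rw [T_T]
      exact DFunLike.congr_fun (T_congr _ _ (by rw [hδdef]; simp)) F
    set G' := T c' hc' F with hG'def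
    obtain ⟨Q', g', hg', hG', -⟩ := exists_jet_decomp G'
    have hS : ∀ m, c1 m (T δ hδ G') - (c1 m G' + ∑ j, (Q' m j + Q' j m) * δ j) ∈ (I ^ k) ^ 2 := by
      intro m
      have := c1_T_mem (I ^ k) δ hδ hδk (constantCoeff G') (fun i => c1 i G') Q' g' hg' m
      rwa [← hG'] at this
    have hHs : ∀ m j, Hs G' m j = Q' m j + Q' j m := by
      intro m j
      conv_lhs => rw [hG']
      exact Hs_decomp _ _ _ _ hg' m j
    have hHsI : ∀ m j, Hs G' m j - B m j ∈ I := by
      intro m j
      have h1 := Hs_sub_mem I G' F (T_sub_mem hIclosed c' hc' hc' F) m j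
      have e : Hs G' m j - B m j = (Hs G' m j - Hs F m j) + (Hs F m j - B m j) := by ring
      rw [e]
      exact Ideal.add_mem _ h1 (H2 m j)
    have hpow : (I ^ k) ^ 2 ≤ I ^ (k + 1) := by
      rw [← pow_mul]
      exact Ideal.pow_le_pow_right (by nlinarith)
    have hε : ∀ m, g c hc m - g c' hc' m - ∑ j, B m j * δ j ∈ I ^ (k + 1) := by
      intro m
      have e : g c hc m - g c' hc' m - ∑ j, B m j * δ j =
          (c1 m (T δ hδ G') - (c1 m G' + ∑ j, (Q' m j + Q' j m) * δ j)) +
            ∑ j, (Hs G' m j - B m j) * δ j := by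
        simp only [g, hHs, sub_mul, Finset.sum_sub_distrib]
        rw [hT]
        ring
      rw [e]
      refine Ideal.add_mem _ (hpow (hS m)) (Ideal.sum_mem _ fun j _ => ?_)
      rw [pow_succ']
      exact Ideal.mul_mem_mul (hHsI m j) (hδk j)
    have hBB : B⁻¹.mulVec (B.mulVec δ) = δ := by
      rw [Matrix.mulVec_mulVec, Matrix.nonsing_inv_mul B hB, Matrix.one_mulVec]
    have hBBi : ∑ m, B⁻¹ i m * ∑ j, B m j * δ j = δ i := by
      have := congrFun hBB i
      simpa [Matrix.mulVec, dotProduct] using this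
    have e : c i - ∑ m, B⁻¹ i m * g c hc m - (c' i - ∑ m, B⁻¹ i m * g c' hc' m) =
        -∑ m, B⁻¹ i m * (g c hc m - g c' hc' m - ∑ j, B m j * δ j) := by
      have h1 : ∑ m, B⁻¹ i m * (g c hc m - g c' hc' m - ∑ j, B m j * δ j) =
          ∑ m, B⁻¹ i m * g c hc m - ∑ m, B⁻¹ i m * g c' hc' m -
            ∑ m, B⁻¹ i m * ∑ j, B m j * δ j := by
        simp only [mul_sub, Finset.sum_sub_distrib]
      rw [h1, hBBi, hδdef]
      simp only [Pi.sub_apply]
      ring
    rw [e]
    exact Ideal.neg_mem_iff _ |>.mpr (Ideal.sum_mem _ fun m _ => Ideal.mul_mem_left _ _ (hε m))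
  obtain ⟨c, hcI, hfix⟩ := exists_fixed_adic I Ψ ha hb
  have hc : InI c := hcI
  refine ⟨c, hc, ?_⟩
  have h0 : ∀ i, ∑ m, B⁻¹ i m * g c hc m = 0 := by
    intro i
    have := congrFun hfix i
    simp only [Ψ, dif_pos hc] at this
    exact sub_eq_self.mp this
  have hv : B⁻¹.mulVec (g c hc) = 0 := by
    funext i
    simpa [Matrix.mulVec, dotProduct] using h0 i
  have hg0 : g c hc = 0 := by
    have := congrArg B.mulVec hv
    rwa [Matrix.mulVec_mulVec, Matrix.mul_nonsing_inv B hB, Matrix.one_mulVec,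
      Matrix.mulVec_zero] at this
  intro m
  exact congrFun hg0 m

end Newton

end Groth.Agent.Lib.Helper8.Morse
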