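import Mathlib
import Groth.Agent.Lib.Helper8.Morse14
set_option backward.isDefEq.respectTransparency.types false
set_option autoImplicit false
set_option linter.unusedSectionVars false
set_option linter.style.haveILetI false

universe u

namespace Groth.Agent.Lib.Helper8.Morse

open MvPowerSeries

section Final

variable {A : Type u} [CommRing A] {n : ℕ}

lemma upQ_eq_self (Q : Fin n → Fin n → A) (hQ : ∀ j l, l < j → Q j l = 0) : upQ Q = Q := by
  funext i j
  unfold upQ
  split_ifs with h
  · rfl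
  · exact (hQ i j (not_le.mp h)).symm

lemma c1_lin (p : Fin n → A) (j : Fin n) :
    c1 j (∑ i, C (p i) * (X i : MvPowerSeries (Fin n) A)) = p j := by
  classical
  rw [c1_sum]
  simp only [c1_mul, c1_C, zero_mul, zero_add, constantCoeff_C, c1_X]
  simp

lemma constantCoeff_lin (p : Fin n → A) :
    constantCoeff (∑ i, C (p i) * (X i : MvPowerSeries (Fin n) A)) = 0 := by
  rw [map_sum]
  apply Finset.sum_eq_zero
  intro i _
  simp

lemma qqX_ord (Q : Fin n → Fin n → A) :
    Ord 2 (qq Q (fun a => (X a : MvPowerSeries (Fin n) A))) :=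
  qq_ord' (s := 1) Q (fun a => Ord_X a)

lemma coe_poly (q : Fin n → Fin n → A) (ℓ : Fin n → A) (a : A) :
    ((VanCyc.quadPoly q + ∑ i, MvPolynomial.C (ℓ i) * MvPolynomial.X i + MvPolynomial.C a :
      MvPolynomial (Fin n) A) : MvPowerSeries (Fin n) A) =
      C a + ∑ i, C (ℓ i) * X i + qq (upQ q) (fun i => X i) := by
  rw [MvPolynomial.coe_add, MvPolynomial.coe_add, coe_quadPoly, MvPolynomial.coe_C]
  have : ((∑ i, MvPolynomial.C (ℓ i) * MvPolynomial.X i : MvPolynomial (Fin n) A) :
      MvPowerSeries (Fin n) A) = ∑ i, C (ℓ i) * X i := by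
    rw [← MvPolynomial.coeToMvPowerSeries.ringHom_apply, map_sum]
    refine Finset.sum_congr rfl fun i _ => ?_
    rw [MvPolynomial.coeToMvPowerSeries.ringHom_apply]
    simp
  rw [this]
  ring

end Final

theorem main231
    (A : Type u) [CommRing A] [IsLocalRing A]
    [IsAdicComplete (IsLocalRing.maximalIdeal A) A] (n : ℕ)
    (q : Fin n → Fin n → A) (hq : VanCyc.QuadNondeg q)
    (a : A) (ha : a ∈ IsLocalRing.maximalIdeal A)
    (ℓ : Fin n → A) (hℓ : ∀ i, ℓ i ∈ IsLocalRing.maximalIdeal A)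
    (F : MvPowerSeries (Fin n) A)
    (hF : ∀ e : Fin n →₀ ℕ, e.degree ≤ 2 →
      MvPowerSeries.coeff e F = MvPowerSeries.coeff e ((VanCyc.quadPoly q + ∑ i, MvPolynomial.C (ℓ i) * MvPolynomial.X i + MvPolynomial.C a : MvPolynomial (Fin n) A) : MvPowerSeries (Fin n) A)) :
    ∃ (a' : A) (q' : Fin n → Fin n → A), a' ∈ IsLocalRing.maximalIdeal A ∧ VanCyc.QuadNondeg q' ∧
      Nonempty ((MvPowerSeries (Fin n) A ⧸ Ideal.span {F}) ≃ₐ[A]
        (MvPowerSeries (Fin n) A ⧸ Ideal.span {((VanCyc.quadPoly q' + MvPolynomial.C a' : MvPolynomial (Fin n) A) : MvPowerSeries (Fin n) A)})) := by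
  classical
  letI : WithIdeal A := ⟨IsLocalRing.maximalIdeal A⟩
  have h1 : CompleteSpace A ∧ T2Space A :=
    (IsAdic.isAdicComplete_iff (I := IsLocalRing.maximalIdeal A) rfl).mp inferInstance
  haveI := h1.1
  haveI := h1.2
  haveI : IsAdicComplete (WithIdeal.i : Ideal A) A :=
    (inferInstance : IsAdicComplete (IsLocalRing.maximalIdeal A) A)
  have hIeq : (WithIdeal.i : Ideal A) = IsLocalRing.maximalIdeal A := rfl
  have hIclosed : IsClosed ((WithIdeal.i : Ideal A) : Set A) := by
    have := isClosed_pow (A := A) 1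
    rwa [pow_one] at this
  rw [coe_poly] at hF
  set R := F - (C a + ∑ i, C (ℓ i) * X i + qq (upQ q) (fun i => X i)) with hRdef
  have hR : Ord 3 R := by
    intro e he
    rw [hRdef, map_sub, hF e (by omega), sub_self]
  have hFdec : F = C a + ∑ i, C (ℓ i) * X i + qq (upQ q) (fun i => X i) + R := by
    rw [hRdef]; ring
  have H1 : ∀ m, c1 m F ∈ (WithIdeal.i : Ideal A) := by
    intro m
    rw [hFdec, c1_add, c1_add, c1_add, c1_C, c1_lin, c1_of_ord2 m (qqX_ord _),
      c1_of_ord2 m (hR.mono (by norm_num))]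
    simp only [zero_add, add_zero]
    exact hℓ m
  have hHsF : ∀ m j, Hs F m j = VanCyc.polarMatrix q m j := by
    intro m j
    conv_lhs => rw [hFdec]
    rw [Hs_decomp _ _ _ _ hR, upQ_gram]
  have H2 : ∀ m j, Hs F m j - VanCyc.polarMatrix q m j ∈ (WithIdeal.i : Ideal A) := by
    intro m j
    rw [hHsF, sub_self]
    exact Ideal.zero_mem _
  obtain ⟨c, hc, hcrit⟩ := exists_critical F (VanCyc.polarMatrix q) hq H1 H2
  set G := T c hc F with hGdef
  have hGF : G - F ∈ coeffIdeal (WithIdeal.i : Ideal A) := T_sub_mem hIclosed c hc hc F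
  set a' := constantCoeff G with ha'def
  have hcF : constantCoeff F = a := by
    rw [hFdec, map_add, map_add, map_add, constantCoeff_C, constantCoeff_lin,
      (Ord_one_iff _).mp ((qqX_ord (upQ q)).mono (by norm_num)),
      (Ord_one_iff _).mp (hR.mono (by norm_num))]
    ring
  have ha' : a' ∈ IsLocalRing.maximalIdeal A := by
    have h0 := hGF 0
    rw [map_sub, coeff_zero_eq_constantCoeff_apply, coeff_zero_eq_constantCoeff_apply, hcF] at h0
    have : a' = (constantCoeff G - a) + a := by ring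
    rw [this]
    exact Ideal.add_mem _ h0 ha
  obtain ⟨Q', g', hg', hG', hQ'⟩ := exists_jet_decomp G
  have hup : upQ Q' = Q' := upQ_eq_self Q' hQ'
  have hHsG : ∀ m j, Hs G m j = Q' m j + Q' j m := by
    intro m j
    conv_lhs => rw [hG']
    exact Hs_decomp _ _ _ _ hg' m j
  have hpol : ∀ m j, VanCyc.polarMatrix Q' m j = Hs G m j := by
    intro m j
    rw [hHsG, ← upQ_gram, hup]
  have hdiff : ∀ m j, VanCyc.polarMatrix Q' m j - VanCyc.polarMatrix q m j ∈
      IsLocalRing.maximalIdeal A := by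
    intro m j
    rw [hpol, ← hHsF]
    exact Hs_sub_mem _ G F hGF m j
  have hq' : VanCyc.QuadNondeg Q' := by
    unfold VanCyc.QuadNondeg
    have hmap : (Ideal.Quotient.mk (IsLocalRing.maximalIdeal A)).mapMatrix (VanCyc.polarMatrix Q') =
        (Ideal.Quotient.mk (IsLocalRing.maximalIdeal A)).mapMatrix (VanCyc.polarMatrix q) := by
      ext m j
      simp only [RingHom.mapMatrix_apply, Matrix.map_apply]
      exact Ideal.Quotient.eq.mpr (hdiff m j)
    have hdet : (VanCyc.polarMatrix Q').det - (VanCyc.polarMatrix q).det ∈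
        IsLocalRing.maximalIdeal A := by
      rw [← Ideal.Quotient.eq, RingHom.map_det, RingHom.map_det, hmap]
    by_contra hnu
    have hmem : (VanCyc.polarMatrix Q').det ∈ IsLocalRing.maximalIdeal A :=
      (IsLocalRing.mem_maximalIdeal _).mpr hnu
    have hqmem : (VanCyc.polarMatrix q).det ∈ IsLocalRing.maximalIdeal A := by
      have : (VanCyc.polarMatrix q).det = (VanCyc.polarMatrix Q').det -
          ((VanCyc.polarMatrix Q').det - (VanCyc.polarMatrix q).det) := by ring
      rw [this]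
      exact Ideal.sub_mem _ hmem hdet
    exact (IsLocalRing.mem_maximalIdeal _).mp hqmem hq
  have hGcoeff : ∀ e : Fin n →₀ ℕ, e.degree ≤ 2 →
      MvPowerSeries.coeff e G = MvPowerSeries.coeff e
        ((VanCyc.quadPoly Q' + MvPolynomial.C a' : MvPolynomial (Fin n) A) :
          MvPowerSeries (Fin n) A) := by
    intro e he
    have hcoe : ((VanCyc.quadPoly Q' + MvPolynomial.C a' : MvPolynomial (Fin n) A) :
        MvPowerSeries (Fin n) A) = qq Q' (fun i => X i) + C a' := by
      rw [MvPolynomial.coe_add, coe_quadPoly, MvPolynomial.coe_C, hup]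
    have hlin0 : ∑ i, C (c1 i G) * (X i : MvPowerSeries (Fin n) A) = 0 := by
      apply Finset.sum_eq_zero
      intro i _
      rw [hcrit i, map_zero, zero_mul]
    have hG2 : G = qq Q' (fun i => X i) + C a' + g' := by
      conv_lhs => rw [hG', hlin0]
      ring
    rw [hcoe]
    conv_lhs => rw [hG2]
    rw [map_add, hg' e (by omega), add_zero]
  obtain ⟨h, -, -, -, ⟨e2⟩⟩ := main_subst 2 le_rfl Q' hq' a' G hGcoeff
  have e1 : (MvPowerSeries (Fin n) A ⧸ Ideal.span {F}) ≃ₐ[A]
      (MvPowerSeries (Fin n) A ⧸ Ideal.span {G}) := by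
    refine Ideal.quotientEquivAlg _ _ (Te c hc) ?_
    rw [Ideal.map_span, Set.image_singleton]
    rfl
  exact ⟨a', Q', ha', hq', ⟨e1.trans e2⟩⟩

end Groth.Agent.Lib.Helper8.Morse
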