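import Mathlib
import Groth.Agent.Lib.Helper8.Morse4

set_option backward.isDefEq.respectTransparency.types false
set_option autoImplicit false
set_option linter.unusedSectionVars false
set_option linter.style.haveILetI false

namespace Groth.Agent.Lib.Helper8.Morse

open MvPowerSeries

variable {k : Type*} [Field k] {n : ℕ}

lemma mem_maximalIdeal_iff (u : MvPowerSeries (Fin n) k) :
    u ∈ IsLocalRing.maximalIdeal (MvPowerSeries (Fin n) k) ↔ constantCoeff u = 0 := by
  rw [IsLocalRing.mem_maximalIdeal, mem_nonunits_iff, MvPowerSeries.isUnit_iff_constantCoeff,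
    isUnit_iff_ne_zero, not_not]

/-- the polynomial with coefficient table `Q`. -/
noncomputable def qpoly (Q : Fin n → Fin n → k) : MvPolynomial (Fin n) k :=
  ∑ a, ∑ b, MvPolynomial.C (Q a b) * MvPolynomial.X a * MvPolynomial.X b

lemma qpoly_isHomogeneous (Q : Fin n → Fin n → k) : (qpoly Q).IsHomogeneous 2 := by
  unfold qpoly
  refine MvPolynomial.IsHomogeneous.sum _ _ _ fun a _ => MvPolynomial.IsHomogeneous.sum _ _ _
    fun b _ => ?_
  have := ((MvPolynomial.isHomogeneous_C (Fin n) (Q a b)).mul
    (MvPolynomial.isHomogeneous_X k a)).mul (MvPolynomial.isHomogeneous_X k b)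
  simpa using this

lemma aeval_qpoly (Q : Fin n → Fin n → k) (v : Fin n → MvPowerSeries (Fin n) k) :
    MvPolynomial.aeval v (qpoly Q) = qq Q v := by
  unfold qpoly qq
  simp only [map_sum, map_mul, MvPolynomial.aeval_C, MvPolynomial.aeval_X]
  rfl

theorem main (f : MvPowerSeries (Fin n) k)
    (hf0 : MvPowerSeries.constantCoeff f = 0)
    (hJ : Ideal.span (Set.range fun i : Fin n => MvPowerSeries.pderiv k i f) =
      IsLocalRing.maximalIdeal (MvPowerSeries (Fin n) k)) :
    ∃ (ε : Fin n → MvPowerSeries (Fin n) k)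
      (_ : ∀ i (m : Fin n →₀ ℕ), m.degree < 2 → MvPowerSeries.coeff m (ε i) = 0)
      (q : MvPolynomial (Fin n) k) (_ : q.IsHomogeneous 2)
      (_ : MvPowerSeries.HasSubst (fun i : Fin n => MvPowerSeries.X i + ε i)),
      f = MvPowerSeries.subst (fun i : Fin n => MvPowerSeries.X i + ε i)
        (q : MvPowerSeries (Fin n) k) := by
  classical
  -- partial derivatives have no constant term
  have hd0 : ∀ i, constantCoeff (MvPowerSeries.pderiv k i f) = 0 := by
    intro i
    rw [← mem_maximalIdeal_iff, ← hJ]
    exact Ideal.subset_span ⟨i, rfl⟩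
  have h1 : ∀ j, coeff (Finsupp.single j 1) f = 0 := by
    intro j
    have := hd0 j
    rw [← coeff_zero_eq_constantCoeff_apply, coeff_pderiv] at this
    simpa using this
  obtain ⟨Q, g, hg, hfg⟩ := exists_quad_decomp f hf0 h1
  -- linear coefficients of the partial derivatives
  have hlin : ∀ i l, coeff (Finsupp.single l 1) (MvPowerSeries.pderiv k i f) = Q i l + Q l i := by
    intro i l
    rw [hfg, map_add, map_add, coeff_single_pderiv_qq,
      (Ord.pderiv hg i) _ (by rw [degree_single_one]; norm_num), add_zero]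
  -- the left inverse of the Gram matrix
  have hX : ∀ j : Fin n, ∃ r : Fin n → MvPowerSeries (Fin n) k,
      ∑ i, r i * MvPowerSeries.pderiv k i f = X j := by
    intro j
    have : (X j : MvPowerSeries (Fin n) k) ∈
        Ideal.span (Set.range fun i : Fin n => MvPowerSeries.pderiv k i f) := by
      rw [hJ, mem_maximalIdeal_iff]
      simp
    exact (Ideal.mem_span_range_iff_exists_fun).1 this
  choose r hr using hX
  let c : Fin n → Fin n → k := fun j i => constantCoeff (r j i)
  have hc : ∀ j l, ∑ i, c j i * (Q i l + Q l i) = if j = l then 1 else 0 := by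
    intro j l
    have := congrArg (coeff (Finsupp.single l 1)) (hr j)
    rw [map_sum, coeff_index_single_X] at this
    have h2 : (if j = l then (1 : k) else 0) = if l = j then 1 else 0 := by
      simp only [eq_comm]
    rw [h2, ← this]
    refine Finset.sum_congr rfl fun i _ => ?_
    rw [coeff_single_mul l (r j i) _ ((Ord_one_iff _).2 (hd0 i)), hlin]
  obtain ⟨ε, hε, hmain⟩ := morse_core Q c hc g hg
  have hsub : MvPowerSeries.HasSubst (fun i : Fin n => MvPowerSeries.X i + ε i) := by
    apply hasSubst_of_constantCoeff_zero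
    intro i
    rw [map_add, (Ord_one_iff _).1 ((hε i).mono (by norm_num)), add_zero]
    simp
  refine ⟨ε, hε, qpoly Q, qpoly_isHomogeneous Q, hsub, ?_⟩
  rw [subst_coe, aeval_qpoly, hmain, ← hfg]

end Groth.Agent.Lib.Helper8.Morse
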