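import Mathlib
import Groth.Agent.Lib.Helper25.JacobianCrit

set_option backward.isDefEq.respectTransparency.types false
set_option synthInstance.maxHeartbeats 400000
set_option autoImplicit false
set_option linter.unusedSectionVars false
set_option linter.style.haveILetI false

universe u
open TensorProduct IsLocalRing KaehlerDifferential

namespace Groth.Agent.Lib.Helper8.NB1

variable {R P : Type u} [CommRing R] [IsLocalRing R] [CommRing P] [IsLocalRing P] [Algebra R P]
    [IsLocalHom (algebraMap R P)]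

/-- If the residue field of the local `R`-algebra `P` is formally smooth over the residue field of
`R` (whose maximal ideal is `(π)`), then an element `x ∈ 𝔪_P` whose differential vanishes in the
fibre `κ(P) ⊗ Ω_{P/R}` lies in `𝔪_P² + πP`. -/
theorem key (π : R) (hπ : maximalIdeal R = Ideal.span {π})
    [Algebra.FormallySmooth (ResidueField R) (ResidueField P)]
    (x : P) (hx : x ∈ maximalIdeal P)
    (h0 : (1 : ResidueField P) ⊗ₜ[P] D R P x = 0) :
    x ∈ maximalIdeal P ^ 2 ⊔ Ideal.span {algebraMap R P π} := by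
  obtain ⟨𝔫, h𝔫⟩ : ∃ 𝔫 : Ideal P, 𝔫 = maximalIdeal P ^ 2 ⊔ Ideal.span {algebraMap R P π} :=
    ⟨_, rfl⟩
  rw [← h𝔫]
  have hπm : algebraMap R P π ∈ maximalIdeal P := by
    rw [mem_maximalIdeal, mem_nonunits_iff]
    intro hu
    have h1 : IsUnit π := isUnit_of_map_unit (algebraMap R P) π hu
    have h2 : π ∈ maximalIdeal R := by rw [hπ]; exact Ideal.mem_span_singleton_self π
    exact (mem_maximalIdeal π).mp h2 h1
  have h𝔫m : 𝔫 ≤ maximalIdeal P := by
    rw [h𝔫]
    refine sup_le (Ideal.pow_le_self two_ne_zero) ?_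
    rw [Ideal.span_le, Set.singleton_subset_iff]
    exact hπm
  have hcomap : maximalIdeal R ≤ Ideal.comap (algebraMap R P) 𝔫 := by
    rw [hπ, Ideal.span_le, Set.singleton_subset_iff]
    change algebraMap R P π ∈ 𝔫
    rw [h𝔫]
    exact Ideal.mem_sup_right (Ideal.mem_span_singleton_self _)
  letI algκE : Algebra (ResidueField R) (P ⧸ 𝔫) :=
    Ideal.Quotient.algebraQuotientOfLEComap hcomap
  -- the quotient map `P ⧸ 𝔫 → κ(P)`
  let g₀ : (P ⧸ 𝔫) →+* ResidueField P := Ideal.Quotient.factor h𝔫m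
  have hg₀ : ∀ p : P, g₀ (Ideal.Quotient.mk 𝔫 p) = residue P p := fun p => rfl
  have hκE : ∀ r : R, algebraMap (ResidueField R) (P ⧸ 𝔫) (residue R r) =
      Ideal.Quotient.mk 𝔫 (algebraMap R P r) := fun r => rfl
  let g : (P ⧸ 𝔫) →ₐ[ResidueField R] ResidueField P :=
    { g₀ with
      commutes' := by
        intro k
        obtain ⟨r, rfl⟩ := residue_surjective k
        change g₀ (algebraMap (ResidueField R) (P ⧸ 𝔫) (residue R r)) = _
        rw [hκE, hg₀]
        rfl }
  have hg : ∀ p : P, g (Ideal.Quotient.mk 𝔫 p) = residue P p := fun p => rfl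
  have hgsurj : Function.Surjective g := by
    intro k
    obtain ⟨p, rfl⟩ := residue_surjective k
    exact ⟨Ideal.Quotient.mk 𝔫 p, rfl⟩
  have hker : ∀ e : P ⧸ 𝔫, g e = 0 → ∃ p ∈ maximalIdeal P, Ideal.Quotient.mk 𝔫 p = e := by
    intro e he
    obtain ⟨p, rfl⟩ := Ideal.Quotient.mk_surjective e
    rw [hg, residue_eq_zero_iff] at he
    exact ⟨p, he, rfl⟩
  have hsq : ∀ e₁ e₂ : P ⧸ 𝔫, g e₁ = 0 → g e₂ = 0 → e₁ * e₂ = 0 := by
    intro e₁ e₂ h1 h2
    obtain ⟨p₁, hp₁, rfl⟩ := hker e₁ h1
    obtain ⟨p₂, hp₂, rfl⟩ := hker e₂ h2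
    rw [← map_mul, Ideal.Quotient.eq_zero_iff_mem, h𝔫]
    refine Ideal.mem_sup_left ?_
    rw [pow_two]
    exact Ideal.mul_mem_mul hp₁ hp₂
  have hnil : IsNilpotent (RingHom.ker (g : (P ⧸ 𝔫) →+* ResidueField P)) := by
    refine ⟨2, ?_⟩
    rw [Ideal.zero_eq_bot, eq_bot_iff, pow_two, Ideal.mul_le]
    intro e₁ h1 e₂ h2
    rw [Ideal.mem_bot]
    exact hsq e₁ e₂ (RingHom.mem_ker.mp h1) (RingHom.mem_ker.mp h2)
  -- the section
  let s : ResidueField P →ₐ[ResidueField R] (P ⧸ 𝔫) :=
    Algebra.FormallySmooth.liftOfSurjective (AlgHom.id _ _) g hgsurj hnil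
  have hs : ∀ k, g (s k) = k := fun k =>
    Algebra.FormallySmooth.liftOfSurjective_apply (AlgHom.id _ _) g hgsurj hnil k
  have hsR : ∀ (r : R) (k : ResidueField P), s (r • k) = r • s k := by
    intro r k
    have e1 : r • k = (residue R r) • k := by
      rw [Algebra.smul_def, Algebra.smul_def]
      rfl
    have e2 : r • s k = (residue R r) • s k := by
      rw [Algebra.smul_def, Algebra.smul_def]
      rfl
    rw [e1, e2, map_smul]
  -- the derivation
  let δL : P →ₗ[R] (P ⧸ 𝔫) :=
    { toFun := fun p => Ideal.Quotient.mk 𝔫 p - s (residue P p)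
      map_add' := fun p q => by
        simp only [map_add]
        ring
      map_smul' := fun r p => by
        simp only [RingHom.id_apply]
        have e1 : Ideal.Quotient.mk 𝔫 (r • p) = r • Ideal.Quotient.mk 𝔫 p := rfl
        have e2 : residue P (r • p) = r • residue P p := rfl
        rw [e1, e2, hsR, smul_sub] }
  have hδ : ∀ p, δL p = Ideal.Quotient.mk 𝔫 p - s (residue P p) := fun p => rfl
  have hδker : ∀ p, g (δL p) = 0 := by
    intro p
    rw [hδ, map_sub, hs, hg, sub_self]
  have hsmul : ∀ (p : P) (e : P ⧸ 𝔫), p • e = Ideal.Quotient.mk 𝔫 p * e := fun p e => rfl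
  let δ : Derivation R P (P ⧸ 𝔫) := Derivation.mk' δL (by
    intro a b
    have h1 := hsq (δL a) (δL b) (hδker a) (hδker b)
    rw [hδ, hδ] at h1
    rw [hδ, hδ, hδ, hsmul, hsmul, map_mul, map_mul, map_mul]
    linear_combination (-1 : P ⧸ 𝔫) * h1)
  have hδapp : ∀ p, δ p = Ideal.Quotient.mk 𝔫 p - s (residue P p) := fun p => rfl
  -- the induced map on differentials
  have hrange : ∀ ω : Ω[P⁄R], g (δ.liftKaehlerDifferential ω) = 0 := by
    intro ω
    have hω : ω ∈ Submodule.span P (Set.range (D R P)) := by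
      rw [span_range_derivation]; trivial
    induction hω using Submodule.span_induction with
    | mem y hy =>
      obtain ⟨p, rfl⟩ := hy
      rw [Derivation.liftKaehlerDifferential_comp_D]
      exact hδker p
    | zero => simp
    | add y z _ _ hy hz => rw [map_add, map_add, hy, hz, add_zero]
    | smul a y _ hy =>
      rw [map_smul, hsmul, map_mul, hy, mul_zero]
  have hDx : D R P x ∈ maximalIdeal P • (⊤ : Submodule P Ω[P⁄R]) :=
    (Groth.Agent.Lib.Helper25.JacobianCrit.one_tmul_eq_zero_iff (D R P x)).mp h0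
  have hzero : ∀ ω ∈ maximalIdeal P • (⊤ : Submodule P Ω[P⁄R]),
      δ.liftKaehlerDifferential ω = 0 := by
    intro ω hω
    induction hω using Submodule.smul_induction_on' with
    | smul m hm y _ =>
      rw [map_smul, hsmul]
      refine hsq _ _ ?_ (hrange y)
      rw [hg, residue_eq_zero_iff]
      exact hm
    | add y _ z _ hy hz => rw [map_add, hy, hz, add_zero]
  have h1 := hzero _ hDx
  rw [Derivation.liftKaehlerDifferential_comp_D, hδapp, (residue_eq_zero_iff x).mpr hx, map_zero,
    sub_zero] at h1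
  exact Ideal.Quotient.eq_zero_iff_mem.mp h1

end Groth.Agent.Lib.Helper8.NB1
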