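import Mathlib

set_option backward.isDefEq.respectTransparency.types false
set_option autoImplicit false
set_option linter.unusedSectionVars false
set_option linter.style.haveILetI false

namespace Groth.Agent.Lib.Helper8.SQ2

universe u

open IsLocalRing TensorProduct

section fields

variable {K F : Type u} [Field K] [Field F] [Algebra K F] {W : Type u} [AddCommGroup W] [Module K W]

theorem linearIndependent_of_tmul {ι : Type*} (w : ι → W)
    (h : LinearIndependent F (fun i => (1 : F) ⊗ₜ[K] w i)) : LinearIndependent K w := by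
  have h1 : LinearIndependent K (fun i => (1 : F) ⊗ₜ[K] w i) :=
    h.restrict_scalars' K
  exact LinearIndependent.of_comp (TensorProduct.mk K F W 1) h1

theorem mem_span_of_tmul_mem_span {ι : Type*} (w : ι → W) (w₀ : W)
    (h : (1 : F) ⊗ₜ[K] w₀ ∈ Submodule.span F (Set.range fun i => (1 : F) ⊗ₜ[K] w i)) :
    w₀ ∈ Submodule.span K (Set.range w) := by
  set U := Submodule.span K (Set.range w) with hU
  by_contra hw
  have h1 : U.mkQ w₀ ≠ 0 := by
    intro h0
    exact hw ((Submodule.Quotient.mk_eq_zero U).mp h0)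
  have hinj : Function.Injective (TensorProduct.mk K F (W ⧸ U) 1) :=
    Module.Flat.tensorProduct_mk_injective K (W ⧸ U) F
  have h2 : (1 : F) ⊗ₜ[K] U.mkQ w₀ ≠ 0 := by
    intro h0
    apply h1
    apply hinj
    rw [map_zero]
    exact h0
  apply h2
  have h3 : Submodule.span F (Set.range fun i => (1 : F) ⊗ₜ[K] w i) ≤
      LinearMap.ker (U.mkQ.baseChange F) := by
    rw [Submodule.span_le]
    rintro _ ⟨i, rfl⟩
    rw [SetLike.mem_coe, LinearMap.mem_ker, LinearMap.baseChange_tmul]
    have : U.mkQ (w i) = 0 :=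
      (Submodule.Quotient.mk_eq_zero U).mpr (Submodule.subset_span ⟨i, rfl⟩)
    rw [this, tmul_zero]
  have h4 := h3 h
  rw [LinearMap.mem_ker, LinearMap.baseChange_tmul] at h4
  exact h4

end fields

section prime

variable {B : Type u} [CommRing B] (𝔓 : Ideal B) [𝔓.IsPrime] (F : Type u) [Field F] [Algebra B F]
  (hker : RingHom.ker (algebraMap B F) = 𝔓) {N : Type u} [AddCommGroup N] [Module B N]

include hker in
theorem units_of_ker : 𝔓.primeCompl ≤ (IsUnit.submonoid F).comap (algebraMap B F) := by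
  intro b hb
  rw [Submonoid.mem_comap]
  change IsUnit (algebraMap B F b)
  rw [isUnit_iff_ne_zero]
  intro h0
  apply hb
  rw [← hker]
  exact h0

/-- the algebra structure `κ(𝔓) → F` -/
@[instance_reducible]
noncomputable def algResidue : Algebra 𝔓.ResidueField F :=
  (Ideal.ResidueField.lift 𝔓 (algebraMap B F) (le_of_eq hker.symm)
    (units_of_ker 𝔓 F hker)).toAlgebra

theorem isScalarTower_residue :
    letI := algResidue 𝔓 F hker
    IsScalarTower B 𝔓.ResidueField F := by
  letI := algResidue 𝔓 F hker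
  refine IsScalarTower.of_algebraMap_eq (fun b => ?_)
  exact (Ideal.ResidueField.lift_algebraMap 𝔓 (algebraMap B F) (le_of_eq hker.symm)
    (units_of_ker 𝔓 F hker) b).symm

include hker in
theorem linearIndependent_residue {ι : Type*} (ω : ι → N)
    (h : LinearIndependent F (fun i => (1 : F) ⊗ₜ[B] ω i)) :
    LinearIndependent 𝔓.ResidueField (fun i => (1 : 𝔓.ResidueField) ⊗ₜ[B] ω i) := by
  letI := algResidue 𝔓 F hker
  haveI := isScalarTower_residue 𝔓 F hker
  apply linearIndependent_of_tmul (F := F)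
  let cancel := AlgebraTensorModule.cancelBaseChange B 𝔓.ResidueField F F N
  have h1 := h.map' cancel.symm.toLinearMap (LinearEquiv.ker _)
  have e1 : (fun i => (1 : F) ⊗ₜ[𝔓.ResidueField] ((1 : 𝔓.ResidueField) ⊗ₜ[B] ω i)) =
      (⇑cancel.symm.toLinearMap ∘ fun i => (1 : F) ⊗ₜ[B] ω i) := by
    ext i
    simp only [Function.comp_apply, LinearEquiv.coe_coe]
    rw [LinearEquiv.eq_symm_apply]
    simp [cancel]
  rw [e1]
  exact h1

include hker in
theorem mem_span_residue {ι : Type*} (ω : ι → N) (ω₀ : N)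
    (h : (1 : F) ⊗ₜ[B] ω₀ ∈ Submodule.span F (Set.range fun i => (1 : F) ⊗ₜ[B] ω i)) :
    (1 : 𝔓.ResidueField) ⊗ₜ[B] ω₀ ∈
      Submodule.span 𝔓.ResidueField (Set.range fun i => (1 : 𝔓.ResidueField) ⊗ₜ[B] ω i) := by
  letI := algResidue 𝔓 F hker
  haveI := isScalarTower_residue 𝔓 F hker
  apply mem_span_of_tmul_mem_span (F := F)
  let cancel := AlgebraTensorModule.cancelBaseChange B 𝔓.ResidueField F F N
  have h1 := Submodule.mem_map_of_mem (f := cancel.symm.toLinearMap) h
  rw [Submodule.map_span, ← Set.range_comp] at h1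
  have e1 : ∀ n : N, cancel.symm ((1 : F) ⊗ₜ[B] n) =
      (1 : F) ⊗ₜ[𝔓.ResidueField] ((1 : 𝔓.ResidueField) ⊗ₜ[B] n) := by
    intro n
    rw [LinearEquiv.symm_apply_eq]
    simp [cancel]
  have e2 : (⇑cancel.symm.toLinearMap ∘ fun i => (1 : F) ⊗ₜ[B] ω i) =
      fun i => (1 : F) ⊗ₜ[𝔓.ResidueField] ((1 : 𝔓.ResidueField) ⊗ₜ[B] ω i) := by
    ext i
    exact e1 (ω i)
  rw [e2] at h1
  have e3 : cancel.symm.toLinearMap ((1 : F) ⊗ₜ[B] ω₀) =
      (1 : F) ⊗ₜ[𝔓.ResidueField] ((1 : 𝔓.ResidueField) ⊗ₜ[B] ω₀) := e1 ω₀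
  rw [e3] at h1
  exact h1

end prime

end Groth.Agent.Lib.Helper8.SQ2
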