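import Mathlib
import Groth.Agent.Lib.Helper8.NB1
import Groth.Agent.Lib.Helper8.SQ2
import Groth.Agent.Lib.Helper25.JacobianCrit2

set_option backward.isDefEq.respectTransparency.types false
set_option synthInstance.maxHeartbeats 400000
set_option autoImplicit false
set_option linter.unusedSectionVars false
set_option linter.style.haveILetI false

universe u
open TensorProduct IsLocalRing KaehlerDifferential

namespace Groth.Agent.Lib.Helper8.NB2

open Groth.Agent.Lib.Helper25.JacobianCrit

variable {R A : Type u} [CommRing R] [IsLocalRing R] [CommRing A] [Algebra R A]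
  [Algebra.EssFiniteType R A] [IsNoetherianRing A]
  (𝔭 : Ideal A) [𝔭.IsPrime]
  [IsLocalHom (algebraMap R (Localization.AtPrime 𝔭))]
  (π : R) (hπ : maximalIdeal R = Ideal.span {π})
  [Algebra.FormallySmooth (ResidueField R) (ResidueField (Localization.AtPrime 𝔭))]
  (F : Type u) [Field F] [Algebra A F] (hker : RingHom.ker (algebraMap A F) = 𝔭)

include hπ hker in
theorem exists_parameters :
    ∃ (c : ℕ) (f : Fin c → A), (∀ i, f i ∈ 𝔭) ∧
      LinearIndependent F (fun i => (1 : F) ⊗ₜ[A] D R A (f i)) ∧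
      ∀ x ∈ 𝔭, ∃ g ∈ 𝔭.primeCompl,
        g * x ∈ Ideal.span (insert (algebraMap R A π) (Set.range f)) := by
  classical
  let φ : A → F ⊗[A] Ω[A⁄R] := fun x => (1 : F) ⊗ₜ[A] D R A x
  obtain ⟨b, hbT, hspan, hli⟩ := exists_linearIndependent F (φ '' (𝔭 : Set A))
  have hfin : b.Finite := hli.setFinite
  haveI : Finite b := hfin
  let e := (Finite.equivFin b).symm
  have hmem : ∀ i, ∃ a ∈ (𝔭 : Set A), φ a = (e i : F ⊗[A] Ω[A⁄R]) := fun i => hbT (e i).2
  choose f hf𝔭 hf using hmem
  have hcomp : φ ∘ f = Subtype.val ∘ e := funext hf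
  have hli' : LinearIndependent F (φ ∘ f) := by
    rw [hcomp]; exact hli.comp _ e.injective
  have hspan' : Submodule.span F (Set.range (φ ∘ f)) = Submodule.span F (φ '' (𝔭 : Set A)) := by
    rw [hcomp, Set.range_comp, e.surjective.range_eq, Set.image_univ, Subtype.range_coe, hspan]
  refine ⟨_, f, hf𝔭, hli', ?_⟩
  -- the local ring
  obtain ⟨N, hN⟩ : ∃ N : Ideal (Localization.AtPrime 𝔭), N = Ideal.span
      (insert (algebraMap R (Localization.AtPrime 𝔭) π)
        (Set.range fun i => algebraMap A (Localization.AtPrime 𝔭) (f i))) := ⟨_, rfl⟩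
  have hfm : ∀ i, algebraMap A (Localization.AtPrime 𝔭) (f i) ∈
      maximalIdeal (Localization.AtPrime 𝔭) := fun i =>
    (IsLocalization.AtPrime.to_map_mem_maximal_iff (Localization.AtPrime 𝔭) 𝔭 (f i)).mpr (hf𝔭 i)
  have e1 : ∀ (p : Localization.AtPrime 𝔭) (w : Ω[Localization.AtPrime 𝔭⁄R]),
      (1 : ResidueField (Localization.AtPrime 𝔭)) ⊗ₜ[Localization.AtPrime 𝔭] (p • w) =
      residue (Localization.AtPrime 𝔭) p •
        ((1 : ResidueField (Localization.AtPrime 𝔭)) ⊗ₜ[Localization.AtPrime 𝔭] w) := by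
    intro p w
    rw [← TensorProduct.smul_tmul, TensorProduct.smul_tmul', Algebra.smul_def, _root_.mul_one,
      smul_eq_mul, _root_.mul_one]
    rfl
  have hstep : ∀ x ∈ 𝔭, algebraMap A (Localization.AtPrime 𝔭) x ∈
      N ⊔ maximalIdeal (Localization.AtPrime 𝔭) • maximalIdeal (Localization.AtPrime 𝔭) := by
    intro x hx
    have h1 : φ x ∈ Submodule.span F (Set.range (φ ∘ f)) := by
      rw [hspan']
      exact Submodule.subset_span ⟨x, hx, rfl⟩
    have h2 := SQ2.mem_span_residue 𝔭 F hker (fun i => D R A (f i)) (D R A x) h1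
    have h3 := Submodule.mem_map_of_mem (f := (fibreEquiv R 𝔭).symm.toLinearMap) h2
    rw [Submodule.map_span, ← Set.range_comp] at h3
    have e2 : (⇑(fibreEquiv R 𝔭).symm.toLinearMap ∘
        fun i => (1 : 𝔭.ResidueField) ⊗ₜ[A] D R A (f i)) =
        fun i => (1 : 𝔭.ResidueField) ⊗ₜ[Localization.AtPrime 𝔭]
          D R (Localization.AtPrime 𝔭) (algebraMap A (Localization.AtPrime 𝔭) (f i)) := by
      ext i
      simp only [Function.comp_apply, LinearEquiv.coe_coe]
      rw [fibreEquiv_symm_one_tmul_D]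
    rw [e2, LinearEquiv.coe_coe, fibreEquiv_symm_one_tmul_D] at h3
    obtain ⟨lam, hlam⟩ := (Submodule.mem_span_range_iff_exists_fun _).mp h3
    have hlift : ∀ i, ∃ a : Localization.AtPrime 𝔭, residue _ a = lam i := fun i =>
      residue_surjective (lam i)
    choose a ha using hlift
    -- the corrected element
    have hx'm : algebraMap A (Localization.AtPrime 𝔭) x -
        ∑ i, a i * algebraMap A (Localization.AtPrime 𝔭) (f i) ∈
        maximalIdeal (Localization.AtPrime 𝔭) := by
      refine Ideal.sub_mem _ ?_ (Ideal.sum_mem _ fun i _ => Ideal.mul_mem_left _ _ (hfm i))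
      exact (IsLocalization.AtPrime.to_map_mem_maximal_iff (Localization.AtPrime 𝔭) 𝔭 x).mpr hx
    have hx'0 : (1 : ResidueField (Localization.AtPrime 𝔭)) ⊗ₜ[Localization.AtPrime 𝔭]
        D R (Localization.AtPrime 𝔭) (algebraMap A (Localization.AtPrime 𝔭) x -
        ∑ i, a i * algebraMap A (Localization.AtPrime 𝔭) (f i)) = 0 := by
      rw [map_sub, map_sum, TensorProduct.tmul_sub, TensorProduct.tmul_sum, ← hlam, sub_eq_zero]
      refine Finset.sum_congr rfl fun i _ => ?_
      rw [Derivation.leibniz, TensorProduct.tmul_add, e1, e1,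
        (residue_eq_zero_iff _).mpr (hfm i), zero_smul, add_zero, ha]
    have hkey := NB1.key π hπ _ hx'm hx'0
    have hsum : ∑ i, a i * algebraMap A (Localization.AtPrime 𝔭) (f i) ∈ N := by
      refine Ideal.sum_mem _ fun i _ => Ideal.mul_mem_left _ _ ?_
      rw [hN]
      exact Ideal.subset_span (Set.mem_insert_of_mem _ ⟨i, rfl⟩)
    have hπN : Ideal.span {algebraMap R (Localization.AtPrime 𝔭) π} ≤ N := by
      rw [hN]
      exact Ideal.span_mono (Set.singleton_subset_iff.mpr (Set.mem_insert _ _))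
    have hkey' : algebraMap A (Localization.AtPrime 𝔭) x -
        ∑ i, a i * algebraMap A (Localization.AtPrime 𝔭) (f i) ∈
        N ⊔ maximalIdeal (Localization.AtPrime 𝔭) • maximalIdeal (Localization.AtPrime 𝔭) := by
      rw [smul_eq_mul, ← pow_two]
      rcases Submodule.mem_sup.mp hkey with ⟨u, hu, v, hv, huv⟩
      rw [← huv, add_comm]
      exact Submodule.add_mem_sup (hπN hv) hu
    have := Ideal.add_mem _ hkey' (Ideal.mem_sup_left hsum)
    rwa [sub_add_cancel] at this
  have hle : maximalIdeal (Localization.AtPrime 𝔭) ≤ N := by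
    refine Submodule.le_of_le_smul_of_le_jacobson_bot (IsNoetherian.noetherian _)
      (IsLocalRing.maximalIdeal_le_jacobson _) ?_
    rw [← Localization.AtPrime.map_eq_maximalIdeal, Ideal.map_le_iff_le_comap]
    intro x hx
    rw [Ideal.mem_comap]
    have := hstep x hx
    rwa [Localization.AtPrime.map_eq_maximalIdeal]
  have hNmap : N = (Ideal.span (insert (algebraMap R A π) (Set.range f))).map
      (algebraMap A (Localization.AtPrime 𝔭)) := by
    rw [hN, Ideal.map_span, Set.image_insert_eq, ← Set.range_comp,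
      ← IsScalarTower.algebraMap_apply]
    rfl
  intro x hx
  have h1 : algebraMap A (Localization.AtPrime 𝔭) x ∈ N :=
    hle ((IsLocalization.AtPrime.to_map_mem_maximal_iff (Localization.AtPrime 𝔭) 𝔭 x).mpr hx)
  rw [hNmap] at h1
  obtain ⟨g, hg, hgx⟩ := (IsLocalization.algebraMap_mem_map_algebraMap_iff 𝔭.primeCompl
    (Localization.AtPrime 𝔭) _ x).mp h1
  exact ⟨g, hg, hgx⟩

end Groth.Agent.Lib.Helper8.NB2
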