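import Mathlib
import Groth.Agent.Lib.Helper25.JacobianCrit

set_option backward.isDefEq.respectTransparency.types false
set_option synthInstance.maxHeartbeats 400000
set_option autoImplicit false
set_option linter.unusedSectionVars false
set_option linter.style.haveILetI false

universe u
open TensorProduct IsLocalRing

namespace Groth.Agent.Lib.Helper8.NB3

open Groth.Agent.Lib.Helper25.JacobianCrit

/-- A finite module over a local domain whose special fibre has dimension at most that of the
generic fibre is free. -/
theorem free_of_finrank_le {Λ : Type u} [CommRing Λ] [IsDomain Λ] [IsLocalRing Λ] {T : Type u}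
    [AddCommGroup T] [Module Λ T] [Module.Finite Λ T]
    (h : Module.finrank (ResidueField Λ) (ResidueField Λ ⊗[Λ] T) ≤
      Module.finrank (FractionRing Λ) (FractionRing Λ ⊗[Λ] T)) : Module.Free Λ T := by
  classical
  let w := Module.finBasis (ResidueField Λ) (ResidueField Λ ⊗[Λ] T)
  have hlift : ∀ i, ∃ v : T, w i = (1 : ResidueField Λ) ⊗ₜ[Λ] v := fun i => exists_one_tmul (w i)
  choose v hv using hlift
  have hspan : Submodule.span Λ (Set.range v) = ⊤ :=
    IsLocalRing.span_eq_top_of_tmul_eq_basis v w (fun i => (hv i).symm)
  -- generic fibre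
  have hspanL : ∀ z : FractionRing Λ ⊗[Λ] T, z ∈ Submodule.span (FractionRing Λ)
      (Set.range fun i => (1 : FractionRing Λ) ⊗ₜ[Λ] v i) := by
    intro z
    induction z using TensorProduct.induction_on with
    | zero => exact zero_mem _
    | add x y hx hy => exact add_mem hx hy
    | tmul l t =>
      have ht : t ∈ Submodule.span Λ (Set.range v) := by rw [hspan]; trivial
      induction ht using Submodule.span_induction generalizing l with
      | mem y hy =>
        obtain ⟨i, rfl⟩ := hy
        have : l ⊗ₜ[Λ] v i = l • ((1 : FractionRing Λ) ⊗ₜ[Λ] v i) := by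
          rw [TensorProduct.smul_tmul', smul_eq_mul, mul_one]
        rw [this]
        exact Submodule.smul_mem _ _ (Submodule.subset_span ⟨i, rfl⟩)
      | zero => rw [TensorProduct.tmul_zero]; exact zero_mem _
      | add y z _ _ hy hz => rw [TensorProduct.tmul_add]; exact add_mem (hy l) (hz l)
      | smul a y _ hy =>
        rw [TensorProduct.tmul_smul, TensorProduct.smul_tmul']
        exact hy _
  have htop : ⊤ ≤ Submodule.span (FractionRing Λ)
      (Set.range fun i => (1 : FractionRing Λ) ⊗ₜ[Λ] v i) := fun z _ => hspanL z
  have hcard : Fintype.card (Fin (Module.finrank (ResidueField Λ) (ResidueField Λ ⊗[Λ] T))) =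
      Module.finrank (FractionRing Λ) (FractionRing Λ ⊗[Λ] T) := by
    rw [Fintype.card_fin]
    refine le_antisymm h ?_
    have h1 := finrank_span_le_card (R := FractionRing Λ)
      (Set.range fun i => (1 : FractionRing Λ) ⊗ₜ[Λ] v i)
    rw [top_le_iff.mp htop, finrank_top] at h1
    refine h1.trans ?_
    rw [Set.toFinset_range]
    refine (Finset.card_image_le).trans ?_
    rw [Finset.card_univ, Fintype.card_fin]
  have hliL : LinearIndependent (FractionRing Λ)
      (fun i => (1 : FractionRing Λ) ⊗ₜ[Λ] v i) :=
    linearIndependent_of_top_le_span_of_card_eq_finrank htop hcard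
  have hli : LinearIndependent Λ v := by
    rw [Fintype.linearIndependent_iff]
    intro a ha i
    have h1 := congrArg (TensorProduct.mk Λ (FractionRing Λ) T 1) ha
    rw [map_sum, map_zero] at h1
    have h2 : ∑ j, algebraMap Λ (FractionRing Λ) (a j) • ((1 : FractionRing Λ) ⊗ₜ[Λ] v j) = 0 := by
      rw [← h1]
      refine Finset.sum_congr rfl fun j _ => ?_
      rw [map_smul, TensorProduct.mk_apply, algebraMap_smul]
    have h3 := Fintype.linearIndependent_iff.mp hliL _ h2 i
    exact (map_eq_zero_iff _ (IsFractionRing.injective Λ (FractionRing Λ))).mp h3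
  exact Module.Free.of_basis (Module.Basis.mk hli hspan.ge)

end Groth.Agent.Lib.Helper8.NB3
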