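import Mathlib

set_option backward.isDefEq.respectTransparency.types false
set_option autoImplicit false
set_option linter.unusedSectionVars false
set_option linter.style.haveILetI false

namespace Groth.Agent.Lib.Helper8.SQ1

universe u

open IsLocalRing TensorProduct

/-- Over a local ring, if the quotient of a finite free module `T` by the span of a family `v`
is free, then a finite subfamily is a basis of the span and stays linearly independent in the
residue fibre of `T`. -/
theorem choose {Λ : Type u} [CommRing Λ] [IsLocalRing Λ] {T : Type u} [AddCommGroup T] [Module Λ T]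
    [Module.Finite Λ T] [Module.Free Λ T] {ι : Type u} (v : ι → T)
    (hfree : Module.Free Λ (T ⧸ Submodule.span Λ (Set.range v))) :
    ∃ (c : ℕ) (a : Fin c → ι),
      Submodule.span Λ (Set.range (v ∘ a)) = Submodule.span Λ (Set.range v) ∧
      LinearIndependent (ResidueField Λ)
        (fun i => (1 : ResidueField Λ) ⊗ₜ[Λ] v (a i)) := by
  classical
  set M := Submodule.span Λ (Set.range v) with hM
  -- a section of the quotient map
  obtain ⟨s, hs⟩ := Module.projective_lifting_property M.mkQ LinearMap.id
    (Submodule.mkQ_surjective M)
  -- the projection onto `M`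
  have hqmem : ∀ t : T, t - s (M.mkQ t) ∈ M := by
    intro t
    rw [← Submodule.Quotient.mk_eq_zero, Submodule.Quotient.mk_sub]
    have := LinearMap.congr_fun hs (M.mkQ t)
    simp only [LinearMap.comp_apply, LinearMap.id_apply] at this
    change M.mkQ t - M.mkQ (s (M.mkQ t)) = 0
    rw [this, sub_self]
  let q : T →ₗ[Λ] M :=
    { toFun := fun t => ⟨t - s (M.mkQ t), hqmem t⟩
      map_add' := fun x y => by
        ext
        simp only [map_add, Submodule.coe_add]
        abel
      map_smul' := fun r x => by
        ext
        simp only [map_smul, RingHom.id_apply, Submodule.coe_smul, smul_sub] }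
  have hqi : q ∘ₗ M.subtype = LinearMap.id := by
    ext ⟨m, hm⟩
    simp only [LinearMap.comp_apply, Submodule.subtype_apply, LinearMap.id_apply, q,
      LinearMap.coe_mk, AddHom.coe_mk]
    have : M.mkQ m = 0 := (Submodule.Quotient.mk_eq_zero M).mpr hm
    rw [this, map_zero, sub_zero]
  haveI : Module.Projective Λ M := Module.Projective.of_split M.subtype q hqi
  haveI : Module.Finite Λ M := Module.Finite.of_surjective q (fun m => ⟨m, by
    have := LinearMap.congr_fun hqi m
    simpa using this⟩)
  haveI : Module.FinitePresentation Λ M := Module.finitePresentation_of_projective Λ M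
  -- the family in `M`
  let v' : ι → M := fun i => ⟨v i, Submodule.subset_span ⟨i, rfl⟩⟩
  have hv' : Submodule.span Λ (Set.range v') = ⊤ := by
    rw [eq_top_iff]
    rintro ⟨m, hm⟩ -
    have h1 : Submodule.map M.subtype (Submodule.span Λ (Set.range v')) = M := by
      rw [Submodule.map_span, ← Set.range_comp]
      rfl
    have h2 : m ∈ Submodule.map M.subtype (Submodule.span Λ (Set.range v')) := by
      rw [h1]; exact hm
    obtain ⟨m', hm', hmm⟩ := h2
    have : m' = ⟨m, hm⟩ := Subtype.ext hmm
    rw [← this]
    exact hm'
  obtain ⟨κ, a, b, hb⟩ := Module.exists_basis_of_span_of_flat v' hv'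
  haveI : Finite κ := Module.Finite.finite_basis b
  haveI : Fintype κ := Fintype.ofFinite κ
  let e : Fin (Fintype.card κ) ≃ κ := (Fintype.equivFin κ).symm
  refine ⟨Fintype.card κ, a ∘ e, ?_, ?_⟩
  · -- span
    have h1 : Submodule.span Λ (Set.range b) = ⊤ := b.span_eq
    have h2 : Submodule.map M.subtype (Submodule.span Λ (Set.range b)) = M := by
      rw [h1, Submodule.map_top, Submodule.range_subtype]
    rw [Submodule.map_span, ← Set.range_comp] at h2
    rw [← h2]
    congr 1
    ext t
    constructor
    · rintro ⟨i, rfl⟩
      refine ⟨e i, ?_⟩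
      simp only [Function.comp_apply, hb]
      rfl
    · rintro ⟨k, rfl⟩
      refine ⟨e.symm k, ?_⟩
      simp only [Function.comp_apply, hb, Equiv.apply_symm_apply]
      rfl
  · -- independence
    have hinj : Function.Injective (LinearMap.lTensor (ResidueField Λ) M.subtype) := by
      have h3 : (LinearMap.lTensor (ResidueField Λ) q) ∘ₗ
          (LinearMap.lTensor (ResidueField Λ) M.subtype) = LinearMap.id := by
        rw [← LinearMap.lTensor_comp, hqi, LinearMap.lTensor_id]
      exact Function.LeftInverse.injective (g := LinearMap.lTensor (ResidueField Λ) q)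
        (fun x => LinearMap.congr_fun h3 x)
    have hli := (Algebra.TensorProduct.basis (ResidueField Λ) b).linearIndependent
    have hli2 : LinearIndependent (ResidueField Λ)
        (fun k : κ => (1 : ResidueField Λ) ⊗ₜ[Λ] (b k : M)) := by
      convert hli using 1
      ext k
      simp
    have hinj' : Function.Injective (M.subtype.baseChange (ResidueField Λ)) := by
      intro x y hxy
      apply hinj
      rw [← LinearMap.baseChange_eq_ltensor]
      exact hxy
    have hli3 := hli2.map' (M.subtype.baseChange (ResidueField Λ)) (LinearMap.ker_eq_bot.mpr hinj')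
    have hli4 := hli3.comp e e.injective
    have hfam : (fun i => (1 : ResidueField Λ) ⊗ₜ[Λ] v ((a ∘ e) i)) =
        ((⇑(LinearMap.baseChange (ResidueField Λ) M.subtype) ∘ fun k => 1 ⊗ₜ[Λ] b k) ∘ ⇑e) := by
      ext i
      simp only [Function.comp_apply, LinearMap.baseChange_tmul, Submodule.subtype_apply, hb]
      rfl
    rw [hfam]
    exact hli4

end Groth.Agent.Lib.Helper8.SQ1
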