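import Mathlib
import Groth.Agent.Lib.Helper8.SQ2
import Groth.Agent.Lib.Helper25.JacobianCrit2

set_option backward.isDefEq.respectTransparency.types false
set_option autoImplicit false
set_option linter.unusedSectionVars false
set_option linter.style.haveILetI false

namespace Groth.Agent.Lib.Helper8.SQ3

universe u

open IsLocalRing TensorProduct KaehlerDifferential

section kernel

variable {B A : Type u} [CommRing B] [CommRing A] (f : B →+* A) (hf : Function.Surjective f)
  (𝔭 : Ideal A) [𝔭.IsPrime]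

include hf in
theorem ker_localRingHom :
    RingHom.ker (Localization.localRingHom (𝔭.comap f) 𝔭 f rfl) =
      (RingHom.ker f).map (algebraMap B (Localization.AtPrime (𝔭.comap f))) := by
  apply le_antisymm
  · intro y hy
    rw [RingHom.mem_ker] at hy
    obtain ⟨b, s, rfl⟩ := IsLocalization.exists_mk'_eq (𝔭.comap f).primeCompl y
    rw [Localization.localRingHom_mk', IsLocalization.mk'_eq_zero_iff] at hy
    obtain ⟨t, ht⟩ := hy
    obtain ⟨t', ht'⟩ := hf t
    have ht'mem : t' ∈ (𝔭.comap f).primeCompl := by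
      intro h
      apply t.2
      rw [← ht']
      exact h
    have hker : t' * b ∈ RingHom.ker f := by
      rw [RingHom.mem_ker, map_mul, ht']
      exact ht
    rw [IsLocalization.mem_map_algebraMap_iff (𝔭.comap f).primeCompl]
    refine ⟨(⟨t' * b, hker⟩, ⟨t', ht'mem⟩ * s), ?_⟩
    simp only [Submonoid.coe_mul, map_mul]
    rw [mul_comm (algebraMap B _ t') (algebraMap B _ (s : B)), ← mul_assoc,
      IsLocalization.mk'_spec]
    ring
  · rw [Ideal.map_le_iff_le_comap]
    intro b hb
    rw [Ideal.mem_comap, RingHom.mem_ker, Localization.localRingHom_to_map,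
      RingHom.mem_ker.mp hb, map_zero]

end kernel

section equiv

variable {R B A : Type u} [CommRing R] [CommRing B] [CommRing A] [Algebra R B] [Algebra R A]
  (f : B →+* A) (hf : Function.Surjective f)
  (hfR : ∀ r : R, f (algebraMap R B r) = algebraMap R A r)
  (𝔭 : Ideal A) [𝔭.IsPrime]

/-- `B_𝔓 / I B_𝔓 ≃ A_𝔭` for a surjection `B → A` with kernel `I`. -/
noncomputable def locQuotEquiv :
    (Localization.AtPrime (𝔭.comap f) ⧸
      (RingHom.ker f).map (algebraMap B (Localization.AtPrime (𝔭.comap f)))) ≃ₐ[R]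
      Localization.AtPrime 𝔭 :=
  AlgEquiv.ofRingEquiv
    (f := (Ideal.quotEquivOfEq (ker_localRingHom f hf 𝔭).symm).trans
      (RingHom.quotientKerEquivOfSurjective
        (RingHom.surjective_localRingHom_of_surjective f hf 𝔭)))
    (fun r => by
      rw [IsScalarTower.algebraMap_apply R (Localization.AtPrime (𝔭.comap f)) (_ ⧸ _),
        IsScalarTower.algebraMap_apply R B (Localization.AtPrime (𝔭.comap f)),
        IsScalarTower.algebraMap_apply R A (Localization.AtPrime 𝔭), ← hfR]
      change Localization.localRingHom (𝔭.comap f) 𝔭 f rfl (algebraMap B _ (algebraMap R B r)) = _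
      rw [Localization.localRingHom_to_map])

include hf hfR in
theorem formallySmooth_iff :
    Algebra.FormallySmooth R (Localization.AtPrime 𝔭) ↔
      Algebra.FormallySmooth R (Localization.AtPrime (𝔭.comap f) ⧸
        (RingHom.ker f).map (algebraMap B (Localization.AtPrime (𝔭.comap f)))) :=
  (Algebra.FormallySmooth.iff_of_equiv (locQuotEquiv f hf hfR 𝔭)).symm

end equiv

section generic

open Groth.Agent.Lib.Helper25.JacobianCrit

variable {R B : Type u} [CommRing R] [CommRing B] [Algebra R B] [Algebra.EssFiniteType R B]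
  (𝔔 : Ideal B) [𝔔.IsPrime] [Algebra.IsSmoothAt R 𝔔]

theorem one_tmul_D_smul (q : Localization.AtPrime 𝔔) (b : B) (hb : b ∈ 𝔔) :
    (1 : ResidueField (Localization.AtPrime 𝔔)) ⊗ₜ[Localization.AtPrime 𝔔]
      D R (Localization.AtPrime 𝔔) (q * algebraMap B (Localization.AtPrime 𝔔) b) =
    residue (Localization.AtPrime 𝔔) q •
      ((1 : ResidueField (Localization.AtPrime 𝔔)) ⊗ₜ[Localization.AtPrime 𝔔]
        D R (Localization.AtPrime 𝔔) (algebraMap B (Localization.AtPrime 𝔔) b)) := by
  have e1 : ∀ (p : Localization.AtPrime 𝔔) (w : Ω[Localization.AtPrime 𝔔⁄R]),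
      (1 : ResidueField (Localization.AtPrime 𝔔)) ⊗ₜ[Localization.AtPrime 𝔔] (p • w) =
      residue (Localization.AtPrime 𝔔) p •
        ((1 : ResidueField (Localization.AtPrime 𝔔)) ⊗ₜ[Localization.AtPrime 𝔔] w) := by
    intro p w
    rw [← TensorProduct.smul_tmul, TensorProduct.smul_tmul', Algebra.smul_def, _root_.mul_one,
      smul_eq_mul, _root_.mul_one]
    rfl
  have hres : residue (Localization.AtPrime 𝔔) (algebraMap B (Localization.AtPrime 𝔔) b) = 0 := by
    rw [residue_eq_zero_iff]
    exact (IsLocalization.AtPrime.to_map_mem_maximal_iff (Localization.AtPrime 𝔔) 𝔔 b).mpr hb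
  rw [Derivation.leibniz, TensorProduct.tmul_add, e1, e1, hres, zero_smul, add_zero]

theorem map_eq_of_formallySmooth (I : Ideal B) (hI : I.FG) (hI𝔔 : I ≤ 𝔔)
    (hsm : Algebra.FormallySmooth R
      (Localization.AtPrime 𝔔 ⧸ I.map (algebraMap B (Localization.AtPrime 𝔔))))
    (L : Type u) [Field L] [Algebra B L] (hker : RingHom.ker (algebraMap B L) = 𝔔)
    {c : ℕ} (fs : Fin c → B) (hfs : ∀ i, fs i ∈ I)
    (hspan : ∀ y ∈ I, (1 : L) ⊗ₜ[B] D R B y ∈
      Submodule.span L (Set.range fun i => (1 : L) ⊗ₜ[B] D R B (fs i))) :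
    I.map (algebraMap B (Localization.AtPrime 𝔔)) =
      (Ideal.span (Set.range fs)).map (algebraMap B (Localization.AtPrime 𝔔)) := by
  classical
  obtain ⟨hfree, hfin⟩ := free_finite_kaehler_localization (R := R) 𝔔
  haveI : Algebra.FormallySmooth R (Localization.AtPrime 𝔔) := ‹Algebra.IsSmoothAt R 𝔔›
  have hFG : (I.map (algebraMap B (Localization.AtPrime 𝔔))).FG := hI.map _
  have hle : I.map (algebraMap B (Localization.AtPrime 𝔔)) ≤
      maximalIdeal (Localization.AtPrime 𝔔) := by
    rw [← IsLocalization.AtPrime.map_eq_maximalIdeal 𝔔 (Localization.AtPrime 𝔔)]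
    exact Ideal.map_mono hI𝔔
  have crit := (formallySmooth_quotient_iff (R := R) _ hFG hle).mp hsm
  apply le_antisymm
  · refine Submodule.le_of_le_smul_of_le_jacobson_bot
      (I := maximalIdeal (Localization.AtPrime 𝔔)) hFG (IsLocalRing.maximalIdeal_le_jacobson _) ?_
    rw [Ideal.map_le_iff_le_comap]
    intro y hy
    rw [Ideal.mem_comap]
    have h1 := SQ2.mem_span_residue 𝔔 L hker (fun i => D R B (fs i)) (D R B y) (hspan y hy)
    obtain ⟨k, hk⟩ := (Submodule.mem_span_range_iff_exists_fun _).mp h1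
    choose q hq using fun i => residue_surjective (R := Localization.AtPrime 𝔔) (k i)
    set x : Localization.AtPrime 𝔔 := algebraMap B (Localization.AtPrime 𝔔) y -
      ∑ i, q i * algebraMap B (Localization.AtPrime 𝔔) (fs i) with hx
    have hxI : x ∈ I.map (algebraMap B (Localization.AtPrime 𝔔)) := by
      refine Ideal.sub_mem _ (Ideal.mem_map_of_mem _ hy) (Ideal.sum_mem _ fun i _ => ?_)
      exact Ideal.mul_mem_left _ _ (Ideal.mem_map_of_mem _ (hfs i))
    have hdx : (1 : ResidueField (Localization.AtPrime 𝔔)) ⊗ₜ[Localization.AtPrime 𝔔]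
        D R (Localization.AtPrime 𝔔) x = 0 := by
      apply (fibreEquiv R 𝔔).injective
      rw [map_zero, hx, map_sub, TensorProduct.tmul_sub, map_sub, fibreEquiv_one_tmul_D,
        map_sum, TensorProduct.tmul_sum, map_sum]
      have : ∀ i, (fibreEquiv R 𝔔) ((1 : ResidueField (Localization.AtPrime 𝔔))
          ⊗ₜ[Localization.AtPrime 𝔔] D R (Localization.AtPrime 𝔔)
            (q i * algebraMap B (Localization.AtPrime 𝔔) (fs i))) =
          k i • ((1 : 𝔔.ResidueField) ⊗ₜ[B] D R B (fs i)) := by
        intro i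
        rw [one_tmul_D_smul 𝔔 (q i) (fs i) (hI𝔔 (hfs i)), hq i]
        erw [map_smul]
        rw [fibreEquiv_one_tmul_D]
      rw [Finset.sum_congr rfl fun i _ => this i, hk, sub_self]
    have h2 := crit x hxI hdx
    have h3 : algebraMap B (Localization.AtPrime 𝔔) y =
        ∑ i, q i * algebraMap B (Localization.AtPrime 𝔔) (fs i) + x := by
      rw [hx]; ring
    rw [h3]
    refine Submodule.add_mem_sup (Ideal.sum_mem _ fun i _ => ?_) h2
    exact Ideal.mul_mem_left _ _ (Ideal.mem_map_of_mem _ (Ideal.subset_span ⟨i, rfl⟩))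
  · apply Ideal.map_mono
    rw [Ideal.span_le]
    rintro _ ⟨i, rfl⟩
    exact hfs i

end generic

end Groth.Agent.Lib.Helper8.SQ3
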