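import Mathlib
import Groth.Agent.Lib.Helper8.SQ1
import Groth.Agent.Lib.Helper8.SQ3
import Groth.Agent.Lib.Helper12.RegularSeqQuot
import Groth.Agent.Lib.Helper21.RegularLocal

set_option backward.isDefEq.respectTransparency.types false
set_option autoImplicit false
set_option linter.unusedSectionVars false
set_option linter.style.haveILetI false

namespace Groth.Agent.Lib.Helper8.SQ4

universe u

open IsLocalRing TensorProduct KaehlerDifferential

section special

open Groth.Agent.Lib.Helper25.JacobianCrit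

variable {R B : Type u} [CommRing R] [CommRing B] [Algebra R B] [Algebra.EssFiniteType R B]
  (𝔓 : Ideal B) [𝔓.IsPrime] [Algebra.IsSmoothAt R 𝔓]

theorem one_tmul_D_eq_zero_of_mem_sq (x : Localization.AtPrime 𝔓)
    (hx : x ∈ maximalIdeal (Localization.AtPrime 𝔓) ^ 2) :
    (1 : ResidueField (Localization.AtPrime 𝔓)) ⊗ₜ[Localization.AtPrime 𝔓]
      D R (Localization.AtPrime 𝔓) x = 0 := by
  have e1 : ∀ (p : Localization.AtPrime 𝔓) (w : Ω[Localization.AtPrime 𝔓⁄R]),
      (1 : ResidueField (Localization.AtPrime 𝔓)) ⊗ₜ[Localization.AtPrime 𝔓] (p • w) =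
      residue (Localization.AtPrime 𝔓) p •
        ((1 : ResidueField (Localization.AtPrime 𝔓)) ⊗ₜ[Localization.AtPrime 𝔓] w) := by
    intro p w
    rw [← TensorProduct.smul_tmul, TensorProduct.smul_tmul', Algebra.smul_def, _root_.mul_one,
      smul_eq_mul, _root_.mul_one]
    rfl
  rw [pow_two] at hx
  refine Submodule.mul_induction_on hx ?_ ?_
  · intro u hu v hv
    rw [Derivation.leibniz, TensorProduct.tmul_add, e1, e1, (residue_eq_zero_iff _).mpr hu,
      (residue_eq_zero_iff _).mpr hv, zero_smul, zero_smul, add_zero]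
  · intro a b ha hb
    rw [map_add, TensorProduct.tmul_add, ha, hb, add_zero]

variable (F : Type u) [Field F] [Algebra B F] (hker : RingHom.ker (algebraMap B F) = 𝔓)
  {c : ℕ} (fs : Fin c → B) (hfs : ∀ i, fs i ∈ 𝔓)
  (hli : LinearIndependent F (fun i => (1 : F) ⊗ₜ[B] D R B (fs i)))

include hker hli in
theorem linearIndependent_loc :
    LinearIndependent (ResidueField (Localization.AtPrime 𝔓))
      fun i => (1 : ResidueField (Localization.AtPrime 𝔓)) ⊗ₜ[Localization.AtPrime 𝔓]
        D R (Localization.AtPrime 𝔓) (algebraMap B (Localization.AtPrime 𝔓) (fs i)) := by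
  have h1 := SQ2.linearIndependent_residue 𝔓 F hker (fun i => D R B (fs i)) hli
  have h2 := h1.map' (fibreEquiv R 𝔓).symm.toLinearMap (LinearEquiv.ker _)
  have e : (fun i => (1 : ResidueField (Localization.AtPrime 𝔓)) ⊗ₜ[Localization.AtPrime 𝔓]
        D R (Localization.AtPrime 𝔓) (algebraMap B (Localization.AtPrime 𝔓) (fs i))) =
      (⇑(fibreEquiv R 𝔓).symm.toLinearMap ∘ fun i => (1 : 𝔓.ResidueField) ⊗ₜ[B] D R B (fs i)) := by
    ext i
    simp only [Function.comp_apply, LinearEquiv.coe_coe]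
    rw [fibreEquiv_symm_one_tmul_D]
  rw [e]
  exact h2

include hker hfs hli in
theorem formallySmooth_quot :
    Algebra.FormallySmooth R (Localization.AtPrime 𝔓 ⧸
      Ideal.span (Set.range fun i => algebraMap B (Localization.AtPrime 𝔓) (fs i))) := by
  obtain ⟨hfree, hfin⟩ := free_finite_kaehler_localization (R := R) 𝔓
  haveI : Algebra.FormallySmooth R (Localization.AtPrime 𝔓) := ‹Algebra.IsSmoothAt R 𝔓›
  refine formallySmooth_quotient_of_linearIndependent (R := R)
    (fun i => algebraMap B (Localization.AtPrime 𝔓) (fs i)) (fun i => ?_)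
    (linearIndependent_loc 𝔓 F hker fs hli)
  exact (IsLocalization.AtPrime.to_map_mem_maximal_iff (Localization.AtPrime 𝔓) 𝔓 (fs i)).mpr
    (hfs i)

include hker hfs hli in
theorem indep_mod_sq (a : Fin c → Localization.AtPrime 𝔓)
    (ha : ∑ j, a j * algebraMap B (Localization.AtPrime 𝔓) (fs j) ∈
      maximalIdeal (Localization.AtPrime 𝔓) ^ 2) (j : Fin c) :
    a j ∈ maximalIdeal (Localization.AtPrime 𝔓) := by
  have h0 := one_tmul_D_eq_zero_of_mem_sq (R := R) 𝔓 _ ha
  rw [map_sum, TensorProduct.tmul_sum] at h0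
  have h1 : ∑ i, residue (Localization.AtPrime 𝔓) (a i) •
      ((1 : ResidueField (Localization.AtPrime 𝔓)) ⊗ₜ[Localization.AtPrime 𝔓]
        D R (Localization.AtPrime 𝔓) (algebraMap B (Localization.AtPrime 𝔓) (fs i))) = 0 := by
    rw [← h0]
    refine Finset.sum_congr rfl fun i _ => ?_
    rw [SQ3.one_tmul_D_smul 𝔓 (a i) (fs i) (hfs i)]
  have h2 := Fintype.linearIndependent_iff.mp (linearIndependent_loc 𝔓 F hker fs hli) _ h1 j
  exact (residue_eq_zero_iff _).mp h2

end special

section conormal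

variable {R B A Λ : Type u} [CommRing R] [CommRing B] [CommRing A] [CommRing Λ]
  [Algebra R B] [Algebra R A] [Algebra B A] [IsScalarTower R B A] [Algebra A Λ] [Algebra B Λ]
  [IsScalarTower B A Λ]

/-- The map `Λ ⊗_B Ω_B → Λ ⊗_A Ω_A`. -/
noncomputable def gMap : (Λ ⊗[B] Ω[B⁄R]) →ₗ[Λ] (Λ ⊗[A] Ω[A⁄R]) :=
  ((mapBaseChange R B A).baseChange Λ) ∘ₗ
    (AlgebraTensorModule.cancelBaseChange B A Λ Λ Ω[B⁄R]).symm.toLinearMap

theorem gMap_tmul (l : Λ) (ω : Ω[B⁄R]) :
    gMap (R := R) (B := B) (A := A) (Λ := Λ) (l ⊗ₜ[B] ω) = l ⊗ₜ[A] (map R R B A ω) := by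
  have h1 : (AlgebraTensorModule.cancelBaseChange B A Λ Λ Ω[B⁄R]).symm (l ⊗ₜ[B] ω) =
      l ⊗ₜ[A] ((1 : A) ⊗ₜ[B] ω) := by
    rw [LinearEquiv.symm_apply_eq]
    simp
  simp only [gMap, LinearMap.comp_apply, LinearEquiv.coe_coe, h1, LinearMap.baseChange_tmul,
    mapBaseChange_tmul, one_smul]

variable (hsurj : Function.Surjective (algebraMap B A))

include hsurj in
theorem gMap_surjective :
    Function.Surjective (gMap (R := R) (B := B) (A := A) (Λ := Λ)) := by
  have h1 : Function.Surjective ((mapBaseChange R B A).baseChange Λ) := by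
    rw [LinearMap.baseChange_eq_ltensor]
    exact LinearMap.lTensor_surjective Λ (mapBaseChange_surjective R B A hsurj)
  exact h1.comp (LinearEquiv.surjective _)

include hsurj in
theorem ker_gMap :
    LinearMap.ker (gMap (R := R) (B := B) (A := A) (Λ := Λ)) =
      Submodule.span Λ (Set.range fun y : RingHom.ker (algebraMap B A) =>
        (1 : Λ) ⊗ₜ[B] D R B (y : B)) := by
  apply le_antisymm
  · intro t ht
    rw [LinearMap.mem_ker] at ht
    set t' := (AlgebraTensorModule.cancelBaseChange B A Λ Λ Ω[B⁄R]).symm t with ht'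
    have h1 : (LinearMap.lTensor Λ (mapBaseChange R B A)) t' = 0 := by
      have : gMap (R := R) (B := B) (A := A) (Λ := Λ) t =
          ((mapBaseChange R B A).baseChange Λ) t' := rfl
      rw [this, LinearMap.baseChange_eq_ltensor] at ht
      exact ht
    let P' : Algebra.Extension R A :=
      { Ring := B, σ := Function.surjInv hsurj, algebraMap_σ := Function.surjInv_eq hsurj }
    have hex := lTensor_exact Λ P'.exact_cotangentComplex_toKaehler P'.toKaehler_surjective
    obtain ⟨z, hz⟩ := (hex t').mp h1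
    have ht'' : t = (AlgebraTensorModule.cancelBaseChange B A Λ Λ Ω[B⁄R]) t' := by
      rw [ht', LinearEquiv.apply_symm_apply]
    rw [ht'', ← hz]
    clear hz ht'' h1 ht
    induction z using TensorProduct.induction_on with
    | zero => simp
    | tmul l y =>
      obtain ⟨y, rfl⟩ := Algebra.Extension.Cotangent.mk_surjective y
      rw [LinearMap.lTensor_tmul, Algebra.Extension.cotangentComplex_mk]
      have : (AlgebraTensorModule.cancelBaseChange B A Λ Λ Ω[B⁄R])
          (l ⊗ₜ[A] ((1 : A) ⊗ₜ[B] D R B (y : B))) = l • ((1 : Λ) ⊗ₜ[B] D R B (y : B)) := by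
        simp [TensorProduct.smul_tmul']
      exact this ▸ Submodule.smul_mem _ _ (Submodule.subset_span ⟨y, rfl⟩)
    | add x y hx hy =>
      rw [map_add, map_add]
      exact Submodule.add_mem _ hx hy
  · rw [Submodule.span_le]
    rintro _ ⟨y, rfl⟩
    rw [SetLike.mem_coe, LinearMap.mem_ker, gMap_tmul, map_D, RingHom.mem_ker.mp y.2, map_zero,
      tmul_zero]

include hsurj in
theorem free_quot_span (hfree : Module.Free Λ (Λ ⊗[A] Ω[A⁄R])) :
    Module.Free Λ ((Λ ⊗[B] Ω[B⁄R]) ⧸
      Submodule.span Λ (Set.range fun y : RingHom.ker (algebraMap B A) =>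
        (1 : Λ) ⊗ₜ[B] D R B (y : B))) := by
  rw [← ker_gMap hsurj]
  exact Module.Free.of_equiv
    ((gMap (R := R) (B := B) (A := A) (Λ := Λ)).quotKerEquivOfSurjective
      (gMap_surjective hsurj)).symm

end conormal

section main

open Groth.Agent.Lib.Helper25.JacobianCrit

theorem core {R B A Λ : Type u} [CommRing R] [CommRing B] [CommRing A] [CommRing Λ]
    [IsDomain Λ] [IsLocalRing Λ]
    [Algebra R B] [Algebra.EssFiniteType R B] [IsRegularRing B]
    (hsmB : ∀ (𝔓 : Ideal B) [𝔓.IsPrime], Algebra.IsSmoothAt R 𝔓)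
    [Module.Free B Ω[B⁄R]] [Module.Finite B Ω[B⁄R]]
    [Algebra R A] [Algebra B A] [IsScalarTower R B A] [Algebra A Λ] [Algebra B Λ]
    [IsScalarTower B A Λ]
    (hsurj : Function.Surjective (algebraMap B A))
    [(RingHom.ker (algebraMap A Λ)).IsPrime]
    (hq : Algebra.IsSmoothAt R (RingHom.ker (algebraMap A Λ)))
    (hfree : Module.Free Λ (Λ ⊗[A] Ω[A⁄R])) :
    Algebra.IsSmoothAt R ((IsLocalRing.maximalIdeal Λ).comap (algebraMap A Λ)) := by
  classical
  haveI : IsNoetherianRing B := inferInstance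
  set I : Ideal B := RingHom.ker (algebraMap B A) with hI
  -- primes
  set 𝔮 : Ideal A := RingHom.ker (algebraMap A Λ) with h𝔮
  set 𝔭 : Ideal A := (IsLocalRing.maximalIdeal Λ).comap (algebraMap A Λ) with h𝔭
  set 𝔔 : Ideal B := 𝔮.comap (algebraMap B A) with h𝔔
  set 𝔓 : Ideal B := 𝔭.comap (algebraMap B A) with h𝔓
  -- the family
  have hfreeT := free_quot_span (R := R) (B := B) (A := A) (Λ := Λ) hsurj hfree
  obtain ⟨c, a, hspan, hli⟩ := SQ1.choose (Λ := Λ) (T := Λ ⊗[B] Ω[B⁄R])
    (fun y : RingHom.ker (algebraMap B A) => (1 : Λ) ⊗ₜ[B] D R B (y : B)) hfreeT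
  let fs : Fin c → B := fun i => (a i : B)
  have hfs : ∀ i, fs i ∈ I := fun i => (a i).2
  have hIFG : I.FG := IsNoetherian.noetherian I
  have hI𝔔 : I ≤ 𝔔 := by
    intro y hy
    rw [h𝔔, Ideal.mem_comap, RingHom.mem_ker.mp hy]
    exact zero_mem _
  have h𝔔𝔓 : 𝔔 ≤ 𝔓 := by
    intro y hy
    rw [h𝔓, Ideal.mem_comap, h𝔭, Ideal.mem_comap]
    rw [h𝔔, Ideal.mem_comap, h𝔮, RingHom.mem_ker] at hy
    rw [hy]
    exact zero_mem _
  have hfs𝔓 : ∀ i, fs i ∈ 𝔓 := fun i => h𝔔𝔓 (hI𝔔 (hfs i))
  -- the two fields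
  have hkerκ : RingHom.ker (algebraMap B (ResidueField Λ)) = 𝔓 := by
    ext y
    rw [RingHom.mem_ker, IsScalarTower.algebraMap_apply B Λ (ResidueField Λ),
      IsScalarTower.algebraMap_apply B A Λ]
    change residue Λ _ = 0 ↔ _
    rw [residue_eq_zero_iff]
    rfl
  have hkerL : RingHom.ker (algebraMap B (FractionRing Λ)) = 𝔔 := by
    ext y
    rw [RingHom.mem_ker, IsScalarTower.algebraMap_apply B Λ (FractionRing Λ),
      IsScalarTower.algebraMap_apply B A Λ]
    rw [map_eq_zero_iff _ (IsFractionRing.injective Λ (FractionRing Λ))]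
    rfl
  -- independence over the residue field of `Λ`
  have hliκ : LinearIndependent (ResidueField Λ)
      (fun i => (1 : ResidueField Λ) ⊗ₜ[B] D R B (fs i)) := by
    let cancel := AlgebraTensorModule.cancelBaseChange B Λ (ResidueField Λ) (ResidueField Λ) Ω[B⁄R]
    have h1 := hli.map' cancel.toLinearMap (LinearEquiv.ker _)
    have e1 : (fun i => (1 : ResidueField Λ) ⊗ₜ[B] D R B (fs i)) =
        (⇑cancel.toLinearMap ∘ fun i => (1 : ResidueField Λ) ⊗ₜ[Λ]
          ((1 : Λ) ⊗ₜ[B] D R B ((a i : RingHom.ker (algebraMap B A)) : B))) := by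
      ext i
      simp [cancel, fs]
    rw [e1]
    exact h1
  -- spanning over the fraction field of `Λ`
  have hspanL : ∀ y ∈ I, (1 : FractionRing Λ) ⊗ₜ[B] D R B y ∈
      Submodule.span (FractionRing Λ)
        (Set.range fun i => (1 : FractionRing Λ) ⊗ₜ[B] D R B (fs i)) := by
    intro y hy
    let φL : (Λ ⊗[B] Ω[B⁄R]) →ₗ[Λ] (FractionRing Λ ⊗[B] Ω[B⁄R]) :=
      AlgebraTensorModule.map (Algebra.linearMap Λ (FractionRing Λ)) LinearMap.id
    have h1 : (1 : Λ) ⊗ₜ[B] D R B y ∈ Submodule.span Λ (Set.range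
        ((fun y : RingHom.ker (algebraMap B A) => (1 : Λ) ⊗ₜ[B] D R B (y : B)) ∘ a)) := by
      rw [hspan]
      exact Submodule.subset_span ⟨⟨y, hy⟩, rfl⟩
    have h2 := Submodule.mem_map_of_mem (f := φL) h1
    have h3 : Submodule.map φL (Submodule.span Λ (Set.range
        ((fun y : RingHom.ker (algebraMap B A) => (1 : Λ) ⊗ₜ[B] D R B (y : B)) ∘ a))) ≤
        (Submodule.span (FractionRing Λ)
          (Set.range fun i => (1 : FractionRing Λ) ⊗ₜ[B] D R B (fs i))).restrictScalars Λ := by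
      rw [Submodule.map_span_le]
      rintro _ ⟨i, rfl⟩
      rw [Submodule.restrictScalars_mem]
      apply Submodule.subset_span
      refine ⟨i, ?_⟩
      simp [φL, fs]
    have h4 := h3 h2
    rw [Submodule.restrictScalars_mem] at h4
    have h5 : φL ((1 : Λ) ⊗ₜ[B] D R B y) = (1 : FractionRing Λ) ⊗ₜ[B] D R B y := by
      simp [φL]
    rw [h5] at h4
    exact h4
  have hfR : ∀ r : R, algebraMap B A (algebraMap R B r) = algebraMap R A r :=
    fun r => (IsScalarTower.algebraMap_apply R B A r).symm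
  -- the generic point
  haveI := hsmB 𝔔
  have hsmQ : Algebra.FormallySmooth R (Localization.AtPrime 𝔔 ⧸
      I.map (algebraMap B (Localization.AtPrime 𝔔))) :=
    (SQ3.formallySmooth_iff (algebraMap B A) hsurj hfR 𝔮).mp hq
  have hmapQ := SQ3.map_eq_of_formallySmooth (R := R) 𝔔 I hIFG hI𝔔 hsmQ (FractionRing Λ) hkerL
    fs hfs hspanL
  -- the special point
  haveI := hsmB 𝔓
  have hsmP := formallySmooth_quot (R := R) 𝔓 (ResidueField Λ) hkerκ fs hfs𝔓 hliκ
  have hg : ∀ i, algebraMap B (Localization.AtPrime 𝔓) (fs i) ∈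
      maximalIdeal (Localization.AtPrime 𝔓) := fun i =>
    (IsLocalization.AtPrime.to_map_mem_maximal_iff (Localization.AtPrime 𝔓) 𝔓 (fs i)).mpr (hfs𝔓 i)
  have hreg := (Groth.Agent.Lib.Helper12.isRegularLocalRing_quotient_and_isRegular_of_indep c
    (Localization.AtPrime 𝔓) (fun i => algebraMap B (Localization.AtPrime 𝔓) (fs i)) hg
    (fun a' ha' j => indep_mod_sq (R := R) 𝔓 (ResidueField Λ) hkerκ fs hfs𝔓 hliκ a' ha' j)).1
  haveI hdom := Groth.Agent.Lib.Helper21.isDomain_of_isRegularLocalRing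
    (Localization.AtPrime 𝔓 ⧸
      Ideal.span (Set.range fun i => algebraMap B (Localization.AtPrime 𝔓) (fs i)))
  -- the map to the fraction field
  have hunits : ∀ b : 𝔓.primeCompl, IsUnit (algebraMap B (FractionRing Λ) (b : B)) := by
    intro b
    rw [isUnit_iff_ne_zero]
    intro h0
    apply b.2
    apply h𝔔𝔓
    rw [← hkerL]
    exact h0
  let χ : Localization.AtPrime 𝔓 →+* FractionRing Λ := IsLocalization.lift hunits
  have hχ : ∀ b : B, χ (algebraMap B (Localization.AtPrime 𝔓) b) = algebraMap B (FractionRing Λ) b :=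
    fun b => IsLocalization.lift_eq hunits b
  have hGker : Ideal.span (Set.range fun i => algebraMap B (Localization.AtPrime 𝔓) (fs i)) ≤
      RingHom.ker χ := by
    rw [Ideal.span_le]
    rintro _ ⟨i, rfl⟩
    rw [SetLike.mem_coe, RingHom.mem_ker, hχ]
    have : fs i ∈ RingHom.ker (algebraMap B (FractionRing Λ)) := by
      rw [hkerL]
      exact hI𝔔 (hfs i)
    exact this
  have hmapspan : (Ideal.span (Set.range fs)).map (algebraMap B (Localization.AtPrime 𝔓)) =
      Ideal.span (Set.range fun i => algebraMap B (Localization.AtPrime 𝔓) (fs i)) := by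
    rw [Ideal.map_span, ← Set.range_comp]
    rfl
  have hmapP : I.map (algebraMap B (Localization.AtPrime 𝔓)) =
      Ideal.span (Set.range fun i => algebraMap B (Localization.AtPrime 𝔓) (fs i)) := by
    apply le_antisymm
    · rw [Ideal.map_le_iff_le_comap]
      intro y hy
      rw [Ideal.mem_comap]
      have h1 : algebraMap B (Localization.AtPrime 𝔔) y ∈
          (Ideal.span (Set.range fs)).map (algebraMap B (Localization.AtPrime 𝔔)) := by
        rw [← hmapQ]
        exact Ideal.mem_map_of_mem _ hy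
      obtain ⟨t, ht, hty⟩ := (IsLocalization.algebraMap_mem_map_algebraMap_iff 𝔔.primeCompl
        (Localization.AtPrime 𝔔) _ y).mp h1
      have h2 : algebraMap B (Localization.AtPrime 𝔓) (t * y) ∈
          Ideal.span (Set.range fun i => algebraMap B (Localization.AtPrime 𝔓) (fs i)) := by
        rw [← hmapspan]
        exact Ideal.mem_map_of_mem _ hty
      rw [map_mul, ← Ideal.Quotient.eq_zero_iff_mem, map_mul] at h2
      rcases mul_eq_zero.mp h2 with h3 | h3
      · exfalso
        rw [Ideal.Quotient.eq_zero_iff_mem] at h3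
        have h4 := hGker h3
        rw [RingHom.mem_ker, hχ] at h4
        apply ht
        rw [← hkerL]
        exact h4
      · exact Ideal.Quotient.eq_zero_iff_mem.mp h3
    · rw [Ideal.span_le]
      rintro _ ⟨i, rfl⟩
      exact Ideal.mem_map_of_mem _ (hfs i)
  rw [← hmapP] at hsmP
  exact (SQ3.formallySmooth_iff (algebraMap B A) hsurj hfR 𝔭).mpr hsmP

theorem main6841 {R Λ A : Type u} [CommRing R] [IsDomain R]
    [IsDiscreteValuationRing R] [CommRing Λ] [IsDomain Λ] [IsDiscreteValuationRing Λ]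
    [CommRing A] [Algebra R A] [Algebra.FiniteType R A] [Algebra A Λ]
    [(RingHom.ker (algebraMap A Λ)).IsPrime]
    (hq : Algebra.IsSmoothAt R (RingHom.ker (algebraMap A Λ)))
    (hfree : Module.Free Λ (Λ ⊗[A] Ω[A⁄R])) :
    Algebra.IsSmoothAt R ((IsLocalRing.maximalIdeal Λ).comap (algebraMap A Λ)) := by
  obtain ⟨n, f₀, hf₀⟩ := Algebra.FiniteType.iff_quotient_mvPolynomial''.mp
    (inferInstance : Algebra.FiniteType R A)
  letI : Algebra (MvPolynomial (Fin n) R) A := f₀.toRingHom.toAlgebra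
  haveI : IsScalarTower R (MvPolynomial (Fin n) R) A :=
    .of_algebraMap_eq (fun r => (f₀.commutes r).symm)
  letI : Algebra (MvPolynomial (Fin n) R) Λ := ((algebraMap A Λ).comp f₀.toRingHom).toAlgebra
  haveI : IsScalarTower (MvPolynomial (Fin n) R) A Λ := .of_algebraMap_eq (fun _ => rfl)
  exact core (B := MvPolynomial (Fin n) R) (fun 𝔓 _ => inferInstance) hf₀ hq hfree

end main

end Groth.Agent.Lib.Helper8.SQ4
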