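import Mathlib
import Groth.Agent.Lib.Helper8.SQ4

set_option backward.isDefEq.respectTransparency.types false
set_option synthInstance.maxHeartbeats 400000
set_option autoImplicit false
set_option linter.unusedSectionVars false
set_option linter.style.haveILetI false

universe u
open TensorProduct IsLocalRing KaehlerDifferential

namespace Groth.Agent.Lib.Helper8.NB4

variable {R A A' F : Type u} [CommRing R] [CommRing A] [CommRing A'] [Field F]
  [Algebra R A] [Algebra R A'] [Algebra A A'] [IsScalarTower R A A']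
  [Algebra A F] [Algebra A' F] [IsScalarTower A A' F]

theorem one_tmul_smul (a' : A') (ω : Ω[A'⁄R]) :
    (1 : F) ⊗ₜ[A'] (a' • ω) = algebraMap A' F a' • ((1 : F) ⊗ₜ[A'] ω) := by
  rw [← TensorProduct.smul_tmul, TensorProduct.smul_tmul', Algebra.smul_def, mul_one,
    smul_eq_mul, mul_one]

variable [Module.Finite A Ω[A⁄R]]
  (𝔭 : Ideal A) [𝔭.IsPrime] (hker : RingHom.ker (algebraMap A F) = 𝔭)
  (π : R) (hπF : algebraMap A' F (algebraMap R A' π) = 0)
  (hnzd : ∀ z : A', algebraMap R A' π * z = 0 → z = 0)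
  (hgen : Algebra.adjoin A {y : A' | ∃ x ∈ 𝔭, algebraMap R A' π * y = algebraMap A A' x} = ⊤)
  {c : ℕ} (f : Fin c → A)
  (hli : LinearIndependent F (fun i => (1 : F) ⊗ₜ[A] D R A (f i)))
  (hgenf : ∀ x ∈ 𝔭, ∃ g ∈ 𝔭.primeCompl,
    g * x ∈ Ideal.span (insert (algebraMap R A π) (Set.range f)))
  (y : Fin c → A') (hy : ∀ i, algebraMap R A' π * y i = algebraMap A A' (f i))

include hker hπF hnzd hgen hli hgenf hy in
theorem finrank_le :
    Module.finrank F (F ⊗[A'] Ω[A'⁄R]) ≤ Module.finrank F (F ⊗[A] Ω[A⁄R]) := by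
  classical
  obtain ⟨ι, hιdef⟩ : ∃ ι : (F ⊗[A] Ω[A⁄R]) →ₗ[F] (F ⊗[A'] Ω[A'⁄R]),
      ι = SQ4.gMap (R := R) (B := A) (A := A') (Λ := F) := ⟨_, rfl⟩
  have hι : ∀ (l : F) (ω : Ω[A⁄R]), ι (l ⊗ₜ[A] ω) = l ⊗ₜ[A'] (map R R A A' ω) := by
    intro l ω
    rw [hιdef, SQ4.gMap_tmul]
  have hιD : ∀ a : A, ι ((1 : F) ⊗ₜ[A] D R A a) = (1 : F) ⊗ₜ[A'] D R A' (algebraMap A A' a) := by
    intro a
    rw [hι, map_D]
  have hkerf : ∀ i, ι ((1 : F) ⊗ₜ[A] D R A (f i)) = 0 := by
    intro i
    rw [hιD, ← hy i, Derivation.leibniz, Derivation.map_algebraMap, smul_zero, add_zero,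
      one_tmul_smul, hπF, zero_smul]
  -- rank-nullity
  have h1 := LinearMap.finrank_range_add_finrank_ker ι
  have h2 : c ≤ Module.finrank F (LinearMap.ker ι) := by
    have h3 : Submodule.span F (Set.range fun i => (1 : F) ⊗ₜ[A] D R A (f i)) ≤
        LinearMap.ker ι := by
      rw [Submodule.span_le]
      rintro _ ⟨i, rfl⟩
      exact hkerf i
    have h4 := Submodule.finrank_mono h3
    rw [finrank_span_eq_card hli, Fintype.card_fin] at h4
    exact h4
  obtain ⟨U, hU⟩ : ∃ U : Submodule F (F ⊗[A'] Ω[A'⁄R]), U = LinearMap.range ι ⊔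
      Submodule.span F (Set.range fun i => (1 : F) ⊗ₜ[A'] D R A' (y i)) := ⟨_, rfl⟩
  have hUle : Module.finrank F U ≤ Module.finrank F (F ⊗[A] Ω[A⁄R]) := by
    rw [hU]
    haveI : FiniteDimensional F
        (Submodule.span F (Set.range fun i => (1 : F) ⊗ₜ[A'] D R A' (y i))) :=
      FiniteDimensional.span_of_finite F (Set.finite_range _)
    refine (Submodule.finrank_add_le_finrank_add_finrank _ _).trans ?_
    have h5 : Module.finrank F
        (Submodule.span F (Set.range fun i => (1 : F) ⊗ₜ[A'] D R A' (y i))) ≤ c := by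
      have h6 := finrank_range_le_card (R := F) (fun i => (1 : F) ⊗ₜ[A'] D R A' (y i))
      rw [Fintype.card_fin] at h6
      exact h6
    omega
  -- `U = ⊤`
  have hA : ∀ a : A, (1 : F) ⊗ₜ[A'] D R A' (algebraMap A A' a) ∈ U := by
    intro a
    rw [hU]
    exact Submodule.mem_sup_left ⟨_, hιD a⟩
  have hY : ∀ i, (1 : F) ⊗ₜ[A'] D R A' (y i) ∈ U := by
    intro i
    rw [hU]
    exact Submodule.mem_sup_right (Submodule.subset_span ⟨i, rfl⟩)
  have hmul : ∀ a' b' : A', (1 : F) ⊗ₜ[A'] D R A' a' ∈ U → (1 : F) ⊗ₜ[A'] D R A' b' ∈ U →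
      (1 : F) ⊗ₜ[A'] D R A' (a' * b') ∈ U := by
    intro a' b' ha hb
    rw [Derivation.leibniz, TensorProduct.tmul_add, one_tmul_smul, one_tmul_smul]
    exact add_mem (Submodule.smul_mem _ _ hb) (Submodule.smul_mem _ _ ha)
  have hG : ∀ y₀ : A', (∃ x ∈ 𝔭, algebraMap R A' π * y₀ = algebraMap A A' x) →
      (1 : F) ⊗ₜ[A'] D R A' y₀ ∈ U := by
    rintro y₀ ⟨x, hx, hxy⟩
    obtain ⟨g, hg, hgx⟩ := hgenf x hx
    obtain ⟨a, z, hz, hgxa⟩ := Ideal.mem_span_insert.mp hgx
    obtain ⟨b, hb⟩ := (Ideal.mem_span_range_iff_exists_fun).mp hz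
    have hrel : algebraMap A A' g * y₀ =
        algebraMap A A' a + ∑ i, algebraMap A A' (b i) * y i := by
      rw [← sub_eq_zero]
      apply hnzd
      have e1 : algebraMap A A' (algebraMap R A π) = algebraMap R A' π :=
        (IsScalarTower.algebraMap_apply R A A' π).symm
      have e2 := congrArg (algebraMap A A') hgxa
      rw [map_mul, map_add, map_mul, e1, ← hb, map_sum] at e2
      simp only [map_mul] at e2
      rw [mul_sub, mul_add, Finset.mul_sum]
      have e3 : ∀ i, algebraMap R A' π * (algebraMap A A' (b i) * y i) =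
          algebraMap A A' (b i) * algebraMap A A' (f i) := by
        intro i
        rw [← hy i]; ring
      simp only [e3]
      rw [mul_left_comm, hxy, e2]
      ring
    have h3 : (1 : F) ⊗ₜ[A'] D R A' (algebraMap A A' g * y₀) ∈ U := by
      rw [hrel, map_add, TensorProduct.tmul_add, map_sum, TensorProduct.tmul_sum]
      refine add_mem (hA a) (Submodule.sum_mem _ fun i _ => ?_)
      exact hmul _ _ (hA (b i)) (hY i)
    rw [Derivation.leibniz, TensorProduct.tmul_add, one_tmul_smul, one_tmul_smul] at h3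
    have h4 : algebraMap A' F y₀ • (1 : F) ⊗ₜ[A'] D R A' (algebraMap A A' g) ∈ U :=
      Submodule.smul_mem _ _ (hA g)
    have h5 := (Submodule.add_mem_iff_left U h4).mp h3
    have hg0 : algebraMap A' F (algebraMap A A' g) ≠ 0 := by
      rw [← IsScalarTower.algebraMap_apply]
      intro h0
      apply hg
      rw [← hker]
      exact h0
    exact (Submodule.smul_mem_iff U hg0).mp h5
  have hall : ∀ a' : A', (1 : F) ⊗ₜ[A'] D R A' a' ∈ U := by
    intro a'
    have ha' : a' ∈ Algebra.adjoin A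
        {y : A' | ∃ x ∈ 𝔭, algebraMap R A' π * y = algebraMap A A' x} := by
      rw [hgen]; trivial
    induction ha' using Algebra.adjoin_induction with
    | mem y₀ hy₀ => exact hG y₀ hy₀
    | algebraMap a => exact hA a
    | add u v _ _ hu hv => rw [map_add, TensorProduct.tmul_add]; exact add_mem hu hv
    | mul u v _ _ hu hv => exact hmul u v hu hv
  have htop : ∀ z : F ⊗[A'] Ω[A'⁄R], z ∈ U := by
    intro z
    induction z using TensorProduct.induction_on with
    | zero => exact zero_mem _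
    | add x y hx hy => exact add_mem hx hy
    | tmul l ω =>
      have hω : ω ∈ Submodule.span A' (Set.range (D R A')) := by
        rw [span_range_derivation]; trivial
      induction hω using Submodule.span_induction generalizing l with
      | mem w hw =>
        obtain ⟨a', rfl⟩ := hw
        have : l ⊗ₜ[A'] D R A' a' = l • ((1 : F) ⊗ₜ[A'] D R A' a') := by
          rw [TensorProduct.smul_tmul', smul_eq_mul, mul_one]
        rw [this]
        exact Submodule.smul_mem _ _ (hall a')
      | zero => rw [TensorProduct.tmul_zero]; exact zero_mem _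
      | add u v _ _ hu hv => rw [TensorProduct.tmul_add]; exact add_mem (hu l) (hv l)
      | smul a' u _ hu =>
        rw [← TensorProduct.smul_tmul]
        exact hu _
  have hUtop : U = ⊤ := eq_top_iff.mpr fun z _ => htop z
  rw [hUtop, finrank_top] at hUle
  exact hUle

end Groth.Agent.Lib.Helper8.NB4
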