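import Mathlib
import Groth.Agent.Lib.Helper8.SQ4
import Groth.Agent.Lib.Helper8.NB3

set_option backward.isDefEq.respectTransparency.types false
set_option synthInstance.maxHeartbeats 400000
set_option autoImplicit false
set_option linter.unusedSectionVars false
set_option linter.style.haveILetI false

universe u
open TensorProduct IsLocalRing KaehlerDifferential

namespace Groth.Agent.Lib.Helper8.NB5

section generic

variable {R A A' L : Type u} [CommRing R] [CommRing A] [CommRing A'] [Field L]
  [Algebra R A] [Algebra R A'] [Algebra A A']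
  [IsScalarTower R A A']
  [Algebra A L] [Algebra A' L] [IsScalarTower A A' L]
  (B : Type u) [CommRing B] [Algebra R B] [Algebra A B] [Algebra A' B]
  [IsScalarTower R A B] [IsScalarTower R A' B] [IsScalarTower A A' B]
  [Algebra B L] [IsScalarTower A B L] [IsScalarTower A' B L]

theorem map_map (ω : Ω[A⁄R]) : map R R A' B (map R R A A' ω) = map R R A B ω := by
  have hω : ω ∈ Submodule.span A (Set.range (D R A)) := by
    rw [span_range_derivation]; trivial
  induction hω using Submodule.span_induction with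
  | mem w hw =>
    obtain ⟨a, rfl⟩ := hw
    rw [map_D, map_D, map_D, ← IsScalarTower.algebraMap_apply]
  | zero => simp
  | add u v _ _ hu hv => rw [map_add, map_add, map_add, hu, hv]
  | smul a u _ hu =>
    rw [map_smul (map R R A A'), LinearMap.map_smul_of_tower, hu, map_smul]

variable (a : A) [IsLocalization.Away a B]

include B a in
theorem gMap_injective :
    Function.Injective (SQ4.gMap (R := R) (B := A) (A := A') (Λ := L)) := by
  haveI : Algebra.FormallyEtale A B :=
    Algebra.FormallyEtale.of_isLocalization (Rₘ := B) (Submonoid.powers a)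
  have h3 : Function.Injective (SQ4.gMap (R := R) (B := A) (A := B) (Λ := L)) := by
    have hbij : Function.Injective ((mapBaseChange R A B).baseChange L) := by
      have e1 : (mapBaseChange R A B) =
          (tensorKaehlerEquivOfFormallyEtale R A B).toLinearMap := by
        ext x
        simp
      rw [LinearMap.baseChange_eq_ltensor, e1]
      exact (LinearEquiv.lTensor L (tensorKaehlerEquivOfFormallyEtale R A B)).injective
    exact hbij.comp (LinearEquiv.injective _)
  have hcomp : ∀ z, SQ4.gMap (R := R) (B := A') (A := B) (Λ := L)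
      (SQ4.gMap (R := R) (B := A) (A := A') (Λ := L) z) =
      SQ4.gMap (R := R) (B := A) (A := B) (Λ := L) z := by
    intro z
    induction z using TensorProduct.induction_on with
    | zero => simp
    | add x y hx hy => rw [map_add, map_add, map_add, hx, hy]
    | tmul l ω => rw [SQ4.gMap_tmul, SQ4.gMap_tmul, SQ4.gMap_tmul, map_map B]
  intro z₁ z₂ h
  apply h3
  rw [← hcomp, ← hcomp, h]

include B a in
theorem finrank_le [Module.Finite A' Ω[A'⁄R]] :
    Module.finrank L (L ⊗[A] Ω[A⁄R]) ≤ Module.finrank L (L ⊗[A'] Ω[A'⁄R]) :=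
  LinearMap.finrank_le_finrank_of_injective (gMap_injective (R := R) B a)

end generic

section free

variable {R A A' Λ : Type u} [CommRing R] [CommRing A] [CommRing A'] [CommRing Λ] [IsDomain Λ]
  [IsLocalRing Λ]
  [Algebra R A] [Algebra R A'] [Algebra A Λ] [Algebra A' Λ]
  [Module.Finite A Ω[A⁄R]] [Module.Finite A' Ω[A'⁄R]]

theorem free_of_le (hMfree : Module.Free Λ (Λ ⊗[A] Ω[A⁄R]))
    (hspecial : Module.finrank (ResidueField Λ) (ResidueField Λ ⊗[A'] Ω[A'⁄R]) ≤
      Module.finrank (ResidueField Λ) (ResidueField Λ ⊗[A] Ω[A⁄R]))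
    (hgeneric : Module.finrank (FractionRing Λ) (FractionRing Λ ⊗[A] Ω[A⁄R]) ≤
      Module.finrank (FractionRing Λ) (FractionRing Λ ⊗[A'] Ω[A'⁄R])) :
    Module.Free Λ (Λ ⊗[A'] Ω[A'⁄R]) := by
  apply NB3.free_of_finrank_le
  have e1 := (AlgebraTensorModule.cancelBaseChange A' Λ (ResidueField Λ) (ResidueField Λ)
    Ω[A'⁄R]).finrank_eq
  have e2 := (AlgebraTensorModule.cancelBaseChange A Λ (ResidueField Λ) (ResidueField Λ)
    Ω[A⁄R]).finrank_eq
  have e3 := (AlgebraTensorModule.cancelBaseChange A' Λ (FractionRing Λ) (FractionRing Λ)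
    Ω[A'⁄R]).finrank_eq
  have e4 := (AlgebraTensorModule.cancelBaseChange A Λ (FractionRing Λ) (FractionRing Λ)
    Ω[A⁄R]).finrank_eq
  have e5 : Module.finrank (ResidueField Λ) (ResidueField Λ ⊗[Λ] (Λ ⊗[A] Ω[A⁄R])) =
      Module.finrank Λ (Λ ⊗[A] Ω[A⁄R]) := Module.finrank_baseChange
  have e6 : Module.finrank (FractionRing Λ) (FractionRing Λ ⊗[Λ] (Λ ⊗[A] Ω[A⁄R])) =
      Module.finrank Λ (Λ ⊗[A] Ω[A⁄R]) := Module.finrank_baseChange
  omega

end free

end Groth.Agent.Lib.Helper8.NB5
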