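import Mathlib

set_option backward.isDefEq.respectTransparency.types false
set_option synthInstance.maxHeartbeats 400000
set_option autoImplicit false
set_option linter.unusedSectionVars false
set_option linter.style.haveILetI false

universe u
open TensorProduct IsLocalRing

namespace Groth.Agent.Lib.Helper8.NB6

theorem isSmoothAt_ker {R A A' Λ : Type u} (B : Type u) [CommRing R] [CommRing A] [CommRing A']
    [CommRing B] [CommRing Λ] [IsDomain Λ]
    [Algebra R A] [Algebra R A'] [Algebra R B] [Algebra A A'] [Algebra A B] [Algebra A' B]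
    [IsScalarTower R A A'] [IsScalarTower R A B] [IsScalarTower R A' B] [IsScalarTower A A' B]
    [Algebra A Λ] [Algebra A' Λ] [IsScalarTower A A' Λ]
    [Algebra.FinitePresentation R A]
    (a : A) [IsLocalization.Away a B] [IsLocalization.Away (algebraMap A A' a) B]
    (ha : algebraMap A Λ a ≠ 0)
    (𝔭 : Ideal A) [𝔭.IsPrime] (h𝔭 : RingHom.ker (algebraMap A Λ) ≤ 𝔭)
    (hsm : Algebra.IsSmoothAt R 𝔭)
    [(RingHom.ker (algebraMap A' Λ)).IsPrime] :
    Algebra.IsSmoothAt R (RingHom.ker (algebraMap A' Λ)) := by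
  have hu : IsUnit (((algebraMap Λ (FractionRing Λ)).comp (algebraMap A' Λ))
      (algebraMap A A' a)) := by
    rw [isUnit_iff_ne_zero, RingHom.comp_apply, ← IsScalarTower.algebraMap_apply A A' Λ]
    intro h0
    exact ha ((map_eq_zero_iff _ (IsFractionRing.injective Λ (FractionRing Λ))).mp h0)
  let χ : B →+* FractionRing Λ := IsLocalization.Away.lift (algebraMap A A' a) hu
  have hχ' : ∀ x' : A', χ (algebraMap A' B x') =
      algebraMap Λ (FractionRing Λ) (algebraMap A' Λ x') := fun x' =>
    IsLocalization.Away.lift_eq (algebraMap A A' a) hu x'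
  have hχ : ∀ x : A, χ (algebraMap A B x) =
      algebraMap Λ (FractionRing Λ) (algebraMap A Λ x) := by
    intro x
    rw [IsScalarTower.algebraMap_apply A A' B, hχ', ← IsScalarTower.algebraMap_apply A A' Λ]
  haveI : (RingHom.ker χ).IsPrime := RingHom.ker_isPrime χ
  haveI hqprime : (RingHom.ker (algebraMap A Λ)).IsPrime := RingHom.ker_isPrime _
  -- smooth at the generic point of `A`
  have hq : (⟨RingHom.ker (algebraMap A Λ), hqprime⟩ : PrimeSpectrum A) ∈
      Algebra.smoothLocus R A := by
    have hopen : IsOpen (Algebra.smoothLocus R A) := Algebra.isOpen_smoothLocus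
    have hspec : (⟨RingHom.ker (algebraMap A Λ), hqprime⟩ : PrimeSpectrum A) ⤳
        (⟨𝔭, inferInstance⟩ : PrimeSpectrum A) := by
      rw [← PrimeSpectrum.le_iff_specializes]
      exact h𝔭
    exact hopen.stableUnderGeneralization hspec hsm
  have hcomapA : PrimeSpectrum.comap (algebraMap A B) ⟨RingHom.ker χ, inferInstance⟩ =
      (⟨RingHom.ker (algebraMap A Λ), hqprime⟩ : PrimeSpectrum A) := by
    ext x
    change χ (algebraMap A B x) = 0 ↔ algebraMap A Λ x = 0
    rw [hχ, map_eq_zero_iff _ (IsFractionRing.injective Λ (FractionRing Λ))]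
  have hcomapA' : PrimeSpectrum.comap (algebraMap A' B) ⟨RingHom.ker χ, inferInstance⟩ =
      (⟨RingHom.ker (algebraMap A' Λ), inferInstance⟩ : PrimeSpectrum A') := by
    ext x
    change χ (algebraMap A' B x) = 0 ↔ algebraMap A' Λ x = 0
    rw [hχ', map_eq_zero_iff _ (IsFractionRing.injective Λ (FractionRing Λ))]
  have hB : (⟨RingHom.ker χ, inferInstance⟩ : PrimeSpectrum B) ∈ Algebra.smoothLocus R B := by
    rw [← Algebra.smoothLocus_comap_of_isLocalization (R := R) (A := A) (Af := B) a,
      Set.mem_preimage, hcomapA]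
    exact hq
  rw [← Algebra.smoothLocus_comap_of_isLocalization (R := R) (A := A') (Af := B)
    (algebraMap A A' a), Set.mem_preimage, hcomapA'] at hB
  exact hB

end Groth.Agent.Lib.Helper8.NB6
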