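import Mathlib
import Groth.Agent.Lib.Helper8.NB2
import Groth.Agent.Lib.Helper8.NB4
import Groth.Agent.Lib.Helper8.NB5
import Groth.Agent.Lib.Helper8.NB6
import Groth.Agent.Lib.Helper8.SQ4
import Groth.Agent.Lib.Helper23.FieldSep

set_option backward.isDefEq.respectTransparency.types false
set_option synthInstance.maxHeartbeats 400000
set_option autoImplicit false
set_option linter.unusedSectionVars false
set_option linter.style.haveILetI false

universe u
open TensorProduct IsLocalRing KaehlerDifferential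

namespace Groth.Agent.Lib.Helper8.NB7

open Groth.Agent.Lib.Helper25.JacobianCrit

theorem core {R Λ A A' : Type u} (B : Type u) [CommRing R] [IsDomain R]
    [IsDiscreteValuationRing R]
    [CommRing Λ] [IsDomain Λ] [IsDiscreteValuationRing Λ] [Algebra R Λ]
    [NoZeroSMulDivisors R Λ] [IsLocalHom (algebraMap R Λ)]
    (hsep : Algebra.IsGeometricallyReduced (ResidueField R) (ResidueField Λ))
    [CommRing A] [Algebra R A] [Algebra.FiniteType R A] [Algebra A Λ] [IsScalarTower R A Λ]
    [CommRing A'] [Algebra R A'] [Algebra.FiniteType R A'] [Algebra A A'] [IsScalarTower R A A']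
    [Algebra A' Λ] [IsScalarTower A A' Λ]
    [CommRing B] [Algebra R B] [Algebra A B] [Algebra A' B] [IsScalarTower R A B]
    [IsScalarTower R A' B] [IsScalarTower A A' B]
    (π : R) (hπ : maximalIdeal R = Ideal.span {π})
    [IsLocalization.Away (algebraMap R A π) B]
    [IsLocalization.Away (algebraMap A A' (algebraMap R A π)) B]
    (hsm : Algebra.IsSmoothAt R ((maximalIdeal Λ).comap (algebraMap A Λ)))
    (hnzd : ∀ z : A', algebraMap R A' π * z = 0 → z = 0)
    (hdiv : ∀ x ∈ (maximalIdeal Λ).comap (algebraMap A Λ),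
      ∃ y : A', algebraMap R A' π * y = algebraMap A A' x)
    (hgen : Algebra.adjoin A {y : A' | ∃ x ∈ (maximalIdeal Λ).comap (algebraMap A Λ),
      algebraMap R A' π * y = algebraMap A A' x} = ⊤) :
    Algebra.IsSmoothAt R ((maximalIdeal Λ).comap (algebraMap A' Λ)) := by
  classical
  haveI : IsNoetherianRing A := Algebra.FiniteType.isNoetherianRing R A
  haveI : Algebra.FinitePresentation R A := Algebra.FinitePresentation.of_finiteType.mp inferInstance
  obtain ⟨𝔭, h𝔭⟩ : ∃ 𝔭 : Ideal A, 𝔭 = (maximalIdeal Λ).comap (algebraMap A Λ) := ⟨_, rfl⟩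
  haveI h𝔭prime : 𝔭.IsPrime := by rw [h𝔭]; infer_instance
  have hmem𝔭 : ∀ x, x ∈ 𝔭 ↔ algebraMap A Λ x ∈ maximalIdeal Λ := by
    intro x
    rw [h𝔭]
    rfl
  have hsm' : Algebra.IsSmoothAt R 𝔭 := by
    subst h𝔭
    exact hsm
  haveI : Algebra.IsSmoothAt R 𝔭 := hsm'
  have hkerF : RingHom.ker (algebraMap A (ResidueField Λ)) = 𝔭 := by
    ext y
    rw [RingHom.mem_ker, IsScalarTower.algebraMap_apply A Λ (ResidueField Λ), hmem𝔭]
    change residue Λ _ = 0 ↔ _
    exact residue_eq_zero_iff _
  have hπR : π ∈ maximalIdeal R := by rw [hπ]; exact Ideal.mem_span_singleton_self π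
  have hRΛ : ∀ r : R, r ∈ maximalIdeal R → algebraMap R Λ r ∈ maximalIdeal Λ := by
    intro r hr
    rw [mem_maximalIdeal, mem_nonunits_iff] at hr ⊢
    intro hu
    exact hr (isUnit_of_map_unit (algebraMap R Λ) r hu)
  have hR𝔭 : ∀ r : R, r ∈ maximalIdeal R → algebraMap R A r ∈ 𝔭 := by
    intro r hr
    rw [hmem𝔭, ← IsScalarTower.algebraMap_apply]
    exact hRΛ r hr
  -- `R → A_𝔭` is local
  haveI hloc : IsLocalHom (algebraMap R (Localization.AtPrime 𝔭)) := by
    constructor
    intro r hr
    by_contra hnu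
    have h1 : r ∈ maximalIdeal R := (mem_maximalIdeal r).mpr hnu
    have h2 := (IsLocalization.AtPrime.to_map_mem_maximal_iff (Localization.AtPrime 𝔭) 𝔭
      (algebraMap R A r)).mpr (hR𝔭 r h1)
    rw [← IsScalarTower.algebraMap_apply] at h2
    exact (mem_maximalIdeal _).mp h2 hr
  -- `A_𝔭 → Λ`
  have hunits : ∀ s : 𝔭.primeCompl, IsUnit (algebraMap A Λ (s : A)) := by
    intro s
    by_contra hnu
    exact s.2 ((hmem𝔭 _).mpr ((mem_maximalIdeal _).mpr hnu))
  letI algPΛ : Algebra (Localization.AtPrime 𝔭) Λ := (IsLocalization.lift hunits).toAlgebra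
  haveI towAPΛ : IsScalarTower A (Localization.AtPrime 𝔭) Λ :=
    IsScalarTower.of_algebraMap_eq (fun x => (IsLocalization.lift_eq hunits x).symm)
  haveI towRPΛ : IsScalarTower R (Localization.AtPrime 𝔭) Λ := by
    refine IsScalarTower.of_algebraMap_eq (fun r => ?_)
    rw [IsScalarTower.algebraMap_apply R A (Localization.AtPrime 𝔭),
      ← IsScalarTower.algebraMap_apply A (Localization.AtPrime 𝔭) Λ,
      ← IsScalarTower.algebraMap_apply R A Λ]
  haveI hlocPΛ : IsLocalHom (algebraMap (Localization.AtPrime 𝔭) Λ) := by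
    constructor
    intro p hp
    obtain ⟨x, s, rfl⟩ := IsLocalization.exists_mk'_eq 𝔭.primeCompl p
    rw [IsLocalization.AtPrime.isUnit_mk'_iff (Localization.AtPrime 𝔭) 𝔭]
    have h1 : algebraMap (Localization.AtPrime 𝔭) Λ (IsLocalization.mk' _ x s) *
        algebraMap A Λ (s : A) = algebraMap A Λ x := by
      rw [IsScalarTower.algebraMap_apply A (Localization.AtPrime 𝔭) Λ,
        IsScalarTower.algebraMap_apply A (Localization.AtPrime 𝔭) Λ x, ← map_mul,
        IsLocalization.mk'_spec]
    have h2 : IsUnit (algebraMap A Λ x) := by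
      rw [← h1]
      exact hp.mul (hunits s)
    intro hx
    exact (mem_maximalIdeal _).mp ((hmem𝔭 x).mp hx) h2
  -- separability of the residue field extension
  let gK₀ : ResidueField (Localization.AtPrime 𝔭) →+* ResidueField Λ :=
    ResidueField.map (algebraMap (Localization.AtPrime 𝔭) Λ)
  let gK : ResidueField (Localization.AtPrime 𝔭) →ₐ[ResidueField R] ResidueField Λ :=
    { gK₀ with
      commutes' := by
        intro k
        obtain ⟨r, rfl⟩ := residue_surjective k
        have e1 : algebraMap (ResidueField R) (ResidueField (Localization.AtPrime 𝔭))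
            (residue R r) = residue _ (algebraMap R (Localization.AtPrime 𝔭) r) := rfl
        have e2 : algebraMap (ResidueField R) (ResidueField Λ) (residue R r) =
            residue _ (algebraMap R Λ r) := rfl
        change gK₀ _ = _
        rw [e1, e2, ResidueField.map_residue, ← IsScalarTower.algebraMap_apply] }
  haveI : Algebra.IsGeometricallyReduced (ResidueField R)
      (ResidueField (Localization.AtPrime 𝔭)) :=
    Algebra.IsGeometricallyReduced.of_injective gK gK.injective
  haveI : Algebra.FormallySmooth (ResidueField R) (ResidueField (Localization.AtPrime 𝔭)) :=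
    (Groth.Agent.Lib.Helper23.FieldSep.formallySmooth_iff_isGeometricallyReduced _ _).mpr
      inferInstance
  -- parameters
  obtain ⟨c, f, hf𝔭, hli, hgenf⟩ := NB2.exists_parameters (R := R) 𝔭 π hπ (ResidueField Λ) hkerF
  have hdiv' : ∀ i, ∃ y : A', algebraMap R A' π * y = algebraMap A A' (f i) := fun i =>
    hdiv (f i) ((hmem𝔭 _).mp (hf𝔭 i))
  choose y hy using hdiv'
  have hπΛ : algebraMap A' Λ (algebraMap R A' π) = algebraMap R Λ π := by
    rw [IsScalarTower.algebraMap_apply R A A', ← IsScalarTower.algebraMap_apply A A' Λ,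
      ← IsScalarTower.algebraMap_apply R A Λ]
  have hπF : algebraMap A' (ResidueField Λ) (algebraMap R A' π) = 0 := by
    rw [IsScalarTower.algebraMap_apply A' Λ (ResidueField Λ), hπΛ]
    change residue Λ _ = 0
    rw [residue_eq_zero_iff]
    exact hRΛ π hπR
  have hgen' : Algebra.adjoin A {y : A' | ∃ x ∈ 𝔭, algebraMap R A' π * y = algebraMap A A' x} =
      ⊤ := by
    rw [h𝔭]; exact hgen
  have hspecial := NB4.finrank_le (R := R) (F := ResidueField Λ) 𝔭 hkerF π hπF hnzd hgen' f hli
    hgenf y hy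
  -- the generic fibre
  have hπ0 : π ≠ 0 := by
    intro h0
    have h1 : maximalIdeal R = (⊥ : Ideal R) := by
      rw [hπ, h0]
      exact Ideal.span_singleton_eq_bot.mpr rfl
    exact IsDiscreteValuationRing.not_a_field R h1
  have ha : algebraMap A Λ (algebraMap R A π) ≠ 0 := by
    rw [← IsScalarTower.algebraMap_apply]
    intro h0
    exact hπ0 ((map_eq_zero_iff _ (FaithfulSMul.algebraMap_injective R Λ)).mp h0)
  have hu : IsUnit (((algebraMap Λ (FractionRing Λ)).comp (algebraMap A' Λ))
      (algebraMap A A' (algebraMap R A π))) := by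
    rw [isUnit_iff_ne_zero, RingHom.comp_apply, ← IsScalarTower.algebraMap_apply A A' Λ]
    intro h0
    exact ha ((map_eq_zero_iff _ (IsFractionRing.injective Λ (FractionRing Λ))).mp h0)
  let χ : B →+* FractionRing Λ :=
    IsLocalization.Away.lift (algebraMap A A' (algebraMap R A π)) hu
  have hχ' : ∀ x' : A', χ (algebraMap A' B x') =
      algebraMap Λ (FractionRing Λ) (algebraMap A' Λ x') := fun x' =>
    IsLocalization.Away.lift_eq (algebraMap A A' (algebraMap R A π)) hu x'
  have hχ : ∀ x : A, χ (algebraMap A B x) =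
      algebraMap Λ (FractionRing Λ) (algebraMap A Λ x) := by
    intro x
    rw [IsScalarTower.algebraMap_apply A A' B, hχ', ← IsScalarTower.algebraMap_apply A A' Λ]
  letI algBL : Algebra B (FractionRing Λ) := χ.toAlgebra
  haveI : IsScalarTower A B (FractionRing Λ) := by
    refine IsScalarTower.of_algebraMap_eq (fun x => ?_)
    rw [IsScalarTower.algebraMap_apply A Λ (FractionRing Λ)]
    exact (hχ x).symm
  haveI : IsScalarTower A' B (FractionRing Λ) := by
    refine IsScalarTower.of_algebraMap_eq (fun x => ?_)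
    rw [IsScalarTower.algebraMap_apply A' Λ (FractionRing Λ)]
    exact (hχ' x).symm
  have hgeneric := NB5.finrank_le (R := R) (A := A) (A' := A') (L := FractionRing Λ) B
    (algebraMap R A π)
  -- freeness of `Λ ⊗ Ω_A`
  have hMfree : Module.Free Λ (Λ ⊗[A] Ω[A⁄R]) := by
    obtain ⟨hfreeP, hfinP⟩ := free_finite_kaehler_localization (R := R) 𝔭
    haveI : Algebra.FormallyEtale A (Localization.AtPrime 𝔭) :=
      Algebra.FormallyEtale.of_isLocalization (Rₘ := Localization.AtPrime 𝔭) 𝔭.primeCompl
    haveI : Module.Free (Localization.AtPrime 𝔭) (Localization.AtPrime 𝔭 ⊗[A] Ω[A⁄R]) :=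
      Module.Free.of_equiv (tensorKaehlerEquivOfFormallyEtale R A (Localization.AtPrime 𝔭)).symm
    haveI : Module.Free Λ (Λ ⊗[Localization.AtPrime 𝔭] (Localization.AtPrime 𝔭 ⊗[A] Ω[A⁄R])) :=
      inferInstance
    exact Module.Free.of_equiv
      (AlgebraTensorModule.cancelBaseChange A (Localization.AtPrime 𝔭) Λ Λ Ω[A⁄R])
  have hfree := NB5.free_of_le (R := R) (A := A) (A' := A') (Λ := Λ) hMfree hspecial hgeneric
  -- smoothness at the generic point
  haveI : (RingHom.ker (algebraMap A' Λ)).IsPrime := RingHom.ker_isPrime _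
  have h𝔭le : RingHom.ker (algebraMap A Λ) ≤ 𝔭 := by
    intro x hx
    rw [hmem𝔭, RingHom.mem_ker.mp hx]
    exact zero_mem _
  have hq' := NB6.isSmoothAt_ker (R := R) (A := A) (A' := A') (Λ := Λ) B (algebraMap R A π) ha 𝔭
    h𝔭le hsm'
  exact SQ4.main6841 hq' hfree

end Groth.Agent.Lib.Helper8.NB7
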