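import Mathlib
import Groth.Prelude.Def_BlowUp2
import Groth.Agent.Lib.Helper8.NB7
import Groth.Agent.Lib.Helper25.AffineBlowupAlg

set_option backward.isDefEq.respectTransparency.types false
set_option synthInstance.maxHeartbeats 400000
set_option autoImplicit false
set_option linter.unusedSectionVars false
set_option linter.style.haveILetI false

universe u
open TensorProduct IsLocalRing KaehlerDifferential

namespace Groth.Agent.Lib.Helper8.NB8

open Groth.Agent.Lib.Helper25.ReesAway

section aba

variable {A : Type u} [CommRing A] (I : Ideal A) (a : A)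

theorem fg_affineAlgebra [IsNoetherianRing A] : (BlowUp.affineAlgebra A I a).FG := by
  classical
  obtain ⟨s, hs⟩ := (IsNoetherian.noetherian I : I.FG)
  obtain ⟨u, hu⟩ : ∃ u : Localization.Away a, u =
      IsLocalization.mk' (Localization.Away a) (1 : A) ⟨a, Submonoid.mem_powers a⟩ := ⟨_, rfl⟩
  have hxu : ∀ x : A, x • u =
      IsLocalization.mk' (Localization.Away a) x ⟨a, Submonoid.mem_powers a⟩ := by
    intro x
    rw [hu, IsLocalization.smul_mk'_one]
  refine ⟨s.image (fun x => x • u), ?_⟩
  apply le_antisymm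
  · rw [Algebra.adjoin_le_iff]
    intro q hq
    rw [Finset.coe_image] at hq
    obtain ⟨x, hx, rfl⟩ := hq
    have hxI : x ∈ I := by rw [← hs]; exact Submodule.subset_span hx
    rw [SetLike.mem_coe]
    unfold BlowUp.affineAlgebra
    exact Algebra.subset_adjoin ⟨x, hxI, hxu x⟩
  · unfold BlowUp.affineAlgebra
    rw [Algebra.adjoin_le_iff]
    rintro q ⟨x, hx, rfl⟩
    rw [← hxu, SetLike.mem_coe]
    rw [← hs] at hx
    induction hx using Submodule.span_induction with
    | mem y hy =>
      exact Algebra.subset_adjoin (Finset.mem_coe.mpr (Finset.mem_image_of_mem _ hy))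
    | zero => rw [zero_smul]; exact zero_mem _
    | add y z _ _ hy hz => rw [add_smul]; exact add_mem hy hz
    | smul r y _ hy =>
      rw [smul_assoc]
      exact Subalgebra.smul_mem _ hy r

instance isLocalization_aba :
    IsLocalization.Away (algebraMap A (BlowUp.affineAlgebra A I a) a) (Localization.Away a) := by
  have hmap : ∀ x : A, algebraMap (BlowUp.affineAlgebra A I a) (Localization.Away a)
      (algebraMap A (BlowUp.affineAlgebra A I a) x) = algebraMap A (Localization.Away a) x :=
    fun x => rfl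
  refine IsLocalization'.mk ⟨?_, ?_, ?_⟩
  · rintro ⟨_, n, rfl⟩
    rw [map_pow, hmap]
    exact (IsLocalization.Away.algebraMap_isUnit a).pow n
  · intro b
    obtain ⟨⟨x, ⟨_, n, rfl⟩⟩, h⟩ := IsLocalization.surj (Submonoid.powers a) b
    refine ⟨(algebraMap A (BlowUp.affineAlgebra A I a) x,
      ⟨algebraMap A (BlowUp.affineAlgebra A I a) a ^ n, n, rfl⟩), ?_⟩
    simp only [map_pow, hmap]
    simpa using h
  · intro x y h
    exact ⟨1, by rw [Subtype.ext h]⟩

theorem adjoin_eq_top (r : BlowUp.affineAlgebra A I a)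
    (hr : r = algebraMap A (BlowUp.affineAlgebra A I a) a) :
    Algebra.adjoin A {y : BlowUp.affineAlgebra A I a | ∃ x ∈ I,
      r * y = algebraMap A (BlowUp.affineAlgebra A I a) x} = ⊤ := by
  rw [eq_top_iff]
  rintro ⟨b, hb⟩ -
  have hb' : b ∈ Algebra.adjoin A {q : Localization.Away a | ∃ x ∈ I,
      q = IsLocalization.mk' (Localization.Away a) x ⟨a, Submonoid.mem_powers a⟩} := hb
  have key : ∀ (b : Localization.Away a) (hb : b ∈ Algebra.adjoin A
      {q : Localization.Away a | ∃ x ∈ I,
        q = IsLocalization.mk' (Localization.Away a) x ⟨a, Submonoid.mem_powers a⟩}),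
      (⟨b, hb⟩ : BlowUp.affineAlgebra A I a) ∈ Algebra.adjoin A
        {y : BlowUp.affineAlgebra A I a | ∃ x ∈ I,
          r * y = algebraMap A (BlowUp.affineAlgebra A I a) x} := by
    intro b hb
    induction hb using Algebra.adjoin_induction with
    | mem q hq =>
      obtain ⟨x, hx, rfl⟩ := hq
      refine Algebra.subset_adjoin ⟨x, hx, ?_⟩
      rw [hr]
      exact algebraMap_mul_abaFrac I a x hx
    | algebraMap x => exact Subalgebra.algebraMap_mem _ x
    | add u v hu hv h1 h2 => exact add_mem h1 h2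
    | mul u v hu hv h1 h2 => exact mul_mem h1 h2
  exact key b hb'

end aba

theorem main6861 {R Λ A : Type u} [CommRing R] [IsDomain R]
    [IsDiscreteValuationRing R] [CommRing Λ] [IsDomain Λ] [IsDiscreteValuationRing Λ] [Algebra R Λ]
    [NoZeroSMulDivisors R Λ] [IsLocalHom (algebraMap R Λ)]
    (hsep : Algebra.IsGeometricallyReduced (IsLocalRing.ResidueField R)
      (IsLocalRing.ResidueField Λ))
    [CommRing A] [Algebra R A] [Algebra.FiniteType R A] [Algebra A Λ]
    [IsScalarTower R A Λ]
    (π : R) (hπ : IsLocalRing.maximalIdeal R = Ideal.span {π})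
    (hsm : Algebra.IsSmoothAt R ((IsLocalRing.maximalIdeal Λ).comap (algebraMap A Λ)))
    (φ' : BlowUp.affineAlgebra A ((IsLocalRing.maximalIdeal Λ).comap (algebraMap A Λ))
      (algebraMap R A π) →ₐ[A] Λ) :
    Algebra.IsSmoothAt R ((IsLocalRing.maximalIdeal Λ).comap φ'.toRingHom) := by
  haveI : IsNoetherianRing A := Algebra.FiniteType.isNoetherianRing R A
  letI algA'Λ : Algebra (BlowUp.affineAlgebra A ((IsLocalRing.maximalIdeal Λ).comap
      (algebraMap A Λ)) (algebraMap R A π)) Λ := φ'.toRingHom.toAlgebra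
  haveI : IsScalarTower A (BlowUp.affineAlgebra A ((IsLocalRing.maximalIdeal Λ).comap
      (algebraMap A Λ)) (algebraMap R A π)) Λ :=
    IsScalarTower.of_algebraMap_eq (fun x => (φ'.commutes x).symm)
  haveI : Algebra.FiniteType A (BlowUp.affineAlgebra A ((IsLocalRing.maximalIdeal Λ).comap
      (algebraMap A Λ)) (algebraMap R A π)) :=
    (Subalgebra.fg_iff_finiteType _).mp (fg_affineAlgebra _ _)
  haveI : Algebra.FiniteType R (BlowUp.affineAlgebra A ((IsLocalRing.maximalIdeal Λ).comap
      (algebraMap A Λ)) (algebraMap R A π)) :=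
    Algebra.FiniteType.trans (S := A) inferInstance inferInstance
  have hRA' : algebraMap R (BlowUp.affineAlgebra A ((IsLocalRing.maximalIdeal Λ).comap
      (algebraMap A Λ)) (algebraMap R A π)) π =
      algebraMap A (BlowUp.affineAlgebra A ((IsLocalRing.maximalIdeal Λ).comap
      (algebraMap A Λ)) (algebraMap R A π)) (algebraMap R A π) :=
    IsScalarTower.algebraMap_apply R A _ π
  refine NB7.core (R := R) (Λ := Λ) (A := A) (Localization.Away (algebraMap R A π)) hsep π hπ hsm
    ?_ ?_ ?_
  · intro z hz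
    rw [hRA'] at hz
    have h1 := algebraMap_mem_nonZeroDivisors_aba ((IsLocalRing.maximalIdeal Λ).comap
      (algebraMap A Λ)) (algebraMap R A π)
    exact (mem_nonZeroDivisors_iff.mp h1).1 z hz
  · intro x hx
    refine ⟨abaFrac _ (algebraMap R A π) x hx, ?_⟩
    rw [hRA']
    exact algebraMap_mul_abaFrac _ _ x hx
  · exact adjoin_eq_top _ _ _ hRA'

end Groth.Agent.Lib.Helper8.NB8
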