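import Mathlib
import Groth.Prelude.Def_Smoothing
import Groth.Agent.Lib.Helper8.BG1
import Groth.Agent.Lib.Helper8.FN6
import Groth.Agent.Lib.Helper8.FN7
import Groth.Agent.Lib.Helper8.FN1
import Groth.Agent.Lib.Helper8.RS4

set_option backward.isDefEq.respectTransparency.types false
set_option autoImplicit false
set_option linter.unusedSectionVars false
set_option linter.style.haveILetI false

/-!
# Reduction modulo a power of one parameter
-/

namespace Groth.Agent.Lib.Helper8.NI2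

open Smoothing Groth.Agent.Lib.Helper8

universe u

/-- the algebra `C` over a general Noetherian base -/
theorem partA_gen {R B : Type u} [CommRing R] [IsNoetherianRing R] [CommRing B] [Algebra R B]
    [Algebra.FinitePresentation R B] :
    ∃ (C : Type u) (_ : CommRing C) (_ : Algebra B C) (_ : Algebra R C) (_ : IsScalarTower R B C),
      Algebra.FinitePresentation R C ∧ Nonempty (C →ₐ[B] B) ∧
      (∀ b ∈ singularIdeal R B, algebraMap B C b ∈ singularIdeal R C) ∧
      (∀ b ∈ singularIdeal R B, ∃ e₀ : ℕ, ∀ m : ℕ, e₀ ≤ m →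
        IsStrictlyStandard R C (algebraMap B C b ^ m)) := by
  obtain ⟨C, _, algBC, algRC, tower, hft, hret, hC⟩ := SymK5.main2110' (R := R) (A := B)
  haveI := hft
  haveI hfp : Algebra.FinitePresentation R C := by
    haveI : Algebra.FiniteType R C :=
      Algebra.FiniteType.trans (S := B) inferInstance inferInstance
    exact Algebra.FinitePresentation.of_finiteType.mp inferInstance
  refine ⟨C, inferInstance, algBC, algRC, tower, hfp, hret, ?_, ?_⟩
  · intro b hb
    rw [SI1.mem_singularIdeal_iff] at hb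
    exact FN6.mem_singularIdeal_of_formallySmooth _ (hC b hb).1
  · intro b hb
    rw [SI1.mem_singularIdeal_iff] at hb
    obtain ⟨h2, h3⟩ := hC _ hb
    exact FN6.exists_pow_std _ h2 h3

theorem indSmooth_quot_gen {R T : Type u} [CommRing R] [IsNoetherianRing R] [CommRing T]
    [Algebra R T] [Module.Flat R T] (𝔪 K : Ideal R) [𝔪.IsMaximal] (hK1 : K ≤ 𝔪)
    (hrad : 𝔪 ≤ K.radical) (h' : IndSmooth (R ⧸ 𝔪) (T ⧸ 𝔪.map (algebraMap R T))) :
    IndSmooth (R ⧸ K) (T ⧸ K.map (algebraMap R T)) := by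
  haveI := IS2.flat_quotient (R := R) (Λ := T) K
  have h2 := IS2.indSmooth_doubleQuot K _ hK1 h'
  have hnil : IsNilpotent (𝔪.map (Ideal.Quotient.mk K)) := by
    have hfg : (𝔪.map (Ideal.Quotient.mk K)).FG := IsNoetherian.noetherian _
    rw [hfg.isNilpotent_iff_le_nilradical]
    exact le_of_eq (FN1.nilradical_quotient _ K hK1 hrad).1.symm
  exact IS2.main2022 _ hnil h2

theorem ann_nzd {P : Type*} [CommRing P] (q : Fin 1 → P) (hq : ∀ x : P, q 0 * x = 0 → x = 0)
    (i : Fin 1)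
    (x : P ⧸ Ideal.span (Set.range fun j : {j : Fin 1 // (j : ℕ) < (i : ℕ)} => q j ^ 8))
    (hx : Ideal.Quotient.mk _ (q i) ^ 2 * x = 0) : Ideal.Quotient.mk _ (q i) * x = 0 := by
  obtain ⟨y, rfl⟩ := Ideal.Quotient.mk_surjective x
  have hi : i = 0 := Subsingleton.elim _ _
  subst hi
  have hJ : Ideal.span (Set.range fun j : {j : Fin 1 // (j : ℕ) < ((0 : Fin 1) : ℕ)} => q j ^ 8) =
      ⊥ := by
    rw [Ideal.span_eq_bot]
    rintro _ ⟨⟨j, hj⟩, rfl⟩
    exact absurd hj (Nat.not_lt_zero _)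
  rw [← map_pow, ← map_mul, Ideal.Quotient.eq_zero_iff_mem, hJ, Ideal.mem_bot] at hx
  rw [← map_mul, Ideal.Quotient.eq_zero_iff_mem, hJ, Ideal.mem_bot]
  apply hq
  rw [← mul_assoc, ← pow_two]
  exact hx

theorem pow_nzd {P : Type*} [CommRing P] (π : P) (hπ : ∀ x : P, π * x = 0 → x = 0) (c : ℕ)
    (x : P) (hx : π ^ c * x = 0) : x = 0 := by
  induction c with
  | zero => rwa [pow_zero, one_mul] at hx
  | succ c ih =>
    apply ih
    apply hπ
    rw [← mul_assoc, ← pow_succ']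
    exact hx

/-- reduction of a problem modulo a power of a parameter `π` -/
theorem one_param {R A Λ : Type u} [CommRing R] [IsNoetherianRing R] [CommRing A] [Algebra R A]
    [Algebra.FinitePresentation R A] [CommRing Λ] [Algebra R Λ] (φ : A →ₐ[R] Λ) (𝔮 : Ideal Λ)
    [𝔮.IsPrime] (π : R) (hπ𝔮 : algebraMap R Λ π ∈ 𝔮)
    (hR : ∀ x : R, π * x = 0 → x = 0) (hΛ : ∀ y : Λ, algebraMap R Λ π * y = 0 → y = 0) (n : ℕ)
    (hpow : algebraMap R Λ π ^ n ∈ (singularIdeal R A).map φ)
    (hart : ∀ c : ℕ, 0 < c → ∀ (C : Type u) [CommRing C] [Algebra R C]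
      [Algebra.FinitePresentation R C]
      (φK : (C ⧸ (Ideal.span {(π ^ c) ^ 8}).map (algebraMap R C)) →ₐ[R ⧸ Ideal.span {(π ^ c) ^ 8}]
        (Λ ⧸ (Ideal.span {(π ^ c) ^ 8}).map (algebraMap R Λ))),
      Resolvable (R ⧸ Ideal.span {(π ^ c) ^ 8}) φK
        (𝔮.map (Ideal.Quotient.mk ((Ideal.span {(π ^ c) ^ 8}).map (algebraMap R Λ))))) :
    Resolvable R φ 𝔮 := by
  classical
  haveI : IsNoetherianRing A := Algebra.FiniteType.isNoetherianRing R A
  obtain ⟨r, a, ha⟩ := (Submodule.fg_iff_exists_fin_generating_family).mp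
    (IsNoetherian.noetherian (singularIdeal R A))
  have ha' : Ideal.span (Set.range a) = singularIdeal R A := ha
  have haH : ∀ j, a j ∈ singularIdeal R A := fun j => ha' ▸ Ideal.subset_span ⟨j, rfl⟩
  have hIspan : (singularIdeal R A).map φ = Ideal.span (Set.range fun j => φ (a j)) := by
    rw [← ha', Ideal.map_span, ← Set.range_comp]
    rfl
  obtain ⟨lam, hlam⟩ : ∃ l : Fin r → Λ, ∑ j, l j * φ (a j) = algebraMap R Λ π ^ n := by
    rw [hIspan] at hpow
    exact (Ideal.mem_span_range_iff_exists_fun).mp hpow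
  have hrel : ∀ i : Fin 1, φ ((fun _ : Fin 1 => algebraMap R A π) i) ^ n =
      ∑ j, (fun (_ : Fin 1) j => lam j) i j * φ (a j) := by
    intro i
    rw [AlgHom.commutes]
    exact hlam.symm
  obtain ⟨C, _, algBC, algRC, tower, hCfp, ⟨ret⟩, hCsing, hCstd⟩ :=
    partA_gen (R := R) (B := BG1.BG 1 r n (fun _ : Fin 1 => algebraMap R A π) a)
  haveI := hCfp
  have hb₀ := BG1.p_mem_singularIdeal R 1 r n (fun _ : Fin 1 => algebraMap R A π) a haH 0
  obtain ⟨e₀, he₀⟩ := hCstd _ hb₀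
  have hstd : IsStrictlyStandard R C (algebraMap R C (π ^ (e₀ + 1))) := by
    have := he₀ (e₀ + 1) (Nat.le_succ _)
    rw [map_pow, IsScalarTower.algebraMap_apply R
      (BG1.BG 1 r n (fun _ : Fin 1 => algebraMap R A π) a) C]
    exact this
  let ψB := BG1.psiB R 1 r n (fun _ : Fin 1 => algebraMap R A π) a φ (fun _ j => lam j) hrel
  let φC : C →ₐ[R] Λ := ψB.comp (ret.restrictScalars R)
  let gC : A →ₐ[R] C :=
    (IsScalarTower.toAlgHom R (BG1.BG 1 r n (fun _ : Fin 1 => algebraMap R A π) a) C).comp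
      (BG1.inclBₐ R 1 r n (fun _ : Fin 1 => algebraMap R A π) a)
  have hcomp : ∀ a₀, φC (gC a₀) = φ a₀ := by
    intro a₀
    show ψB (ret (algebraMap (BG1.BG 1 r n (fun _ : Fin 1 => algebraMap R A π) a) C
      (BG1.inclB 1 r n (fun _ : Fin 1 => algebraMap R A π) a a₀))) = φ a₀
    rw [AlgHom.commutes]
    exact BG1.psiB_inclB R 1 r n _ a φ (fun _ j => lam j) hrel a₀
  have hH : singRad R φ ≤ singRad R φC := by
    have h1 : (singularIdeal R A).map φ ≤ singRad R φC := by
      rw [Ideal.map_le_iff_le_comap]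
      intro a₀ ha₀
      rw [Ideal.mem_comap]
      apply Ideal.le_radical
      rw [← hcomp a₀]
      apply Ideal.mem_map_of_mem
      exact hCsing _ (BG1.inclB_mem_singularIdeal R 1 r n _ a haH a₀ (by rw [ha']; exact ha₀))
    have h2 := Ideal.radical_mono h1
    have h3 : (singRad R φC).radical = singRad R φC := Ideal.radical_idem _
    rw [h3] at h2
    exact h2
  obtain ⟨φK, hφK⟩ := FN7.exists_phiK φC (Ideal.span {(π ^ (e₀ + 1)) ^ 8})
  have hres' := hart (e₀ + 1) (Nat.succ_pos _) C φK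
  have hK : Ideal.span {(π ^ (e₀ + 1)) ^ 8} =
      Ideal.span (Set.range fun i : Fin 1 => (fun _ : Fin 1 => π ^ (e₀ + 1)) i ^ 8) := by
    rw [Set.range_const]
  have hresC : Resolvable R φC 𝔮 := by
    refine RS4.main6822 φC 𝔮 Nat.one_pos (fun _ : Fin 1 => π ^ (e₀ + 1)) ?_ ?_ ?_ (fun _ => hstd)
      _ hK φK hφK hres'
    · intro i
      show algebraMap R Λ (π ^ (e₀ + 1)) ∈ 𝔮
      rw [map_pow]
      exact Ideal.pow_mem_of_mem _ hπ𝔮 _ (Nat.succ_pos _)
    · intro i x hx
      exact ann_nzd (fun _ : Fin 1 => π ^ (e₀ + 1)) (pow_nzd π hR _) i x hx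
    · intro i x hx
      refine ann_nzd (fun _ : Fin 1 => algebraMap R Λ (π ^ (e₀ + 1))) ?_ i x hx
      intro y hy
      rw [map_pow] at hy
      exact pow_nzd _ hΛ _ y hy
  obtain ⟨D, _, _, hDfp, g', h', hh'g', hsr, hnot⟩ := hresC
  refine ⟨D, inferInstance, inferInstance, hDfp, g'.comp gC, h', ?_, hH.trans hsr, hnot⟩
  ext a₀
  show h' (g' (gC a₀)) = φ a₀
  rw [← hcomp]
  exact DFunLike.congr_fun hh'g' (gC a₀)

end Groth.Agent.Lib.Helper8.NI2
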