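import Mathlib
import Groth.Prelude.Def_Smoothing
import Groth.Agent.Lib.Helper8.NI1
import Groth.Agent.Lib.Helper8.NI2
import Groth.Agent.Lib.Helper8.GS1
import Groth.Agent.Lib.Helper8.AZ1

set_option backward.isDefEq.respectTransparency.types false
set_option autoImplicit false
set_option linter.unusedSectionVars false
set_option linter.style.haveILetI false

/-!
# Extensions of discrete valuation rings of ramification index one
-/

namespace Groth.Agent.Lib.Helper8.NI3

open Smoothing IsLocalRing Groth.Agent.Lib.Helper8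

universe u

theorem resolvable_bot {R Λ K L : Type u} [CommRing R] [IsDomain R] [IsNoetherianRing R]
    [CommRing Λ] [IsDomain Λ] [Algebra R Λ] (hinj : Function.Injective (algebraMap R Λ))
    [Field K] [Algebra R K] [IsFractionRing R K] [Field L] [Algebra Λ L] [IsFractionRing Λ L]
    [Algebra K L] [Algebra R L] [IsScalarTower R K L] [IsScalarTower R Λ L]
    [Algebra.IsGeometricallyReduced K L] {A : Type u} [CommRing A] [Algebra R A]
    [Algebra.FinitePresentation R A] (φ : A →ₐ[R] Λ)
    (hmin : (⊥ : Ideal Λ) ∈ (singRad R φ).minimalPrimes) : Resolvable R φ ⊥ := by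
  haveI : (⊥ : Ideal Λ).IsPrime := Ideal.isPrime_bot
  haveI h1 : IsLocalization.AtPrime K ((⊥ : Ideal Λ).comap (algebraMap R Λ)) := by
    have hs : ((⊥ : Ideal Λ).comap (algebraMap R Λ)).primeCompl = nonZeroDivisors R := by
      ext x
      rw [mem_nonZeroDivisors_iff_ne_zero]
      show x ∉ (⊥ : Ideal Λ).comap (algebraMap R Λ) ↔ _
      rw [Ideal.mem_comap, Ideal.mem_bot, map_eq_zero_iff _ hinj]
    show IsLocalization ((⊥ : Ideal Λ).comap (algebraMap R Λ)).primeCompl K
    rw [hs]
    infer_instance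
  haveI h2 : IsLocalization.AtPrime L (⊥ : Ideal Λ) := by
    show IsLocalization (⊥ : Ideal Λ).primeCompl L
    rw [Ideal.primeCompl_bot]
    infer_instance
  refine DZ1.main2034 (Rₚ := K) (Λq := L) φ ⊥ hmin (ringKrullDim_eq_zero_of_field L) ?_
  apply AZ1.resolvable_of_indSmooth (GS1.indSmooth_of_isGeometricallyReduced K L)
  rw [Ideal.map_bot]
  exact bot_ne_top

theorem resolvable_max {R Λ : Type u} [CommRing R] [IsDomain R] [IsDiscreteValuationRing R]
    [CommRing Λ] [IsDomain Λ] [IsDiscreteValuationRing Λ] [Algebra R Λ] [NoZeroSMulDivisors R Λ]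
    [IsLocalHom (algebraMap R Λ)]
    (he : (maximalIdeal R).map (algebraMap R Λ) = maximalIdeal Λ)
    [Algebra.IsGeometricallyReduced (ResidueField R) (ResidueField Λ)]
    {A : Type u} [CommRing A] [Algebra R A] [Algebra.FinitePresentation R A] (φ : A →ₐ[R] Λ)
    (hmin : maximalIdeal Λ ∈ (singRad R φ).minimalPrimes) : Resolvable R φ (maximalIdeal Λ) := by
  classical
  obtain ⟨π, hπ⟩ := IsDiscreteValuationRing.exists_irreducible R
  have h𝔪R : maximalIdeal R = Ideal.span {π} := hπ.maximalIdeal_eq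
  have hinj : Function.Injective (algebraMap R Λ) := FaithfulSMul.algebraMap_injective R Λ
  have h𝔪Λ : maximalIdeal Λ = Ideal.span {algebraMap R Λ π} := by
    rw [← he, h𝔪R, Ideal.map_span, Set.image_singleton]
  have hπΛirr : Irreducible (algebraMap R Λ π) :=
    (IsDiscreteValuationRing.irreducible_iff_uniformizer _).mpr h𝔪Λ
  have hπ0 : π ≠ 0 := hπ.ne_zero
  have hπΛ0 : algebraMap R Λ π ≠ 0 := hπΛirr.ne_zero
  -- the extended singular ideal is nonzero
  have hI0 : (singularIdeal R A).map φ ≠ ⊥ := by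
    intro h0
    have hrad : singRad R φ = ⊥ := by
      unfold singRad
      rw [h0]
      exact Ideal.radical_bot_of_isReduced
    have := hmin.2 ⟨Ideal.isPrime_bot, by rw [hrad]⟩ bot_le
    exact IsDiscreteValuationRing.not_a_field Λ (le_bot_iff.mp this)
  obtain ⟨n, hn⟩ := IsDiscreteValuationRing.ideal_eq_span_pow_irreducible hI0 hπΛirr
  have hpow : algebraMap R Λ π ^ n ∈ (singularIdeal R A).map φ := by
    rw [hn]
    exact Ideal.subset_span rfl
  haveI : Module.Flat R Λ := inferInstance
  -- the residue problem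
  have hres0 : IndSmooth (R ⧸ maximalIdeal R) (Λ ⧸ (maximalIdeal R).map (algebraMap R Λ)) := by
    refine IS2.indSmooth_of_ringEquiv (R := ResidueField R) (Λ := ResidueField Λ)
      (R' := R ⧸ maximalIdeal R) (Λ' := Λ ⧸ (maximalIdeal R).map (algebraMap R Λ))
      (RingEquiv.refl (ResidueField R))
      (Ideal.quotEquivOfEq he.symm) ?_
      (GS1.indSmooth_of_isGeometricallyReduced (ResidueField R) (ResidueField Λ))
    intro x
    obtain ⟨x, rfl⟩ := Ideal.Quotient.mk_surjective x
    rfl
  refine NI2.one_param φ (maximalIdeal Λ) π ?_ ?_ ?_ n hpow ?_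
  · rw [h𝔪Λ]
    exact Ideal.subset_span rfl
  · intro x hx
    exact (mul_eq_zero.mp hx).resolve_left hπ0
  · intro y hy
    exact (mul_eq_zero.mp hy).resolve_left hπΛ0
  · intro c hc C _ _ _ φK
    have hK1 : Ideal.span {(π ^ c) ^ 8} ≤ maximalIdeal R := by
      rw [Ideal.span_le, Set.singleton_subset_iff, SetLike.mem_coe, h𝔪R, ← pow_mul]
      obtain ⟨m, hm⟩ : ∃ m, c * 8 = m + 1 := ⟨c * 8 - 1, by omega⟩
      rw [hm, pow_succ]
      exact Ideal.mul_mem_left _ _ (Ideal.subset_span rfl)
    have hrad : maximalIdeal R ≤ (Ideal.span {(π ^ c) ^ 8}).radical := by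
      rw [h𝔪R, Ideal.span_le, Set.singleton_subset_iff]
      exact ⟨c * 8, by rw [pow_mul]; exact Ideal.subset_span rfl⟩
    have hind := NI2.indSmooth_quot_gen (T := Λ) (maximalIdeal R) _ hK1 hrad hres0
    apply AZ1.resolvable_of_indSmooth hind
    intro htop
    have hKq : (Ideal.span {(π ^ c) ^ 8}).map (algebraMap R Λ) ≤ maximalIdeal Λ := by
      rw [← he]
      exact Ideal.map_mono hK1
    have hcm := RS2.comap_map_eq (Ideal.Quotient.mk ((Ideal.span {(π ^ c) ^ 8}).map
      (algebraMap R Λ))) Ideal.Quotient.mk_surjective (maximalIdeal Λ)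
      (by rw [Ideal.mk_ker]; exact hKq)
    rw [htop, Ideal.comap_top] at hcm
    exact (maximalIdeal.isMaximal Λ).ne_top hcm.symm

theorem main6830 {R Λ K L : Type u} [CommRing R] [IsDomain R]
    [IsDiscreteValuationRing R] [CommRing Λ] [IsDomain Λ] [IsDiscreteValuationRing Λ] [Algebra R Λ]
    [NoZeroSMulDivisors R Λ] [IsLocalHom (algebraMap R Λ)]
    (he : (IsLocalRing.maximalIdeal R).map (algebraMap R Λ) = IsLocalRing.maximalIdeal Λ)
    [Algebra.IsGeometricallyReduced (IsLocalRing.ResidueField R) (IsLocalRing.ResidueField Λ)]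
    [Field K] [Algebra R K] [IsFractionRing R K] [Field L] [Algebra Λ L] [IsFractionRing Λ L]
    [Algebra K L] [Algebra R L] [IsScalarTower R K L] [IsScalarTower R Λ L]
    [Algebra.IsGeometricallyReduced K L] :
    Smoothing.IndSmooth R Λ := by
  apply NI1.indSmooth_of_resolvable
  intro A _ _ _ φ 𝔮 _ hmin
  by_cases h𝔮 : 𝔮 = ⊥
  · subst h𝔮
    exact resolvable_bot (K := K) (L := L) (FaithfulSMul.algebraMap_injective R Λ) φ hmin
  · have h𝔮' : 𝔮 = maximalIdeal Λ :=
      IsLocalRing.eq_maximalIdeal (Ideal.IsPrime.isMaximal inferInstance h𝔮)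
    subst h𝔮'
    exact resolvable_max he φ hmin

end Groth.Agent.Lib.Helper8.NI3
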