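import Mathlib
import Groth.Prelude.Def_QuadSing
import Groth.Agent.Lib.Helper8.Morse15
import Groth.Agent.Lib.Helper8.MO3
import Groth.Agent.Lib.Helper8.CQ1
import Groth.Agent.Lib.Helper8.AA13

set_option backward.isDefEq.respectTransparency.types false
set_option synthInstance.maxHeartbeats 400000
set_option autoImplicit false
set_option linter.unusedSectionVars false
set_option linter.style.haveILetI false

namespace Groth.Agent.Lib.Helper8.NQ1

universe u

open MvPowerSeries Groth.Agent.Lib.Helper8.Morse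

section Hess

variable {k : Type u} [Field k] {N : ℕ}

/-- Hessian entries of a power series at the origin. -/
noncomputable def hess (G : MvPowerSeries (Fin N) k) (i l : Fin N) : k :=
  c1 l (MvPowerSeries.pderiv k i G)

lemma hess_add (u v : MvPowerSeries (Fin N) k) (i l : Fin N) :
    hess (u + v) i l = hess u i l + hess v i l := by
  unfold hess; rw [map_add, c1_add]

lemma hess_sub (u v : MvPowerSeries (Fin N) k) (i l : Fin N) :
    hess (u - v) i l = hess u i l - hess v i l := by
  unfold hess; rw [map_sub, c1_sub]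

lemma hess_sum {ι : Type*} (s : Finset ι) (u : ι → MvPowerSeries (Fin N) k) (i l : Fin N) :
    hess (∑ j ∈ s, u j) i l = ∑ j ∈ s, hess (u j) i l := by
  unfold hess; rw [map_sum, c1_sum]

lemma constantCoeff_pderiv (u : MvPowerSeries (Fin N) k) (i : Fin N) :
    constantCoeff (MvPowerSeries.pderiv k i u) = c1 i u := by
  rw [← coeff_zero_eq_constantCoeff_apply, coeff_pderiv]
  simp [c1]

lemma hess_of_ord3 {E : MvPowerSeries (Fin N) k} (hE : Ord 3 E) (i l : Fin N) :
    hess E i l = 0 :=
  c1_of_ord2 l (Ord.pderiv (s := 2) hE i)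

lemma hess_mul (u v : MvPowerSeries (Fin N) k) (i l : Fin N) :
    hess (u * v) i l = hess u i l * constantCoeff v + c1 i u * c1 l v +
      (c1 l u * c1 i v + constantCoeff u * hess v i l) := by
  unfold hess
  rw [Derivation.leibniz, smul_eq_mul, smul_eq_mul, c1_add, c1_mul, c1_mul,
    constantCoeff_pderiv, constantCoeff_pderiv]
  ring

lemma hess_C_mul (c : k) (u : MvPowerSeries (Fin N) k) (i l : Fin N) :
    hess (C c * u) i l = c * hess u i l := by
  rw [hess_mul]
  have h1 : hess (C c : MvPowerSeries (Fin N) k) i l = 0 := by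
    unfold hess; rw [pderiv_C]; exact c1_of_ord2 l (Ord.zero 2)
  rw [h1, c1_C, c1_C, constantCoeff_C]
  ring

lemma hess_qq_X (Q : Fin N → Fin N → k) (i l : Fin N) :
    hess (qq Q (fun a => X a)) i l = Q i l + Q l i :=
  coeff_single_pderiv_qq Q i l

lemma hess_eq_polar (G : MvPowerSeries (Fin N) k) (hG : VanCyc.NoLowTerms G) (i l : Fin N) :
    hess G i l = VanCyc.polarMatrix (VanCyc.quadPart G) i l := by
  have hE := MO3.quad_decomp G hG.1 hG.2
  have e : G = qq (upQ (VanCyc.quadPart G)) (fun a => X a) +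
      (G - qq (upQ (VanCyc.quadPart G)) (fun a => X a)) := by ring
  conv_lhs => rw [e]
  rw [hess_add, hess_of_ord3 hE, add_zero, hess_qq_X, upQ_gram]

lemma hess_mul_noLow (h G : MvPowerSeries (Fin N) k) (hG : VanCyc.NoLowTerms G) (i l : Fin N) :
    hess (h * G) i l = constantCoeff h * hess G i l := by
  rw [hess_mul, hG.1]
  have h1 : ∀ j, c1 j G = 0 := hG.2
  rw [h1 l, h1 i]
  ring

lemma hess_qq (M : Fin N → Fin N → k) (z : Fin N → MvPowerSeries (Fin N) k)
    (hz : ∀ a, constantCoeff (z a) = 0) (i l : Fin N) :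
    hess (qq M z) i l =
      ∑ a, ∑ b, M a b * (c1 i (z a) * c1 l (z b) + c1 l (z a) * c1 i (z b)) := by
  unfold qq
  rw [hess_sum]
  refine Finset.sum_congr rfl fun a _ => ?_
  rw [hess_sum]
  refine Finset.sum_congr rfl fun b _ => ?_
  rw [mul_assoc, hess_C_mul, hess_mul, hz a, hz b]
  ring

end Hess

section Transfer

open IsLocalRing

variable {k : Type u} [Field k] {N : ℕ}

lemma ord2_of_noLow {G : MvPowerSeries (Fin N) k} (hG : VanCyc.NoLowTerms G) : Ord 2 G := by
  have hE := MO3.quad_decomp G hG.1 hG.2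
  have e : G = qq (upQ (VanCyc.quadPart G)) (fun a => X a) +
      (G - qq (upQ (VanCyc.quadPart G)) (fun a => X a)) := by ring
  rw [e]
  exact (qqX_ord _).add (hE.mono (by omega))

lemma mem_max_iff (u : MvPowerSeries (Fin N) k) :
    u ∈ maximalIdeal (MvPowerSeries (Fin N) k) ↔ constantCoeff u = 0 := by
  rw [← pow_one (maximalIdeal _), CQ1.mem_max_pow_iff]
  constructor
  · intro h
    have := h 0 (by simp)
    simpa using this
  · intro h d hd
    have hd0 : d = 0 := by
      rw [← Finsupp.degree_eq_zero_iff]; omega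
    subst hd0
    simpa using h

lemma span_le_max {G : MvPowerSeries (Fin N) k} (hG : VanCyc.NoLowTerms G) :
    Ideal.span {G} ≤ maximalIdeal (MvPowerSeries (Fin N) k) := by
  rw [Ideal.span_le, Set.singleton_subset_iff, SetLike.mem_coe, mem_max_iff]
  exact hG.1

lemma span_ne_top {G : MvPowerSeries (Fin N) k} (hG : VanCyc.NoLowTerms G) :
    Ideal.span {G} ≠ ⊤ := by
  intro h
  have := span_le_max hG
  rw [h] at this
  exact (maximalIdeal.isMaximal _).ne_top (top_le_iff.mp this)

lemma ord_iff_mem (n : ℕ) (u : MvPowerSeries (Fin N) k) :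
    Ord n u ↔ u ∈ maximalIdeal (MvPowerSeries (Fin N) k) ^ n :=
  (CQ1.mem_max_pow_iff n u).symm

/-- transfer of the quadratic part along an isomorphism of the quotient rings. -/
theorem quad_transfer (g F₁ : MvPowerSeries (Fin N) k) (hg : VanCyc.NoLowTerms g)
    (hF : VanCyc.NoLowTerms F₁)
    (ϑ : (MvPowerSeries (Fin N) k ⧸ Ideal.span {g}) ≃ₐ[k]
      (MvPowerSeries (Fin N) k ⧸ Ideal.span {F₁})) :
    ∃ (L : Matrix (Fin N) (Fin N) k) (h₀ : k), IsUnit L.det ∧
      L.transpose * VanCyc.polarMatrix (VanCyc.quadPart g) * L =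
        h₀ • VanCyc.polarMatrix (VanCyc.quadPart F₁) := by
  classical
  haveI : IsLocalRing (MvPowerSeries (Fin N) k ⧸ Ideal.span {g}) :=
    CP2.quot_local _ (span_ne_top hg)
  haveI : IsLocalRing (MvPowerSeries (Fin N) k ⧸ Ideal.span {F₁}) :=
    CP2.quot_local _ (span_ne_top hF)
  have hm2 : (maximalIdeal (MvPowerSeries (Fin N) k)).map (Ideal.Quotient.mk (Ideal.span {g})) =
      maximalIdeal _ := map_maximalIdeal_of_surjective _ Ideal.Quotient.mk_surjective
  have hm1 : (maximalIdeal (MvPowerSeries (Fin N) k)).map (Ideal.Quotient.mk (Ideal.span {F₁})) =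
      maximalIdeal _ := map_maximalIdeal_of_surjective _ Ideal.Quotient.mk_surjective
  have hϑm : (maximalIdeal (MvPowerSeries (Fin N) k ⧸ Ideal.span {g})).map
      (ϑ.toRingEquiv : _ →+* (MvPowerSeries (Fin N) k ⧸ Ideal.span {F₁})) = maximalIdeal _ :=
    AA13.ringEquiv_map_maximalIdeal ϑ.toRingEquiv
  have hϑpow : ∀ (j : ℕ) (y : MvPowerSeries (Fin N) k ⧸ Ideal.span {g}),
      y ∈ maximalIdeal (MvPowerSeries (Fin N) k ⧸ Ideal.span {g}) ^ j →
      ϑ y ∈ maximalIdeal (MvPowerSeries (Fin N) k ⧸ Ideal.span {F₁}) ^ j := by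
    intro j y hy
    rw [← hϑm, ← Ideal.map_pow]
    exact Ideal.mem_map_of_mem _ hy
  -- lifts
  have hz : ∀ a : Fin N, ∃ z : MvPowerSeries (Fin N) k,
      Ideal.Quotient.mk (Ideal.span {F₁}) z = ϑ (Ideal.Quotient.mk (Ideal.span {g}) (X a)) :=
    fun a => Ideal.Quotient.mk_surjective _
  choose z hz using hz
  have hXm : ∀ a : Fin N, Ideal.Quotient.mk (Ideal.span {g}) (X a) ∈
      maximalIdeal (MvPowerSeries (Fin N) k ⧸ Ideal.span {g}) := by
    intro a
    rw [← hm2]
    apply Ideal.mem_map_of_mem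
    rw [mem_max_iff]
    exact constantCoeff_X a
  have hz0 : ∀ a, constantCoeff (z a) = 0 := by
    intro a
    have h1 := hϑpow 1 _ (by rw [pow_one]; exact hXm a)
    rw [pow_one, ← hz a, ← hm1, Ideal.mem_quotient_iff_mem_sup] at h1
    rw [← mem_max_iff]
    exact (sup_le le_rfl (span_le_max hF)) h1
  let M : Fin N → Fin N → k := upQ (VanCyc.quadPart g)
  -- the quadratic part of `g` is transported
  have hE2 := MO3.quad_decomp g hg.1 hg.2
  have hϑqq : ϑ (Ideal.Quotient.mk (Ideal.span {g}) (qq M (fun a => X a))) =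
      Ideal.Quotient.mk (Ideal.span {F₁}) (qq M z) := by
    unfold qq
    simp only [map_sum, map_mul]
    refine Finset.sum_congr rfl fun a _ => Finset.sum_congr rfl fun b _ => ?_
    rw [hz a, hz b]
    congr 2
    have h1 : Ideal.Quotient.mk (Ideal.span {g}) (C (M a b)) = algebraMap k _ (M a b) := rfl
    have h2 : Ideal.Quotient.mk (Ideal.span {F₁}) (C (M a b)) = algebraMap k _ (M a b) := rfl
    rw [h1, h2, ϑ.commutes]
  have hmem3 : Ideal.Quotient.mk (Ideal.span {g}) (qq M (fun a => X a)) ∈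
      maximalIdeal (MvPowerSeries (Fin N) k ⧸ Ideal.span {g}) ^ 3 := by
    have e1 : Ideal.Quotient.mk (Ideal.span {g}) (qq M (fun a => X a)) =
        Ideal.Quotient.mk (Ideal.span {g}) (-(g - qq M (fun a => X a))) := by
      rw [Ideal.Quotient.eq]
      have : qq M (fun a => X a) - -(g - qq M (fun a => X a)) = g := by ring
      rw [this]
      exact Ideal.subset_span rfl
    rw [e1, ← hm2, ← Ideal.map_pow]
    apply Ideal.mem_map_of_mem
    rw [← ord_iff_mem]
    exact hE2.neg
  have h3 := hϑpow 3 _ hmem3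
  rw [hϑqq, ← hm1, ← Ideal.map_pow, Ideal.mem_quotient_iff_mem_sup] at h3
  obtain ⟨a, ha, v, hv, hav⟩ := Submodule.mem_sup.1 h3
  obtain ⟨h, rfl⟩ := Ideal.mem_span_singleton'.1 hv
  rw [← ord_iff_mem] at ha
  obtain ⟨L, hL⟩ : ∃ L : Matrix (Fin N) (Fin N) k, ∀ a l, L a l = c1 l (z a) :=
    ⟨Matrix.of fun a l => c1 l (z a), fun _ _ => rfl⟩
  refine ⟨L, constantCoeff h, ?_, ?_⟩
  · -- invertibility of the linear part
    have hgen : ∀ l : Fin N, (X l : MvPowerSeries (Fin N) k) ∈
        Ideal.span (Set.range z) ⊔ Ideal.span {F₁} := by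
      intro l
      rw [← Ideal.mem_quotient_iff_mem_sup, Ideal.map_span, ← Set.range_comp]
      have hXl : Ideal.Quotient.mk (Ideal.span {F₁}) (X l) ∈
          maximalIdeal (MvPowerSeries (Fin N) k ⧸ Ideal.span {F₁}) := by
        rw [← hm1]
        apply Ideal.mem_map_of_mem
        rw [mem_max_iff]
        exact constantCoeff_X l
      rw [← hϑm, ← hm2, ← CQ1.span_X_eq_max, Ideal.map_span, Ideal.map_span] at hXl
      have hset : (⇑(ϑ.toRingEquiv : (MvPowerSeries (Fin N) k ⧸ Ideal.span {g}) →+*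
            (MvPowerSeries (Fin N) k ⧸ Ideal.span {F₁}))) ''
          ((⇑(Ideal.Quotient.mk (Ideal.span {g}))) '' Set.range X) =
          Set.range (⇑(Ideal.Quotient.mk (Ideal.span {F₁})) ∘ z) := by
        rw [← Set.range_comp, ← Set.range_comp]
        congr 1
        funext a
        exact (hz a).symm
      rw [hset] at hXl
      exact hXl
    have hB : ∀ l : Fin N, ∃ b : Fin N → k, ∀ l' : Fin N,
        (if l = l' then (1 : k) else 0) = ∑ a, b a * L a l' := by
      intro l
      obtain ⟨u, hu, w, hw, huw⟩ := Submodule.mem_sup.1 (hgen l)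
      obtain ⟨c, rfl⟩ := (Ideal.mem_span_range_iff_exists_fun).1 hu
      obtain ⟨d, rfl⟩ := Ideal.mem_span_singleton'.1 hw
      refine ⟨fun a => constantCoeff (c a), fun l' => ?_⟩
      have h1 := congrArg (c1 l') huw
      rw [c1_add, c1_sum, c1_X, c1_mul, hF.1, mul_zero, zero_add] at h1
      have h2 : c1 l' F₁ = 0 := hF.2 l'
      rw [h2, mul_zero, add_zero] at h1
      rw [← h1]
      refine Finset.sum_congr rfl fun a _ => ?_
      rw [c1_mul, hz0 a, mul_zero, zero_add, hL]
    choose B hB using hB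
    have hBL : (Matrix.of B) * L = 1 := by
      ext l l'
      rw [Matrix.mul_apply, Matrix.one_apply]
      exact (hB l l').symm
    have hdet : (Matrix.of B).det * L.det = 1 := by
      rw [← Matrix.det_mul, hBL, Matrix.det_one]
    exact IsUnit.of_mul_eq_one_right _ hdet
  · have key : ∀ i l, (L.transpose * VanCyc.polarMatrix (VanCyc.quadPart g) * L) i l =
        constantCoeff h * VanCyc.polarMatrix (VanCyc.quadPart F₁) i l := by
      intro i l
      have e1 : hess (a + h * F₁) i l = hess (qq M z) i l := by rw [hav]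
      rw [hess_add, hess_of_ord3 ha, zero_add, hess_mul_noLow h F₁ hF, hess_eq_polar F₁ hF,
        hess_qq M z hz0] at e1
      rw [e1, Matrix.mul_apply]
      simp only [Matrix.mul_apply, Matrix.transpose_apply, Finset.sum_mul]
      rw [Finset.sum_comm]
      have hsplit : ∑ a, ∑ b, M a b * (c1 i (z a) * c1 l (z b) + c1 l (z a) * c1 i (z b)) =
          ∑ a, ∑ b, (M a b + M b a) * (c1 i (z a) * c1 l (z b)) := by
        have h1 : ∑ a, ∑ b, M a b * (c1 i (z a) * c1 l (z b) + c1 l (z a) * c1 i (z b)) =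
            ∑ a, ∑ b, M a b * (c1 i (z a) * c1 l (z b)) +
              ∑ a, ∑ b, M a b * (c1 l (z a) * c1 i (z b)) := by
          rw [← Finset.sum_add_distrib]
          refine Finset.sum_congr rfl fun a _ => ?_
          rw [← Finset.sum_add_distrib]
          refine Finset.sum_congr rfl fun b _ => ?_
          ring
        rw [h1, Finset.sum_comm (f := fun a b => M a b * (c1 l (z a) * c1 i (z b))),
          ← Finset.sum_add_distrib]
        refine Finset.sum_congr rfl fun a _ => ?_
        rw [← Finset.sum_add_distrib]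
        refine Finset.sum_congr rfl fun b _ => ?_
        ring
      rw [hsplit]
      refine Finset.sum_congr rfl fun a _ => Finset.sum_congr rfl fun b _ => ?_
      have : VanCyc.polarMatrix (VanCyc.quadPart g) a b = M a b + M b a := (upQ_gram _ a b).symm
      rw [this, hL, hL]
      ring
    ext i l
    rw [Matrix.smul_apply, smul_eq_mul]
    exact key i l

/-- non-degeneracy of the quadratic part is an invariant of the quotient ring. -/
theorem nondeg_transfer (g F₁ : MvPowerSeries (Fin N) k) (hg : VanCyc.NoLowTerms g)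
    (hF : VanCyc.NoLowTerms F₁)
    (θ : (MvPowerSeries (Fin N) k ⧸ Ideal.span {F₁}) ≃ₐ[k]
      (MvPowerSeries (Fin N) k ⧸ Ideal.span {g}))
    (hnd : VanCyc.QuadNondeg (VanCyc.quadPart g)) : VanCyc.QuadNondeg (VanCyc.quadPart F₁) := by
  obtain ⟨L, h₀, hL, hLH⟩ := quad_transfer g F₁ hg hF θ.symm
  have h1 := congrArg Matrix.det hLH
  rw [Matrix.det_mul, Matrix.det_mul, Matrix.det_transpose, Matrix.det_smul] at h1
  have h2 : IsUnit (h₀ ^ Fintype.card (Fin N) *
      (VanCyc.polarMatrix (VanCyc.quadPart F₁)).det) := by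
    rw [← h1]
    exact (hL.mul hnd).mul hL
  exact isUnit_of_mul_isUnit_right h2

/-- if the partial derivatives generate the maximal ideal modulo `G`, the quadratic part of `G` is
non-degenerate. -/
theorem nondeg_of_span (G : MvPowerSeries (Fin N) k) (hG : VanCyc.NoLowTerms G)
    (h : ∀ l : Fin N, (X l : MvPowerSeries (Fin N) k) ∈
      Ideal.span (Set.range fun j => MvPowerSeries.pderiv k j G) ⊔ Ideal.span {G}) :
    VanCyc.QuadNondeg (VanCyc.quadPart G) := by
  classical
  have hB : ∀ l : Fin N, ∃ b : Fin N → k, ∀ l' : Fin N,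
      (if l = l' then (1 : k) else 0) =
        ∑ a, b a * VanCyc.polarMatrix (VanCyc.quadPart G) a l' := by
    intro l
    obtain ⟨u, hu, w, hw, huw⟩ := Submodule.mem_sup.1 (h l)
    obtain ⟨c, rfl⟩ := (Ideal.mem_span_range_iff_exists_fun).1 hu
    obtain ⟨d, rfl⟩ := Ideal.mem_span_singleton'.1 hw
    refine ⟨fun a => constantCoeff (c a), fun l' => ?_⟩
    have h1 := congrArg (c1 l') huw
    rw [c1_add, c1_sum, c1_X, c1_mul, hG.1, mul_zero, zero_add] at h1
    have h2 : c1 l' G = 0 := hG.2 l'
    rw [h2, mul_zero, add_zero] at h1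
    rw [← h1]
    refine Finset.sum_congr rfl fun a _ => ?_
    rw [c1_mul, constantCoeff_pderiv]
    have h3 : c1 a G = 0 := hG.2 a
    rw [h3, mul_zero, zero_add, ← hess_eq_polar G hG]
    rfl
  choose B hB using hB
  have hBH : (Matrix.of B) * VanCyc.polarMatrix (VanCyc.quadPart G) = 1 := by
    ext l l'
    rw [Matrix.mul_apply, Matrix.one_apply]
    exact (hB l l').symm
  have hdet : (Matrix.of B).det * (VanCyc.polarMatrix (VanCyc.quadPart G)).det = 1 := by
    rw [← Matrix.det_mul, hBH, Matrix.det_one]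
  exact IsUnit.of_mul_eq_one_right _ hdet

end Transfer

end Groth.Agent.Lib.Helper8.NQ1
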