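import Mathlib
import Groth.Prelude.Def_QuadSing
import Groth.Agent.Lib.Helper8.NQ1

set_option backward.isDefEq.respectTransparency.types false
set_option synthInstance.maxHeartbeats 400000
set_option autoImplicit false
set_option linter.unusedSectionVars false
set_option linter.style.haveILetI false

namespace Groth.Agent.Lib.Helper8.NQ2

universe u

open MvPowerSeries Groth.Agent.Lib.Helper8.Morse Groth.Agent.Lib.Helper8.NQ1 IsLocalRing

section Core

variable {k : Type u} [Field k] {m : ℕ} (F : MvPolynomial (Fin (m + 1)) k)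

lemma noLow_coe (hF0 : MvPolynomial.constantCoeff F = 0)
    (hF1 : ∀ j, MvPolynomial.coeff (Finsupp.single j 1) F = 0) :
    VanCyc.NoLowTerms (F : MvPowerSeries (Fin (m + 1)) k) := by
  refine ⟨?_, fun j => ?_⟩
  · rw [← coeff_zero_eq_constantCoeff_apply, MvPolynomial.coeff_coe,
      ← MvPolynomial.constantCoeff_eq, hF0]
  · rw [MvPolynomial.coeff_coe, hF1]

lemma pderiv_mem_vars (hF1 : ∀ j, MvPolynomial.coeff (Finsupp.single j 1) F = 0) (j : Fin (m + 1)) :
    MvPolynomial.pderiv j F ∈ MvPolynomial.idealOfVars (Fin (m + 1)) k := by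
  rw [← pow_one (MvPolynomial.idealOfVars (Fin (m + 1)) k), MvPolynomial.mem_pow_idealOfVars_iff']
  intro d hd
  have hd0 : d = 0 := by
    rw [← Finsupp.degree_eq_zero_iff]; omega
  subst hd0
  rw [MvPolynomial.coeff_pderiv, zero_add, hF1, zero_mul]

/-- the remainder of a partial derivative after removing its linear part -/
lemma pderiv_sub_lin_mem (hF0 : MvPolynomial.constantCoeff F = 0)
    (hF1 : ∀ j, MvPolynomial.coeff (Finsupp.single j 1) F = 0) (j : Fin (m + 1)) :
    MvPolynomial.pderiv j F - ∑ l, MvPolynomial.C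
      (VanCyc.polarMatrix (VanCyc.quadPart (F : MvPowerSeries (Fin (m + 1)) k)) j l) *
        MvPolynomial.X l ∈ MvPolynomial.idealOfVars (Fin (m + 1)) k ^ 2 := by
  classical
  have hG := noLow_coe F hF0 hF1
  set G : MvPowerSeries (Fin (m + 1)) k := (F : MvPowerSeries (Fin (m + 1)) k) with hGdef
  rw [MvPolynomial.mem_pow_idealOfVars_iff']
  intro d hd
  -- pass to power series
  have hcoe : ((MvPolynomial.pderiv j F - ∑ l, MvPolynomial.C
      (VanCyc.polarMatrix (VanCyc.quadPart G) j l) * MvPolynomial.X l :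
        MvPolynomial (Fin (m + 1)) k) : MvPowerSeries (Fin (m + 1)) k) =
      MvPowerSeries.pderiv k j G - ∑ l, C (VanCyc.polarMatrix (VanCyc.quadPart G) j l) * X l := by
    rw [pderiv_coe, ← MvPolynomial.coeToMvPowerSeries.ringHom_apply, map_sub, map_sum]
    congr 1
    refine Finset.sum_congr rfl fun l _ => ?_
    rw [map_mul, MvPolynomial.coeToMvPowerSeries.ringHom_apply,
      MvPolynomial.coeToMvPowerSeries.ringHom_apply, MvPolynomial.coe_C, MvPolynomial.coe_X]
  rw [← MvPolynomial.coeff_coe, hcoe]
  -- jet decomposition of the derivative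
  obtain ⟨Q, g', hg', hdec, -⟩ := exists_jet_decomp (MvPowerSeries.pderiv k j G)
  have hc0 : constantCoeff (MvPowerSeries.pderiv k j G) = 0 := by
    rw [constantCoeff_pderiv]; exact hG.2 j
  have hc1 : ∀ l, c1 l (MvPowerSeries.pderiv k j G) =
      VanCyc.polarMatrix (VanCyc.quadPart G) j l := fun l => hess_eq_polar G hG j l
  have hO : Ord 2 (MvPowerSeries.pderiv k j G -
      ∑ l, C (VanCyc.polarMatrix (VanCyc.quadPart G) j l) * X l) := by
    have e : MvPowerSeries.pderiv k j G -
        ∑ l, C (VanCyc.polarMatrix (VanCyc.quadPart G) j l) * X l =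
        qq Q (fun a => X a) + g' := by
      conv_lhs => rw [hdec]
      rw [hc0, map_zero]
      simp only [hc1]
      ring
    rw [e]
    exact (qqX_ord Q).add (hg'.mono (by omega))
  exact hO d hd

variable {C : Type u} [CommRing C] (π : MvPolynomial (Fin (m + 1)) k →+* C)
  (hπ : Function.Surjective π) (hker : RingHom.ker π = Ideal.span {F})

include hπ hker in
/-- (b) ⇔ (c) of SGA 7 XV 1.2.1 for a hypersurface, at the origin, in generic form. -/
theorem core (hF0 : MvPolynomial.constantCoeff F = 0)
    (hF1 : ∀ j, MvPolynomial.coeff (Finsupp.single j 1) F = 0)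
    (𝔮 : Ideal C) [𝔮.IsPrime]
    (h𝔮 : 𝔮 = (MvPolynomial.idealOfVars (Fin (m + 1)) k).map π)
    (OY : Type u) [CommRing OY] [IsLocalRing OY] [Algebra C OY] [IsLocalization.AtPrime OY 𝔮]
    [Algebra k OY]
    (hk : ∀ r : k, algebraMap k OY r = algebraMap C OY (π (MvPolynomial.C r))) :
    Ideal.map (algebraMap C OY)
        (Ideal.span (Set.range fun j : Fin (m + 1) => π (MvPolynomial.pderiv j F))) =
      maximalIdeal OY ↔ VanCyc.IsNondegQuadSing k OY m := by
  classical
  have hG := noLow_coe F hF0 hF1
  set G : MvPowerSeries (Fin (m + 1)) k := (F : MvPowerSeries (Fin (m + 1)) k) with hGdef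
  obtain ⟨φ, hφ⟩ := CQ1.main F π hπ hker
    (Ideal.Quotient.mk (Ideal.span {G})) Ideal.Quotient.mk_surjective Ideal.mk_ker hF0 𝔮 h𝔮 OY
  -- the algebra isomorphism
  let φA : AdicCompletion (maximalIdeal OY) OY ≃ₐ[k]
      (MvPowerSeries (Fin (m + 1)) k ⧸ Ideal.span {G}) :=
    AlgEquiv.ofRingEquiv (f := φ) (fun r => by
      change φ (algebraMap OY (AdicCompletion (maximalIdeal OY) OY) (algebraMap k OY r)) = _
      rw [hk, hφ, MvPolynomial.coe_C]
      rfl)
  have hmemq : ∀ p ∈ MvPolynomial.idealOfVars (Fin (m + 1)) k,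
      algebraMap C OY (π p) ∈ maximalIdeal OY := by
    intro p hp
    apply (IsLocalization.AtPrime.to_map_mem_maximal_iff OY 𝔮 _).mpr
    rw [h𝔮]
    exact Ideal.mem_map_of_mem _ hp
  have hXvars : ∀ l : Fin (m + 1), (MvPolynomial.X l : MvPolynomial (Fin (m + 1)) k) ∈
      MvPolynomial.idealOfVars (Fin (m + 1)) k := fun l => Ideal.subset_span ⟨l, rfl⟩
  -- both sides are equivalent to non-degeneracy of the quadratic part
  have hA : Ideal.map (algebraMap C OY)
      (Ideal.span (Set.range fun j : Fin (m + 1) => π (MvPolynomial.pderiv j F))) =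
      maximalIdeal OY → VanCyc.QuadNondeg (VanCyc.quadPart G) := by
    intro h
    apply nondeg_of_span G hG
    intro l
    let ρ : OY →+* (MvPowerSeries (Fin (m + 1)) k ⧸ Ideal.span {G}) :=
      (φ : AdicCompletion (maximalIdeal OY) OY →+* _).comp
        (algebraMap OY (AdicCompletion (maximalIdeal OY) OY))
    have hρ : ∀ p, ρ (algebraMap C OY (π p)) =
        Ideal.Quotient.mk (Ideal.span {G}) (p : MvPowerSeries (Fin (m + 1)) k) := fun p => hφ p
    have h1 : algebraMap C OY (π (MvPolynomial.X l)) ∈ Ideal.map (algebraMap C OY)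
        (Ideal.span (Set.range fun j : Fin (m + 1) => π (MvPolynomial.pderiv j F))) := by
      rw [h]; exact hmemq _ (hXvars l)
    have h2 := Ideal.mem_map_of_mem ρ h1
    rw [Ideal.map_map, Ideal.map_span, ← Set.range_comp, hρ, MvPolynomial.coe_X] at h2
    rw [← Ideal.mem_quotient_iff_mem_sup, Ideal.map_span, ← Set.range_comp]
    have hset : Set.range (⇑(ρ.comp (algebraMap C OY)) ∘
        fun j => π (MvPolynomial.pderiv j F)) =
        Set.range (⇑(Ideal.Quotient.mk (Ideal.span {G})) ∘
          fun j => MvPowerSeries.pderiv k j G) := by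
      congr 1
      funext j
      simp only [Function.comp_apply, RingHom.comp_apply]
      rw [hρ, pderiv_coe]
    rw [hset] at h2
    exact h2
  have hB : VanCyc.QuadNondeg (VanCyc.quadPart G) → Ideal.map (algebraMap C OY)
      (Ideal.span (Set.range fun j : Fin (m + 1) => π (MvPolynomial.pderiv j F))) =
      maximalIdeal OY := by
    intro hnd
    have hmaxY : 𝔮.map (algebraMap C OY) = maximalIdeal OY :=
      IsLocalization.AtPrime.map_eq_maximalIdeal 𝔮 OY
    apply le_antisymm
    · rw [Ideal.map_le_iff_le_comap, Ideal.span_le]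
      rintro _ ⟨j, rfl⟩
      exact hmemq _ (pderiv_mem_vars F hF1 j)
    · have hfg : (maximalIdeal OY).FG := by
        rw [← hmaxY, h𝔮, Ideal.map_map]
        exact (MvPolynomial.idealOfVars_fg (Fin (m + 1)) k).map _
      refine Submodule.le_of_le_smul_of_le_jacobson_bot (I := maximalIdeal OY) hfg
        (IsLocalRing.maximalIdeal_le_jacobson _) ?_
      -- generators
      have hgen : maximalIdeal OY = Ideal.span (Set.range fun l : Fin (m + 1) =>
          algebraMap C OY (π (MvPolynomial.X l))) := by
        rw [← hmaxY, h𝔮, Ideal.map_map, Ideal.map_span, ← Set.range_comp]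
        rfl
      conv_lhs => rw [hgen]
      rw [Ideal.span_le]
      rintro _ ⟨l, rfl⟩
      -- the inverse matrix
      set H := VanCyc.polarMatrix (VanCyc.quadPart G) with hH
      have hHu : IsUnit H.det := hnd
      have hinv : H⁻¹ * H = 1 := Matrix.nonsing_inv_mul H hHu
      set r : Fin (m + 1) → MvPolynomial (Fin (m + 1)) k := fun j =>
        MvPolynomial.pderiv j F - ∑ l', MvPolynomial.C (H j l') * MvPolynomial.X l' with hr
      have hrmem : ∀ j, r j ∈ MvPolynomial.idealOfVars (Fin (m + 1)) k ^ 2 :=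
        fun j => pderiv_sub_lin_mem F hF0 hF1 j
      have hXl : (MvPolynomial.X l : MvPolynomial (Fin (m + 1)) k) =
          ∑ j, MvPolynomial.C (H⁻¹ l j) * MvPolynomial.pderiv j F -
            ∑ j, MvPolynomial.C (H⁻¹ l j) * r j := by
        rw [← Finset.sum_sub_distrib]
        have e1 : ∀ j, MvPolynomial.C (H⁻¹ l j) * MvPolynomial.pderiv j F -
            MvPolynomial.C (H⁻¹ l j) * r j =
            ∑ l', MvPolynomial.C (H⁻¹ l j * H j l') * MvPolynomial.X l' := by
          intro j
          simp only [hr]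
          rw [← mul_sub, sub_sub_cancel, Finset.mul_sum]
          refine Finset.sum_congr rfl fun l' _ => ?_
          rw [map_mul]; ring
        simp only [e1]
        rw [Finset.sum_comm]
        have e2 : ∀ l', ∑ j, MvPolynomial.C (H⁻¹ l j * H j l') * MvPolynomial.X l' =
            MvPolynomial.C (if l = l' then (1 : k) else 0) *
              (MvPolynomial.X l' : MvPolynomial (Fin (m + 1)) k) := by
          intro l'
          rw [← Finset.sum_mul, ← map_sum]
          have := congrFun (congrFun hinv l) l'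
          rw [Matrix.mul_apply, Matrix.one_apply] at this
          rw [this]
        simp only [e2]
        rw [Finset.sum_eq_single l]
        · rw [if_pos rfl, map_one, one_mul]
        · intro b _ hb
          rw [if_neg (Ne.symm hb), map_zero, zero_mul]
        · intro h; exact absurd (Finset.mem_univ _) h
      show algebraMap C OY (π (MvPolynomial.X l)) ∈ _
      rw [hXl, map_sub, map_sub]
      refine Submodule.sub_mem _ (Submodule.mem_sup_left ?_) (Submodule.mem_sup_right ?_)
      · rw [map_sum, map_sum]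
        refine Ideal.sum_mem _ fun j _ => ?_
        rw [map_mul, map_mul]
        exact Ideal.mul_mem_left _ _ (Ideal.mem_map_of_mem _ (Ideal.subset_span ⟨j, rfl⟩))
      · rw [map_sum, map_sum]
        refine Submodule.sum_mem _ fun j _ => ?_
        rw [map_mul, map_mul]
        have h3 : algebraMap C OY (π (r j)) ∈ maximalIdeal OY • (maximalIdeal OY : Ideal OY) := by
          rw [smul_eq_mul, ← pow_two, ← hmaxY, h𝔮, Ideal.map_map, ← Ideal.map_pow]
          exact Ideal.mem_map_of_mem _ (hrmem j)
        exact Ideal.mul_mem_left _ _ h3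
  constructor
  · intro h
    exact ⟨G, ⟨hG, hA h⟩, ⟨φA⟩⟩
  · rintro ⟨g, ⟨hg, hgnd⟩, ⟨χ⟩⟩
    apply hB
    exact nondeg_transfer g G hg hG (φA.symm.trans χ) hgnd

end Core

end Groth.Agent.Lib.Helper8.NQ2
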