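import Mathlib
import Groth.Prelude.Def_QuadSing
import Groth.Agent.Lib.Helper8.NQ2

set_option backward.isDefEq.respectTransparency.types false
set_option synthInstance.maxHeartbeats 400000
set_option autoImplicit false
set_option linter.unusedSectionVars false
set_option linter.style.haveILetI false

namespace Groth.Agent.Lib.Helper8.NQ3

universe u

open IsLocalRing

section Translate

variable {k : Type u} [Field k] {N : ℕ} (c : Fin N → k)

/-- translation by `-c` -/
noncomputable def sig : MvPolynomial (Fin N) k →ₐ[k] MvPolynomial (Fin N) k :=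
  MvPolynomial.aeval (fun i => MvPolynomial.X i - MvPolynomial.C (c i))

/-- translation by `c` -/
noncomputable def tau : MvPolynomial (Fin N) k →ₐ[k] MvPolynomial (Fin N) k :=
  MvPolynomial.aeval (fun i => MvPolynomial.X i + MvPolynomial.C (c i))

lemma sig_X (i : Fin N) : sig c (MvPolynomial.X i) = MvPolynomial.X i - MvPolynomial.C (c i) := by
  unfold sig; rw [MvPolynomial.aeval_X]

lemma tau_X (i : Fin N) : tau c (MvPolynomial.X i) = MvPolynomial.X i + MvPolynomial.C (c i) := by
  unfold tau; rw [MvPolynomial.aeval_X]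

lemma sig_C (a : k) : sig c (MvPolynomial.C a) = MvPolynomial.C a := by
  unfold sig; rw [MvPolynomial.aeval_C]; rfl

lemma tau_C (a : k) : tau c (MvPolynomial.C a) = MvPolynomial.C a := by
  unfold tau; rw [MvPolynomial.aeval_C]; rfl

lemma sig_tau (p : MvPolynomial (Fin N) k) : sig c (tau c p) = p := by
  have : (sig c).comp (tau c) = AlgHom.id k _ := by
    apply MvPolynomial.algHom_ext
    intro i
    rw [AlgHom.comp_apply, tau_X, map_add, sig_X, sig_C, AlgHom.id_apply]
    ring
  exact DFunLike.congr_fun this p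

lemma tau_sig (p : MvPolynomial (Fin N) k) : tau c (sig c p) = p := by
  have : (tau c).comp (sig c) = AlgHom.id k _ := by
    apply MvPolynomial.algHom_ext
    intro i
    rw [AlgHom.comp_apply, sig_X, map_sub, tau_X, tau_C, AlgHom.id_apply]
    ring
  exact DFunLike.congr_fun this p

lemma constantCoeff_tau (p : MvPolynomial (Fin N) k) :
    MvPolynomial.constantCoeff (tau c p) = MvPolynomial.aeval c p := by
  have : (MvPolynomial.aeval (fun _ => (0 : k)) : MvPolynomial (Fin N) k →ₐ[k] k).comp (tau c) =
      MvPolynomial.aeval c := by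
    apply MvPolynomial.algHom_ext
    intro i
    rw [AlgHom.comp_apply, tau_X, map_add, MvPolynomial.aeval_X, MvPolynomial.aeval_X,
      MvPolynomial.aeval_C]
    simp
  have h2 := DFunLike.congr_fun this p
  rw [AlgHom.comp_apply] at h2
  rw [← h2, MvPolynomial.constantCoeff_eq, MvPolynomial.aeval_def, MvPolynomial.eval₂_eq_eval_map]
  simp [MvPolynomial.constantCoeff_eq, MvPolynomial.eval_zero']

lemma pderiv_sig (j : Fin N) (p : MvPolynomial (Fin N) k) :
    MvPolynomial.pderiv j (sig c p) = sig c (MvPolynomial.pderiv j p) := by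
  classical
  induction p using MvPolynomial.induction_on with
  | C a => rw [sig_C, MvPolynomial.pderiv_C, map_zero]
  | add p q hp hq => rw [map_add, map_add, map_add, hp, hq, map_add]
  | mul_X p i hp =>
    rw [map_mul, sig_X, Derivation.leibniz, Derivation.leibniz, hp, map_sub,
      MvPolynomial.pderiv_C, sub_zero, MvPolynomial.pderiv_X, map_add, smul_eq_mul, smul_eq_mul,
      smul_eq_mul, smul_eq_mul, map_mul, map_mul, sig_X]
    congr 1
    congr 1
    by_cases h : i = j
    · subst h; simp
    · simp [h]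

lemma mem_vars_iff (q : MvPolynomial (Fin N) k) :
    q ∈ MvPolynomial.idealOfVars (Fin N) k ↔ MvPolynomial.constantCoeff q = 0 := by
  rw [← pow_one (MvPolynomial.idealOfVars (Fin N) k), MvPolynomial.mem_pow_idealOfVars_iff']
  constructor
  · intro h
    rw [MvPolynomial.constantCoeff_eq]
    exact h 0 (by simp)
  · intro h d hd
    have hd0 : d = 0 := by
      rw [← Finsupp.degree_eq_zero_iff]; omega
    subst hd0
    rw [← MvPolynomial.constantCoeff_eq]; exact h

end Translate

section Main

theorem main16255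
    (k : Type u) [Field k] [IsAlgClosed k] (m : ℕ) (f : MvPolynomial (Fin (m + 1)) k)
    (P : Ideal (MvPolynomial (Fin (m + 1)) k ⧸ Ideal.span {f})) [P.IsMaximal]
    (hP : ∀ j : Fin (m + 1), Ideal.Quotient.mk (Ideal.span {f}) (MvPolynomial.pderiv j f) ∈ P) :
    Ideal.map (algebraMap (MvPolynomial (Fin (m + 1)) k ⧸ Ideal.span {f}) (Localization.AtPrime P))
        (Ideal.span (Set.range fun j : Fin (m + 1) =>
          Ideal.Quotient.mk (Ideal.span {f}) (MvPolynomial.pderiv j f))) =
      IsLocalRing.maximalIdeal (Localization.AtPrime P) ↔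
    VanCyc.IsNondegQuadSing k (Localization.AtPrime P) m := by
  classical
  -- the point
  have hM : (P.comap (Ideal.Quotient.mk (Ideal.span {f}))).IsMaximal :=
    Ideal.comap_isMaximal_of_surjective _ Ideal.Quotient.mk_surjective
  obtain ⟨c, hc⟩ := MvPolynomial.eq_vanishingIdeal_singleton_of_isMaximal k hM
  have hMmem : ∀ p : MvPolynomial (Fin (m + 1)) k,
      Ideal.Quotient.mk (Ideal.span {f}) p ∈ P ↔ MvPolynomial.aeval c p = 0 := by
    intro p
    rw [← Ideal.mem_comap, hc, MvPolynomial.mem_vanishingIdeal_singleton_iff]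
  set F : MvPolynomial (Fin (m + 1)) k := tau c f with hF
  have hfF : f = sig c F := (sig_tau c f).symm
  let π : MvPolynomial (Fin (m + 1)) k →+* (MvPolynomial (Fin (m + 1)) k ⧸ Ideal.span {f}) :=
    (Ideal.Quotient.mk (Ideal.span {f})).comp (sig c).toRingHom
  have hπa : ∀ p, π p = Ideal.Quotient.mk (Ideal.span {f}) (sig c p) := fun p => rfl
  have hπ : Function.Surjective π := by
    intro y
    obtain ⟨p, rfl⟩ := Ideal.Quotient.mk_surjective y
    exact ⟨tau c p, by rw [hπa, sig_tau]⟩
  have hker : RingHom.ker π = Ideal.span {F} := by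
    ext p
    rw [RingHom.mem_ker, hπa, Ideal.Quotient.eq_zero_iff_mem, Ideal.mem_span_singleton',
      Ideal.mem_span_singleton']
    constructor
    · rintro ⟨a, ha⟩
      refine ⟨tau c a, ?_⟩
      rw [hF, ← map_mul, ha, tau_sig]
    · rintro ⟨a, ha⟩
      refine ⟨sig c a, ?_⟩
      rw [hfF, ← map_mul, ha]
  have hfP : MvPolynomial.aeval c f = 0 := by
    rw [← hMmem]
    have : Ideal.Quotient.mk (Ideal.span {f}) f = 0 :=
      Ideal.Quotient.eq_zero_iff_mem.mpr (Ideal.subset_span rfl)
    rw [this]; exact Ideal.zero_mem _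
  have hF0 : MvPolynomial.constantCoeff F = 0 := by
    rw [hF, constantCoeff_tau]; exact hfP
  have h𝔮 : P = (MvPolynomial.idealOfVars (Fin (m + 1)) k).map π := by
    apply le_antisymm
    · intro y hy
      obtain ⟨p, rfl⟩ := Ideal.Quotient.mk_surjective y
      have h1 : MvPolynomial.constantCoeff (tau c p) = 0 := by
        rw [constantCoeff_tau]; exact (hMmem p).mp hy
      have h2 : π (tau c p) = Ideal.Quotient.mk (Ideal.span {f}) p := by rw [hπa, sig_tau]
      rw [← h2]
      exact Ideal.mem_map_of_mem _ ((mem_vars_iff _).mpr h1)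
    · rw [Ideal.map_le_iff_le_comap]
      intro q hq
      rw [Ideal.mem_comap, hπa, hMmem, ← constantCoeff_tau, tau_sig]
      exact (mem_vars_iff q).mp hq
  have hchain : ∀ j, Ideal.Quotient.mk (Ideal.span {f}) (MvPolynomial.pderiv j f) =
      π (MvPolynomial.pderiv j F) := by
    intro j
    rw [hπa, ← pderiv_sig, ← hfF]
  have hF1 : ∀ j, MvPolynomial.coeff (Finsupp.single j 1) F = 0 := by
    intro j
    have h1 := hP j
    rw [hchain, h𝔮, Ideal.mem_map_iff_of_surjective π hπ] at h1
    obtain ⟨q, hq, hqe⟩ := h1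
    have h2 : MvPolynomial.pderiv j F - q ∈ RingHom.ker π := by
      rw [RingHom.mem_ker, map_sub, hqe, sub_self]
    rw [hker, Ideal.mem_span_singleton'] at h2
    obtain ⟨a, ha⟩ := h2
    have h3 : MvPolynomial.constantCoeff (MvPolynomial.pderiv j F) = 0 := by
      have : MvPolynomial.pderiv j F = a * F + q := by rw [ha]; ring
      rw [this, map_add, map_mul, hF0, mul_zero, zero_add]
      exact (mem_vars_iff q).mp hq
    rw [MvPolynomial.constantCoeff_eq, MvPolynomial.coeff_pderiv, zero_add] at h3
    simpa using h3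
  have hk : ∀ r : k, algebraMap k (Localization.AtPrime P) r =
      algebraMap (MvPolynomial (Fin (m + 1)) k ⧸ Ideal.span {f}) (Localization.AtPrime P)
        (π (MvPolynomial.C r)) := by
    intro r
    rw [hπa, sig_C, IsScalarTower.algebraMap_apply k
      (MvPolynomial (Fin (m + 1)) k ⧸ Ideal.span {f}) (Localization.AtPrime P)]
    rfl
  have hgen : (fun j : Fin (m + 1) =>
      Ideal.Quotient.mk (Ideal.span {f}) (MvPolynomial.pderiv j f)) =
      fun j => π (MvPolynomial.pderiv j F) := funext hchain
  rw [hgen]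
  haveI : P.IsPrime := Ideal.IsMaximal.isPrime inferInstance
  exact NQ2.core F π hπ hker hF0 hF1 P h𝔮 (Localization.AtPrime P) hk

end Main

end Groth.Agent.Lib.Helper8.NQ3
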