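import Mathlib.RingTheory.GradedAlgebra.Basic
import Mathlib.Algebra.Polynomial.AlgebraMap
import Mathlib.RingTheory.FiniteType
import Mathlib.RingTheory.Noetherian.Basic
import Mathlib.Algebra.Algebra.Operations
import Mathlib.Algebra.DirectSum.Internal

/-!
# The graded ring `S♮` (with `S♮_n = S_{≥ n}`) presented inside `S[X]`

Shared infrastructure for the statements about `S♮`.
-/

set_option autoImplicit false
universe u

namespace Groth.Agent.Lib.Helper8.Natural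

open DirectSum

variable {R A B : Type u} [CommRing R] [CommRing A] [Algebra R A]

/-- `A_{≥ n}` as an `R`-submodule. -/
abbrev ge (𝒜 : ℕ → Submodule R A) (n : ℕ) : Submodule R A := ⨆ (m : ℕ) (_ : n ≤ m), 𝒜 m

/-- `a ↦ a X^n` as an `R`-linear map. -/
noncomputable abbrev monoR (n : ℕ) : A →ₗ[R] Polynomial A :=
  (Polynomial.monomial n : A →ₗ[A] Polynomial A).restrictScalars R

lemma monoR_apply (n : ℕ) (a : A) : (monoR (R := R) n) a = Polynomial.monomial n a := rfl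

lemma monoR_injective (n : ℕ) : Function.Injective (monoR (R := R) (A := A) n) :=
  Polynomial.monomial_injective n

lemma map_monoR_mul (p q : ℕ) (M N : Submodule R A) :
    Submodule.map (monoR p) M * Submodule.map (monoR q) N = Submodule.map (monoR (p + q)) (M * N) := by
  apply le_antisymm
  · rw [Submodule.mul_le]
    rintro _ ⟨m, hm, rfl⟩ _ ⟨n, hn, rfl⟩
    refine ⟨m * n, Submodule.mul_mem_mul hm hn, ?_⟩
    simp [monoR_apply, Polynomial.monomial_mul_monomial]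
  · rw [Submodule.map_le_iff_le_comap, Submodule.mul_le]
    intro m hm n hn
    rw [Submodule.mem_comap]
    have : (monoR (R := R) (p + q)) (m * n) = (monoR (R := R) p) m * (monoR (R := R) q) n := by
      simp [monoR_apply, Polynomial.monomial_mul_monomial]
    rw [this]
    exact Submodule.mul_mem_mul ⟨m, hm, rfl⟩ ⟨n, hn, rfl⟩

lemma map_monoR_pow (M : Submodule R A) (n : ℕ) :
    (Submodule.map (monoR 1) M) ^ n = Submodule.map (monoR n) (M ^ n) := by
  induction n with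
  | zero =>
    simp only [pow_zero, Submodule.one_eq_span, Submodule.map_span, Set.image_singleton]
    congr 2
  | succ n ih =>
    rw [pow_succ, ih, map_monoR_mul, pow_succ]

variable (𝒜 : ℕ → Submodule R A) [GradedAlgebra 𝒜]

omit [GradedAlgebra 𝒜] in
lemma le_ge {n m : ℕ} (h : n ≤ m) : 𝒜 m ≤ ge 𝒜 n :=
  le_iSup₂ (f := fun (m : ℕ) (_ : n ≤ m) => 𝒜 m) m h

omit [GradedAlgebra 𝒜] in
lemma ge_anti {n m : ℕ} (h : n ≤ m) : ge 𝒜 m ≤ ge 𝒜 n :=
  iSup₂_le fun _ hk => le_ge 𝒜 (h.trans hk)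

lemma ge_zero : ge 𝒜 0 = ⊤ := by
  classical
  rw [eq_top_iff]
  intro x _
  rw [← DirectSum.sum_support_decompose 𝒜 x]
  exact Submodule.sum_mem _ fun i _ => le_ge 𝒜 (Nat.zero_le i) (Submodule.coe_mem _)

lemma ge_mul_ge_le (p q : ℕ) : ge 𝒜 p * ge 𝒜 q ≤ ge 𝒜 (p + q) := by
  rw [Submodule.mul_le]
  intro a ha b hb
  induction ha using Submodule.iSup_induction' with
  | mem i x hx =>
    induction hx using Submodule.iSup_induction' with
    | mem hi x hx =>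
      induction hb using Submodule.iSup_induction' with
      | mem j y hy =>
        induction hy using Submodule.iSup_induction' with
        | mem hj y hy =>
          exact le_ge 𝒜 (Nat.add_le_add hi hj) (SetLike.mul_mem_graded hx hy)
        | zero => simp
        | add y z _ _ hy hz => rw [mul_add]; exact add_mem hy hz
      | zero => simp
      | add y z _ _ hy hz => rw [mul_add]; exact add_mem hy hz
    | zero => simp
    | add y z _ _ hy hz => rw [add_mul]; exact add_mem hy hz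
  | zero => simp
  | add y z _ _ hy hz => rw [add_mul]; exact add_mem hy hz

omit [GradedAlgebra 𝒜] in
/-- Induction principle for `A_{≥ n}`. -/
lemma ge_induction {n : ℕ} {P : A → Prop} (hmem : ∀ m, n ≤ m → ∀ x ∈ 𝒜 m, P x) (h0 : P 0)
    (hadd : ∀ x y, P x → P y → P (x + y)) {x : A} (hx : x ∈ ge 𝒜 n) : P x := by
  induction hx using Submodule.iSup_induction' with
  | mem i x hx =>
    induction hx using Submodule.iSup_induction' with
    | mem hi x hx => exact hmem i hi x hx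
    | zero => exact h0
    | add y z _ _ hy hz => exact hadd _ _ hy hz
  | zero => exact h0
  | add y z _ _ hy hz => exact hadd _ _ hy hz

lemma proj_of_mem_ge_of_lt {p k : ℕ} {a : A} (ha : a ∈ ge 𝒜 p) (hk : k < p) :
    GradedRing.proj 𝒜 k a = 0 := by
  refine ge_induction 𝒜 (P := fun a => GradedRing.proj 𝒜 k a = 0) ?_ ?_ ?_ ha
  · intro m hm x hx
    rw [GradedRing.proj_apply, DirectSum.decompose_of_mem_ne 𝒜 hx (by omega)]
  · simp
  · intro x y hx hy
    rw [map_add, hx, hy, add_zero]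

lemma proj_mul_of_mem_ge {p q : ℕ} {a b : A} (ha : a ∈ ge 𝒜 p) (hb : b ∈ ge 𝒜 q) :
    GradedRing.proj 𝒜 (p + q) (a * b) = GradedRing.proj 𝒜 p a * GradedRing.proj 𝒜 q b := by
  refine ge_induction 𝒜 (P := fun a => GradedRing.proj 𝒜 (p + q) (a * b) =
    GradedRing.proj 𝒜 p a * GradedRing.proj 𝒜 q b) ?_ ?_ ?_ ha
  · intro i hi x hx
    refine ge_induction 𝒜 (P := fun b => GradedRing.proj 𝒜 (p + q) (x * b) =
      GradedRing.proj 𝒜 p x * GradedRing.proj 𝒜 q b) ?_ ?_ ?_ hb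
    · intro j hj y hy
      have hxy : x * y ∈ 𝒜 (i + j) := SetLike.mul_mem_graded hx hy
      by_cases h : i = p ∧ j = q
      · obtain ⟨rfl, rfl⟩ := h
        simp only [GradedRing.proj_apply]
        rw [DirectSum.decompose_of_mem_same 𝒜 hxy, DirectSum.decompose_of_mem_same 𝒜 hx,
          DirectSum.decompose_of_mem_same 𝒜 hy]
      · simp only [GradedRing.proj_apply]
        rw [DirectSum.decompose_of_mem_ne 𝒜 hxy (by omega)]
        by_cases h1 : i = p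
        · have h2 : j ≠ q := fun h2 => h ⟨h1, h2⟩
          rw [DirectSum.decompose_of_mem_ne 𝒜 hy h2, mul_zero]
        · rw [DirectSum.decompose_of_mem_ne 𝒜 hx h1, zero_mul]
    · simp
    · intro y z hy hz
      simp only [mul_add, map_add, hy, hz]
  · simp
  · intro y z hy hz
    simp only [add_mul, map_add, hy, hz]

lemma proj_mem (p : ℕ) (a : A) : GradedRing.proj 𝒜 p a ∈ 𝒜 p := by
  rw [GradedRing.proj_apply]; exact Submodule.coe_mem _

lemma proj_of_mem {p : ℕ} {a : A} (ha : a ∈ 𝒜 p) : GradedRing.proj 𝒜 p a = a := by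
  rw [GradedRing.proj_apply, DirectSum.decompose_of_mem_same 𝒜 ha]

/-- The lowest-degree part of a product of `A_{≥ p}` and `A_{≥ q}`. -/
lemma proj_mem_mul_of_mem_ge_mul {p q : ℕ} {x : A} (hx : x ∈ ge 𝒜 p * ge 𝒜 q) :
    GradedRing.proj 𝒜 (p + q) x ∈ 𝒜 p * 𝒜 q := by
  refine Submodule.mul_induction_on (C := fun x => GradedRing.proj 𝒜 (p + q) x ∈ 𝒜 p * 𝒜 q)
    hx ?_ ?_
  · intro a ha b hb
    rw [proj_mul_of_mem_ge 𝒜 ha hb]
    exact Submodule.mul_mem_mul (proj_mem 𝒜 p a) (proj_mem 𝒜 q b)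
  · intro x y hx hy
    rw [map_add]; exact add_mem hx hy

lemma mul_le_of_graded (p q : ℕ) : 𝒜 p * 𝒜 q ≤ 𝒜 (p + q) := by
  rw [Submodule.mul_le]
  intro a ha b hb
  exact SetLike.mul_mem_graded ha hb

/-- `A_{p+q} = A_p A_q` as soon as `A_{≥ p+q} = A_{≥ p} A_{≥ q}`. -/
lemma eq_mul_of_ge_eq_mul {p q : ℕ} (h : ge 𝒜 (p + q) = ge 𝒜 p * ge 𝒜 q) :
    𝒜 (p + q) = 𝒜 p * 𝒜 q := by
  apply le_antisymm _ (mul_le_of_graded 𝒜 p q)
  intro x hx
  have hx' : x ∈ ge 𝒜 p * ge 𝒜 q := h ▸ le_ge 𝒜 le_rfl hx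
  have := proj_mem_mul_of_mem_ge_mul 𝒜 hx'
  rwa [proj_of_mem 𝒜 hx] at this

lemma pow_le_graded (n : ℕ) : 𝒜 1 ^ n ≤ 𝒜 n := by
  induction n with
  | zero =>
    rw [pow_zero, Submodule.one_eq_span, Submodule.span_le, Set.singleton_subset_iff]
    exact SetLike.one_mem_graded 𝒜
  | succ n ih =>
    rw [pow_succ]
    exact (mul_le_mul' ih le_rfl).trans (mul_le_of_graded 𝒜 n 1)

lemma ge_pow_le (n : ℕ) : ge 𝒜 1 ^ n ≤ ge 𝒜 n := by
  induction n with
  | zero => rw [ge_zero]; exact le_top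
  | succ n ih =>
    rw [pow_succ]
    exact (mul_le_mul' ih le_rfl).trans (ge_mul_ge_le 𝒜 n 1)

lemma proj_mem_pow_of_mem_ge_pow (n : ℕ) {x : A} (hx : x ∈ ge 𝒜 1 ^ n) :
    GradedRing.proj 𝒜 n x ∈ 𝒜 1 ^ n := by
  induction n generalizing x with
  | zero =>
    rw [pow_zero, Submodule.one_eq_span] at hx ⊢
    obtain ⟨r, rfl⟩ := Submodule.mem_span_singleton.mp hx
    have h1 : r • (1 : A) ∈ 𝒜 0 := Submodule.smul_mem _ _ (SetLike.one_mem_graded 𝒜)
    rw [proj_of_mem 𝒜 h1]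
    exact Submodule.smul_mem _ _ (Submodule.mem_span_singleton_self _)
  | succ n ih =>
    rw [pow_succ] at hx ⊢
    refine Submodule.mul_induction_on
      (C := fun x => GradedRing.proj 𝒜 (n + 1) x ∈ 𝒜 1 ^ n * 𝒜 1) hx ?_ ?_
    · intro a ha b hb
      rw [proj_mul_of_mem_ge 𝒜 (ge_pow_le 𝒜 n ha) hb]
      exact Submodule.mul_mem_mul (ih ha) (proj_mem 𝒜 1 b)
    · intro x y hx hy
      rw [map_add]; exact add_mem hx hy

/-- `A_n = A_1^n` as soon as `A_{≥ n} = A_{≥ 1}^n`. -/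
lemma eq_pow_of_ge_eq_pow {n : ℕ} (h : ge 𝒜 n = ge 𝒜 1 ^ n) : 𝒜 n = 𝒜 1 ^ n := by
  apply le_antisymm _ (pow_le_graded 𝒜 n)
  intro x hx
  have hx' : x ∈ ge 𝒜 1 ^ n := h ▸ le_ge 𝒜 le_rfl hx
  have := proj_mem_pow_of_mem_ge_pow 𝒜 n hx'
  rwa [proj_of_mem 𝒜 hx] at this

/-- The components of the homomorphism `A → A[X]`, `a ↦ ∑ a_m X^m`. -/
noncomputable def psiComp (i : ℕ) : 𝒜 i →+ Polynomial A :=
  (Polynomial.monomial i : A →ₗ[A] Polynomial A).toAddMonoidHom.comp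
      (𝒜 i).subtype.toAddMonoidHom

omit [GradedAlgebra 𝒜] in
lemma psiComp_apply (i : ℕ) (x : 𝒜 i) : psiComp 𝒜 i x = Polynomial.monomial i (x : A) := rfl

/-- The ring homomorphism `A → A[X]`, `a ↦ ∑ a_m X^m`. -/
noncomputable def psi' : A →+* Polynomial A :=
  (DirectSum.toSemiring (psiComp 𝒜)
    (by rw [psiComp_apply]; rfl)
    (by
      intro i j ai aj
      rw [psiComp_apply, psiComp_apply, psiComp_apply, Polynomial.monomial_mul_monomial]
      rfl)).comp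
  (DirectSum.decomposeRingEquiv 𝒜).toRingHom

lemma psi'_of_mem {m : ℕ} {a : A} (ha : a ∈ 𝒜 m) : psi' 𝒜 a = Polynomial.monomial m a := by
  unfold psi'
  rw [RingHom.comp_apply]
  have : (DirectSum.decomposeRingEquiv 𝒜).toRingHom a = DirectSum.of (fun i => 𝒜 i) m ⟨a, ha⟩ :=
    DirectSum.decompose_of_mem 𝒜 ha
  rw [this, DirectSum.toSemiring_of, psiComp_apply]

section phi

variable [CommRing B] [Algebra R B] (ℬ : ℕ → Submodule R B) [GradedAlgebra ℬ]
  (φ : B →ₐ[R] Polynomial A) (hφ : Function.Injective φ)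
  (hdeg : ∀ n : ℕ, Submodule.map φ.toLinearMap (ℬ n) = Submodule.map (monoR n) (ge 𝒜 n))

include hφ hdeg

omit [GradedAlgebra 𝒜] [GradedAlgebra ℬ] in
lemma B_eq_mul_iff (p q : ℕ) :
    ℬ (p + q) = ℬ p * ℬ q ↔ ge 𝒜 (p + q) = ge 𝒜 p * ge 𝒜 q := by
  rw [← (Submodule.map_injective_of_injective (f := φ.toLinearMap) hφ).eq_iff,
    Submodule.map_mul, hdeg, hdeg, hdeg, map_monoR_mul,
    (Submodule.map_injective_of_injective (monoR_injective (R := R) (p + q))).eq_iff]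

omit [GradedAlgebra 𝒜] [GradedAlgebra ℬ] in
lemma B_eq_pow_iff (n : ℕ) :
    ℬ n = ℬ 1 ^ n ↔ ge 𝒜 n = ge 𝒜 1 ^ n := by
  rw [← (Submodule.map_injective_of_injective (f := φ.toLinearMap) hφ).eq_iff,
    Submodule.map_pow, hdeg, hdeg, map_monoR_pow,
    (Submodule.map_injective_of_injective (monoR_injective (R := R) n)).eq_iff]

omit [GradedAlgebra 𝒜] [GradedAlgebra ℬ] hφ in
lemma exists_of_mem_ge {n : ℕ} {a : A} (ha : a ∈ ge 𝒜 n) :
    ∃ b ∈ ℬ n, φ b = Polynomial.monomial n a := by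
  have : (monoR (R := R) n) a ∈ Submodule.map φ.toLinearMap (ℬ n) := by
    rw [hdeg]; exact ⟨a, ha, rfl⟩
  obtain ⟨b, hb, hb'⟩ := this
  exact ⟨b, hb, hb'⟩

omit [GradedAlgebra 𝒜] [GradedAlgebra ℬ] hφ in
lemma exists_of_mem_B {n : ℕ} {b : B} (hb : b ∈ ℬ n) :
    ∃ a ∈ ge 𝒜 n, φ b = Polynomial.monomial n a := by
  have : φ.toLinearMap b ∈ Submodule.map (monoR (R := R) n) (ge 𝒜 n) := by
    rw [← hdeg]; exact ⟨b, hb, rfl⟩
  obtain ⟨a, ha, ha'⟩ := this
  exact ⟨a, ha, ha'.symm⟩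

omit [GradedAlgebra ℬ] hφ in
lemma psi'_mem_range (a : A) : ∃ b, φ b = psi' 𝒜 a := by
  classical
  rw [← DirectSum.sum_support_decompose 𝒜 a, map_sum]
  choose! c hc hc' using fun (i : ℕ) (x : A) (hx : x ∈ ge 𝒜 i) =>
    exists_of_mem_ge 𝒜 ℬ φ hdeg hx
  refine ⟨∑ i ∈ (DirectSum.decompose 𝒜 a).support, c i (DirectSum.decompose 𝒜 a i), ?_⟩
  rw [map_sum]
  refine Finset.sum_congr rfl fun i _ => ?_
  rw [hc' i _ (le_ge 𝒜 le_rfl (Submodule.coe_mem _)), psi'_of_mem 𝒜 (Submodule.coe_mem _)]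

/-- The ring homomorphism `A → B`, `a ↦ ∑ [a_m]_m`. -/
noncomputable def psi : A →+* B where
  toFun a := (psi'_mem_range 𝒜 ℬ φ hdeg a).choose
  map_one' := hφ (by rw [(psi'_mem_range 𝒜 ℬ φ hdeg 1).choose_spec, map_one, map_one])
  map_mul' x y := hφ (by
    rw [(psi'_mem_range 𝒜 ℬ φ hdeg _).choose_spec, map_mul, map_mul,
      (psi'_mem_range 𝒜 ℬ φ hdeg x).choose_spec, (psi'_mem_range 𝒜 ℬ φ hdeg y).choose_spec])
  map_zero' := hφ (by rw [(psi'_mem_range 𝒜 ℬ φ hdeg 0).choose_spec, map_zero, map_zero])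
  map_add' x y := hφ (by
    rw [(psi'_mem_range 𝒜 ℬ φ hdeg _).choose_spec, map_add, map_add,
      (psi'_mem_range 𝒜 ℬ φ hdeg x).choose_spec, (psi'_mem_range 𝒜 ℬ φ hdeg y).choose_spec])

omit [GradedAlgebra ℬ] in
lemma phi_psi (a : A) : φ (psi 𝒜 ℬ φ hφ hdeg a) = psi' 𝒜 a :=
  (psi'_mem_range 𝒜 ℬ φ hdeg a).choose_spec

omit [GradedAlgebra ℬ] in
lemma phi_psi_of_mem {m : ℕ} {a : A} (ha : a ∈ 𝒜 m) :
    φ (psi 𝒜 ℬ φ hφ hdeg a) = Polynomial.monomial m a := by
  rw [phi_psi, psi'_of_mem 𝒜 ha]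

end phi

end Groth.Agent.Lib.Helper8.Natural
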