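import Groth.Agent.Lib.Helper8.Natural
import Mathlib.RingTheory.GradedAlgebra.FiniteType
import Mathlib.RingTheory.GradedAlgebra.Noetherian
import Mathlib.RingTheory.Polynomial.Basic

/-!
# Finiteness properties of `S♮`
-/

set_option autoImplicit false
universe u

namespace Groth.Agent.Lib.Helper8.Natural

open DirectSum

variable {R A B : Type u} [CommRing R] [CommRing A] [Algebra R A]
variable (𝒜 : ℕ → Submodule R A) [GradedAlgebra 𝒜]
variable [CommRing B] [Algebra R B] (ℬ : ℕ → Submodule R B) [GradedAlgebra ℬ]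
  (φ : B →ₐ[R] Polynomial A) (hφ : Function.Injective φ)
  (hdeg : ∀ n : ℕ, Submodule.map φ.toLinearMap (ℬ n) = Submodule.map (monoR n) (ge 𝒜 n))

/-- Components of the "leading part" homomorphism `θ : B → A`, `[a]_n ↦ a_n`. -/
noncomputable def thetaComp (n : ℕ) : ℬ n →+ A where
  toFun b := GradedRing.proj 𝒜 n ((φ (b : B)).coeff n)
  map_zero' := by simp
  map_add' x y := by simp

omit [GradedAlgebra ℬ] in
lemma thetaComp_apply (n : ℕ) (b : ℬ n) :
    thetaComp 𝒜 ℬ φ n b = GradedRing.proj 𝒜 n ((φ (b : B)).coeff n) := rfl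

include hdeg in
omit [GradedAlgebra ℬ] in
lemma thetaComp_mul {i j : ℕ} (bi : ℬ i) (bj : ℬ j) (h : (bi : B) * (bj : B) ∈ ℬ (i + j)) :
    thetaComp 𝒜 ℬ φ (i + j) ⟨(bi : B) * bj, h⟩ =
      thetaComp 𝒜 ℬ φ i bi * thetaComp 𝒜 ℬ φ j bj := by
  obtain ⟨ai, hai, hbi⟩ := exists_of_mem_B 𝒜 ℬ φ hdeg bi.2
  obtain ⟨aj, haj, hbj⟩ := exists_of_mem_B 𝒜 ℬ φ hdeg bj.2
  simp only [thetaComp_apply, map_mul, hbi, hbj, Polynomial.monomial_mul_monomial,
    Polynomial.coeff_monomial_same]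
  exact proj_mul_of_mem_ge 𝒜 hai haj

/-- The "leading part" homomorphism `θ : B → A`, `[a]_n ↦ a_n`. -/
noncomputable def theta : B →+* A :=
  (DirectSum.toSemiring (thetaComp 𝒜 ℬ φ)
    (by
      rw [thetaComp_apply]
      change (GradedRing.proj 𝒜 0) ((φ (1 : B)).coeff 0) = 1
      rw [map_one, Polynomial.coeff_one_zero]
      exact proj_of_mem 𝒜 (SetLike.one_mem_graded 𝒜))
    (by
      intro i j bi bj
      exact thetaComp_mul 𝒜 ℬ φ hdeg bi bj _)).comp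
  (DirectSum.decomposeRingEquiv ℬ).toRingHom

lemma theta_of_mem {n : ℕ} {b : B} (hb : b ∈ ℬ n) :
    theta 𝒜 ℬ φ hdeg b = GradedRing.proj 𝒜 n ((φ b).coeff n) := by
  unfold theta
  rw [RingHom.comp_apply]
  have : (DirectSum.decomposeRingEquiv ℬ).toRingHom b = DirectSum.of (fun i => ℬ i) n ⟨b, hb⟩ :=
    DirectSum.decompose_of_mem ℬ hb
  rw [this, DirectSum.toSemiring_of, thetaComp_apply]

lemma theta_surjective : Function.Surjective (theta 𝒜 ℬ φ hdeg) := by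
  classical
  intro a
  have hhom : ∀ m : ℕ, ∀ x ∈ 𝒜 m, ∃ b, theta 𝒜 ℬ φ hdeg b = x := by
    intro m x hx
    obtain ⟨b, hb, hb'⟩ := exists_of_mem_ge 𝒜 ℬ φ hdeg (le_ge 𝒜 le_rfl hx)
    refine ⟨b, ?_⟩
    rw [theta_of_mem 𝒜 ℬ φ hdeg hb, hb', Polynomial.coeff_monomial_same, proj_of_mem 𝒜 hx]
  choose! c hc using hhom
  refine ⟨∑ i ∈ (DirectSum.decompose 𝒜 a).support, c i (DirectSum.decompose 𝒜 a i), ?_⟩
  rw [map_sum]
  conv_rhs => rw [← DirectSum.sum_support_decompose 𝒜 a]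
  exact Finset.sum_congr rfl fun i _ => hc i _ (Submodule.coe_mem _)

lemma theta_mem_zero {b : B} (hb : b ∈ ℬ 0) : theta 𝒜 ℬ φ hdeg b ∈ 𝒜 0 := by
  rw [theta_of_mem 𝒜 ℬ φ hdeg hb]
  exact proj_mem 𝒜 0 _

include hdeg in
/-- If `B = S♮` is of finite type over `B_0`, then `A = S` is of finite type over `A_0`. -/
theorem finiteType_of_finiteType_natural (h : Algebra.FiniteType (ℬ 0) B) :
    Algebra.FiniteType (𝒜 0) A := by
  obtain ⟨T, hT⟩ := h.out
  classical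
  refine ⟨⟨T.image (theta 𝒜 ℬ φ hdeg), ?_⟩⟩
  rw [eq_top_iff]
  intro a ha
  clear ha
  obtain ⟨b, rfl⟩ := theta_surjective 𝒜 ℬ φ hdeg a
  have hb : b ∈ Algebra.adjoin (ℬ 0) (T : Set B) := hT ▸ Algebra.mem_top
  induction hb using Algebra.adjoin_induction with
  | mem x hx =>
    exact Algebra.subset_adjoin (by simpa using ⟨x, hx, rfl⟩)
  | algebraMap r =>
    exact Subalgebra.algebraMap_mem _
      (⟨theta 𝒜 ℬ φ hdeg (r : B), theta_mem_zero 𝒜 ℬ φ hdeg r.2⟩ : 𝒜 0)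
  | add x y _ _ hx hy => rw [map_add]; exact add_mem hx hy
  | mul x y _ _ hx hy => rw [map_mul]; exact mul_mem hx hy

omit [CommRing R] [Algebra R A] in
lemma proj_mul_eq_sum_antidiagonal {σ : Type*} [SetLike σ A] [AddSubgroupClass σ A]
    (𝒜 : ℕ → σ) [GradedRing 𝒜] (m : ℕ) (a a' : A) :
    GradedRing.proj 𝒜 m (a * a') =
      ∑ ij ∈ Finset.antidiagonal m, GradedRing.proj 𝒜 ij.1 a * GradedRing.proj 𝒜 ij.2 a' := by
  simp only [GradedRing.proj_apply]
  rw [DirectSum.decompose_mul, DirectSum.coe_mul_apply_eq_sum_antidiagonal]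

omit [GradedAlgebra ℬ] hφ in
include hdeg in
lemma exists_phi_eq_monomial_proj (a : A) (m n : ℕ) (hnm : n ≤ m) :
    ∃ b ∈ ℬ n, φ b = Polynomial.monomial n (GradedRing.proj 𝒜 m a) :=
  exists_of_mem_ge 𝒜 ℬ φ hdeg (le_ge 𝒜 hnm (proj_mem 𝒜 m a))

include hφ hdeg in
/-- Generation criterion for `B = S♮`. -/
theorem subalgebra_eq_top (S' : Subalgebra (ℬ 0) B) (s : Set A) (deg : A → ℕ)
    (hs : Algebra.adjoin (𝒜 0) s = ⊤) (hsdeg : ∀ x ∈ s, x ∈ 𝒜 (deg x))
    (hS' : ∀ x ∈ s, ∀ n ≤ deg x, ∀ b : B, φ b = Polynomial.monomial n x → b ∈ S') :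
    S' = ⊤ := by
  classical
  have h0mem : ∀ b : B, φ b = 0 → b ∈ S' := by
    intro b hb
    have : b = 0 := hφ (by rw [hb, map_zero])
    rw [this]; exact zero_mem _
  have hP : ∀ a : A, ∀ m n : ℕ, n ≤ m → ∀ b : B,
      φ b = Polynomial.monomial n (GradedRing.proj 𝒜 m a) → b ∈ S' := by
    intro a
    have ha : a ∈ Algebra.adjoin (𝒜 0) s := hs ▸ Algebra.mem_top
    induction ha using Algebra.adjoin_induction with
    | mem x hx =>
      intro m n hnm b hb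
      by_cases hm : m = deg x
      · subst hm
        rw [proj_of_mem 𝒜 (hsdeg x hx)] at hb
        exact hS' x hx n hnm b hb
      · rw [GradedRing.proj_apply, DirectSum.decompose_of_mem_ne 𝒜 (hsdeg x hx) (Ne.symm hm),
          map_zero] at hb
        exact h0mem b hb
    | algebraMap c =>
      intro m n hnm b hb
      have hc : (algebraMap (𝒜 0) A c) ∈ 𝒜 0 := c.2
      by_cases hm : m = 0
      · subst hm
        obtain rfl : n = 0 := by omega
        obtain ⟨b', hb'0, hb'⟩ := exists_phi_eq_monomial_proj 𝒜 ℬ φ hdeg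
          (algebraMap (𝒜 0) A c) 0 0 le_rfl
        have : b = b' := hφ (by rw [hb, hb'])
        rw [this]
        exact Subalgebra.algebraMap_mem S' (⟨b', hb'0⟩ : ℬ 0)
      · rw [GradedRing.proj_apply, DirectSum.decompose_of_mem_ne 𝒜 hc (Ne.symm hm),
          map_zero] at hb
        exact h0mem b hb
    | add x y _ _ hx hy =>
      intro m n hnm b hb
      obtain ⟨b1, _, hb1⟩ := exists_phi_eq_monomial_proj 𝒜 ℬ φ hdeg x m n hnm
      obtain ⟨b2, _, hb2⟩ := exists_phi_eq_monomial_proj 𝒜 ℬ φ hdeg y m n hnm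
      have : b = b1 + b2 := hφ (by rw [hb, map_add φ b1 b2, hb1, hb2, map_add, map_add])
      rw [this]
      exact add_mem (hx m n hnm b1 hb1) (hy m n hnm b2 hb2)
    | mul x y _ _ hx hy =>
      intro m n hnm b hb
      choose! c1 _ hc1 using exists_phi_eq_monomial_proj 𝒜 ℬ φ hdeg x
      choose! c2 _ hc2 using exists_phi_eq_monomial_proj 𝒜 ℬ φ hdeg y
      have : b = ∑ ij ∈ Finset.antidiagonal m,
          c1 ij.1 (min n ij.1) * c2 ij.2 (n - min n ij.1) := hφ (by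
        rw [hb, map_sum, proj_mul_eq_sum_antidiagonal, map_sum]
        refine Finset.sum_congr rfl fun ij hij => ?_
        have hij' : ij.1 + ij.2 = m := Finset.mem_antidiagonal.mp hij
        rw [map_mul φ, hc1 ij.1 _ (min_le_right _ _), hc2 ij.2 _ (by omega),
          Polynomial.monomial_mul_monomial]
        rw [show min n ij.1 + (n - min n ij.1) = n by omega])
      rw [this]
      refine Subalgebra.sum_mem _ fun ij hij => ?_
      have hij' : ij.1 + ij.2 = m := Finset.mem_antidiagonal.mp hij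
      exact mul_mem (hx ij.1 _ (min_le_right _ _) _ (hc1 ij.1 _ (min_le_right _ _)))
        (hy ij.2 _ (by omega) _ (hc2 ij.2 _ (by omega)))
  rw [eq_top_iff]
  intro b _
  rw [← DirectSum.sum_support_decompose ℬ b]
  refine Subalgebra.sum_mem _ fun n _ => ?_
  obtain ⟨a, ha, hba⟩ := exists_of_mem_B 𝒜 ℬ φ hdeg (Submodule.coe_mem (DirectSum.decompose ℬ b n))
  have hproj : ∀ m, GradedRing.proj 𝒜 m a ∈ ge 𝒜 n := by
    intro m
    by_cases hnm : n ≤ m
    · exact le_ge 𝒜 hnm (proj_mem 𝒜 m a)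
    · rw [proj_of_mem_ge_of_lt 𝒜 ha (by omega)]; exact zero_mem _
  choose c _ hc using fun m => exists_of_mem_ge 𝒜 ℬ φ hdeg (hproj m)
  have : ((DirectSum.decompose ℬ b n : ℬ n) : B) =
      ∑ m ∈ (DirectSum.decompose 𝒜 a).support, c m := hφ (by
    rw [hba, map_sum]
    conv_lhs => rw [← DirectSum.sum_support_decompose 𝒜 a, map_sum]
    exact Finset.sum_congr rfl fun m _ => by rw [hc m, GradedRing.proj_apply])
  rw [this]
  refine Subalgebra.sum_mem _ fun m _ => ?_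
  by_cases hnm : n ≤ m
  · exact hP a m n hnm (c m) (hc m)
  · refine h0mem _ ?_
    rw [hc m, proj_of_mem_ge_of_lt 𝒜 ha (by omega), map_zero]

include hφ hdeg in
/-- If `A = S` is of finite type over `A_0`, then `B = S♮` is of finite type over `B_0`. -/
theorem finiteType_natural_of_finiteType (h : Algebra.FiniteType (𝒜 0) A) :
    Algebra.FiniteType (ℬ 0) B := by
  classical
  obtain ⟨s, hs, hs'⟩ := GradedAlgebra.exists_finset_adjoin_eq_top_and_homogeneous_ne_zero 𝒜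
  choose! deg _ hdegmem using hs'
  have hex : ∀ x : A, ∀ k : ℕ, x ∈ s → k ≤ deg x → ∃ b ∈ ℬ k, φ b = Polynomial.monomial k x :=
    fun x k hx hk => exists_of_mem_ge 𝒜 ℬ φ hdeg (le_ge 𝒜 hk (hdegmem x hx))
  choose! c _ hc using hex
  let T : Finset B := s.biUnion fun x => (Finset.range (deg x + 1)).image fun k => c x k
  refine ⟨⟨T, ?_⟩⟩
  refine subalgebra_eq_top 𝒜 ℬ φ hφ hdeg _ (s : Set A) deg hs (fun x hx => hdegmem x hx) ?_
  intro x hx n hn b hb
  have : b = c x n := hφ (by rw [hb, hc x n hx hn])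
  rw [this]
  refine Algebra.subset_adjoin ?_
  simp only [T, Finset.coe_biUnion, Finset.coe_image, Set.mem_iUnion, Set.mem_image,
    Finset.mem_coe, Finset.mem_range]
  exact ⟨x, hx, n, by omega, rfl⟩

omit [GradedAlgebra ℬ] hφ in
include hdeg in
lemma exists_phi_eq_C (a : A) : ∃ b ∈ ℬ 0, φ b = Polynomial.monomial 0 a :=
  exists_of_mem_ge 𝒜 ℬ φ hdeg (by rw [ge_zero]; exact Submodule.mem_top)

/-- The element `[a]_0` of `B`. -/
noncomputable def c0 (a : A) : B := (exists_phi_eq_C 𝒜 ℬ φ hdeg a).choose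

omit [GradedAlgebra ℬ] in
lemma c0_mem (a : A) : c0 𝒜 ℬ φ hdeg a ∈ ℬ 0 := (exists_phi_eq_C 𝒜 ℬ φ hdeg a).choose_spec.1

omit [GradedAlgebra ℬ] in
lemma phi_c0 (a : A) : φ (c0 𝒜 ℬ φ hdeg a) = Polynomial.monomial 0 a :=
  (exists_phi_eq_C 𝒜 ℬ φ hdeg a).choose_spec.2

/-- The ring homomorphism `A → B_0`, `a ↦ [a]_0`. -/
noncomputable def psi0 : A →+* ℬ 0 where
  toFun a := ⟨c0 𝒜 ℬ φ hdeg a, c0_mem 𝒜 ℬ φ hdeg a⟩
  map_one' := Subtype.ext (hφ (by
    change φ (c0 𝒜 ℬ φ hdeg 1) = φ (1 : B)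
    rw [phi_c0, map_one φ]
    rfl))
  map_mul' x y := Subtype.ext (hφ (by
    change φ (c0 𝒜 ℬ φ hdeg (x * y)) = φ (c0 𝒜 ℬ φ hdeg x * c0 𝒜 ℬ φ hdeg y)
    rw [map_mul φ, phi_c0, phi_c0, phi_c0, Polynomial.monomial_mul_monomial]))
  map_zero' := Subtype.ext (hφ (by
    change φ (c0 𝒜 ℬ φ hdeg 0) = φ (0 : B)
    rw [phi_c0, map_zero φ, map_zero]))
  map_add' x y := Subtype.ext (hφ (by
    change φ (c0 𝒜 ℬ φ hdeg (x + y)) = φ (c0 𝒜 ℬ φ hdeg x + c0 𝒜 ℬ φ hdeg y)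
    rw [map_add φ, phi_c0, phi_c0, phi_c0, map_add]))

lemma phi_psi0 (a : A) : φ (psi0 𝒜 ℬ φ hφ hdeg a : B) = Polynomial.monomial 0 a :=
  phi_c0 𝒜 ℬ φ hdeg a

lemma psi0_surjective : Function.Surjective (psi0 𝒜 ℬ φ hφ hdeg) := by
  intro b
  obtain ⟨a, _, hba⟩ := exists_of_mem_B 𝒜 ℬ φ hdeg b.2
  exact ⟨a, Subtype.ext (hφ (by rw [phi_psi0, hba]))⟩

include hφ hdeg in
/-- `B = S♮` is Noetherian if `A = S` is Noetherian and of finite type over `A_0`. -/
theorem isNoetherianRing_natural (h : Algebra.FiniteType (𝒜 0) A) [IsNoetherianRing A] :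
    IsNoetherianRing B := by
  have : IsNoetherianRing (ℬ 0) :=
    isNoetherianRing_of_surjective A (ℬ 0) (psi0 𝒜 ℬ φ hφ hdeg) (psi0_surjective 𝒜 ℬ φ hφ hdeg)
  have : Algebra.FiniteType (ℬ 0) B := finiteType_natural_of_finiteType 𝒜 ℬ φ hφ hdeg h
  exact Algebra.FiniteType.isNoetherianRing (ℬ 0) B

include hdeg in
/-- `A = S` is Noetherian if `B = S♮` is. -/
theorem isNoetherianRing_of_natural [IsNoetherianRing B] : IsNoetherianRing A :=
  isNoetherianRing_of_surjective B A (theta 𝒜 ℬ φ hdeg) (theta_surjective 𝒜 ℬ φ hdeg)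

end Groth.Agent.Lib.Helper8.Natural
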