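import Mathlib.AlgebraicGeometry.ProjectiveSpectrum.Functor
import Mathlib.AlgebraicGeometry.ProjectiveSpectrum.Basic
import Mathlib.AlgebraicGeometry.Morphisms.IsIso
import Mathlib.AlgebraicGeometry.PullbackCarrier

/-!
# A graded homomorphism bijective in high degrees induces an isomorphism on `Proj`
-/

set_option autoImplicit false
universe u

namespace Groth.Agent.Lib.Helper8.ProjTN

open CategoryTheory Limits AlgebraicGeometry HomogeneousLocalization

variable {R A : Type u} [CommRing R] [CommRing A] [Algebra R A] (𝒜 : ℕ → Submodule R A)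
  [GradedAlgebra 𝒜]
  {B : Type u} [CommRing B] [Algebra R B] (ℬ : ℕ → Submodule R B) [GradedAlgebra ℬ]

/-- `x / s ^ n = x s ^ k / s ^ (n + k)`. -/
theorem mk_add_pow {i : ℕ} {s : B} (hs : s ∈ ℬ i) (n k : ℕ) (x : B) (hx : x ∈ ℬ (n • i)) :
    Away.mk ℬ hs n x hx = Away.mk ℬ hs (n + k) (x * s ^ k)
      (by rw [add_smul]; exact SetLike.mul_mem_graded hx (SetLike.pow_mem_graded k hs)) := by
  apply HomogeneousLocalization.val_injective
  simp only [Away.val_mk]
  rw [Localization.mk_eq_mk_iff, Localization.r_iff_exists]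
  refine ⟨1, ?_⟩
  simp only [OneMemClass.coe_one, one_mul]
  ring

theorem away_map_bijective (φ : ℬ →+*ᵍ 𝒜) (N : ℕ)
    (hbij : ∀ n : ℕ, N ≤ n → Set.BijOn φ (ℬ n) (𝒜 n))
    {i : ℕ} (hi : 0 < i) (s : B) (hs : s ∈ ℬ i) :
    Function.Bijective (Away.map φ s : Away ℬ s →+* Away 𝒜 (φ s)) := by
  have hφs : φ s ∈ 𝒜 i := φ.map_mem hs
  constructor
  · rw [injective_iff_map_eq_zero]
    intro x hx
    obtain ⟨n, b, hb, rfl⟩ := Away.mk_surjective ℬ hs x
    rw [Away.map_mk] at hx
    have hval := congrArg HomogeneousLocalization.val hx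
    rw [Away.val_mk, HomogeneousLocalization.val_zero, Localization.mk_eq_mk',
      IsLocalization.mk'_eq_zero_iff] at hval
    obtain ⟨⟨_, k, rfl⟩, hk⟩ := hval
    have hdeg : N ≤ (k + N) • i + n • i := by
      have : N ≤ (k + N) * i := le_trans (Nat.le_add_left N k) (Nat.le_mul_of_pos_right _ hi)
      rw [smul_eq_mul]; omega
    have hmem : s ^ (k + N) * b ∈ ℬ ((k + N) • i + n • i) :=
      SetLike.mul_mem_graded (SetLike.pow_mem_graded (k + N) hs) hb
    have hzero : φ (s ^ (k + N) * b) = φ 0 := by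
      rw [map_mul, map_pow, map_zero, pow_add, mul_assoc, mul_comm (φ s ^ N), ← mul_assoc]
      simp only at hk
      rw [hk, zero_mul]
    have h0 : s ^ (k + N) * b = 0 := (hbij _ hdeg).injOn hmem (zero_mem _) hzero
    apply HomogeneousLocalization.val_injective
    rw [Away.val_mk, HomogeneousLocalization.val_zero, Localization.mk_eq_mk',
      IsLocalization.mk'_eq_zero_iff]
    exact ⟨⟨s ^ (k + N), k + N, rfl⟩, h0⟩
  · intro y
    obtain ⟨n, a, ha, rfl⟩ := Away.mk_surjective 𝒜 hφs y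
    rw [mk_add_pow 𝒜 hφs n N a ha]
    have hdeg : N ≤ (n + N) • i := by
      rw [smul_eq_mul]
      exact le_trans (Nat.le_add_left N n) (Nat.le_mul_of_pos_right _ hi)
    have hmem : a * φ s ^ N ∈ 𝒜 ((n + N) • i) := by
      rw [add_smul]; exact SetLike.mul_mem_graded ha (SetLike.pow_mem_graded N hφs)
    obtain ⟨b, hb, hbe⟩ := (hbij _ hdeg).surjOn hmem
    refine ⟨Away.mk ℬ hs (n + N) b hb, ?_⟩
    rw [Away.map_mk]
    congr 1

/-- A graded homomorphism that is bijective in all degrees `≥ N` induces an isomorphism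
on `Proj`. -/
theorem isIso_proj_map (φ : ℬ →+*ᵍ 𝒜) (N : ℕ)
    (hbij : ∀ n : ℕ, N ≤ n → Set.BijOn φ (ℬ n) (𝒜 n))
    (hφ : HomogeneousIdeal.irrelevant 𝒜 ≤ (HomogeneousIdeal.irrelevant ℬ).map φ) :
    CategoryTheory.IsIso (Proj.map φ hφ) := by
  refine (IsZariskiLocalAtTarget.of_openCover (P := MorphismProperty.isomorphisms Scheme)
    (Proj.affineOpenCover ℬ).openCover) fun t => ?_
  obtain ⟨i, s⟩ := t
  have hsq : Proj.awayι 𝒜 (φ s.1) (φ.map_mem s.2) i.2 ≫ Proj.map φ hφ =
      Spec.map (CommRingCat.ofHom (HomogeneousLocalization.Away.map φ s.1)) ≫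
        Proj.awayι ℬ s.1 s.2 i.2 :=
    Proj.awayι_comp_map φ hφ i.2 s.1 s.2
  have hpb := IsOpenImmersion.isPullback
    (Spec.map (CommRingCat.ofHom (HomogeneousLocalization.Away.map φ s.1)))
    (Proj.awayι 𝒜 (φ s.1) (φ.map_mem s.2) i.2) (Proj.awayι ℬ s.1 s.2 i.2) (Proj.map φ hφ) hsq
    (by rw [Proj.opensRange_awayι, Proj.opensRange_awayι, Proj.map_preimage_basicOpen])
  have hiso : IsIso (Spec.map (CommRingCat.ofHom (HomogeneousLocalization.Away.map φ s.1))) := by
    have hb := away_map_bijective 𝒜 ℬ φ N hbij i.2 s.1 s.2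
    have : IsIso (CommRingCat.ofHom (HomogeneousLocalization.Away.map φ s.1)) :=
      (ConcreteCategory.isIso_iff_bijective _).mpr hb
    infer_instance
  change IsIso (pullback.snd (Proj.map φ hφ) (Proj.awayι ℬ s.1 s.2 i.2))
  have heq : pullback.snd (Proj.map φ hφ) (Proj.awayι ℬ s.1 s.2 i.2) =
      hpb.flip.isoPullback.inv ≫
        Spec.map (CommRingCat.ofHom (HomogeneousLocalization.Away.map φ s.1)) := by
    rw [Iso.eq_inv_comp]
    exact hpb.flip.isoPullback_hom_snd
  rw [heq]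
  infer_instance

end Groth.Agent.Lib.Helper8.ProjTN
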