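import Groth.Agent.Lib.Helper8.NaturalFT
import Groth.Agent.Lib.Helper8.ProjTN
import Mathlib.AlgebraicGeometry.ProjectiveSpectrum.Functor
import Mathlib.RingTheory.GradedAlgebra.Homogeneous.Ideal
import Mathlib.RingTheory.Nilpotent.Lemmas

/-!
# `Proj S → Proj (S♮ ⊗_S S_0)`
-/

set_option autoImplicit false
set_option linter.unusedSectionVars false
universe u

namespace Groth.Agent.Lib.Helper8.Natural

open DirectSum AlgebraicGeometry
open scoped HomogeneousIdeal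

variable {R A B C : Type u} [CommRing R] [CommRing A] [Algebra R A]
variable (𝒜 : ℕ → Submodule R A) [GradedAlgebra 𝒜]
variable [CommRing B] [Algebra R B] (ℬ : ℕ → Submodule R B) [GradedAlgebra ℬ]
  (φ : B →ₐ[R] Polynomial A) (hφ : Function.Injective φ)
  (hdeg : ∀ n : ℕ, Submodule.map φ.toLinearMap (ℬ n) = Submodule.map (monoR n) (ge 𝒜 n))
variable [CommRing C] [Algebra R C] (𝒞 : ℕ → Submodule R C) [GradedAlgebra 𝒞]
  (π : ℬ →+*ᵍ 𝒞) (hπ : Function.Surjective π)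
  (hker : RingHom.ker π.toRingHom =
    Ideal.span (⇑φ ⁻¹' (⇑(Polynomial.C : A →+* Polynomial A) ''
      ((HomogeneousIdeal.irrelevant 𝒜).toIdeal : Set A))))
  (ρ : 𝒞 →+*ᵍ 𝒜)
  (hρ : ∀ (n : ℕ) (b : B), b ∈ ℬ n → ρ (π b) = GradedRing.proj 𝒜 n ((φ b).coeff n))

include hρ in
lemma rho_pi_eq_theta (b : B) : ρ (π b) = theta 𝒜 ℬ φ hdeg b := by
  classical
  rw [← DirectSum.sum_support_decompose ℬ b, map_sum, map_sum, map_sum]
  refine Finset.sum_congr rfl fun n _ => ?_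
  rw [hρ n _ (Submodule.coe_mem _), theta_of_mem 𝒜 ℬ φ hdeg (Submodule.coe_mem _)]

include hρ hdeg in
lemma rho_surjective : Function.Surjective ρ := by
  intro a
  obtain ⟨b, hb⟩ := theta_surjective 𝒜 ℬ φ hdeg a
  exact ⟨π b, by rw [rho_pi_eq_theta 𝒜 ℬ φ hdeg 𝒞 π ρ hρ, hb]⟩

lemma mem_ge_succ_of_proj_eq_zero {n : ℕ} {a : A} (ha : a ∈ ge 𝒜 n)
    (h0 : GradedRing.proj 𝒜 n a = 0) : a ∈ ge 𝒜 (n + 1) := by
  classical
  rw [← DirectSum.sum_support_decompose 𝒜 a]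
  refine Submodule.sum_mem _ fun m _ => ?_
  by_cases hm : n + 1 ≤ m
  · exact le_ge 𝒜 hm (Submodule.coe_mem _)
  · have : GradedRing.proj 𝒜 m a = 0 := by
      rcases Nat.lt_or_ge m n with h | h
      · exact proj_of_mem_ge_of_lt 𝒜 ha h
      · obtain rfl : m = n := by omega
        exact h0
    rw [GradedRing.proj_apply] at this
    rw [this]; exact zero_mem _

include hker in
lemma pi_eq_zero_of_phi_eq_C {b : B} {a : A} (ha : a ∈ (HomogeneousIdeal.irrelevant 𝒜).toIdeal)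
    (hb : φ b = Polynomial.monomial 0 a) : π b = 0 := by
  have : b ∈ RingHom.ker π.toRingHom := by
    rw [hker]
    refine Ideal.subset_span ⟨a, ha, ?_⟩
    rw [hb]; rfl
  exact this

include hφ hdeg hker in
/-- The class of `[a]_n` with `a ∈ A_{≥ n+1}` is nilpotent in `C`. -/
lemma isNilpotent_pi_of_mem_ge_succ {n : ℕ} {a : A} (ha : a ∈ ge 𝒜 (n + 1)) :
    ∃ b, φ b = Polynomial.monomial n a ∧ IsNilpotent (π b) := by
  refine ge_induction 𝒜 (P := fun a => ∃ b, φ b = Polynomial.monomial n a ∧ IsNilpotent (π b))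
    ?_ ?_ ?_ ha
  · intro m hm x hx
    obtain ⟨b, _, hb⟩ := exists_of_mem_ge 𝒜 ℬ φ hdeg (le_ge 𝒜 (by omega : n ≤ m) hx)
    refine ⟨b, hb, m, ?_⟩
    have hxpow : x ^ (m - 1) ∈ 𝒜 ((m - 1) • m) := SetLike.pow_mem_graded (m - 1) hx
    obtain ⟨b1, _, hb1⟩ := exists_of_mem_ge 𝒜 ℬ φ hdeg (n := n * m)
      (le_ge 𝒜 (by rw [smul_eq_mul]; exact Nat.mul_le_mul_right m (by omega)) hxpow)
    obtain ⟨b0, _, hb0⟩ := exists_phi_eq_C 𝒜 ℬ φ hdeg x
    have hpow : b ^ m = b1 * b0 := hφ (by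
      rw [map_pow, map_mul φ, hb, hb1, hb0, Polynomial.monomial_pow,
        Polynomial.monomial_mul_monomial, ← pow_succ, Nat.sub_add_cancel (by omega), Nat.add_zero])
    have hx0 : x ∈ (HomogeneousIdeal.irrelevant 𝒜).toIdeal :=
      HomogeneousIdeal.mem_irrelevant_of_mem 𝒜 (by omega) hx
    rw [← map_pow, hpow, map_mul, pi_eq_zero_of_phi_eq_C 𝒜 ℬ φ 𝒞 π hker hx0 hb0, mul_zero]
  · exact ⟨0, by simp, by simp⟩
  · rintro x y ⟨bx, hbx, hbx'⟩ ⟨by', hby, hby'⟩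
    refine ⟨bx + by', by rw [map_add φ, map_add, hbx, hby], ?_⟩
    rw [map_add]
    exact Commute.isNilpotent_add (Commute.all _ _) hbx' hby'

include hφ hdeg hπ hker hρ in
lemma isNilpotent_of_rho_eq_zero_of_mem {n : ℕ} {c : C} (hc : c ∈ 𝒞 n) (h0 : ρ c = 0) :
    IsNilpotent c := by
  obtain ⟨b, rfl⟩ := hπ c
  -- replace `b` by its degree `n` component
  have hb' : π (DirectSum.decompose ℬ b n : B) = π b := by
    rw [GradedRingHom.map_directSumDecompose, DirectSum.decompose_of_mem_same 𝒞 hc]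
  set b' : B := (DirectSum.decompose ℬ b n : B) with hb'def
  have hb'mem : b' ∈ ℬ n := Submodule.coe_mem _
  obtain ⟨a, ha, hba⟩ := exists_of_mem_B 𝒜 ℬ φ hdeg hb'mem
  have h1 : GradedRing.proj 𝒜 n a = 0 := by
    have := hρ n b' hb'mem
    rw [hb', h0, hba, Polynomial.coeff_monomial_same] at this
    exact this.symm
  obtain ⟨b'', hb''φ, hb''nil⟩ := isNilpotent_pi_of_mem_ge_succ 𝒜 ℬ φ hφ hdeg 𝒞 π hker
    (mem_ge_succ_of_proj_eq_zero 𝒜 ha h1)
  have : b' = b'' := hφ (by rw [hba, hb''φ])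
  rw [← hb', this]
  exact hb''nil

include hφ hdeg hπ hker hρ in
lemma ker_rho_le_nilradical : RingHom.ker ρ.toRingHom ≤ nilradical C := by
  classical
  intro c hc
  have hc0 : ρ c = 0 := hc
  rw [← DirectSum.sum_support_decompose 𝒞 c]
  refine Ideal.sum_mem _ fun n _ => ?_
  rw [mem_nilradical]
  refine isNilpotent_of_rho_eq_zero_of_mem 𝒜 ℬ φ hφ hdeg 𝒞 π hπ hker ρ hρ
    (Submodule.coe_mem _) ?_
  rw [GradedRingHom.map_directSumDecompose, hc0, DirectSum.decompose_zero]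
  rfl

include hφ hdeg hπ hker hρ in
/-- `Proj S → Proj (S♮ ⊗_S S_0)` is bijective. -/
theorem proj_map_bijective
    (hirr : HomogeneousIdeal.irrelevant 𝒜 ≤ (HomogeneousIdeal.irrelevant 𝒞).map ρ) :
    Function.Bijective (Proj.map ρ hirr).base := by
  have hsurj : Function.Surjective ρ := rho_surjective 𝒜 ℬ φ hdeg 𝒞 π ρ hρ
  have hnil := ker_rho_le_nilradical 𝒜 ℬ φ hφ hdeg 𝒞 π hπ hker ρ hρ
  constructor
  · intro p p' h
    have h' : p.asHomogeneousIdeal.comap ρ = p'.asHomogeneousIdeal.comap ρ :=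
      congrArg ProjectiveSpectrum.asHomogeneousIdeal h
    apply ProjectiveSpectrum.ext
    apply HomogeneousIdeal.ext
    ext x
    obtain ⟨c, rfl⟩ := hsurj x
    have := SetLike.ext_iff.mp h' c
    exact this
  · intro q
    have hkq : RingHom.ker ρ.toRingHom ≤ q.asHomogeneousIdeal.toIdeal :=
      hnil.trans (nilradical_le_prime _)
    have hcm : (q.asHomogeneousIdeal.toIdeal.map ρ.toRingHom).comap ρ.toRingHom =
        q.asHomogeneousIdeal.toIdeal := by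
      rw [Ideal.comap_map_of_surjective ρ.toRingHom hsurj]
      exact sup_eq_left.mpr hkq
    refine ⟨⟨q.asHomogeneousIdeal.map ρ,
      Ideal.map_isPrime_of_surjective (f := ρ.toRingHom) hsurj hkq, ?_⟩, ?_⟩
    · intro hle
      apply q.not_irrelevant_le
      intro c hc
      have h1 : ρ c ∈ (HomogeneousIdeal.irrelevant 𝒜) := by
        rw [HomogeneousIdeal.mem_irrelevant_iff, GradedRing.proj_apply,
          ← GradedRingHom.map_directSumDecompose]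
        have hc' : GradedRing.proj 𝒞 0 c = 0 := hc
        rw [GradedRing.proj_apply] at hc'
        rw [hc', map_zero]
      have h2 : ρ c ∈ (q.asHomogeneousIdeal.toIdeal.map ρ.toRingHom) := hle h1
      have h3 : c ∈ (q.asHomogeneousIdeal.toIdeal.map ρ.toRingHom).comap ρ.toRingHom := h2
      rw [hcm] at h3
      exact h3
    · apply ProjectiveSpectrum.ext
      apply HomogeneousIdeal.ext
      exact hcm

lemma ge_one_le_irrelevant {x : A} (hx : x ∈ ge 𝒜 1) :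
    x ∈ (HomogeneousIdeal.irrelevant 𝒜).toIdeal := by
  refine ge_induction 𝒜 (P := fun x => x ∈ (HomogeneousIdeal.irrelevant 𝒜).toIdeal) ?_ ?_ ?_ hx
  · intro m hm x hx
    exact HomogeneousIdeal.mem_irrelevant_of_mem 𝒜 (by omega) hx
  · exact zero_mem _
  · intro x y hx hy
    exact add_mem hx hy

lemma ge_succ_le_mul {n₀ : ℕ} (hgen : ∀ n : ℕ, n₀ ≤ n → 𝒜 (n + 1) = 𝒜 1 * 𝒜 n) {n : ℕ}
    (hn : n₀ ≤ n) : ge 𝒜 (n + 1) ≤ ge 𝒜 1 * ge 𝒜 n := by
  refine iSup₂_le fun m hm => ?_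
  obtain ⟨m, rfl⟩ : ∃ k, m = k + 1 := ⟨m - 1, by omega⟩
  rw [hgen m (by omega)]
  exact mul_le_mul' (le_ge 𝒜 le_rfl) (le_ge 𝒜 (by omega))

include hφ hdeg hker in
lemma exists_pi_eq_zero_of_mem_mul {n : ℕ} {a : A} (ha : a ∈ ge 𝒜 1 * ge 𝒜 n) :
    ∃ b, φ b = Polynomial.monomial n a ∧ π b = 0 := by
  refine Submodule.mul_induction_on (C := fun a => ∃ b, φ b = Polynomial.monomial n a ∧ π b = 0)
    ha ?_ ?_
  · intro x hx y hy
    obtain ⟨bx, _, hbx⟩ := exists_phi_eq_C 𝒜 ℬ φ hdeg x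
    obtain ⟨by', _, hby⟩ := exists_of_mem_ge 𝒜 ℬ φ hdeg hy
    refine ⟨bx * by', ?_, ?_⟩
    · rw [map_mul φ, hbx, hby, Polynomial.monomial_mul_monomial, Nat.zero_add]
    · rw [map_mul, pi_eq_zero_of_phi_eq_C 𝒜 ℬ φ 𝒞 π hker (ge_one_le_irrelevant 𝒜 hx) hbx,
        zero_mul]
  · rintro x y ⟨bx, hbx, hbx'⟩ ⟨by', hby, hby'⟩
    exact ⟨bx + by', by rw [map_add φ, map_add, hbx, hby], by rw [map_add, hbx', hby', add_zero]⟩

include hφ hdeg hπ hker hρ in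
lemma rho_bijOn {n₀ : ℕ} (hgen : ∀ n : ℕ, n₀ ≤ n → 𝒜 (n + 1) = 𝒜 1 * 𝒜 n) {n : ℕ}
    (hn : n₀ ≤ n) : Set.BijOn ρ (𝒞 n) (𝒜 n) := by
  refine ⟨fun c hc => ρ.map_mem hc, ?_, ?_⟩
  · -- injectivity
    intro c hc c' hc' hcc'
    rw [← sub_eq_zero]
    have hd : c - c' ∈ 𝒞 n := sub_mem hc hc'
    have h0 : ρ (c - c') = 0 := by rw [map_sub, hcc', sub_self]
    obtain ⟨b, hb⟩ := hπ (c - c')
    have hb' : π (DirectSum.decompose ℬ b n : B) = c - c' := by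
      rw [GradedRingHom.map_directSumDecompose, hb, DirectSum.decompose_of_mem_same 𝒞 hd]
    set b' : B := (DirectSum.decompose ℬ b n : B) with hb'def
    have hb'mem : b' ∈ ℬ n := Submodule.coe_mem _
    obtain ⟨a, ha, hba⟩ := exists_of_mem_B 𝒜 ℬ φ hdeg hb'mem
    have h1 : GradedRing.proj 𝒜 n a = 0 := by
      have := hρ n b' hb'mem
      rw [hb', h0, hba, Polynomial.coeff_monomial_same] at this
      exact this.symm
    obtain ⟨b'', hb''φ, hb''0⟩ := exists_pi_eq_zero_of_mem_mul 𝒜 ℬ φ hφ hdeg 𝒞 π hker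
      (ge_succ_le_mul 𝒜 hgen hn (mem_ge_succ_of_proj_eq_zero 𝒜 ha h1))
    have : b' = b'' := hφ (by rw [hba, hb''φ])
    rw [← hb', this, hb''0]
  · -- surjectivity
    intro a ha
    obtain ⟨c, hc⟩ := rho_surjective 𝒜 ℬ φ hdeg 𝒞 π ρ hρ a
    refine ⟨(DirectSum.decompose 𝒞 c n : C), Submodule.coe_mem _, ?_⟩
    rw [GradedRingHom.map_directSumDecompose, hc, DirectSum.decompose_of_mem_same 𝒜 ha]

include hφ hdeg hπ hker hρ in
/-- `Proj S → Proj (S♮ ⊗_S S_0)` is an isomorphism if `S_{n+1} = S_1 S_n` for large `n`. -/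
theorem isIso_proj_map_natural
    (hirr : HomogeneousIdeal.irrelevant 𝒜 ≤ (HomogeneousIdeal.irrelevant 𝒞).map ρ)
    (hgen : ∃ n₀ : ℕ, ∀ n : ℕ, n₀ ≤ n → 𝒜 (n + 1) = 𝒜 1 * 𝒜 n) :
    CategoryTheory.IsIso (Proj.map ρ hirr) := by
  obtain ⟨n₀, hgen⟩ := hgen
  exact ProjTN.isIso_proj_map 𝒜 𝒞 ρ n₀
    (fun n hn => rho_bijOn 𝒜 ℬ φ hφ hdeg 𝒞 π hπ hker ρ hρ hgen hn) hirr

end Groth.Agent.Lib.Helper8.Natural
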