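import Mathlib

set_option backward.isDefEq.respectTransparency.types false
set_option autoImplicit false
set_option linter.unusedSectionVars false
set_option linter.style.haveILetI false

namespace Groth.Agent.Lib.Helper8.Nod1

open MvPolynomial

universe u

variable {A : Type u} [CommRing A] (t : A)

/-- weight `i - j` of the monomial `X^i Y^j` -/
def wt (m : Fin 2 →₀ ℕ) : ℤ := (m 0 : ℤ) - (m 1 : ℤ)

/-- `min i j` -/
def mn (m : Fin 2 →₀ ℕ) : ℕ := min (m 0) (m 1)

/-- `X^i Y^j ↦ t^{min i j} T^{i-j}` -/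
noncomputable def Φ : MvPolynomial (Fin 2) A →ₗ[A] (ℤ →₀ A) :=
  (basisMonomials (Fin 2) A).constr A fun m => Finsupp.single (wt m) (t ^ mn m)

theorem Φ_monomial (m : Fin 2 →₀ ℕ) :
    Φ t (monomial m (1 : A)) = Finsupp.single (wt m) (t ^ mn m) := by
  have := (basisMonomials (Fin 2) A).constr_basis A (fun m => Finsupp.single (wt m) (t ^ mn m)) m
  rwa [coe_basisMonomials] at this

/-- `T^w ↦ X^w` or `Y^{-w}` -/
noncomputable def Θ : (ℤ →₀ A) →ₗ[A] MvPolynomial (Fin 2) A :=
  Finsupp.lsum A fun w : ℤ =>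
    LinearMap.toSpanSingleton A (MvPolynomial (Fin 2) A) ((X 0) ^ w.toNat * (X 1) ^ (-w).toNat)

theorem Θ_single (w : ℤ) (a : A) :
    Θ (Finsupp.single w a) = a • ((X 0 : MvPolynomial (Fin 2) A) ^ w.toNat * (X 1) ^ (-w).toNat) := by
  simp [Θ]

theorem monomial_eq' (m : Fin 2 →₀ ℕ) :
    (monomial m (1 : A)) = (X 0) ^ (m 0) * (X 1) ^ (m 1) := by
  rw [MvPolynomial.monomial_eq]
  simp [Finsupp.prod_fintype, Fin.prod_univ_two]

theorem X0_mul_monomial (m : Fin 2 →₀ ℕ) :
    (X 0 : MvPolynomial (Fin 2) A) * monomial m (1 : A) = monomial (m + Finsupp.single 0 1) 1 := by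
  rw [monomial_eq', monomial_eq']
  simp [pow_succ]
  ring

theorem X1_mul_monomial (m : Fin 2 →₀ ℕ) :
    (X 1 : MvPolynomial (Fin 2) A) * monomial m (1 : A) = monomial (m + Finsupp.single 1 1) 1 := by
  rw [monomial_eq', monomial_eq']
  simp [pow_succ]
  ring

/-- the relation ideal -/
noncomputable def rel : Ideal (MvPolynomial (Fin 2) A) := Ideal.span {X 0 * X 1 - C t}

theorem pow_sub_mem (n : ℕ) :
    ((X 0 * X 1 : MvPolynomial (Fin 2) A)) ^ n - C (t ^ n) ∈ rel t := by
  rw [map_pow]
  obtain ⟨c, hc⟩ := sub_dvd_pow_sub_pow (X 0 * X 1 : MvPolynomial (Fin 2) A) (C t) n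
  rw [hc]
  exact Ideal.mul_mem_right _ _ (Ideal.subset_span rfl)

theorem sub_ΘΦ_mem (P : MvPolynomial (Fin 2) A) : P - Θ (Φ t P) ∈ rel t := by
  have h : ∀ m : Fin 2 →₀ ℕ, monomial m (1 : A) - Θ (Φ t (monomial m 1)) ∈ rel t := by
    intro m
    rw [Φ_monomial, Θ_single, monomial_eq']
    rcases le_total (m 1) (m 0) with h | h
    · obtain ⟨e, he⟩ := Nat.exists_eq_add_of_le h
      have h1 : (wt m).toNat = e := by simp [wt, he]
      have h2 : (-wt m).toNat = 0 := by simp [wt, he]
      have h3 : mn m = m 1 := by simp [mn, h]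
      rw [h1, h2, h3, he, pow_zero, mul_one, smul_eq_C_mul]
      have := Ideal.mul_mem_left (rel t) ((X 0 : MvPolynomial (Fin 2) A) ^ e) (pow_sub_mem t (m 1))
      convert this using 1
      ring
    · obtain ⟨e, he⟩ := Nat.exists_eq_add_of_le h
      have h1 : (wt m).toNat = 0 := by simp [wt, he]
      have h2 : (-wt m).toNat = e := by simp [wt, he]
      have h3 : mn m = m 0 := by simp [mn, h]
      rw [h1, h2, h3, he, pow_zero, one_mul, smul_eq_C_mul]
      have := Ideal.mul_mem_left (rel t) ((X 1 : MvPolynomial (Fin 2) A) ^ e) (pow_sub_mem t (m 0))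
      convert this using 1
      ring
  induction P using MvPolynomial.induction_on' with
  | monomial m a =>
    have : monomial m a = a • monomial m (1 : A) := by
      rw [smul_monomial, smul_eq_mul, mul_one]
    rw [this, map_smul, map_smul, ← smul_sub, smul_eq_C_mul]
    exact Ideal.mul_mem_left _ _ (h m)
  | add p q hp hq =>
    rw [map_add, map_add]
    have : p + q - (Θ (Φ t p) + Θ (Φ t q)) = (p - Θ (Φ t p)) + (q - Θ (Φ t q)) := by ring
    rw [this]
    exact Ideal.add_mem _ hp hq

theorem Φ_rel (P : MvPolynomial (Fin 2) A) (hP : P ∈ rel t) : Φ t P = 0 := by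
  obtain ⟨Q, rfl⟩ := Ideal.mem_span_singleton'.mp hP
  induction Q using MvPolynomial.induction_on' with
  | monomial m a =>
    have e : monomial m a * (X 0 * X 1 - C t) =
        a • (X 0 * (X 1 * monomial m (1 : A))) - (a * t) • monomial m (1 : A) := by
      rw [smul_eq_C_mul, smul_eq_C_mul, map_mul]
      have : monomial m a = C a * monomial m (1 : A) := by rw [C_mul_monomial, mul_one]
      rw [this]; ring
    rw [e, map_sub, map_smul, map_smul, X1_mul_monomial, X0_mul_monomial, Φ_monomial, Φ_monomial]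
    have h1 : wt (m + Finsupp.single 1 1 + Finsupp.single 0 1) = wt m := by simp [wt]
    have h2 : mn (m + Finsupp.single 1 1 + Finsupp.single 0 1) = mn m + 1 := by
      simp [mn]
    rw [h1, h2, Finsupp.smul_single, Finsupp.smul_single, smul_eq_mul, smul_eq_mul, pow_succ,
      sub_eq_zero]
    congr 1
    ring
  | add p q hp hq =>
    rw [add_mul, map_add, hp (Ideal.mul_mem_left _ _ (Ideal.subset_span rfl)),
      hq (Ideal.mul_mem_left _ _ (Ideal.subset_span rfl)), add_zero]


theorem Φ_X0_mul (P : MvPolynomial (Fin 2) A) (w : ℤ) (hw : 0 ≤ w) :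
    Φ t (X 0 * P) (w + 1) = Φ t P w := by
  induction P using MvPolynomial.induction_on' with
  | monomial m a =>
    have : monomial m a = a • monomial m (1 : A) := by
      rw [smul_monomial, smul_eq_mul, mul_one]
    rw [this, mul_smul_comm, map_smul, map_smul, X0_mul_monomial, Φ_monomial, Φ_monomial,
      Finsupp.smul_apply, Finsupp.smul_apply, Finsupp.single_apply, Finsupp.single_apply]
    have h1 : wt (m + Finsupp.single 0 1) = wt m + 1 := by simp [wt]; ring
    rw [h1]
    by_cases h : wt m = w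
    · have h2 : mn (m + Finsupp.single 0 1) = mn m := by
        have : (m 1 : ℤ) ≤ m 0 := by rw [wt] at h; omega
        have : m 1 ≤ m 0 := by exact_mod_cast this
        simp [mn]; omega
      rw [if_pos (by rw [h]), if_pos h, h2]
    · rw [if_neg (by intro h'; apply h; linarith), if_neg h]
  | add p q hp hq =>
    rw [mul_add, (Φ t).map_add, (Φ t).map_add, Finsupp.add_apply, Finsupp.add_apply, hp, hq]

theorem Φ_X1_mul (P : MvPolynomial (Fin 2) A) (w : ℤ) (hw : w ≤ 0) :
    Φ t (X 1 * P) (w - 1) = Φ t P w := by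
  induction P using MvPolynomial.induction_on' with
  | monomial m a =>
    have : monomial m a = a • monomial m (1 : A) := by
      rw [smul_monomial, smul_eq_mul, mul_one]
    rw [this, mul_smul_comm, map_smul, map_smul, X1_mul_monomial, Φ_monomial, Φ_monomial,
      Finsupp.smul_apply, Finsupp.smul_apply, Finsupp.single_apply, Finsupp.single_apply]
    have h1 : wt (m + Finsupp.single 1 1) = wt m - 1 := by simp [wt]; ring
    rw [h1]
    by_cases h : wt m = w
    · have h2 : mn (m + Finsupp.single 1 1) = mn m := by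
        have : (m 0 : ℤ) ≤ m 1 := by rw [wt] at h; omega
        have : m 0 ≤ m 1 := by exact_mod_cast this
        simp [mn]; omega
      rw [if_pos (by rw [h]), if_pos h, h2]
    · rw [if_neg (by intro h'; apply h; linarith), if_neg h]
  | add p q hp hq =>
    rw [mul_add, (Φ t).map_add, (Φ t).map_add, Finsupp.add_apply, Finsupp.add_apply, hp, hq]

/-- in `A[X,Y]/(XY - t)`, an element killed by both `X` and `Y` is zero. -/
theorem mem_rel_of_mul_mem (P : MvPolynomial (Fin 2) A) (h0 : X 0 * P ∈ rel t)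
    (h1 : X 1 * P ∈ rel t) : P ∈ rel t := by
  have hΦ : Φ t P = 0 := by
    ext w
    rcases le_total 0 w with hw | hw
    · rw [← Φ_X0_mul t P w hw, Φ_rel t _ h0]; rfl
    · rw [← Φ_X1_mul t P w hw, Φ_rel t _ h1]; rfl
  have := sub_ΘΦ_mem t P
  rwa [hΦ, map_zero, sub_zero] at this

end Groth.Agent.Lib.Helper8.Nod1
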