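import Mathlib
import Groth.Agent.Lib.Helper8.Nod1

set_option backward.isDefEq.respectTransparency.types false
set_option autoImplicit false
set_option linter.unusedSectionVars false
set_option linter.style.haveILetI false

namespace Groth.Agent.Lib.Helper8.Nod2

open MvPolynomial Groth.Agent.Lib.Helper8.Nod1

universe u

variable {A : Type u} [CommRing A] {J : Type u} [AddCommGroup J] [Module A J] [Module Aᵐᵒᵖ J]
  [IsCentralScalar A J] (τ : TrivSqZeroExt A J)
  {B' : Type u} [CommRing B'] [Algebra (TrivSqZeroExt A J) B'] (x y : B')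

/-- coefficientwise first projection -/
noncomputable def fstMap : MvPolynomial (Fin 2) (TrivSqZeroExt A J) →+* MvPolynomial (Fin 2) A :=
  MvPolynomial.map (TrivSqZeroExt.fstHom A A J).toRingHom

/-- coefficientwise inclusion -/
noncomputable def inlMap : MvPolynomial (Fin 2) A →+* MvPolynomial (Fin 2) (TrivSqZeroExt A J) :=
  MvPolynomial.map (TrivSqZeroExt.inlHom A J)

theorem fstMap_inlMap (P : MvPolynomial (Fin 2) A) : fstMap (J := J) (inlMap P) = P := by
  rw [fstMap, inlMap, MvPolynomial.map_map]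
  have : (TrivSqZeroExt.fstHom A A J).toRingHom.comp (TrivSqZeroExt.inlHom A J) = RingHom.id A := by
    ext a; simp
  rw [this, MvPolynomial.map_id]

theorem ker_fstMap :
    RingHom.ker (fstMap (A := A) (J := J)) =
      Ideal.map (C : TrivSqZeroExt A J →+* _) (TrivSqZeroExt.kerIdeal A J) := by
  rw [fstMap, MvPolynomial.ker_map]
  rfl

theorem fstMap_gen :
    fstMap (X 0 * X 1 - C τ : MvPolynomial (Fin 2) (TrivSqZeroExt A J)) = X 0 * X 1 - C τ.fst := by
  simp [fstMap]

/-- the ideal generated by `J` in `B'` -/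
noncomputable def II : Ideal B' :=
  Ideal.map (algebraMap (TrivSqZeroExt A J) B') (TrivSqZeroExt.kerIdeal A J)

theorem II_eq_map :
    II (A := A) (J := J) (B' := B') =
      Ideal.map (MvPolynomial.aeval ![x, y] :
        MvPolynomial (Fin 2) (TrivSqZeroExt A J) →ₐ[TrivSqZeroExt A J] B')
        (Ideal.map (C : TrivSqZeroExt A J →+* _) (TrivSqZeroExt.kerIdeal A J)) := by
  change II = Ideal.map ((MvPolynomial.aeval ![x, y] :
        MvPolynomial (Fin 2) (TrivSqZeroExt A J) →ₐ[TrivSqZeroExt A J] B') :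
        MvPolynomial (Fin 2) (TrivSqZeroExt A J) →+* B')
        (Ideal.map (C : TrivSqZeroExt A J →+* _) (TrivSqZeroExt.kerIdeal A J))
  rw [Ideal.map_map, II]
  congr 1
  ext a
  simp

variable (hsurj : Function.Surjective
      (MvPolynomial.aeval ![x, y] : MvPolynomial (Fin 2) (TrivSqZeroExt A J) →ₐ[TrivSqZeroExt A J] B'))
    (hker : RingHom.ker
      (MvPolynomial.aeval ![x, y] : MvPolynomial (Fin 2) (TrivSqZeroExt A J) →ₐ[TrivSqZeroExt A J] B') =
      Ideal.span {MvPolynomial.X 0 * MvPolynomial.X 1 - MvPolynomial.C τ})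

include hsurj hker in
theorem aeval_mem_II_iff (P : MvPolynomial (Fin 2) (TrivSqZeroExt A J)) :
    MvPolynomial.aeval ![x, y] P ∈ II (A := A) (J := J) (B' := B') ↔
      fstMap P ∈ rel τ.fst := by
  constructor
  · intro h
    rw [II_eq_map x y] at h
    obtain ⟨P', hP', hPP'⟩ := (Ideal.mem_map_iff_of_surjective _ hsurj).mp h
    have h1 : P - P' ∈ Ideal.span {MvPolynomial.X 0 * MvPolynomial.X 1 - MvPolynomial.C τ} := by
      rw [← hker, RingHom.mem_ker, map_sub, hPP', sub_self]
    obtain ⟨Q, hQ⟩ := Ideal.mem_span_singleton'.mp h1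
    have h2 : fstMap P' = 0 := by
      rw [← RingHom.mem_ker, ker_fstMap]; exact hP'
    have h3 : fstMap P = fstMap Q * (X 0 * X 1 - C τ.fst) := by
      have : P = P' + Q * (X 0 * X 1 - C τ) := by rw [hQ]; ring
      rw [this, map_add, h2, zero_add, map_mul, fstMap_gen]
    rw [h3]
    exact Ideal.mul_mem_left _ _ (Ideal.subset_span rfl)
  · intro h
    obtain ⟨Q, hQ⟩ := Ideal.mem_span_singleton'.mp h
    have h1 : P - inlMap Q * (X 0 * X 1 - C τ) ∈
        Ideal.map (C : TrivSqZeroExt A J →+* _) (TrivSqZeroExt.kerIdeal A J) := by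
      rw [← ker_fstMap, RingHom.mem_ker, map_sub, map_mul, fstMap_gen, fstMap_inlMap, hQ, sub_self]
    have h2 : MvPolynomial.aeval ![x, y] (inlMap Q * (X 0 * X 1 - C τ) :
        MvPolynomial (Fin 2) (TrivSqZeroExt A J)) = (0 : B') := by
      rw [← RingHom.mem_ker, hker]
      exact Ideal.mul_mem_left _ _ (Ideal.subset_span rfl)
    have h3 : MvPolynomial.aeval ![x, y] P =
        MvPolynomial.aeval ![x, y] (P - inlMap Q * (X 0 * X 1 - C τ)) := by
      rw [map_sub, h2, sub_zero]
    rw [h3, II_eq_map x y]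
    exact Ideal.mem_map_of_mem _ h1

include hsurj hker in
/-- modulo `J B'`, an element killed by `x` and `y` vanishes. -/
theorem mem_II_of_mul_mem (c : B') (hx : c * x ∈ II (A := A) (J := J) (B' := B'))
    (hy : c * y ∈ II (A := A) (J := J) (B' := B')) : c ∈ II (A := A) (J := J) (B' := B') := by
  obtain ⟨P, rfl⟩ := hsurj c
  have e0 : MvPolynomial.aeval ![x, y] P * x = MvPolynomial.aeval ![x, y] (X 0 * P) := by
    rw [map_mul, aeval_X]; simp [mul_comm]
  have e1 : MvPolynomial.aeval ![x, y] P * y = MvPolynomial.aeval ![x, y] (X 1 * P) := by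
    rw [map_mul, aeval_X]; simp [mul_comm]
  rw [e0, aeval_mem_II_iff τ x y hsurj hker] at hx
  rw [e1, aeval_mem_II_iff τ x y hsurj hker] at hy
  rw [aeval_mem_II_iff τ x y hsurj hker]
  apply mem_rel_of_mul_mem
  · have : fstMap (J := J) (X 0 * P) = X 0 * fstMap P := by simp [fstMap]
    rwa [this] at hx
  · have : fstMap (J := J) (X 1 * P) = X 1 * fstMap P := by simp [fstMap]
    rwa [this] at hy

end Groth.Agent.Lib.Helper8.Nod2
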