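import Mathlib
import Groth.Agent.Lib.Helper8.Nod2

set_option backward.isDefEq.respectTransparency.types false
set_option autoImplicit false
set_option linter.unusedSectionVars false
set_option linter.style.haveILetI false

namespace Groth.Agent.Lib.Helper8.Nod3

open MvPolynomial TensorProduct Groth.Agent.Lib.Helper8.Nod1 Groth.Agent.Lib.Helper8.Nod2

universe u

variable (A : Type u) [CommRing A] (J : Type u) [AddCommGroup J] [Module A J] [Module Aᵐᵒᵖ J]
  [IsCentralScalar A J] (τ : TrivSqZeroExt A J)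
  (B' : Type u) [CommRing B'] [Algebra (TrivSqZeroExt A J) B'] [Algebra A B']
  [IsScalarTower A (TrivSqZeroExt A J) B'] (x y : B')

/-- the quotient `B = B'/JB'` -/
abbrev TT : Type u :=
  B' ⧸ Ideal.map (algebraMap (TrivSqZeroExt A J) B') (TrivSqZeroExt.kerIdeal A J)

/-- the ambient module `B ⊗ J ⊕ B dx ⊕ B dy` -/
abbrev EE : Type u := (TT A J B' ⊗[A] J) × TT A J B' × TT A J B'

/-- the relation `y dx + x dy - dτ` -/
noncomputable def rr : EE A J B' :=
  (-((1 : TT A J B') ⊗ₜ[A] τ.snd), Ideal.Quotient.mk _ y, Ideal.Quotient.mk _ x)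

/-- the target module of the detecting derivation -/
def NN : Type u := EE A J B' ⧸ Submodule.span (TT A J B') {rr A J τ B' x y}

noncomputable instance : AddCommGroup (NN A J τ B' x y) :=
  inferInstanceAs (AddCommGroup (EE A J B' ⧸ Submodule.span (TT A J B') {rr A J τ B' x y}))

noncomputable instance : Module (TT A J B') (NN A J τ B' x y) :=
  inferInstanceAs (Module (TT A J B') (EE A J B' ⧸ Submodule.span (TT A J B') {rr A J τ B' x y}))

noncomputable instance : Module A (NN A J τ B' x y) :=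
  inferInstanceAs (Module A (EE A J B' ⧸ Submodule.span (TT A J B') {rr A J τ B' x y}))

instance : IsScalarTower A (TT A J B') (NN A J τ B' x y) :=
  inferInstanceAs (IsScalarTower A (TT A J B')
    (EE A J B' ⧸ Submodule.span (TT A J B') {rr A J τ B' x y}))

noncomputable instance : Module (TT A J B')ᵐᵒᵖ (NN A J τ B' x y) :=
  Module.compHom _ ((RingHom.id (TT A J B')).fromOpposite fun a b => mul_comm a b)

instance : IsCentralScalar (TT A J B') (NN A J τ B' x y) := ⟨fun _ _ => rfl⟩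

instance : IsScalarTower A (TT A J B')ᵐᵒᵖ (NN A J τ B' x y) :=
  ⟨fun a t n => by
    induction t using MulOpposite.rec' with
    | _ t =>
      rw [← MulOpposite.op_smul, op_smul_eq_smul, op_smul_eq_smul, smul_assoc]⟩

/-- the quotient map `E → N` -/
noncomputable def mkN : EE A J B' →ₗ[TT A J B'] NN A J τ B' x y :=
  Submodule.mkQ _

theorem mkN_rr : mkN A J τ B' x y (rr A J τ B' x y) = 0 :=
  (Submodule.Quotient.mk_eq_zero _).mpr (Submodule.mem_span_singleton_self _)

theorem mkN_eq_zero_iff (e : EE A J B') :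
    mkN A J τ B' x y e = 0 ↔ ∃ c : TT A J B', c • rr A J τ B' x y = e := by
  change (Submodule.Quotient.mk e :
    EE A J B' ⧸ Submodule.span (TT A J B') {rr A J τ B' x y}) = 0 ↔ _
  rw [Submodule.Quotient.mk_eq_zero, Submodule.mem_span_singleton]

/-- the algebra receiving the lift -/
abbrev CC : Type u := TrivSqZeroExt (TT A J B') (NN A J τ B' x y)


/-- `j ↦ [1 ⊗ j, 0, 0]` -/
noncomputable def g₀ : J →ₗ[A] NN A J τ B' x y :=
  ((mkN A J τ B' x y).restrictScalars A) ∘ₗ
    (LinearMap.inl A (TT A J B' ⊗[A] J) (TT A J B' × TT A J B')) ∘ₗ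
    (TensorProduct.mk A (TT A J B') J 1)

theorem g₀_apply (j : J) :
    g₀ A J τ B' x y j = mkN A J τ B' x y ((1 : TT A J B') ⊗ₜ[A] j, 0, 0) := rfl

/-- the `A`-algebra map `A ⊕ J → B ⊕ N` -/
noncomputable def ψ₀ : TrivSqZeroExt A J →ₐ[A] CC A J τ B' x y :=
  TrivSqZeroExt.lift (Algebra.ofId A (CC A J τ B' x y))
    ((TrivSqZeroExt.inrHom (TT A J B') (NN A J τ B' x y)).restrictScalars A ∘ₗ g₀ A J τ B' x y)
    (fun a b => by simp)
    (fun r j => by
      simp only [LinearMap.coe_comp, LinearMap.coe_restrictScalars, Function.comp_apply, map_smul]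
      rw [Algebra.ofId_apply, Algebra.algebraMap_eq_smul_one, smul_mul_assoc, one_mul])
    (fun r j => by
      simp only [LinearMap.coe_comp, LinearMap.coe_restrictScalars, Function.comp_apply,
        op_smul_eq_smul, map_smul]
      rw [Algebra.ofId_apply, Algebra.algebraMap_eq_smul_one, mul_smul_comm, mul_one])

theorem ψ₀_inl (a : A) :
    ψ₀ A J τ B' x y (TrivSqZeroExt.inl a) = TrivSqZeroExt.inl (algebraMap A (TT A J B') a) := by
  rw [ψ₀, TrivSqZeroExt.lift_apply_inl]
  rfl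

theorem ψ₀_inr (j : J) :
    ψ₀ A J τ B' x y (TrivSqZeroExt.inr j) = TrivSqZeroExt.inr (g₀ A J τ B' x y j) := by
  rw [ψ₀, TrivSqZeroExt.lift_apply_inr]
  rfl

/-- images of the two variables -/
noncomputable def cx : CC A J τ B' x y :=
  TrivSqZeroExt.inl (Ideal.Quotient.mk _ x) + TrivSqZeroExt.inr (mkN A J τ B' x y (0, 1, 0))

noncomputable def cy : CC A J τ B' x y :=
  TrivSqZeroExt.inl (Ideal.Quotient.mk _ y) + TrivSqZeroExt.inr (mkN A J τ B' x y (0, 0, 1))

/-- the lift on the polynomial ring -/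
noncomputable def Ψt : MvPolynomial (Fin 2) (TrivSqZeroExt A J) →+* CC A J τ B' x y :=
  MvPolynomial.eval₂Hom (ψ₀ A J τ B' x y : TrivSqZeroExt A J →+* CC A J τ B' x y)
    ![cx A J τ B' x y, cy A J τ B' x y]


theorem mk_algebraMap_inr (j : J) :
    (Ideal.Quotient.mk (Ideal.map (algebraMap (TrivSqZeroExt A J) B') (TrivSqZeroExt.kerIdeal A J))
      (algebraMap (TrivSqZeroExt A J) B' (TrivSqZeroExt.inr j)) : TT A J B') = 0 := by
  rw [Ideal.Quotient.eq_zero_iff_mem]
  apply Ideal.mem_map_of_mem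
  rw [TrivSqZeroExt.mem_kerIdeal_iff_inr]
  simp

theorem mk_algebraMap (a' : TrivSqZeroExt A J) :
    (Ideal.Quotient.mk (Ideal.map (algebraMap (TrivSqZeroExt A J) B') (TrivSqZeroExt.kerIdeal A J))
      (algebraMap (TrivSqZeroExt A J) B' a') : TT A J B') = algebraMap A (TT A J B') a'.fst := by
  have h1 : a' = TrivSqZeroExt.inl a'.fst + TrivSqZeroExt.inr a'.snd :=
    (TrivSqZeroExt.inl_fst_add_inr_snd_eq a').symm
  conv_lhs => rw [h1]
  rw [map_add, map_add, mk_algebraMap_inr, add_zero]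
  have h2 : (TrivSqZeroExt.inl a'.fst : TrivSqZeroExt A J) = algebraMap A _ a'.fst := rfl
  rw [h2, ← IsScalarTower.algebraMap_apply A (TrivSqZeroExt A J) B']
  rfl

theorem Ψt_gen (hxy : x * y = algebraMap (TrivSqZeroExt A J) B' τ) :
    Ψt A J τ B' x y (X 0 * X 1 - C τ) = 0 := by
  have h3 : ∀ a' : TrivSqZeroExt A J, ψ₀ A J τ B' x y a' =
      TrivSqZeroExt.inl (algebraMap A (TT A J B') a'.fst) +
        TrivSqZeroExt.inr (g₀ A J τ B' x y a'.snd) := by
    intro a'
    conv_lhs => rw [← TrivSqZeroExt.inl_fst_add_inr_snd_eq a']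
    rw [map_add, ψ₀_inl, ψ₀_inr]
  have h2 : Ψt A J τ B' x y (X 0 * X 1 - C τ) =
      cx A J τ B' x y * cy A J τ B' x y - ψ₀ A J τ B' x y τ := by
    simp [Ψt]
  rw [h2, h3 τ, cx, cy]
  apply TrivSqZeroExt.ext
  · simp only [TrivSqZeroExt.fst_sub, TrivSqZeroExt.fst_mul, TrivSqZeroExt.fst_add,
      TrivSqZeroExt.fst_inl, TrivSqZeroExt.fst_inr, add_zero, TrivSqZeroExt.fst_zero]
    rw [← map_mul, hxy, mk_algebraMap, sub_self]
  · simp only [TrivSqZeroExt.snd_sub, TrivSqZeroExt.snd_mul, TrivSqZeroExt.fst_add,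
      TrivSqZeroExt.fst_inl, TrivSqZeroExt.fst_inr, add_zero, TrivSqZeroExt.snd_add,
      TrivSqZeroExt.snd_inl, TrivSqZeroExt.snd_inr, zero_add, TrivSqZeroExt.snd_zero,
      op_smul_eq_smul]
    rw [g₀_apply, ← map_smul, ← map_smul, ← map_add, ← map_sub]
    have : (Ideal.Quotient.mk _ x : TT A J B') • ((0 : TT A J B' ⊗[A] J), (0 : TT A J B'), (1 : TT A J B')) +
        (Ideal.Quotient.mk _ y : TT A J B') • ((0 : TT A J B' ⊗[A] J), (1 : TT A J B'), (0 : TT A J B')) -
        ((1 : TT A J B') ⊗ₜ[A] τ.snd, (0 : TT A J B'), (0 : TT A J B')) = rr A J τ B' x y := by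
      simp [rr]
    rw [this, mkN_rr]

end Groth.Agent.Lib.Helper8.Nod3
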