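import Mathlib
import Groth.Agent.Lib.Helper8.Nod3

set_option backward.isDefEq.respectTransparency.types false
set_option autoImplicit false
set_option linter.unusedSectionVars false
set_option linter.style.haveILetI false

namespace Groth.Agent.Lib.Helper8.Nod4

open MvPolynomial TensorProduct Groth.Agent.Lib.Helper8.Nod1 Groth.Agent.Lib.Helper8.Nod2
  Groth.Agent.Lib.Helper8.Nod3

universe u

variable (A : Type u) [CommRing A] (J : Type u) [AddCommGroup J] [Module A J] [Module Aᵐᵒᵖ J]
  [IsCentralScalar A J] (τ : TrivSqZeroExt A J)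
  (B' : Type u) [CommRing B'] [Algebra (TrivSqZeroExt A J) B'] [Algebra A B']
  [IsScalarTower A (TrivSqZeroExt A J) B'] (x y : B')
  (hsurj : Function.Surjective
      (MvPolynomial.aeval ![x, y] : MvPolynomial (Fin 2) (TrivSqZeroExt A J) →ₐ[TrivSqZeroExt A J] B'))
  (hker : RingHom.ker
      (MvPolynomial.aeval ![x, y] : MvPolynomial (Fin 2) (TrivSqZeroExt A J) →ₐ[TrivSqZeroExt A J] B') =
      Ideal.span {MvPolynomial.X 0 * MvPolynomial.X 1 - MvPolynomial.C τ})

include hker in
theorem hxy : x * y = algebraMap (TrivSqZeroExt A J) B' τ := by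
  have h : (X 0 * X 1 - C τ : MvPolynomial (Fin 2) (TrivSqZeroExt A J)) ∈ RingHom.ker
      (MvPolynomial.aeval ![x, y] : MvPolynomial (Fin 2) (TrivSqZeroExt A J) →ₐ[TrivSqZeroExt A J] B') := by
    rw [hker]; exact Ideal.subset_span rfl
  rw [RingHom.mem_ker] at h
  simp only [map_sub, map_mul, aeval_X, aeval_C] at h
  simpa [sub_eq_zero] using h

include hker in
theorem ker_le : RingHom.ker ((MvPolynomial.aeval ![x, y] :
      MvPolynomial (Fin 2) (TrivSqZeroExt A J) →ₐ[TrivSqZeroExt A J] B') :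
      MvPolynomial (Fin 2) (TrivSqZeroExt A J) →+* B') ≤ RingHom.ker (Ψt A J τ B' x y) := by
  have : RingHom.ker ((MvPolynomial.aeval ![x, y] :
      MvPolynomial (Fin 2) (TrivSqZeroExt A J) →ₐ[TrivSqZeroExt A J] B') :
      MvPolynomial (Fin 2) (TrivSqZeroExt A J) →+* B') =
      Ideal.span {MvPolynomial.X 0 * MvPolynomial.X 1 - MvPolynomial.C τ} := hker
  rw [this, Ideal.span_le, Set.singleton_subset_iff]
  exact Ψt_gen A J τ B' x y (hxy A J τ B' x y hker)

/-- the lift `B' → B ⊕ N` -/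
noncomputable def Ψ : B' →+* CC A J τ B' x y :=
  RingHom.liftOfSurjective ((MvPolynomial.aeval ![x, y] :
      MvPolynomial (Fin 2) (TrivSqZeroExt A J) →ₐ[TrivSqZeroExt A J] B') :
      MvPolynomial (Fin 2) (TrivSqZeroExt A J) →+* B') hsurj
    ⟨Ψt A J τ B' x y, ker_le A J τ B' x y hker⟩

theorem Ψ_aeval (P : MvPolynomial (Fin 2) (TrivSqZeroExt A J)) :
    Ψ A J τ B' x y hsurj hker (MvPolynomial.aeval ![x, y] P) = Ψt A J τ B' x y P :=
  RingHom.liftOfRightInverse_comp_apply _ _ _ ⟨Ψt A J τ B' x y, ker_le A J τ B' x y hker⟩ P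

theorem fst_Ψt (P : MvPolynomial (Fin 2) (TrivSqZeroExt A J)) :
    (Ψt A J τ B' x y P).fst = Ideal.Quotient.mk _ (MvPolynomial.aeval ![x, y] P) := by
  have : ((TrivSqZeroExt.fstHom A (TT A J B') (NN A J τ B' x y)) : CC A J τ B' x y →+* TT A J B').comp
      (Ψt A J τ B' x y) =
      (Ideal.Quotient.mk (Ideal.map (algebraMap (TrivSqZeroExt A J) B')
        (TrivSqZeroExt.kerIdeal A J))).comp ((MvPolynomial.aeval ![x, y] :
      MvPolynomial (Fin 2) (TrivSqZeroExt A J) →ₐ[TrivSqZeroExt A J] B') :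
      MvPolynomial (Fin 2) (TrivSqZeroExt A J) →+* B') := by
    apply MvPolynomial.ringHom_ext
    · intro a'
      simp only [RingHom.coe_comp, Function.comp_apply, Ψt, coe_eval₂Hom, eval₂_C]
      change _ = (Ideal.Quotient.mk _) (MvPolynomial.aeval ![x, y] (C a'))
      rw [aeval_C, mk_algebraMap]
      have h3 : ψ₀ A J τ B' x y a' =
          TrivSqZeroExt.inl (algebraMap A (TT A J B') a'.fst) +
            TrivSqZeroExt.inr (g₀ A J τ B' x y a'.snd) := by
        conv_lhs => rw [← TrivSqZeroExt.inl_fst_add_inr_snd_eq a']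
        rw [map_add, ψ₀_inl, ψ₀_inr]
      change (ψ₀ A J τ B' x y a').fst = _
      rw [h3]; simp
    · intro i
      simp only [RingHom.coe_comp, Function.comp_apply, Ψt, coe_eval₂Hom, eval₂_X]
      change _ = (Ideal.Quotient.mk _) (MvPolynomial.aeval ![x, y] (X i))
      rw [aeval_X]
      fin_cases i
      · change (cx A J τ B' x y).fst = _
        simp [cx]
      · change (cy A J τ B' x y).fst = _
        simp [cy]
  exact RingHom.congr_fun this P

theorem fst_Ψ (b : B') :
    (Ψ A J τ B' x y hsurj hker b).fst = Ideal.Quotient.mk _ b := by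
  obtain ⟨P, rfl⟩ := hsurj b
  rw [Ψ_aeval, fst_Ψt]

theorem Ψ_algebraMap (a' : TrivSqZeroExt A J) :
    Ψ A J τ B' x y hsurj hker (algebraMap _ B' a') = ψ₀ A J τ B' x y a' := by
  have : algebraMap _ B' a' = MvPolynomial.aeval ![x, y] (C a' : MvPolynomial (Fin 2) (TrivSqZeroExt A J)) := by
    rw [aeval_C]
  rw [this, Ψ_aeval]
  simp [Ψt]


section deriv

noncomputable instance instModB : Module B' (NN A J τ B' x y) :=
  Module.compHom _ (Ideal.Quotient.mk (Ideal.map (algebraMap (TrivSqZeroExt A J) B')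
    (TrivSqZeroExt.kerIdeal A J)))

theorem smulB_def (b : B') (n : NN A J τ B' x y) :
    b • n = (Ideal.Quotient.mk (Ideal.map (algebraMap (TrivSqZeroExt A J) B')
      (TrivSqZeroExt.kerIdeal A J)) b : TT A J B') • n := rfl

instance : IsScalarTower B' (TT A J B') (NN A J τ B' x y) :=
  ⟨fun b t n => by
    rw [smulB_def, Algebra.smul_def, mul_smul]; rfl⟩

instance : IsScalarTower A B' (NN A J τ B' x y) :=
  ⟨fun a b n => by
    rw [smulB_def, smulB_def]
    have : (Ideal.Quotient.mk (Ideal.map (algebraMap (TrivSqZeroExt A J) B')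
        (TrivSqZeroExt.kerIdeal A J)) (a • b) : TT A J B') =
        a • (Ideal.Quotient.mk _ b : TT A J B') := map_smul (Ideal.Quotient.mkₐ A _) a b
    rw [this, smul_assoc]⟩

/-- the detecting derivation -/
noncomputable def dd : Derivation A B' (NN A J τ B' x y) where
  toFun b := (Ψ A J τ B' x y hsurj hker b).snd
  map_add' b b' := by rw [map_add, TrivSqZeroExt.snd_add]
  map_smul' a b := by
    have h1 : a • b = algebraMap (TrivSqZeroExt A J) B' (TrivSqZeroExt.inl a) * b := by
      rw [Algebra.smul_def, IsScalarTower.algebraMap_apply A (TrivSqZeroExt A J) B']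
      rfl
    rw [h1, map_mul, Ψ_algebraMap, ψ₀_inl, TrivSqZeroExt.snd_mul]
    simp
  map_one_eq_zero' := by
    change (Ψ A J τ B' x y hsurj hker 1).snd = 0
    rw [map_one]; rfl
  leibniz' b b' := by
    change (Ψ A J τ B' x y hsurj hker (b * b')).snd =
      b • (Ψ A J τ B' x y hsurj hker b').snd + b' • (Ψ A J τ B' x y hsurj hker b).snd
    rw [map_mul, TrivSqZeroExt.snd_mul, fst_Ψ, fst_Ψ, op_smul_eq_smul, smulB_def, smulB_def]

theorem dd_apply (b : B') : dd A J τ B' x y hsurj hker b = (Ψ A J τ B' x y hsurj hker b).snd := rfl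

end deriv

end Groth.Agent.Lib.Helper8.Nod4
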