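import Mathlib
import Groth.Agent.Lib.Helper8.Nod4

set_option backward.isDefEq.respectTransparency.types false
set_option autoImplicit false
set_option linter.unusedSectionVars false
set_option linter.style.haveILetI false

namespace Groth.Agent.Lib.Helper8.Nod5

open MvPolynomial TensorProduct Groth.Agent.Lib.Helper8.Nod1 Groth.Agent.Lib.Helper8.Nod2
  Groth.Agent.Lib.Helper8.Nod3 Groth.Agent.Lib.Helper8.Nod4

universe u

variable (A : Type u) [CommRing A] (J : Type u) [AddCommGroup J] [Module A J] [Module Aᵐᵒᵖ J]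
  [IsCentralScalar A J] (τ : TrivSqZeroExt A J)
  (B' : Type u) [CommRing B'] [Algebra (TrivSqZeroExt A J) B'] [Algebra A B']
  [IsScalarTower A (TrivSqZeroExt A J) B'] (x y : B')
  (hsurj : Function.Surjective
      (MvPolynomial.aeval ![x, y] : MvPolynomial (Fin 2) (TrivSqZeroExt A J) →ₐ[TrivSqZeroExt A J] B'))
  (hker : RingHom.ker
      (MvPolynomial.aeval ![x, y] : MvPolynomial (Fin 2) (TrivSqZeroExt A J) →ₐ[TrivSqZeroExt A J] B') =
      Ideal.span {MvPolynomial.X 0 * MvPolynomial.X 1 - MvPolynomial.C τ})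

local notation "𝓘" => Ideal.map (algebraMap (TrivSqZeroExt A J) B') (TrivSqZeroExt.kerIdeal A J)

theorem algebraMap_inl (a : A) :
    algebraMap (TrivSqZeroExt A J) B' (TrivSqZeroExt.inl a) = algebraMap A B' a := by
  rw [IsScalarTower.algebraMap_apply A (TrivSqZeroExt A J) B']
  rfl

/-- `j ↦ image of εj in B'` -/
noncomputable def μ₀ : J →ₗ[A] B' where
  toFun j := algebraMap (TrivSqZeroExt A J) B' (TrivSqZeroExt.inr j)
  map_add' j j' := by rw [TrivSqZeroExt.inr_add, map_add]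
  map_smul' a j := by
    rw [RingHom.id_apply, Algebra.smul_def, ← algebraMap_inl A J B' a, ← map_mul,
      TrivSqZeroExt.inl_mul_inr]

theorem mul_inr_eq_zero (i : B') (hi : i ∈ 𝓘) (j : J) :
    i * algebraMap (TrivSqZeroExt A J) B' (TrivSqZeroExt.inr j) = 0 := by
  have h1 : algebraMap (TrivSqZeroExt A J) B' (TrivSqZeroExt.inr j) ∈ 𝓘 := by
    apply Ideal.mem_map_of_mem
    rw [TrivSqZeroExt.mem_kerIdeal_iff_inr]; simp
  have h2 : i * algebraMap (TrivSqZeroExt A J) B' (TrivSqZeroExt.inr j) ∈ 𝓘 * 𝓘 :=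
    Ideal.mul_mem_mul hi h1
  rw [← Ideal.map_mul, ← pow_two, TrivSqZeroExt.kerIdeal_sq, Ideal.map_bot] at h2
  exact h2

/-- `b̄ ⊗ j ↦ b εj` -/
noncomputable def μ : TT A J B' ⊗[A] J →ₗ[A] B' :=
  TensorProduct.lift
    ((Submodule.liftQ 𝓘 (LinearMap.toSpanSingleton B' (J →ₗ[A] B') (μ₀ A J B'))
      (by
        intro i hi
        rw [LinearMap.mem_ker, LinearMap.toSpanSingleton_apply]
        ext j
        exact mul_inr_eq_zero A J B' i hi j)).restrictScalars A)

theorem μ_tmul (b : B') (j : J) :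
    μ A J B' ((Ideal.Quotient.mk 𝓘 b : TT A J B') ⊗ₜ[A] j) =
      b * algebraMap (TrivSqZeroExt A J) B' (TrivSqZeroExt.inr j) := by
  rw [μ, TensorProduct.lift.tmul]
  rfl

theorem μ_smul (b : B') (θ : TT A J B' ⊗[A] J) :
    μ A J B' ((Ideal.Quotient.mk 𝓘 b : TT A J B') • θ) = b * μ A J B' θ := by
  induction θ using TensorProduct.induction_on with
  | zero => simp
  | tmul t j =>
    obtain ⟨b', rfl⟩ := Ideal.Quotient.mk_surjective t
    rw [TensorProduct.smul_tmul', smul_eq_mul, ← map_mul, μ_tmul, μ_tmul, mul_assoc]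
  | add θ θ' h h' => rw [smul_add, map_add, map_add, h, h', mul_add]


theorem dd_inr (j : J) :
    dd A J τ B' x y hsurj hker (algebraMap (TrivSqZeroExt A J) B' (TrivSqZeroExt.inr j)) =
      mkN A J τ B' x y ((1 : TT A J B') ⊗ₜ[A] j, 0, 0) := by
  rw [dd_apply, Ψ_algebraMap, ψ₀_inr, TrivSqZeroExt.snd_inr, g₀_apply]

theorem mk_eq_zero_of_mem (i : B') (hi : i ∈ 𝓘) : (Ideal.Quotient.mk 𝓘 i : TT A J B') = 0 :=
  Ideal.Quotient.eq_zero_iff_mem.mpr hi

theorem key (i : B') (hi : i ∈ 𝓘) :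
    ∃ θ : TT A J B' ⊗[A] J, dd A J τ B' x y hsurj hker i = mkN A J τ B' x y (θ, 0, 0) ∧
      μ A J B' θ = i := by
  have hi' : i ∈ Submodule.span B' ((algebraMap (TrivSqZeroExt A J) B') '' (TrivSqZeroExt.kerIdeal A J)) := hi
  induction hi' using Submodule.span_induction with
  | mem z hz =>
    obtain ⟨a', ha', rfl⟩ := hz
    rw [SetLike.mem_coe, TrivSqZeroExt.mem_kerIdeal_iff_inr] at ha'
    rw [ha']
    refine ⟨(1 : TT A J B') ⊗ₜ[A] a'.snd, dd_inr A J τ B' x y hsurj hker _, ?_⟩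
    have := μ_tmul A J B' 1 a'.snd
    rw [map_one, one_mul] at this
    exact this
  | zero =>
    refine ⟨0, ?_, map_zero _⟩
    rw [map_zero]
    have : ((0 : TT A J B' ⊗[A] J), (0 : TT A J B'), (0 : TT A J B')) = 0 := rfl
    rw [this, map_zero]
  | add z z' hz hz' ihz ihz' =>
    obtain ⟨θ, h1, h2⟩ := ihz hz
    obtain ⟨θ', h1', h2'⟩ := ihz' hz'
    refine ⟨θ + θ', ?_, by rw [map_add, h2, h2']⟩
    rw [map_add, h1, h1', ← map_add]
    congr 1
    simp
  | smul b z hz ihz =>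
    obtain ⟨θ, h1, h2⟩ := ihz hz
    refine ⟨(Ideal.Quotient.mk 𝓘 b : TT A J B') • θ, ?_, by rw [μ_smul, h2, smul_eq_mul]⟩
    rw [smul_eq_mul, Derivation.leibniz, h1, smulB_def, smulB_def, mk_eq_zero_of_mem A J B' z hz,
      zero_smul, add_zero, ← map_smul]
    congr 1
    simp

include hsurj hker in
theorem mk_eq_zero_of_mul (c : TT A J B') (hx : c * Ideal.Quotient.mk 𝓘 x = 0)
    (hy : c * Ideal.Quotient.mk 𝓘 y = 0) : c = 0 := by
  obtain ⟨b, rfl⟩ := Ideal.Quotient.mk_surjective c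
  rw [← map_mul, Ideal.Quotient.eq_zero_iff_mem] at hx hy
  rw [Ideal.Quotient.eq_zero_iff_mem]
  exact mem_II_of_mul_mem τ x y hsurj hker b hx hy

theorem main980
    (A : Type u) [CommRing A] (J : Type u) [AddCommGroup J] [Module A J] [Module Aᵐᵒᵖ J]
    [IsCentralScalar A J] (τ : TrivSqZeroExt A J)
    (B' : Type u) [CommRing B'] [Algebra (TrivSqZeroExt A J) B'] [Algebra A B']
    [IsScalarTower A (TrivSqZeroExt A J) B'] (x y : B')
    (hsurj : Function.Surjective
      (MvPolynomial.aeval ![x, y] : MvPolynomial (Fin 2) (TrivSqZeroExt A J) →ₐ[TrivSqZeroExt A J] B'))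
    (hker : RingHom.ker
      (MvPolynomial.aeval ![x, y] : MvPolynomial (Fin 2) (TrivSqZeroExt A J) →ₐ[TrivSqZeroExt A J] B') =
      Ideal.span {MvPolynomial.X 0 * MvPolynomial.X 1 - MvPolynomial.C τ}) :
    Function.Injective (KaehlerDifferential.kerToTensor A B'
      (B' ⧸ Ideal.map (algebraMap (TrivSqZeroExt A J) B') (TrivSqZeroExt.kerIdeal A J))) := by
  rw [injective_iff_map_eq_zero]
  intro i hi
  have hiI : (i : B') ∈ Ideal.map (algebraMap (TrivSqZeroExt A J) B') (TrivSqZeroExt.kerIdeal A J) := by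
    have h0 : algebraMap B' (TT A J B') (i : B') = 0 := RingHom.mem_ker.mp i.2
    exact Ideal.Quotient.eq_zero_iff_mem.mp h0
  have h1 : ((dd A J τ B' x y hsurj hker).liftKaehlerDifferential.liftBaseChange (TT A J B'))
      (KaehlerDifferential.kerToTensor A B' (TT A J B') i) = dd A J τ B' x y hsurj hker i := by
    rw [KaehlerDifferential.kerToTensor_apply, LinearMap.liftBaseChange_tmul, one_smul,
      Derivation.liftKaehlerDifferential_comp_D]
  rw [hi, map_zero] at h1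
  obtain ⟨θ, h2, h3⟩ := key A J τ B' x y hsurj hker i hiI
  rw [← h1] at h2
  obtain ⟨c, hc⟩ := (mkN_eq_zero_iff A J τ B' x y _).mp h2.symm
  simp only [rr, Prod.smul_mk, Prod.mk.injEq, smul_eq_mul] at hc
  obtain ⟨hc1, hc2, hc3⟩ := hc
  have hc0 : c = 0 := mk_eq_zero_of_mul A J τ B' x y hsurj hker c hc3 hc2
  rw [hc0, zero_smul] at hc1
  apply Subtype.ext
  rw [← h3, ← hc1, map_zero]
  rfl

end Groth.Agent.Lib.Helper8.Nod5
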