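import Mathlib

set_option backward.isDefEq.respectTransparency.types false
set_option autoImplicit false
set_option linter.unusedSectionVars false
set_option linter.style.haveILetI false

namespace Groth.Agent.Lib.Helper8.PA1

open Polynomial

universe u

variable {k : Type u} [Field k]


theorem cover (i j : Fin 2) (hij : i ≠ j) (v : Fin 2) : v = i ∨ v = j := by
  revert i j v
  decide

/-- the ideal of a `k`-point -/
noncomputable def pointIdeal (p : Fin 2 → k) : Ideal (MvPolynomial (Fin 2) k) :=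
  Ideal.span (Set.range (fun v : Fin 2 => (MvPolynomial.X v : (MvPolynomial (Fin 2) k)) - MvPolynomial.C (p v)))

theorem sub_C_eval_mem (p : Fin 2 → k) (h : (MvPolynomial (Fin 2) k)) :
    h - MvPolynomial.C (MvPolynomial.eval p h) ∈ pointIdeal p := by
  have key : (Ideal.Quotient.mkₐ k (pointIdeal p)) =
      (Ideal.Quotient.mkₐ k (pointIdeal p)).comp
        ((Algebra.ofId k (MvPolynomial (Fin 2) k)).comp (MvPolynomial.aeval p)) := by
    apply MvPolynomial.algHom_ext
    intro v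
    simp only [AlgHom.comp_apply, MvPolynomial.aeval_X, Ideal.Quotient.mkₐ_eq_mk]
    rw [Ideal.Quotient.eq]
    apply Ideal.subset_span
    exact ⟨v, rfl⟩
  have h1 := AlgHom.congr_fun key h
  simp only [AlgHom.comp_apply, Ideal.Quotient.mkₐ_eq_mk] at h1
  rw [Ideal.Quotient.eq] at h1
  convert h1 using 2
  rw [Algebra.ofId_apply, MvPolynomial.algebraMap_eq, MvPolynomial.aeval_eq_eval]

theorem mem_pointIdeal_of_eval (p : Fin 2 → k) (h : (MvPolynomial (Fin 2) k)) (h0 : MvPolynomial.eval p h = 0) :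
    h ∈ pointIdeal p := by
  have := sub_C_eval_mem p h
  rwa [h0, map_zero, sub_zero] at this

theorem eval_of_mem_pointIdeal (p : Fin 2 → k) (h : (MvPolynomial (Fin 2) k)) (hh : h ∈ pointIdeal p) :
    MvPolynomial.eval p h = 0 := by
  have : pointIdeal p ≤ RingHom.ker (MvPolynomial.eval p) := by
    unfold pointIdeal
    rw [Ideal.span_le]
    rintro _ ⟨v, rfl⟩
    simp [RingHom.mem_ker]
  exact this hh

theorem pointIdeal_zero : pointIdeal (0 : Fin 2 → k) =
    Ideal.span {(MvPolynomial.X 0 : (MvPolynomial (Fin 2) k)), MvPolynomial.X 1} := by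
  unfold pointIdeal
  congr 1
  ext q
  simp only [Set.mem_range, Pi.zero_apply, map_zero, sub_zero, Set.mem_insert_iff,
    Set.mem_singleton_iff]
  constructor
  · rintro ⟨v, rfl⟩
    fin_cases v
    · left; rfl
    · right; rfl
  · rintro (rfl | rfl)
    · exact ⟨0, rfl⟩
    · exact ⟨1, rfl⟩

section red

variable (i j : Fin 2) (hij : i ≠ j)

/-- set the variable `X j` to zero and turn `X i` into the polynomial variable -/
noncomputable def red0 : (MvPolynomial (Fin 2) k) →ₐ[k] k[X] :=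
  MvPolynomial.aeval (fun v => if v = i then (Polynomial.X : k[X]) else 0)

include hij in
theorem sub_aeval_red0_mem (h : (MvPolynomial (Fin 2) k)) :
    h - Polynomial.aeval (MvPolynomial.X i : (MvPolynomial (Fin 2) k)) (red0 i h) ∈
      Ideal.span {(MvPolynomial.X j : (MvPolynomial (Fin 2) k))} := by
  have key : (Ideal.Quotient.mkₐ k (Ideal.span {(MvPolynomial.X j : (MvPolynomial (Fin 2) k))})) =
      (Ideal.Quotient.mkₐ k (Ideal.span {(MvPolynomial.X j : (MvPolynomial (Fin 2) k))})).comp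
        ((Polynomial.aeval (MvPolynomial.X i : (MvPolynomial (Fin 2) k))).comp (red0 i)) := by
    apply MvPolynomial.algHom_ext
    intro v
    simp only [AlgHom.comp_apply, red0, MvPolynomial.aeval_X, Ideal.Quotient.mkₐ_eq_mk]
    rcases cover i j hij v with rfl | rfl
    · simp
    · rw [if_neg (Ne.symm hij), map_zero, map_zero, Ideal.Quotient.eq_zero_iff_mem]
      exact Ideal.subset_span rfl
  have h1 := AlgHom.congr_fun key h
  simp only [AlgHom.comp_apply, Ideal.Quotient.mkₐ_eq_mk] at h1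
  rwa [Ideal.Quotient.eq] at h1

end red


section core

variable (i j : Fin 2) (hij : i ≠ j) (𝔞 : Ideal (MvPolynomial (Fin 2) k))

/-- the quotient `A / (𝔞 + (X j))` -/
abbrev Q0 : Type u := (MvPolynomial (Fin 2) k) ⧸ (𝔞 ⊔ Ideal.span {(MvPolynomial.X j : (MvPolynomial (Fin 2) k))})

/-- the class of `X i` in `A / (𝔞 + (X j))` -/
noncomputable def xi : Q0 j 𝔞 := Ideal.Quotient.mk _ (MvPolynomial.X i)

/-- the monic generator of the ideal of `k[X]` of polynomials `ρ` with `ρ(X i) ∈ 𝔞 + (X j)` -/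
noncomputable def g0 : k[X] := minpoly k (xi i j 𝔞)

theorem aeval_xi (ρ : k[X]) :
    Polynomial.aeval (xi i j 𝔞) ρ =
      Ideal.Quotient.mk (𝔞 ⊔ Ideal.span {(MvPolynomial.X j : (MvPolynomial (Fin 2) k))})
        (Polynomial.aeval (MvPolynomial.X i : (MvPolynomial (Fin 2) k)) ρ) := by
  have := Polynomial.aeval_algHom_apply
    (Ideal.Quotient.mkₐ k (𝔞 ⊔ Ideal.span {(MvPolynomial.X j : (MvPolynomial (Fin 2) k))})) (MvPolynomial.X i : (MvPolynomial (Fin 2) k)) ρ
  simpa [xi] using this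

variable {i j 𝔞}

theorem isIntegral_xi {Nx : ℕ} (hx : (MvPolynomial.X i : (MvPolynomial (Fin 2) k)) ^ Nx ∈ 𝔞) :
    IsIntegral k (xi i j 𝔞) := by
  refine ⟨Polynomial.X ^ Nx, Polynomial.monic_X_pow Nx, ?_⟩
  rw [← Polynomial.aeval_def, aeval_xi, map_pow, Polynomial.aeval_X,
    Ideal.Quotient.eq_zero_iff_mem]
  exact Ideal.mem_sup_left hx

theorem g0_monic {Nx : ℕ} (hx : (MvPolynomial.X i : (MvPolynomial (Fin 2) k)) ^ Nx ∈ 𝔞) : (g0 i j 𝔞).Monic :=
  minpoly.monic (isIntegral_xi hx)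

theorem aeval_g0_mem :
    Polynomial.aeval (MvPolynomial.X i : (MvPolynomial (Fin 2) k)) (g0 i j 𝔞) ∈
      𝔞 ⊔ Ideal.span {(MvPolynomial.X j : (MvPolynomial (Fin 2) k))} := by
  rw [← Ideal.Quotient.eq_zero_iff_mem, ← aeval_xi]
  exact minpoly.aeval k _

theorem g0_dvd (ρ : k[X])
    (h : Polynomial.aeval (MvPolynomial.X i : (MvPolynomial (Fin 2) k)) ρ ∈ 𝔞 ⊔ Ideal.span {(MvPolynomial.X j : (MvPolynomial (Fin 2) k))}) :
    g0 i j 𝔞 ∣ ρ := by
  apply minpoly.dvd
  rw [aeval_xi, Ideal.Quotient.eq_zero_iff_mem]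
  exact h

theorem sup_ne_top (hle : 𝔞 ≤ Ideal.span {(MvPolynomial.X 0 : (MvPolynomial (Fin 2) k)), MvPolynomial.X 1}) :
    𝔞 ⊔ Ideal.span {(MvPolynomial.X j : (MvPolynomial (Fin 2) k))} ≠ ⊤ := by
  intro htop
  have h1 : (1 : (MvPolynomial (Fin 2) k)) ∈ 𝔞 ⊔ Ideal.span {(MvPolynomial.X j : (MvPolynomial (Fin 2) k))} := by rw [htop]; trivial
  have hle2 : 𝔞 ⊔ Ideal.span {(MvPolynomial.X j : (MvPolynomial (Fin 2) k))} ≤ pointIdeal (0 : Fin 2 → k) := by
    rw [pointIdeal_zero]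
    apply sup_le hle
    rw [Ideal.span_le]
    intro q hq
    rw [Set.mem_singleton_iff] at hq
    subst hq
    apply Ideal.subset_span
    fin_cases j
    · left; rfl
    · right; rfl
  have := eval_of_mem_pointIdeal _ _ (hle2 h1)
  simp at this

theorem g0_natDegree_pos {Nx : ℕ} (hx : (MvPolynomial.X i : (MvPolynomial (Fin 2) k)) ^ Nx ∈ 𝔞)
    (hle : 𝔞 ≤ Ideal.span {(MvPolynomial.X 0 : (MvPolynomial (Fin 2) k)), MvPolynomial.X 1}) :
    0 < (g0 i j 𝔞).natDegree := by
  rw [Nat.pos_iff_ne_zero]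
  intro h0
  have h1 : g0 i j 𝔞 = 1 := by
    have hm := g0_monic (j := j) hx
    exact Polynomial.eq_one_of_monic_natDegree_zero hm h0
  have h2 := aeval_g0_mem (i := i) (j := j) (𝔞 := 𝔞)
  rw [h1, map_one] at h2
  exact sup_ne_top hle ((Ideal.eq_top_iff_one _).mpr h2)

include hij in
theorem exists_rho_aux (I : Ideal (MvPolynomial (Fin 2) k))
    (hI : Ideal.span {(MvPolynomial.X j : MvPolynomial (Fin 2) k)} ≤ I) (G : k[X]) (hm : G.Monic)
    (hpos : 0 < G.natDegree)
    (hG : Polynomial.aeval (MvPolynomial.X i : MvPolynomial (Fin 2) k) G ∈ I)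
    (h : MvPolynomial (Fin 2) k) :
    ∃ ρ : k[X], ρ.natDegree < G.natDegree ∧
      h - Polynomial.aeval (MvPolynomial.X i : MvPolynomial (Fin 2) k) ρ ∈ I := by
  refine ⟨red0 i h %ₘ G, ?_, ?_⟩
  · by_cases h0 : red0 i h %ₘ G = 0
    · rw [h0, Polynomial.natDegree_zero]
      exact hpos
    · exact Polynomial.natDegree_modByMonic_lt _ hm
        (fun h1 => by
          rw [h1, Polynomial.natDegree_one] at hpos
          exact lt_irrefl _ hpos)
  · have e1 : red0 i h %ₘ G + G * (red0 i h /ₘ G) = red0 i h :=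
      Polynomial.modByMonic_add_div _ _
    have e2 : h - Polynomial.aeval (MvPolynomial.X i : MvPolynomial (Fin 2) k) (red0 i h %ₘ G) =
        (h - Polynomial.aeval (MvPolynomial.X i : MvPolynomial (Fin 2) k) (red0 i h)) +
          Polynomial.aeval (MvPolynomial.X i : MvPolynomial (Fin 2) k) G *
            Polynomial.aeval (MvPolynomial.X i : MvPolynomial (Fin 2) k) (red0 i h /ₘ G) := by
      have e3 : Polynomial.aeval (MvPolynomial.X i : MvPolynomial (Fin 2) k) (red0 i h) =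
          Polynomial.aeval (MvPolynomial.X i : MvPolynomial (Fin 2) k) (red0 i h %ₘ G) +
          Polynomial.aeval (MvPolynomial.X i : MvPolynomial (Fin 2) k) G *
            Polynomial.aeval (MvPolynomial.X i : MvPolynomial (Fin 2) k) (red0 i h /ₘ G) := by
        conv_lhs => rw [← e1]
        rw [map_add, map_mul]
      rw [e3]
      ring
    rw [e2]
    exact Ideal.add_mem _ (hI (sub_aeval_red0_mem i j hij h))
      (Ideal.mul_mem_right _ _ hG)

include hij in
/-- every polynomial is congruent modulo `𝔞 + (X j)` to a polynomial in `X i` of degree less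
than `deg g0` -/
theorem exists_rho {Nx : ℕ} (hx : (MvPolynomial.X i : MvPolynomial (Fin 2) k) ^ Nx ∈ 𝔞)
    (hle : 𝔞 ≤ Ideal.span {(MvPolynomial.X 0 : MvPolynomial (Fin 2) k), MvPolynomial.X 1})
    (h : MvPolynomial (Fin 2) k) :
    ∃ ρ : k[X], ρ.natDegree < (g0 i j 𝔞).natDegree ∧
      h - Polynomial.aeval (MvPolynomial.X i : MvPolynomial (Fin 2) k) ρ ∈
        𝔞 ⊔ Ideal.span {(MvPolynomial.X j : MvPolynomial (Fin 2) k)} :=
  exists_rho_aux hij _ le_sup_right _ (g0_monic hx) (g0_natDegree_pos hx hle) aeval_g0_mem h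

end core


section fam

variable (i j : Fin 2)

/-- the correction term `∑_{e < r} a_e(y) y x^e` -/
noncomputable def sPoly (G : k[X]) (a : Fin G.natDegree → k[X]) : MvPolynomial (Fin 2) k :=
  ∑ e : Fin G.natDegree,
    Polynomial.aeval (MvPolynomial.X j : MvPolynomial (Fin 2) k) (Polynomial.X * a e) *
      (MvPolynomial.X i) ^ (e : ℕ)

/-- the monic (in `X i`) element `G(x) - ∑_{e < r} a_e(y) y x^e` -/
noncomputable def fPoly (G : k[X]) (a : Fin G.natDegree → k[X]) : MvPolynomial (Fin 2) k :=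
  Polynomial.aeval (MvPolynomial.X i : MvPolynomial (Fin 2) k) G - sPoly i j G a

theorem sPoly_mem (G : k[X]) (a : Fin G.natDegree → k[X]) :
    sPoly i j G a ∈ Ideal.span {(MvPolynomial.X j : MvPolynomial (Fin 2) k)} := by
  unfold sPoly
  apply Ideal.sum_mem
  intro e _
  apply Ideal.mul_mem_right
  rw [map_mul, Polynomial.aeval_X]
  exact Ideal.mul_mem_right _ _ (Ideal.subset_span rfl)

theorem sPoly_zero (G : k[X]) : sPoly i j G (fun _ => 0) = 0 := by
  unfold sPoly
  apply Finset.sum_eq_zero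
  intro e _
  rw [mul_zero, map_zero, zero_mul]

theorem sPoly_add (G : k[X]) (a : Fin G.natDegree → k[X]) (ρ : k[X])
    (hρ : ρ.natDegree < G.natDegree) (m : ℕ) (hm : 1 ≤ m) :
    sPoly i j G (fun e => a e + Polynomial.C (ρ.coeff e) * Polynomial.X ^ (m - 1)) =
      sPoly i j G a + (MvPolynomial.X j) ^ m *
        Polynomial.aeval (MvPolynomial.X i : MvPolynomial (Fin 2) k) ρ := by
  unfold sPoly
  rw [Polynomial.aeval_eq_sum_range' hρ, Finset.sum_range, Finset.mul_sum, ← Finset.sum_add_distrib]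
  apply Finset.sum_congr rfl
  intro e _
  have hX : (Polynomial.X : k[X]) * (a e + Polynomial.C (ρ.coeff e) * Polynomial.X ^ (m - 1)) =
      Polynomial.X * a e + Polynomial.C (ρ.coeff e) * Polynomial.X ^ m := by
    obtain ⟨m', rfl⟩ : ∃ m', m = m' + 1 := ⟨m - 1, by omega⟩
    rw [Nat.add_sub_cancel]
    ring
  rw [hX, map_add, map_mul (Polynomial.aeval _) (Polynomial.C _), Polynomial.aeval_C, map_pow,
    Polynomial.aeval_X, Algebra.smul_def]
  ring

end fam

section induct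

variable {i j : Fin 2} {𝔞 : Ideal (MvPolynomial (Fin 2) k)}

theorem exists_coeffs (G : k[X])
    (hG : Polynomial.aeval (MvPolynomial.X i : MvPolynomial (Fin 2) k) G ∈
      𝔞 ⊔ Ideal.span {(MvPolynomial.X j : MvPolynomial (Fin 2) k)})
    (D : ∀ h : MvPolynomial (Fin 2) k, ∃ ρ : k[X], ρ.natDegree < G.natDegree ∧
      h - Polynomial.aeval (MvPolynomial.X i : MvPolynomial (Fin 2) k) ρ ∈
        𝔞 ⊔ Ideal.span {(MvPolynomial.X j : MvPolynomial (Fin 2) k)})
    (m : ℕ) (hm : 1 ≤ m) :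
    ∃ a : Fin G.natDegree → k[X],
      fPoly i j G a ∈ 𝔞 ⊔ Ideal.span {(MvPolynomial.X j : MvPolynomial (Fin 2) k) ^ m} := by
  induction m, hm using Nat.le_induction with
  | base =>
    refine ⟨fun _ => 0, ?_⟩
    unfold fPoly
    rw [sPoly_zero, sub_zero, pow_one]
    exact hG
  | succ m hm ih =>
    obtain ⟨a, ha⟩ := ih
    obtain ⟨α, hα, β, hβ, hsum⟩ := Submodule.mem_sup.mp ha
    obtain ⟨h, rfl⟩ := Ideal.mem_span_singleton'.mp hβ
    obtain ⟨ρ, hρ, hρ2⟩ := D h
    obtain ⟨α', hα', β', hβ', hsum'⟩ := Submodule.mem_sup.mp hρ2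
    obtain ⟨h', rfl⟩ := Ideal.mem_span_singleton'.mp hβ'
    refine ⟨fun e => a e + Polynomial.C (ρ.coeff e) * Polynomial.X ^ (m - 1), ?_⟩
    unfold fPoly at hsum ⊢
    rw [sPoly_add i j G a ρ hρ m hm]
    have e1 : Polynomial.aeval (MvPolynomial.X i : MvPolynomial (Fin 2) k) G -
        (sPoly i j G a + (MvPolynomial.X j) ^ m *
          Polynomial.aeval (MvPolynomial.X i : MvPolynomial (Fin 2) k) ρ) =
        (α + α' * (MvPolynomial.X j) ^ m) + h' * (MvPolynomial.X j) ^ (m + 1) := by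
      linear_combination (-1 : MvPolynomial (Fin 2) k) * hsum -
        ((MvPolynomial.X j : MvPolynomial (Fin 2) k)) ^ m * hsum'
    rw [e1]
    exact Ideal.add_mem _
      (Ideal.mem_sup_left (Ideal.add_mem _ hα (Ideal.mul_mem_right _ _ hα')))
      (Ideal.mem_sup_right (Ideal.mul_mem_left _ _ (Ideal.subset_span rfl)))

end induct


section datum

variable {i j : Fin 2} {𝔞 : Ideal (MvPolynomial (Fin 2) k)}

theorem le_sup_of_dvd (hij : i ≠ j) (G : k[X]) (a : Fin G.natDegree → k[X])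
    (hdvd : ∀ ρ : k[X], Polynomial.aeval (MvPolynomial.X i : MvPolynomial (Fin 2) k) ρ ∈
      𝔞 ⊔ Ideal.span {(MvPolynomial.X j : MvPolynomial (Fin 2) k)} → G ∣ ρ) :
    𝔞 ≤ Ideal.span {(MvPolynomial.X j : MvPolynomial (Fin 2) k)} ⊔
      Ideal.span {fPoly i j G a} := by
  intro h hh
  have h1 := sub_aeval_red0_mem i j hij h
  have h2 : Polynomial.aeval (MvPolynomial.X i : MvPolynomial (Fin 2) k) (red0 i h) ∈
      𝔞 ⊔ Ideal.span {(MvPolynomial.X j : MvPolynomial (Fin 2) k)} := by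
    have : Polynomial.aeval (MvPolynomial.X i : MvPolynomial (Fin 2) k) (red0 i h) =
        h - (h - Polynomial.aeval (MvPolynomial.X i : MvPolynomial (Fin 2) k) (red0 i h)) := by
      ring
    rw [this]
    exact Ideal.sub_mem _ (Ideal.mem_sup_left hh) (Ideal.mem_sup_right h1)
  obtain ⟨u, hu⟩ := hdvd _ h2
  have e1 : h = (h - Polynomial.aeval (MvPolynomial.X i : MvPolynomial (Fin 2) k) (red0 i h)) +
      sPoly i j G a * Polynomial.aeval (MvPolynomial.X i : MvPolynomial (Fin 2) k) u +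
      fPoly i j G a * Polynomial.aeval (MvPolynomial.X i : MvPolynomial (Fin 2) k) u := by
    rw [hu, map_mul]
    unfold fPoly
    ring
  rw [e1]
  refine Ideal.add_mem _ (Ideal.add_mem _ (Ideal.mem_sup_left h1) (Ideal.mem_sup_left ?_))
    (Ideal.mem_sup_right ?_)
  · exact Ideal.mul_mem_right _ _ (sPoly_mem i j G a)
  · exact Ideal.mul_mem_right _ _ (Ideal.subset_span rfl)

theorem exists_f (hij : i ≠ j) {Nx Ny : ℕ}
    (hx : (MvPolynomial.X i : MvPolynomial (Fin 2) k) ^ Nx ∈ 𝔞)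
    (hy : (MvPolynomial.X j : MvPolynomial (Fin 2) k) ^ Ny ∈ 𝔞)
    (hle : 𝔞 ≤ Ideal.span {(MvPolynomial.X 0 : MvPolynomial (Fin 2) k), MvPolynomial.X 1}) :
    ∃ (G : k[X]) (a : Fin G.natDegree → k[X]), G.Monic ∧ 0 < G.natDegree ∧
      fPoly i j G a ∈ 𝔞 ∧
      𝔞 ≤ Ideal.span {(MvPolynomial.X j : MvPolynomial (Fin 2) k)} ⊔
        Ideal.span {fPoly i j G a} := by
  obtain ⟨a, ha⟩ := exists_coeffs (i := i) (j := j) (𝔞 := 𝔞) (g0 i j 𝔞) aeval_g0_mem
    (exists_rho hij hx hle) (max Ny 1) (le_max_right _ _)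
  refine ⟨g0 i j 𝔞, a, g0_monic hx, g0_natDegree_pos hx hle, ?_, ?_⟩
  · have hle2 : 𝔞 ⊔ Ideal.span {(MvPolynomial.X j : MvPolynomial (Fin 2) k) ^ (max Ny 1)} ≤ 𝔞 := by
      apply sup_le le_rfl
      rw [Ideal.span_le, Set.singleton_subset_iff]
      exact 𝔞.pow_mem_of_pow_mem hy (le_max_left _ _)
    exact hle2 ha
  · exact le_sup_of_dvd hij _ a (fun ρ hρ => g0_dvd ρ hρ)

end datum

end Groth.Agent.Lib.Helper8.PA1
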