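import Mathlib
import Groth.Agent.Lib.Helper8.PA1

set_option backward.isDefEq.respectTransparency.types false
set_option autoImplicit false
set_option linter.unusedSectionVars false
set_option linter.style.haveILetI false

namespace Groth.Agent.Lib.Helper8.PA2

open Polynomial Groth.Agent.Lib.Helper8.PA1

universe u

theorem dvd_of_dvd_C_mul {R : Type*} [CommRing R] [IsDomain R] (F H : R[X]) (b : R)
    (hF : F.Monic) (hb : b ≠ 0) (h : F ∣ Polynomial.C b * H) : F ∣ H := by
  rw [← Polynomial.modByMonic_eq_zero_iff_dvd hF]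
  by_contra hρ
  have e1 : H %ₘ F + F * (H /ₘ F) = H := Polynomial.modByMonic_add_div _ _
  have h2 : F ∣ Polynomial.C b * (H %ₘ F) := by
    have e1' : Polynomial.C b * H =
        Polynomial.C b * (H %ₘ F) + F * (Polynomial.C b * (H /ₘ F)) := by
      conv_lhs => rw [← e1]
      ring
    have : Polynomial.C b * (H %ₘ F) = Polynomial.C b * H - F * (Polynomial.C b * (H /ₘ F)) := by
      rw [e1']
      ring
    rw [this]
    exact dvd_sub h (dvd_mul_right _ _)
  have h3 : Polynomial.C b * (H %ₘ F) ≠ 0 :=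
    mul_ne_zero (Polynomial.C_ne_zero.mpr hb) hρ
  have h4 : (Polynomial.C b * (H %ₘ F)).degree < F.degree := by
    rw [Polynomial.degree_C_mul hb]
    exact Polynomial.degree_modByMonic_lt _ hF
  exact hF.not_dvd_of_degree_lt h3 h4 h2

variable {k : Type u} [Field k]

theorem aeval_X0_ne_zero (g : k[X]) (hg : g ≠ 0) :
    Polynomial.aeval (MvPolynomial.X 0 : MvPolynomial (Fin 1) k) g ≠ 0 := by
  intro h0
  apply hg
  have := congrArg (MvPolynomial.aeval (fun _ : Fin 1 => (Polynomial.X : k[X]))) h0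
  rw [← Polynomial.aeval_algHom_apply, MvPolynomial.aeval_X, map_zero,
    Polynomial.aeval_X_left_apply] at this
  exact this

section theta

variable {i j : Fin 2}
  (θ : MvPolynomial (Fin 2) k ≃ₐ[k] (MvPolynomial (Fin 1) k)[X])
  (hθx : θ (MvPolynomial.X i) = Polynomial.X)
  (hθy : θ (MvPolynomial.X j) = Polynomial.C (MvPolynomial.X 0))

include hθy in
theorem theta_aeval_y (g : k[X]) :
    θ (Polynomial.aeval (MvPolynomial.X j : MvPolynomial (Fin 2) k) g) =
      Polynomial.C (Polynomial.aeval (MvPolynomial.X 0 : MvPolynomial (Fin 1) k) g) := by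
  have := Polynomial.aeval_algHom_apply θ.toAlgHom
    (MvPolynomial.X j : MvPolynomial (Fin 2) k) g
  simp only [AlgEquiv.coe_toAlgHom] at this
  rw [← this, hθy, ← Polynomial.algebraMap_eq, Polynomial.aeval_algebraMap_apply]

include hθx in
theorem theta_aeval_x (G : k[X]) :
    θ (Polynomial.aeval (MvPolynomial.X i : MvPolynomial (Fin 2) k) G) =
      G.map (algebraMap k (MvPolynomial (Fin 1) k)) := by
  have := Polynomial.aeval_algHom_apply θ.toAlgHom
    (MvPolynomial.X i : MvPolynomial (Fin 2) k) G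
  simp only [AlgEquiv.coe_toAlgHom] at this
  rw [← this, hθx, Polynomial.aeval_X_left_eq_map]

end theta


section theta2

variable {i j : Fin 2}
  (θ : MvPolynomial (Fin 2) k ≃ₐ[k] (MvPolynomial (Fin 1) k)[X])
  (hθx : θ (MvPolynomial.X i) = Polynomial.X)
  (hθy : θ (MvPolynomial.X j) = Polynomial.C (MvPolynomial.X 0))

include hθx hθy in
theorem theta_fPoly (G : k[X]) (a : Fin G.natDegree → k[X]) :
    θ (fPoly i j G a) = G.map (algebraMap k (MvPolynomial (Fin 1) k)) -
      ∑ e : Fin G.natDegree,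
        Polynomial.C (Polynomial.aeval (MvPolynomial.X 0 : MvPolynomial (Fin 1) k)
          (Polynomial.X * a e)) * Polynomial.X ^ (e : ℕ) := by
  unfold fPoly sPoly
  rw [map_sub, theta_aeval_x θ hθx, map_sum]
  congr 1
  apply Finset.sum_congr rfl
  intro e _
  rw [map_mul, map_pow, hθx, theta_aeval_y θ hθy]

include hθx hθy in
theorem theta_fPoly_monic (G : k[X]) (hG : G.Monic) (hpos : 0 < G.natDegree)
    (a : Fin G.natDegree → k[X]) : (θ (fPoly i j G a)).Monic := by
  rw [theta_fPoly θ hθx hθy]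
  apply Polynomial.Monic.sub_of_left (hG.map _)
  rw [Polynomial.degree_eq_natDegree (hG.map _).ne_zero, hG.natDegree_map]
  exact Polynomial.degree_sum_fin_lt _

include hθx hθy in
/-- the key torsion-freeness property: `fPoly` is monic in `X i` over `k[X j]` -/
theorem dvd_of_aeval_mul (G : k[X]) (hG : G.Monic) (hpos : 0 < G.natDegree)
    (a : Fin G.natDegree → k[X]) (g : k[X]) (hg : g ≠ 0) (h q : MvPolynomial (Fin 2) k)
    (heq : Polynomial.aeval (MvPolynomial.X j : MvPolynomial (Fin 2) k) g * h =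
      q * fPoly i j G a) :
    ∃ q₀, h = fPoly i j G a * q₀ := by
  have h1 : θ (fPoly i j G a) ∣
      Polynomial.C (Polynomial.aeval (MvPolynomial.X 0 : MvPolynomial (Fin 1) k) g) * θ h := by
    refine ⟨θ q, ?_⟩
    rw [← theta_aeval_y θ hθy, ← map_mul, heq, map_mul, mul_comm]
  obtain ⟨w, hw⟩ := dvd_of_dvd_C_mul _ _ _ (theta_fPoly_monic θ hθx hθy G hG hpos a)
    (aeval_X0_ne_zero g hg) h1
  refine ⟨θ.symm w, ?_⟩
  apply θ.injective
  rw [map_mul, AlgEquiv.apply_symm_apply, hw]

end theta2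


theorem exists_theta (i j : Fin 2) (hij : i ≠ j) :
    ∃ θ : MvPolynomial (Fin 2) k ≃ₐ[k] (MvPolynomial (Fin 1) k)[X],
      θ (MvPolynomial.X i) = Polynomial.X ∧
      θ (MvPolynomial.X j) = Polynomial.C (MvPolynomial.X 0) := by
  have h0 : MvPolynomial.finSuccEquiv k 1 (MvPolynomial.X 0) = Polynomial.X :=
    MvPolynomial.finSuccEquiv_X_zero
  have h1 : MvPolynomial.finSuccEquiv k 1 (MvPolynomial.X 1) =
      Polynomial.C (MvPolynomial.X 0) :=
    MvPolynomial.finSuccEquiv_X_succ (j := (0 : Fin 1))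
  fin_cases i <;> fin_cases j
  · exact absurd rfl hij
  · exact ⟨MvPolynomial.finSuccEquiv k 1, h0, h1⟩
  · refine ⟨(MvPolynomial.renameEquiv k (Equiv.swap (0 : Fin 2) 1)).trans
      (MvPolynomial.finSuccEquiv k 1), ?_, ?_⟩
    · show MvPolynomial.finSuccEquiv k 1 (MvPolynomial.renameEquiv k (Equiv.swap (0 : Fin 2) 1)
        (MvPolynomial.X 1)) = _
      rw [MvPolynomial.renameEquiv_apply, MvPolynomial.rename_X, Equiv.swap_apply_right]
      exact h0
    · show MvPolynomial.finSuccEquiv k 1 (MvPolynomial.renameEquiv k (Equiv.swap (0 : Fin 2) 1)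
        (MvPolynomial.X 0)) = _
      rw [MvPolynomial.renameEquiv_apply, MvPolynomial.rename_X, Equiv.swap_apply_left]
      exact h1
  · exact absurd rfl hij

end Groth.Agent.Lib.Helper8.PA2
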