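import Mathlib
import Groth.Agent.Lib.Helper8.PA2

set_option backward.isDefEq.respectTransparency.types false
set_option autoImplicit false
set_option linter.unusedSectionVars false
set_option linter.style.haveILetI false

namespace Groth.Agent.Lib.Helper8.PA3

open Polynomial Groth.Agent.Lib.Helper8.PA1 Groth.Agent.Lib.Helper8.PA2

universe u

theorem flat_of_tf {R S : Type*} [CommRing R] [IsDomain R] [IsPrincipalIdealRing R] [CommRing S]
    (f : R →+* S) (h : ∀ r s, f r * s = 0 → r = 0 ∨ s = 0) : f.Flat := by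
  algebraize [f]
  haveI : Module.IsTorsionFree R S := by
    rw [Module.isTorsionFree_iff_smul_eq_zero]
    intro r s hrs
    rw [Algebra.smul_def] at hrs
    exact h r s hrs
  show Module.Flat R S
  infer_instance

theorem finite_of_gen {R S : Type*} [CommRing R] [CommRing S] (f : R →+* S) (x y : S)
    (hgen : Subring.closure (Set.range f ∪ {x, y}) = ⊤) (hy : f.IsIntegralElem y)
    (pol : S[X]) (hpol : pol.Monic) (hdeg : pol.natDegree ≠ 0) (hev : pol.eval x = 0)
    (hco : ∀ n, pol.coeff n ∈ Subring.closure (Set.range f ∪ {y})) : f.Finite := by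
  algebraize [f]
  have hyI : IsIntegral R y := hy
  have hcl : Subring.closure (Set.range f ∪ {y}) ≤ (integralClosure R S).toSubring := by
    rw [Subring.closure_le]
    rintro s (⟨r, rfl⟩ | hs)
    · exact isIntegral_algebraMap
    · rw [Set.mem_singleton_iff] at hs
      subst hs
      exact hyI
  have hxI : IsIntegral R x := by
    apply IsIntegral.of_aeval_monic_of_isIntegral_coeff hpol hdeg
    · rw [hev]; exact isIntegral_zero
    · intro n
      exact hcl (hco n)
  have hadj : Algebra.adjoin R ({x, y} : Set S) = ⊤ := by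
    apply Subalgebra.toSubring_injective
    rw [Algebra.adjoin_eq_ring_closure]
    exact hgen
  show Module.Finite R S
  refine ⟨?_⟩
  have := fg_adjoin_of_finite (R := R) (s := ({x, y} : Set S)) (Set.toFinite _) (by
    intro s hs
    rcases hs with rfl | hs
    · exact hxI
    · rw [Set.mem_singleton_iff] at hs
      subst hs
      exact hyI)
  rw [hadj] at this
  simpa using this

variable {k : Type u} [Field k]

/-- the family `(f) + (y - t) (𝔞 : y)[t]` -/
noncomputable def fam (i j : Fin 2) (𝔞 : Ideal (MvPolynomial (Fin 2) k)) (G : k[X])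
    (a : Fin G.natDegree → k[X]) : Ideal (MvPolynomial (Fin 2) k)[X] :=
  Ideal.span {Polynomial.C (fPoly i j G a)} ⊔
    Ideal.span {Polynomial.C (MvPolynomial.X j : MvPolynomial (Fin 2) k) - Polynomial.X} *
      Ideal.map Polynomial.C (𝔞.colon {(MvPolynomial.X j : MvPolynomial (Fin 2) k)})

theorem le_colon (j : Fin 2) (𝔞 : Ideal (MvPolynomial (Fin 2) k)) :
    𝔞 ≤ 𝔞.colon {(MvPolynomial.X j : MvPolynomial (Fin 2) k)} := by
  intro r hr
  rw [Submodule.mem_colon_singleton, smul_eq_mul]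
  exact Ideal.mul_mem_right _ _ hr

theorem colon_ne_top (j : Fin 2) (𝔞 : Ideal (MvPolynomial (Fin 2) k))
    (hyn : (MvPolynomial.X j : MvPolynomial (Fin 2) k) ∉ 𝔞) :
    𝔞.colon {(MvPolynomial.X j : MvPolynomial (Fin 2) k)} ≠ ⊤ := by
  intro h
  apply hyn
  have : (1 : MvPolynomial (Fin 2) k) ∈ 𝔞.colon {(MvPolynomial.X j : MvPolynomial (Fin 2) k)} := by
    rw [h]; trivial
  rwa [Submodule.mem_colon_singleton, one_smul] at this

theorem mem_map_C_iff_map_eq_zero {R : Type*} [CommRing R] (I : Ideal R) (p : R[X]) :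
    p ∈ Ideal.map Polynomial.C I ↔ p.map (Ideal.Quotient.mk I) = 0 := by
  rw [Ideal.mem_map_C_iff, Polynomial.ext_iff]
  simp only [Polynomial.coeff_map, Polynomial.coeff_zero, Ideal.Quotient.eq_zero_iff_mem]

section tf

variable {i j : Fin 2}
  (θ : MvPolynomial (Fin 2) k ≃ₐ[k] (MvPolynomial (Fin 1) k)[X])
  (hθx : θ (MvPolynomial.X i) = Polynomial.X)
  (hθy : θ (MvPolynomial.X j) = Polynomial.C (MvPolynomial.X 0))
  (𝔞 : Ideal (MvPolynomial (Fin 2) k))
  (G : k[X]) (hG : G.Monic) (hpos : 0 < G.natDegree) (a : Fin G.natDegree → k[X])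
  (hf : fPoly i j G a ∈ 𝔞)

include hf in
theorem fam_le_map_C :
    fam i j 𝔞 G a ≤
      Ideal.map Polynomial.C (𝔞.colon {(MvPolynomial.X j : MvPolynomial (Fin 2) k)}) := by
  unfold fam
  apply sup_le
  · rw [Ideal.span_le, Set.singleton_subset_iff]
    exact Ideal.mem_map_of_mem _ (le_colon j 𝔞 hf)
  · exact Ideal.mul_le_right

include hθx hθy hG hpos hf in
theorem mem_of_monic_mul_mem (g : k[X]) (hg : g.Monic) (p : (MvPolynomial (Fin 2) k)[X])
    (hp : g.map (algebraMap k (MvPolynomial (Fin 2) k)) * p ∈ fam i j 𝔞 G a) :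
    p ∈ fam i j 𝔞 G a := by
  set 𝔠 := 𝔞.colon {(MvPolynomial.X j : MvPolynomial (Fin 2) k)} with h𝔠
  -- step 1
  have hp1 : p ∈ Ideal.map Polynomial.C 𝔠 := by
    have h1 := fam_le_map_C 𝔞 G a hf hp
    rw [mem_map_C_iff_map_eq_zero] at h1 ⊢
    rw [Polynomial.map_mul, Polynomial.map_map] at h1
    exact (hg.map _).mul_right_eq_zero_iff.mp h1
  -- step 2
  unfold fam at hp
  obtain ⟨u, hu, v, hv, huv⟩ := Submodule.mem_sup.mp hp
  obtain ⟨q, rfl⟩ := Ideal.mem_span_singleton'.mp hu
  obtain ⟨z, hz, rfl⟩ := Ideal.mem_span_singleton_mul.mp hv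
  have hev := congrArg (Polynomial.eval (MvPolynomial.X j : MvPolynomial (Fin 2) k)) huv
  rw [Polynomial.eval_add, Polynomial.eval_mul, Polynomial.eval_mul, Polynomial.eval_mul,
    Polynomial.eval_C, Polynomial.eval_sub, Polynomial.eval_C, Polynomial.eval_X, sub_self,
    zero_mul, add_zero, Polynomial.eval_map_algebraMap] at hev
  obtain ⟨q₀, hq₀⟩ := dvd_of_aeval_mul θ hθx hθy G hG hpos a g hg.ne_zero _ _ hev.symm
  have hroot : (p - Polynomial.C (fPoly i j G a * q₀)).IsRoot
      (MvPolynomial.X j : MvPolynomial (Fin 2) k) := by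
    rw [Polynomial.IsRoot.def, Polynomial.eval_sub, Polynomial.eval_C, hq₀, sub_self]
  obtain ⟨w, hw⟩ := Polynomial.dvd_iff_isRoot.mpr hroot
  have hfq : Polynomial.C (fPoly i j G a * q₀) ∈ Ideal.map Polynomial.C 𝔠 :=
    Ideal.mem_map_of_mem _ (le_colon j 𝔞 (Ideal.mul_mem_right _ _ hf))
  have hw1 : w ∈ Ideal.map Polynomial.C 𝔠 := by
    have h2 : (Polynomial.X - Polynomial.C (MvPolynomial.X j : MvPolynomial (Fin 2) k)) * w ∈
        Ideal.map Polynomial.C 𝔠 := by
      rw [← hw]
      exact Ideal.sub_mem _ hp1 hfq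
    rw [mem_map_C_iff_map_eq_zero] at h2 ⊢
    rw [Polynomial.map_mul, Polynomial.map_sub, Polynomial.map_X, Polynomial.map_C] at h2
    exact (Polynomial.monic_X_sub_C _).mul_right_eq_zero_iff.mp h2
  have hpe : p = Polynomial.C q₀ * Polynomial.C (fPoly i j G a) +
      (Polynomial.C (MvPolynomial.X j : MvPolynomial (Fin 2) k) - Polynomial.X) * (-w) := by
    have : p = Polynomial.C (fPoly i j G a * q₀) +
        (Polynomial.X - Polynomial.C (MvPolynomial.X j : MvPolynomial (Fin 2) k)) * w := by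
      rw [← hw]; ring
    rw [this, Polynomial.C_mul]
    ring
  rw [hpe]
  unfold fam
  exact Ideal.add_mem _
    (Ideal.mem_sup_left (Ideal.mul_mem_left _ _ (Ideal.subset_span rfl)))
    (Ideal.mem_sup_right (Ideal.mul_mem_mul (Ideal.subset_span rfl) (Ideal.neg_mem_iff _ |>.mpr hw1)))

end tf


/-- the structure map `k[t] → A[t]/I` -/
noncomputable def phi (I : Ideal (MvPolynomial (Fin 2) k)[X]) :
    k[X] →+* (MvPolynomial (Fin 2) k)[X] ⧸ I :=
  (Ideal.Quotient.mk I).comp (Polynomial.mapRingHom (algebraMap k (MvPolynomial (Fin 2) k)))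

section flat

variable {i j : Fin 2}
  (θ : MvPolynomial (Fin 2) k ≃ₐ[k] (MvPolynomial (Fin 1) k)[X])
  (hθx : θ (MvPolynomial.X i) = Polynomial.X)
  (hθy : θ (MvPolynomial.X j) = Polynomial.C (MvPolynomial.X 0))
  (𝔞 : Ideal (MvPolynomial (Fin 2) k))
  (G : k[X]) (hG : G.Monic) (hpos : 0 < G.natDegree) (a : Fin G.natDegree → k[X])
  (hf : fPoly i j G a ∈ 𝔞)

include hθx hθy hG hpos hf in
theorem flat_fam : RingHom.Flat (R := k[X]) (S := (MvPolynomial (Fin 2) k)[X] ⧸ fam i j 𝔞 G a)
    (phi (fam i j 𝔞 G a)) := by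
  apply flat_of_tf
  intro g m hgm
  by_cases hg : g = 0
  · left; exact hg
  right
  obtain ⟨p, rfl⟩ := Ideal.Quotient.mk_surjective m
  have e : phi (fam i j 𝔞 G a) g * (Ideal.Quotient.mk (fam i j 𝔞 G a) p) =
      Ideal.Quotient.mk (fam i j 𝔞 G a)
        (g.map (algebraMap k (MvPolynomial (Fin 2) k)) * p) := rfl
  rw [e, Ideal.Quotient.eq_zero_iff_mem] at hgm
  have hg' : (Polynomial.C (g.leadingCoeff)⁻¹ * g).Monic :=
    Polynomial.monic_C_mul_of_mul_leadingCoeff_eq_one
      (inv_mul_cancel₀ (Polynomial.leadingCoeff_ne_zero.mpr hg))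
  have h2 : (Polynomial.C (g.leadingCoeff)⁻¹ * g).map
      (algebraMap k (MvPolynomial (Fin 2) k)) * p ∈ fam i j 𝔞 G a := by
    rw [Polynomial.map_mul, mul_assoc]
    exact Ideal.mul_mem_left _ _ hgm
  rw [Ideal.Quotient.eq_zero_iff_mem]
  exact mem_of_monic_mul_mem θ hθx hθy 𝔞 G hG hpos a hf _ hg' p h2

end flat


section finiteGen

variable {B : Type*} [CommRing B] [Algebra k B]
  (ι : MvPolynomial (Fin 2) k →ₐ[k] B) (ψ : k[X] →+* B)
  (hψC : ∀ r : k, ψ (Polynomial.C r) = algebraMap k B r)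
  (q : (MvPolynomial (Fin 2) k)[X] →+* B) (hq : Function.Surjective q)
  (hqC : ∀ c, q (Polynomial.C c) = ι c) (hqX : q Polynomial.X = ψ Polynomial.X)

include hψC hq hqC hqX in
theorem gen_top {i j : Fin 2} (hij : i ≠ j) :
    Subring.closure (Set.range ψ ∪ {ι (MvPolynomial.X i), ι (MvPolynomial.X j)}) = ⊤ := by
  rw [eq_top_iff]
  intro m _
  set T := Subring.closure (Set.range ψ ∪ {ι (MvPolynomial.X i), ι (MvPolynomial.X j)}) with hT
  have hc : ∀ c : MvPolynomial (Fin 2) k, ι c ∈ T := by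
    intro c
    induction c using MvPolynomial.induction_on with
    | C r =>
      have : ι (MvPolynomial.C r) = ψ (Polynomial.C r) := by
        rw [hψC, ← MvPolynomial.algebraMap_eq, AlgHom.commutes]
      rw [this]
      exact Subring.subset_closure (Or.inl ⟨_, rfl⟩)
    | add p q hp hq =>
      rw [map_add]
      exact T.add_mem hp hq
    | mul_X p v hp =>
      rw [map_mul]
      refine T.mul_mem hp (Subring.subset_closure (Or.inr ?_))
      rcases cover i j hij v with rfl | rfl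
      · left; rfl
      · right; rfl
  obtain ⟨p, rfl⟩ := hq m
  induction p using Polynomial.induction_on' with
  | add p q hp hq =>
    rw [map_add]
    exact T.add_mem (hp trivial) (hq trivial)
  | monomial n c =>
    rw [← Polynomial.C_mul_X_pow_eq_monomial, map_mul, map_pow, hqC, hqX]
    exact T.mul_mem (hc c) (T.pow_mem (Subring.subset_closure (Or.inl ⟨_, rfl⟩)) n)

theorem isIntegralElem_y {j : Fin 2} {Ny : ℕ}
    (hrel : (ι (MvPolynomial.X j) - ψ Polynomial.X) * ι (MvPolynomial.X j) ^ Ny = 0) :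
    ψ.IsIntegralElem (ι (MvPolynomial.X j)) := by
  refine ⟨(Polynomial.X - Polynomial.C Polynomial.X) * Polynomial.X ^ Ny,
    (Polynomial.monic_X_sub_C _).mul (Polynomial.monic_X_pow _), ?_⟩
  rw [Polynomial.eval₂_mul, Polynomial.eval₂_sub, Polynomial.eval₂_X, Polynomial.eval₂_C,
    Polynomial.eval₂_pow, Polynomial.eval₂_X]
  exact hrel

/-- the monic polynomial over `B` satisfied by the class of `X i` -/
noncomputable def pol (j : Fin 2) (G : k[X]) (a : Fin G.natDegree → k[X]) : B[X] :=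
  G.map (algebraMap k B) -
    ∑ e : Fin G.natDegree,
      Polynomial.C (Polynomial.aeval (ι (MvPolynomial.X j)) (Polynomial.X * a e)) *
        Polynomial.X ^ (e : ℕ)

theorem eval_pol (i j : Fin 2) (G : k[X]) (a : Fin G.natDegree → k[X]) :
    (pol ι j G a).eval (ι (MvPolynomial.X i)) = ι (fPoly i j G a) := by
  unfold pol fPoly sPoly
  rw [Polynomial.eval_sub, Polynomial.eval_map_algebraMap, Polynomial.eval_finsetSum, map_sub,
    map_sum, ← Polynomial.aeval_algHom_apply]
  congr 1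
  apply Finset.sum_congr rfl
  intro e _
  rw [Polynomial.eval_mul, Polynomial.eval_C, Polynomial.eval_pow, Polynomial.eval_X, map_mul ι,
    map_pow ι, Polynomial.aeval_algHom_apply]

theorem pol_degree [Nontrivial B] (j : Fin 2) (G : k[X]) (a : Fin G.natDegree → k[X])
    (hG : G.Monic) :
    (pol ι j G a).Monic ∧ (pol ι j G a).natDegree = G.natDegree := by
  have hlt : (∑ e : Fin G.natDegree,
      Polynomial.C (Polynomial.aeval (ι (MvPolynomial.X j))
        (Polynomial.X * a e)) * Polynomial.X ^ (e : ℕ)).degree <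
      (G.map (algebraMap k B)).degree := by
    rw [Polynomial.degree_eq_natDegree (hG.map _).ne_zero, hG.natDegree_map]
    exact Polynomial.degree_sum_fin_lt _
  constructor
  · exact Polynomial.Monic.sub_of_left (hG.map _) hlt
  · unfold pol
    apply Polynomial.natDegree_eq_of_degree_eq_some
    rw [Polynomial.degree_sub_eq_left_of_degree_lt hlt,
      Polynomial.degree_eq_natDegree (hG.map _).ne_zero, hG.natDegree_map]

include hψC in
theorem aeval_mem_closure (j : Fin 2) (ρ : k[X]) :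
    Polynomial.aeval (ι (MvPolynomial.X j)) ρ ∈
      Subring.closure (Set.range ψ ∪ {ι (MvPolynomial.X j)}) := by
  induction ρ using Polynomial.induction_on' with
  | add p q hp hq =>
    rw [map_add]
    exact Subring.add_mem _ hp hq
  | monomial n c =>
    rw [← Polynomial.C_mul_X_pow_eq_monomial, map_mul, map_pow, Polynomial.aeval_C,
      Polynomial.aeval_X]
    have h1 : ι (MvPolynomial.X j) ∈
        Subring.closure (Set.range ψ ∪ {ι (MvPolynomial.X j)}) :=
      Subring.subset_closure (Or.inr (Set.mem_singleton _))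
    have h2 : algebraMap k B c ∈ Subring.closure (Set.range ψ ∪ {ι (MvPolynomial.X j)}) := by
      rw [← hψC]
      exact Subring.subset_closure (Or.inl ⟨_, rfl⟩)
    exact Subring.mul_mem _ h2 (Subring.pow_mem _ h1 n)

include hψC in
theorem coeff_pol_mem (j : Fin 2) (G : k[X]) (a : Fin G.natDegree → k[X]) (n : ℕ) :
    (pol ι j G a).coeff n ∈ Subring.closure (Set.range ψ ∪ {ι (MvPolynomial.X j)}) := by
  unfold pol
  rw [Polynomial.coeff_sub, Polynomial.coeff_map, Polynomial.finsetSum_coeff]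
  apply Subring.sub_mem
  · rw [← hψC]
    exact Subring.subset_closure (Or.inl ⟨_, rfl⟩)
  · apply Subring.sum_mem
    intro e _
    rw [Polynomial.coeff_C_mul, Polynomial.coeff_X_pow]
    split_ifs
    · rw [mul_one]
      exact aeval_mem_closure ι ψ hψC j _
    · rw [mul_zero]
      exact Subring.zero_mem _

include hψC hq hqC hqX in
theorem finite_gen [Nontrivial B] {i j : Fin 2} (hij : i ≠ j) (G : k[X]) (hG : G.Monic)
    (hpos : 0 < G.natDegree) (a : Fin G.natDegree → k[X]) {Ny : ℕ}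
    (hrel : (ι (MvPolynomial.X j) - ψ Polynomial.X) * ι (MvPolynomial.X j) ^ Ny = 0)
    (hf0 : ι (fPoly i j G a) = 0) : ψ.Finite := by
  obtain ⟨hm, hd⟩ := pol_degree ι j G a hG
  apply finite_of_gen ψ (ι (MvPolynomial.X i)) (ι (MvPolynomial.X j))
    (gen_top ι ψ hψC q hq hqC hqX hij) (isIntegralElem_y ι ψ hrel) (pol ι j G a) hm
  · rw [hd]; exact hpos.ne'
  · rw [eval_pol, hf0]
  · exact coeff_pol_mem ι ψ hψC j G a

end finiteGen

section finite

variable {i j : Fin 2} (hij : i ≠ j)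
  (𝔞 : Ideal (MvPolynomial (Fin 2) k))
  (G : k[X]) (hG : G.Monic) (hpos : 0 < G.natDegree) (a : Fin G.natDegree → k[X])
  (hf : fPoly i j G a ∈ 𝔞)
  (hyn : (MvPolynomial.X j : MvPolynomial (Fin 2) k) ∉ 𝔞)

/-- the constants map `A → A[t]/fam` -/
noncomputable def iota (I : Ideal (MvPolynomial (Fin 2) k)[X]) :
    MvPolynomial (Fin 2) k →ₐ[k] ((MvPolynomial (Fin 2) k)[X] ⧸ I) :=
  (Ideal.Quotient.mkₐ k I).comp Polynomial.CAlgHom

theorem iota_apply (I : Ideal (MvPolynomial (Fin 2) k)[X]) (c : MvPolynomial (Fin 2) k) :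
    iota I c = Ideal.Quotient.mk I (Polynomial.C c) := rfl

theorem phi_C (I : Ideal (MvPolynomial (Fin 2) k)[X]) (r : k) :
    phi I (Polynomial.C r) = Ideal.Quotient.mk I (Polynomial.C (MvPolynomial.C r)) := by
  unfold phi
  rw [RingHom.comp_apply, Polynomial.coe_mapRingHom, Polynomial.map_C]
  rfl

theorem phi_X (I : Ideal (MvPolynomial (Fin 2) k)[X]) :
    phi I Polynomial.X = Ideal.Quotient.mk I Polynomial.X := by
  unfold phi
  rw [RingHom.comp_apply, Polynomial.coe_mapRingHom, Polynomial.map_X]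

include hf hyn in
theorem fam_ne_top : fam i j 𝔞 G a ≠ ⊤ := by
  intro h
  have h1 : (1 : (MvPolynomial (Fin 2) k)[X]) ∈ Ideal.map Polynomial.C
      (𝔞.colon {(MvPolynomial.X j : MvPolynomial (Fin 2) k)}) := by
    apply fam_le_map_C 𝔞 G a hf
    rw [h]; trivial
  rw [Ideal.mem_map_C_iff] at h1
  have h2 := h1 0
  rw [Polynomial.coeff_one_zero] at h2
  exact colon_ne_top j 𝔞 hyn ((Ideal.eq_top_iff_one _).mpr h2)

include hij hG hpos hf hyn in
theorem finite_fam {Ny : ℕ} (hy : (MvPolynomial.X j : MvPolynomial (Fin 2) k) ^ Ny ∈ 𝔞) :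
    RingHom.Finite (A := k[X]) (B := (MvPolynomial (Fin 2) k)[X] ⧸ fam i j 𝔞 G a)
      (phi (fam i j 𝔞 G a)) := by
  haveI : Nontrivial ((MvPolynomial (Fin 2) k)[X] ⧸ fam i j 𝔞 G a) :=
    Ideal.Quotient.nontrivial_iff.mpr (fam_ne_top 𝔞 G a hf hyn)
  refine finite_gen (B := (MvPolynomial (Fin 2) k)[X] ⧸ fam i j 𝔞 G a)
    (iota (fam i j 𝔞 G a)) (phi (fam i j 𝔞 G a)) (fun r => (phi_C _ r).trans rfl)
    (Ideal.Quotient.mk (fam i j 𝔞 G a)) Ideal.Quotient.mk_surjective (fun c => rfl)
    (phi_X _).symm hij G hG hpos a (Ny := Ny) ?_ ?_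
  · rw [phi_X, iota_apply, ← map_sub, ← map_pow, ← map_mul,
      Ideal.Quotient.eq_zero_iff_mem, ← Polynomial.C_pow]
    unfold fam
    exact Ideal.mem_sup_right (Ideal.mul_mem_mul (Ideal.subset_span rfl)
      (Ideal.mem_map_of_mem _ (le_colon j 𝔞 hy)))
  · rw [iota_apply, Ideal.Quotient.eq_zero_iff_mem]
    unfold fam
    exact Ideal.mem_sup_left (Ideal.subset_span rfl)

end finite

end Groth.Agent.Lib.Helper8.PA3
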