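import Mathlib
import Groth.Agent.Lib.Helper8.PA3

set_option backward.isDefEq.respectTransparency.types false
set_option autoImplicit false
set_option linter.unusedSectionVars false
set_option linter.style.haveILetI false

namespace Groth.Agent.Lib.Helper8.PA4

open Polynomial Groth.Agent.Lib.Helper8.PA1 Groth.Agent.Lib.Helper8.PA2
  Groth.Agent.Lib.Helper8.PA3

universe u

variable {k : Type u} [Field k]

section fibre

variable (i j : Fin 2) (𝔞 : Ideal (MvPolynomial (Fin 2) k)) (G : k[X])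
  (a : Fin G.natDegree → k[X])

theorem map_eval_fam (b : MvPolynomial (Fin 2) k) :
    Ideal.map (Polynomial.evalRingHom b) (fam i j 𝔞 G a) =
      Ideal.span {fPoly i j G a} ⊔
        Ideal.span {(MvPolynomial.X j : MvPolynomial (Fin 2) k) - b} *
          𝔞.colon {(MvPolynomial.X j : MvPolynomial (Fin 2) k)} := by
  unfold fam
  rw [Ideal.map_sup, Ideal.map_mul, Ideal.map_span, Ideal.map_span, Set.image_singleton,
    Set.image_singleton, Ideal.map_map]
  have h1 : (Polynomial.evalRingHom b).comp Polynomial.C = RingHom.id _ := by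
    apply RingHom.ext
    intro x
    simp
  rw [h1, Ideal.map_id]
  simp

variable {i j 𝔞 G a}

theorem fibre_zero (hf : fPoly i j G a ∈ 𝔞)
    (hsup : 𝔞 ≤ Ideal.span {(MvPolynomial.X j : MvPolynomial (Fin 2) k)} ⊔
      Ideal.span {fPoly i j G a}) :
    Ideal.map (Polynomial.evalRingHom (0 : MvPolynomial (Fin 2) k)) (fam i j 𝔞 G a) = 𝔞 := by
  rw [map_eval_fam, sub_zero]
  apply le_antisymm
  · apply sup_le
    · rw [Ideal.span_le, Set.singleton_subset_iff]
      exact hf
    · rw [Ideal.span_singleton_mul_le_iff]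
      intro z hz
      rw [Submodule.mem_colon_singleton, smul_eq_mul] at hz
      rw [mul_comm]
      exact hz
  · intro h hh
    obtain ⟨u, hu, v, hv, huv⟩ := Submodule.mem_sup.mp (hsup hh)
    obtain ⟨u', rfl⟩ := Ideal.mem_span_singleton'.mp hu
    obtain ⟨v', rfl⟩ := Ideal.mem_span_singleton'.mp hv
    have hu' : u' ∈ 𝔞.colon {(MvPolynomial.X j : MvPolynomial (Fin 2) k)} := by
      rw [Submodule.mem_colon_singleton, smul_eq_mul]
      have : u' * MvPolynomial.X j = h - v' * fPoly i j G a := by rw [← huv]; ring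
      rw [this]
      exact Ideal.sub_mem _ hh (Ideal.mul_mem_left _ _ hf)
    rw [← huv]
    refine Ideal.add_mem _ (Ideal.mem_sup_right ?_) (Ideal.mem_sup_left ?_)
    · rw [mul_comm u']
      exact Ideal.mul_mem_mul (Ideal.subset_span rfl) hu'
    · exact Ideal.mul_mem_left _ _ (Ideal.subset_span rfl)

end fibre


section fibre2

variable {i j : Fin 2} {𝔞 : Ideal (MvPolynomial (Fin 2) k)} {G : k[X]}
  {a : Fin G.natDegree → k[X]}

theorem colon_le_zero (hrad : 𝔞.radical = pointIdeal (0 : Fin 2 → k))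
    (hyn : (MvPolynomial.X j : MvPolynomial (Fin 2) k) ∉ 𝔞) :
    𝔞.colon {(MvPolynomial.X j : MvPolynomial (Fin 2) k)} ≤ pointIdeal (0 : Fin 2 → k) := by
  intro g hg
  apply mem_pointIdeal_of_eval
  by_contra hu
  set u := MvPolynomial.eval (0 : Fin 2 → k) g with hu_def
  have h1 : g - MvPolynomial.C u ∈ 𝔞.radical := by
    rw [hrad]
    exact sub_C_eval_mem _ g
  obtain ⟨M, hM⟩ := Ideal.mem_radical_iff.mp h1
  obtain ⟨w, hw⟩ := sub_dvd_pow_sub_pow (g - MvPolynomial.C u) (-MvPolynomial.C u) M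
  rw [sub_neg_eq_add, sub_add_cancel] at hw
  rw [Submodule.mem_colon_singleton, smul_eq_mul] at hg
  apply hyn
  have h2 : (MvPolynomial.X j : MvPolynomial (Fin 2) k) * (-MvPolynomial.C u) ^ M ∈ 𝔞 := by
    have : (MvPolynomial.X j : MvPolynomial (Fin 2) k) * (-MvPolynomial.C u) ^ M =
        MvPolynomial.X j * (g - MvPolynomial.C u) ^ M - (g * MvPolynomial.X j) * w := by
      linear_combination (-(MvPolynomial.X j : MvPolynomial (Fin 2) k)) * hw
    rw [this]
    exact Ideal.sub_mem _ (Ideal.mul_mem_left _ _ hM) (Ideal.mul_mem_right _ _ hg)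
  have h3 : (-MvPolynomial.C u : MvPolynomial (Fin 2) k) ^ M = MvPolynomial.C ((-u) ^ M) := by
    rw [map_pow, map_neg]
  rw [h3] at h2
  have h4 : (MvPolynomial.X j : MvPolynomial (Fin 2) k) =
      MvPolynomial.C (((-u) ^ M)⁻¹) * (MvPolynomial.X j * MvPolynomial.C ((-u) ^ M)) := by
    rw [mul_comm (MvPolynomial.X j), ← mul_assoc, ← map_mul,
      inv_mul_cancel₀ (pow_ne_zero _ (neg_ne_zero.mpr hu)), map_one, one_mul]
  rw [h4]
  exact Ideal.mul_mem_left _ _ h2

theorem eval_fPoly (p : Fin 2 → k) :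
    MvPolynomial.eval p (fPoly i j G a) =
      (G - ∑ e : Fin G.natDegree,
        Polynomial.C ((Polynomial.X * a e).eval (p j)) * Polynomial.X ^ (e : ℕ)).eval (p i) := by
  unfold fPoly sPoly
  have hA : ∀ (v : Fin 2) (ρ : k[X]),
      MvPolynomial.eval p (Polynomial.aeval (MvPolynomial.X v : MvPolynomial (Fin 2) k) ρ) =
        ρ.eval (p v) := by
    intro v ρ
    have := Polynomial.aeval_algHom_apply (MvPolynomial.aeval p : MvPolynomial (Fin 2) k →ₐ[k] k)
      (MvPolynomial.X v) ρ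
    rw [MvPolynomial.aeval_X] at this
    rw [← MvPolynomial.coe_aeval_eq_eval, RingHom.coe_coe, ← this, Polynomial.aeval_def,
      Algebra.algebraMap_self, Polynomial.eval₂_id]
  rw [map_sub, map_sum, Polynomial.eval_sub, Polynomial.eval_finsetSum, hA]
  congr 1
  apply Finset.sum_congr rfl
  intro e _
  rw [map_mul, map_pow, hA, MvPolynomial.eval_X]
  simp only [Polynomial.eval_mul, Polynomial.eval_C, Polynomial.eval_pow, Polynomial.eval_X]

theorem exists_root [IsAlgClosed k] (hG : G.Monic) (hpos : 0 < G.natDegree) (c : k) :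
    ∃ α : k, (G - ∑ e : Fin G.natDegree,
        Polynomial.C ((Polynomial.X * a e).eval c) * Polynomial.X ^ (e : ℕ)).eval α = 0 := by
  have hlt : (∑ e : Fin G.natDegree,
      Polynomial.C ((Polynomial.X * a e).eval c) * Polynomial.X ^ (e : ℕ)).degree < G.degree := by
    rw [Polynomial.degree_eq_natDegree hG.ne_zero]
    exact Polynomial.degree_sum_fin_lt _
  apply IsAlgClosed.exists_root
  rw [Polynomial.degree_sub_eq_left_of_degree_lt hlt, Polynomial.degree_eq_natDegree hG.ne_zero]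
  intro h0
  have : G.natDegree = 0 := by exact_mod_cast h0
  omega

theorem fibre_c [IsAlgClosed k] (hij : i ≠ j) (hrad : 𝔞.radical = pointIdeal (0 : Fin 2 → k))
    (hyn : (MvPolynomial.X j : MvPolynomial (Fin 2) k) ∉ 𝔞)
    (hG : G.Monic) (hpos : 0 < G.natDegree) (hf : fPoly i j G a ∈ 𝔞) (c : k) (hc : c ≠ 0) :
    Ideal.map (Polynomial.evalRingHom (MvPolynomial.C c : MvPolynomial (Fin 2) k))
        (fam i j 𝔞 G a) ≤ pointIdeal (0 : Fin 2 → k) ∧
      ∃ p : Fin 2 → k, p ≠ 0 ∧
        Ideal.map (Polynomial.evalRingHom (MvPolynomial.C c : MvPolynomial (Fin 2) k))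
          (fam i j 𝔞 G a) ≤ pointIdeal p := by
  rw [map_eval_fam]
  constructor
  · apply sup_le
    · rw [Ideal.span_le, Set.singleton_subset_iff]
      have : 𝔞 ≤ pointIdeal (0 : Fin 2 → k) := hrad ▸ Ideal.le_radical
      exact this hf
    · exact Ideal.mul_le_right.trans (colon_le_zero hrad hyn)
  · obtain ⟨α, hα⟩ := exists_root (a := a) hG hpos c
    refine ⟨fun v => if v = i then α else c, ?_, ?_⟩
    · intro h0
      have := congrFun h0 j
      simp only [if_neg (Ne.symm hij), Pi.zero_apply] at this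
      exact hc this
    · apply sup_le
      · rw [Ideal.span_le, Set.singleton_subset_iff]
        apply mem_pointIdeal_of_eval
        rw [eval_fPoly]
        simp only [if_neg (Ne.symm hij), if_true]
        exact hα
      · refine Ideal.mul_le_left.trans ?_
        rw [Ideal.span_le, Set.singleton_subset_iff]
        apply mem_pointIdeal_of_eval
        rw [map_sub, MvPolynomial.eval_X, MvPolynomial.eval_C]
        simp only [if_neg (Ne.symm hij), sub_self]

end fibre2


section final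

theorem main_ij [IsAlgClosed k] (i j : Fin 2) (hij : i ≠ j)
    (𝔞 : Ideal (MvPolynomial (Fin 2) k))
    (hsupp : 𝔞.radical = Ideal.span {MvPolynomial.X 0, MvPolynomial.X 1})
    (hyn : (MvPolynomial.X j : MvPolynomial (Fin 2) k) ∉ 𝔞) :
    ∃ 𝔞' : Ideal (MvPolynomial (Fin 2) k)[X],
      RingHom.Flat (R := k[X]) (S := (MvPolynomial (Fin 2) k)[X] ⧸ 𝔞')
        ((Ideal.Quotient.mk 𝔞').comp
          (Polynomial.mapRingHom (algebraMap k (MvPolynomial (Fin 2) k)))) ∧
      RingHom.Finite (A := k[X]) (B := (MvPolynomial (Fin 2) k)[X] ⧸ 𝔞')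
        ((Ideal.Quotient.mk 𝔞').comp
          (Polynomial.mapRingHom (algebraMap k (MvPolynomial (Fin 2) k)))) ∧
      Ideal.map (Polynomial.evalRingHom (0 : MvPolynomial (Fin 2) k)) 𝔞' = 𝔞 ∧
      ∀ c : k, c ≠ 0 →
        Ideal.map (Polynomial.evalRingHom (MvPolynomial.C c)) 𝔞' ≤
          Ideal.span {MvPolynomial.X 0, MvPolynomial.X 1} ∧
        ∃ p : Fin 2 → k, p ≠ 0 ∧
          Ideal.map (Polynomial.evalRingHom (MvPolynomial.C c)) 𝔞' ≤
            Ideal.span (Set.range (fun i : Fin 2 =>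
              (MvPolynomial.X i : MvPolynomial (Fin 2) k) - MvPolynomial.C (p i))) := by
  have hrad : 𝔞.radical = pointIdeal (0 : Fin 2 → k) := by rw [pointIdeal_zero]; exact hsupp
  have hle : 𝔞 ≤ Ideal.span {(MvPolynomial.X 0 : MvPolynomial (Fin 2) k), MvPolynomial.X 1} :=
    hsupp ▸ Ideal.le_radical
  have hXmem : ∀ v : Fin 2, (MvPolynomial.X v : MvPolynomial (Fin 2) k) ∈ 𝔞.radical := by
    intro v
    rw [hsupp]
    apply Ideal.subset_span
    fin_cases v
    · left; rfl
    · right; rfl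
  obtain ⟨Nx, hx⟩ := Ideal.mem_radical_iff.mp (hXmem i)
  obtain ⟨Ny, hy⟩ := Ideal.mem_radical_iff.mp (hXmem j)
  obtain ⟨θ, hθx, hθy⟩ := exists_theta (k := k) i j hij
  obtain ⟨G, a, hG, hpos, hf, hsup⟩ := exists_f hij hx hy hle
  refine ⟨fam i j 𝔞 G a, flat_fam θ hθx hθy 𝔞 G hG hpos a hf,
    finite_fam hij 𝔞 G hG hpos a hf hyn hy, fibre_zero hf hsup, ?_⟩
  intro c hc
  obtain ⟨h1, p, hp, h2⟩ := fibre_c hij hrad hyn hG hpos hf c hc
  rw [pointIdeal_zero] at h1
  exact ⟨h1, p, hp, h2⟩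

theorem main11453 (k : Type u) [Field k] [IsAlgClosed k]
    (𝔞 : Ideal (MvPolynomial (Fin 2) k)) [Module.Finite k (MvPolynomial (Fin 2) k ⧸ 𝔞)]
    (hn : 2 ≤ Module.finrank k (MvPolynomial (Fin 2) k ⧸ 𝔞))
    (hsupp : 𝔞.radical = Ideal.span {MvPolynomial.X 0, MvPolynomial.X 1}) :
    ∃ 𝔞' : Ideal (MvPolynomial (Fin 2) k)[X],
      RingHom.Flat (R := k[X]) (S := (MvPolynomial (Fin 2) k)[X] ⧸ 𝔞')
        ((Ideal.Quotient.mk 𝔞').comp
          (Polynomial.mapRingHom (algebraMap k (MvPolynomial (Fin 2) k)))) ∧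
      RingHom.Finite (A := k[X]) (B := (MvPolynomial (Fin 2) k)[X] ⧸ 𝔞')
        ((Ideal.Quotient.mk 𝔞').comp
          (Polynomial.mapRingHom (algebraMap k (MvPolynomial (Fin 2) k)))) ∧
      Ideal.map (Polynomial.evalRingHom (0 : MvPolynomial (Fin 2) k)) 𝔞' = 𝔞 ∧
      ∀ c : k, c ≠ 0 →
        Ideal.map (Polynomial.evalRingHom (MvPolynomial.C c)) 𝔞' ≤
          Ideal.span {MvPolynomial.X 0, MvPolynomial.X 1} ∧
        ∃ p : Fin 2 → k, p ≠ 0 ∧
          Ideal.map (Polynomial.evalRingHom (MvPolynomial.C c)) 𝔞' ≤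
            Ideal.span (Set.range (fun i : Fin 2 =>
              (MvPolynomial.X i : MvPolynomial (Fin 2) k) - MvPolynomial.C (p i))) := by
  have hex : ∃ j : Fin 2, (MvPolynomial.X j : MvPolynomial (Fin 2) k) ∉ 𝔞 := by
    by_contra hall
    push Not at hall
    have hle : pointIdeal (0 : Fin 2 → k) ≤ 𝔞 := by
      rw [pointIdeal_zero, Ideal.span_le]
      intro q hq
      rcases hq with rfl | hq
      · exact hall 0
      · rw [Set.mem_singleton_iff] at hq
        subst hq
        exact hall 1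
    have h1 : Module.finrank k (MvPolynomial (Fin 2) k ⧸ 𝔞) ≤ 1 := by
      apply finrank_le_one (Ideal.Quotient.mk 𝔞 1)
      intro w
      obtain ⟨h, rfl⟩ := Ideal.Quotient.mk_surjective w
      refine ⟨MvPolynomial.eval (0 : Fin 2 → k) h, ?_⟩
      show Ideal.Quotient.mk 𝔞 (MvPolynomial.eval (0 : Fin 2 → k) h • (1 : MvPolynomial (Fin 2) k)) = _
      rw [MvPolynomial.smul_eq_C_mul, mul_one, eq_comm, Ideal.Quotient.eq]
      exact hle (sub_C_eval_mem _ h)
    omega
  obtain ⟨j, hj⟩ := hex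
  have hij : ∃ i : Fin 2, i ≠ j := by
    fin_cases j
    · exact ⟨1, by decide⟩
    · exact ⟨0, by decide⟩
  obtain ⟨i, hij⟩ := hij
  exact main_ij i j hij 𝔞 hsupp hj

end final

end Groth.Agent.Lib.Helper8.PA4
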