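import Mathlib

set_option backward.isDefEq.respectTransparency.types false
set_option autoImplicit false
set_option linter.unusedSectionVars false
set_option linter.style.haveILetI false

namespace Groth.Agent.Lib.Helper8.PC

open Finset Nat

variable {R : Type*} {B : Type*} [CommRing R] [CommRing B] [Algebra R B]

/-- The general Leibniz rule for iterates of a derivation. -/
theorem iterate_mul (D : Derivation R B B) (n : ℕ) (a b : B) :
    D^[n] (a * b) = ∑ ij ∈ antidiagonal n, n.choose ij.1 • (D^[ij.1] a * D^[ij.2] b) := by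
  induction n with
  | zero => simp
  | succ n ih =>
    rw [sum_antidiagonal_choose_succ_nsmul (M := B) (fun i j => D^[i] a * D^[j] b) n]
    simp only [Function.iterate_succ_apply', ih, map_sum, map_nsmul, Derivation.leibniz, smul_add,
      sum_add_distrib, smul_eq_mul]
    congr 1
    refine sum_congr rfl fun ⟨i, j⟩ hij ↦ ?_
    rw [n.choose_symm_of_eq_add (mem_antidiagonal.1 hij).symm]
    simp only [mul_comm]

theorem iterate_mul_prime (p : ℕ) [Fact p.Prime] [CharP B p] (D : Derivation R B B) (a b : B) :
    D^[p] (a * b) = a * D^[p] b + b * D^[p] a := by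
  rw [iterate_mul, Nat.sum_antidiagonal_eq_sum_range_succ (fun i j => p.choose i • (D^[i] a * D^[j] b)),
    Finset.sum_range_succ]
  have hp1 : 1 ≤ p := (Fact.out : p.Prime).one_le
  obtain ⟨q, rfl⟩ : ∃ q, p = q + 1 := ⟨p - 1, by omega⟩
  rw [Finset.sum_range_succ']
  have hz : ∑ i ∈ range q, (q + 1).choose (i + 1) • (D^[i + 1] a * D^[q + 1 - (i + 1)] b) = 0 := by
    apply Finset.sum_eq_zero
    intro i hi
    have hi' : i + 1 < q + 1 := by
      have := Finset.mem_range.mp hi
      omega
    have hdvd : (q + 1) ∣ (q + 1).choose (i + 1) :=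
      (Fact.out : (q + 1).Prime).dvd_choose_self (Nat.succ_ne_zero i) hi'
    rw [nsmul_eq_mul, (CharP.cast_eq_zero_iff B (q + 1) _).mpr hdvd, zero_mul]
  rw [hz]
  simp only [choose_zero_right, Function.iterate_zero, id_eq, tsub_zero, one_smul, zero_add,
    choose_self, tsub_self]
  rw [mul_comm (D^[q + 1] a) b]

/-- In characteristic `p`, the `p`-fold iterate of a derivation is a derivation. -/
noncomputable def iterDer (p : ℕ) [Fact p.Prime] [CharP B p] (D : Derivation R B B) :
    Derivation R B B :=
  Derivation.mk' ((D : B →ₗ[R] B) ^ p) (by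
    intro a b
    rw [Module.End.pow_apply, Module.End.pow_apply, Module.End.pow_apply]
    exact iterate_mul_prime p D a b)

theorem iterDer_apply (p : ℕ) [Fact p.Prime] [CharP B p] (D : Derivation R B B) (b : B) :
    iterDer p D b = D^[p] b := by
  show ((D : B →ₗ[R] B) ^ p) b = _
  rw [Module.End.pow_apply]
  rfl

end Groth.Agent.Lib.Helper8.PC
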