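import Mathlib
import Groth.Agent.Lib.Helper8.PC1

set_option backward.isDefEq.respectTransparency.types false
set_option autoImplicit false
set_option linter.unusedSectionVars false
set_option linter.style.haveILetI false

namespace Groth.Agent.Lib.Helper8.PC

open Finset

variable {B : Type*} [CommRing B]

/-- Coefficients of the normally ordered expansion `(f X)^n = ∑ c n k X^k` when `[X, b] = D b`. -/
def c (D : B → B) (f : B) : ℕ → ℕ → B
  | 0, 0 => 1
  | 0, (_ + 1) => 0
  | (n + 1), 0 => f * D (c D f n 0)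
  | (n + 1), (k + 1) => f * (D (c D f n (k + 1)) + c D f n k)

variable (D : B → B) (f : B)

@[simp] lemma c_zero_zero : c D f 0 0 = 1 := by simp [c]
@[simp] lemma c_zero_succ (k : ℕ) : c D f 0 (k + 1) = 0 := by simp [c]
lemma c_succ_zero' (n : ℕ) : c D f (n + 1) 0 = f * D (c D f n 0) := by simp [c]
lemma c_succ_succ (n k : ℕ) : c D f (n + 1) (k + 1) = f * (D (c D f n (k + 1)) + c D f n k) := by
  simp [c]

lemma c_eq_zero_of_lt (hD0 : D 0 = 0) : ∀ n k, n < k → c D f n k = 0 := by
  intro n
  induction n with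
  | zero =>
    intro k hk
    obtain ⟨k, rfl⟩ : ∃ k', k = k' + 1 := ⟨k - 1, by omega⟩
    simp
  | succ n ih =>
    intro k hk
    obtain ⟨k, rfl⟩ : ∃ k', k = k' + 1 := ⟨k - 1, by omega⟩
    rw [c_succ_succ, ih (k + 1) (by omega), ih k (by omega), hD0, add_zero, mul_zero]

lemma c_self (hD0 : D 0 = 0) (n : ℕ) : c D f n n = f ^ n := by
  induction n with
  | zero => simp
  | succ n ih =>
    rw [c_succ_succ, ih, c_eq_zero_of_lt D f hD0 n (n + 1) (by omega), hD0, zero_add, pow_succ,
      mul_comm]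

lemma c_succ_zero (hD0 : D 0 = 0) (hD1 : D 1 = 0) (n : ℕ) : c D f (n + 1) 0 = 0 := by
  induction n with
  | zero => rw [c_succ_zero', c_zero_zero, hD1, mul_zero]
  | succ n ih => rw [c_succ_zero', ih, hD0, mul_zero]

lemma c_succ_one (hD0 : D 0 = 0) (hD1 : D 1 = 0) (n : ℕ) :
    c D f (n + 1) 1 = (fun b => f * D b)^[n] f := by
  induction n with
  | zero => simp [c_succ_succ, hD0]
  | succ n ih =>
    rw [c_succ_succ, ih, c_succ_zero D f hD0 hD1, add_zero, Function.iterate_succ_apply']

/-- Normal ordering. -/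
theorem normal_order (hD0 : D 0 = 0) {E : Type*} [Ring E] (ι : B →+* E) (X : E)
    (hX : ∀ b, X * ι b = ι b * X + ι (D b)) (n : ℕ) :
    (ι f * X) ^ n = ∑ k ∈ range (n + 1), ι (c D f n k) * X ^ k := by
  induction n with
  | zero => simp
  | succ n ih =>
    rw [pow_succ', ih, Finset.mul_sum]
    have h1 : ∀ k, ι f * X * (ι (c D f n k) * X ^ k) =
        ι (f * c D f n k) * X ^ (k + 1) + ι (f * D (c D f n k)) * X ^ k := by
      intro k
      rw [mul_assoc (ι f), ← mul_assoc X, hX, add_mul, mul_add, map_mul, map_mul, pow_succ']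
      simp only [mul_assoc]
    simp_rw [h1]
    rw [Finset.sum_add_distrib]
    rw [Finset.sum_range_succ' (fun k => ι (c D f (n + 1) k) * X ^ k) (n + 1)]
    simp_rw [c_succ_succ, c_succ_zero', mul_add, map_add, add_mul]
    rw [Finset.sum_add_distrib]
    rw [Finset.sum_range_succ (fun k => ι (f * D (c D f n (k + 1))) * X ^ (k + 1)) n]
    rw [c_eq_zero_of_lt D f hD0 n (n + 1) (by omega), hD0, mul_zero, map_zero, zero_mul, add_zero]
    rw [Finset.sum_range_succ' (fun k => ι (f * D (c D f n k)) * X ^ k) n]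
    abel

end Groth.Agent.Lib.Helper8.PC
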