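import Mathlib
import Groth.Agent.Lib.Helper8.PC2

set_option backward.isDefEq.respectTransparency.types false
set_option autoImplicit false
set_option linter.unusedSectionVars false
set_option linter.style.haveILetI false

namespace Groth.Agent.Lib.Helper8.PC

open Finset Polynomial

variable {B : Type*} [CommRing B]

lemma cast_factorial_cancel (p : ℕ) [Fact p.Prime] [CharP B p] (m : ℕ) (hm : m < p) (x : B)
    (h : x * (m.factorial : B) = 0) : x = 0 := by
  have hcop : Nat.Coprime m.factorial p := by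
    rw [Nat.coprime_comm]
    exact (Nat.Prime.coprime_iff_not_dvd Fact.out).mpr
      (fun hd => absurd ((Nat.Prime.dvd_factorial Fact.out).mp hd) (by omega))
  have hI : IsCoprime (m.factorial : ℤ) (p : ℤ) := Nat.isCoprime_iff_coprime.mpr hcop
  obtain ⟨u, v, huv⟩ := hI
  have h1 : ((u : B) * (m.factorial : B)) = 1 := by
    have := congrArg (Int.cast (R := B)) huv
    push_cast at this
    rw [CharP.cast_eq_zero B p, mul_zero, add_zero] at this
    exact this
  calc x = x * ((u : B) * (m.factorial : B)) := by rw [h1, mul_one]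
    _ = (x * (m.factorial : B)) * u := by ring
    _ = 0 := by rw [h, zero_mul]

section

variable [Differential B]

open Differential

lemma iterate_implicitDeriv_X_pow (m k : ℕ) :
    (implicitDeriv (1 : B[X]))^[k] (X ^ m) = (m.descFactorial k) • X ^ (m - k) := by
  induction k with
  | zero => simp
  | succ k ih =>
    rw [Function.iterate_succ_apply', ih, map_nsmul, Derivation.leibniz_pow, implicitDeriv_X,
      Nat.descFactorial_succ, smul_smul, Nat.sub_sub, smul_eq_mul, mul_one, mul_comm]

end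

theorem c_middle (p : ℕ) [Fact p.Prime] [CharP B p] (D : Derivation ℤ B B) (f : B)
    (m : ℕ) (h2 : 2 ≤ m) (hm : m < p) : c D f p m = 0 := by
  letI : Differential B := ⟨D⟩
  let D' : Derivation ℤ B[X] B[X] := Differential.implicitDeriv (1 : B[X])
  have hD'C : ∀ b : B, D' (C b) = C (D b) := fun b => Differential.implicitDeriv_C 1 b
  let ι : B →+* Module.End ℤ B[X] := (Algebra.lmul ℤ B[X]).toRingHom.comp C
  have hι : ∀ (b : B) (y : B[X]), ι b y = C b * y := fun b y => rfl
  let XE : Module.End ℤ B[X] := (D' : B[X] →ₗ[ℤ] B[X])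
  have hXE : ∀ y, XE y = D' y := fun y => rfl
  have hX : ∀ b, XE * ι b = ι b * XE + ι (D b) := by
    intro b
    ext y
    simp only [Module.End.mul_apply, LinearMap.add_apply, hι, hXE, Derivation.leibniz, hD'C,
      smul_eq_mul]
    rw [mul_comm y]
  have hno := normal_order (⇑D) f (map_zero D) ι XE hX p
  let θ' : Derivation ℤ B[X] B[X] := (C f) • D'
  have hθ' : (θ' : B[X] →ₗ[ℤ] B[X]) = ι f * XE := by
    ext y
    rfl
  have hlhs : ((ι f * XE) ^ p) (X ^ m) = iterDer p θ' (X ^ m) := by
    rw [← hθ']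
    rfl
  have hcoeffL : (((ι f * XE) ^ p) (X ^ m)).coeff 0 = 0 := by
    rw [hlhs, Derivation.leibniz_pow]
    obtain ⟨m', rfl⟩ : ∃ m', m = m' + 1 + 1 := ⟨m - 2, by omega⟩
    simp only [Nat.add_sub_cancel, smul_eq_mul, nsmul_eq_mul]
    rw [← mul_assoc, mul_comm _ (X ^ (m' + 1)), mul_assoc, pow_succ', mul_assoc, coeff_X_mul_zero]
  rw [hno] at hcoeffL
  rw [LinearMap.sum_apply, finsetSum_coeff] at hcoeffL
  have hterm : ∀ k, ((ι (c (⇑D) f p k) * XE ^ k) (X ^ m)).coeff 0 =
      c (⇑D) f p k * ((m.descFactorial k : B) * ((X : B[X]) ^ (m - k)).coeff 0) := by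
    intro k
    rw [Module.End.mul_apply, hι, Module.End.pow_apply]
    have : (⇑XE)^[k] (X ^ m) = (m.descFactorial k) • X ^ (m - k) :=
      iterate_implicitDeriv_X_pow m k
    rw [this, coeff_C_mul, nsmul_eq_mul, ← C_eq_natCast, coeff_C_mul]
  simp_rw [hterm] at hcoeffL
  rw [Finset.sum_eq_single m] at hcoeffL
  · rw [Nat.sub_self, pow_zero, coeff_one_zero, mul_one, Nat.descFactorial_self] at hcoeffL
    exact cast_factorial_cancel p m hm _ hcoeffL
  · intro k _ hkm
    rcases lt_or_gt_of_ne hkm with h | h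
    · rw [coeff_X_pow, if_neg (by omega), mul_zero, mul_zero]
    · rw [Nat.descFactorial_of_lt h, Nat.cast_zero, zero_mul, mul_zero]
  · intro h
    exact absurd (Finset.mem_range.mpr (by omega)) h


/-- Deligne's identity `(fX)^p = f^p X^p + (fD)^{p-1}(f) X` in characteristic `p`. -/
theorem normal_order_prime (p : ℕ) [Fact p.Prime] [CharP B p] (D : Derivation ℤ B B) (f : B)
    {E : Type*} [Ring E] (ι : B →+* E) (X : E)
    (hX : ∀ b, X * ι b = ι b * X + ι (D b)) :
    (ι f * X) ^ p = ι (f ^ p) * X ^ p + ι ((fun b => f * D b)^[p - 1] f) * X := by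
  rw [normal_order (⇑D) f (map_zero D) ι X hX p]
  have hp2 : 2 ≤ p := (Fact.out : p.Prime).two_le
  rw [Finset.sum_range_succ, c_self (⇑D) f (map_zero D), add_comm]
  congr 1
  rw [Finset.sum_eq_single 1]
  · obtain ⟨q, hq⟩ : ∃ q, p = q + 1 := ⟨p - 1, by omega⟩
    rw [pow_one]
    congr 2
    rw [hq, c_succ_one (⇑D) f (map_zero D) D.map_one_eq_zero]
    rfl
  · intro k hk hk1
    have hkp : k < p := Finset.mem_range.mp hk
    rcases Nat.eq_zero_or_pos k with h0 | h0
    · subst h0
      obtain ⟨q, hq⟩ : ∃ q, p = q + 1 := ⟨p - 1, by omega⟩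
      rw [hq, c_succ_zero (⇑D) f (map_zero D) D.map_one_eq_zero, map_zero, zero_mul]
    · rw [c_middle p D f k (by omega) hkp, map_zero, zero_mul]
  · intro h
    exact absurd (Finset.mem_range.mpr (by omega)) h

end Groth.Agent.Lib.Helper8.PC
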