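import Mathlib
import Groth.Agent.Lib.Helper8.PC3
import Groth.Prelude.Def_Conn

set_option backward.isDefEq.respectTransparency.types false
set_option autoImplicit false
set_option linter.unusedSectionVars false
set_option linter.style.haveILetI false

namespace Groth.Agent.Lib.Helper8.PC

open TensorProduct

universe v u

variable {A : Type v} {B M : Type u} [CommRing A] [CommRing B] [Algebra A B]
  [AddCommGroup M] [Module B M] [Module A M] [IsScalarTower A B M]

lemma along_smul (nabla : M →ₗ[A] M ⊗[B] Ω[B⁄A]) (f : B) (φ : Ω[B⁄A] →ₗ[B] B) (m : M) :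
    Conn.along nabla (f • φ) m = f • Conn.along nabla φ m := by
  rw [Conn.along_apply, Conn.along_apply]
  generalize nabla m = t
  induction t using TensorProduct.induction_on with
  | zero => simp
  | tmul x y => simp [smul_smul, mul_comm]
  | add x y hx hy => simp only [map_add, hx, hy, smul_add]

lemma along_add (nabla : M →ₗ[A] M ⊗[B] Ω[B⁄A]) (φ ψ : Ω[B⁄A] →ₗ[B] B) (m : M) :
    Conn.along nabla (φ + ψ) m = Conn.along nabla φ m + Conn.along nabla ψ m := by
  rw [Conn.along_apply, Conn.along_apply, Conn.along_apply]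
  generalize nabla m = t
  induction t using TensorProduct.induction_on with
  | zero => simp
  | tmul x y => simp [add_smul]
  | add x y hx hy => simp only [map_add, hx, hy]; abel

lemma alongDer_smul (nabla : M →ₗ[A] M ⊗[B] Ω[B⁄A]) (f : B) (θ : Derivation A B B) (m : M) :
    Conn.alongDer nabla (f • θ) m = f • Conn.alongDer nabla θ m := by
  unfold Conn.alongDer
  rw [← along_smul]
  congr 2
  exact ((KaehlerDifferential.linearMapEquivDerivation A B).symm.map_smul f θ)

lemma alongDer_add (nabla : M →ₗ[A] M ⊗[B] Ω[B⁄A]) (θ θ' : Derivation A B B) (m : M) :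
    Conn.alongDer nabla (θ + θ') m = Conn.alongDer nabla θ m + Conn.alongDer nabla θ' m := by
  unfold Conn.alongDer
  rw [← along_add]
  congr 2
  exact ((KaehlerDifferential.linearMapEquivDerivation A B).symm.map_add θ θ')

lemma alongDer_leibniz (nabla : M →ₗ[A] M ⊗[B] Ω[B⁄A])
    (hc : Conn.IsConn (KaehlerDifferential.D A B) nabla) (θ : Derivation A B B) (b : B) (m : M) :
    Conn.alongDer nabla θ (b • m) = b • Conn.alongDer nabla θ m + θ b • m := by
  unfold Conn.alongDer
  rw [Conn.along_apply, Conn.along_apply, hc b m, map_add, map_add, map_smul, map_smul]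
  simp


/-- `p`-linearity of the `p`-curvature in the vector field (rank one case): `ψ(fθ₀) = f^p ψ(θ₀)`. -/
theorem deligne (p : ℕ) [Fact p.Prime] [CharP B p] (nabla : M →ₗ[A] M ⊗[B] Ω[B⁄A])
    (hc : Conn.IsConn (KaehlerDifferential.D A B) nabla) (θ₀ θ₀p : Derivation A B B)
    (h0 : Conn.IsIterPow θ₀ p θ₀p) (f : B) (θp : Derivation A B B)
    (hθ : Conn.IsIterPow (f • θ₀) p θp) (m : M) :
    Conn.pCurv p nabla (f • θ₀) θp m = f ^ p • Conn.pCurv p nabla θ₀ θ₀p m := by
  let D : Derivation ℤ B B := θ₀.restrictScalars ℤ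
  have hD : ∀ b, D b = θ₀ b := fun b => rfl
  set c1 : B := (fun b => f * D b)^[p - 1] f with hc1
  haveI : SMulCommClass B A M := inferInstance
  -- on M
  let ι₁ : B →+* Module.End A M := Module.toModuleEnd A (S := B) M
  have hι₁ : ∀ (b : B) (m : M), ι₁ b m = b • m := fun b m => rfl
  let X₁ : Module.End A M := Conn.alongDer nabla θ₀
  have hX₁ : ∀ b, X₁ * ι₁ b = ι₁ b * X₁ + ι₁ (D b) := by
    intro b
    ext m
    simp only [Module.End.mul_apply, LinearMap.add_apply, hι₁]
    exact alongDer_leibniz nabla hc θ₀ b m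
  have e1 := normal_order_prime p D f ι₁ X₁ hX₁
  -- on B
  let ι₂ : B →+* Module.End ℤ B := (Algebra.lmul ℤ B).toRingHom
  have hι₂ : ∀ (b y : B), ι₂ b y = b * y := fun b y => rfl
  let X₂ : Module.End ℤ B := (D : B →ₗ[ℤ] B)
  have hX₂ : ∀ b, X₂ * ι₂ b = ι₂ b * X₂ + ι₂ (D b) := by
    intro b
    ext y
    simp only [Module.End.mul_apply, LinearMap.add_apply, hι₂]
    show D (b * y) = b * D y + D b * y
    rw [D.leibniz, smul_eq_mul, smul_eq_mul, mul_comm y]
  have e2 := normal_order_prime p D f ι₂ X₂ hX₂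
  have hθp : θp = f ^ p • θ₀p + c1 • θ₀ := by
    ext b
    rw [hθ b]
    have := congrArg (fun T : Module.End ℤ B => T b) e2
    simp only [Module.End.mul_apply, LinearMap.add_apply, hι₂, Module.End.pow_apply] at this
    have hiter : ∀ (n : ℕ) (y : B), (⇑(f • θ₀))^[n] y = (⇑(ι₂ f * X₂))^[n] y := by
      intro n y
      induction n with
      | zero => rfl
      | succ n ih =>
        rw [Function.iterate_succ_apply', Function.iterate_succ_apply', ih]
        rfl
    rw [hiter, this]
    simp only [Derivation.add_apply, Derivation.smul_apply, smul_eq_mul]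
    rw [h0 b]
    rfl
  have hθ' : ∀ m, Conn.alongDer nabla (f • θ₀) m = (ι₁ f * X₁) m := by
    intro m
    rw [alongDer_smul]
    rfl
  have hpow : ∀ (n : ℕ) (m : M), ((Conn.alongDer nabla (f • θ₀)) ^ n) m = ((ι₁ f * X₁) ^ n) m := by
    intro n m
    have : Conn.alongDer nabla (f • θ₀) = ι₁ f * X₁ := LinearMap.ext hθ'
    rw [this]
  unfold Conn.pCurv
  rw [LinearMap.sub_apply, LinearMap.sub_apply, hpow, e1, hθp, alongDer_add, alongDer_smul,
    alongDer_smul, LinearMap.add_apply, Module.End.mul_apply, Module.End.mul_apply, hι₁, hι₁,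
    smul_sub]
  show f ^ p • (X₁ ^ p) m + c1 • X₁ m - _ = _
  abel


theorem main {A : Type v} {B M : Type u} [CommRing A] [CommRing B]
    [Algebra A B] (p : ℕ) [Fact p.Prime] [CharP B p]
    [AddCommGroup M] [Module B M] [Module A M] [IsScalarTower A B M]
    (bΩ : Module.Basis (Fin 1) B (KaehlerDifferential A B)) (θ₀ : Derivation A B B)
    (hθ₀ : θ₀.liftKaehlerDifferential (bΩ 0) = 1)
    (nabla : M →ₗ[A] M ⊗[B] KaehlerDifferential A B)
    (hc : Conn.IsConn (KaehlerDifferential.D A B) nabla) :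
    (∀ θ θp : Derivation A B B, Conn.IsIterPow θ p θp → Conn.pCurv p nabla θ θp = 0) ↔
      (∀ θp : Derivation A B B, Conn.IsIterPow θ₀ p θp → Conn.pCurv p nabla θ₀ θp = 0) := by
  constructor
  · intro h θp hθp
    exact h θ₀ θp hθp
  · intro h θ θp hθp
    have h0 : Conn.IsIterPow θ₀ p (iterDer p θ₀) := fun b => iterDer_apply p θ₀ b
    have hz := h _ h0
    obtain ⟨f, rfl⟩ : ∃ f : B, θ = f • θ₀ := by
      refine ⟨θ.liftKaehlerDifferential (bΩ 0), ?_⟩
      ext b
      rw [Derivation.smul_apply, smul_eq_mul]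
      have hb : KaehlerDifferential.D A B b = (bΩ.repr (KaehlerDifferential.D A B b) 0) • bΩ 0 := by
        conv_lhs => rw [← bΩ.sum_repr (KaehlerDifferential.D A B b)]
        simp
      rw [← Derivation.liftKaehlerDifferential_comp_D θ b,
        ← Derivation.liftKaehlerDifferential_comp_D θ₀ b, hb, map_smul, map_smul, hθ₀,
        smul_eq_mul, smul_eq_mul, mul_one, mul_comm]
    ext m
    rw [deligne p nabla hc θ₀ _ h0 f θp hθp m, hz]
    simp

end Groth.Agent.Lib.Helper8.PC
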