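import Mathlib

set_option backward.isDefEq.respectTransparency.types false
set_option autoImplicit false
set_option linter.unusedSectionVars false
set_option linter.style.haveILetI false

namespace Groth.Agent.Lib.Helper8.PCon1

open MvPolynomial Matrix

variable {k : Type*} [Field k]

/-- linear form with coefficient vector `a` -/
noncomputable def L (a : Fin 3 → k) : MvPolynomial (Fin 3) k := ∑ i, a i • X i

/-- the quadratic form with matrix `M` -/
noncomputable def F (M : Matrix (Fin 3) (Fin 3) k) : MvPolynomial (Fin 3) k :=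
  ∑ i, ∑ j, M i j • (X i * X j)

theorem L_mul_L (a b : Fin 3 → k) : L a * L b = F (Matrix.vecMulVec a b) := by
  simp only [L, F, Finset.sum_mul_sum, smul_mul_smul_comm, Matrix.vecMulVec_apply]

theorem F_add (M M' : Matrix (Fin 3) (Fin 3) k) : F (M + M') = F M + F M' := by
  simp [F, add_smul, Finset.sum_add_distrib]

theorem F_smul (c : k) (M : Matrix (Fin 3) (Fin 3) k) : F (c • M) = c • F M := by
  simp [F, Finset.smul_sum, smul_smul]

theorem F_zero : F (0 : Matrix (Fin 3) (Fin 3) k) = 0 := by
  simp [F]

theorem eval_pderiv_F (M : Matrix (Fin 3) (Fin 3) k) (u : Fin 3 → k) (i : Fin 3) :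
    eval u (pderiv i (F M)) = ((M + M.transpose) *ᵥ u) i := by
  simp only [F, Derivation.map_smul, Derivation.leibniz, pderiv_X, smul_eval, map_add,
    smul_eq_mul, map_mul, eval_X, Matrix.mulVec, dotProduct, Matrix.add_apply,
    Matrix.transpose_apply, Fin.sum_univ_three]
  fin_cases i <;> simp <;> ring

theorem F_inj (h2 : (2 : k) ≠ 0) {M M' : Matrix (Fin 3) (Fin 3) k} (hM : M.IsSymm)
    (hM' : M'.IsSymm) (h : F M = F M') : M = M' := by
  ext i j
  have h1 := eval_pderiv_F M (Pi.single j 1) i
  have h2' := eval_pderiv_F M' (Pi.single j 1) i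
  rw [h, h2'] at h1
  rw [Matrix.mulVec_single_one, Matrix.mulVec_single_one] at h1
  simp only [Matrix.col_apply, Matrix.add_apply, Matrix.transpose_apply] at h1
  have e1 : M j i = M i j := by rw [← Matrix.transpose_apply M, hM.eq]
  have e2 : M' j i = M' i j := by rw [← Matrix.transpose_apply M', hM'.eq]
  rw [e1, e2] at h1
  have : 2 * (M i j - M' i j) = 0 := by linear_combination -h1
  rcases mul_eq_zero.mp this with h | h
  · exact absurd h h2
  · exact sub_eq_zero.mp h

/-- symmetrised outer product -/
noncomputable def symm (a b : Fin 3 → k) : Matrix (Fin 3) (Fin 3) k :=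
  (1 / 2 : k) • (Matrix.vecMulVec a b + Matrix.vecMulVec b a)

theorem symm_isSymm (a b : Fin 3 → k) : (symm a b).IsSymm := by
  ext i j
  simp [symm, Matrix.vecMulVec_apply]
  ring

theorem F_symm (h2 : (2 : k) ≠ 0) (a b : Fin 3 → k) : F (symm a b) = L a * L b := by
  rw [symm, F_smul, F_add, ← L_mul_L, ← L_mul_L, mul_comm (L b) (L a), ← two_smul k (L a * L b),
    smul_smul]
  rw [one_div, inv_mul_cancel₀ h2, one_smul]

theorem symm_self (h2 : (2 : k) ≠ 0) (a : Fin 3 → k) : symm a a = Matrix.vecMulVec a a := by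
  rw [symm, ← two_smul k, smul_smul, one_div, inv_mul_cancel₀ h2, one_smul]

theorem det_symm (a b : Fin 3 → k) : (symm a b).det = 0 := by
  rw [Matrix.det_fin_three]
  simp only [symm, Matrix.smul_apply, Matrix.add_apply, Matrix.vecMulVec_apply, smul_eq_mul]
  ring

theorem eq_symm_of_eq_mul (h2 : (2 : k) ≠ 0) {Q : Matrix (Fin 3) (Fin 3) k} (hQ : Q.IsSymm)
    (a b : Fin 3 → k) (h : F Q = L a * L b) : Q = symm a b :=
  F_inj h2 hQ (symm_isSymm a b) (by rw [h, F_symm h2])

theorem eval_zero_L (a : Fin 3 → k) : eval 0 (L a) = 0 := by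
  simp [L]

theorem not_isUnit_L (a : Fin 3 → k) : ¬ IsUnit (L a) := by
  intro h
  have := h.map (eval (0 : Fin 3 → k))
  rw [eval_zero_L] at this
  exact not_isUnit_zero this

theorem L_isHomogeneous (a : Fin 3 → k) : L a ∈ homogeneousSubmodule (Fin 3) k 1 := by
  refine Submodule.sum_mem _ fun i _ => Submodule.smul_mem _ _ ?_
  exact isHomogeneous_X k i

theorem F_isHomogeneous (M : Matrix (Fin 3) (Fin 3) k) :
    F M ∈ homogeneousSubmodule (Fin 3) k 2 := by
  refine Submodule.sum_mem _ fun i _ => Submodule.sum_mem _ fun j _ => Submodule.smul_mem _ _ ?_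
  exact (isHomogeneous_X k i).mul (isHomogeneous_X k j)

theorem exists_affine (g : MvPolynomial (Fin 3) k) (hg : g.totalDegree ≤ 1) :
    ∃ (a : Fin 3 → k) (c : k), g = L a + C c := by
  have h1 : homogeneousComponent 1 g ∈ homogeneousSubmodule (Fin 3) k 1 :=
    homogeneousComponent_mem 1 g
  rw [homogeneousSubmodule_one_eq_span_X, Submodule.mem_span_range_iff_exists_fun] at h1
  obtain ⟨a, ha⟩ := h1
  refine ⟨a, coeff 0 g, ?_⟩
  have hs := sum_homogeneousComponent g
  have : ∑ i ∈ Finset.range (1 + 1), homogeneousComponent i g = g := by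
    rcases Nat.eq_or_lt_of_le hg with h | h
    · rw [h] at hs; exact hs
    · have h0 : g.totalDegree = 0 := by omega
      rw [h0] at hs
      rw [Finset.sum_range_succ, hs, homogeneousComponent_eq_zero _ _ (by omega), add_zero]
  rw [Finset.sum_range_succ, Finset.sum_range_one, homogeneousComponent_zero] at this
  rw [L, ha, add_comm]
  exact this.symm

/-- a factorisation of a quadratic form into two factors of degree one is a product of linear
forms. -/
theorem factor_linear (M : Matrix (Fin 3) (Fin 3) k) (g h : MvPolynomial (Fin 3) k)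
    (hg : g.totalDegree ≤ 1) (hh : h.totalDegree ≤ 1) (hgh : F M = g * h) :
    ∃ a b : Fin 3 → k, F M = L a * L b := by
  obtain ⟨a, c, rfl⟩ := exists_affine g hg
  obtain ⟨b, c', rfl⟩ := exists_affine h hh
  refine ⟨a, b, ?_⟩
  have e : (L a + C c) * (L b + C c') = L a * L b + (c' • L a + c • L b) + C (c * c') := by
    rw [smul_eq_C_mul, smul_eq_C_mul, C_mul]; ring
  have h2 := congrArg (homogeneousComponent 2) hgh
  rw [e, map_add, map_add, map_add, map_smul, map_smul,
    homogeneousComponent_of_mem (F_isHomogeneous M),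
    homogeneousComponent_of_mem (L_isHomogeneous a),
    homogeneousComponent_of_mem (L_isHomogeneous b),
    homogeneousComponent_of_mem (n := 0) (isHomogeneous_C _ _),
    homogeneousComponent_of_mem (n := 2) (by
      rw [L_mul_L]; exact F_isHomogeneous _)] at h2
  simpa using h2

end Groth.Agent.Lib.Helper8.PCon1
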