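import Mathlib
import Groth.Agent.Lib.Helper8.PCon1

set_option backward.isDefEq.respectTransparency.types false
set_option autoImplicit false
set_option linter.unusedSectionVars false
set_option linter.style.haveILetI false

namespace Groth.Agent.Lib.Helper8.PCon2

open Matrix Module Groth.Agent.Lib.Helper8.PCon1

variable {k : Type*} [Field k]

theorem eq_zero_of_rank_eq_zero (M : Matrix (Fin 3) (Fin 3) k) (h : M.rank = 0) : M = 0 := by
  rw [Matrix.rank, Submodule.finrank_eq_zero, LinearMap.range_eq_bot] at h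
  ext i j
  have := congrArg (fun f => f (Pi.single j 1) i) h
  simpa [Matrix.mulVecLin_apply, Matrix.mulVec_single_one] using this

theorem rank_outer (c : Fin 3 → k) (h : vecMulVec c c ≠ 0) : (vecMulVec c c).rank = 1 := by
  have h1 := rank_vecMulVec_le c c
  have h0 : (vecMulVec c c).rank ≠ 0 := fun h' => h (eq_zero_of_rank_eq_zero _ h')
  omega

theorem exists_dual (a b : Fin 3 → k) (h : LinearIndependent k ![a, b]) (s t : k) :
    ∃ u : Fin 3 → k, a ⬝ᵥ u = s ∧ b ⬝ᵥ u = t := by
  let M : Matrix (Fin 2) (Fin 3) k := Matrix.of ![a, b]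
  have hr : M.rank = 2 := by
    have : LinearIndependent k M.row := h
    simpa using this.rank_matrix
  have htop : LinearMap.range M.mulVecLin = ⊤ := by
    apply Submodule.eq_top_of_finrank_eq
    rw [← Matrix.rank, hr]; simp
  have hmem : (![s, t] : Fin 2 → k) ∈ LinearMap.range M.mulVecLin := by rw [htop]; trivial
  obtain ⟨u, hu⟩ := hmem
  refine ⟨u, ?_, ?_⟩
  · have := congrFun hu 0
    simpa [M, Matrix.mulVec] using this
  · have := congrFun hu 1
    simpa [M, Matrix.mulVec] using this

theorem symm_mulVec (a b u : Fin 3 → k) :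
    symm a b *ᵥ u = (1 / 2 : k) • ((b ⬝ᵥ u) • a + (a ⬝ᵥ u) • b) := by
  ext i
  simp only [PCon1.symm, Matrix.mulVec, dotProduct, vecMulVec_apply, Fin.sum_univ_three, Matrix.smul_apply,
    Matrix.add_apply, Pi.smul_apply, Pi.add_apply, smul_eq_mul]
  ring

theorem rank_symm (h2 : (2 : k) ≠ 0) (a b : Fin 3 → k) (h : LinearIndependent k ![a, b]) :
    (symm a b).rank = 2 := by
  have hrange : LinearMap.range (symm a b).mulVecLin = Submodule.span k (Set.range ![a, b]) := by
    apply le_antisymm
    · rintro _ ⟨u, rfl⟩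
      rw [Matrix.mulVecLin_apply, symm_mulVec]
      exact Submodule.smul_mem _ _ (Submodule.add_mem _
        (Submodule.smul_mem _ _ (Submodule.subset_span ⟨0, rfl⟩))
        (Submodule.smul_mem _ _ (Submodule.subset_span ⟨1, rfl⟩)))
    · rw [Submodule.span_le]
      rintro _ ⟨i, rfl⟩
      fin_cases i
      · obtain ⟨u, hu1, hu2⟩ := exists_dual a b h 0 2
        refine ⟨u, ?_⟩
        rw [Matrix.mulVecLin_apply, symm_mulVec, hu1, hu2, zero_smul, add_zero, smul_smul,
          one_div, inv_mul_cancel₀ h2, one_smul]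
        rfl
      · obtain ⟨u, hu1, hu2⟩ := exists_dual a b h 2 0
        refine ⟨u, ?_⟩
        rw [Matrix.mulVecLin_apply, symm_mulVec, hu1, hu2, zero_smul, zero_add, smul_smul,
          one_div, inv_mul_cancel₀ h2, one_smul]
        rfl
  rw [Matrix.rank, hrange, finrank_span_eq_card h]
  simp

theorem outer_mulVec (p u : Fin 3 → k) : vecMulVec p p *ᵥ u = (p ⬝ᵥ u) • p := by
  ext i
  simp only [Matrix.mulVec, dotProduct, vecMulVec_apply, Fin.sum_univ_three, Pi.smul_apply,
    smul_eq_mul]
  ring

theorem exists_diag (h2 : (2 : k) ≠ 0) (Q : Matrix (Fin 3) (Fin 3) k) (hQ : Q.IsSymm) :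
    ∃ (p : Fin 3 → Fin 3 → k) (d : Fin 3 → k), LinearIndependent k p ∧
      (∀ u : Fin 3 → k, (∀ i, p i ⬝ᵥ u = 0) → u = 0) ∧
      Q = ∑ i, d i • vecMulVec (p i) (p i) := by
  haveI : Invertible (2 : k) := invertibleOfNonzero h2
  have hB : (Matrix.toBilin' Q).IsSymm := Matrix.isSymm_toBilin'_iff_isSymm.mpr hQ
  obtain ⟨v0, hv0⟩ := LinearMap.BilinForm.exists_orthogonal_basis
    (LinearMap.BilinForm.isSymm_iff.mp hB)
  have hfr : Module.finrank k (Fin 3 → k) = 3 := by simp
  let v : Basis (Fin 3) k (Fin 3 → k) := v0.reindex (finCongr hfr)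
  have hv : ∀ i j, i ≠ j → Matrix.toBilin' Q (v i) (v j) = 0 := by
    intro i j hij
    simp only [v, Basis.reindex_apply]
    exact (LinearMap.isOrthoᵢ_def.mp hv0) _ _ (by simpa using hij)
  let p : Fin 3 → Fin 3 → k := fun i j => v.coord i (fun l => if j = l then 1 else 0)
  let d : Fin 3 → k := fun i => Matrix.toBilin' Q (v i) (v i)
  have hcoord : ∀ i (x : Fin 3 → k), v.coord i x = p i ⬝ᵥ x := by
    intro i x
    rw [LinearMap.pi_apply_eq_sum_univ (v.coord i) x]
    simp only [p, dotProduct, smul_eq_mul]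
    exact Finset.sum_congr rfl fun j _ => mul_comm _ _
  have hBxy : ∀ x y : Fin 3 → k, Matrix.toBilin' Q x y =
      ∑ i, d i * (v.coord i x) * (v.coord i y) := by
    intro x y
    conv_lhs => rw [← v.sum_repr x, ← v.sum_repr y]
    simp only [map_sum, LinearMap.sum_apply, map_smul, LinearMap.smul_apply, smul_eq_mul]
    refine Finset.sum_congr rfl fun i _ => ?_
    rw [Finset.sum_eq_single i]
    · simp only [d, Basis.coord_apply]; ring
    · intro j _ hji
      rw [hv j i hji]; ring
    · intro h; exact absurd (Finset.mem_univ i) h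
  refine ⟨p, d, ?_, ?_, ?_⟩
  · rw [Fintype.linearIndependent_iff]
    intro g hg m
    have := congrArg (fun w => w ⬝ᵥ v m) hg
    simp only [sum_dotProduct, smul_dotProduct, ← hcoord, zero_dotProduct, smul_eq_mul,
      Basis.coord_apply, Basis.repr_self, Finsupp.single_apply] at this
    simpa using this
  · intro u hu
    apply v.ext_elem
    intro i
    have := hu i
    rw [← hcoord, Basis.coord_apply] at this
    rw [this]; simp
  · ext j l
    have h1 : Q j l = Matrix.toBilin' Q (Pi.single j 1) (Pi.single l 1) := by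
      rw [Matrix.toBilin'_apply']
      simp
    rw [h1, hBxy, Matrix.sum_apply]
    refine Finset.sum_congr rfl fun i _ => ?_
    rw [hcoord, hcoord]
    simp [vecMulVec_apply]
    ring

end Groth.Agent.Lib.Helper8.PCon2
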