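import Mathlib
import Groth.Agent.Lib.Helper8.PCon2

set_option backward.isDefEq.respectTransparency.types false
set_option autoImplicit false
set_option linter.unusedSectionVars false
set_option linter.style.haveILetI false

namespace Groth.Agent.Lib.Helper8.PCon3

open Matrix Module Groth.Agent.Lib.Helper8.PCon1 Groth.Agent.Lib.Helper8.PCon2

universe u

variable {k : Type*} [Field k]

theorem classify_two [IsAlgClosed k] (h2 : (2 : k) ≠ 0) (p p' : Fin 3 → k)
    (hpp : LinearIndependent k ![p, p']) (e e' : k) (Q : Matrix (Fin 3) (Fin 3) k) (hQ0 : Q ≠ 0)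
    (hQ : Q = vecMulVec (e • p) (e • p) + vecMulVec (e' • p') (e' • p')) :
    (∃ c : Fin 3 → k, Q = vecMulVec c c) ∨
      (∃ a b : Fin 3 → k, LinearIndependent k ![a, b] ∧ Q = PCon1.symm a b) := by
  by_cases he : e = 0
  · left
    refine ⟨e' • p', ?_⟩
    rw [hQ, he, zero_smul]
    simp
  by_cases he' : e' = 0
  · left
    refine ⟨e • p, ?_⟩
    rw [hQ, he', zero_smul]
    simp
  right
  obtain ⟨I, hI⟩ := IsAlgClosed.exists_eq_mul_self (-1 : k)
  have hI0 : I ≠ 0 := by
    rintro rfl
    simp at hI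
  refine ⟨e • p + I • (e' • p'), e • p - I • (e' • p'), ?_, ?_⟩
  · rw [LinearIndependent.pair_iff]
    intro s t hst
    have h1 : ((s + t) * e) • p + ((s - t) * I * e') • p' = 0 := by
      rw [← hst]; module
    obtain ⟨h3, h4⟩ := LinearIndependent.pair_iff.mp hpp _ _ h1
    have h5 : s + t = 0 := by
      rcases mul_eq_zero.mp h3 with h | h
      · exact h
      · exact absurd h he
    have h6 : s - t = 0 := by
      rcases mul_eq_zero.mp h4 with h | h
      · rcases mul_eq_zero.mp h with h | h
        · exact h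
        · exact absurd h hI0
      · exact absurd h he'
    have h7 : 2 * s = 0 := by linear_combination h5 + h6
    have h8 : 2 * t = 0 := by linear_combination h5 - h6
    exact ⟨(mul_eq_zero.mp h7).resolve_left h2, (mul_eq_zero.mp h8).resolve_left h2⟩
  · rw [hQ]
    ext i j
    simp only [PCon1.symm, Matrix.add_apply, Matrix.smul_apply, vecMulVec_apply, Pi.add_apply,
      Pi.sub_apply, Pi.smul_apply, smul_eq_mul]
    have h2' : (1 / 2 : k) * 2 = 1 := by rw [one_div, inv_mul_cancel₀ h2]
    linear_combination (-(e * p i * (e * p j)) - (e' * p' i * (e' * p' j))) * h2' +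
      (1 / 2 : k) * 2 * (e' * p' i * (e' * p' j)) * (-hI)

theorem classify [IsAlgClosed k] (h2 : (2 : k) ≠ 0) (Q : Matrix (Fin 3) (Fin 3) k)
    (hQ : Q.IsSymm) (hQ0 : Q ≠ 0) :
    Q.det ≠ 0 ∨ (∃ c : Fin 3 → k, Q = vecMulVec c c) ∨
      (∃ a b : Fin 3 → k, LinearIndependent k ![a, b] ∧ Q = PCon1.symm a b) := by
  by_cases hdet : Q.det = 0
  swap
  · left; exact hdet
  right
  obtain ⟨p, d, hp, hpu, hQd⟩ := exists_diag h2 Q hQ
  have hex : ∀ i, ∃ z, d i = z * z := fun i => IsAlgClosed.exists_eq_mul_self (d i)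
  choose e he using hex
  have hQe : Q = ∑ i, vecMulVec (e i • p i) (e i • p i) := by
    rw [hQd]
    refine Finset.sum_congr rfl fun i _ => ?_
    rw [he i]
    ext j l
    simp [vecMulVec_apply]
    ring
  obtain ⟨u, hu0, hQu⟩ := Matrix.exists_mulVec_eq_zero_iff.mpr hdet
  have hsum : ∑ i, (d i * (p i ⬝ᵥ u)) • p i = 0 := by
    rw [← hQu, hQd, Matrix.sum_mulVec]
    refine Finset.sum_congr rfl fun i _ => ?_
    rw [Matrix.smul_mulVec, outer_mulVec, smul_smul]
  have hzero := Fintype.linearIndependent_iff.mp hp _ hsum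
  have hm : ∃ m, d m = 0 := by
    by_contra hcon
    push Not at hcon
    apply hu0
    apply hpu
    intro i
    rcases mul_eq_zero.mp (hzero i) with h | h
    · exact absurd h (hcon i)
    · exact h
  obtain ⟨m, hm⟩ := hm
  have hem : e m = 0 := by
    have := he m
    rw [hm] at this
    exact mul_self_eq_zero.mp this.symm
  have hpair : ∀ x y : Fin 3, x ≠ y → LinearIndependent k ![p x, p y] := by
    intro x y hxy
    have := hp.comp ![x, y] (by
      intro a b hab
      fin_cases a <;> fin_cases b <;> simp_all)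
    convert this using 1
    ext a
    fin_cases a <;> rfl
  rw [Fin.sum_univ_three] at hQe
  fin_cases m
  · simp only [Fin.zero_eta] at hem
    rw [hem, zero_smul] at hQe
    simp only [vecMulVec_zero, zero_add] at hQe
    exact classify_two h2 (p 1) (p 2) (hpair 1 2 (by decide)) (e 1) (e 2) Q hQ0 hQe
  · simp only [Fin.mk_one] at hem
    rw [hem, zero_smul] at hQe
    simp only [vecMulVec_zero, add_zero] at hQe
    exact classify_two h2 (p 0) (p 2) (hpair 0 2 (by decide)) (e 0) (e 2) Q hQ0 hQe
  · have hem' : e 2 = 0 := hem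
    rw [hem', zero_smul] at hQe
    simp only [vecMulVec_zero, add_zero] at hQe
    exact classify_two h2 (p 0) (p 1) (hpair 0 1 (by decide)) (e 0) (e 1) Q hQ0 hQe

end Groth.Agent.Lib.Helper8.PCon3
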