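import Mathlib
import Groth.Agent.Lib.Helper8.PCon3

set_option backward.isDefEq.respectTransparency.types false
set_option autoImplicit false
set_option linter.unusedSectionVars false
set_option linter.style.haveILetI false

namespace Groth.Agent.Lib.Helper8.PCon4

open Matrix Module Groth.Agent.Lib.Helper8.PCon1 Groth.Agent.Lib.Helper8.PCon2
  Groth.Agent.Lib.Helper8.PCon3

universe u

theorem main911 (k : Type u) [Field k] [IsAlgClosed k] [CharZero k]
    (Q : Matrix (Fin 3) (Fin 3) k) (hQ : Q.IsSymm) (hQ0 : Q ≠ 0) (f : MvPolynomial (Fin 3) k)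
    (hf : f = ∑ i : Fin 3, ∑ j : Fin 3, Q i j • (MvPolynomial.X i * MvPolynomial.X j)) :
    (Irreducible f ↔ Q.det ≠ 0) ∧
    ((∃ u : Fin 3 → k, u ≠ 0 ∧ ∀ i : Fin 3, MvPolynomial.eval u (MvPolynomial.pderiv i f) = 0) ↔ Q.det = 0) ∧
    ((∃ a b : Fin 3 → k, LinearIndependent k ![a, b] ∧
        f = (∑ i : Fin 3, a i • MvPolynomial.X i) * (∑ i : Fin 3, b i • MvPolynomial.X i)) ↔ Q.rank = 2) ∧
    ((∃ a : Fin 3 → k, f = (∑ i : Fin 3, a i • MvPolynomial.X i) ^ 2) ↔ Q.rank = 1) := by
  have h2 : (2 : k) ≠ 0 := two_ne_zero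
  have hfF : f = F Q := hf
  have hf0 : F Q ≠ 0 := by
    intro h
    apply hQ0
    exact F_inj h2 hQ Matrix.isSymm_zero (by rw [h, F_zero])
  have key : ∀ a b : Fin 3 → k, F Q = L a * L b ↔ Q = PCon1.symm a b := by
    intro a b
    constructor
    · exact eq_symm_of_eq_mul h2 hQ a b
    · intro h; rw [h, F_symm h2]
  have rank3 : Q.det ≠ 0 → Q.rank = 3 := by
    intro h
    have := Matrix.rank_of_isUnit Q ((Matrix.isUnit_iff_isUnit_det Q).mpr (isUnit_iff_ne_zero.mpr h))
    simpa using this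
  have houter : ∀ c : Fin 3 → k, Q = vecMulVec c c → Q.rank = 1 := by
    intro c hc
    rw [hc]
    exact rank_outer c (by rw [← hc]; exact hQ0)
  have hcls := classify h2 Q hQ hQ0
  subst hfF
  refine ⟨⟨?_, ?_⟩, ⟨?_, ?_⟩, ⟨?_, ?_⟩, ⟨?_, ?_⟩⟩
  · intro hirr hdet
    rcases hcls with h | ⟨c, hc⟩ | ⟨a, b, -, hab⟩
    · exact h hdet
    · have : F Q = L c * L c := by rw [hc, ← L_mul_L]
      rcases hirr.isUnit_or_isUnit this with h | h <;> exact not_isUnit_L c h
    · have : F Q = L a * L b := (key a b).mpr hab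
      rcases hirr.isUnit_or_isUnit this with h | h
      · exact not_isUnit_L a h
      · exact not_isUnit_L b h
  · intro hdet
    rw [irreducible_iff]
    constructor
    · intro h
      have := h.map (MvPolynomial.eval (0 : Fin 3 → k))
      have h0 : MvPolynomial.eval (0 : Fin 3 → k) (F Q) = 0 := by simp [F]
      rw [h0] at this
      exact not_isUnit_zero this
    · intro g h hgh
      have hg0 : g ≠ 0 := by rintro rfl; exact hf0 (by rw [hgh, zero_mul])
      have hh0 : h ≠ 0 := by rintro rfl; exact hf0 (by rw [hgh, mul_zero])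
      have hdeg := MvPolynomial.totalDegree_mul_of_isDomain hg0 hh0
      rw [← hgh, MvPolynomial.IsHomogeneous.totalDegree
        ((MvPolynomial.mem_homogeneousSubmodule _ _).mp (F_isHomogeneous Q)) hf0] at hdeg
      have hunit : ∀ g : MvPolynomial (Fin 3) k, g ≠ 0 → g.totalDegree = 0 → IsUnit g := by
        intro g hg0 hd
        rw [MvPolynomial.totalDegree_eq_zero_iff_eq_C] at hd
        rw [hd]
        apply IsUnit.map
        rw [isUnit_iff_ne_zero]
        intro h0
        apply hg0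
        rw [hd, h0, map_zero]
      by_cases hgd : g.totalDegree = 0
      · left; exact hunit g hg0 hgd
      by_cases hhd : h.totalDegree = 0
      · right; exact hunit h hh0 hhd
      exfalso
      obtain ⟨a, b, hab⟩ := factor_linear Q g h (by omega) (by omega) hgh
      apply hdet
      rw [(key a b).mp hab, det_symm]
  · rintro ⟨u, hu0, hu⟩
    rw [← Matrix.exists_mulVec_eq_zero_iff]
    refine ⟨u, hu0, ?_⟩
    funext i
    have := hu i
    rw [eval_pderiv_F, hQ.eq, ← two_smul k Q, Matrix.smul_mulVec, Pi.smul_apply, smul_eq_mul] at this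
    exact (mul_eq_zero.mp this).resolve_left h2
  · intro hdet
    obtain ⟨u, hu0, hu⟩ := Matrix.exists_mulVec_eq_zero_iff.mpr hdet
    refine ⟨u, hu0, fun i => ?_⟩
    rw [eval_pderiv_F, hQ.eq, ← two_smul k Q, Matrix.smul_mulVec, hu]
    simp
  · rintro ⟨a, b, hab, hfab⟩
    rw [(key a b).mp hfab]
    exact rank_symm h2 a b hab
  · intro hr
    rcases hcls with h | ⟨c, hc⟩ | ⟨a, b, hab, hQab⟩
    · rw [rank3 h] at hr; omega
    · rw [houter c hc] at hr; omega
    · exact ⟨a, b, hab, (key a b).mpr hQab⟩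
  · rintro ⟨a, hfa⟩
    have h1 : F Q = L a * L a := by rw [hfa, pow_two]; rfl
    have h3 := (key a a).mp h1
    rw [symm_self h2] at h3
    exact houter a h3
  · intro hr
    rcases hcls with h | ⟨c, hc⟩ | ⟨a, b, hab, hQab⟩
    · rw [rank3 h] at hr; omega
    · refine ⟨c, ?_⟩
      have : F Q = L c * L c := by rw [hc, ← L_mul_L]
      rw [this, pow_two]; rfl
    · rw [hQab, rank_symm h2 a b hab] at hr; omega

end Groth.Agent.Lib.Helper8.PCon4
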