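import Mathlib
import Groth.Prelude.Def_W4c1stackycurvesGalP1

set_option backward.isDefEq.respectTransparency.types false
set_option autoImplicit false
set_option linter.unusedSectionVars false
set_option linter.style.haveILetI false

namespace Groth.Agent.Lib.Helper8.PL

open Matrix W4c1stackycurves

variable {K : Type*} [Field K]

/-- The 2x2 bracket. -/
def br (v w : Fin 2 → K) : K := v 0 * w 1 - v 1 * w 0

lemma mk_eq_mk_iff_br {v w : Fin 2 → K} (hv : v ≠ 0) (hw : w ≠ 0) :
    Projectivization.mk K v hv = Projectivization.mk K w hw ↔ br v w = 0 := by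
  rw [Projectivization.mk_eq_mk_iff']
  constructor
  · rintro ⟨a, ha⟩
    rw [← ha]
    simp only [br, Pi.smul_apply, smul_eq_mul]
    ring
  · intro h
    simp only [br] at h
    by_cases h0 : w 0 = 0
    · have h1 : w 1 ≠ 0 := by
        intro h1
        apply hw
        ext i
        fin_cases i
        · exact h0
        · exact h1
      refine ⟨v 1 / w 1, ?_⟩
      ext i
      fin_cases i
      · simp only [Fin.zero_eta, Pi.smul_apply, smul_eq_mul, h0, mul_zero]
        rw [h0, mul_zero, sub_eq_zero] at h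
        rcases mul_eq_zero.mp h with h | h
        · exact h.symm
        · exact absurd h h1
      · simp only [Fin.mk_one, Pi.smul_apply, smul_eq_mul]
        exact div_mul_cancel₀ _ h1
    · refine ⟨v 0 / w 0, ?_⟩
      ext i
      fin_cases i
      · simp only [Fin.zero_eta, Pi.smul_apply, smul_eq_mul]
        exact div_mul_cancel₀ _ h0
      · simp only [Fin.mk_one, Pi.smul_apply, smul_eq_mul]
        field_simp
        linear_combination h

lemma mulVec_ne_zero (g : GL (Fin 2) K) {v : Fin 2 → K} (hv : v ≠ 0) : g.1 *ᵥ v ≠ 0 := by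
  intro h
  apply hv
  have := congrArg (fun w => (g⁻¹).1 *ᵥ w) h
  simp only [Matrix.mulVec_mulVec, ← Units.val_mul, inv_mul_cancel, Units.val_one,
    Matrix.one_mulVec, Matrix.mulVec_zero] at this
  exact this

lemma smul_mk_GL (g : GL (Fin 2) K) (v : Fin 2 → K) (hv : v ≠ 0) :
    (Matrix.GeneralLinearGroup.toLin g) • Projectivization.mk K v hv =
      Projectivization.mk K (g.1 *ᵥ v) (mulVec_ne_zero g hv) := by
  rw [Projectivization.smul_mk]
  rfl

lemma smul_mk_eq_iff (g : GL (Fin 2) K) {v w : Fin 2 → K} (hv : v ≠ 0) (hw : w ≠ 0) :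
    (Matrix.GeneralLinearGroup.toLin g) • Projectivization.mk K v hv =
      Projectivization.mk K w hw ↔ br (g.1 *ᵥ v) w = 0 := by
  rw [smul_mk_GL, mk_eq_mk_iff_br]

lemma mulVec_zero' (M : Matrix (Fin 2) (Fin 2) K) (v : Fin 2 → K) :
    (M *ᵥ v) 0 = M 0 0 * v 0 + M 0 1 * v 1 := by
  simp [Matrix.mulVec, dotProduct, Fin.sum_univ_two]

lemma mulVec_one' (M : Matrix (Fin 2) (Fin 2) K) (v : Fin 2 → K) :
    (M *ᵥ v) 1 = M 1 0 * v 0 + M 1 1 * v 1 := by
  simp [Matrix.mulVec, dotProduct, Fin.sum_univ_two]

/-- The standard frame vectors. -/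
def sv : Fin 3 → (Fin 2 → K) := ![![1, 0], ![0, 1], ![1, 1]]

lemma sv_ne (i : Fin 3) : (sv i : Fin 2 → K) ≠ 0 := by
  fin_cases i
  · intro h; have := congrFun h 0; simp [sv] at this
  · intro h; have := congrFun h 1; simp [sv] at this
  · intro h; have := congrFun h 0; simp [sv] at this

/-- The standard frame. -/
noncomputable def std (i : Fin 3) : Projectivization K (Fin 2 → K) :=
  Projectivization.mk K (sv i) (sv_ne i)

lemma std_injective : Function.Injective (std : Fin 3 → Projectivization K (Fin 2 → K)) := by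
  intro i j h
  rw [std, std, mk_eq_mk_iff_br] at h
  fin_cases i <;> fin_cases j <;> first | rfl | (exfalso; simp [br, sv] at h)

end Groth.Agent.Lib.Helper8.PL
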