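import Mathlib
import Groth.Agent.Lib.Helper8.PL1

set_option backward.isDefEq.respectTransparency.types false
set_option autoImplicit false
set_option linter.unusedSectionVars false
set_option linter.style.haveILetI false

namespace Groth.Agent.Lib.Helper8.PL

open Matrix W4c1stackycurves

variable {K : Type*} [Field K]

/-- Any three distinct points form the image of the standard frame. -/
lemma exists_frame (p : Fin 3 → Projectivization K (Fin 2 → K)) (hp : Function.Injective p) :
    ∃ A : GL (Fin 2) K, ∀ i, (Matrix.GeneralLinearGroup.toLin A) • (std i) = p i := by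
  set v : Fin 3 → (Fin 2 → K) := fun i => (p i).rep with hv
  have hvne : ∀ i, v i ≠ 0 := fun i => (p i).rep_nonzero
  have hpv : ∀ i, p i = Projectivization.mk K (v i) (hvne i) := fun i => (p i).mk_rep.symm
  have hd : ∀ i j, i ≠ j → br (v i) (v j) ≠ 0 := by
    intro i j hij h
    apply hij
    apply hp
    rw [hpv i, hpv j, mk_eq_mk_iff_br]
    exact h
  set d21 := br (v 2) (v 1) with hd21
  set d02 := br (v 0) (v 2) with hd02
  set d01 := br (v 0) (v 1) with hd01
  have h21 : d21 ≠ 0 := hd 2 1 (by decide)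
  have h02 : d02 ≠ 0 := hd 0 2 (by decide)
  have h01 : d01 ≠ 0 := hd 0 1 (by decide)
  let M : Matrix (Fin 2) (Fin 2) K := !![d21 * v 0 0, d02 * v 1 0; d21 * v 0 1, d02 * v 1 1]
  have hdet : M.det = d21 * d02 * d01 := by
    simp only [M, Matrix.det_fin_two_of, hd01, br]
    ring
  have hdet0 : M.det ≠ 0 := by
    rw [hdet]
    exact mul_ne_zero (mul_ne_zero h21 h02) h01
  refine ⟨Matrix.GeneralLinearGroup.mkOfDetNeZero M hdet0, ?_⟩
  intro i
  rw [hpv i, std, smul_mk_eq_iff]
  simp only [Matrix.GeneralLinearGroup.val_mkOfDetNeZero]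
  simp only [br, mulVec_zero', mulVec_one']
  fin_cases i
  · simp only [M, sv, Fin.zero_eta, Matrix.of_apply, Matrix.cons_val', Matrix.cons_val_zero,
      Matrix.cons_val_one, Matrix.cons_val_fin_one]
    ring
  · simp only [M, sv, Fin.mk_one, Matrix.of_apply, Matrix.cons_val', Matrix.cons_val_zero,
      Matrix.cons_val_one, Matrix.cons_val_fin_one]
    ring
  · simp only [M, sv, Fin.reduceFinMk, Matrix.of_apply, Matrix.cons_val', Matrix.cons_val_zero,
      Matrix.cons_val_one, Matrix.cons_val_fin_one, Matrix.cons_val_two, Matrix.tail_cons,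
      Matrix.head_cons, hd21, hd02, br]
    ring

/-- An element fixing the standard frame is scalar. -/
lemma scalar_of_fix_std (h : GL (Fin 2) K)
    (hfix : ∀ i, (Matrix.GeneralLinearGroup.toLin h) • (std i) =
      (std i : Projectivization K (Fin 2 → K))) :
    h.1 = (h.1 0 0) • (1 : Matrix (Fin 2) (Fin 2) K) := by
  have h0 := hfix 0
  have h1 := hfix 1
  have h2 := hfix 2
  rw [std, smul_mk_eq_iff] at h0 h1 h2
  simp only [br, mulVec_zero', mulVec_one', sv, Matrix.cons_val_zero, Matrix.cons_val_one,
    Matrix.cons_val_two, Matrix.tail_cons, Matrix.head_cons] at h0 h1 h2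
  have e10 : h.1 1 0 = 0 := by linear_combination -h0
  have e01 : h.1 0 1 = 0 := by linear_combination h1
  have e11 : h.1 1 1 = h.1 0 0 := by linear_combination -h2 + e01 - e10
  ext i j
  fin_cases i <;> fin_cases j <;> simp [e10, e01, e11]

/-- Uniqueness up to scalar of the projectivity with prescribed values on three points. -/
lemma exists_smul_of_agree (p q : Fin 3 → Projectivization K (Fin 2 → K))
    (hp : Function.Injective p) (g g' : GL (Fin 2) K)
    (hg : ∀ i, (Matrix.GeneralLinearGroup.toLin g) • (p i) = q i)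
    (hg' : ∀ i, (Matrix.GeneralLinearGroup.toLin g') • (p i) = q i) :
    ∃ c : K, g'.1 = c • g.1 := by
  obtain ⟨A, hA⟩ := exists_frame p hp
  set h : GL (Fin 2) K := A⁻¹ * g⁻¹ * g' * A with hh
  have hfix : ∀ i, (Matrix.GeneralLinearGroup.toLin h) • (std i) =
      (std i : Projectivization K (Fin 2 → K)) := by
    intro i
    rw [hh]
    simp only [map_mul, mul_smul, map_inv]
    rw [hA i, hg' i, ← hg i, inv_smul_smul, ← hA i, inv_smul_smul]
  have hs := scalar_of_fix_std h hfix
  refine ⟨h.1 0 0, ?_⟩
  have e : g' = g * A * h * A⁻¹ := by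
    rw [hh]; group
  have e' : g'.1 = g.1 * A.1 * h.1 * (A⁻¹).1 := by
    rw [e]; simp only [Units.val_mul]
  generalize h.1 0 0 = c at hs ⊢
  rw [e', hs, Matrix.mul_smul, Matrix.smul_mul, Matrix.mul_one, Matrix.mul_assoc,
    ← Units.val_mul, mul_inv_cancel, Units.val_one, Matrix.mul_one]

end Groth.Agent.Lib.Helper8.PL
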