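import Mathlib
import Groth.Agent.Lib.Helper8.PL2

set_option backward.isDefEq.respectTransparency.types false
set_option autoImplicit false
set_option linter.unusedSectionVars false
set_option linter.style.haveILetI false

namespace Groth.Agent.Lib.Helper8.PL

open Matrix W4c1stackycurves

universe u
variable {k K : Type u} [Field k] [Field K] [Algebra k K]

lemma galVec_ne_zero (σ : K ≃ₐ[k] K) {v : Fin 2 → K} (hv : v ≠ 0) : galVec σ (Fin 2) v ≠ 0 := by
  intro h
  apply hv
  apply galVec_injective σ (Fin 2)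
  rw [h, map_zero]

lemma galP_mk (σ : K ≃ₐ[k] K) (v : Fin 2 → K) (hv : v ≠ 0) :
    galP σ (Projectivization.mk K v hv) =
      Projectivization.mk K (galVec σ (Fin 2) v) (galVec_ne_zero σ hv) := by
  rfl

lemma galP_injective (σ : K ≃ₐ[k] K) :
    Function.Injective (galP σ : Projectivization K (Fin 2 → K) → _) := by
  unfold galP
  haveI : RingHomInvPair (σ : K →+* K) (σ.symm : K →+* K) := ⟨by ext; simp, by ext; simp⟩
  exact Projectivization.map_injective (τ := (σ.symm : K →+* K)) _ _

lemma galP_smul (σ : K ≃ₐ[k] K) (g : GL (Fin 2) K) (x : Projectivization K (Fin 2 → K)) :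
    galP σ ((Matrix.GeneralLinearGroup.toLin g) • x) =
      (Matrix.GeneralLinearGroup.toLin
        (Matrix.GeneralLinearGroup.map (σ : K →+* K) g)) • galP σ x := by
  induction x using Projectivization.ind with
  | h v hv =>
    rw [smul_mk_GL, galP_mk, galP_mk, smul_mk_GL]
    congr 1
    ext i
    rw [galVec_apply]
    have := RingHom.map_mulVec (σ : K →+* K) g.1 v i
    rw [RingHom.coe_coe] at this
    rw [this]
    rfl

lemma galP_std (σ : K ≃ₐ[k] K) (i : Fin 3) :
    galP σ (std i : Projectivization K (Fin 2 → K)) = std i := by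
  rw [std, galP_mk]
  congr 1
  ext j
  rw [galVec_apply]
  fin_cases i <;> fin_cases j <;> simp [sv]

end Groth.Agent.Lib.Helper8.PL

namespace Groth.Agent.Lib.Helper8.PL

open Matrix W4c1stackycurves

universe u
variable {k K : Type u} [Field k] [Field K] [Algebra k K]

lemma smul_eq_of_val_eq_smul (g g' : GL (Fin 2) K) (c : K) (h : g'.1 = c • g.1)
    (x : Projectivization K (Fin 2 → K)) :
    (Matrix.GeneralLinearGroup.toLin g') • x = (Matrix.GeneralLinearGroup.toLin g) • x := by
  induction x using Projectivization.ind with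
  | h v hv =>
    rw [smul_mk_GL, smul_mk_GL, Projectivization.mk_eq_mk_iff']
    exact ⟨c, by rw [h, Matrix.smul_mulVec]⟩

lemma exists_entry_ne_zero (g : GL (Fin 2) K) : ∃ a b, g.1 a b ≠ 0 := by
  by_contra hcon
  simp only [not_exists, not_not] at hcon
  have h0 : g.1 = 0 := by
    ext a b
    exact hcon a b
  have h1 : (1 : Matrix (Fin 2) (Fin 2) K) = 0 := by
    rw [← Units.val_one (α := Matrix (Fin 2) (Fin 2) K), ← mul_inv_cancel g, Units.val_mul, h0,
      Matrix.zero_mul]
  have := congrFun (congrFun h1 0) 0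
  simp at this

variable [FiniteDimensional k K] [IsGalois k K]

lemma core (p q : Fin 3 → Projectivization K (Fin 2 → K)) (hp : Function.Injective p)
    (hq : Function.Injective q)
    (hσ : ∀ σ : K ≃ₐ[k] K, ∀ i, ∃ j, galP σ (p i) = p j ∧ galP σ (q i) = q j) :
    ∃ g : GL (Fin 2) k, ∀ i,
      (Matrix.GeneralLinearGroup.toLin
        (Matrix.GeneralLinearGroup.map (algebraMap k K) g)) • p i = q i := by
  obtain ⟨Ap, hAp⟩ := exists_frame p hp
  obtain ⟨Aq, hAq⟩ := exists_frame q hq
  set g₀ : GL (Fin 2) K := Aq * Ap⁻¹ with hg₀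
  have hg₀p : ∀ i, (Matrix.GeneralLinearGroup.toLin g₀) • p i = q i := by
    intro i
    rw [hg₀]
    simp only [map_mul, mul_smul, map_inv]
    rw [← hAp i, inv_smul_smul, hAq i]
  -- Galois semi-invariance
  have hsemi : ∀ σ : K ≃ₐ[k] K, ∃ c : K, ∀ a b, σ (g₀.1 a b) = c * g₀.1 a b := by
    intro σ
    choose π hπ using hσ σ
    have hπinj : Function.Injective π := by
      intro i j hij
      apply hp
      apply galP_injective σ
      rw [(hπ i).1, (hπ j).1, hij]
    have hπsurj : Function.Surjective π := Finite.injective_iff_surjective.mp hπinj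
    have h1 : ∀ j, (Matrix.GeneralLinearGroup.toLin
        (Matrix.GeneralLinearGroup.map (σ : K →+* K) g₀)) • p j = q j := by
      intro j
      obtain ⟨i, rfl⟩ := hπsurj j
      rw [← (hπ i).1, ← galP_smul, hg₀p i, (hπ i).2]
    obtain ⟨c, hc⟩ := exists_smul_of_agree p q hp g₀ _ hg₀p h1
    refine ⟨c, fun a b => ?_⟩
    have := congrFun (congrFun hc a) b
    simpa using this
  obtain ⟨a, b, hab⟩ := exists_entry_ne_zero g₀
  set M' : Matrix (Fin 2) (Fin 2) K := (g₀.1 a b)⁻¹ • g₀.1 with hM'
  have hfixed : ∀ i j, ∀ σ : K ≃ₐ[k] K, σ (M' i j) = M' i j := by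
    intro i j σ
    obtain ⟨c, hc⟩ := hsemi σ
    have hc0 : c ≠ 0 := by
      intro h0
      have := hc a b
      rw [h0, zero_mul] at this
      exact hab ((map_eq_zero_iff σ σ.injective).mp this)
    simp only [hM', Matrix.smul_apply, smul_eq_mul, map_mul, map_inv₀, hc]
    field_simp
  have hrange : ∀ i j, ∃ y : k, algebraMap k K y = M' i j := by
    intro i j
    exact (IsGalois.mem_range_algebraMap_iff_fixed (M' i j)).mpr (hfixed i j)
  choose M hM using hrange
  have hMmap : (Matrix.of M).map (algebraMap k K) = M' := by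
    ext i j
    simp [hM]
  have hdetM' : M'.det ≠ 0 := by
    rw [hM', Matrix.det_smul]
    apply mul_ne_zero (pow_ne_zero _ (inv_ne_zero hab))
    exact (Matrix.GeneralLinearGroup.det g₀).ne_zero
  have hdetM : (Matrix.of M).det ≠ 0 := by
    intro h0
    apply hdetM'
    rw [← hMmap, ← RingHom.mapMatrix_apply, ← RingHom.map_det, h0, map_zero]
  refine ⟨Matrix.GeneralLinearGroup.mkOfDetNeZero (Matrix.of M) hdetM, fun i => ?_⟩
  rw [← hg₀p i]
  apply smul_eq_of_val_eq_smul _ _ (g₀.1 a b)⁻¹
  rw [← hM', ← hMmap]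
  rfl

end Groth.Agent.Lib.Helper8.PL
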