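import Mathlib
import Groth.Agent.Lib.Helper8.PL3

set_option backward.isDefEq.respectTransparency.types false
set_option autoImplicit false
set_option linter.unusedSectionVars false
set_option linter.style.haveILetI false

namespace Groth.Agent.Lib.Helper8.PL

open Matrix W4c1stackycurves

universe u
variable {k K : Type u} [Field k] [Field K] [Algebra k K]

lemma exists_std_notMem (A : Set (Projectivization K (Fin 2 → K))) (hA : A.Finite)
    (h2 : A.ncard ≤ 2) : ∃ i : Fin 3, (std i : Projectivization K (Fin 2 → K)) ∉ A := by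
  by_contra hcon
  simp only [not_exists, not_not] at hcon
  have hsub : Set.range (std : Fin 3 → Projectivization K (Fin 2 → K)) ⊆ A := by
    rintro _ ⟨i, rfl⟩
    exact hcon i
  have h3 := Set.ncard_le_ncard hsub hA
  rw [Set.ncard_range_of_injective std_injective] at h3
  simp at h3
  omega

variable [FiniteDimensional k K] [IsGalois k K]

lemma core_set (S : Set (Projectivization K (Fin 2 → K)))
    (f : Projectivization K (Fin 2 → K) → Projectivization K (Fin 2 → K))
    (hcard : S.ncard = 3) (hinj : Set.InjOn f S)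
    (hS : ∀ (σ : K ≃ₐ[k] K) x, x ∈ S → galP σ x ∈ S)
    (hf : ∀ (σ : K ≃ₐ[k] K) x, x ∈ S → f (galP σ x) = galP σ (f x)) :
    ∃ g : GL (Fin 2) k, ∀ x ∈ S,
      (Matrix.GeneralLinearGroup.toLin
        (Matrix.GeneralLinearGroup.map (algebraMap k K) g)) • x = f x := by
  obtain ⟨x, y, z, hxy, hxz, hyz, rfl⟩ := Set.ncard_eq_three.mp hcard
  set p : Fin 3 → Projectivization K (Fin 2 → K) := ![x, y, z] with hp
  have hpS : ∀ i, p i ∈ ({x, y, z} : Set _) := by
    intro i
    fin_cases i <;> simp [hp]
  have hSp : ∀ w ∈ ({x, y, z} : Set (Projectivization K (Fin 2 → K))), ∃ i, w = p i := by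
    intro w hw
    rcases hw with rfl | rfl | rfl
    · exact ⟨0, rfl⟩
    · exact ⟨1, rfl⟩
    · exact ⟨2, rfl⟩
  have hpinj : Function.Injective p := by
    intro i j hij
    fin_cases i <;> fin_cases j <;> simp [hp] at hij <;> first | rfl | (exfalso; tauto)
  have hqinj : Function.Injective (f ∘ p) := by
    intro i j hij
    exact hpinj (hinj (hpS i) (hpS j) hij)
  obtain ⟨g, hg⟩ := core (k := k) p (f ∘ p) hpinj hqinj (by
    intro σ i
    obtain ⟨j, hj⟩ := hSp _ (hS σ _ (hpS i))
    refine ⟨j, hj, ?_⟩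
    simp only [Function.comp_apply]
    rw [← hj, hf σ _ (hpS i)])
  refine ⟨g, fun w hw => ?_⟩
  obtain ⟨i, rfl⟩ := hSp w hw
  exact hg i

open Classical in
lemma strong (m : ℕ) : ∀ (S : Set (Projectivization K (Fin 2 → K)))
    (f : Projectivization K (Fin 2 → K) → Projectivization K (Fin 2 → K)),
    S.Finite → S.ncard + m = 3 → Set.InjOn f S →
    (∀ (σ : K ≃ₐ[k] K) x, x ∈ S → galP σ x ∈ S) →
    (∀ (σ : K ≃ₐ[k] K) x, x ∈ S → f (galP σ x) = galP σ (f x)) →
    ∃ g : GL (Fin 2) k, ∀ x ∈ S,
      (Matrix.GeneralLinearGroup.toLin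
        (Matrix.GeneralLinearGroup.map (algebraMap k K) g)) • x = f x := by
  induction m with
  | zero =>
    intro S f _ hcard hinj hS hf
    exact core_set S f (by simpa using hcard) hinj hS hf
  | succ m ih =>
    intro S f hfin hcard hinj hS hf
    have h2 : S.ncard ≤ 2 := by omega
    obtain ⟨i, hi⟩ := exists_std_notMem S hfin h2
    have h2' : (f '' S).ncard ≤ 2 := by
      rw [Set.InjOn.ncard_image hinj]; exact h2
    obtain ⟨j, hj⟩ := exists_std_notMem (f '' S) (hfin.image f) h2'
    set r : Projectivization K (Fin 2 → K) := std i with hr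
    set r' : Projectivization K (Fin 2 → K) := std j with hr'
    set f₁ : Projectivization K (Fin 2 → K) → Projectivization K (Fin 2 → K) :=
      fun x => if x = r then r' else f x with hf₁
    have hf₁r : f₁ r = r' := by simp [hf₁]
    have hf₁S : ∀ x ∈ S, f₁ x = f x := by
      intro x hx
      have : x ≠ r := fun h => hi (h ▸ hx)
      simp [hf₁, this]
    obtain ⟨g, hg⟩ := ih (insert r S) f₁ (hfin.insert r)
      (by rw [Set.ncard_insert_of_notMem hi hfin]; omega)
      (by
        intro x hx y hy hxy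
        rcases hx with rfl | hx <;> rcases hy with rfl | hy
        · rfl
        · exfalso
          rw [hf₁r, hf₁S y hy] at hxy
          exact hj ⟨y, hy, hxy.symm⟩
        · exfalso
          rw [hf₁r, hf₁S x hx] at hxy
          exact hj ⟨x, hx, hxy⟩
        · rw [hf₁S x hx, hf₁S y hy] at hxy
          exact hinj hx hy hxy)
      (by
        intro σ x hx
        rcases hx with rfl | hx
        · left; exact galP_std σ i
        · right; exact hS σ x hx)
      (by
        intro σ x hx
        rcases hx with rfl | hx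
        · rw [hr, galP_std σ i, ← hr, hf₁r, hr', galP_std σ j]
        · rw [hf₁S _ (hS σ x hx), hf₁S x hx, hf σ x hx])
    refine ⟨g, fun x hx => ?_⟩
    rw [hg x (Set.mem_insert_of_mem _ hx), hf₁S x hx]

open Classical in
theorem main (S S' : Set (Projectivization K (Fin 2 → K))) (hfin : S.Finite) (h3 : S.ncard ≤ 3)
    (hS : ∀ (σ : K ≃ₐ[k] K) (x : Projectivization K (Fin 2 → K)), x ∈ S → galP σ x ∈ S)
    (b : S ≃ S')
    (hb : ∀ (σ : K ≃ₐ[k] K) (x : S),
      (b ⟨galP σ x.1, hS σ x.1 x.2⟩ : Projectivization K (Fin 2 → K)) = galP σ (b x).1) :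
    ∃ g : Matrix.GeneralLinearGroup (Fin 2) k,
      (fun x => (Matrix.GeneralLinearGroup.toLin
        ((Matrix.GeneralLinearGroup.map (algebraMap k K)) g)) • x) '' S = S' := by
  set f : Projectivization K (Fin 2 → K) → Projectivization K (Fin 2 → K) :=
    fun x => if h : x ∈ S then (b ⟨x, h⟩).1 else x with hf
  have hfS : ∀ x (hx : x ∈ S), f x = (b ⟨x, hx⟩).1 := by
    intro x hx
    simp [hf, hx]
  obtain ⟨g, hg⟩ := strong (k := k) (3 - S.ncard) S f hfin (by omega)
    (by
      intro x hx y hy hxy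
      rw [hfS x hx, hfS y hy] at hxy
      have := b.injective (Subtype.ext hxy)
      exact congrArg Subtype.val this)
    hS
    (by
      intro σ x hx
      rw [hfS _ (hS σ x hx), hfS x hx]
      exact hb σ ⟨x, hx⟩)
  refine ⟨g, ?_⟩
  ext y
  constructor
  · rintro ⟨x, hx, rfl⟩
    simp only
    rw [hg x hx, hfS x hx]
    exact (b ⟨x, hx⟩).2
  · intro hy
    refine ⟨(b.symm ⟨y, hy⟩).1, (b.symm ⟨y, hy⟩).2, ?_⟩
    simp only
    rw [hg _ (b.symm ⟨y, hy⟩).2, hfS _ (b.symm ⟨y, hy⟩).2]
    simp

end Groth.Agent.Lib.Helper8.PL
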