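import Mathlib
import Groth.Prelude.Def_W4c1imperftorsorsPerf

set_option backward.isDefEq.respectTransparency.types false
set_option autoImplicit false
set_option linter.unusedSectionVars false
set_option linter.style.haveILetI false

universe u

open Polynomial TensorProduct W4c1imperftorsors

namespace Groth.Agent.Lib.Helper8.PP

variable (p : ℕ) [Fact p.Prime] (R : Type u) [CommRing R] [CharP R p] (u v : R)

/-- the ideal `(uX, X² - v²)`. -/
noncomputable abbrev J : Ideal R[X] := Ideal.span {(C u * X : R[X]), X ^ 2 - C (v ^ 2)}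

/-- the algebra `R[α]/(uα, α² - v²)`. -/
abbrev B : Type u := R[X] ⧸ J R u v

/-- the class of `X`. -/
noncomputable def xb : B R u v := Ideal.Quotient.mk (J R u v) X

theorem u_xb : algebraMap R (B R u v) u * xb R u v = 0 := by
  have : (C u * X : R[X]) ∈ J R u v := Ideal.subset_span (by simp)
  have h := Ideal.Quotient.eq_zero_iff_mem.mpr this
  rw [map_mul] at h
  exact h

theorem xb_sq : xb R u v ^ 2 = algebraMap R (B R u v) (v ^ 2) := by
  have : (X ^ 2 - C (v ^ 2) : R[X]) ∈ J R u v := Ideal.subset_span (by simp)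
  have h := Ideal.Quotient.eq_zero_iff_mem.mpr this
  rw [map_sub, map_pow, sub_eq_zero] at h
  exact h

theorem xb_pow_even (j : ℕ) : xb R u v ^ (2 * j) = algebraMap R (B R u v) (v ^ (2 * j)) := by
  rw [pow_mul, xb_sq, ← map_pow, ← pow_mul]

theorem xb_pow_odd (j : ℕ) :
    xb R u v ^ (2 * j + 1) = algebraMap R (B R u v) (v ^ (2 * j)) * xb R u v := by
  rw [pow_succ, xb_pow_even]

theorem xb_pow_p (hp : p ≠ 2) :
    xb R u v ^ p = algebraMap R (B R u v) (v ^ (p - 1)) * xb R u v := by
  have hodd : Odd p := (Fact.out : p.Prime).odd_of_ne_two hp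
  obtain ⟨j, hj⟩ := hodd
  rw [hj, xb_pow_odd]
  simp

theorem exists_repr (b : B R u v) :
    ∃ c₀ c₁ : R, b = algebraMap R (B R u v) c₀ + algebraMap R (B R u v) c₁ * xb R u v := by
  obtain ⟨f, rfl⟩ := Ideal.Quotient.mk_surjective b
  induction f using Polynomial.induction_on' with
  | add f g hf hg =>
    obtain ⟨a₀, a₁, ha⟩ := hf
    obtain ⟨b₀, b₁, hb⟩ := hg
    refine ⟨a₀ + b₀, a₁ + b₁, ?_⟩
    rw [map_add, ha, hb, map_add, map_add]
    ring
  | monomial n a =>
    have hmon : Ideal.Quotient.mk (J R u v) (monomial n a) =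
        algebraMap R (B R u v) a * xb R u v ^ n := by
      rw [← C_mul_X_pow_eq_monomial, map_mul, map_pow]
      rfl
    rcases Nat.even_or_odd' n with ⟨j, hj | hj⟩
    · refine ⟨a * v ^ (2 * j), 0, ?_⟩
      rw [hmon, hj, xb_pow_even, map_mul, map_zero, zero_mul, add_zero]
    · refine ⟨0, a * v ^ (2 * j), ?_⟩
      rw [hmon, hj, xb_pow_odd, map_mul, map_zero, zero_add, mul_assoc]

/-- the `R`-algebra map `B → R`, `α ↦ v` (uses `uv = 0`). -/
noncomputable def eps (huv : u * v = 0) : B R u v →ₐ[R] R :=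
  Ideal.Quotient.liftₐ (J R u v) (Polynomial.aeval v) (by
    intro f hf
    have hle : J R u v ≤ RingHom.ker (Polynomial.aeval v : R[X] →ₐ[R] R) := by
      rw [Ideal.span_le]
      rintro g (rfl | rfl)
      · simp [RingHom.mem_ker, huv]
      · simp [RingHom.mem_ker]
    exact hle hf)

theorem eps_xb (huv : u * v = 0) : eps R u v huv (xb R u v) = v := by
  simp [eps, xb]

end Groth.Agent.Lib.Helper8.PP
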