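import Mathlib
import Groth.Agent.Lib.Helper8.PP1

set_option backward.isDefEq.respectTransparency.types false
set_option autoImplicit false
set_option linter.unusedSectionVars false
set_option linter.style.haveILetI false

universe u

open Polynomial TensorProduct W4c1imperftorsors

namespace Groth.Agent.Lib.Helper8.PP

variable (p : ℕ) [Fact p.Prime] (R : Type u) [CommRing R] [CharP R p] (u v : R) (i : ℕ)

/-- `R/(u^(p^i))`. -/
abbrev Q : Type u := R ⧸ Ideal.span {u ^ (p ^ i)}

/-- the polynomial `T² - v^(2p^i)` over `Q`. -/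
noncomputable abbrev gq : (Q p R u i)[X] :=
  X ^ 2 - C (Ideal.Quotient.mk (Ideal.span {u ^ (p ^ i)}) (v ^ (2 * p ^ i)))

/-- the ring `(R/u^q)[T]/(T² - v^(2q))`. -/
abbrev Cr : Type u := AdjoinRoot (gq p R u v i)

theorem gq_monic : (gq p R u v i).Monic := monic_X_pow_sub_C _ (by norm_num)

/-- the structure map `R → Cr` twisted by Frobenius. -/
noncomputable def rho : R →+* Cr p R u v i :=
  (AdjoinRoot.of (gq p R u v i)).comp
    ((Ideal.Quotient.mk (Ideal.span {u ^ (p ^ i)})).comp (iterateFrobenius R p i))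

theorem rho_apply (r : R) : rho p R u v i r =
    AdjoinRoot.of (gq p R u v i) (Ideal.Quotient.mk (Ideal.span {u ^ (p ^ i)}) (r ^ p ^ i)) := by
  simp [rho, iterateFrobenius_def]

theorem rho_u : rho p R u v i u = 0 := by
  rw [rho_apply]
  have : Ideal.Quotient.mk (Ideal.span {u ^ (p ^ i)}) (u ^ p ^ i) = 0 :=
    Ideal.Quotient.eq_zero_iff_mem.mpr (Ideal.subset_span rfl)
  rw [this, map_zero]

theorem root_sq : AdjoinRoot.root (gq p R u v i) ^ 2 = rho p R u v i (v ^ 2) := by
  have h := AdjoinRoot.eval₂_root (gq p R u v i)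
  rw [eval₂_sub, eval₂_pow, eval₂_X, eval₂_C, sub_eq_zero] at h
  rw [h, rho_apply, ← pow_mul]

/-- the ring map `B → Cr`, `α ↦ T`, semilinear over the `i`-th Frobenius. -/
noncomputable def phi : B R u v →+* Cr p R u v i :=
  Ideal.Quotient.lift (J R u v)
    (Polynomial.eval₂RingHom (rho p R u v i) (AdjoinRoot.root (gq p R u v i))) (by
    intro f hf
    have hle : J R u v ≤ RingHom.ker
        (Polynomial.eval₂RingHom (rho p R u v i) (AdjoinRoot.root (gq p R u v i))) := by
      rw [Ideal.span_le]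
      rintro g (rfl | rfl)
      · simp [RingHom.mem_ker, rho_u]
      · simp only [SetLike.mem_coe, RingHom.mem_ker, coe_eval₂RingHom, eval₂_sub, eval₂_pow,
          eval₂_X, eval₂_C]
        rw [root_sq, sub_self]
    exact hle hf)

theorem phi_algebraMap (r : R) : phi p R u v i (algebraMap R (B R u v) r) = rho p R u v i r := by
  change phi p R u v i (Ideal.Quotient.mk (J R u v) (C r)) = _
  simp [phi]

theorem phi_xb : phi p R u v i (xb R u v) = AdjoinRoot.root (gq p R u v i) := by
  simp [phi, xb]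

/-- `1, T` are linearly independent in `S[T]/(T² - c)`. -/
theorem coord_eq_gen {S : Type*} [CommRing S] (c : S) (a b a' b' : S)
    (h : AdjoinRoot.of (X ^ 2 - C c : S[X]) a + AdjoinRoot.of (X ^ 2 - C c : S[X]) b *
        AdjoinRoot.root (X ^ 2 - C c : S[X]) =
      AdjoinRoot.of (X ^ 2 - C c : S[X]) a' + AdjoinRoot.of (X ^ 2 - C c : S[X]) b' *
        AdjoinRoot.root (X ^ 2 - C c : S[X])) : a = a' ∧ b = b' := by
  rcases subsingleton_or_nontrivial S with hS | hS
  · exact ⟨Subsingleton.elim _ _, Subsingleton.elim _ _⟩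
  set g : S[X] := X ^ 2 - C c with hg
  have hgm : g.Monic := monic_X_pow_sub_C _ (by norm_num)
  set q : S[X] := C (b - b') * X + C (a - a') with hq
  have hmk : AdjoinRoot.mk g q = 0 := by
    rw [hq, map_add, map_mul, AdjoinRoot.mk_C, AdjoinRoot.mk_C, AdjoinRoot.mk_X, map_sub, map_sub]
    linear_combination h
  have hdvd : g ∣ q := AdjoinRoot.mk_eq_zero.mp hmk
  have hq0 : q = 0 := by
    by_contra hne
    refine hgm.not_dvd_of_degree_lt hne ?_ hdvd
    have h2 : g.degree = 2 := degree_X_pow_sub_C (by norm_num) _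
    rw [h2]
    have hle : q.degree ≤ 1 := degree_linear_le
    exact lt_of_le_of_lt hle (by exact_mod_cast (by norm_num : (1 : ℕ) < 2))
  have h0 : q.coeff 0 = 0 := by rw [hq0, coeff_zero]
  have h1 : q.coeff 1 = 0 := by rw [hq0, coeff_zero]
  simp [hq] at h0 h1
  exact ⟨sub_eq_zero.mp h0, sub_eq_zero.mp h1⟩

theorem coord_eq (a b a' b' : Q p R u i)
    (h : AdjoinRoot.of (gq p R u v i) a + AdjoinRoot.of (gq p R u v i) b *
        AdjoinRoot.root (gq p R u v i) =
      AdjoinRoot.of (gq p R u v i) a' + AdjoinRoot.of (gq p R u v i) b' *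
        AdjoinRoot.root (gq p R u v i)) : a = a' ∧ b = b' :=
  coord_eq_gen _ a b a' b' h

end Groth.Agent.Lib.Helper8.PP
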