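import Mathlib
import Groth.Agent.Lib.Helper8.PP2

set_option backward.isDefEq.respectTransparency.types false
set_option autoImplicit false
set_option linter.unusedSectionVars false
set_option linter.style.haveILetI false

universe u

open Polynomial TensorProduct W4c1imperftorsors

namespace Groth.Agent.Lib.Helper8.PP

variable (p : ℕ) [Fact p.Prime] (R : Type u) [CommRing R] [CharP R p] (u v : R)
  [CharP (B R u v) p] (i : ℕ)

/-- the class of `X` in the copy `ASrc`. -/
noncomputable def al : ASrc p R (B R u v) i := (aEquiv p R (B R u v) i).symm (xb R u v)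

theorem smul_aSrc (s : Src p R i) (a : ASrc p R (B R u v) i) :
    s • a = (aEquiv p R (B R u v) i).symm
      (algebraMap R (B R u v) (srcEquiv p R i s) * aEquiv p R (B R u v) i a) := by
  rw [Algebra.smul_def, algebraMap_aSrc, map_mul, RingEquiv.symm_apply_apply]

theorem smul_src (s : Src p R i) (r : R) : s • r = (srcEquiv p R i s) ^ p ^ i * r := by
  rw [Algebra.smul_def, algebraMap_src]

theorem tmul_smul_al (r : R) (c : R) (a : ASrc p R (B R u v) i) :
    r ⊗ₜ[Src p R i] ((aEquiv p R (B R u v) i).symm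
      (algebraMap R (B R u v) c * aEquiv p R (B R u v) i a)) =
    (c ^ p ^ i * r) ⊗ₜ[Src p R i] a := by
  have h1 : (aEquiv p R (B R u v) i).symm
      (algebraMap R (B R u v) c * aEquiv p R (B R u v) i a) = ((srcEquiv p R i).symm c) • a := by
    rw [smul_aSrc, RingEquiv.apply_symm_apply]
  rw [h1, ← TensorProduct.smul_tmul, smul_src, RingEquiv.apply_symm_apply]

theorem exists_repr_twist (x : Twist p R (B R u v) i) :
    ∃ r s : R, x = r ⊗ₜ[Src p R i] (1 : ASrc p R (B R u v) i) +
      s ⊗ₜ[Src p R i] al p R u v i := by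
  induction x using TensorProduct.induction_on with
  | zero => exact ⟨0, 0, by simp⟩
  | tmul r b =>
    obtain ⟨c₀, c₁, hc⟩ := exists_repr R u v (aEquiv p R (B R u v) i b)
    have hb : b = (aEquiv p R (B R u v) i).symm (algebraMap R (B R u v) c₀ *
          aEquiv p R (B R u v) i (1 : ASrc p R (B R u v) i)) +
        (aEquiv p R (B R u v) i).symm (algebraMap R (B R u v) c₁ *
          aEquiv p R (B R u v) i (al p R u v i)) := by
      apply (aEquiv p R (B R u v) i).injective
      rw [hc, map_add, RingEquiv.apply_symm_apply, RingEquiv.apply_symm_apply, map_one, mul_one,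
        al, RingEquiv.apply_symm_apply]
    refine ⟨c₀ ^ p ^ i * r, c₁ ^ p ^ i * r, ?_⟩
    conv_lhs => rw [hb]
    rw [TensorProduct.tmul_add, tmul_smul_al, tmul_smul_al]
  | add x y hx hy =>
    obtain ⟨r, s, rfl⟩ := hx
    obtain ⟨r', s', rfl⟩ := hy
    refine ⟨r + r', s + s', ?_⟩
    rw [TensorProduct.add_tmul, TensorProduct.add_tmul]
    abel

theorem relFrob_tmul (r : R) (a : ASrc p R (B R u v) (i + 1)) :
    relFrob p R (B R u v) i (r ⊗ₜ[Src p R (i + 1)] a) =
      r ⊗ₜ[Src p R i] (aEquiv p R (B R u v) i).symm ((aEquiv p R (B R u v) (i + 1) a) ^ p) := by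
  change relFrobAux p R (B R u v) i (r ⊗ₜ[Src p R (i + 1)] a) = _
  rw [relFrobAux, Algebra.TensorProduct.lift_tmul]
  change algebraMap R (Twist p R (B R u v) i) r * ((1 : R) ⊗ₜ[Src p R i] _) = _
  rw [Algebra.TensorProduct.algebraMap_apply, Algebra.TensorProduct.tmul_mul_tmul, mul_one,
    one_mul]
  rfl

theorem relFrob_repr (hp : p ≠ 2) (r s : R) :
    relFrob p R (B R u v) i (r ⊗ₜ[Src p R (i + 1)] (1 : ASrc p R (B R u v) (i + 1)) +
      s ⊗ₜ[Src p R (i + 1)] al p R u v (i + 1)) =
    r ⊗ₜ[Src p R i] (1 : ASrc p R (B R u v) i) +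
      ((v ^ (p - 1)) ^ p ^ i * s) ⊗ₜ[Src p R i] al p R u v i := by
  rw [map_add, relFrob_tmul, relFrob_tmul, map_one, one_pow, map_one]
  congr 1
  rw [al, RingEquiv.apply_symm_apply, xb_pow_p p R u v hp, ← tmul_smul_al, al,
    RingEquiv.apply_symm_apply]

end Groth.Agent.Lib.Helper8.PP
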