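import Mathlib
import Groth.Agent.Lib.Helper8.PP3

set_option backward.isDefEq.respectTransparency.types false
set_option autoImplicit false
set_option linter.unusedSectionVars false
set_option linter.style.haveILetI false

universe u

open Polynomial TensorProduct W4c1imperftorsors

namespace Groth.Agent.Lib.Helper8.PP

variable (p : ℕ) [Fact p.Prime] (R : Type u) [CommRing R] [CharP R p] (u v : R)
  [CharP (B R u v) p] (i : ℕ)

/-- `b ↦ ε(b)^(p^i)` on the copy. -/
noncomputable def lamR (huv : u * v = 0) : ASrc p R (B R u v) i →+ R :=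
  ((iterateFrobenius R p i : R →+* R) : R →+ R).comp
    ((((eps R u v huv : B R u v →ₐ[R] R) : B R u v →+* R) : B R u v →+ R).comp
      ((aEquiv p R (B R u v) i : ASrc p R (B R u v) i →+* B R u v) : _ →+ _))

theorem lamR_apply (huv : u * v = 0) (a : ASrc p R (B R u v) i) :
    lamR p R u v i huv a = (eps R u v huv (aEquiv p R (B R u v) i a)) ^ p ^ i := by
  simp [lamR, iterateFrobenius_def]

/-- the retraction `Twist i → R`, `r ⊗ b ↦ r ε(b)^(p^i)`. -/
noncomputable def lam (huv : u * v = 0) : Twist p R (B R u v) i →+ R :=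
  TensorProduct.liftAddHom ((AddMonoidHom.mul : R →+ R →+ R).compl₂ (lamR p R u v i huv)) (by
    intro s r b
    simp only [AddMonoidHom.compl₂_apply, AddMonoidHom.mul_apply, lamR_apply]
    rw [smul_src, smul_aSrc, RingEquiv.apply_symm_apply, map_mul, AlgHom.commutes, mul_pow]
    simp only [Algebra.algebraMap_self, RingHom.id_apply]
    ring)

theorem lam_tmul (huv : u * v = 0) (r : R) (a : ASrc p R (B R u v) i) :
    lam p R u v i huv (r ⊗ₜ[Src p R i] a) =
      r * (eps R u v huv (aEquiv p R (B R u v) i a)) ^ p ^ i := by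
  rw [lam, TensorProduct.liftAddHom_tmul, AddMonoidHom.compl₂_apply, AddMonoidHom.mul_apply,
    lamR_apply]

/-- `b ↦ φ(b)` on the copy. -/
noncomputable def lamTR : ASrc p R (B R u v) i →+ Cr p R u v i :=
  ((phi p R u v i : B R u v →+* Cr p R u v i) : B R u v →+ Cr p R u v i).comp
    ((aEquiv p R (B R u v) i : ASrc p R (B R u v) i →+* B R u v) : _ →+ _)

/-- `r ↦ of (mk r)`. -/
noncomputable def ofmk : R →+* Cr p R u v i :=
  (AdjoinRoot.of (gq p R u v i)).comp (Ideal.Quotient.mk (Ideal.span {u ^ (p ^ i)}))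

theorem rho_eq (r : R) : rho p R u v i r = ofmk p R u v i (r ^ p ^ i) := by
  rw [rho_apply]; rfl

/-- the map `Twist i → Cr`, `r ⊗ b ↦ r φ(b)`. -/
noncomputable def lamT : Twist p R (B R u v) i →+ Cr p R u v i :=
  TensorProduct.liftAddHom
    ((AddMonoidHom.mul : Cr p R u v i →+ Cr p R u v i →+ Cr p R u v i).compl₂
      (lamTR p R u v i) |>.comp ((ofmk p R u v i : R →+* Cr p R u v i) : R →+ Cr p R u v i)) (by
    intro s r b
    simp only [AddMonoidHom.comp_apply, AddMonoidHom.compl₂_apply, AddMonoidHom.mul_apply, lamTR,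
      AddMonoidHom.coe_coe, RingHom.coe_coe]
    rw [smul_src, smul_aSrc, RingEquiv.apply_symm_apply, map_mul, map_mul, phi_algebraMap, rho_eq]
    ring)

theorem lamT_tmul (r : R) (a : ASrc p R (B R u v) i) :
    lamT p R u v i (r ⊗ₜ[Src p R i] a) =
      ofmk p R u v i r * phi p R u v i (aEquiv p R (B R u v) i a) := by
  rfl

theorem lamT_repr (r s : R) :
    lamT p R u v i (r ⊗ₜ[Src p R i] (1 : ASrc p R (B R u v) i) +
      s ⊗ₜ[Src p R i] al p R u v i) =
    AdjoinRoot.of (gq p R u v i) (Ideal.Quotient.mk (Ideal.span {u ^ (p ^ i)}) r) +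
      AdjoinRoot.of (gq p R u v i) (Ideal.Quotient.mk (Ideal.span {u ^ (p ^ i)}) s) *
        AdjoinRoot.root (gq p R u v i) := by
  rw [map_add, lamT_tmul, lamT_tmul, map_one, map_one, mul_one, al, RingEquiv.apply_symm_apply,
    phi_xb]
  rfl

theorem lam_repr (huv : u * v = 0) (r s : R) :
    lam p R u v i huv (r ⊗ₜ[Src p R i] (1 : ASrc p R (B R u v) i) +
      s ⊗ₜ[Src p R i] al p R u v i) = r + s * v ^ p ^ i := by
  rw [map_add, lam_tmul, lam_tmul, map_one, map_one, one_pow, mul_one, al,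
    RingEquiv.apply_symm_apply, eps_xb]

/-- `u^(p^i) t ⊗ α = 0`. -/
theorem tmul_al_eq_zero (s : R) (hs : s ∈ Ideal.span {u ^ p ^ i}) :
    s ⊗ₜ[Src p R i] al p R u v i = 0 := by
  obtain ⟨t, rfl⟩ := Ideal.mem_span_singleton'.mp hs
  have h := tmul_smul_al p R u v i t u (al p R u v i)
  rw [al, RingEquiv.apply_symm_apply, u_xb, map_zero, TensorProduct.tmul_zero] at h
  rw [mul_comm, al]
  exact h.symm

end Groth.Agent.Lib.Helper8.PP
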