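import Mathlib
import Groth.Agent.Lib.Helper8.PP4

set_option backward.isDefEq.respectTransparency.types false
set_option autoImplicit false
set_option linter.unusedSectionVars false
set_option linter.style.haveILetI false

universe u

open Polynomial TensorProduct W4c1imperftorsors

namespace Groth.Agent.Lib.Helper8.PP

variable (p : ℕ) [Fact p.Prime] (R : Type u) [CommRing R] [CharP R p] (u v : R)
  [CharP (B R u v) p]

theorem mem_prePerf_iff (x : Π j, Twist p R (B R u v) j) :
    x ∈ prePerf p R (B R u v) ↔ ∀ j, relFrob p R (B R u v) j (x (j + 1)) = x j := by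
  simp [prePerf, Algebra.mem_iInf, AlgHom.mem_equalizer]

theorem span_pow_succ_le (j : ℕ) :
    Ideal.span {u ^ p ^ (j + 1)} ≤ Ideal.span {u ^ p ^ j} := by
  rw [Ideal.span_singleton_le_span_singleton, pow_succ, pow_mul]
  exact dvd_pow_self _ (Fact.out : p.Prime).ne_zero

theorem algebraMap_twist (j : ℕ) (r : R) :
    algebraMap R (Twist p R (B R u v) j) r =
      r ⊗ₜ[Src p R j] (1 : ASrc p R (B R u v) j) := by
  rw [Algebra.TensorProduct.algebraMap_apply, Algebra.algebraMap_self, RingHom.id_apply]

theorem main (hp : p ≠ 2) (huv : u * v = 0)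
    (hsep : ∀ N : ℕ, 1 ≤ N → ∀ g : R,
      (∀ n : ℕ, g ∈ Ideal.span {v ^ n} ⊔ Ideal.span {u ^ N}) → g ∈ Ideal.span {u ^ N}) :
    Function.Bijective (algebraMap R ↥(prePerf p R (B R u v))) := by
  have hp1 : 1 ≤ p - 1 := by
    have := (Fact.out : p.Prime).two_le
    omega
  constructor
  · rw [injective_iff_map_eq_zero]
    intro r hr
    have h0 : (algebraMap R ↥(prePerf p R (B R u v)) r : Π j, Twist p R (B R u v) j) 0 = 0 := by
      rw [hr]; rfl
    rw [Subalgebra.coe_algebraMap, Pi.algebraMap_apply, algebraMap_twist] at h0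
    have h1 := congrArg (lam p R u v 0 huv) h0
    rw [lam_tmul, map_one, map_one, one_pow, mul_one, map_zero] at h1
    exact h1
  · rintro ⟨x, hx⟩
    rw [mem_prePerf_iff] at hx
    choose r s hrs using fun j => exists_repr_twist p R u v j (x j)
    have heq : ∀ j, r j ⊗ₜ[Src p R j] (1 : ASrc p R (B R u v) j) +
          s j ⊗ₜ[Src p R j] al p R u v j =
        r (j + 1) ⊗ₜ[Src p R j] (1 : ASrc p R (B R u v) j) +
          ((v ^ (p - 1)) ^ p ^ j * s (j + 1)) ⊗ₜ[Src p R j] al p R u v j := by
      intro j
      have h := hx j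
      rw [hrs (j + 1), relFrob_repr p R u v j hp] at h
      rw [← hrs j, h]
    have hcong : ∀ j, s j - (v ^ (p - 1)) ^ p ^ j * s (j + 1) ∈ Ideal.span {u ^ p ^ j} := by
      intro j
      have h2 := congrArg (lamT p R u v j) (heq j)
      rw [lamT_repr, lamT_repr] at h2
      have h3 := (coord_eq p R u v j _ _ _ _ h2).2
      exact (Ideal.Quotient.eq).mp h3
    have hP : ∀ m j, s j ∈ Ideal.span {v ^ m} ⊔ Ideal.span {u ^ p ^ j} := by
      intro m
      induction m with
      | zero =>
        intro j
        rw [pow_zero, Ideal.span_singleton_one, top_sup_eq]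
        trivial
      | succ m ih =>
        intro j
        obtain ⟨y, hy, z, hz, hyz⟩ := Submodule.mem_sup.mp (ih (j + 1))
        obtain ⟨a, rfl⟩ := Ideal.mem_span_singleton'.mp hy
        have hs : s j = (a * v ^ ((p - 1) * p ^ j - 1)) * v ^ (m + 1) +
            ((s j - (v ^ (p - 1)) ^ p ^ j * s (j + 1)) + (v ^ (p - 1)) ^ p ^ j * z) := by
          have hge : 1 ≤ (p - 1) * p ^ j :=
            Nat.one_le_iff_ne_zero.mpr (Nat.mul_ne_zero (by omega)
              (pow_ne_zero _ (Fact.out : p.Prime).ne_zero))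
          have hv : v ^ ((p - 1) * p ^ j - 1) * v ^ (m + 1) = (v ^ (p - 1)) ^ p ^ j * v ^ m := by
            rw [← pow_mul, ← pow_add, ← pow_add]
            congr 1
            omega
          have hv2 : (a * v ^ ((p - 1) * p ^ j - 1)) * v ^ (m + 1) =
              a * ((v ^ (p - 1)) ^ p ^ j * v ^ m) := by rw [mul_assoc, hv]
          rw [hv2, ← hyz]
          ring
        rw [hs]
        refine Submodule.add_mem_sup (Ideal.mem_span_singleton'.mpr ⟨_, rfl⟩) ?_
        exact Ideal.add_mem _ (hcong j)
          (Ideal.mul_mem_left _ _ (span_pow_succ_le p R u j hz))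
    have hsj : ∀ j, s j ∈ Ideal.span {u ^ p ^ j} := fun j =>
      hsep (p ^ j) (Nat.one_le_pow _ _ (Fact.out : p.Prime).pos) (s j) (fun n => hP n j)
    have hxj : ∀ j, x j = r j ⊗ₜ[Src p R j] (1 : ASrc p R (B R u v) j) := by
      intro j
      rw [hrs j, tmul_al_eq_zero p R u v j (s j) (hsj j), add_zero]
    have hr : ∀ j, r (j + 1) = r j := by
      intro j
      have h := heq j
      rw [tmul_al_eq_zero p R u v j (s j) (hsj j), tmul_al_eq_zero p R u v j _
        (Ideal.mul_mem_left _ _ (span_pow_succ_le p R u j (hsj (j + 1)))), add_zero, add_zero] at h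
      have h1 := congrArg (lam p R u v j huv) h
      rw [lam_tmul, lam_tmul, map_one, map_one, one_pow, mul_one, mul_one] at h1
      exact h1.symm
    have hr0 : ∀ j, r j = r 0 := by
      intro j
      induction j with
      | zero => rfl
      | succ j ih => rw [hr, ih]
    refine ⟨r 0, ?_⟩
    apply Subtype.ext
    funext j
    rw [Subalgebra.coe_algebraMap, Pi.algebraMap_apply, algebraMap_twist]
    change _ = x j
    rw [hxj j, hr0 j]

end Groth.Agent.Lib.Helper8.PP
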