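import Mathlib
set_option backward.isDefEq.respectTransparency.types false
set_option autoImplicit false
set_option linter.unusedSectionVars false
set_option linter.style.haveILetI false

universe u

namespace Groth.Agent.Lib.Helper8.PR5

open Polynomial TensorProduct

section Fin

variable {P : Type u} [CommRing P] [IsDomain P] (h : Polynomial P)

theorem finrank_tensor (hdeg : h.natDegree = 2) :
    Module.finrank (FractionRing P) (TensorProduct P (FractionRing P) (AdjoinRoot h)) = 2 := by
  set F := FractionRing P
  set q : Polynomial (F ⊗[P] P) := h.map (Algebra.TensorProduct.includeRight.toRingHom) with hq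
  set hF : Polynomial F := h.map (algebraMap P F) with hhF
  have hne : hF ≠ 0 := by
    intro h0
    have : h = 0 := by
      apply Polynomial.map_injective (algebraMap P F) (IsFractionRing.injective P F)
      rw [← hhF, h0, Polynomial.map_zero]
    rw [this] at hdeg
    simp at hdeg
  have hnat : hF.natDegree = 2 := by
    rw [hhF, Polynomial.natDegree_map_eq_of_injective (IsFractionRing.injective P F), hdeg]
  let e1 : F ⊗[P] AdjoinRoot h ≃ₐ[F] AdjoinRoot q := AdjoinRoot.tensorAlgEquiv h q rfl
  let ρ : F ⊗[P] P ≃ₐ[F] F := Algebra.TensorProduct.rid P F F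
  have hmap : q.map (ρ : F ⊗[P] P →+* F) = hF := by
    rw [hq, Polynomial.map_map, hhF]
    congr 1
    ext p
    simp [ρ, Algebra.smul_def]
  let e2 : AdjoinRoot q ≃ₐ[F] AdjoinRoot hF := AdjoinRoot.mapAlgEquiv ρ q hF (by
    have : Polynomial.map (↑ρ : F ⊗[P] P →+* F) q = hF := hmap
    rw [← this])
  rw [LinearEquiv.finrank_eq (e1.trans e2).toLinearEquiv, (AdjoinRoot.powerBasis hne).finrank,
    AdjoinRoot.powerBasis_dim, hnat]

end Fin


section Int

variable {P : Type u} [CommRing P] [IsDomain P] (h : Polynomial P) (S : Submonoid P)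

lemma eval₂_zeta :
    Polynomial.eval₂ (algebraMap P (Localization (Algebra.algebraMapSubmonoid (AdjoinRoot h) S)))
      (algebraMap (AdjoinRoot h) (Localization (Algebra.algebraMapSubmonoid (AdjoinRoot h) S))
        (AdjoinRoot.root h)) h = 0 := by
  rw [IsScalarTower.algebraMap_eq P (AdjoinRoot h)
    (Localization (Algebra.algebraMapSubmonoid (AdjoinRoot h) S)), ← Polynomial.hom_eval₂,
    AdjoinRoot.algebraMap_eq, AdjoinRoot.eval₂_root, map_zero]

theorem integral_of_isUnit
    (hu : IsUnit (algebraMap P (Localization S) h.leadingCoeff)) :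
    Algebra.IsIntegral (Localization S)
      (Localization (Algebra.algebraMapSubmonoid (AdjoinRoot h) S)) := by
  rcases subsingleton_or_nontrivial (Localization S) with hsub | hnt
  · haveI : Subsingleton (Localization (Algebra.algebraMapSubmonoid (AdjoinRoot h) S)) :=
      (algebraMap (Localization S)
        (Localization (Algebra.algebraMapSubmonoid (AdjoinRoot h) S))).codomain_trivial
    exact ⟨fun x => by rw [Subsingleton.elim x 0]; exact isIntegral_zero⟩
  set AS := Localization (Algebra.algebraMapSubmonoid (AdjoinRoot h) S) with hAS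
  set ζ : AS := algebraMap (AdjoinRoot h) AS (AdjoinRoot.root h) with hζ
  -- ζ is integral
  have hζint : IsIntegral (Localization S) ζ := by
    set hS := h.map (algebraMap P (Localization S)) with hhS
    have hlc : hS.leadingCoeff = algebraMap P (Localization S) h.leadingCoeff :=
      Polynomial.leadingCoeff_map_of_leadingCoeff_ne_zero _ hu.ne_zero
    refine ⟨Polynomial.C (↑hu.unit⁻¹ : Localization S) * hS,
      Polynomial.monic_C_mul_of_mul_leadingCoeff_eq_one (by rw [hlc]; exact hu.val_inv_mul), ?_⟩
    rw [Polynomial.eval₂_mul, hhS, Polynomial.eval₂_map,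
      ← IsScalarTower.algebraMap_eq P (Localization S) AS, hζ, eval₂_zeta, mul_zero]
  have hbase : ∀ c : P, IsIntegral (Localization S) (algebraMap P AS c) := by
    intro c
    rw [IsScalarTower.algebraMap_apply P (Localization S) AS]
    exact isIntegral_algebraMap
  have hA : ∀ y : AdjoinRoot h, IsIntegral (Localization S) (algebraMap (AdjoinRoot h) AS y) := by
    intro y
    obtain ⟨p, rfl⟩ := AdjoinRoot.mk_surjective y
    rw [← AdjoinRoot.aeval_eq, ← Polynomial.aeval_algebraMap_apply, Polynomial.aeval_eq_sum_range]
    refine IsIntegral.sum _ fun i _ => ?_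
    rw [Algebra.smul_def]
    exact (hbase _).mul (hζint.pow i)
  refine ⟨fun x => ?_⟩
  obtain ⟨y, s', rfl⟩ :=
    IsLocalization.exists_mk'_eq (Algebra.algebraMapSubmonoid (AdjoinRoot h) S) x
  obtain ⟨s, hs, hss⟩ := s'.2
  have hσ : IsUnit (algebraMap P (Localization S) s) := IsLocalization.map_units _ ⟨s, hs⟩
  have hx : IsLocalization.mk' AS y s' =
      algebraMap (AdjoinRoot h) AS y * algebraMap (Localization S) AS (↑hσ.unit⁻¹) := by
    rw [IsLocalization.mk'_eq_iff_eq_mul, ← hss]
    rw [mul_assoc, ← IsScalarTower.algebraMap_apply P (AdjoinRoot h) AS,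
      IsScalarTower.algebraMap_apply P (Localization S) AS, ← map_mul, hσ.val_inv_mul, map_one,
      mul_one]
  rw [hx]
  exact (hA y).mul isIntegral_algebraMap

theorem isUnit_of_integral
    (hint : Algebra.IsIntegral (Localization S)
      (Localization (Algebra.algebraMapSubmonoid (AdjoinRoot h) S))) :
    IsUnit (algebraMap P (Localization S) h.leadingCoeff) := by
  rcases subsingleton_or_nontrivial (Localization S) with hsub | hnt
  · exact isUnit_of_subsingleton _
  have hS0 : S ≤ nonZeroDivisors P := by
    intro s hs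
    rw [mem_nonZeroDivisors_iff_ne_zero]
    rintro rfl
    have := IsLocalization.subsingleton (S := Localization S) hs
    exact not_subsingleton _ this
  have hinj : Function.Injective (algebraMap P (Localization S)) :=
    IsLocalization.injective _ hS0
  set AS := Localization (Algebra.algebraMapSubmonoid (AdjoinRoot h) S) with hAS
  set ζ : AS := algebraMap (AdjoinRoot h) AS (AdjoinRoot.root h) with hζ
  obtain ⟨m, hm, hm0⟩ := hint.isIntegral ζ
  obtain ⟨s₀, hs₀, hspec⟩ := IsLocalization.integerNormalization_spec S m
  set m' := IsLocalization.integerNormalization S m with hm'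
  have hsm : s₀ • m = Polynomial.C (algebraMap P (Localization S) s₀) * m := by
    rw [Algebra.smul_def, Polynomial.algebraMap_apply]
  have e1 : Polynomial.aeval ζ m' = 0 := by
    rw [Polynomial.aeval_def, IsScalarTower.algebraMap_eq P (Localization S) AS,
      ← Polynomial.eval₂_map, hspec, hsm, Polynomial.eval₂_mul, hm0, mul_zero]
  rw [hζ, Polynomial.aeval_algebraMap_apply,
    IsLocalization.map_eq_zero_iff (Algebra.algebraMapSubmonoid (AdjoinRoot h) S)] at e1
  obtain ⟨⟨c, s₁, hs₁, rfl⟩, hc⟩ := e1
  simp only at hc
  have hdvd : h ∣ Polynomial.C s₁ * m' := by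
    rw [← AdjoinRoot.mk_eq_zero, map_mul, AdjoinRoot.mk_C, ← AdjoinRoot.aeval_eq m']
    exact hc
  obtain ⟨q, hq⟩ := hdvd
  have hlc := congrArg Polynomial.leadingCoeff hq
  rw [Polynomial.leadingCoeff_mul, Polynomial.leadingCoeff_mul, Polynomial.leadingCoeff_C] at hlc
  have hlm : algebraMap P (Localization S) m'.leadingCoeff = algebraMap P (Localization S) s₀ := by
    rw [← Polynomial.leadingCoeff_map_of_injective hinj, hspec, hsm,
      Polynomial.leadingCoeff_mul_monic hm, Polynomial.leadingCoeff_C]
  have h2 := congrArg (algebraMap P (Localization S)) hlc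
  rw [map_mul, map_mul, hlm] at h2
  have hunit : IsUnit (algebraMap P (Localization S) s₁ * algebraMap P (Localization S) s₀) :=
    (IsLocalization.map_units _ ⟨s₁, hs₁⟩).mul (IsLocalization.map_units _ ⟨s₀, hs₀⟩)
  rw [h2] at hunit
  exact isUnit_of_mul_isUnit_left hunit

end Int

theorem main410 (K : Type u) [Field K]
    (h : Polynomial (MvPolynomial (Fin 2) K)) (hdeg : h.natDegree = 2)
    (S : Submonoid (MvPolynomial (Fin 2) K)) :
    (Algebra.IsIntegral (Localization S) (Localization (Algebra.algebraMapSubmonoid (AdjoinRoot h) S))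
        ↔ IsUnit (algebraMap (MvPolynomial (Fin 2) K) (Localization S) h.leadingCoeff))
      ∧ Module.finrank (FractionRing (MvPolynomial (Fin 2) K))
          (TensorProduct (MvPolynomial (Fin 2) K) (FractionRing (MvPolynomial (Fin 2) K)) (AdjoinRoot h)) = 2 :=
  ⟨⟨isUnit_of_integral h S, integral_of_isUnit h S⟩, finrank_tensor h hdeg⟩

end Groth.Agent.Lib.Helper8.PR5
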