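import Mathlib
set_option backward.isDefEq.respectTransparency.types false
set_option autoImplicit false
set_option linter.unusedSectionVars false
set_option linter.style.haveILetI false

universe u

namespace Groth.Agent.Lib.Helper8.PSN

open PowerSeries

section Core

variable {R : Type u} [CommRing R] [IsDomain R] {K : Type u} [Field K] [Algebra R K]
  [IsFractionRing R K]

/-- the coefficientwise embedding `R[[x]] → K[[x]]` -/
noncomputable def iot : PowerSeries R →+* PowerSeries K := PowerSeries.map (algebraMap R K)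

lemma iot_injective : Function.Injective (iot : PowerSeries R → PowerSeries K) := by
  intro f g h
  ext n
  have := congrArg (PowerSeries.coeff n) h
  simp only [iot, PowerSeries.coeff_map] at this
  exact IsFractionRing.injective R K this

lemma coeff_iot (n : ℕ) (f : PowerSeries R) :
    PowerSeries.coeff n (iot f : PowerSeries K) = algebraMap R K (PowerSeries.coeff n f) := by
  simp [iot]

/-- almost integral over `R[[x]]` -/
def AI (R : Type u) [CommRing R] [IsDomain R] {K : Type u} [Field K] [Algebra R K]
    [IsFractionRing R K] (v : PowerSeries K) : Prop :=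
  ∃ h : PowerSeries R, h ≠ 0 ∧ ∀ e : ℕ, ∃ d : PowerSeries R, v ^ e * iot h = iot d

/-- divisibility by `x` inside the image -/
lemma mem_of_X_mul (u : PowerSeries K) (d : PowerSeries R)
    (h : (PowerSeries.X : PowerSeries K) * u = iot d) :
    ∃ d' : PowerSeries R, u = iot d' := by
  refine ⟨PowerSeries.mk fun n => PowerSeries.coeff (n + 1) d, ?_⟩
  ext n
  rw [coeff_iot, PowerSeries.coeff_mk, ← coeff_iot, ← h, mul_comm, PowerSeries.coeff_succ_mul_X]

lemma mem_of_X_pow_mul (e : ℕ) (u : PowerSeries K) (d : PowerSeries R)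
    (h : (PowerSeries.X : PowerSeries K) ^ e * u = iot d) :
    ∃ d' : PowerSeries R, u = iot d' := by
  induction e generalizing d with
  | zero => exact ⟨d, by simpa using h⟩
  | succ e ih =>
    rw [pow_succ', mul_assoc] at h
    obtain ⟨d1, hd1⟩ := mem_of_X_mul _ d h
    exact ih d1 hd1

lemma AI_sub (v : PowerSeries K) (hv : AI R v) (c : PowerSeries R) : AI R (v - iot c) := by
  obtain ⟨h, hh, hd⟩ := hv
  choose d hd using hd
  refine ⟨h, hh, fun e => ?_⟩
  refine ⟨∑ m ∈ Finset.range (e + 1), d m * (-c) ^ (e - m) * (e.choose m : PowerSeries R), ?_⟩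
  rw [sub_eq_add_neg, add_pow, Finset.sum_mul, map_sum]
  refine Finset.sum_congr rfl fun m _ => ?_
  rw [map_mul, map_mul, map_pow, map_neg, ← hd m, map_natCast]
  ring

lemma AI_div_X (v w : PowerSeries K) (hv : AI R v) (hvw : v = PowerSeries.X * w) : AI R w := by
  obtain ⟨h, hh, hd⟩ := hv
  refine ⟨h, hh, fun e => ?_⟩
  obtain ⟨d, hd⟩ := hd e
  rw [hvw, mul_pow, mul_assoc] at hd
  obtain ⟨d', hd'⟩ := mem_of_X_pow_mul e _ d hd
  exact ⟨d', hd'⟩


/-- `b a^e ∈ R` for all `e` with `b ≠ 0` forces `a ∈ R` (Noetherian integrally closed). -/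
lemma mem_of_almost_integral [IsNoetherianRing R] [IsIntegrallyClosed R] (a : K) (b : R)
    (hb : b ≠ 0) (h : ∀ e : ℕ, ∃ r : R, algebraMap R K r = a ^ e * algebraMap R K b) :
    ∃ r : R, algebraMap R K r = a := by
  rw [← IsIntegrallyClosed.isIntegral_iff]
  set N : Submodule R K := Submodule.span R (Set.range fun e : ℕ => a ^ e * algebraMap R K b)
    with hN
  have hle : N ≤ LinearMap.range (Algebra.linearMap R K) := by
    rw [hN, Submodule.span_le]
    rintro _ ⟨e, rfl⟩
    obtain ⟨r, hr⟩ := h e
    exact ⟨r, hr⟩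
  have hnoeth : IsNoetherian R (LinearMap.range (Algebra.linearMap R K)) :=
    isNoetherian_of_surjective (Algebra.linearMap R K).rangeRestrict
      (LinearMap.range_eq_top.mpr (LinearMap.surjective_rangeRestrict _))
  have hfg : N.FG := (isNoetherian_submodule.mp hnoeth) N hle
  have hne : N ≠ ⊥ := by
    intro h0
    have hmem : a ^ 0 * algebraMap R K b ∈ N := Submodule.subset_span ⟨0, rfl⟩
    rw [h0, Submodule.mem_bot, pow_zero, one_mul] at hmem
    exact hb ((IsFractionRing.injective R K) (by rw [hmem, map_zero]))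
  refine isIntegral_of_smul_mem_submodule N hne hfg a ?_
  intro n hn
  rw [hN] at hn ⊢
  induction hn using Submodule.span_induction with
  | mem x hx =>
    obtain ⟨e, rfl⟩ := hx
    apply Submodule.subset_span
    exact ⟨e + 1, by simp only [smul_eq_mul, pow_succ]; ring⟩
  | zero => rw [smul_zero]; exact Submodule.zero_mem _
  | add x y _ _ hx hy => rw [smul_add]; exact Submodule.add_mem _ hx hy
  | smul r x _ hx => rw [smul_comm]; exact Submodule.smul_mem _ _ hx

lemma AI_constantCoeff [IsNoetherianRing R] [IsIntegrallyClosed R] (v : PowerSeries K)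
    (hv : AI R v) : ∃ r : R, algebraMap R K r = PowerSeries.constantCoeff v := by
  classical
  obtain ⟨h, hh, hd⟩ := hv
  set m := h.order.toNat with hm
  have hord : (m : ℕ∞) = h.order := by
    rw [hm]
    exact ENat.natCast_toNat (PowerSeries.order_finite_iff_ne_zero.mpr hh).ne
  have hbm : PowerSeries.coeff m h ≠ 0 := PowerSeries.coeff_order hh
  have hlow : ∀ j, j < m → PowerSeries.coeff j h = 0 := by
    intro j hj
    apply PowerSeries.coeff_of_lt_order
    rw [← hord]
    exact_mod_cast hj
  apply mem_of_almost_integral _ (PowerSeries.coeff m h) hbm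
  intro e
  obtain ⟨d, hd⟩ := hd e
  refine ⟨PowerSeries.coeff m d, ?_⟩
  rw [← coeff_iot, ← hd, PowerSeries.coeff_mul]
  rw [Finset.sum_eq_single (0, m)]
  · rw [coeff_iot, PowerSeries.coeff_zero_eq_constantCoeff_apply, map_pow]
  · rintro ⟨i, j⟩ hij hne
    have hij := Finset.HasAntidiagonal.mem_antidiagonal.mp hij
    simp only at hij
    have hj : j < m := by
      rcases Nat.eq_zero_or_pos i with hi | hi
      · exfalso; apply hne; subst hi; simp at hij; rw [hij]
      · omega
    rw [coeff_iot, hlow j hj, map_zero, mul_zero]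
  · intro hnm
    exfalso; apply hnm
    exact Finset.HasAntidiagonal.mem_antidiagonal.mpr (by simp)

lemma AI_coeff [IsNoetherianRing R] [IsIntegrallyClosed R] (n : ℕ) :
    ∀ v : PowerSeries K, AI R v → ∃ r : R, algebraMap R K r = PowerSeries.coeff n v := by
  induction n with
  | zero =>
    intro v hv
    obtain ⟨r, hr⟩ := AI_constantCoeff v hv
    exact ⟨r, by rw [hr, PowerSeries.coeff_zero_eq_constantCoeff_apply]⟩
  | succ n ih =>
    intro v hv
    obtain ⟨r, hr⟩ := AI_constantCoeff v hv
    have h1 : AI R (v - iot (PowerSeries.C r)) := AI_sub v hv _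
    have h2 : PowerSeries.constantCoeff (v - iot (PowerSeries.C r : PowerSeries R)) = 0 := by
      rw [map_sub, ← PowerSeries.coeff_zero_eq_constantCoeff_apply (iot _), coeff_iot]
      simp [hr]
    obtain ⟨w, hw⟩ := PowerSeries.X_dvd_iff.mpr h2
    have h3 : AI R w := AI_div_X _ w h1 hw
    obtain ⟨s, hs⟩ := ih w h3
    refine ⟨s, ?_⟩
    have : PowerSeries.coeff (n + 1) v =
        PowerSeries.coeff (n + 1) (v - iot (PowerSeries.C r : PowerSeries R)) := by
      rw [map_sub, coeff_iot]
      simp
    rw [this, hw, mul_comm, PowerSeries.coeff_succ_mul_X, hs]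

theorem AI_mem [IsNoetherianRing R] [IsIntegrallyClosed R] (v : PowerSeries K) (hv : AI R v) :
    ∃ d : PowerSeries R, iot d = v := by
  choose r hr using fun n => AI_coeff n v hv
  refine ⟨PowerSeries.mk r, ?_⟩
  ext n
  rw [coeff_iot, PowerSeries.coeff_mk, hr]

end Core


theorem main6299 (R : Type u) [CommRing R] [IsDomain R] [IsNoetherianRing R]
    [IsIntegrallyClosed R] :
    IsIntegrallyClosed (PowerSeries R) ∧ IsNoetherianRing (PowerSeries R) := by
  refine ⟨?_, inferInstance⟩
  let K := FractionRing R
  let F := FractionRing (PowerSeries R)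
  let L := FractionRing (PowerSeries K)
  rw [isIntegrallyClosed_iff F]
  intro x hx
  obtain ⟨f, g, hg, hfg⟩ := IsFractionRing.div_surjective (A := PowerSeries R) x
  have hg0 : g ≠ 0 := nonZeroDivisors.ne_zero hg
  have hgF : algebraMap (PowerSeries R) F g ≠ 0 := by
    intro h0
    exact hg0 ((IsFractionRing.injective (PowerSeries R) F) (by rw [h0, map_zero]))
  have hxg : x * algebraMap (PowerSeries R) F g = algebraMap (PowerSeries R) F f := by
    rw [← hfg, div_mul_cancel₀ _ hgF]
  set n := (minpoly (PowerSeries R) x).natDegree with hn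
  -- almost integrality in F
  have hspan : ∀ u ∈ Submodule.span (PowerSeries R) (Set.range fun i : Fin n => x ^ (i : ℕ)),
      ∃ d : PowerSeries R, algebraMap (PowerSeries R) F d =
        algebraMap (PowerSeries R) F g ^ n * u := by
    intro u hu
    induction hu using Submodule.span_induction with
    | mem u hu =>
      obtain ⟨i, rfl⟩ := hu
      refine ⟨g ^ (n - i) * f ^ (i : ℕ), ?_⟩
      have hi : (i : ℕ) ≤ n := i.2.le
      have e1 : algebraMap (PowerSeries R) F g ^ n =
          algebraMap (PowerSeries R) F g ^ (n - i) * algebraMap (PowerSeries R) F g ^ (i : ℕ) := by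
        rw [← pow_add]; congr 1; omega
      simp only
      rw [map_mul, map_pow, map_pow, ← hxg, e1, mul_pow]
      ring
    | zero => exact ⟨0, by simp⟩
    | add u w _ _ hu hw =>
      obtain ⟨d1, h1⟩ := hu
      obtain ⟨d2, h2⟩ := hw
      exact ⟨d1 + d2, by rw [map_add, h1, h2]; ring⟩
    | smul c u _ hu =>
      obtain ⟨d1, h1⟩ := hu
      exact ⟨c * d1, by rw [map_mul, h1, Algebra.smul_def]; ring⟩
  have hpow : ∀ e : ℕ, ∃ d : PowerSeries R, algebraMap (PowerSeries R) F d =
      algebraMap (PowerSeries R) F g ^ n * x ^ e := by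
    intro e
    apply hspan
    exact hx.mem_span_pow ⟨Polynomial.X ^ e, by simp⟩
  -- transfer to K[[x]]
  have hinj : Function.Injective ((algebraMap (PowerSeries K) L).comp
      (iot : PowerSeries R →+* PowerSeries K)) :=
    (IsFractionRing.injective (PowerSeries K) L).comp iot_injective
  let φ : F →+* L := IsFractionRing.lift hinj
  have hφ : ∀ d : PowerSeries R, φ (algebraMap (PowerSeries R) F d) =
      algebraMap (PowerSeries K) L (iot d) := fun d => IsFractionRing.lift_algebraMap hinj d
  have hint : IsIntegral (PowerSeries K) (φ x) := by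
    obtain ⟨P, hPm, hP⟩ := hx
    refine ⟨P.map iot, hPm.map _, ?_⟩
    rw [Polynomial.eval₂_map]
    have h1 := congrArg φ hP
    rw [Polynomial.hom_eval₂, map_zero] at h1
    have h2 : φ.comp (algebraMap (PowerSeries R) F) =
        (algebraMap (PowerSeries K) L).comp iot := by
      ext d
      simp only [RingHom.comp_apply]
      exact hφ d
    rw [← h2]
    exact h1
  obtain ⟨v, hv⟩ := IsIntegrallyClosed.isIntegral_iff.mp hint
  have hAI : AI R v := by
    refine ⟨g ^ n, pow_ne_zero _ hg0, fun e => ?_⟩
    obtain ⟨d, hd⟩ := hpow e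
    refine ⟨d, ?_⟩
    apply IsFractionRing.injective (PowerSeries K) L
    calc algebraMap (PowerSeries K) L (v ^ e * iot (g ^ n))
        = (algebraMap (PowerSeries K) L v) ^ e * (algebraMap (PowerSeries K) L (iot g)) ^ n := by
          rw [map_mul, map_pow, map_pow, map_pow]
      _ = (φ x) ^ e * (φ (algebraMap (PowerSeries R) F g)) ^ n := by rw [hv, hφ g]
      _ = φ (algebraMap (PowerSeries R) F g ^ n * x ^ e) := by
          rw [map_mul, map_pow, map_pow]; ring
      _ = φ (algebraMap (PowerSeries R) F d) := by rw [hd]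
      _ = algebraMap (PowerSeries K) L (iot d) := hφ d
  obtain ⟨d, hd⟩ := AI_mem v hAI
  refine ⟨d, ?_⟩
  apply φ.injective
  rw [hφ d, hd, hv]

end Groth.Agent.Lib.Helper8.PSN
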