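import Mathlib
set_option backward.isDefEq.respectTransparency.types false
set_option autoImplicit false
set_option linter.unusedSectionVars false
set_option linter.style.haveILetI false

namespace Groth.Agent.Lib.Helper8.CubicK

open Matrix

variable {k : Type*} [Field k] [CharZero k]

/-- A cubic polynomial function vanishing identically has zero coefficients. -/
lemma cubic_coeffs_zero (c₀ c₁ c₂ c₃ : k) (h : ∀ t : k, c₀ + c₁ * t + c₂ * t ^ 2 + c₃ * t ^ 3 = 0) :
    c₀ = 0 ∧ c₁ = 0 ∧ c₂ = 0 ∧ c₃ = 0 := by
  have h0 := h 0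
  have h1 := h 1
  have h2 := h (-1)
  have h3 := h 2
  have e0 : c₀ = 0 := by linear_combination h0
  have e2 : c₂ = 0 := by linear_combination (1 / 2 : k) * h1 + (1 / 2 : k) * h2 - h0
  have e3 : c₃ = 0 := by
    linear_combination (1 / 6 : k) * h3 - (1 / 6 : k) * h1 + (1 / 6 : k) * h2 - (1 / 6 : k) * e0
      - (4 / 6 : k) * e2
  have e1 : c₁ = 0 := by linear_combination h1 - e0 - e2 - e3
  exact ⟨e0, e1, e2, e3⟩

section deriv

variable {n : Type*} [Fintype n] [DecidableEq n]

/-- Leibniz rule for the entrywise derivative of a product of polynomial matrices. -/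
lemma map_derivative_mul (M N : Matrix n n (Polynomial k)) :
    (M * N).map Polynomial.derivative =
      M.map Polynomial.derivative * N + M * N.map Polynomial.derivative := by
  ext i j
  simp only [Matrix.map_apply, Matrix.mul_apply, Matrix.add_apply, map_sum,
    Polynomial.derivative_mul, Finset.sum_add_distrib]

/-- If the determinant of a symmetric polynomial matrix has a double root at `τ₀`, then
`adj(M₀)ᵀ M₁ adj(M₀) = 0`, with `M₀` the value and `M₁` the derivative at `τ₀`. -/
lemma adj_deriv_adj_eq_zero (M : Matrix n n (Polynomial k)) (hM : Mᵀ = M) (τ₀ : k)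
    (h0 : Polynomial.eval τ₀ M.det = 0)
    (h1 : Polynomial.eval τ₀ (Polynomial.derivative M.det) = 0) :
    (adjugate (M.map (Polynomial.eval τ₀)))ᵀ * (M.map Polynomial.derivative).map (Polynomial.eval τ₀)
      * adjugate (M.map (Polynomial.eval τ₀)) = 0 := by
  set ev : Polynomial k →+* k := Polynomial.evalRingHom τ₀ with hev
  have hmap : ∀ N : Matrix n n (Polynomial k), N.map (Polynomial.eval τ₀) = ev.mapMatrix N := by
    intro N; rfl
  -- the basic identity and its derivative
  have hbasic : M * adjugate M = M.det • (1 : Matrix n n (Polynomial k)) := Matrix.mul_adjugate M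
  have hder : (M * adjugate M).map Polynomial.derivative
      = (M.det • (1 : Matrix n n (Polynomial k))).map Polynomial.derivative := by rw [hbasic]
  rw [map_derivative_mul] at hder
  have hder2 : (M.map Polynomial.derivative * adjugate M
      + M * (adjugate M).map Polynomial.derivative).map (Polynomial.eval τ₀)
      = ((M.det • (1 : Matrix n n (Polynomial k))).map Polynomial.derivative).map
        (Polynomial.eval τ₀) := by rw [hder]
  have hrhs : ((M.det • (1 : Matrix n n (Polynomial k))).map Polynomial.derivative).map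
      (Polynomial.eval τ₀) = 0 := by
    ext i j
    simp only [Matrix.map_apply, Matrix.smul_apply, Matrix.zero_apply, smul_eq_mul]
    by_cases hij : i = j
    · subst hij
      simp [h1]
    · simp [Matrix.one_apply_ne hij]
  rw [hrhs] at hder2
  -- evaluate
  have hA0 : (adjugate M).map (Polynomial.eval τ₀) = adjugate (M.map (Polynomial.eval τ₀)) := by
    rw [hmap, hmap]
    exact (RingHom.map_adjugate ev M)
  have hsum : (M.map Polynomial.derivative).map (Polynomial.eval τ₀)
        * adjugate (M.map (Polynomial.eval τ₀))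
      + M.map (Polynomial.eval τ₀) * ((adjugate M).map Polynomial.derivative).map
        (Polynomial.eval τ₀) = 0 := by
    rw [← hA0]
    have e1 : ∀ A B : Matrix n n (Polynomial k),
        (A * B).map (Polynomial.eval τ₀) = A.map (Polynomial.eval τ₀) * B.map (Polynomial.eval τ₀) := by
      intro A B
      rw [hmap, hmap, hmap, map_mul]
    have e2 : ∀ A B : Matrix n n (Polynomial k),
        (A + B).map (Polynomial.eval τ₀) = A.map (Polynomial.eval τ₀) + B.map (Polynomial.eval τ₀) := by
      intro A B
      rw [hmap, hmap, hmap, map_add]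
    rw [← e1, ← e1, ← e2]
    exact hder2
  have hM0 : (M.map (Polynomial.eval τ₀))ᵀ = M.map (Polynomial.eval τ₀) := by
    rw [← Matrix.transpose_map, hM]
  have hdet0 : (M.map (Polynomial.eval τ₀)).det = 0 := by
    rw [hmap, ← RingHom.map_det]
    exact h0
  have hMA : M.map (Polynomial.eval τ₀) * adjugate (M.map (Polynomial.eval τ₀)) = 0 := by
    rw [Matrix.mul_adjugate, hdet0, zero_smul]
  have hAM : (adjugate (M.map (Polynomial.eval τ₀)))ᵀ * M.map (Polynomial.eval τ₀) = 0 := by
    have := congrArg Matrix.transpose hMA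
    rw [Matrix.transpose_mul, hM0, Matrix.transpose_zero] at this
    exact this
  have := congrArg (fun N => (adjugate (M.map (Polynomial.eval τ₀)))ᵀ * N) hsum
  simp only [Matrix.mul_add, Matrix.mul_zero] at this
  rw [← Matrix.mul_assoc, ← Matrix.mul_assoc, hAM, Matrix.zero_mul, add_zero] at this
  exact this

end deriv

/-- From a nonzero adjugate of a singular symmetric matrix whose determinant has a double root, one
gets a kernel vector which is isotropic for the derivative. -/
lemma exists_kernel_isotropic {n : Type*} [Fintype n] [DecidableEq n]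
    (M : Matrix n n (Polynomial k)) (hM : Mᵀ = M) (τ₀ : k)
    (h0 : Polynomial.eval τ₀ M.det = 0)
    (h1 : Polynomial.eval τ₀ (Polynomial.derivative M.det) = 0)
    (hadj : adjugate (M.map (Polynomial.eval τ₀)) ≠ 0) :
    ∃ u : n → k, u ≠ 0 ∧ (M.map (Polynomial.eval τ₀)) *ᵥ u = 0 ∧
      u ⬝ᵥ ((M.map Polynomial.derivative).map (Polynomial.eval τ₀)) *ᵥ u = 0 := by
  have key := adj_deriv_adj_eq_zero M hM τ₀ h0 h1
  have hdet0 : (M.map (Polynomial.eval τ₀)).det = 0 := by
    have : M.map (Polynomial.eval τ₀) = (Polynomial.evalRingHom τ₀).mapMatrix M := rfl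
    rw [this, ← RingHom.map_det]
    exact h0
  obtain ⟨M0, hM0⟩ : ∃ M0 : Matrix n n k, M0 = M.map (Polynomial.eval τ₀) := ⟨_, rfl⟩
  obtain ⟨M1, hM1⟩ : ∃ M1 : Matrix n n k,
      M1 = (M.map Polynomial.derivative).map (Polynomial.eval τ₀) := ⟨_, rfl⟩
  rw [← hM0, ← hM1] at key ⊢
  rw [← hM0] at hadj hdet0
  obtain ⟨A, hA⟩ : ∃ A : Matrix n n k, A = adjugate M0 := ⟨_, rfl⟩
  have hMA : M0 * A = 0 := by rw [hA, Matrix.mul_adjugate, hdet0, zero_smul]
  rw [← hA] at key hadj
  obtain ⟨i, j, hij⟩ : ∃ i j, A i j ≠ 0 := by
    by_contra hcon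
    push Not at hcon
    exact hadj (Matrix.ext hcon)
  refine ⟨fun l => A l j, ?_, ?_, ?_⟩
  · intro h
    exact hij (congrFun h i)
  · funext l
    have := congrFun (congrFun hMA l) j
    simpa [Matrix.mul_apply, Matrix.mulVec, dotProduct] using this
  · have h2 := congrFun (congrFun key j) j
    simp only [Matrix.mul_apply, Matrix.transpose_apply, Matrix.zero_apply] at h2
    simp only [dotProduct, Matrix.mulVec]
    rw [← h2]
    simp only [Finset.mul_sum, Finset.sum_mul]
    rw [Finset.sum_comm]
    refine Finset.sum_congr rfl fun x _ => ?_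
    refine Finset.sum_congr rfl fun y _ => ?_
    ring

end Groth.Agent.Lib.Helper8.CubicK
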