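import Mathlib
import Groth.Agent.Lib.Helper8.Tri1
import Groth.Agent.Lib.Helper8.Node1
import Groth.Agent.Lib.Helper8.CubicK8
set_option backward.isDefEq.respectTransparency.types false
set_option autoImplicit false
set_option linter.unusedSectionVars false
set_option linter.style.haveILetI false

namespace Groth.Agent.Lib.Helper8.CubicK

open MvPolynomial Matrix

variable {k : Type*} [Field k] [CharZero k] [IsAlgClosed k] {f : MvPolynomial (Fin 4) k}

/-- the parametrisation of the plane spanned by `a, b, w` -/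
def planePt (a b w : Fin 4 → k) (u : Fin 3 → k) : Fin 4 → k := u 0 • a + u 1 • b + u 2 • w

lemma planePt_add (a b w : Fin 4 → k) (u u' : Fin 3 → k) :
    planePt a b w (u + u') = planePt a b w u + planePt a b w u' := by
  unfold planePt; simp only [Pi.add_apply]; module

lemma planePt_smul (a b w : Fin 4 → k) (t : k) (u : Fin 3 → k) :
    planePt a b w (t • u) = t • planePt a b w u := by
  unfold planePt; simp only [Pi.smul_apply, smul_eq_mul]; module

/-- the symmetric matrix of the residual conic in the plane spanned by the line `⟨a, b⟩` and `w` -/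
noncomputable def triMat (P : Polar f) (a b w : Fin 4 → k) : Matrix (Fin 3) (Fin 3) k :=
  !![3 * P.T a a w, 3 * P.T a b w, 3 / 2 * P.T a w w;
     3 * P.T a b w, 3 * P.T b b w, 3 / 2 * P.T b w w;
     3 / 2 * P.T a w w, 3 / 2 * P.T b w w, eval w f]

/-- the derivative of `triMat` in the direction `c` -/
noncomputable def triMat1 (P : Polar f) (a b w c : Fin 4 → k) : Matrix (Fin 3) (Fin 3) k :=
  !![3 * P.T a a c, 3 * P.T a b c, 3 * P.T a w c;
     3 * P.T a b c, 3 * P.T b b c, 3 * P.T b w c;
     3 * P.T a w c, 3 * P.T b w c, 3 * P.T w w c]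

lemma triMat_transpose (P : Polar f) (a b w : Fin 4 → k) : (triMat P a b w)ᵀ = triMat P a b w := by
  ext i j
  fin_cases i <;> fin_cases j <;> rfl

lemma dot_mulVec_symm {M : Matrix (Fin 3) (Fin 3) k} (hM : Mᵀ = M) (u u' : Fin 3 → k) :
    u ⬝ᵥ M *ᵥ u' = u' ⬝ᵥ M *ᵥ u := by
  rw [Matrix.dotProduct_mulVec, ← hM, Matrix.vecMul_transpose, hM, dotProduct_comm]

lemma dot_triMat (P : Polar f) (a b w : Fin 4 → k) (u : Fin 3 → k) :
    u ⬝ᵥ triMat P a b w *ᵥ u = 3 * P.T a a w * u 0 ^ 2 + 6 * P.T a b w * u 0 * u 1
      + 3 * P.T b b w * u 1 ^ 2 + 3 * P.T a w w * u 0 * u 2 + 3 * P.T b w w * u 1 * u 2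
      + eval w f * u 2 ^ 2 := by
  simp [triMat, dotProduct, Matrix.mulVec, Fin.sum_univ_three, Matrix.vecHead, Matrix.vecTail]
  ring

lemma dot_triMat1 (P : Polar f) (a b w c : Fin 4 → k) (u : Fin 3 → k) :
    u ⬝ᵥ triMat1 P a b w c *ᵥ u = 3 * P.T (planePt a b w u) (planePt a b w u) c := by
  unfold planePt
  rw [P.quad_expand]
  simp [triMat1, dotProduct, Matrix.mulVec, Fin.sum_univ_three, Matrix.vecHead, Matrix.vecTail]
  ring

section line

variable (P : Polar f) {a b : Fin 4 → k} (hL : ∀ x y : k, eval (x • a + y • b) f = 0)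

include hL in
lemma line_T : eval a f = 0 ∧ P.T a a b = 0 ∧ P.T a b b = 0 ∧ eval b f = 0 := by
  apply P.T_eq_zero_of_line a b
  intro t
  have := hL 1 t
  rwa [one_smul] at this

include hL in
/-- The cubic on the plane is the linear form of the line times the residual conic. -/
lemma eval_planePt (w : Fin 4 → k) (u : Fin 3 → k) :
    eval (planePt a b w u) f = u 2 * (u ⬝ᵥ triMat P a b w *ᵥ u) := by
  obtain ⟨h1, h2, h3, h4⟩ := line_T P hL
  unfold planePt
  rw [P.cube_three, dot_triMat, h1, h2, h3, h4]
  ring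

include hL in
/-- Polarisation of `eval_planePt`. -/
lemma polar_planePt (w : Fin 4 → k) (u u' : Fin 3 → k) :
    3 * P.T (planePt a b w u) (planePt a b w u) (planePt a b w u') =
      u' 2 * (u ⬝ᵥ triMat P a b w *ᵥ u) + 2 * u 2 * (u' ⬝ᵥ triMat P a b w *ᵥ u) := by
  set M := triMat P a b w with hM
  have hsymm := dot_mulVec_symm (triMat_transpose P a b w)
  rw [← hM] at hsymm
  have key : ∀ t : k, (eval (planePt a b w u) f - u 2 * (u ⬝ᵥ M *ᵥ u))
      + (3 * P.T (planePt a b w u) (planePt a b w u) (planePt a b w u')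
          - (u' 2 * (u ⬝ᵥ M *ᵥ u) + 2 * u 2 * (u' ⬝ᵥ M *ᵥ u))) * t
      + (3 * P.T (planePt a b w u) (planePt a b w u') (planePt a b w u')
          - (u 2 * (u' ⬝ᵥ M *ᵥ u') + 2 * u' 2 * (u' ⬝ᵥ M *ᵥ u))) * t ^ 2
      + (eval (planePt a b w u') f - u' 2 * (u' ⬝ᵥ M *ᵥ u')) * t ^ 3 = 0 := by
    intro t
    have h1 := eval_planePt P hL w (u + t • u')
    rw [planePt_add, planePt_smul, P.cube_add, ← hM] at h1
    simp only [Matrix.mulVec_add, Matrix.mulVec_smul, dotProduct_add, add_dotProduct,
      smul_dotProduct, dotProduct_smul, Pi.add_apply, Pi.smul_apply, smul_eq_mul] at h1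
    rw [hsymm u u'] at h1
    linear_combination h1
  exact sub_eq_zero.mp (cubic_coeffs_zero _ _ _ _ key).2.1

include hL in
lemma T_planePt_of_kernel {w : Fin 4 → k} {u : Fin 3 → k} (hker : triMat P a b w *ᵥ u = 0)
    (u' : Fin 3 → k) :
    P.T (planePt a b w u) (planePt a b w u) (planePt a b w u') = 0 := by
  have h := polar_planePt P hL w u u'
  rw [hker, dotProduct_zero, dotProduct_zero] at h
  have h3 : (3 : k) ≠ 0 := by norm_num
  have : 3 * P.T (planePt a b w u) (planePt a b w u) (planePt a b w u') = 0 := by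
    rw [h]; ring
  exact (mul_eq_zero.mp this).resolve_left h3

include hL in
lemma eval_planePt_of_kernel {w : Fin 4 → k} {u : Fin 3 → k} (hker : triMat P a b w *ᵥ u = 0) :
    eval (planePt a b w u) f = 0 := by
  rw [eval_planePt P hL, hker, dotProduct_zero, mul_zero]

variable (hsm : Smooth f) {w c : Fin 4 → k}
  (hbasis : ∀ x : Fin 4 → k, ∃ (u : Fin 3 → k) (y : k), x = planePt a b w u + y • c)
  (hinj : ∀ u : Fin 3 → k, planePt a b w u = 0 → u = 0)

include hsm hbasis in
/-- A point of the surface whose tangent form vanishes on a basis contradicts smoothness. -/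
lemma not_singular_planePt {Q : Fin 4 → k} (hQ0 : Q ≠ 0) (hfQ : eval Q f = 0)
    (h1 : ∀ u' : Fin 3 → k, P.T Q Q (planePt a b w u') = 0) (h2 : P.T Q Q c = 0) : False := by
  obtain ⟨y, hy⟩ := P.not_singular hsm hQ0 hfQ
  obtain ⟨u, t, rfl⟩ := hbasis y
  apply hy
  rw [P.add₃, P.smul₃, h1, h2]
  ring

include hL hsm hbasis hinj in
/-- A kernel vector of the conic matrix which is isotropic for the derivative matrix gives a
singular point. -/
lemma not_kernel_isotropic {u : Fin 3 → k} (hu : u ≠ 0) (hker : triMat P a b w *ᵥ u = 0)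
    (hiso : u ⬝ᵥ triMat1 P a b w c *ᵥ u = 0) : False := by
  rw [dot_triMat1] at hiso
  have h3 : (3 : k) ≠ 0 := by norm_num
  refine not_singular_planePt P hsm hbasis (Q := planePt a b w u) (fun h => hu (hinj u h))
    (eval_planePt_of_kernel P hL hker) (T_planePt_of_kernel P hL hker)
    ((mul_eq_zero.mp hiso).resolve_left h3)

include hL hsm hbasis hinj in
/-- The conic matrix never has a two-dimensional kernel. -/
lemma not_kernel_functional (ρ : (Fin 3 → k) →ₗ[k] k) (hρ : ρ ≠ 0)
    (hker : ∀ u, ρ u = 0 → triMat P a b w *ᵥ u = 0) : False := by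
  have hfr : Module.finrank k (LinearMap.ker ρ) = 2 := by
    have h1 := Module.Dual.finrank_ker_add_one_of_ne_zero (K := k) (V₁ := Fin 3 → k) (f := ρ) hρ
    rw [Module.finrank_fin_fun] at h1
    omega
  obtain ⟨u₁, hu₁K, hu₁⟩ := exists_notMem_span_singleton' (LinearMap.ker ρ) (by omega) 0
  have hu₁0 : u₁ ≠ 0 := by
    intro h0
    apply hu₁
    rw [h0]
    exact Submodule.zero_mem _
  obtain ⟨u₂, hu₂K, hu₂⟩ := exists_notMem_span_singleton' (LinearMap.ker ρ) (by omega) u₁
  have hι₁ : planePt a b w u₁ ≠ 0 := fun h => hu₁0 (hinj _ h)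
  have hι₂ : planePt a b w u₂ ∉ Submodule.span k {planePt a b w u₁} := by
    intro hmem
    obtain ⟨t, ht⟩ := Submodule.mem_span_singleton.mp hmem
    apply hu₂
    rw [Submodule.mem_span_singleton]
    refine ⟨t, ?_⟩
    have : planePt a b w (u₂ - t • u₁) = 0 := by
      have e : u₂ - t • u₁ = u₂ + (-t) • u₁ := by rw [neg_smul, sub_eq_add_neg]
      rw [e, planePt_add, planePt_smul, ← ht]
      module
    have := hinj _ this
    rw [sub_eq_zero] at this
    exact this.symm
  obtain ⟨s, t, hQ0, hQ⟩ := P.exists_root_on_plane (planePt a b w u₂) (planePt a b w u₁) c hι₂ hι₁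
  have hQeq : s • planePt a b w u₂ + t • planePt a b w u₁ = planePt a b w (s • u₂ + t • u₁) := by
    rw [planePt_add, planePt_smul, planePt_smul]
  rw [hQeq] at hQ0 hQ
  have hρu : ρ (s • u₂ + t • u₁) = 0 := by
    rw [map_add, map_smul, map_smul, LinearMap.mem_ker.mp hu₁K, LinearMap.mem_ker.mp hu₂K]
    simp
  have hk := hker _ hρu
  exact not_singular_planePt P hsm hbasis hQ0 (eval_planePt_of_kernel P hL hk)
    (T_planePt_of_kernel P hL hk) hQ

end line

/-- A symmetric `3 × 3` matrix all of whose `2 × 2` minors vanish kills a plane. -/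
lemma rank_le_one (A B C D E F : k) (h1 : C * F - E ^ 2 = 0) (h2 : A * F - D ^ 2 = 0)
    (h3 : A * C - B ^ 2 = 0) (h4 : B * F - D * E = 0) (h5 : B * E - C * D = 0)
    (h6 : A * E - B * D = 0) :
    ∃ r : Fin 3 → k, r ≠ 0 ∧ ∀ u : Fin 3 → k, r 0 * u 0 + r 1 * u 1 + r 2 * u 2 = 0 →
      (A * u 0 + B * u 1 + D * u 2 = 0 ∧ B * u 0 + C * u 1 + E * u 2 = 0 ∧
        D * u 0 + E * u 1 + F * u 2 = 0) := by
  by_cases hA : A = 0
  · by_cases hC : C = 0
    · by_cases hF : F = 0
      · subst hA hC hF
        have hB : B = 0 := by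
          have : B ^ 2 = 0 := by linear_combination -h3
          exact pow_eq_zero_iff (two_ne_zero) |>.mp this
        have hD : D = 0 := by
          have : D ^ 2 = 0 := by linear_combination -h2
          exact pow_eq_zero_iff (two_ne_zero) |>.mp this
        have hE : E = 0 := by
          have : E ^ 2 = 0 := by linear_combination -h1
          exact pow_eq_zero_iff (two_ne_zero) |>.mp this
        subst hB hD hE
        refine ⟨![1, 0, 0], ?_, ?_⟩
        · intro h
          have := congrFun h 0
          simp at this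
        · intro u _
          simp
      · refine ⟨![D, E, F], ?_, ?_⟩
        · intro h
          have := congrFun h 2
          simp at this
          exact hF this
        · intro u hu
          simp only [Matrix.cons_val_zero, Matrix.cons_val_one, Matrix.cons_val_two,
            Matrix.tail_cons, Matrix.head_cons] at hu
          refine ⟨?_, ?_, hu⟩
          · have : F * (A * u 0 + B * u 1 + D * u 2) = 0 := by
              linear_combination D * hu + u 0 * h2 + u 1 * h4
            exact (mul_eq_zero.mp this).resolve_left hF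
          · have : F * (B * u 0 + C * u 1 + E * u 2) = 0 := by
              linear_combination E * hu + u 0 * h4 + u 1 * h1
            exact (mul_eq_zero.mp this).resolve_left hF
    · refine ⟨![B, C, E], ?_, ?_⟩
      · intro h
        have := congrFun h 1
        simp at this
        exact hC this
      · intro u hu
        simp only [Matrix.cons_val_zero, Matrix.cons_val_one, Matrix.cons_val_two,
          Matrix.tail_cons, Matrix.head_cons] at hu
        refine ⟨?_, hu, ?_⟩
        · have : C * (A * u 0 + B * u 1 + D * u 2) = 0 := by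
            linear_combination B * hu + u 0 * h3 - u 2 * h5
          exact (mul_eq_zero.mp this).resolve_left hC
        · have : C * (D * u 0 + E * u 1 + F * u 2) = 0 := by
            linear_combination E * hu - u 0 * h5 + u 2 * h1
          exact (mul_eq_zero.mp this).resolve_left hC
  · refine ⟨![A, B, D], ?_, ?_⟩
    · intro h
      have := congrFun h 0
      simp at this
      exact hA this
    · intro u hu
      simp only [Matrix.cons_val_zero, Matrix.cons_val_one, Matrix.cons_val_two,
        Matrix.tail_cons, Matrix.head_cons] at hu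
      refine ⟨hu, ?_, ?_⟩
      · have : A * (B * u 0 + C * u 1 + E * u 2) = 0 := by
          linear_combination B * hu + u 1 * h3 + u 2 * h6
        exact (mul_eq_zero.mp this).resolve_left hA
      · have : A * (D * u 0 + E * u 1 + F * u 2) = 0 := by
          linear_combination D * hu + u 1 * h6 + u 2 * h2
        exact (mul_eq_zero.mp this).resolve_left hA

end Groth.Agent.Lib.Helper8.CubicK
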