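import Mathlib
import Groth.Agent.Lib.Helper8.Tri2
set_option backward.isDefEq.respectTransparency.types false
set_option autoImplicit false
set_option linter.unusedSectionVars false
set_option linter.style.haveILetI false

namespace Groth.Agent.Lib.Helper8.CubicK

open Matrix

variable {k : Type*} [Field k] [CharZero k] [IsAlgClosed k] {f : MvPolynomial (Fin 4) k}

open Polynomial in
/-- the polynomial matrix `τ ↦ triMat (τ c + d)` -/
noncomputable def triPoly (P : Polar f) (a b c d : Fin 4 → k) : Matrix (Fin 3) (Fin 3) k[X] :=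
  !![C (3 * P.T a a d) + C (3 * P.T a a c) * X, C (3 * P.T a b d) + C (3 * P.T a b c) * X,
       C (3 / 2 * P.T a d d) + C (3 * P.T a c d) * X + C (3 / 2 * P.T a c c) * X ^ 2;
     C (3 * P.T a b d) + C (3 * P.T a b c) * X, C (3 * P.T b b d) + C (3 * P.T b b c) * X,
       C (3 / 2 * P.T b d d) + C (3 * P.T b c d) * X + C (3 / 2 * P.T b c c) * X ^ 2;
     C (3 / 2 * P.T a d d) + C (3 * P.T a c d) * X + C (3 / 2 * P.T a c c) * X ^ 2,
       C (3 / 2 * P.T b d d) + C (3 * P.T b c d) * X + C (3 / 2 * P.T b c c) * X ^ 2,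
       C (MvPolynomial.eval d f) + C (3 * P.T c d d) * X + C (3 * P.T c c d) * X ^ 2
         + C (MvPolynomial.eval c f) * X ^ 3]

lemma triPoly_transpose (P : Polar f) (a b c d : Fin 4 → k) :
    (triPoly P a b c d)ᵀ = triPoly P a b c d := by
  ext i j
  fin_cases i <;> fin_cases j <;> rfl

lemma triPoly_map_eval (P : Polar f) (a b c d : Fin 4 → k) (τ : k) :
    (triPoly P a b c d).map (Polynomial.eval τ) = triMat P a b (τ • c + d) := by
  have e1' : ∀ x y : Fin 4 → k, P.T x y (τ • c + d) = τ * P.T x y c + P.T x y d := by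
    intro x y; rw [P.add₃, P.smul₃]
  have e1a := e1' a a
  have e1b := e1' a b
  have e1c := e1' b b
  have e2 : ∀ x : Fin 4 → k, P.T x (τ • c + d) (τ • c + d)
      = τ ^ 2 * P.T x c c + 2 * τ * P.T x c d + P.T x d d := by
    intro x
    simp only [P.add₂, P.add₃, P.smul₂, P.smul₃]
    rw [P.swap₂₃ x d c]; ring
  have e3 : MvPolynomial.eval (τ • c + d) f = MvPolynomial.eval d f + 3 * τ * P.T c d d
      + 3 * τ ^ 2 * P.T c c d + τ ^ 3 * MvPolynomial.eval c f := by
    rw [add_comm, P.cube_add, P.swap₁₃ d d c, P.swap₁₃ d c c]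
  ext i j
  fin_cases i <;> fin_cases j <;>
    simp [triPoly, triMat, e1a, e1b, e1c, e2, e3] <;> ring

lemma triPoly_deriv_eval (P : Polar f) (a b c d : Fin 4 → k) (τ : k) :
    ((triPoly P a b c d).map Polynomial.derivative).map (Polynomial.eval τ)
      = triMat1 P a b (τ • c + d) c := by
  have e1' : ∀ x : Fin 4 → k, P.T x (τ • c + d) c = τ * P.T x c c + P.T x c d := by
    intro x
    rw [P.add₂, P.smul₂, P.swap₂₃ x d c]
  have e1a := e1' a
  have e1b := e1' b
  have e2 : P.T (τ • c + d) (τ • c + d) c
      = τ ^ 2 * MvPolynomial.eval c f + 2 * τ * P.T c c d + P.T c d d := by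
    simp only [P.add₁, P.add₂, P.smul₁, P.smul₂]
    rw [P.diag, P.swap₂₃ c d c, P.swap₁₃ d c c, P.swap₁₃ d d c]; ring
  ext i j
  fin_cases i <;> fin_cases j <;>
    simp [triPoly, triMat1, e1a, e1b, e2] <;> ring

/-- the discriminant quintic of the pencil of planes through the line `⟨a, b⟩` -/
noncomputable def triDisc (P : Polar f) (a b c d : Fin 4 → k) : Polynomial k :=
  (triPoly P a b c d).det

lemma eval_triDisc (P : Polar f) (a b c d : Fin 4 → k) (τ : k) :
    Polynomial.eval τ (triDisc P a b c d) = (triMat P a b (τ • c + d)).det := by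
  rw [← triPoly_map_eval]
  unfold triDisc
  have : (triPoly P a b c d).map (Polynomial.eval τ)
      = (Polynomial.evalRingHom τ).mapMatrix (triPoly P a b c d) := rfl
  rw [this, ← RingHom.map_det]
  rfl

section simple

variable (P : Polar f) {a b : Fin 4 → k} (hL : ∀ x y : k, MvPolynomial.eval (x • a + y • b) f = 0)
  (hsm : Smooth f)

include hL hsm in
/-- The discriminant quintic has only simple roots. -/
lemma triDisc_simple_root {c d : Fin 4 → k} (τ : k)
    (hbasis : ∀ x : Fin 4 → k, ∃ (u : Fin 3 → k) (y : k),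
      x = planePt a b (τ • c + d) u + y • c)
    (hinj : ∀ u : Fin 3 → k, planePt a b (τ • c + d) u = 0 → u = 0)
    (h0 : Polynomial.eval τ (triDisc P a b c d) = 0) :
    Polynomial.eval τ (Polynomial.derivative (triDisc P a b c d)) ≠ 0 := by
  intro h1
  by_cases hadj : adjugate ((triPoly P a b c d).map (Polynomial.eval τ)) = 0
  · -- rank at most one
    rw [triPoly_map_eval] at hadj
    have hs' : ∀ i j, triMat P a b (τ • c + d) i j = triMat P a b (τ • c + d) j i := by
      intro i j
      have := congrFun (congrFun (triMat_transpose P a b (τ • c + d)) i) j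
      rw [Matrix.transpose_apply] at this
      exact this.symm
    obtain ⟨M, hM⟩ : ∃ M : Matrix (Fin 3) (Fin 3) k, M = triMat P a b (τ • c + d) := ⟨_, rfl⟩
    rw [← hM] at hadj hs'
    have hs := hs'
    have hadj' := hadj
    rw [Matrix.adjugate_fin_three] at hadj'
    have g00 := congrFun (congrFun hadj' 0) 0
    have g11 := congrFun (congrFun hadj' 1) 1
    have g22 := congrFun (congrFun hadj' 2) 2
    have g01 := congrFun (congrFun hadj' 0) 1
    have g02 := congrFun (congrFun hadj' 0) 2
    have g12 := congrFun (congrFun hadj' 1) 2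
    simp only [Matrix.of_apply, Matrix.cons_val_zero, Matrix.cons_val_one, Matrix.cons_val_two,
      Matrix.cons_val', Matrix.tail_cons, Matrix.head_cons, Matrix.cons_val_fin_one,
      Matrix.empty_val', Matrix.zero_apply, Matrix.head_fin_const] at g00 g11 g22 g01 g02 g12
    rw [hs 1 0, hs 2 0, hs 2 1] at *
    obtain ⟨r, hr0, hr⟩ := rank_le_one (M 0 0) (M 0 1) (M 1 1) (M 0 2) (M 1 2) (M 2 2)
      (by linear_combination g00) (by linear_combination g11) (by linear_combination g22)
      (by linear_combination -g01) (by linear_combination g02) (by linear_combination -g12)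
    let ρ : (Fin 3 → k) →ₗ[k] k :=
      { toFun := fun u => r 0 * u 0 + r 1 * u 1 + r 2 * u 2
        map_add' := by intro u v; simp only [Pi.add_apply]; ring
        map_smul' := by intro t u; simp only [Pi.smul_apply, smul_eq_mul, RingHom.id_apply]; ring }
    have hρ : ρ ≠ 0 := by
      intro h
      apply hr0
      funext i
      have h' := LinearMap.congr_fun h (Pi.single i 1)
      change r 0 * (Pi.single i (1 : k) : Fin 3 → k) 0 + r 1 * (Pi.single i (1 : k) : Fin 3 → k) 1
        + r 2 * (Pi.single i (1 : k) : Fin 3 → k) 2 = 0 at h'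
      fin_cases i <;> simpa using h'
    refine not_kernel_functional P hL hsm hbasis hinj ρ hρ ?_
    intro u hu
    obtain ⟨e1, e2, e3⟩ := hr u hu
    rw [← hM]
    funext i
    fin_cases i
    · simp [Matrix.mulVec, dotProduct, Fin.sum_univ_three]
      linear_combination e1
    · simp [Matrix.mulVec, dotProduct, Fin.sum_univ_three]
      rw [hs 1 0]
      linear_combination e2
    · simp [Matrix.mulVec, dotProduct, Fin.sum_univ_three]
      rw [hs 2 0, hs 2 1]
      linear_combination e3
  · obtain ⟨u, hu0, hker, hiso⟩ := exists_kernel_isotropic (triPoly P a b c d)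
      (triPoly_transpose P a b c d) τ h0 h1 hadj
    rw [triPoly_map_eval] at hker
    rw [triPoly_deriv_eval] at hiso
    exact not_kernel_isotropic P hL hsm hbasis hinj hu0 hker hiso

end simple

end Groth.Agent.Lib.Helper8.CubicK
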