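import Mathlib
import Groth.Agent.Lib.Helper8.Tri3
set_option backward.isDefEq.respectTransparency.types false
set_option autoImplicit false
set_option linter.unusedSectionVars false
set_option linter.style.haveILetI false

namespace Groth.Agent.Lib.Helper8.CubicK

open Matrix

variable {k : Type*} [Field k] [CharZero k] [IsAlgClosed k] {f : MvPolynomial (Fin 4) k}

lemma coeff_mul3 (p₁ p₂ p₃ : Polynomial k) (n₁ n₂ n₃ : ℕ) (h₁ : p₁.natDegree ≤ n₁)
    (h₂ : p₂.natDegree ≤ n₂) (h₃ : p₃.natDegree ≤ n₃) :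
    (p₁ * p₂ * p₃).coeff (n₁ + n₂ + n₃) = p₁.coeff n₁ * p₂.coeff n₂ * p₃.coeff n₃ := by
  rw [Polynomial.coeff_mul_add_eq_of_natDegree_le (Polynomial.natDegree_mul_le_of_le h₁ h₂) h₃,
    Polynomial.coeff_mul_add_eq_of_natDegree_le h₁ h₂]

lemma det_sym_coeff (pA pB pC pD pE pF : Polynomial k) (hA : pA.natDegree ≤ 1)
    (hB : pB.natDegree ≤ 1) (hC : pC.natDegree ≤ 1) (hD : pD.natDegree ≤ 2) (hE : pE.natDegree ≤ 2)
    (hF : pF.natDegree ≤ 3) :
    (pA * pC * pF - pA * pE * pE - pB * pB * pF + pB * pE * pD + pD * pB * pE - pD * pC * pD).coeff 5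
      = pA.coeff 1 * pC.coeff 1 * pF.coeff 3 - pA.coeff 1 * pE.coeff 2 * pE.coeff 2
        - pB.coeff 1 * pB.coeff 1 * pF.coeff 3 + pB.coeff 1 * pE.coeff 2 * pD.coeff 2
        + pD.coeff 2 * pB.coeff 1 * pE.coeff 2 - pD.coeff 2 * pC.coeff 1 * pD.coeff 2 := by
  simp only [Polynomial.coeff_add, Polynomial.coeff_sub]
  rw [show (5 : ℕ) = 1 + 1 + 3 from rfl, coeff_mul3 pA pC pF 1 1 3 hA hC hF,
    coeff_mul3 pB pB pF 1 1 3 hB hB hF]
  rw [show (1 + 1 + 3 : ℕ) = 1 + 2 + 2 from rfl, coeff_mul3 pA pE pE 1 2 2 hA hE hE,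
    coeff_mul3 pB pE pD 1 2 2 hB hE hD]
  rw [show (1 + 2 + 2 : ℕ) = 2 + 1 + 2 from rfl, coeff_mul3 pD pB pE 2 1 2 hD hB hE,
    coeff_mul3 pD pC pD 2 1 2 hD hC hD]

lemma natDegree_triDisc_le (P : Polar f) (a b c d : Fin 4 → k) :
    (triDisc P a b c d).natDegree ≤ 5 := by
  unfold triDisc
  rw [Matrix.det_fin_three]
  simp only [triPoly, Matrix.of_apply, Matrix.cons_val_zero, Matrix.cons_val_one,
    Matrix.cons_val_two, Matrix.cons_val', Matrix.tail_cons, Matrix.head_cons,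
    Matrix.cons_val_fin_one, Matrix.empty_val', Matrix.head_fin_const]
  compute_degree

lemma coeff_triDisc (P : Polar f) (a b c d : Fin 4 → k) :
    (triDisc P a b c d).coeff 5 = (triMat P a b c).det := by
  unfold triDisc
  rw [Matrix.det_fin_three, Matrix.det_fin_three]
  simp only [triPoly, triMat, Matrix.of_apply, Matrix.cons_val_zero, Matrix.cons_val_one,
    Matrix.cons_val_two, Matrix.cons_val', Matrix.tail_cons, Matrix.head_cons,
    Matrix.cons_val_fin_one, Matrix.empty_val', Matrix.head_fin_const]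
  rw [det_sym_coeff _ _ _ _ _ _ (by compute_degree) (by compute_degree) (by compute_degree)
    (by compute_degree) (by compute_degree) (by compute_degree)]
  simp only [Polynomial.coeff_add, Polynomial.coeff_C_mul_X_pow, Polynomial.coeff_C_mul_X,
    Polynomial.coeff_C]
  norm_num

lemma natDegree_triDisc (P : Polar f) (a b c d : Fin 4 → k) (h : (triMat P a b c).det ≠ 0) :
    (triDisc P a b c d).natDegree = 5 := by
  apply le_antisymm (natDegree_triDisc_le P a b c d)
  apply Polynomial.le_natDegree_of_ne_zero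
  rw [coeff_triDisc]; exact h

end Groth.Agent.Lib.Helper8.CubicK
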