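import Mathlib
import Groth.Agent.Lib.Helper8.Tri4
set_option backward.isDefEq.respectTransparency.types false
set_option autoImplicit false
set_option linter.unusedSectionVars false
set_option linter.style.haveILetI false

namespace Groth.Agent.Lib.Helper8.CubicK

open Matrix

variable {k : Type*} [Field k] [CharZero k] [IsAlgClosed k] {f : MvPolynomial (Fin 4) k}

/-- expansion of a quadratic form of a symmetric matrix -/
lemma dot_add_expand {M : Matrix (Fin 3) (Fin 3) k} (hM : Mᵀ = M) (u u' : Fin 3 → k) :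
    (u + u') ⬝ᵥ M *ᵥ (u + u') = u ⬝ᵥ M *ᵥ u + 2 * (u' ⬝ᵥ M *ᵥ u) + u' ⬝ᵥ M *ᵥ u' := by
  simp only [Matrix.mulVec_add, dotProduct_add, add_dotProduct]
  rw [dot_mulVec_symm hM u u']
  ring

lemma dot_smul_expand (M : Matrix (Fin 3) (Fin 3) k) (t : k) (u : Fin 3 → k) :
    (t • u) ⬝ᵥ M *ᵥ (t • u) = t ^ 2 * (u ⬝ᵥ M *ᵥ u) := by
  simp only [Matrix.mulVec_smul, dotProduct_smul, smul_dotProduct, smul_eq_mul]
  ring

/-- a vector under which the quadratic form is translation invariant lies in the kernel -/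
lemma kernel_of_translation_invariant {M : Matrix (Fin 3) (Fin 3) k} (hM : Mᵀ = M)
    (u : Fin 3 → k) (h : ∀ u', (u + u') ⬝ᵥ M *ᵥ (u + u') = u' ⬝ᵥ M *ᵥ u') : M *ᵥ u = 0 := by
  have h0 : u ⬝ᵥ M *ᵥ u = 0 := by
    have := h 0
    simpa using this
  have h1 : ∀ u', u' ⬝ᵥ M *ᵥ u = 0 := by
    intro u'
    have := h u'
    rw [dot_add_expand hM, h0] at this
    have h2 : (2 : k) ≠ 0 := two_ne_zero
    have : 2 * (u' ⬝ᵥ M *ᵥ u) = 0 := by linear_combination this
    exact (mul_eq_zero.mp this).resolve_left h2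
  funext i
  have := h1 (Pi.single i 1)
  rw [single_one_dotProduct] at this
  exact this

/-- translation invariance under kernel vectors -/
lemma translation_invariant_of_kernel {M : Matrix (Fin 3) (Fin 3) k} (hM : Mᵀ = M)
    {u : Fin 3 → k} (hu : M *ᵥ u = 0) (u' : Fin 3 → k) :
    (u + u') ⬝ᵥ M *ᵥ (u + u') = u' ⬝ᵥ M *ᵥ u' := by
  rw [dot_add_expand hM, hu, dotProduct_zero, dotProduct_zero]
  ring

/-- A singular ternary quadratic form over an algebraically closed field is a product of two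
linear forms. -/
lemma exists_factor_of_kernel {M : Matrix (Fin 3) (Fin 3) k} (hM : Mᵀ = M) {u₀ : Fin 3 → k}
    (hu₀ : u₀ ≠ 0) (hker : M *ᵥ u₀ = 0) :
    ∃ ℓ' ℓ'' : (Fin 3 → k) →ₗ[k] k, ∀ u, u ⬝ᵥ M *ᵥ u = ℓ' u * ℓ'' u := by
  have hli1 : LinearIndependent k ![u₀] := by
    rw [linearIndependent_unique_iff]
    simpa using hu₀
  obtain ⟨n₂, hli2⟩ := exists_linearIndependent_cons_of_lt_finrank hli1 (by simp)
  obtain ⟨n₁, hli3⟩ := exists_linearIndependent_cons_of_lt_finrank hli2 (by simp)
  let bs := basisOfLinearIndependentOfCardEqFinrank hli3 (by simp)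
  have hb0 : bs 0 = n₁ := by simp [bs]
  have hb1 : bs 1 = n₂ := by simp [bs]
  have hb2 : bs 2 = u₀ := by simp [bs]
  obtain ⟨p₁, p₂, r₁, r₂, hfac⟩ := quad_factor (n₁ ⬝ᵥ M *ᵥ n₁) (2 * (n₂ ⬝ᵥ M *ᵥ n₁))
    (n₂ ⬝ᵥ M *ᵥ n₂)
  refine ⟨p₁ • bs.coord 0 + p₂ • bs.coord 1, r₁ • bs.coord 0 + r₂ • bs.coord 1, ?_⟩
  intro u
  have hu : u = bs.coord 2 u • u₀ + (bs.coord 0 u • n₁ + bs.coord 1 u • n₂) := by
    have := bs.sum_repr u
    rw [Fin.sum_univ_three, hb0, hb1, hb2] at this
    have e : bs.coord 2 u • u₀ + (bs.coord 0 u • n₁ + bs.coord 1 u • n₂)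
        = (bs.repr u) 0 • n₁ + (bs.repr u) 1 • n₂ + (bs.repr u) 2 • u₀ := by
      simp only [Module.Basis.coord_apply]
      abel
    rw [e]
    exact this.symm
  have hker' : M *ᵥ (bs.coord 2 u • u₀) = 0 := by rw [Matrix.mulVec_smul, hker, smul_zero]
  conv_lhs => rw [hu]
  rw [translation_invariant_of_kernel hM hker', dot_add_expand hM, dot_smul_expand, dot_smul_expand]
  simp only [Matrix.mulVec_smul, dotProduct_smul, smul_dotProduct, smul_eq_mul,
    LinearMap.add_apply, LinearMap.smul_apply]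
  rw [← hfac]
  ring

open MvPolynomial in
/-- the tritangent plane predicate of the statement -/
def IsTri (f : MvPolynomial (Fin 4) k) (L H : Submodule k (Fin 4 → k)) : Prop :=
  Module.finrank k ↥H = 3 ∧ L ≤ H ∧
    ∃ L' L'' : Submodule k (Fin 4 → k), Module.finrank k ↥L' = 2 ∧ Module.finrank k ↥L'' = 2 ∧
      L' ≠ L ∧ L'' ≠ L ∧ L' ≠ L'' ∧ L' ≤ H ∧ L'' ≤ H ∧
      (∀ u ∈ L', eval u f = 0) ∧ (∀ u ∈ L'', eval u f = 0)

/-- the linear parametrisation of the plane -/
def planeMap (a b w : Fin 4 → k) : (Fin 3 → k) →ₗ[k] (Fin 4 → k) where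
  toFun := planePt a b w
  map_add' := planePt_add a b w
  map_smul' := planePt_smul a b w

@[simp] lemma planeMap_apply (a b w : Fin 4 → k) (u : Fin 3 → k) :
    planeMap a b w u = planePt a b w u := rfl

/-- the coordinate `z` cutting out the line inside the plane -/
def zc : (Fin 3 → k) →ₗ[k] k := LinearMap.proj 2

@[simp] lemma zc_apply (u : Fin 3 → k) : zc u = u 2 := rfl

lemma zc_ne_zero : (zc : (Fin 3 → k) →ₗ[k] k) ≠ 0 := by
  intro h
  have := LinearMap.congr_fun h (Pi.single 2 1)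
  simp at this

lemma finrank_ker_three {ρ : (Fin 3 → k) →ₗ[k] k} (hρ : ρ ≠ 0) :
    Module.finrank k (LinearMap.ker ρ) = 2 := by
  have h1 := Module.Dual.finrank_ker_add_one_of_ne_zero (K := k) (V₁ := Fin 3 → k) (f := ρ) hρ
  rw [Module.finrank_fin_fun] at h1
  omega

section tri

variable {a b w : Fin 4 → k} (hinj : Function.Injective (planeMap a b w))

include hinj in
lemma finrank_map_planeMap (N : Submodule k (Fin 3 → k)) :
    Module.finrank k ↥(N.map (planeMap a b w)) = Module.finrank k ↥N :=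
  (Submodule.equivMapOfInjective (planeMap a b w) hinj N).finrank_eq.symm

lemma map_ker_zc : (LinearMap.ker (zc : (Fin 3 → k) →ₗ[k] k)).map (planeMap a b w)
    = Submodule.span k {a, b} := by
  apply le_antisymm
  · rintro x ⟨u, hu, rfl⟩
    rw [SetLike.mem_coe, LinearMap.mem_ker, zc_apply] at hu
    rw [planeMap_apply, planePt, hu, zero_smul, add_zero]
    exact Submodule.mem_span_pair.mpr ⟨_, _, rfl⟩
  · rw [Submodule.span_le]
    rintro x (rfl | rfl)
    · refine ⟨![1, 0, 0], ?_, ?_⟩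
      · simp
      · simp [planePt]
    · refine ⟨![0, 1, 0], ?_, ?_⟩
      · simp
      · simp [planePt]

lemma range_planeMap : LinearMap.range (planeMap a b w) = Submodule.span k {a, b, w} := by
  apply le_antisymm
  · rintro x ⟨u, rfl⟩
    rw [planeMap_apply, planePt]
    refine Submodule.add_mem _ (Submodule.add_mem _ ?_ ?_) ?_
    · exact Submodule.smul_mem _ _ (Submodule.subset_span (by simp))
    · exact Submodule.smul_mem _ _ (Submodule.subset_span (by simp))
    · exact Submodule.smul_mem _ _ (Submodule.subset_span (by simp))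
  · rw [Submodule.span_le]
    rintro x (rfl | rfl | rfl)
    · exact ⟨![1, 0, 0], by simp [planePt]⟩
    · exact ⟨![0, 1, 0], by simp [planePt]⟩
    · exact ⟨![0, 0, 1], by simp [planePt]⟩

variable (P : Polar f) (hL : ∀ x y : k, MvPolynomial.eval (x • a + y • b) f = 0)
  (hsm : Smooth f) {c : Fin 4 → k}
  (hbasis : ∀ x : Fin 4 → k, ∃ (u : Fin 3 → k) (y : k), x = planePt a b w u + y • c)

include hinj hL hsm hbasis in
/-- the conic does not contain the line -/
lemma not_vanish_on_line (h : ∀ u : Fin 3 → k, u 2 = 0 → u ⬝ᵥ triMat P a b w *ᵥ u = 0) : False := by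
  have hA : P.T a a w = 0 := by
    have := h ![1, 0, 0] (by simp)
    rw [dot_triMat] at this
    simp at this
    exact this
  have hC : P.T b b w = 0 := by
    have := h ![0, 1, 0] (by simp)
    rw [dot_triMat] at this
    simp at this
    exact this
  have hB : P.T a b w = 0 := by
    have := h ![1, 1, 0] (by simp)
    rw [dot_triMat, hA, hC] at this
    simp at this
    exact this
  obtain ⟨h1, h2, h3, h4⟩ := line_T P hL
  have hb0 : b ≠ 0 := by
    intro hb
    have : planeMap a b w ![0, 1, 0] = planeMap a b w 0 := by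
      simp [planePt, hb]
    have := congrFun (hinj this) 1
    simp at this
  have hab : a ∉ Submodule.span k {b} := by
    intro hmem
    obtain ⟨t, ht⟩ := Submodule.mem_span_singleton.mp hmem
    have : planeMap a b w ![1, -t, 0] = planeMap a b w 0 := by
      simp [planePt, ← ht]
    have := congrFun (hinj this) 0
    simp at this
  obtain ⟨s, t, hQ0, hQ⟩ := P.exists_root_on_plane a b c hab hb0
  have hTa : P.T (s • a + t • b) (s • a + t • b) a = 0 := by
    rw [P.quad_expand₂]
    rw [← P.diag] at h1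
    rw [h1, P.swap₂₃ a b a, h2, P.swap₁₃ b b a, h3]; ring
  have hTb : P.T (s • a + t • b) (s • a + t • b) b = 0 := by
    rw [P.quad_expand₂]
    rw [← P.diag] at h4
    rw [h2, h3, h4]; ring
  have hTw : P.T (s • a + t • b) (s • a + t • b) w = 0 := by
    rw [P.quad_expand₂]
    rw [hA, hB, hC]; ring
  refine not_singular_planePt P hsm hbasis hQ0 (hL s t) ?_ hQ
  intro u'
  unfold planePt
  rw [P.add₃, P.add₃, P.smul₃, P.smul₃, P.smul₃, hTa, hTb, hTw]
  ring

include hinj hL hsm hbasis in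
/-- A plane through the line whose residual conic is singular is a tritangent plane. -/
lemma isTri_of_det_eq_zero (hdet : (triMat P a b w).det = 0) :
    IsTri f (Submodule.span k {a, b}) (LinearMap.range (planeMap a b w)) := by
  have hinj' : ∀ u : Fin 3 → k, planePt a b w u = 0 → u = 0 := by
    intro u hu
    apply hinj
    rw [planeMap_apply, hu, map_zero]
  have hMt := triMat_transpose P a b w
  obtain ⟨u₀, hu₀, hker⟩ := Matrix.exists_mulVec_eq_zero_iff.mpr hdet
  obtain ⟨ℓ', ℓ'', hfac⟩ := exists_factor_of_kernel hMt hu₀ hker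
  have hℓ' : ℓ' ≠ 0 := by
    intro h0
    refine not_kernel_functional P hL hsm hbasis hinj' zc zc_ne_zero ?_
    intro u _
    apply kernel_of_translation_invariant hMt
    intro u'
    rw [hfac, hfac, h0]
    simp
  have hℓ'' : ℓ'' ≠ 0 := by
    intro h0
    refine not_kernel_functional P hL hsm hbasis hinj' zc zc_ne_zero ?_
    intro u _
    apply kernel_of_translation_invariant hMt
    intro u'
    rw [hfac, hfac, h0]
    simp
  have hfr : Module.finrank k ↥(LinearMap.range (planeMap a b w)) = 3 := by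
    rw [LinearMap.finrank_range_of_inj hinj, Module.finrank_fin_fun]
  have hLle : Submodule.span k {a, b} ≤ LinearMap.range (planeMap a b w) := by
    rw [← map_ker_zc (w := w)]
    exact LinearMap.map_le_range
  have hvan : ∀ ℓ : (Fin 3 → k) →ₗ[k] k, (∀ u, ℓ u = 0 → u ⬝ᵥ triMat P a b w *ᵥ u = 0) →
      ∀ x ∈ (LinearMap.ker ℓ).map (planeMap a b w), MvPolynomial.eval x f = 0 := by
    rintro ℓ hℓ x ⟨u, hu, rfl⟩
    rw [planeMap_apply, eval_planePt P hL, hℓ u hu, mul_zero]
  have hne_line : ∀ ℓ ℓ₂ : (Fin 3 → k) →ₗ[k] k, ℓ ≠ 0 →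
      (∀ u, u ⬝ᵥ triMat P a b w *ᵥ u = ℓ u * ℓ₂ u) →
      (LinearMap.ker ℓ).map (planeMap a b w) ≠ Submodule.span k {a, b} := by
    intro ℓ ℓ₂ hℓ hq heq
    rw [← map_ker_zc (w := w)] at heq
    have hk : LinearMap.ker ℓ = LinearMap.ker zc :=
      Submodule.map_injective_of_injective hinj heq
    refine not_vanish_on_line hinj P hL hsm hbasis ?_
    intro u hu
    have : u ∈ LinearMap.ker ℓ := by rw [hk]; exact hu
    rw [hq, LinearMap.mem_ker.mp this, zero_mul]
  refine ⟨hfr, hLle, (LinearMap.ker ℓ').map (planeMap a b w),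
    (LinearMap.ker ℓ'').map (planeMap a b w), ?_, ?_, ?_, ?_, ?_, LinearMap.map_le_range,
    LinearMap.map_le_range, ?_, ?_⟩
  · rw [finrank_map_planeMap hinj, finrank_ker_three hℓ']
  · rw [finrank_map_planeMap hinj, finrank_ker_three hℓ'']
  · exact hne_line ℓ' ℓ'' hℓ' hfac
  · exact hne_line ℓ'' ℓ' hℓ'' (fun u => by rw [hfac, mul_comm])
  · intro heq
    have hk : LinearMap.ker ℓ' = LinearMap.ker ℓ'' :=
      Submodule.map_injective_of_injective hinj heq
    obtain ⟨θ, hθ⟩ := exists_smul_of_ker_le (ψ := ℓ') (ψ' := ℓ'') hℓ' (by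
      intro x hx
      have : x ∈ LinearMap.ker ℓ'' := by rw [← hk]; exact hx
      exact this)
    refine not_kernel_functional P hL hsm hbasis hinj' ℓ' hℓ' ?_
    intro u hu
    apply kernel_of_translation_invariant hMt
    intro u'
    rw [hfac, hfac, hθ, hθ, map_add, hu]
    ring
  · exact hvan ℓ' (fun u hu => by rw [hfac, hu, zero_mul])
  · exact hvan ℓ'' (fun u hu => by rw [hfac, hu, mul_zero])


include hinj hL in
/-- A line of the surface in the plane, other than `⟨a, b⟩`, pulls back to a totally isotropic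
plane of the conic. -/
lemma isotropic_of_line {L' : Submodule k (Fin 4 → k)} (h2 : Module.finrank k ↥L' = 2)
    (hne : L' ≠ Submodule.span k {a, b}) (hle : L' ≤ LinearMap.range (planeMap a b w))
    (hv : ∀ u ∈ L', MvPolynomial.eval u f = 0) :
    Module.finrank k ↥(L'.comap (planeMap a b w)) = 2 ∧
      ∀ u ∈ L'.comap (planeMap a b w), ∀ u' ∈ L'.comap (planeMap a b w),
        u' ⬝ᵥ triMat P a b w *ᵥ u = 0 := by
  have hMt := triMat_transpose P a b w
  have hmap : (L'.comap (planeMap a b w)).map (planeMap a b w) = L' := by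
    rw [Submodule.map_comap_eq]
    exact inf_eq_right.mpr hle
  have hfr : Module.finrank k ↥(L'.comap (planeMap a b w)) = 2 := by
    rw [← finrank_map_planeMap hinj, hmap, h2]
  refine ⟨hfr, ?_⟩
  -- a point of `N'` off the line
  obtain ⟨p1, hp1, hz1⟩ : ∃ p1 ∈ L'.comap (planeMap a b w), zc p1 ≠ 0 := by
    by_contra hcon
    push Not at hcon
    have hle' : L'.comap (planeMap a b w) ≤ LinearMap.ker (zc : (Fin 3 → k) →ₗ[k] k) := by
      intro x hx
      exact LinearMap.mem_ker.mpr (hcon x hx)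
    have heq : L'.comap (planeMap a b w) = LinearMap.ker (zc : (Fin 3 → k) →ₗ[k] k) := by
      apply Submodule.eq_of_le_of_finrank_eq hle'
      rw [hfr, finrank_ker_three zc_ne_zero]
    apply hne
    rw [← hmap, heq, map_ker_zc]
  -- the conic vanishes on points of `N'` off the line
  have hq1 : ∀ u ∈ L'.comap (planeMap a b w), u 2 ≠ 0 → u ⬝ᵥ triMat P a b w *ᵥ u = 0 := by
    intro u hu hz
    have := hv _ hu
    rw [planeMap_apply, eval_planePt P hL] at this
    exact (mul_eq_zero.mp this).resolve_left hz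
  have hq : ∀ u ∈ L'.comap (planeMap a b w), u ⬝ᵥ triMat P a b w *ᵥ u = 0 := by
    intro u hu
    by_cases hz : u 2 = 0
    · have hp1q := hq1 p1 hp1 hz1
      have e1 := hq1 (u + p1) (Submodule.add_mem _ hu hp1) (by
        simp only [Pi.add_apply, hz, zero_add]; exact hz1)
      have e2 := hq1 (u + (-1 : k) • p1)
        (Submodule.add_mem _ hu (Submodule.smul_mem _ _ hp1)) (by
        simp only [Pi.add_apply, Pi.smul_apply, hz, zero_add, smul_eq_mul]
        intro h0
        apply hz1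
        rw [zc_apply]
        linear_combination -h0)
      rw [dot_add_expand hMt, hp1q] at e1
      rw [dot_add_expand hMt, dot_smul_expand, hp1q] at e2
      simp only [smul_dotProduct, smul_eq_mul] at e2
      have h2' : (2 : k) ≠ 0 := two_ne_zero
      have : 2 * (u ⬝ᵥ triMat P a b w *ᵥ u) = 0 := by linear_combination e1 + e2
      exact (mul_eq_zero.mp this).resolve_left h2'
    · exact hq1 u hu hz
  intro u hu u' hu'
  have e := hq (u + u') (Submodule.add_mem _ hu hu')
  rw [dot_add_expand hMt, hq u hu, hq u' hu'] at e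
  have h2' : (2 : k) ≠ 0 := two_ne_zero
  have : 2 * (u' ⬝ᵥ triMat P a b w *ᵥ u) = 0 := by linear_combination e
  exact (mul_eq_zero.mp this).resolve_left h2'

include hinj hL in
/-- The residual conic of a tritangent plane is singular. -/
lemma det_eq_zero_of_isTri (h : IsTri f (Submodule.span k {a, b}) (LinearMap.range (planeMap a b w))) :
    (triMat P a b w).det = 0 := by
  obtain ⟨-, -, L', L'', h2', h2'', hne', hne'', hne, hle', hle'', hv', hv''⟩ := h
  obtain ⟨hfr', hB'⟩ := isotropic_of_line hinj P hL h2' hne' hle' hv'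
  obtain ⟨hfr'', hB''⟩ := isotropic_of_line hinj P hL h2'' hne'' hle'' hv''
  have hMt := triMat_transpose P a b w
  obtain ⟨N', hN'⟩ : ∃ N', N' = L'.comap (planeMap a b w) := ⟨_, rfl⟩
  obtain ⟨N'', hN''⟩ : ∃ N'', N'' = L''.comap (planeMap a b w) := ⟨_, rfl⟩
  rw [← hN'] at hfr' hB'
  rw [← hN''] at hfr'' hB''
  have hNne : N' ≠ N'' := by
    intro heq
    apply hne
    have hmap' : N'.map (planeMap a b w) = L' := by
      rw [hN', Submodule.map_comap_eq]
      exact inf_eq_right.mpr hle'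
    have hmap'' : N''.map (planeMap a b w) = L'' := by
      rw [hN'', Submodule.map_comap_eq]
      exact inf_eq_right.mpr hle''
    rw [← hmap', ← hmap'', heq]
  have hsum := Submodule.finrank_sup_add_finrank_inf_eq N' N''
  have hsup_le : Module.finrank k ↥(N' ⊔ N'') ≤ 3 := by
    have := Submodule.finrank_le (N' ⊔ N'')
    rwa [Module.finrank_fin_fun] at this
  have hsup_gt : 2 < Module.finrank k ↥(N' ⊔ N'') := by
    by_contra hcon
    push Not at hcon
    have hle1 : N' ≤ N' ⊔ N'' := le_sup_left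
    have hle2 : N'' ≤ N' ⊔ N'' := le_sup_right
    have h1 : Module.finrank k ↥N' ≤ Module.finrank k ↥(N' ⊔ N'') := Submodule.finrank_mono hle1
    have e1 : N' = N' ⊔ N'' := Submodule.eq_of_le_of_finrank_eq hle1 (by omega)
    have e2 : N'' = N' ⊔ N'' := Submodule.eq_of_le_of_finrank_eq hle2 (by omega)
    exact hNne (e1.trans e2.symm)
  have hsup : N' ⊔ N'' = ⊤ := by
    apply Submodule.eq_top_of_finrank_eq
    rw [Module.finrank_fin_fun]
    omega
  have hinf : N' ⊓ N'' ≠ ⊥ := by
    intro h0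
    rw [h0, finrank_bot] at hsum
    omega
  obtain ⟨u₀, hu₀mem, hu₀⟩ := (Submodule.ne_bot_iff _).mp hinf
  obtain ⟨hu₀', hu₀''⟩ := Submodule.mem_inf.mp hu₀mem
  apply Matrix.exists_mulVec_eq_zero_iff.mp
  refine ⟨u₀, hu₀, ?_⟩
  have hall : ∀ v : Fin 3 → k, v ⬝ᵥ triMat P a b w *ᵥ u₀ = 0 := by
    intro v
    have hv : v ∈ N' ⊔ N'' := by rw [hsup]; exact Submodule.mem_top
    obtain ⟨v', hv', v'', hv'', rfl⟩ := Submodule.mem_sup.mp hv
    rw [add_dotProduct, hB' u₀ hu₀' v' hv', hB'' u₀ hu₀'' v'' hv'', add_zero]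
  funext i
  have := hall (Pi.single i 1)
  rw [single_one_dotProduct] at this
  exact this

end tri

end Groth.Agent.Lib.Helper8.CubicK
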