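import Mathlib
import Groth.Agent.Lib.Helper8.Tri5
set_option backward.isDefEq.respectTransparency.types false
set_option autoImplicit false
set_option linter.unusedSectionVars false
set_option linter.style.haveILetI false

namespace Groth.Agent.Lib.Helper8.CubicK

open Matrix

variable {k : Type*} [Field k] [CharZero k] [IsAlgClosed k] {f : MvPolynomial (Fin 4) k}

/-- `a, b, c, d` is a basis of `k^4`, in elementary terms -/
structure Frame (a b c d : Fin 4 → k) : Prop where
  ind : ∀ α β γ δ : k, α • a + β • b + γ • c + δ • d = 0 → α = 0 ∧ β = 0 ∧ γ = 0 ∧ δ = 0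
  spans : ∀ x : Fin 4 → k, ∃ α β γ δ : k, x = α • a + β • b + γ • c + δ • d

lemma Frame.of_li {a b c d : Fin 4 → k} (hli : LinearIndependent k ![d, c, a, b]) :
    Frame a b c d := by
  constructor
  · intro α β γ δ h
    have h' := Fintype.linearIndependent_iff.mp hli ![δ, γ, α, β] (by
      rw [Fin.sum_univ_four]
      simp only [Matrix.cons_val_zero, Matrix.cons_val_one, Matrix.cons_val_two,
        Matrix.cons_val_three]
      rw [← h]; abel)
    have h0 := h' 0
    have h1 := h' 1
    have h2 := h' 2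
    have h3 := h' 3
    simp at h0 h1 h2 h3
    exact ⟨h2, h3, h1, h0⟩
  · intro x
    let bs := basisOfLinearIndependentOfCardEqFinrank hli (by simp)
    have hb0 : bs 0 = d := by simp [bs]
    have hb1 : bs 1 = c := by simp [bs]
    have hb2 : bs 2 = a := by simp [bs]
    have hb3 : bs 3 = b := by simp [bs]
    have := bs.sum_repr x
    rw [Fin.sum_univ_four, hb0, hb1, hb2, hb3] at this
    refine ⟨bs.repr x 2, bs.repr x 3, bs.repr x 1, bs.repr x 0, this.symm.trans ?_⟩
    abel

namespace Frame

variable {a b c d : Fin 4 → k}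

lemma shift (F : Frame a b c d) (τ : k) : Frame a b (τ • c + d) c := by
  constructor
  · intro α β γ δ h
    have := F.ind α β (γ * τ + δ) γ (by
      rw [← h]
      simp only [smul_add, smul_smul, add_smul]
      abel)
    obtain ⟨h1, h2, h3, h4⟩ := this
    refine ⟨h1, h2, h4, ?_⟩
    rw [h4] at h3
    simpa using h3
  · intro x
    obtain ⟨α, β, γ, δ, rfl⟩ := F.spans x
    refine ⟨α, β, δ, γ - δ * τ, ?_⟩
    simp only [smul_add, smul_smul, sub_smul]
    abel

lemma swap (F : Frame a b c d) : Frame a b d c := by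
  constructor
  · intro α β γ δ h
    obtain ⟨h1, h2, h3, h4⟩ := F.ind α β δ γ (by rw [← h]; abel)
    exact ⟨h1, h2, h4, h3⟩
  · intro x
    obtain ⟨α, β, γ, δ, rfl⟩ := F.spans x
    exact ⟨α, β, δ, γ, by abel⟩

lemma inj (F : Frame a b c d) : Function.Injective (planeMap a b c) := by
  rw [← LinearMap.ker_eq_bot, LinearMap.ker_eq_bot']
  intro u hu
  rw [planeMap_apply, planePt] at hu
  obtain ⟨h1, h2, h3, -⟩ := F.ind (u 0) (u 1) (u 2) 0 (by rw [zero_smul, add_zero]; exact hu)
  funext i
  fin_cases i
  · exact h1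
  · exact h2
  · exact h3

lemma inj' (F : Frame a b c d) : ∀ u : Fin 3 → k, planePt a b c u = 0 → u = 0 := by
  intro u hu
  apply F.inj
  rw [planeMap_apply, hu, map_zero]

lemma basis (F : Frame a b c d) :
    ∀ x : Fin 4 → k, ∃ (u : Fin 3 → k) (y : k), x = planePt a b c u + y • d := by
  intro x
  obtain ⟨α, β, γ, δ, rfl⟩ := F.spans x
  exact ⟨![α, β, γ], δ, by simp [planePt]⟩

lemma finrank_line (F : Frame a b c d) : Module.finrank k ↥(Submodule.span k {a, b}) = 2 := by
  rw [← map_ker_zc (w := c), finrank_map_planeMap F.inj, finrank_ker_three zc_ne_zero]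

lemma finrank_plane (F : Frame a b c d) :
    Module.finrank k ↥(LinearMap.range (planeMap a b c)) = 3 := by
  rw [LinearMap.finrank_range_of_inj F.inj, Module.finrank_fin_fun]

lemma plane_inj (F : Frame a b c d) {τ τ' : k}
    (h : LinearMap.range (planeMap a b (τ • c + d)) = LinearMap.range (planeMap a b (τ' • c + d))) :
    τ = τ' := by
  have hmem : τ • c + d ∈ LinearMap.range (planeMap a b (τ' • c + d)) := by
    rw [← h]
    exact ⟨![0, 0, 1], by simp [planePt]⟩
  obtain ⟨u, hu⟩ := hmem
  rw [planeMap_apply, planePt] at hu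
  obtain ⟨-, -, h3, h4⟩ := F.ind (u 0) (u 1) (u 2 * τ' - τ) (u 2 - 1) (by
    have : u 0 • a + u 1 • b + (u 2 * τ' - τ) • c + (u 2 - 1) • d
        = (u 0 • a + u 1 • b + u 2 • (τ' • c + d)) - (τ • c + d) := by
      simp only [smul_add, smul_smul, sub_smul, one_smul]
      abel
    rw [this, hu, sub_self])
  have h2 : u 2 = 1 := by linear_combination h4
  rw [h2] at h3
  linear_combination -h3

lemma plane_le (w : Fin 4 → k) {H : Submodule k (Fin 4 → k)} (hle : Submodule.span k {a, b} ≤ H)
    (hw : w ∈ H) : LinearMap.range (planeMap a b w) ≤ H := by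
  rintro x ⟨u, rfl⟩
  rw [planeMap_apply, planePt]
  have ha : a ∈ H := hle (Submodule.subset_span (by simp))
  have hb : b ∈ H := hle (Submodule.subset_span (by simp))
  exact H.add_mem (H.add_mem (H.smul_mem _ ha) (H.smul_mem _ hb)) (H.smul_mem _ hw)

lemma plane_cases (F : Frame a b c d) (H : Submodule k (Fin 4 → k))
    (hH : Module.finrank k ↥H = 3) (hle : Submodule.span k {a, b} ≤ H) :
    (∃ τ : k, H = LinearMap.range (planeMap a b (τ • c + d))) ∨
      H = LinearMap.range (planeMap a b c) := by
  obtain ⟨w, hwH, hw⟩ : ∃ w ∈ H, w ∉ Submodule.span k {a, b} := by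
    by_contra hcon
    push Not at hcon
    have : H ≤ Submodule.span k {a, b} := fun x hx => hcon x hx
    have := Submodule.finrank_mono this
    rw [hH, F.finrank_line] at this
    omega
  obtain ⟨α, β, γ, δ, hwe⟩ := F.spans w
  have ha : a ∈ H := hle (Submodule.subset_span (by simp))
  have hb : b ∈ H := hle (Submodule.subset_span (by simp))
  have hw' : γ • c + δ • d ∈ H := by
    have : γ • c + δ • d = w - α • a - β • b := by rw [hwe]; abel
    rw [this]
    exact H.sub_mem (H.sub_mem hwH (H.smul_mem _ ha)) (H.smul_mem _ hb)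
  by_cases hδ : δ = 0
  · right
    have hγ : γ ≠ 0 := by
      intro hγ
      apply hw
      rw [hwe, hγ, hδ, zero_smul, zero_smul, add_zero, add_zero]
      exact Submodule.mem_span_pair.mpr ⟨_, _, rfl⟩
    have hc : c ∈ H := by
      have : c = γ⁻¹ • (γ • c + δ • d) := by
        rw [hδ, zero_smul, add_zero, smul_smul, inv_mul_cancel₀ hγ, one_smul]
      rw [this]
      exact H.smul_mem _ hw'
    symm
    apply Submodule.eq_of_le_of_finrank_eq (plane_le c hle hc)
    rw [F.finrank_plane, hH]
  · left
    refine ⟨γ / δ, ?_⟩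
    have hc : (γ / δ) • c + d ∈ H := by
      have : (γ / δ) • c + d = δ⁻¹ • (γ • c + δ • d) := by
        rw [smul_add, smul_smul, smul_smul, inv_mul_cancel₀ hδ, one_smul, div_eq_inv_mul]
      rw [this]
      exact H.smul_mem _ hw'
    symm
    apply Submodule.eq_of_le_of_finrank_eq (plane_le _ hle hc)
    rw [(F.shift (γ / δ)).finrank_plane, hH]

section count

variable (F : Frame a b c d) (P : Polar f)
  (hL : ∀ x y : k, MvPolynomial.eval (x • a + y • b) f = 0) (hsm : Smooth f)

include F hL hsm in
lemma five_roots (hdet : (triMat P a b c).det ≠ 0) :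
    ∃ R : Finset k, R.card = 5 ∧ ∀ t, t ∈ R ↔ Polynomial.eval t (triDisc P a b c d) = 0 := by
  classical
  have hdeg := natDegree_triDisc P a b c d hdet
  have hne : triDisc P a b c d ≠ 0 := by
    intro h0
    rw [h0] at hdeg
    simp at hdeg
  have hcard : (triDisc P a b c d).roots.card = 5 := by
    rw [← hdeg]
    exact Polynomial.splits_iff_card_roots.mp (IsAlgClosed.splits _)
  have hnodup : (triDisc P a b c d).roots.Nodup := by
    rw [Multiset.nodup_iff_count_le_one]
    intro r
    rw [Polynomial.count_roots]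
    by_contra hlt
    push Not at hlt
    obtain ⟨hr1, hr2⟩ := (Polynomial.one_lt_rootMultiplicity_iff_isRoot hne).mp hlt
    exact triDisc_simple_root P hL hsm r (F.shift r).basis (F.shift r).inj' hr1 hr2
  refine ⟨(triDisc P a b c d).roots.toFinset, ?_, ?_⟩
  · rw [Multiset.toFinset_card_of_nodup hnodup, hcard]
  · intro t
    rw [Multiset.mem_toFinset, Polynomial.mem_roots hne, Polynomial.IsRoot]

include F hL hsm in
lemma tri_eq (hdet : (triMat P a b c).det ≠ 0) :
    {H : Submodule k (Fin 4 → k) | IsTri f (Submodule.span k {a, b}) H}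
      = (fun τ : k => LinearMap.range (planeMap a b (τ • c + d))) ''
        {τ | Polynomial.eval τ (triDisc P a b c d) = 0} := by
  ext H
  constructor
  · intro hH
    rw [Set.mem_ofPred_eq] at hH
    rcases F.plane_cases H hH.1 hH.2.1 with ⟨τ, rfl⟩ | rfl
    · refine ⟨τ, ?_, rfl⟩
      rw [Set.mem_ofPred_eq, eval_triDisc]
      exact det_eq_zero_of_isTri (F.shift τ).inj P hL hH
    · exact absurd (det_eq_zero_of_isTri F.inj P hL hH) hdet
  · rintro ⟨τ, hτ, rfl⟩
    rw [Set.mem_ofPred_eq, eval_triDisc] at hτ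
    exact isTri_of_det_eq_zero (F.shift τ).inj P hL hsm (F.shift τ).basis hτ

include F hL hsm in
lemma ncard_tri (hdet : (triMat P a b c).det ≠ 0) :
    {H : Submodule k (Fin 4 → k) | IsTri f (Submodule.span k {a, b}) H}.ncard = 5 := by
  obtain ⟨R, hR, hmem⟩ := five_roots F P hL hsm hdet
  rw [tri_eq F P hL hsm hdet]
  have hset : {t | Polynomial.eval t (triDisc P a b c d) = 0} = (R : Set k) := by
    ext t
    simp [hmem]
  have hinj : Function.Injective
      (fun τ : k => LinearMap.range (planeMap a b (τ • c + d))) := fun τ τ' h => F.plane_inj h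
  rw [hset, Set.ncard_image_of_injective _ hinj, Set.ncard_coe_finset, hR]

include F hL hsm in
/-- one can choose the frame such that the plane `⟨a, b, c⟩` is not tritangent -/
lemma exists_good : ∃ c' d' : Fin 4 → k, Frame a b c' d' ∧ (triMat P a b c').det ≠ 0 := by
  have hne : triDisc P a b c d ≠ 0 := by
    intro h0
    refine triDisc_simple_root P hL hsm 0 (F.shift 0).basis (F.shift 0).inj' ?_ ?_
    · rw [h0]; simp
    · rw [h0]; simp
  obtain ⟨τ₁, hτ₁⟩ : ∃ τ₁ : k, Polynomial.eval τ₁ (triDisc P a b c d) ≠ 0 := by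
    by_contra hcon
    push Not at hcon
    exact hne (Polynomial.funext (fun t => by rw [hcon t]; simp))
  refine ⟨τ₁ • c + d, c, F.shift τ₁, ?_⟩
  rw [← eval_triDisc]
  exact hτ₁

end count

end Frame

/-- a two-dimensional subspace is spanned by two vectors that extend to a frame -/
lemma exists_frame (L : Submodule k (Fin 4 → k)) (hL : Module.finrank k ↥L = 2) :
    ∃ a b c d : Fin 4 → k, Frame a b c d ∧ L = Submodule.span k {a, b} := by
  have hbot : L ≠ ⊥ := by
    intro h0
    rw [h0, finrank_bot] at hL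
    omega
  obtain ⟨a, haL, ha⟩ := (Submodule.ne_bot_iff _).mp hbot
  obtain ⟨b, hbL, hb, hspan⟩ := two_dim L hL a ha haL
  have hli : LinearIndependent k ![a, b] := by
    rw [LinearIndependent.pair_iff' ha]
    intro t ht
    exact hb (Submodule.mem_span_singleton.mpr ⟨t, ht⟩)
  obtain ⟨c, hli2⟩ := exists_linearIndependent_cons_of_lt_finrank hli (by simp)
  obtain ⟨d, hli3⟩ := exists_linearIndependent_cons_of_lt_finrank hli2 (by simp)
  refine ⟨a, b, c, d, Frame.of_li ?_, ?_⟩
  · exact hli3
  · apply le_antisymm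
    · intro x hx
      obtain ⟨α, β, rfl⟩ := hspan x hx
      exact Submodule.mem_span_pair.mpr ⟨_, _, rfl⟩
    · rw [Submodule.span_le]
      intro x hx
      simp only [Set.mem_insert_iff, Set.mem_singleton_iff] at hx
      rcases hx with h | h
      · rw [h]; exact haL
      · rw [h]; exact hbL

/-- **Five tritangent planes through a line on a smooth cubic surface.** -/
theorem ncard_tritangent_planes (hf : f.IsHomogeneous 3) (hsm : Smooth f)
    (L : Submodule k (Fin 4 → k)) (hL : Module.finrank k ↥L = 2)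
    (hLS : ∀ u ∈ L, MvPolynomial.eval u f = 0) :
    {H : Submodule k (Fin 4 → k) | IsTri f L H}.ncard = 5 := by
  obtain ⟨P⟩ := exists_polar hf
  obtain ⟨a, b, c, d, F, rfl⟩ := exists_frame L hL
  have hL' : ∀ x y : k, MvPolynomial.eval (x • a + y • b) f = 0 := by
    intro x y
    exact hLS _ (Submodule.mem_span_pair.mpr ⟨_, _, rfl⟩)
  obtain ⟨c', d', F', hdet⟩ := F.exists_good P hL' hsm
  exact F'.ncard_tri P hL' hsm hdet

end Groth.Agent.Lib.Helper8.CubicK
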