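import Mathlib
import Groth.Agent.Lib.Helper8.Tri6
set_option backward.isDefEq.respectTransparency.types false
set_option autoImplicit false
set_option linter.unusedSectionVars false
set_option linter.style.haveILetI false

namespace Groth.Agent.Lib.Helper8.CubicK

variable {k : Type*} [Field k] [CharZero k] [IsAlgClosed k] {f : MvPolynomial (Fin 4) k}

lemma sup_eq_of_ne {L L' H : Submodule k (Fin 4 → k)} (hL : Module.finrank k ↥L = 2)
    (hL' : Module.finrank k ↥L' = 2) (hH : Module.finrank k ↥H = 3) (hle : L ≤ H) (hle' : L' ≤ H)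
    (hne : L' ≠ L) : L ⊔ L' = H := by
  have hlt : L < L ⊔ L' := by
    refine lt_of_le_of_ne le_sup_left ?_
    intro heq
    apply hne
    have : L' ≤ L := by rw [heq]; exact le_sup_right
    exact Submodule.eq_of_le_of_finrank_eq this (by rw [hL, hL'])
  have h3 := Submodule.finrank_lt_finrank_of_lt hlt
  apply Submodule.eq_of_le_of_finrank_le (sup_le hle hle')
  omega

lemma inf_eq_of_ne {L H₁ H₂ : Submodule k (Fin 4 → k)} (hL : Module.finrank k ↥L = 2)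
    (h₁ : Module.finrank k ↥H₁ = 3) (h₂ : Module.finrank k ↥H₂ = 3) (hle₁ : L ≤ H₁) (hle₂ : L ≤ H₂)
    (hne : H₁ ≠ H₂) : H₁ ⊓ H₂ = L := by
  have hlt : H₁ ⊓ H₂ < H₁ := by
    refine lt_of_le_of_ne inf_le_left ?_
    intro heq
    apply hne
    have : H₁ ≤ H₂ := by rw [← heq]; exact inf_le_right
    exact Submodule.eq_of_le_of_finrank_eq this (by rw [h₁, h₂])
  have h3 := Submodule.finrank_lt_finrank_of_lt hlt
  symm
  apply Submodule.eq_of_le_of_finrank_le (le_inf hle₁ hle₂)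
  omega

open MvPolynomial in
/-- **A smooth cubic surface containing a line contains two disjoint lines.** -/
theorem exists_disjoint_lines (hf : f.IsHomogeneous 3) (hsm : Smooth f)
    (L : Submodule k (Fin 4 → k)) (hL : Module.finrank k ↥L = 2)
    (hLS : ∀ u ∈ L, eval u f = 0) :
    ∃ U₁ U₂ : Submodule k (Fin 4 → k), (Module.finrank k ↥U₁ = 2 ∧ ∀ u ∈ U₁, eval u f = 0) ∧
      (Module.finrank k ↥U₂ = 2 ∧ ∀ u ∈ U₂, eval u f = 0) ∧ U₁ ⊓ U₂ = ⊥ := by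
  have h5 := ncard_tritangent_planes hf hsm L hL hLS
  have hfin : {H : Submodule k (Fin 4 → k) | IsTri f L H}.Finite :=
    Set.finite_of_ncard_ne_zero (by rw [h5]; norm_num)
  obtain ⟨H₁, H₂, hH₁, hH₂, hne⟩ := (Set.one_lt_ncard_iff hfin).mp (by rw [h5]; norm_num)
  obtain ⟨h₁, hle₁, L₁, -, hL₁, -, hne₁, -, -, hL₁le, -, hv₁, -⟩ := hH₁
  obtain ⟨h₂, hle₂, L₂, -, hL₂, -, hne₂, -, -, hL₂le, -, hv₂, -⟩ := hH₂
  refine ⟨L₁, L₂, ⟨hL₁, hv₁⟩, ⟨hL₂, hv₂⟩, ?_⟩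
  by_contra hbot
  obtain ⟨v, hvmem, hv⟩ := (Submodule.ne_bot_iff _).mp hbot
  obtain ⟨hv1, hv2⟩ := Submodule.mem_inf.mp hvmem
  have hvL : v ∈ L := by
    rw [← inf_eq_of_ne hL h₁ h₂ hle₁ hle₂ hne]
    exact Submodule.mem_inf.mpr ⟨hL₁le hv1, hL₂le hv2⟩
  obtain ⟨-, -, H, hH, hall⟩ := lines_through_point hf hsm v hv (hLS v hvL)
  have e1 : H₁ = H := by
    apply Submodule.eq_of_le_of_finrank_eq
    · rw [← sup_eq_of_ne hL hL₁ h₁ hle₁ hL₁le hne₁]
      exact sup_le (hall L hvL ⟨hL, hLS⟩) (hall L₁ hv1 ⟨hL₁, hv₁⟩)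
    · rw [h₁, hH]
  have e2 : H₂ = H := by
    apply Submodule.eq_of_le_of_finrank_eq
    · rw [← sup_eq_of_ne hL hL₂ h₂ hle₂ hL₂le hne₂]
      exact sup_le (hall L hvL ⟨hL, hLS⟩) (hall L₂ hv2 ⟨hL₂, hv₂⟩)
    · rw [h₂, hH]
  exact hne (e1.trans e2.symm)

end Groth.Agent.Lib.Helper8.CubicK
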