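import Mathlib
import Groth.Agent.Lib.Helper8.Tri7
import Groth.Agent.Lib.Helper8.Node6
set_option backward.isDefEq.respectTransparency.types false
set_option autoImplicit false
set_option linter.unusedSectionVars false
set_option linter.style.haveILetI false

namespace Groth.Agent.Lib.Helper8.PfE

open MvPolynomial Groth.Agent.Lib.Helper8.CubicK

variable {K : Type*} [Field K] [CharZero K] [IsAlgClosed K] {f : MvPolynomial (Fin 4) K}

/-- the set of lines of the surface -/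
def Lines (f : MvPolynomial (Fin 4) K) : Set (Submodule K (Fin 4 → K)) :=
  {M | Module.finrank K ↥M = 2 ∧ ∀ u ∈ M, eval u f = 0}

/-- zeros of a genuine cubic polynomial are finite -/
lemma finite_zeros_cubic (c0 c1 c2 c3 : K) (h : c3 ≠ 0) :
    {s : K | c0 + c1 * s + c2 * s ^ 2 + c3 * s ^ 3 = 0}.Finite := by
  classical
  let p : Polynomial K := Polynomial.C c0 + Polynomial.C c1 * Polynomial.X
    + Polynomial.C c2 * Polynomial.X ^ 2 + Polynomial.C c3 * Polynomial.X ^ 3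
  have hp : p ≠ 0 := by
    intro h0
    have : p.coeff 3 = c3 := by
      simp [p, Polynomial.coeff_X_pow]
    rw [h0] at this
    exact h (by simpa using this.symm)
  apply Set.Finite.subset (p.roots.toFinset.finite_toSet)
  intro s hs
  simp only [Finset.mem_coe, Multiset.mem_toFinset, Polynomial.mem_roots hp, Polynomial.IsRoot]
  simp only [p, Polynomial.eval_add, Polynomial.eval_mul, Polynomial.eval_C, Polynomial.eval_X,
    Polynomial.eval_pow]
  exact hs

/-- a two-dimensional subspace meets the kernel of any functional -/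
lemma exists_ne_zero_mem_ker (M : Submodule K (Fin 4 → K)) (hM : Module.finrank K ↥M = 2)
    (Y : (Fin 4 → K) →ₗ[K] K) : ∃ m ∈ M, m ≠ 0 ∧ Y m = 0 := by
  have hbot : M ≠ ⊥ := by
    intro h0
    rw [h0, finrank_bot] at hM
    omega
  obtain ⟨a, haM, ha⟩ := (Submodule.ne_bot_iff _).mp hbot
  obtain ⟨b, hbM, hb, -⟩ := two_dim M hM a ha haM
  by_cases hYa : Y a = 0
  · exact ⟨a, haM, ha, hYa⟩
  · refine ⟨Y b • a - Y a • b, M.sub_mem (M.smul_mem _ haM) (M.smul_mem _ hbM), ?_, ?_⟩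
    · intro h0
      apply hb
      rw [Submodule.mem_span_singleton]
      refine ⟨(Y a)⁻¹ * Y b, ?_⟩
      have : Y a • b = Y b • a := by
        rw [sub_eq_zero] at h0
        exact h0.symm
      calc ((Y a)⁻¹ * Y b) • a = (Y a)⁻¹ • (Y b • a) := by rw [smul_smul]
        _ = (Y a)⁻¹ • (Y a • b) := by rw [this]
        _ = b := by rw [smul_smul, inv_mul_cancel₀ hYa, one_smul]
    · rw [map_sub, map_smul, map_smul, smul_eq_mul, smul_eq_mul]
      ring

/-- **Finitely many lines of an irreducible cubic surface in a given plane.** -/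
theorem finite_lines_in_plane (hf : f.IsHomogeneous 3) (hirr : Irreducible f)
    (ψ : (Fin 4 → K) →ₗ[K] K) (hψ : ψ ≠ 0) :
    {M : Submodule K (Fin 4 → K) | M ∈ Lines f ∧ M ≤ LinearMap.ker ψ}.Finite := by
  obtain ⟨P⟩ := exists_polar hf
  obtain ⟨x₀, hx₀ψ, hx₀f⟩ : ∃ x, ψ x = 0 ∧ eval x f ≠ 0 := by
    by_contra hcon
    push Not at hcon
    exact not_irreducible_of_vanish_on_ker hf ψ hψ hcon hirr
  have hx₀ : x₀ ≠ 0 := by
    rintro rfl
    exact hx₀f P.eval_zero
  obtain ⟨h₁, h₂, hh₁, hh₂, hli, hspan⟩ := exists_adapted_basis ψ hψ x₀ hx₀ hx₀ψ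
  obtain ⟨Y₁, hY₁⟩ := exists_dual_of_li _ hli 2
  obtain ⟨Y₂, hY₂⟩ := exists_dual_of_li _ hli 0
  have hY₁h₁ : Y₁ h₁ = 1 := by simpa using hY₁ 2
  have hY₁h₂ : Y₁ h₂ = 0 := by simpa using hY₁ 0
  have hY₁x : Y₁ x₀ = 0 := by simpa using hY₁ 1
  have hY₂h₁ : Y₂ h₁ = 0 := by simpa using hY₂ 2
  have hY₂h₂ : Y₂ h₂ = 1 := by simpa using hY₂ 0
  have hY₂x : Y₂ x₀ = 0 := by simpa using hY₂ 1
  have hZ : ∀ h : Fin 4 → K, {s : K | eval (h + s • x₀) f = 0}.Finite := by
    intro h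
    have := finite_zeros_cubic (eval h f) (3 * P.T h h x₀) (3 * P.T h x₀ x₀) (eval x₀ f) hx₀f
    refine this.subset ?_
    intro s hs
    simp only [Set.mem_ofPred_eq] at hs ⊢
    rw [P.cube_add] at hs
    linear_combination hs
  have hfin := ((hZ h₁).prod (hZ h₂)).image
    (fun s : K × K => Submodule.span K {h₁ + s.1 • x₀, h₂ + s.2 • x₀})
  refine hfin.subset ?_
  rintro M ⟨⟨hM2, hMf⟩, hMψ⟩
  -- a point of `M` with second coordinate zero
  have key : ∀ (Y Y' : (Fin 4 → K) →ₗ[K] K) (h h' : Fin 4 → K), Y h = 1 → Y h' = 0 → Y x₀ = 0 →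
      Y' h = 0 → Y' h' = 1 → Y' x₀ = 0 →
      (∀ x, ψ x = 0 → ∃ s y y' : K, x = (y • h + y' • h') + s • x₀) →
      ∃ s : K, h + s • x₀ ∈ M := by
    intro Y Y' h h' e1 e2 e3 e4 e5 e6 hsp
    obtain ⟨m, hmM, hm0, hYm⟩ := exists_ne_zero_mem_ker M hM2 Y'
    obtain ⟨s, y, y', rfl⟩ := hsp m (hMψ hmM)
    have hy' : y' = 0 := by
      simp only [map_add, map_smul, e4, e5, e6, smul_eq_mul] at hYm
      linear_combination hYm
    subst hy'
    have hy : y ≠ 0 := by
      rintro rfl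
      have hfm := hMf _ hmM
      simp only [zero_smul, add_zero, zero_add] at hfm hm0
      rw [P.eval_smul] at hfm
      rcases mul_eq_zero.mp hfm with h0 | h0
      · apply hm0
        rw [pow_eq_zero_iff (by norm_num) |>.mp h0, zero_smul]
      · exact hx₀f h0
    refine ⟨y⁻¹ * s, ?_⟩
    have := M.smul_mem y⁻¹ hmM
    convert this using 1
    simp only [zero_smul, add_zero, smul_add, smul_smul, inv_mul_cancel₀ hy, one_smul]
  obtain ⟨s₁, hs₁⟩ := key Y₁ Y₂ h₁ h₂ hY₁h₁ hY₁h₂ hY₁x hY₂h₁ hY₂h₂ hY₂x hspan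
  obtain ⟨s₂, hs₂⟩ := key Y₂ Y₁ h₂ h₁ hY₂h₂ hY₂h₁ hY₂x hY₁h₂ hY₁h₁ hY₁x (by
    intro x hx
    obtain ⟨s, y₁, y₂, rfl⟩ := hspan x hx
    exact ⟨s, y₂, y₁, by rw [add_comm (y₂ • h₂)]⟩)
  refine ⟨(s₁, s₂), ⟨hMf _ hs₁, hMf _ hs₂⟩, ?_⟩
  simp only
  have hne : h₁ + s₁ • x₀ ≠ 0 := by
    intro h0
    have := congrArg Y₁ h0
    simp only [map_add, map_smul, hY₁h₁, hY₁x, smul_eq_mul, mul_zero, add_zero, map_zero] at this
    exact one_ne_zero this
  have hnm : h₂ + s₂ • x₀ ∉ Submodule.span K {h₁ + s₁ • x₀} := by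
    intro hmem
    obtain ⟨c, hc⟩ := Submodule.mem_span_singleton.mp hmem
    have := congrArg Y₂ hc
    simp only [map_add, map_smul, hY₂h₁, hY₂h₂, hY₂x, smul_eq_mul, mul_zero, add_zero] at this
    exact zero_ne_one this
  apply Submodule.eq_of_le_of_finrank_eq
  · rw [Submodule.span_le]
    intro x hx
    rcases hx with rfl | rfl
    · exact hs₁
    · exact hs₂
  · rw [finrank_span_pair hne hnm, hM2]

end Groth.Agent.Lib.Helper8.PfE
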