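import Mathlib
import Groth.Agent.Lib.Helper8.PfE1
set_option backward.isDefEq.respectTransparency.types false
set_option autoImplicit false
set_option linter.unusedSectionVars false
set_option linter.style.haveILetI false

namespace Groth.Agent.Lib.Helper8.PfE

open MvPolynomial Matrix Groth.Agent.Lib.Helper8.CubicK

variable {K : Type*} [Field K] [CharZero K] [IsAlgClosed K] {f : MvPolynomial (Fin 4) K}

/-- a two-dimensional totally isotropic subspace forces a singular ternary quadratic form -/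
lemma det_eq_zero_of_isotropic {M : Matrix (Fin 3) (Fin 3) K} (_hM : Mᵀ = M)
    (N : Submodule K (Fin 3 → K)) (hN : Module.finrank K ↥N = 2)
    (hiso : ∀ u ∈ N, ∀ u' ∈ N, u' ⬝ᵥ M *ᵥ u = 0) : M.det = 0 := by
  have hbot : N ≠ ⊥ := by
    intro h0
    rw [h0, finrank_bot] at hN
    omega
  obtain ⟨n₁, hn₁N, hn₁⟩ := (Submodule.ne_bot_iff _).mp hbot
  obtain ⟨n₂, hn₂N, hn₂⟩ := exists_notMem_span_singleton' N (by omega) n₁
  have hli2 : LinearIndependent K ![n₁, n₂] := by
    rw [LinearIndependent.pair_iff' hn₁]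
    intro t ht
    exact hn₂ (Submodule.mem_span_singleton.mpr ⟨t, ht⟩)
  obtain ⟨n₃, hli3⟩ := exists_linearIndependent_cons_of_lt_finrank hli2 (by simp)
  let bs := basisOfLinearIndependentOfCardEqFinrank hli3 (by simp)
  have hb0 : bs 0 = n₃ := by simp [bs]
  have hb1 : bs 1 = n₁ := by simp [bs]
  have hb2 : bs 2 = n₂ := by simp [bs]
  obtain ⟨α, β, hαβ, hzero⟩ : ∃ α β : K, ¬ (α = 0 ∧ β = 0) ∧
      α * (n₃ ⬝ᵥ M *ᵥ n₁) + β * (n₃ ⬝ᵥ M *ᵥ n₂) = 0 := by
    by_cases h1 : n₃ ⬝ᵥ M *ᵥ n₁ = 0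
    · exact ⟨1, 0, by simp, by rw [h1]; ring⟩
    · exact ⟨n₃ ⬝ᵥ M *ᵥ n₂, -(n₃ ⬝ᵥ M *ᵥ n₁), fun h => h1 (by simpa using h.2), by ring⟩
  apply Matrix.exists_mulVec_eq_zero_iff.mp
  refine ⟨α • n₁ + β • n₂, ?_, ?_⟩
  · intro h0
    have := LinearIndependent.pair_iff.mp hli2 α β h0
    exact hαβ this
  · have huN : α • n₁ + β • n₂ ∈ N := N.add_mem (N.smul_mem _ hn₁N) (N.smul_mem _ hn₂N)
    have h3 : n₃ ⬝ᵥ M *ᵥ (α • n₁ + β • n₂) = 0 := by
      rw [Matrix.mulVec_add, Matrix.mulVec_smul, Matrix.mulVec_smul, dotProduct_add,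
        dotProduct_smul, dotProduct_smul, smul_eq_mul, smul_eq_mul]
      exact hzero
    have hall : ∀ v : Fin 3 → K, v ⬝ᵥ M *ᵥ (α • n₁ + β • n₂) = 0 := by
      intro v
      have := bs.sum_repr v
      rw [Fin.sum_univ_three, hb0, hb1, hb2] at this
      rw [← this]
      simp only [add_dotProduct, smul_dotProduct, smul_eq_mul]
      rw [h3, hiso _ huN _ hn₁N, hiso _ huN _ hn₂N]
      ring
    funext i
    have := hall (Pi.single i 1)
    rw [single_one_dotProduct] at this
    exact this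

/-- two distinct lines that meet span a plane -/
lemma finrank_sup_of_meeting {L M : Submodule K (Fin 4 → K)} (hL : Module.finrank K ↥L = 2)
    (hM : Module.finrank K ↥M = 2) (hne : M ≠ L) (hmeet : M ⊓ L ≠ ⊥) :
    Module.finrank K ↥(L ⊔ M) = 3 := by
  have hsum := Submodule.finrank_sup_add_finrank_inf_eq L M
  have h1 : 1 ≤ Module.finrank K ↥(L ⊓ M) := by
    rw [Nat.one_le_iff_ne_zero]
    intro h0
    apply hmeet
    rw [inf_comm]
    exact Submodule.finrank_eq_zero.mp h0
  have h2 : Module.finrank K ↥(L ⊓ M) ≤ 1 := by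
    by_contra hcon
    push Not at hcon
    have hle1 : L ⊓ M ≤ L := inf_le_left
    have hle2 : L ⊓ M ≤ M := inf_le_right
    have hl1 := Submodule.finrank_mono hle1
    have e1 : L ⊓ M = L := Submodule.eq_of_le_of_finrank_eq hle1 (by omega)
    have e2 : L ⊓ M = M := Submodule.eq_of_le_of_finrank_eq hle2 (by omega)
    exact hne (e2.symm.trans e1)
  omega

/-- On a smooth cubic surface, a second line meeting the line `⟨a, b⟩` spans a tritangent plane
with it. -/
lemma isTri_of_meeting {a b c d : Fin 4 → K} (Fr : Frame a b c d) (P : Polar f)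
    (hL : ∀ x y : K, eval (x • a + y • b) f = 0) (hsm : Smooth f)
    (hdet : (triMat P a b c).det ≠ 0) {M : Submodule K (Fin 4 → K)} (hM : M ∈ Lines f)
    (hne : M ≠ Submodule.span K {a, b}) (hmeet : M ⊓ Submodule.span K {a, b} ≠ ⊥) :
    IsTri f (Submodule.span K {a, b}) (Submodule.span K {a, b} ⊔ M) := by
  have hH3 := finrank_sup_of_meeting Fr.finrank_line hM.1 hne hmeet
  rcases Fr.plane_cases _ hH3 le_sup_left with ⟨τ, hτ⟩ | hc
  · rw [hτ]
    have hle : M ≤ LinearMap.range (planeMap a b (τ • c + d)) := by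
      rw [← hτ]; exact le_sup_right
    obtain ⟨hfr, hB⟩ := isotropic_of_line (Fr.shift τ).inj P hL hM.1 hne hle hM.2
    have hdet' := det_eq_zero_of_isotropic (triMat_transpose P a b (τ • c + d)) _ hfr hB
    exact isTri_of_det_eq_zero (Fr.shift τ).inj P hL hsm (Fr.shift τ).basis hdet'
  · exfalso
    have hle : M ≤ LinearMap.range (planeMap a b c) := by
      rw [← hc]; exact le_sup_right
    obtain ⟨hfr, hB⟩ := isotropic_of_line Fr.inj P hL hM.1 hne hle hM.2
    exact hdet (det_eq_zero_of_isotropic (triMat_transpose P a b c) _ hfr hB)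

/-- lines of the surface inside a given three-dimensional subspace -/
lemma finite_lines_le (hf : f.IsHomogeneous 3) (hirr : Irreducible f)
    (H : Submodule K (Fin 4 → K)) (hH : Module.finrank K ↥H = 3) :
    {M : Submodule K (Fin 4 → K) | M ∈ Lines f ∧ M ≤ H}.Finite := by
  have hlt : H < ⊤ := by
    rw [lt_top_iff_ne_top]
    intro h0
    rw [h0, finrank_top, Module.finrank_fin_fun] at hH
    omega
  obtain ⟨ψ, hψ, hle⟩ := Submodule.exists_le_ker_of_lt_top H hlt
  refine (finite_lines_in_plane hf hirr ψ hψ).subset ?_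
  rintro M ⟨hM, hMH⟩
  exact ⟨hM, hMH.trans hle⟩

/-- **Finitely many lines meet a given line of a smooth cubic surface.** -/
theorem finite_lines_meeting (hf : f.IsHomogeneous 3) (hirr : Irreducible f) (hsm : Smooth f)
    (L : Submodule K (Fin 4 → K)) (hL : L ∈ Lines f) :
    {M : Submodule K (Fin 4 → K) | M ∈ Lines f ∧ M ⊓ L ≠ ⊥}.Finite := by
  obtain ⟨P⟩ := exists_polar hf
  have h5 := ncard_tritangent_planes hf hsm L hL.1 hL.2
  have hfin : {H : Submodule K (Fin 4 → K) | IsTri f L H}.Finite :=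
    Set.finite_of_ncard_ne_zero (by rw [h5]; norm_num)
  obtain ⟨a, b, c, d, Fr, rfl⟩ := exists_frame L hL.1
  have hL' : ∀ x y : K, eval (x • a + y • b) f = 0 := by
    intro x y
    exact hL.2 _ (Submodule.mem_span_pair.mpr ⟨_, _, rfl⟩)
  obtain ⟨c', d', Fr', hdet⟩ := Fr.exists_good P hL' hsm
  have hfin2 : (⋃ H ∈ {H : Submodule K (Fin 4 → K) | IsTri f (Submodule.span K {a, b}) H},
      {M : Submodule K (Fin 4 → K) | M ∈ Lines f ∧ M ≤ H}).Finite := by
    apply Set.Finite.biUnion hfin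
    intro H hH
    exact finite_lines_le hf hirr H hH.1
  refine ((Set.finite_singleton (Submodule.span K {a, b})).union hfin2).subset ?_
  rintro M ⟨hM, hmeet⟩
  by_cases hne : M = Submodule.span K {a, b}
  · left; exact hne
  · right
    simp only [Set.mem_iUnion]
    exact ⟨_, isTri_of_meeting Fr' P hL' hsm hdet hM hne hmeet, hM, le_sup_right⟩

/-- a line meets every plane -/
lemma inf_ne_bot_of_finrank {M H : Submodule K (Fin 4 → K)} (hM : Module.finrank K ↥M = 2)
    (hH : Module.finrank K ↥H = 3) : M ⊓ H ≠ ⊥ := by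
  intro h0
  have hsum := Submodule.finrank_sup_add_finrank_inf_eq M H
  rw [h0, finrank_bot] at hsum
  have := Submodule.finrank_le (M ⊔ H)
  rw [Module.finrank_fin_fun] at this
  omega

/-- **A smooth irreducible cubic surface has finitely many lines.** -/
theorem finite_lines_of_smooth (hf : f.IsHomogeneous 3) (hirr : Irreducible f) (hsm : Smooth f) :
    (Lines f).Finite := by
  by_cases hne : (Lines f).Nonempty
  swap
  · rw [Set.not_nonempty_iff_eq_empty.mp hne]; exact Set.finite_empty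
  obtain ⟨L₀, hL₀⟩ := hne
  obtain ⟨P⟩ := exists_polar hf
  obtain ⟨a, b, c, d, Fr, rfl⟩ := exists_frame L₀ hL₀.1
  have hL' : ∀ x y : K, eval (x • a + y • b) f = 0 := by
    intro x y
    exact hL₀.2 _ (Submodule.mem_span_pair.mpr ⟨_, _, rfl⟩)
  obtain ⟨c', d', Fr', hdet⟩ := Fr.exists_good P hL' hsm
  obtain ⟨R, hR, hmem⟩ := Fr'.five_roots P hL' hsm hdet
  obtain ⟨τ, hτR⟩ : R.Nonempty := by
    rw [← Finset.card_pos, hR]; norm_num
  have hτ := (hmem τ).mp hτR
  rw [eval_triDisc] at hτ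
  obtain ⟨w, hw⟩ : ∃ w, w = τ • c' + d' := ⟨_, rfl⟩
  rw [← hw] at hτ
  have Fr'' : Frame a b w c' := by rw [hw]; exact Fr'.shift τ
  have hinj := Fr''.inj
  have hinj' := Fr''.inj'
  have hbasis := Fr''.basis
  have hMt := triMat_transpose P a b w
  obtain ⟨u₀, hu₀, hker⟩ := Matrix.exists_mulVec_eq_zero_iff.mpr hτ
  obtain ⟨ℓ', ℓ'', hfac⟩ := exists_factor_of_kernel hMt hu₀ hker
  have hℓ' : ℓ' ≠ 0 := by
    intro h0
    refine not_kernel_functional P hL' hsm hbasis hinj' zc zc_ne_zero ?_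
    intro u _
    apply kernel_of_translation_invariant hMt
    intro u'
    rw [hfac, hfac, h0]
    simp
  have hℓ'' : ℓ'' ≠ 0 := by
    intro h0
    refine not_kernel_functional P hL' hsm hbasis hinj' zc zc_ne_zero ?_
    intro u _
    apply kernel_of_translation_invariant hMt
    intro u'
    rw [hfac, hfac, h0]
    simp
  have hline : ∀ ℓ : (Fin 3 → K) →ₗ[K] K, ℓ ≠ 0 →
      (∀ u, ℓ u = 0 → u ⬝ᵥ triMat P a b w *ᵥ u = 0) →
      (LinearMap.ker ℓ).map (planeMap a b w) ∈ Lines f := by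
    intro ℓ hℓ hq
    refine ⟨?_, ?_⟩
    · rw [finrank_map_planeMap hinj, finrank_ker_three hℓ]
    · rintro x ⟨u, hu, rfl⟩
      rw [planeMap_apply, eval_planePt P hL', hq u hu, mul_zero]
  have hL'mem := hline ℓ' hℓ' (fun u hu => by rw [hfac, hu, zero_mul])
  have hL''mem := hline ℓ'' hℓ'' (fun u hu => by rw [hfac, hu, mul_zero])
  have hH3 : Module.finrank K ↥(LinearMap.range (planeMap a b w)) = 3 := Fr''.finrank_plane
  refine (((finite_lines_meeting hf hirr hsm _ hL₀).union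
    (finite_lines_meeting hf hirr hsm _ hL'mem)).union
    (finite_lines_meeting hf hirr hsm _ hL''mem)).subset ?_
  intro M hM
  obtain ⟨x, hxmem, hx⟩ := (Submodule.ne_bot_iff _).mp (inf_ne_bot_of_finrank hM.1 hH3)
  obtain ⟨hxM, ⟨u, rfl⟩⟩ := Submodule.mem_inf.mp hxmem
  have hfx := hM.2 _ hxM
  rw [planeMap_apply, eval_planePt P hL', hfac] at hfx
  have hmk : ∀ N : Submodule K (Fin 4 → K), planeMap a b w u ∈ N → M ⊓ N ≠ ⊥ := by
    intro N hN h0
    have : planeMap a b w u ∈ M ⊓ N := Submodule.mem_inf.mpr ⟨hxM, hN⟩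
    rw [h0, Submodule.mem_bot] at this
    exact hx this
  rcases mul_eq_zero.mp hfx with h | h
  · left; left
    refine ⟨hM, hmk _ ?_⟩
    rw [← map_ker_zc (w := w)]
    exact ⟨u, by simpa using h, rfl⟩
  · rcases mul_eq_zero.mp h with h | h
    · left; right
      exact ⟨hM, hmk _ ⟨u, by simpa using h, rfl⟩⟩
    · right
      exact ⟨hM, hmk _ ⟨u, by simpa using h, rfl⟩⟩

end Groth.Agent.Lib.Helper8.PfE
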