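import Mathlib
import Groth.Agent.Lib.Helper8.PfE2
set_option backward.isDefEq.respectTransparency.types false
set_option autoImplicit false
set_option linter.unusedSectionVars false
set_option linter.style.haveILetI false

namespace Groth.Agent.Lib.Helper8.PfE

open MvPolynomial Matrix Groth.Agent.Lib.Helper8.CubicK

variable {K : Type*} [Field K] [CharZero K] [IsAlgClosed K] {f : MvPolynomial (Fin 4) K}

/-- lines through the point `p` -/
def LinesThrough (f : MvPolynomial (Fin 4) K) (p : Fin 4 → K) : Set (Submodule K (Fin 4 → K)) :=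
  {U | p ∈ U ∧ Module.finrank K ↥U = 2 ∧ ∀ u ∈ U, eval u f = 0}

/-- the lines which lie in a plane attached to a line `U` through the singular point -/
def LinesB (P : Polar f) (p : Fin 4 → K) (U : Submodule K (Fin 4 → K)) :
    Set (Submodule K (Fin 4 → K)) :=
  {M | M ∈ Lines f ∧ ∃ g ∈ U, g ∉ Submodule.span K {p} ∧
    ((P.lin p g ≠ 0 ∧ M ≤ LinearMap.ker (P.lin p g)) ∨
      (P.lin p g = 0 ∧ P.lin g g ≠ 0 ∧ M ≤ LinearMap.ker (P.lin g g)))}

lemma finite_linesB (hf : f.IsHomogeneous 3) (hirr : Irreducible f) (P : Polar f)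
    {p : Fin 4 → K} (hp : p ≠ 0) (hpp : ∀ x, P.T p p x = 0)
    (U : Submodule K (Fin 4 → K)) (hU : U ∈ LinesThrough f p) : (LinesB P p U).Finite := by
  obtain ⟨hpU, hU2, -⟩ := hU
  obtain ⟨g₀, hg₀U, hg₀, hspan⟩ := two_dim U hU2 p hp hpU
  have hrel : ∀ g ∈ U, g ∉ Submodule.span K {p} → ∃ α β : K, β ≠ 0 ∧ g = α • p + β • g₀ := by
    intro g hgU hg
    obtain ⟨α, β, rfl⟩ := hspan g hgU
    refine ⟨α, β, ?_, rfl⟩
    rintro rfl
    apply hg
    rw [zero_smul, add_zero]
    exact Submodule.smul_mem _ _ (Submodule.subset_span (by simp))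
  by_cases h1 : P.lin p g₀ = 0
  · by_cases h2 : P.lin g₀ g₀ = 0
    · convert Set.finite_empty
      ext M
      simp only [Set.mem_empty_iff_false, iff_false]
      rintro ⟨-, g, hgU, hg, hcase⟩
      obtain ⟨α, β, hβ, rfl⟩ := hrel g hgU hg
      have e1 : P.lin p (α • p + β • g₀) = 0 := by
        apply LinearMap.ext
        intro x
        have := LinearMap.congr_fun h1 x
        simp only [Polar.lin_apply, LinearMap.zero_apply] at this ⊢
        rw [P.add₂, P.smul₂, P.smul₂, hpp, this]; ring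
      have e2 : P.lin (α • p + β • g₀) (α • p + β • g₀) = 0 := by
        apply LinearMap.ext
        intro x
        have t1 := LinearMap.congr_fun h1 x
        have t2 := LinearMap.congr_fun h2 x
        simp only [Polar.lin_apply, LinearMap.zero_apply] at t1 t2 ⊢
        simp only [P.add₁, P.add₂, P.smul₁, P.smul₂]
        rw [hpp, P.swap₁₂ g₀ p x, t1, t2]; ring
      rcases hcase with ⟨hne, -⟩ | ⟨-, hne, -⟩
      · exact hne e1
      · exact hne e2
    · refine (finite_lines_in_plane hf hirr (P.lin g₀ g₀) h2).subset ?_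
      rintro M ⟨hM, g, hgU, hg, hcase⟩
      refine ⟨hM, ?_⟩
      obtain ⟨α, β, hβ, rfl⟩ := hrel g hgU hg
      have e1 : P.lin p (α • p + β • g₀) = 0 := by
        apply LinearMap.ext
        intro x
        have := LinearMap.congr_fun h1 x
        simp only [Polar.lin_apply, LinearMap.zero_apply] at this ⊢
        rw [P.add₂, P.smul₂, P.smul₂, hpp, this]; ring
      rcases hcase with ⟨hne, -⟩ | ⟨-, -, hle⟩
      · exact absurd e1 hne
      · intro m hm
        have hm' := LinearMap.mem_ker.mp (hle hm)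
        have t1 := LinearMap.congr_fun h1 m
        simp only [Polar.lin_apply, LinearMap.zero_apply] at t1 hm'
        simp only [P.add₁, P.add₂, P.smul₁, P.smul₂] at hm'
        rw [hpp, P.swap₁₂ g₀ p m, t1] at hm'
        rw [LinearMap.mem_ker, Polar.lin_apply]
        have : β ^ 2 * P.T g₀ g₀ m = 0 := by linear_combination hm'
        exact (mul_eq_zero.mp this).resolve_left (pow_ne_zero 2 hβ)
  · refine (finite_lines_in_plane hf hirr (P.lin p g₀) h1).subset ?_
    rintro M ⟨hM, g, hgU, hg, hcase⟩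
    refine ⟨hM, ?_⟩
    obtain ⟨α, β, hβ, rfl⟩ := hrel g hgU hg
    have e1 : ∀ x, P.T p (α • p + β • g₀) x = β * P.T p g₀ x := by
      intro x
      rw [P.add₂, P.smul₂, P.smul₂, hpp]; ring
    rcases hcase with ⟨-, hle⟩ | ⟨h0, -, -⟩
    · intro m hm
      have hm' := LinearMap.mem_ker.mp (hle hm)
      rw [Polar.lin_apply, e1] at hm'
      rw [LinearMap.mem_ker, Polar.lin_apply]
      exact (mul_eq_zero.mp hm').resolve_left hβ
    · exfalso
      apply h1
      apply LinearMap.ext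
      intro x
      have := LinearMap.congr_fun h0 x
      simp only [Polar.lin_apply, LinearMap.zero_apply] at this ⊢
      rw [e1] at this
      exact (mul_eq_zero.mp this).resolve_left hβ

/-- **An irreducible cubic surface, not a cone, with a singular point through which there is no
line of singular points, has finitely many lines.** -/
theorem finite_lines_of_singular (hf : f.IsHomogeneous 3) (hirr : Irreducible f)
    (hcone : ¬ ∃ v : Fin 4 → K, v ≠ 0 ∧ ∑ i : Fin 4, v i • pderiv i f = 0)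
    (P : Polar f) {p : Fin 4 → K} (hp : p ≠ 0) (hpp : ∀ x, P.T p p x = 0)
    (hnr : ¬ ∃ z, z ∉ Submodule.span K {p} ∧ (∀ x, P.T p z x = 0) ∧ (∀ x, P.T z z x = 0)) :
    (Lines f).Finite := by
  have hZfin : (LinesThrough f p).Finite := by
    have := encard_lines_through_singular_le_six hf hirr hcone p hp
      (fun i => P.pderiv_eq_zero p hpp i)
    exact Set.finite_of_encard_le_coe this
  -- lines spanned by two lines through `p`
  have hAfin : ∀ U₁ U₂ : Submodule K (Fin 4 → K),
      {M : Submodule K (Fin 4 → K) | M ∈ Lines f ∧ Module.finrank K ↥(U₁ ⊔ U₂) = 3 ∧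
        M ≤ U₁ ⊔ U₂}.Finite := by
    intro U₁ U₂
    by_cases h3 : Module.finrank K ↥(U₁ ⊔ U₂) = 3
    · refine (finite_lines_le hf hirr _ h3).subset ?_
      rintro M ⟨hM, -, hle⟩
      exact ⟨hM, hle⟩
    · convert Set.finite_empty
      ext M
      simp only [Set.mem_empty_iff_false, iff_false]
      rintro ⟨-, h, -⟩
      exact h3 h
  have hA : (⋃ U₁ ∈ LinesThrough f p, ⋃ U₂ ∈ LinesThrough f p,
      {M : Submodule K (Fin 4 → K) | M ∈ Lines f ∧ Module.finrank K ↥(U₁ ⊔ U₂) = 3 ∧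
        M ≤ U₁ ⊔ U₂}).Finite :=
    Set.Finite.biUnion hZfin fun U₁ _ => Set.Finite.biUnion hZfin fun U₂ _ => hAfin U₁ U₂
  have hB : (⋃ U ∈ LinesThrough f p, LinesB P p U).Finite :=
    Set.Finite.biUnion hZfin fun U hU => finite_linesB hf hirr P hp hpp U hU
  refine ((hZfin.union hA).union hB).subset ?_
  intro M hM
  by_cases hpM : p ∈ M
  · left; left
    exact ⟨hpM, hM.1, hM.2⟩
  -- a basis of `M`
  have hbot : M ≠ ⊥ := by
    intro h0
    have := hM.1
    rw [h0, finrank_bot] at this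
    omega
  obtain ⟨m₁, hm₁M, hm₁⟩ := (Submodule.ne_bot_iff _).mp hbot
  obtain ⟨m₂, hm₂M, hm₂, -⟩ := two_dim M hM.1 m₁ hm₁ hm₁M
  -- a root of the tangent cone on `M`
  have hm₂' : m₂ ∉ Submodule.span K {m₁} := hm₂
  obtain ⟨s, t, hu₁0, hQu₁⟩ := P.exists_root_on_plane m₂ m₁ p hm₂' hm₁
  obtain ⟨u₁, hu₁⟩ : ∃ u₁, u₁ = s • m₂ + t • m₁ := ⟨_, rfl⟩
  rw [← hu₁] at hu₁0 hQu₁
  have hu₁M : u₁ ∈ M := by
    rw [hu₁]; exact M.add_mem (M.smul_mem _ hm₂M) (M.smul_mem _ hm₁M)
  have hQ₁ : P.T p u₁ u₁ = 0 := by rw [P.swap₁₃ p u₁ u₁]; exact hQu₁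
  have notspan : ∀ u ∈ M, u ≠ 0 → u ∉ Submodule.span K {p} := by
    intro u huM hu0 hmem
    obtain ⟨c, hc⟩ := Submodule.mem_span_singleton.mp hmem
    have hc0 : c ≠ 0 := by
      rintro rfl
      rw [zero_smul] at hc
      exact hu0 hc.symm
    apply hpM
    have : p = c⁻¹ • u := by rw [← hc, smul_smul, inv_mul_cancel₀ hc0, one_smul]
    rw [this]
    exact M.smul_mem _ huM
  have hZ : ∀ u ∈ M, u ≠ 0 → P.T p u u = 0 → Submodule.span K {p, u} ∈ LinesThrough f p := by
    intro u huM hu0 hQ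
    exact (line_through_sing_iff P hpp hp _).mpr ⟨u, notspan u huM hu0, rfl, hM.2 u huM, hQ⟩
  have hU₁ := hZ u₁ hu₁M hu₁0 hQ₁
  obtain ⟨w, hwM, hw, hspanM⟩ := two_dim M hM.1 u₁ hu₁0 hu₁M
  have hline : ∀ τ : K, eval (u₁ + τ • w) f = 0 := fun τ =>
    hM.2 _ (M.add_mem hu₁M (M.smul_mem _ hwM))
  obtain ⟨-, hT1, hT2, hfw⟩ := P.T_eq_zero_of_line u₁ w hline
  by_cases hβ : P.T p u₁ w = 0
  · -- the tangent cone has a double root on `M`
    right
    simp only [Set.mem_iUnion]
    refine ⟨_, hU₁, hM, u₁, Submodule.subset_span (by simp), notspan u₁ hu₁M hu₁0, ?_⟩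
    have hle1 : M ≤ LinearMap.ker (P.lin p u₁) := by
      intro m hm
      obtain ⟨α, β, rfl⟩ := hspanM m hm
      rw [LinearMap.mem_ker, Polar.lin_apply, P.add₃, P.smul₃, P.smul₃, hQ₁, hβ]; ring
    have hle2 : M ≤ LinearMap.ker (P.lin u₁ u₁) := by
      intro m hm
      obtain ⟨α, β, rfl⟩ := hspanM m hm
      rw [LinearMap.mem_ker, Polar.lin_apply, P.add₃, P.smul₃, P.smul₃, P.diag, hM.2 u₁ hu₁M,
        hT1]; ring
    by_cases h1 : P.lin p u₁ = 0
    · right
      refine ⟨h1, ?_, hle2⟩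
      intro h2
      apply hnr
      refine ⟨u₁, notspan u₁ hu₁M hu₁0, ?_, ?_⟩
      · intro x
        have := LinearMap.congr_fun h1 x
        simpa using this
      · intro x
        have := LinearMap.congr_fun h2 x
        simpa using this
    · left
      exact ⟨h1, hle1⟩
  · -- two distinct roots
    left; right
    obtain ⟨γ, hγ⟩ : ∃ γ, γ = P.T p w w := ⟨_, rfl⟩
    obtain ⟨u₂, hu₂⟩ : ∃ u₂, u₂ = γ • u₁ - (2 * P.T p u₁ w) • w := ⟨_, rfl⟩
    have hu₂M : u₂ ∈ M := by
      rw [hu₂]; exact M.sub_mem (M.smul_mem _ hu₁M) (M.smul_mem _ hwM)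
    have h2β : 2 * P.T p u₁ w ≠ 0 := mul_ne_zero two_ne_zero hβ
    have hu₂span : u₂ ∉ Submodule.span K {u₁} := by
      intro hmem
      obtain ⟨c, hc⟩ := Submodule.mem_span_singleton.mp hmem
      apply hw
      rw [Submodule.mem_span_singleton]
      refine ⟨(2 * P.T p u₁ w)⁻¹ * (γ - c), ?_⟩
      have : (2 * P.T p u₁ w) • w = (γ - c) • u₁ := by
        rw [sub_smul, hc, hu₂]; abel
      calc ((2 * P.T p u₁ w)⁻¹ * (γ - c)) • u₁
          = (2 * P.T p u₁ w)⁻¹ • ((γ - c) • u₁) := by rw [smul_smul]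
        _ = (2 * P.T p u₁ w)⁻¹ • ((2 * P.T p u₁ w) • w) := by rw [this]
        _ = w := by rw [smul_smul, inv_mul_cancel₀ h2β, one_smul]
    have hu₂0 : u₂ ≠ 0 := by
      intro h0
      apply hu₂span
      rw [h0]; exact Submodule.zero_mem _
    have hQ₂ : P.T p u₂ u₂ = 0 := by
      rw [hu₂]
      simp only [P.sub₂, P.sub₃, P.smul₂, P.smul₃]
      rw [hQ₁, P.swap₂₃ p w u₁, ← hγ]; ring
    have hU₂ := hZ u₂ hu₂M hu₂0 hQ₂
    simp only [Set.mem_iUnion]
    refine ⟨_, hU₁, _, hU₂, hM, ?_, ?_⟩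
    · apply finrank_sup_of_meeting hU₁.2.1 hU₂.2.1
      · intro heq
        have : u₂ ∈ Submodule.span K {p, u₁} := by
          rw [← heq]; exact Submodule.subset_span (by simp)
        obtain ⟨α, β, hαβ⟩ := Submodule.mem_span_pair.mp this
        have hα : α = 0 := by
          by_contra hα
          apply hpM
          have : p = α⁻¹ • (u₂ - β • u₁) := by
            rw [← hαβ, add_sub_cancel_right, smul_smul, inv_mul_cancel₀ hα, one_smul]
          rw [this]
          exact M.smul_mem _ (M.sub_mem hu₂M (M.smul_mem _ hu₁M))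
        apply hu₂span
        rw [Submodule.mem_span_singleton]
        exact ⟨β, by rw [← hαβ, hα, zero_smul, zero_add]⟩
      · intro h0
        have : p ∈ Submodule.span K {p, u₂} ⊓ Submodule.span K {p, u₁} :=
          Submodule.mem_inf.mpr ⟨Submodule.subset_span (by simp), Submodule.subset_span (by simp)⟩
        rw [h0, Submodule.mem_bot] at this
        exact hp this
    · intro m hm
      obtain ⟨α, β, rfl⟩ := hspanM m hm
      have hu₁mem : u₁ ∈ Submodule.span K {p, u₁} ⊔ Submodule.span K {p, u₂} :=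
        Submodule.mem_sup_left (Submodule.subset_span (by simp))
      have hu₂mem : u₂ ∈ Submodule.span K {p, u₁} ⊔ Submodule.span K {p, u₂} :=
        Submodule.mem_sup_right (Submodule.subset_span (by simp))
      have hwmem : w ∈ Submodule.span K {p, u₁} ⊔ Submodule.span K {p, u₂} := by
        have : w = (2 * P.T p u₁ w)⁻¹ • (γ • u₁ - u₂) := by
          rw [hu₂, sub_sub_cancel, smul_smul, inv_mul_cancel₀ h2β, one_smul]
        rw [this]
        exact Submodule.smul_mem _ _ (Submodule.sub_mem _ (Submodule.smul_mem _ _ hu₁mem) hu₂mem)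
      exact Submodule.add_mem _ (Submodule.smul_mem _ _ hu₁mem) (Submodule.smul_mem _ _ hwmem)

end Groth.Agent.Lib.Helper8.PfE
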