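import Mathlib
import Groth.Agent.Lib.Helper8.PfE3
import Groth.Agent.Lib.Helper8.GP7
set_option backward.isDefEq.respectTransparency.types false
set_option autoImplicit false
set_option linter.unusedSectionVars false
set_option linter.style.haveILetI false

namespace Groth.Agent.Lib.Helper8.PfE

open MvPolynomial Matrix Groth.Agent.Lib.Helper8.CubicK

variable {K : Type*} [Field K] [CharZero K] [IsAlgClosed K] {F : MvPolynomial (Fin 4) K}

/-- the `T`-point predicate over an algebraically closed field -/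
def TPK (F : MvPolynomial (Fin 4) K) (b : Fin 4 → K) : Prop :=
  ∃ L₁ L₂ L₃ : MvPolynomial (Fin 4) K, L₁.IsHomogeneous 1 ∧ L₂.IsHomogeneous 1 ∧
    L₃.IsHomogeneous 1 ∧
    F - L₁ * L₂ * L₃ ∈ Ideal.span
      {(∑ i : Fin 4, C (eval b (pderiv i F)) * X i : MvPolynomial (Fin 4) K)}

/-- A plane section containing a line of the tangent plane through the point. -/
lemma exists_line_of_factor (hF : F.IsHomogeneous 3) (hirr : Irreducible F) (P : Polar F)
    {b : Fin 4 → K} (hb : eval b F = 0) (hsm : ∃ i : Fin 4, eval b (pderiv i F) ≠ 0)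
    (Y : (Fin 4 → K) →ₗ[K] K) (hYb : Y b = 0)
    (hY : ∀ x, P.T b b x = 0 → Y x = 0 → eval x F = 0) :
    ∃ U ∈ Lines F, b ∈ U := by
  have hlam : P.lin b b ≠ 0 := GP.lin_ne_zero P hsm
  have hb0 : b ≠ 0 := by
    rintro rfl
    apply hlam
    apply LinearMap.ext
    intro x
    rw [Polar.lin_apply, P.zero₁]; rfl
  have hlamb : P.lin b b b = 0 := by rw [Polar.lin_apply, P.diag, hb]
  obtain ⟨h₁, h₂, hh₁, hh₂, hli, hspan⟩ := exists_adapted_basis (P.lin b b) hlam b hb0 hlamb
  rw [Polar.lin_apply] at hh₁ hh₂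
  obtain ⟨Z₁, hZ₁⟩ := exists_dual_of_li _ hli 2
  obtain ⟨Z₂, hZ₂⟩ := exists_dual_of_li _ hli 0
  have hZ₁h₁ : Z₁ h₁ = 1 := by simpa using hZ₁ 2
  have hZ₁h₂ : Z₁ h₂ = 0 := by simpa using hZ₁ 0
  have hZ₁b : Z₁ b = 0 := by simpa using hZ₁ 1
  have hZ₂h₁ : Z₂ h₁ = 0 := by simpa using hZ₂ 2
  have hZ₂h₂ : Z₂ h₂ = 1 := by simpa using hZ₂ 0
  have hZ₂b : Z₂ b = 0 := by simpa using hZ₂ 1
  by_cases h00 : Y h₁ = 0 ∧ Y h₂ = 0
  · exfalso
    refine not_irreducible_of_vanish_on_ker hF (P.lin b b) hlam ?_ hirr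
    intro x hx
    apply hY x (by rwa [Polar.lin_apply] at hx)
    obtain ⟨s, y₁, y₂, rfl⟩ := hspan x hx
    simp only [map_add, map_smul, h00.1, h00.2, hYb, smul_eq_mul]
    ring
  · obtain ⟨u, hu⟩ : ∃ u, u = Y h₂ • h₁ - Y h₁ • h₂ := ⟨_, rfl⟩
    have huspan : u ∉ Submodule.span K {b} := by
      intro hmem
      obtain ⟨c, hc⟩ := Submodule.mem_span_singleton.mp hmem
      apply h00
      have e1 := congrArg Z₁ hc
      have e2 := congrArg Z₂ hc
      rw [hu] at e1 e2
      simp only [map_sub, map_smul, hZ₁h₁, hZ₁h₂, hZ₁b, hZ₂h₁, hZ₂h₂, hZ₂b, smul_eq_mul,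
        mul_zero, mul_one, sub_zero, zero_sub] at e1 e2
      exact ⟨by linear_combination e2, by linear_combination -e1⟩
    refine ⟨Submodule.span K {b, u}, ⟨finrank_span_pair hb0 huspan, ?_⟩,
      Submodule.subset_span (by simp)⟩
    intro x hx
    obtain ⟨α, β, rfl⟩ := Submodule.mem_span_pair.mp hx
    apply hY
    · rw [P.add₃, P.smul₃, P.smul₃, P.diag, hb, hu, P.sub₃, P.smul₃, P.smul₃, hh₁, hh₂]; ring
    · rw [map_add, map_smul, map_smul, hYb, hu, map_sub, map_smul, map_smul]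
      simp only [smul_eq_mul]
      ring

/-- **A smooth `T`-point of an irreducible cubic surface lies on a line of the surface.** -/
theorem exists_line_of_TPK (hF : F.IsHomogeneous 3) (hirr : Irreducible F)
    {b : Fin 4 → K} (hb : eval b F = 0) (hsm : ∃ i : Fin 4, eval b (pderiv i F) ≠ 0)
    (hT : TPK F b) : ∃ U ∈ Lines F, b ∈ U := by
  obtain ⟨P⟩ := exists_polar hF
  obtain ⟨L₁, L₂, L₃, hL₁, hL₂, hL₃, hmem⟩ := hT
  obtain ⟨Y₁, hY₁⟩ := exists_linear_of_homog_one L₁ hL₁
  obtain ⟨Y₂, hY₂⟩ := exists_linear_of_homog_one L₂ hL₂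
  obtain ⟨Y₃, hY₃⟩ := exists_linear_of_homog_one L₃ hL₃
  rw [Ideal.mem_span_singleton'] at hmem
  obtain ⟨g, hg⟩ := hmem
  have hbb : P.T b b b = 0 := by rw [P.diag]; exact hb
  have hprod : ∀ x : Fin 4 → K, P.T b b x = 0 → eval x F = Y₁ x * Y₂ x * Y₃ x := by
    intro x hx
    have := congrArg (eval x) hg
    rw [map_mul, P.eval_tangentForm, hx, mul_zero, mul_zero, map_sub, map_mul, map_mul, hY₁, hY₂,
      hY₃] at this
    linear_combination -this
  have h0 := hprod b hbb
  rw [hb] at h0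
  rcases mul_eq_zero.mp h0.symm with h | h
  · rcases mul_eq_zero.mp h with h | h
    · exact exists_line_of_factor hF hirr P hb hsm Y₁ h (fun x hx hYx => by
        rw [hprod x hx, hYx]; ring)
    · exact exists_line_of_factor hF hirr P hb hsm Y₂ h (fun x hx hYx => by
        rw [hprod x hx, hYx]; ring)
  · exact exists_line_of_factor hF hirr P hb hsm Y₃ h (fun x hx hYx => by
      rw [hprod x hx, hYx]; ring)

/-- divisibility and total degrees -/
lemma totalDegree_le_of_dvd' {A B : MvPolynomial (Fin 4) K} (h : A ∣ B) (hB : B ≠ 0) :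
    A.totalDegree ≤ B.totalDegree := by
  obtain ⟨C', rfl⟩ := h
  have hA : A ≠ 0 := by rintro rfl; exact hB (zero_mul _)
  have hC : C' ≠ 0 := by rintro rfl; exact hB (mul_zero _)
  rw [totalDegree_mul_of_isDomain hA hC]
  omega

/-- **A polynomial certificate for non-`T`-points, when the surface has finitely many lines.** -/
theorem exists_certificate (hF : F.IsHomogeneous 3) (hirr : Irreducible F)
    (hcone : ¬ ∃ v : Fin 4 → K, v ≠ 0 ∧ ∑ i : Fin 4, v i • pderiv i F = 0)
    (hfin : (Lines F).Finite) :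
    ∃ G : MvPolynomial (Fin 4) K, ¬ F ∣ G ∧
      ∀ b, eval b F = 0 → eval b G ≠ 0 →
        (∃ i : Fin 4, eval b (pderiv i F) ≠ 0) ∧ ¬ TPK F b := by
  classical
  have hF0 : F ≠ 0 := hirr.ne_zero
  have hdeg : F.totalDegree = 3 := hF.totalDegree hF0
  have hex : ∀ U ∈ Lines F, ∃ ψ : (Fin 4 → K) →ₗ[K] K, ψ ≠ 0 ∧ U ≤ LinearMap.ker ψ := by
    intro U hU
    apply Submodule.exists_le_ker_of_lt_top
    rw [lt_top_iff_ne_top]
    intro h0
    have := hU.1
    rw [h0, finrank_top, Module.finrank_fin_fun] at this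
    omega
  choose! ψ hψ using hex
  have hd0 : pderiv 0 F ≠ 0 := by
    intro h0
    apply hcone
    refine ⟨Pi.single 0 1, ?_, ?_⟩
    · intro h
      have := congrFun h 0
      simp at this
    · rw [Fin.sum_univ_four]
      simp [h0]
  refine ⟨pderiv 0 F * ∏ U ∈ hfin.toFinset, linPoly (ψ U), ?_, ?_⟩
  · intro hdvd
    have hprime : Prime F := hirr.prime
    rcases hprime.dvd_or_dvd hdvd with h | h
    · have h1 := totalDegree_le_of_dvd' h hd0
      have h2 : (pderiv 0 F).totalDegree ≤ 2 := (hF.pderiv (i := 0)).totalDegree_le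
      omega
    · obtain ⟨U, hU, hUdvd⟩ := (Prime.dvd_finsetProd_iff hprime _).mp h
      rw [Set.Finite.mem_toFinset] at hU
      have hne : linPoly (ψ U) ≠ 0 := by
        intro h0
        apply (hψ U hU).1
        apply LinearMap.ext
        intro x
        rw [← eval_linPoly, h0]; simp
      have h1 := totalDegree_le_of_dvd' hUdvd hne
      have h2 := linPoly_totalDegree_le (ψ U)
      omega
  · intro b hb hG
    rw [map_mul, map_prod] at hG
    have hsm : ∃ i : Fin 4, eval b (pderiv i F) ≠ 0 := ⟨0, left_ne_zero_of_mul hG⟩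
    refine ⟨hsm, ?_⟩
    intro hT
    obtain ⟨U, hU, hbU⟩ := exists_line_of_TPK hF hirr hb hsm hT
    have hprod := right_ne_zero_of_mul hG
    apply hprod
    apply Finset.prod_eq_zero (i := U) ((Set.Finite.mem_toFinset hfin).mpr hU)
    rw [eval_linPoly]
    exact LinearMap.mem_ker.mp ((hψ U hU).2 hbU)

end Groth.Agent.Lib.Helper8.PfE
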