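import Mathlib
set_option backward.isDefEq.respectTransparency.types false
set_option autoImplicit false
set_option linter.unusedSectionVars false
set_option linter.style.haveILetI false

namespace Groth.Agent.Lib.Helper8.PfE

open MvPolynomial

/-- a nonzero polynomial over an extension of an infinite field has a non-root with coordinates in
the small field -/
lemma exists_rational_eval_ne_zero {k Ω : Type*} [Field k] [Infinite k] [Field Ω] [Algebra k Ω]
    {σ : Type*} {R : MvPolynomial σ Ω} (hR : R ≠ 0) :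
    ∃ x' : σ → k, eval (fun i => algebraMap k Ω (x' i)) R ≠ 0 := by
  by_contra hcon
  push Not at hcon
  apply hR
  apply MvPolynomial.funext_set (fun _ : σ => Set.range (algebraMap k Ω))
    (fun _ => Set.infinite_range_of_injective (algebraMap k Ω).injective)
  intro x hx
  have hx' : ∀ i, ∃ y : k, algebraMap k Ω y = x i := fun i => hx i (Set.mem_univ i)
  choose x' hx'' using hx'
  have : x = fun i => algebraMap k Ω (x' i) := funext fun i => (hx'' i).symm
  rw [this, hcon x', map_zero]

/-- **Elimination.** For an irreducible polynomial `𝔽` in four variables over `Ω`, of positive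
degree in the first variable, and a polynomial `𝔾` which it does not divide, there is a line
`{(τ, x')}` with `x'` rational over an infinite subfield on which `𝔽` and `𝔾` have no common
zero. -/
theorem exists_rational_line {k Ω : Type*} [Field k] [Infinite k] [Field Ω] [Algebra k Ω]
    (𝔽 𝔾 : MvPolynomial (Fin 4) Ω) (hirr : Irreducible 𝔽) (hnd : ¬ 𝔽 ∣ 𝔾)
    (hdeg : (finSuccEquiv Ω 3 𝔽).natDegree ≠ 0) :
    ∃ x' : Fin 3 → k, ∀ τ : Ω,
      eval (Fin.cons τ (fun i => algebraMap k Ω (x' i)) : Fin 4 → Ω) 𝔽 = 0 →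
        eval (Fin.cons τ (fun i => algebraMap k Ω (x' i)) : Fin 4 → Ω) 𝔾 ≠ 0 := by
  classical
  obtain ⟨Pp, hPp⟩ : ∃ Pp, Pp = finSuccEquiv Ω 3 𝔽 := ⟨_, rfl⟩
  obtain ⟨Qq, hQq⟩ : ∃ Qq, Qq = finSuccEquiv Ω 3 𝔾 := ⟨_, rfl⟩
  rw [← hPp] at hdeg
  have hPirr : Irreducible Pp := by
    rw [hPp]
    exact (MulEquiv.irreducible_iff (finSuccEquiv Ω 3)).mpr hirr
  have hPQ : ¬ Pp ∣ Qq := by
    rw [hPp, hQq]
    intro h
    exact hnd ((map_dvd_iff (finSuccEquiv Ω 3)).mp h)
  have hprim : Pp.IsPrimitive := hPirr.isPrimitive hdeg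
  let Kf := FractionRing (MvPolynomial (Fin 3) Ω)
  have hinj : Function.Injective (algebraMap (MvPolynomial (Fin 3) Ω) Kf) :=
    IsFractionRing.injective _ _
  have hirrK : Irreducible (Pp.map (algebraMap (MvPolynomial (Fin 3) Ω) Kf)) :=
    (hprim.irreducible_iff_irreducible_map_fraction_map (K := Kf)).mp hPirr
  have hndK : ¬ Pp.map (algebraMap (MvPolynomial (Fin 3) Ω) Kf) ∣
      Qq.map (algebraMap (MvPolynomial (Fin 3) Ω) Kf) := fun h =>
    hPQ ((hprim.dvd_iff_fraction_map_dvd_fraction_map Kf).mpr h)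
  have hcop : IsCoprime (Pp.map (algebraMap (MvPolynomial (Fin 3) Ω) Kf))
      (Qq.map (algebraMap (MvPolynomial (Fin 3) Ω) Kf)) :=
    (hirrK.coprime_iff_not_dvd).mpr hndK
  have hres := Polynomial.resultant_ne_zero _ _ hcop
  rw [Polynomial.natDegree_map_eq_of_injective hinj, Polynomial.natDegree_map_eq_of_injective hinj,
    Polynomial.resultant_map_map] at hres
  have hR : Polynomial.resultant Pp Qq ≠ 0 := by
    intro h0
    apply hres
    rw [h0, map_zero]
  obtain ⟨pp, qq, -, -, hbez⟩ := Polynomial.exists_mul_add_mul_eq_C_resultant Pp Qq le_rfl le_rfl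
    (Or.inl hdeg)
  obtain ⟨x', hx'⟩ := exists_rational_eval_ne_zero (k := k) hR
  refine ⟨x', ?_⟩
  intro τ h𝔽 h𝔾
  rw [eval_eq_eval_mv_eval', ← hPp] at h𝔽
  rw [eval_eq_eval_mv_eval', ← hQq] at h𝔾
  have := congrArg (fun q => Polynomial.eval τ
    (Polynomial.map (eval (fun i => algebraMap k Ω (x' i))) q)) hbez
  simp only [Polynomial.map_add, Polynomial.map_mul, Polynomial.eval_add, Polynomial.eval_mul,
    Polynomial.map_C, Polynomial.eval_C, h𝔽, h𝔾, zero_mul, add_zero] at this
  exact hx' this.symm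

end Groth.Agent.Lib.Helper8.PfE
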