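import Mathlib
import Groth.Agent.Lib.Helper8.PfE4
set_option backward.isDefEq.respectTransparency.types false
set_option autoImplicit false
set_option linter.unusedSectionVars false
set_option linter.style.haveILetI false

namespace Groth.Agent.Lib.Helper8.PfE

open MvPolynomial Matrix Groth.Agent.Lib.Helper8.CubicK Groth.Agent.Lib.Helper8.GP

section sing

variable {K : Type*} [Field K] [CharZero K] [IsAlgClosed K] {f : MvPolynomial (Fin 4) K}

/-- If an irreducible cubic surface is singular along a line, every singular point lies on that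
line. -/
lemma mem_span_of_singular (hf : f.IsHomogeneous 3) (hirr : Irreducible f) (P : Polar f)
    {p z : Fin 4 → K} (hp : p ≠ 0) (hz : z ∉ Submodule.span K {p})
    (hpp : ∀ x, P.T p p x = 0) (hpz : ∀ x, P.T p z x = 0) (hzz : ∀ x, P.T z z x = 0)
    {v : Fin 4 → K} (hvv : ∀ x, P.T v v x = 0) : v ∈ Submodule.span K {p, z} := by
  by_contra hv
  have hli2 : LinearIndependent K ![p, z] := by
    rw [LinearIndependent.pair_iff' hp]
    intro t ht
    exact hz (Submodule.mem_span_singleton.mpr ⟨t, ht⟩)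
  have hrange : Set.range ![p, z] = {p, z} := by
    ext x
    simp only [Matrix.range_cons, Matrix.range_empty, Set.union_empty, Set.mem_union,
      Set.mem_singleton_iff, Set.mem_insert_iff]
  have hli3 : LinearIndependent K ![v, p, z] := by
    have : (![v, p, z] : Fin 3 → (Fin 4 → K)) = Fin.cons v ![p, z] := rfl
    rw [this, linearIndependent_finCons]
    refine ⟨hli2, ?_⟩
    rw [hrange]
    exact hv
  obtain ⟨ψ, hψ, hψv⟩ := exists_form ![v, p, z]
  have hψ0 : ψ v = 0 := hψv 0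
  have hψ1 : ψ p = 0 := hψv 1
  have hψ2 : ψ z = 0 := hψv 2
  have hspan := span_of_li_ker ψ hψ hψ1 hψ2 hψ0 hli3
  refine not_irreducible_of_vanish_on_ker hf ψ hψ ?_ hirr
  intro x hx
  obtain ⟨s, y₁, y₂, rfl⟩ := hspan x hx
  have e : (y₁ • z + y₂ • v) + s • p = y₂ • v + s • p + y₁ • z := by abel
  rw [e, P.cube_three]
  have h1 : eval v f = 0 := by rw [← P.diag, hvv]
  have h2 : eval p f = 0 := by rw [← P.diag, hpp]
  have h3 : eval z f = 0 := by rw [← P.diag, hzz]
  have h4 : P.T v p p = 0 := by rw [P.swap₁₃ v p p, hpp]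
  have h5 : P.T v z z = 0 := by rw [P.swap₁₃ v z z, hzz]
  have h6 : P.T v p z = 0 := by rw [P.swap₁₃ v p z, P.swap₁₂ z p v, hpz]
  rw [h1, h2, h3, hvv, hvv, h4, h5, hpp, hpz, h6]
  ring

end sing

section galois

variable {k : Type*} [Field k] [CharZero k] {Ω : Type*} [Field Ω] [Algebra k Ω]

/-- conjugation of the coordinates commutes with evaluation of polynomials over the base -/
lemma eval_conj (σ : Ω ≃ₐ[k] Ω) (g : MvPolynomial (Fin 4) k) (v : Fin 4 → Ω) :
    eval (fun i => σ (v i)) (map (algebraMap k Ω) g) = σ (eval v (map (algebraMap k Ω) g)) := by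
  rw [eval_map, eval_map]
  have := eval₂_comp_left (σ : Ω →+* Ω) (algebraMap k Ω) v g
  rw [show ((σ : Ω →+* Ω) (eval₂ (algebraMap k Ω) v g)) = σ (eval₂ (algebraMap k Ω) v g) from rfl]
    at this
  rw [this]
  congr 1
  ext a
  simp

variable [CharZero Ω] [IsAlgClosed Ω] [IsGalois k Ω]

/-- **Galois descent.** If the cubic surface of a form over `k` is, over the algebraic closure,
irreducible and singular along a line, it has a singular point which is rational over `k`. -/
theorem exists_rational_singular (F : MvPolynomial (Fin 4) k) (hF : F.IsHomogeneous 3)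
    (hirr : Irreducible (map (algebraMap k Ω) F))
    (P : Polar (map (algebraMap k Ω) F))
    {p z : Fin 4 → Ω} (hp : p ≠ 0) (hz : z ∉ Submodule.span Ω {p})
    (hpp : ∀ x, P.T p p x = 0) (hpz : ∀ x, P.T p z x = 0) (hzz : ∀ x, P.T z z x = 0) :
    ∃ a : Fin 4 → k, a ≠ 0 ∧ ∀ i, eval a (pderiv i F) = 0 := by
  have hFΩ : (map (algebraMap k Ω) F).IsHomogeneous 3 := hF.map _
  -- all points of the line are singular
  have hW : ∀ α β : Ω, ∀ x, P.T (α • p + β • z) (α • p + β • z) x = 0 := by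
    intro α β x
    simp only [P.add₁, P.add₂, P.smul₁, P.smul₂]
    rw [hpp, hpz, P.swap₁₂ z p x, hpz, hzz]
    ring
  -- pivots
  obtain ⟨i, hi⟩ : ∃ i, p i ≠ 0 := by
    by_contra hcon
    push Not at hcon
    exact hp (funext hcon)
  obtain ⟨π, hπ⟩ : ∃ π, π = p i := ⟨_, rfl⟩
  rw [← hπ] at hi
  obtain ⟨ζ, hζ⟩ : ∃ ζ, ζ = z i := ⟨_, rfl⟩
  obtain ⟨p', hp'⟩ : ∃ p', p' = π⁻¹ • p := ⟨_, rfl⟩
  have hp'i : p' i = 1 := by rw [hp', Pi.smul_apply, ← hπ, smul_eq_mul, inv_mul_cancel₀ hi]
  obtain ⟨z', hz'⟩ : ∃ z', z' = z - ζ • p' := ⟨_, rfl⟩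
  have hz'i : z' i = 0 := by
    rw [hz', Pi.sub_apply, Pi.smul_apply, hp'i, ← hζ, smul_eq_mul, mul_one, sub_self]
  have hz'0 : z' ≠ 0 := by
    intro h0
    apply hz
    rw [Submodule.mem_span_singleton]
    refine ⟨ζ * π⁻¹, ?_⟩
    rw [hz', sub_eq_zero] at h0
    rw [h0, hp', smul_smul]
  obtain ⟨j, hj⟩ : ∃ j, z' j ≠ 0 := by
    by_contra hcon
    push Not at hcon
    exact hz'0 (funext hcon)
  obtain ⟨κ, hκ⟩ : ∃ κ, κ = z' j := ⟨_, rfl⟩
  rw [← hκ] at hj
  obtain ⟨z'', hz''⟩ : ∃ z'', z'' = κ⁻¹ • z' := ⟨_, rfl⟩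
  have hz''i : z'' i = 0 := by rw [hz'', Pi.smul_apply, hz'i, smul_zero]
  have hz''j : z'' j = 1 := by rw [hz'', Pi.smul_apply, ← hκ, smul_eq_mul, inv_mul_cancel₀ hj]
  obtain ⟨ρ, hρ⟩ : ∃ ρ, ρ = p' j := ⟨_, rfl⟩
  obtain ⟨w, hw⟩ : ∃ w, w = p' - ρ • z'' := ⟨_, rfl⟩
  have hwi : w i = 1 := by
    rw [hw, Pi.sub_apply, Pi.smul_apply, hp'i, hz''i, smul_zero, sub_zero]
  have hwj : w j = 0 := by
    rw [hw, Pi.sub_apply, Pi.smul_apply, hz''j, ← hρ, smul_eq_mul, mul_one, sub_self]
  -- `p` and `z` in terms of `p'` and `z''`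
  have ep : p = π • p' := by rw [hp', smul_smul, mul_inv_cancel₀ hi, one_smul]
  have ez : z = κ • z'' + ζ • p' := by
    rw [hz'', smul_smul, mul_inv_cancel₀ hj, one_smul, hz']; abel
  have hWmem : ∀ v ∈ Submodule.span Ω {p, z}, ∃ α' β' : Ω, v = α' • p' + β' • z'' := by
    intro v hv
    obtain ⟨α, β, rfl⟩ := Submodule.mem_span_pair.mp hv
    refine ⟨α * π + β * ζ, β * κ, ?_⟩
    calc α • p + β • z = α • (π • p') + β • (κ • z'' + ζ • p') := by rw [← ep, ← ez]
      _ = (α * π + β * ζ) • p' + (β * κ) • z'' := by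
        simp only [smul_add, smul_smul, add_smul]
        abel
  have huniq : ∀ v ∈ Submodule.span Ω {p, z}, v i = 0 → v j = 0 → v = 0 := by
    intro v hv hvi hvj
    obtain ⟨α', β', rfl⟩ := hWmem v hv
    simp only [Pi.add_apply, Pi.smul_apply, smul_eq_mul, hp'i, hz''i, hz''j, mul_one, mul_zero,
      add_zero] at hvi hvj
    rw [hvi, zero_mul, zero_add] at hvj
    rw [hvi, hvj, zero_smul, zero_smul, add_zero]
  have hwW : w ∈ Submodule.span Ω {p, z} := by
    have hpW : p ∈ Submodule.span Ω {p, z} := Submodule.subset_span (by simp)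
    have hzW : z ∈ Submodule.span Ω {p, z} := Submodule.subset_span (by simp)
    have hp'W : p' ∈ Submodule.span Ω {p, z} := by rw [hp']; exact Submodule.smul_mem _ _ hpW
    have hz'W : z' ∈ Submodule.span Ω {p, z} := by
      rw [hz']; exact Submodule.sub_mem _ hzW (Submodule.smul_mem _ _ hp'W)
    have hz''W : z'' ∈ Submodule.span Ω {p, z} := by rw [hz'']; exact Submodule.smul_mem _ _ hz'W
    rw [hw]; exact Submodule.sub_mem _ hp'W (Submodule.smul_mem _ _ hz''W)
  have hwsing : ∀ x, P.T w w x = 0 := by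
    obtain ⟨α, β, hαβ⟩ := Submodule.mem_span_pair.mp hwW
    intro x
    rw [← hαβ]
    exact hW α β x
  -- the conjugates of `w` are singular, hence on the line
  have hfix : ∀ σ : Ω ≃ₐ[k] Ω, ∀ l, σ (w l) = w l := by
    intro σ l
    have hσsing : ∀ x, P.T (fun l => σ (w l)) (fun l => σ (w l)) x = 0 := by
      apply P.sing
      intro m
      rw [pderiv_map, eval_conj, ← pderiv_map, P.pderiv_eq_zero w hwsing, map_zero]
    have hσW := mem_span_of_singular hFΩ hirr P hp hz hpp hpz hzz hσsing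
    have hdiff : (fun l => σ (w l)) - w ∈ Submodule.span Ω {p, z} :=
      Submodule.sub_mem _ hσW hwW
    have h0 := huniq _ hdiff (by simp [hwi]) (by simp [hwj])
    have := congrFun h0 l
    simp only [Pi.sub_apply, Pi.zero_apply] at this
    exact sub_eq_zero.mp this
  have hrat : ∀ l, ∃ y : k, algebraMap k Ω y = w l := by
    intro l
    exact (InfiniteGalois.mem_range_algebraMap_iff_fixed (w l)).mpr (fun σ => hfix σ l)
  choose a ha using hrat
  have hbc : bc Ω a = w := funext ha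
  refine ⟨a, ?_, ?_⟩
  · intro h0
    have := ha i
    rw [h0, hwi] at this
    simp at this
  · intro l
    apply (algebraMap k Ω).injective
    rw [← eval_pderiv_bc, hbc, P.pderiv_eq_zero w hwsing, map_zero]

end galois

end Groth.Agent.Lib.Helper8.PfE
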