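import Mathlib
import Groth.Agent.Lib.Helper8.PfE5
import Groth.Agent.Lib.Helper8.PfE6
set_option backward.isDefEq.respectTransparency.types false
set_option autoImplicit false
set_option linter.unusedSectionVars false
set_option linter.style.haveILetI false

namespace Groth.Agent.Lib.Helper8.PfE

open MvPolynomial Matrix Groth.Agent.Lib.Helper8.CubicK Groth.Agent.Lib.Helper8.GP

section cone

/-- not being a cone is stable under extension of the base field -/
lemma not_cone_map {k E : Type*} [Field k] [Field E] [Algebra k E] (F : MvPolynomial (Fin 4) k)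
    (hcone : ¬ ∃ v : Fin 4 → k, v ≠ 0 ∧ ∑ i : Fin 4, v i • pderiv i F = 0) :
    ¬ ∃ v : Fin 4 → E, v ≠ 0 ∧ ∑ i : Fin 4, v i • pderiv i (map (algebraMap k E) F) = 0 := by
  rintro ⟨v, hv, hsum⟩
  obtain ⟨j, hj⟩ : ∃ j, v j ≠ 0 := by
    by_contra hcon
    push Not at hcon
    exact hv (funext hcon)
  obtain ⟨ρ, hρ⟩ : ∃ ρ : Module.Dual k E, ρ (v j) ≠ 0 := by
    by_contra hcon
    push Not at hcon
    exact hj ((Module.forall_dual_apply_eq_zero_iff k (v j)).mp hcon)
  apply hcone
  refine ⟨fun i => ρ (v i), ?_, ?_⟩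
  · intro h0
    exact hρ (congrFun h0 j)
  · ext m
    have h1 := congrArg (coeff m) hsum
    simp only [coeff_sum, coeff_smul, coeff_zero, pderiv_map, coeff_map, smul_eq_mul] at h1 ⊢
    have h2 := congrArg ρ h1
    rw [map_sum, map_zero] at h2
    rw [← h2]
    refine Finset.sum_congr rfl fun i _ => ?_
    rw [mul_comm (v i), ← Algebra.smul_def, map_smul, smul_eq_mul, mul_comm]

end cone

section closed

variable {K : Type*} [Field K] [CharZero K] [IsAlgClosed K] {F : MvPolynomial (Fin 4) K}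

/-- a singular point of an irreducible cubic surface is never a `T`-point -/
lemma not_TPK_of_singular (hF : F.IsHomogeneous 3) (hirr : Irreducible F) {b : Fin 4 → K}
    (hs : ∀ i, eval b (pderiv i F) = 0) : ¬ TPK F b := by
  rintro ⟨L₁, L₂, L₃, hL₁, hL₂, hL₃, hmem⟩
  have h0 : (∑ i : Fin 4, C (eval b (pderiv i F)) * X i : MvPolynomial (Fin 4) K) = 0 := by
    apply Finset.sum_eq_zero
    intro i _
    rw [hs i, map_zero, zero_mul]
  rw [h0, Ideal.mem_span_singleton, zero_dvd_iff, sub_eq_zero] at hmem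
  obtain ⟨Y₁, hY₁⟩ := exists_linear_of_homog_one L₁ hL₁
  refine not_irreducible_of_mul hF (A := L₁) (B := L₂ * L₃) (by rw [hmem]; ring)
    (hL₁.totalDegree_le.trans (by norm_num)) ?_ hirr
  rw [hY₁, map_zero]

/-- **Dichotomy.** An irreducible cubic surface which is not a cone is either singular along a
line, or has finitely many lines. -/
theorem dichotomy (hF : F.IsHomogeneous 3) (hirr : Irreducible F)
    (hcone : ¬ ∃ v : Fin 4 → K, v ≠ 0 ∧ ∑ i : Fin 4, v i • pderiv i F = 0) (P : Polar F) :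
    (∃ p z : Fin 4 → K, p ≠ 0 ∧ z ∉ Submodule.span K {p} ∧ (∀ x, P.T p p x = 0) ∧
      (∀ x, P.T p z x = 0) ∧ (∀ x, P.T z z x = 0)) ∨ (Lines F).Finite := by
  by_cases hsm : Smooth F
  · exact Or.inr (finite_lines_of_smooth hF hirr hsm)
  · unfold Smooth at hsm
    push Not at hsm
    obtain ⟨p, hp, -, hsing⟩ := hsm
    have hpp := P.sing p hsing
    by_cases hr : ∃ z, z ∉ Submodule.span K {p} ∧ (∀ x, P.T p z x = 0) ∧ (∀ x, P.T z z x = 0)
    · obtain ⟨z, hz, hpz, hzz⟩ := hr
      exact Or.inl ⟨p, z, hp, hz, hpp, hpz, hzz⟩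
    · exact Or.inr (finite_lines_of_singular hF hirr hcone P hp hpp hr)

end closed

section main

variable {k : Type*} [Field k] [CharZero k] {Ω : Type*} [Field Ω] [Algebra k Ω]
  [CharZero Ω] [IsAlgClosed Ω] [IsGalois k Ω]

/-- the matrix with first column `o` and the other columns from the identity -/
def colMat (o : Fin 4 → Ω) : Matrix (Fin 4) (Fin 4) Ω :=
  Matrix.of fun r c => if c = 0 then o r else if r = c then 1 else 0

lemma det_colMat (o : Fin 4 → Ω) : (colMat o).det = o 0 := by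
  rw [Pf.det_fin_four]
  simp [colMat]

lemma colMat_mulVec' (o : Fin 4 → Ω) (x : Fin 4 → Ω) (r : Fin 4) :
    (colMat o *ᵥ x) r = x 0 * o r + (if r = 0 then 0 else x r) := by
  fin_cases r <;> simp [colMat, Matrix.mulVec, dotProduct, Fin.sum_univ_four, mul_comm]

lemma colMat_mulVec (o : Fin 4 → Ω) (τ : Ω) (s : Fin 3 → Ω) :
    colMat o *ᵥ (Fin.cons τ s : Fin 4 → Ω) = τ • o + (Fin.cons 0 s : Fin 4 → Ω) := by
  funext r
  rw [colMat_mulVec', Pi.add_apply, Pi.smul_apply, smul_eq_mul, Fin.cons_zero]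
  congr 1
  refine Fin.cases ?_ (fun i => ?_) r
  · simp
  · simp [Fin.succ_ne_zero]

lemma smul_add_cons_zero (o : Fin 4 → Ω) :
    (1 : Ω) • o + (Fin.cons 0 (0 : Fin 3 → Ω) : Fin 4 → Ω) = o := by
  funext r
  refine Fin.cases ?_ (fun i => ?_) r
  · simp
  · simp

lemma zero_smul_add_cons_zero (o : Fin 4 → Ω) :
    (0 : Ω) • o + (Fin.cons 0 (0 : Fin 3 → Ω) : Fin 4 → Ω) = 0 := by
  funext r
  refine Fin.cases ?_ (fun i => ?_) r
  · simp
  · simp

/-- **A rational line all of whose points on the surface are not `T`-points, or a rational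
singular point.** -/
theorem exists_good_line (F : MvPolynomial (Fin 4) k) (hF : F.IsHomogeneous 3)
    (hirr : Irreducible (map (algebraMap k Ω) F))
    (hcone : ¬ ∃ v : Fin 4 → k, v ≠ 0 ∧ ∑ i : Fin 4, v i • pderiv i F = 0) :
    (∃ a : Fin 4 → k, a ≠ 0 ∧ ∀ i, eval a (pderiv i F) = 0) ∨
    (∃ o v : Fin 4 → k, eval o F ≠ 0 ∧ ∀ τ : Ω,
      eval (τ • bc Ω o + bc Ω v) (map (algebraMap k Ω) F) = 0 →
        (∃ i : Fin 4, eval (τ • bc Ω o + bc Ω v) (pderiv i (map (algebraMap k Ω) F)) ≠ 0) ∧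
          ¬ TPK (map (algebraMap k Ω) F) (τ • bc Ω o + bc Ω v)) := by
  have hFΩ : (map (algebraMap k Ω) F).IsHomogeneous 3 := hF.map _
  obtain ⟨P⟩ := exists_polar hFΩ
  have hconeΩ := not_cone_map (E := Ω) F hcone
  rcases dichotomy hFΩ hirr hconeΩ P with ⟨p, z, hp, hz, hpp, hpz, hzz⟩ | hfin
  · exact Or.inl (exists_rational_singular F hF hirr P hp hz hpp hpz hzz)
  · right
    obtain ⟨G, hFG, hG⟩ := exists_certificate hFΩ hirr hconeΩ hfin
    have hF0 : F ≠ 0 := by
      rintro rfl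
      exact hirr.ne_zero (map_zero _)
    obtain ⟨o, ho⟩ := exists_eval_ne_zero (Q := F * X 0) (mul_ne_zero hF0 (X_ne_zero 0))
    rw [map_mul, eval_X] at ho
    have hFo : eval o F ≠ 0 := left_ne_zero_of_mul ho
    have ho0 : o 0 ≠ 0 := right_ne_zero_of_mul ho
    obtain ⟨A, hA⟩ : ∃ A, A = colMat (bc Ω o) := ⟨_, rfl⟩
    have hdetA : IsUnit A.det := by
      rw [hA, det_colMat, bc_apply, isUnit_iff_ne_zero]
      exact fun h => ho0 ((algebraMap k Ω).injective (by rw [h, map_zero]))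
    -- the substitution is an automorphism
    let e : MvPolynomial (Fin 4) Ω ≃ₐ[Ω] MvPolynomial (Fin 4) Ω :=
      AlgEquiv.ofAlgHom (Pf.sub A) (Pf.sub A⁻¹)
        (by rw [Pf.sub_comp, Matrix.nonsing_inv_mul A hdetA, Pf.sub_one])
        (by rw [Pf.sub_comp, Matrix.mul_nonsing_inv A hdetA, Pf.sub_one])
    have he : ∀ g, e g = Pf.sub A g := fun g => rfl
    have hirr' : Irreducible (Pf.sub A (map (algebraMap k Ω) F)) := by
      rw [← he]
      exact (MulEquiv.irreducible_iff e).mpr hirr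
    have hnd' : ¬ Pf.sub A (map (algebraMap k Ω) F) ∣ Pf.sub A G := by
      rw [← he, ← he]
      intro h
      exact hFG ((map_dvd_iff e).mp h)
    have hdeg : (finSuccEquiv Ω 3 (Pf.sub A (map (algebraMap k Ω) F))).natDegree ≠ 0 := by
      intro h0
      have hC := Polynomial.eq_C_of_natDegree_eq_zero h0
      have e1 := eval_eq_eval_mv_eval' (0 : Fin 3 → Ω) 1 (Pf.sub A (map (algebraMap k Ω) F))
      have e2 := eval_eq_eval_mv_eval' (0 : Fin 3 → Ω) 0 (Pf.sub A (map (algebraMap k Ω) F))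
      rw [hC, Polynomial.map_C, Polynomial.eval_C] at e1 e2
      rw [Pf.eval_sub, hA, colMat_mulVec] at e1 e2
      have h1 := smul_add_cons_zero (bc Ω o)
      have h2 := zero_smul_add_cons_zero (bc Ω o)
      rw [h1] at e1
      rw [h2, P.eval_zero] at e2
      rw [← e2, eval_bc] at e1
      exact hFo ((algebraMap k Ω).injective (by rw [e1, map_zero]))
    obtain ⟨x', hx'⟩ := exists_rational_line (k := k) _ _ hirr' hnd' hdeg
    refine ⟨o, Fin.cons 0 x', hFo, ?_⟩
    intro τ hτ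
    have hpt : A *ᵥ (Fin.cons τ (fun i => algebraMap k Ω (x' i)) : Fin 4 → Ω)
        = τ • bc Ω o + bc Ω (Fin.cons 0 x') := by
      rw [hA, colMat_mulVec]
      congr 1
      funext r
      refine Fin.cases ?_ (fun i => ?_) r
      · simp [bc]
      · simp [bc]
    have := hx' τ (by rw [Pf.eval_sub, hpt]; exact hτ)
    rw [Pf.eval_sub, hpt] at this
    exact hG _ hτ this

end main

end Groth.Agent.Lib.Helper8.PfE
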