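import Mathlib
import Groth.Agent.Lib.Helper8.PfE7
set_option backward.isDefEq.respectTransparency.types false
set_option autoImplicit false
set_option linter.unusedSectionVars false
set_option linter.style.haveILetI false

namespace Groth.Agent.Lib.Helper8.PfE

open MvPolynomial Matrix Groth.Agent.Lib.Helper8.CubicK Groth.Agent.Lib.Helper8.GP

section lineCubic

variable {k : Type*} [Field k] [CharZero k] {F : MvPolynomial (Fin 4) k}

/-- the cubic polynomial whose roots are the points of the surface on the line `{τ o + v}` -/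
noncomputable def lineCubic (P : Polar F) (o v : Fin 4 → k) : Polynomial k :=
  Polynomial.C (eval o F) * Polynomial.X ^ 3 + Polynomial.C (3 * P.T v o o) * Polynomial.X ^ 2
    + Polynomial.C (3 * P.T v v o) * Polynomial.X + Polynomial.C (eval v F)

lemma natDegree_lineCubic (P : Polar F) (o v : Fin 4 → k) (ho : eval o F ≠ 0) :
    (lineCubic P o v).natDegree = 3 := Polynomial.natDegree_cubic ho

lemma eval_lineCubic {E : Type*} [Field E] [CharZero E] [Algebra k E] (hF : F.IsHomogeneous 3)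
    (P : Polar F) (o v : Fin 4 → k) (τ : E) :
    Polynomial.eval τ ((lineCubic P o v).map (algebraMap k E))
      = eval (τ • bc E o + bc E v) (map (algebraMap k E) F) := by
  obtain ⟨PE⟩ := exists_polar (hF.map (algebraMap k E))
  rw [add_comm, PE.cube_add, P.T_bc PE, P.T_bc PE, eval_bc, eval_bc]
  simp only [lineCubic, Polynomial.map_add, Polynomial.map_mul, Polynomial.map_C,
    Polynomial.map_pow, Polynomial.map_X, Polynomial.eval_add, Polynomial.eval_mul,
    Polynomial.eval_C, Polynomial.eval_pow, Polynomial.eval_X, map_mul, map_ofNat,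
    Polynomial.map_ofNat, Polynomial.eval_ofNat]
  ring

end lineCubic

section ovr

variable {k : Type*} [Field k] [CharZero k] {Ω : Type*} [Field Ω] [CharZero Ω] [IsAlgClosed Ω]
  [Algebra k Ω] {E : Type*} [Field E] [Algebra k E] [Algebra E Ω] [IsScalarTower k E Ω]

/-- **Pfaffian representation over an extension field with a point which is not a `T`-point over
the algebraic closure.** -/
theorem pfaffian_over (F : MvPolynomial (Fin 4) k) (hF : F.IsHomogeneous 3)
    (hirr : Irreducible (map (algebraMap k Ω) F))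
    (hcone : ¬ ∃ v : Fin 4 → k, v ≠ 0 ∧ ∑ i : Fin 4, v i • pderiv i F = 0)
    (a : Fin 4 → E) (ha : a ≠ 0) (hFa : eval a (map (algebraMap k E) F) = 0)
    (hnT : ¬ TPK (map (algebraMap k Ω) F) (bc Ω a)) :
    ∃ M : Matrix (Fin 6) (Fin 6) (MvPolynomial (Fin 4) E), (∀ i j, (M i j).IsHomogeneous 1) ∧
      M.transpose = -M ∧ (∀ i, M i i = 0) ∧
        ∃ c : E, c ≠ 0 ∧ M.det = C c * (map (algebraMap k E) F) ^ 2 := by
  haveI : CharZero E := charZero_of_injective_algebraMap (algebraMap k E).injective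
  have hmm : map (algebraMap E Ω) (map (algebraMap k E) F) = map (algebraMap k Ω) F := by
    rw [MvPolynomial.map_map, ← IsScalarTower.algebraMap_eq]
  apply GP.pfaffian_of_point (K := Ω) (hF.map _) (by rw [hmm]; exact hirr) (not_cone_map F hcone)
    ha hFa
  intro hT
  apply hnT
  obtain ⟨L₁, L₂, L₃, h1, h2, h3, hmem⟩ := hT
  refine ⟨L₁, L₂, L₃, h1, h2, h3, ?_⟩
  have hgen : (∑ i : Fin 4, C (eval (bc Ω a) (pderiv i (map (algebraMap k Ω) F))) * X i :
      MvPolynomial (Fin 4) Ω)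
      = ∑ i : Fin 4, C (algebraMap E Ω (eval a (pderiv i (map (algebraMap k E) F)))) * X i := by
    refine Finset.sum_congr rfl fun i _ => ?_
    rw [← hmm, eval_pderiv_bc]
  rw [hgen, ← hmm]
  exact hmem

/-- Pfaffian representation from a root of the cubic of a good rational line. -/
theorem pfaffian_of_root (F : MvPolynomial (Fin 4) k) (hF : F.IsHomogeneous 3)
    (hirr : Irreducible (map (algebraMap k Ω) F))
    (hcone : ¬ ∃ v : Fin 4 → k, v ≠ 0 ∧ ∑ i : Fin 4, v i • pderiv i F = 0)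
    (P : Polar F) (o v : Fin 4 → k)
    (hgood : ∀ τ : Ω, eval (τ • bc Ω o + bc Ω v) (map (algebraMap k Ω) F) = 0 →
      (∃ i : Fin 4, eval (τ • bc Ω o + bc Ω v) (pderiv i (map (algebraMap k Ω) F)) ≠ 0) ∧
        ¬ TPK (map (algebraMap k Ω) F) (τ • bc Ω o + bc Ω v))
    (τ : E) (hτ : Polynomial.eval τ ((lineCubic P o v).map (algebraMap k E)) = 0) :
    ∃ M : Matrix (Fin 6) (Fin 6) (MvPolynomial (Fin 4) E), (∀ i j, (M i j).IsHomogeneous 1) ∧
      M.transpose = -M ∧ (∀ i, M i i = 0) ∧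
        ∃ c : E, c ≠ 0 ∧ M.det = C c * (map (algebraMap k E) F) ^ 2 := by
  haveI : CharZero E := charZero_of_injective_algebraMap (algebraMap k E).injective
  have hmm : map (algebraMap E Ω) (map (algebraMap k E) F) = map (algebraMap k Ω) F := by
    rw [MvPolynomial.map_map, ← IsScalarTower.algebraMap_eq]
  obtain ⟨a, ha⟩ : ∃ a, a = τ • bc E o + bc E v := ⟨_, rfl⟩
  have hFa : eval a (map (algebraMap k E) F) = 0 := by
    rw [ha, ← eval_lineCubic hF P]; exact hτ
  have hbc : bc Ω a = algebraMap E Ω τ • bc Ω o + bc Ω v := by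
    funext i
    rw [ha]
    simp only [bc_apply, Pi.add_apply, Pi.smul_apply, smul_eq_mul, map_add, map_mul,
      ← IsScalarTower.algebraMap_apply]
  have hFΩ : eval (bc Ω a) (map (algebraMap k Ω) F) = 0 := by
    rw [← hmm, eval_bc, hFa, map_zero]
  rw [hbc] at hFΩ
  obtain ⟨hsm, hnT⟩ := hgood _ hFΩ
  rw [← hbc] at hsm hnT
  refine pfaffian_over (Ω := Ω) F hF hirr hcone a ?_ hFa hnT
  rintro rfl
  obtain ⟨i, hi⟩ := hsm
  obtain ⟨PΩ⟩ := exists_polar (hF.map (algebraMap k Ω))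
  apply hi
  have : bc Ω (0 : Fin 4 → E) = 0 := bc_zero
  rw [this, PΩ.deriv, PΩ.zero₁, mul_zero]

end ovr

/-- a real cubic polynomial has a real root -/
lemma exists_real_root_cubic (c3 c2 c1 c0 : ℝ) (h : c3 ≠ 0) :
    ∃ x : ℝ, c3 * x ^ 3 + c2 * x ^ 2 + c1 * x + c0 = 0 := by
  obtain ⟨B, hB⟩ : ∃ B, B = c2 / c3 := ⟨_, rfl⟩
  obtain ⟨A, hA⟩ : ∃ A, A = c1 / c3 := ⟨_, rfl⟩
  obtain ⟨D, hD⟩ : ∃ D, D = c0 / c3 := ⟨_, rfl⟩
  obtain ⟨M, hM⟩ : ∃ M, M = 1 + (|B| + |A| + |D|) := ⟨_, rfl⟩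
  have hM1 : 1 ≤ M := by
    rw [hM]
    have := abs_nonneg B
    have := abs_nonneg A
    have := abs_nonneg D
    linarith
  have hM2 : M ≤ M ^ 2 := by nlinarith
  have hM3 : 1 ≤ M ^ 2 := by nlinarith
  have hcont : Continuous (fun x : ℝ => x ^ 3 + B * x ^ 2 + A * x + D) := by fun_prop
  have hpos : 0 ≤ M ^ 3 + B * M ^ 2 + A * M + D := by
    have key : M ^ 3 + B * M ^ 2 + A * M + D = M ^ 2 * (M - (|B| + |A| + |D|)) + (|B| + B) * M ^ 2
        + ((|A| + A) * M + |A| * (M ^ 2 - M)) + ((|D| + D) + |D| * (M ^ 2 - 1)) := by ring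
    rw [key]
    have e1 : M - (|B| + |A| + |D|) = 1 := by rw [hM]; ring
    rw [e1]
    have t1 : 0 ≤ (|B| + B) * M ^ 2 :=
      mul_nonneg (by linarith [neg_abs_le B]) (by positivity)
    have t2 : 0 ≤ (|A| + A) * M := mul_nonneg (by linarith [neg_abs_le A]) (by linarith)
    have t3 : 0 ≤ |A| * (M ^ 2 - M) := mul_nonneg (abs_nonneg A) (by linarith)
    have t4 : 0 ≤ |D| + D := by linarith [neg_abs_le D]
    have t5 : 0 ≤ |D| * (M ^ 2 - 1) := mul_nonneg (abs_nonneg D) (by linarith)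
    nlinarith
  have hneg : (-M) ^ 3 + B * (-M) ^ 2 + A * (-M) + D ≤ 0 := by
    have key : (-M) ^ 3 + B * (-M) ^ 2 + A * (-M) + D
        = -(M ^ 2 * (M - (|B| + |A| + |D|)) + (|B| - B) * M ^ 2
        + ((|A| + A) * M + |A| * (M ^ 2 - M)) + ((|D| - D) + |D| * (M ^ 2 - 1))) := by ring
    rw [key]
    have e1 : M - (|B| + |A| + |D|) = 1 := by rw [hM]; ring
    rw [e1]
    have t1 : 0 ≤ (|B| - B) * M ^ 2 :=
      mul_nonneg (by linarith [le_abs_self B]) (by positivity)
    have t2 : 0 ≤ (|A| + A) * M := mul_nonneg (by linarith [neg_abs_le A]) (by linarith)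
    have t3 : 0 ≤ |A| * (M ^ 2 - M) := mul_nonneg (abs_nonneg A) (by linarith)
    have t4 : 0 ≤ |D| - D := by linarith [le_abs_self D]
    have t5 : 0 ≤ |D| * (M ^ 2 - 1) := mul_nonneg (abs_nonneg D) (by linarith)
    nlinarith
  have hle : -M ≤ M := by linarith
  obtain ⟨x, -, hx⟩ := intermediate_value_Icc hle hcont.continuousOn
    (show (0 : ℝ) ∈ Set.Icc ((-M) ^ 3 + B * (-M) ^ 2 + A * (-M) + D)
      (M ^ 3 + B * M ^ 2 + A * M + D) from ⟨hneg, hpos⟩)
  refine ⟨x, ?_⟩
  simp only at hx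
  have : c3 * (x ^ 3 + B * x ^ 2 + A * x + D) = 0 := by rw [hx, mul_zero]
  rw [hB, hA, hD] at this
  field_simp at this
  linear_combination this

end Groth.Agent.Lib.Helper8.PfE
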