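import Mathlib
import Groth.Agent.Lib.Helper8.PfE8
set_option backward.isDefEq.respectTransparency.types false
set_option autoImplicit false
set_option linter.unusedSectionVars false
set_option linter.style.haveILetI false

namespace Groth.Agent.Lib.Helper8.PfE

open MvPolynomial Matrix Groth.Agent.Lib.Helper8.CubicK Groth.Agent.Lib.Helper8.GP
open IntermediateField

universe u

/-- degree bound for the field generated by a root of a cubic -/
lemma finrank_adjoin_root_le {k L : Type*} [Field k] [Field L] [Algebra k L] (p : Polynomial k)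
    (hp : p.natDegree = 3) (τ : L) (hτ : Polynomial.eval τ (p.map (algebraMap k L)) = 0) :
    IsIntegral k τ ∧ Module.finrank k ↥(k⟮τ⟯) ≤ 3 := by
  have hp0 : p ≠ 0 := by
    rintro rfl
    simp at hp
  have haeval : Polynomial.aeval τ p = 0 := by
    rw [← Polynomial.eval_map_algebraMap]; exact hτ
  have hint : IsIntegral k τ := IsAlgebraic.isIntegral ⟨p, hp0, haeval⟩
  refine ⟨hint, ?_⟩
  rw [IntermediateField.adjoin.finrank hint, ← hp]
  exact Polynomial.natDegree_le_of_dvd (minpoly.dvd k τ haeval) hp0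

/-- the generator of a simple extension is a root of the cubic, inside the extension -/
lemma eval_gen_eq_zero {k L : Type*} [Field k] [Field L] [Algebra k L] (p : Polynomial k)
    (τ : L) (hτ : Polynomial.eval τ (p.map (algebraMap k L)) = 0) :
    Polynomial.eval (AdjoinSimple.gen k τ) (p.map (algebraMap k ↥(k⟮τ⟯))) = 0 := by
  apply (algebraMap ↥(k⟮τ⟯) L).injective
  rw [map_zero, Polynomial.eval_map_algebraMap, ← Polynomial.aeval_algebraMap_apply,
    AdjoinSimple.algebraMap_gen, ← Polynomial.eval_map_algebraMap]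
  exact hτ

/-- a singular point lies on the surface (Euler) -/
lemma eval_eq_zero_of_sing {k : Type*} [Field k] [CharZero k] {F : MvPolynomial (Fin 4) k}
    (hF : F.IsHomogeneous 3) {a : Fin 4 → k} (hs : ∀ i, eval a (pderiv i F) = 0) :
    eval a F = 0 := by
  have h := congrArg (eval a) hF.sum_X_mul_pderiv
  rw [map_sum, map_nsmul, nsmul_eq_mul] at h
  simp only [map_mul, hs, mul_zero, Finset.sum_const_zero] at h
  have h3 : ((3 : ℕ) : k) ≠ 0 := by norm_num
  exact (mul_eq_zero.mp h.symm).resolve_left h3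

/-- a rational singular point is not a `T`-point -/
lemma not_TP_of_singular {k : Type*} [Field k] [CharZero k] {Ω : Type*} [Field Ω] [CharZero Ω]
    [IsAlgClosed Ω] [Algebra k Ω] {F : MvPolynomial (Fin 4) k} (hF : F.IsHomogeneous 3)
    (hirr : Irreducible (map (algebraMap k Ω) F)) {a : Fin 4 → k}
    (hs : ∀ i, eval a (pderiv i F) = 0) : ¬ GP.TP Ω F a := by
  intro hT
  apply not_TPK_of_singular (hF.map _) hirr (b := bc Ω a)
    (by intro i; rw [eval_pderiv_bc, hs, map_zero])
  obtain ⟨L₁, L₂, L₃, h1, h2, h3, hmem⟩ := hT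
  refine ⟨L₁, L₂, L₃, h1, h2, h3, ?_⟩
  have hgen : (∑ i : Fin 4, C (eval (bc Ω a) (pderiv i (map (algebraMap k Ω) F))) * X i :
      MvPolynomial (Fin 4) Ω)
      = ∑ i : Fin 4, C (algebraMap k Ω (eval a (pderiv i F))) * X i := by
    refine Finset.sum_congr rfl fun i _ => ?_
    rw [eval_pderiv_bc]
  rw [hgen]
  exact hmem

/-- a Pfaffian representation over `k` gives one over every extension field -/
lemma pfaffian_map {k E : Type*} [Field k] [Field E] [Algebra k E] (F : MvPolynomial (Fin 4) k)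
    (h : ∃ M : Matrix (Fin 6) (Fin 6) (MvPolynomial (Fin 4) k), (∀ i j, (M i j).IsHomogeneous 1) ∧
      M.transpose = -M ∧ (∀ i, M i i = 0) ∧ ∃ c : k, c ≠ 0 ∧ M.det = C c * F ^ 2) :
    ∃ M : Matrix (Fin 6) (Fin 6) (MvPolynomial (Fin 4) E), (∀ i j, (M i j).IsHomogeneous 1) ∧
      M.transpose = -M ∧ (∀ i, M i i = 0) ∧
        ∃ c : E, c ≠ 0 ∧ M.det = C c * (map (algebraMap k E) F) ^ 2 := by
  obtain ⟨M, hM1, hM2, hM3, c, hc, hdet⟩ := h
  refine ⟨M.map (MvPolynomial.map (algebraMap k E)), ?_, ?_, ?_, algebraMap k E c, ?_, ?_⟩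
  · intro i j
    rw [Matrix.map_apply]
    exact (hM1 i j).map _
  · ext i j
    have := congrFun (congrFun hM2 i) j
    simp only [Matrix.transpose_apply, Matrix.neg_apply, Matrix.map_apply] at this ⊢
    rw [this, map_neg]
  · intro i
    rw [Matrix.map_apply, hM3, map_zero]
  · intro h0
    exact hc ((algebraMap k E).injective (by rw [h0, map_zero]))
  · have := congrArg (MvPolynomial.map (algebraMap k E)) hdet
    rw [RingHom.map_det] at this
    rw [RingHom.mapMatrix_apply] at this
    rw [this, map_mul, map_pow, MvPolynomial.map_C]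

/-- **S16350.** -/
theorem main_closure (k : Type u) [Field k] [CharZero k]
    (F : MvPolynomial (Fin 4) k) (hF : F.IsHomogeneous 3)
    (hirr : Irreducible (MvPolynomial.map (algebraMap k (AlgebraicClosure k)) F))
    (hcone : ¬ ∃ v : Fin 4 → k, v ≠ 0 ∧ ∑ i : Fin 4, v i • MvPolynomial.pderiv i F = 0) :
    ∃ E : IntermediateField k (AlgebraicClosure k), FiniteDimensional k ↥E ∧
      Module.finrank k ↥E ≤ 3 ∧
      ∃ M : Matrix (Fin 6) (Fin 6) (MvPolynomial (Fin 4) ↥E), (∀ i j, (M i j).IsHomogeneous 1) ∧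
        M.transpose = -M ∧ (∀ i, M i i = 0) ∧
        ∃ c : ↥E, c ≠ 0 ∧ M.det = MvPolynomial.C c * (MvPolynomial.map (algebraMap k ↥E) F) ^ 2 := by
  obtain ⟨P⟩ := exists_polar hF
  have hFΩ : (map (algebraMap k (AlgebraicClosure k)) F).IsHomogeneous 3 := hF.map _
  rcases exists_good_line (Ω := AlgebraicClosure k) F hF hirr hcone with
    ⟨a, ha, hsing⟩ | ⟨o, v, hFo, hgood⟩
  · refine ⟨⊥, inferInstance, ?_, ?_⟩
    · rw [IntermediateField.finrank_bot]; norm_num
    · exact pfaffian_map F (GP.pfaffian_of_point (K := AlgebraicClosure k) hF hirr hcone ha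
        (eval_eq_zero_of_sing hF hsing) (not_TP_of_singular hF hirr hsing))
  · have hdeg := natDegree_lineCubic P o v hFo
    obtain ⟨τ, hτ⟩ := IsAlgClosed.exists_root
      ((lineCubic P o v).map (algebraMap k (AlgebraicClosure k))) (by
        rw [Polynomial.degree_map, Polynomial.degree_eq_natDegree (by
          rintro h0; rw [h0] at hdeg; simp at hdeg), hdeg]
        norm_num)
    rw [Polynomial.IsRoot] at hτ
    obtain ⟨hint, hfr⟩ := finrank_adjoin_root_le _ hdeg τ hτ
    refine ⟨k⟮τ⟯, IntermediateField.adjoin.finiteDimensional hint, hfr, ?_⟩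
    exact pfaffian_of_root (Ω := AlgebraicClosure k) F hF hirr hcone P o v hgood
      (AdjoinSimple.gen k τ) (eval_gen_eq_zero _ τ hτ)

/-- **S16354.** -/
theorem main_real (k : Type u) [Field k] [Algebra k ℝ]
    (F : MvPolynomial (Fin 4) k) (hF : F.IsHomogeneous 3)
    (hirr : Irreducible (MvPolynomial.map (algebraMap k (AlgebraicClosure k)) F))
    (hcone : ¬ ∃ v : Fin 4 → k, v ≠ 0 ∧ ∑ i : Fin 4, v i • MvPolynomial.pderiv i F = 0) :
    ∃ E : IntermediateField k ℝ, FiniteDimensional k ↥E ∧ Module.finrank k ↥E ≤ 3 ∧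
      ∃ M : Matrix (Fin 6) (Fin 6) (MvPolynomial (Fin 4) ↥E), (∀ i j, (M i j).IsHomogeneous 1) ∧
        M.transpose = -M ∧ (∀ i, M i i = 0) ∧
        ∃ c : ↥E, c ≠ 0 ∧ M.det = MvPolynomial.C c * (MvPolynomial.map (algebraMap k ↥E) F) ^ 2 := by
  haveI : CharZero k := charZero_of_inj_zero (fun n hn => by
    have := congrArg (algebraMap k ℝ) hn
    rw [map_natCast, map_zero] at this
    exact_mod_cast this)
  obtain ⟨P⟩ := exists_polar hF
  have hFΩ : (map (algebraMap k (AlgebraicClosure k)) F).IsHomogeneous 3 := hF.map _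
  rcases exists_good_line (Ω := AlgebraicClosure k) F hF hirr hcone with
    ⟨a, ha, hsing⟩ | ⟨o, v, hFo, hgood⟩
  · refine ⟨⊥, inferInstance, ?_, ?_⟩
    · rw [IntermediateField.finrank_bot]; norm_num
    · exact pfaffian_map F (GP.pfaffian_of_point (K := AlgebraicClosure k) hF hirr hcone ha
        (eval_eq_zero_of_sing hF hsing) (not_TP_of_singular hF hirr hsing))
  · have hdeg := natDegree_lineCubic P o v hFo
    obtain ⟨τ, hτ'⟩ := exists_real_root_cubic (algebraMap k ℝ (eval o F))
      (algebraMap k ℝ (3 * P.T v o o)) (algebraMap k ℝ (3 * P.T v v o))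
      (algebraMap k ℝ (eval v F)) (fun h => hFo ((algebraMap k ℝ).injective (by rw [h, map_zero])))
    have hτ : Polynomial.eval τ ((lineCubic P o v).map (algebraMap k ℝ)) = 0 := by
      rw [← hτ']
      simp only [lineCubic, Polynomial.map_add, Polynomial.map_mul, Polynomial.map_C,
        Polynomial.map_pow, Polynomial.map_X, Polynomial.eval_add, Polynomial.eval_mul,
        Polynomial.eval_C, Polynomial.eval_pow, Polynomial.eval_X]
    obtain ⟨hint, hfr⟩ := finrank_adjoin_root_le _ hdeg τ hτ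
    haveI : FiniteDimensional k ↥(k⟮τ⟯) := IntermediateField.adjoin.finiteDimensional hint
    refine ⟨k⟮τ⟯, inferInstance, hfr, ?_⟩
    let φ : ↥(k⟮τ⟯) →ₐ[k] AlgebraicClosure k := IsAlgClosed.lift
    letI : Algebra ↥(k⟮τ⟯) (AlgebraicClosure k) := φ.toRingHom.toAlgebra
    haveI : IsScalarTower k ↥(k⟮τ⟯) (AlgebraicClosure k) :=
      IsScalarTower.of_algebraMap_eq (fun x => (φ.commutes x).symm)
    exact pfaffian_of_root (Ω := AlgebraicClosure k) F hF hirr hcone P o v hgood
      (AdjoinSimple.gen k τ) (eval_gen_eq_zero _ τ hτ)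

end Groth.Agent.Lib.Helper8.PfE
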