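import Mathlib
import Groth.Agent.Lib.Helper2.Pfaff
set_option backward.isDefEq.respectTransparency.types false
set_option autoImplicit false
set_option linter.unusedSectionVars false
set_option linter.style.haveILetI false

namespace Groth.Agent.Lib.Helper8.PfJ

open Matrix Groth.Agent.Lib.Helper2.Pfaff

variable {R : Type*} [CommRing R] {m : ℕ}

/-- the standard symplectic block matrix -/
def Jm (R : Type*) [CommRing R] (m : ℕ) : Matrix (Fin m ⊕ Fin m) (Fin m ⊕ Fin m) R :=
  Matrix.fromBlocks 0 1 (-1) 0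

lemma Jm_transpose : (Jm R m)ᵀ = -Jm R m := by
  rw [Jm, Matrix.fromBlocks_transpose, Matrix.fromBlocks_neg]
  simp

lemma det_Jm : (Jm R m).det = 1 := by
  have hT : (Matrix.fromBlocks (1 : Matrix (Fin m) (Fin m) R) 0 (1 : Matrix (Fin m) (Fin m) R) (1 : Matrix (Fin m) (Fin m) R)).det = 1 := by
    rw [Matrix.det_fromBlocks_zero₁₂]; simp
  have hJT : Jm R m * Matrix.fromBlocks (1 : Matrix (Fin m) (Fin m) R) 0 (1 : Matrix (Fin m) (Fin m) R) (1 : Matrix (Fin m) (Fin m) R) =
      Matrix.fromBlocks (1 : Matrix (Fin m) (Fin m) R) (1 : Matrix (Fin m) (Fin m) R) (-1) 0 := by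
    rw [Jm, Matrix.fromBlocks_multiply]
    simp
  have h2 : (Matrix.fromBlocks (1 : Matrix (Fin m) (Fin m) R) (1 : Matrix (Fin m) (Fin m) R) (-1) 0).det = 1 := by
    rw [Matrix.det_fromBlocks_one₁₁]; simp
  have := congrArg Matrix.det hJT
  rw [Matrix.det_mul, hT, h2, mul_one] at this
  exact this

lemma Jm_map {R' : Type*} [CommRing R'] (f : R →+* R') : f.mapMatrix (Jm R m) = Jm R' m := by
  rw [Jm, Jm, RingHom.mapMatrix_apply, Matrix.fromBlocks_map]
  simp [Matrix.map_neg]

/-- Pfaffian of a matrix indexed by `Fin m ⊕ Fin m` -/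
noncomputable def pfS (B : Matrix (Fin m ⊕ Fin m) (Fin m ⊕ Fin m) R) : R :=
  pf (Matrix.reindex finSumFinEquiv finSumFinEquiv B)

lemma pfS_map {R' : Type*} [CommRing R'] (f : R →+* R')
    (B : Matrix (Fin m ⊕ Fin m) (Fin m ⊕ Fin m) R) : pfS (f.mapMatrix B) = f (pfS B) := by
  unfold pfS
  rw [← pf_map]
  congr 1

lemma pfS_mul_self (B : Matrix (Fin m ⊕ Fin m) (Fin m ⊕ Fin m) R) (hB : AltMat B) :
    pfS B * pfS B = B.det := by
  unfold pfS
  rw [pf_mul_self, Matrix.det_reindex_self]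
  constructor
  · rw [Matrix.transpose_reindex, hB.1]
    rfl
  · intro i
    simp only [Matrix.reindex_apply, Matrix.submatrix_apply]
    exact hB.2 _


/-- if `Aᵀ J = J A` then `J A` is antisymmetric -/
lemma JA_transpose (A : Matrix (Fin m ⊕ Fin m) (Fin m ⊕ Fin m) R)
    (h : Aᵀ * Jm R m = Jm R m * A) : (Jm R m * A)ᵀ = -(Jm R m * A) := by
  rw [Matrix.transpose_mul, Jm_transpose, Matrix.mul_neg, h]

theorem main155 (m : ℕ) :
    (∃ P : MvPolynomial ((Fin m ⊕ Fin m) × (Fin m ⊕ Fin m)) (Polynomial ℂ),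
      ∀ A : Matrix (Fin m ⊕ Fin m) (Fin m ⊕ Fin m) ℂ,
        A.transpose * Matrix.fromBlocks 0 1 (-1) 0 = Matrix.fromBlocks 0 1 (-1) 0 * A →
        A.charpoly = (MvPolynomial.eval (fun ij => Polynomial.C (A ij.1 ij.2)) P) ^ 2) ∧
    (∃ Q : MvPolynomial ((Fin m ⊕ Fin m) × (Fin m ⊕ Fin m)) ℂ,
      ∀ A : Matrix (Fin m ⊕ Fin m) (Fin m ⊕ Fin m) ℂ,
        A.transpose * Matrix.fromBlocks 0 1 (-1) 0 = Matrix.fromBlocks 0 1 (-1) 0 * A →
        A.det = (MvPolynomial.eval (fun ij => A ij.1 ij.2) Q) ^ 2) := by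
  constructor
  · -- charpoly
    let S := MvPolynomial ((Fin m ⊕ Fin m) × (Fin m ⊕ Fin m)) (Polynomial ℂ)
    let Xg : Matrix (Fin m ⊕ Fin m) (Fin m ⊕ Fin m) S := Matrix.of fun i j => MvPolynomial.X (i, j)
    refine ⟨pfS (Jm S m * (Matrix.scalar _ (MvPolynomial.C Polynomial.X) - Xg)), ?_⟩
    intro A hA
    change Aᵀ * Jm ℂ m = Jm ℂ m * A at hA
    set ψ : S →+* Polynomial ℂ := MvPolynomial.eval (fun ij => Polynomial.C (A ij.1 ij.2)) with hψ
    have hmap : ψ.mapMatrix (Jm S m * (Matrix.scalar _ (MvPolynomial.C Polynomial.X) - Xg)) =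
        Jm (Polynomial ℂ) m * A.charmatrix := by
      rw [map_mul, Jm_map, map_sub]
      congr 2
      · refine Matrix.ext fun i j => ?_
        simp only [RingHom.mapMatrix_apply, Matrix.map_apply, Matrix.scalar_apply,
          Matrix.diagonal_apply]
        split_ifs
        · rw [hψ, MvPolynomial.eval_C]
        · exact map_zero _
      · refine Matrix.ext fun i j => ?_
        change ψ (MvPolynomial.X (i, j)) = Polynomial.C (A i j)
        rw [hψ, MvPolynomial.eval_X]
    have hAC : (Polynomial.C.mapMatrix A)ᵀ * Jm (Polynomial ℂ) m =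
        Jm (Polynomial ℂ) m * Polynomial.C.mapMatrix A := by
      have := congrArg (Polynomial.C.mapMatrix) hA
      rw [map_mul, map_mul, Jm_map] at this
      rw [← this]
      congr 1
    have halt : AltMat (Jm (Polynomial ℂ) m * A.charmatrix) := by
      apply altMat_of_antisymm
      · intro a ha
        rw [← two_mul] at ha
        exact (mul_eq_zero.mp ha).resolve_left two_ne_zero
      · rw [Matrix.charmatrix, Matrix.mul_sub, Matrix.transpose_sub, JA_transpose _ hAC]
        rw [Matrix.transpose_mul, Jm_transpose]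
        simp only [Matrix.scalar_apply, Matrix.diagonal_transpose, Matrix.mul_neg, neg_sub_neg]
        rw [neg_sub]
        congr 1
        ext i j
        simp [Matrix.mul_apply, Matrix.diagonal_apply, mul_comm]
    rw [Matrix.charpoly, pow_two, ← pfS_map, hmap, pfS_mul_self _ halt, Matrix.det_mul, det_Jm,
      one_mul]
  · let S := MvPolynomial ((Fin m ⊕ Fin m) × (Fin m ⊕ Fin m)) ℂ
    let Xg : Matrix (Fin m ⊕ Fin m) (Fin m ⊕ Fin m) S := Matrix.of fun i j => MvPolynomial.X (i, j)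
    refine ⟨pfS (Jm S m * Xg), ?_⟩
    intro A hA
    change Aᵀ * Jm ℂ m = Jm ℂ m * A at hA
    set ψ : S →+* ℂ := MvPolynomial.eval (fun ij => A ij.1 ij.2) with hψ
    have hmap : ψ.mapMatrix (Jm S m * Xg) = Jm ℂ m * A := by
      rw [map_mul, Jm_map]
      congr 1
      refine Matrix.ext fun i j => ?_
      change ψ (MvPolynomial.X (i, j)) = A i j
      rw [hψ, MvPolynomial.eval_X]
    have halt : AltMat (Jm ℂ m * A) := by
      apply altMat_of_antisymm
      · intro a ha
        rw [← two_mul] at ha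
        exact (mul_eq_zero.mp ha).resolve_left two_ne_zero
      · exact JA_transpose _ hA
    rw [pow_two, ← pfS_map, hmap, pfS_mul_self _ halt, Matrix.det_mul, det_Jm, one_mul]

end Groth.Agent.Lib.Helper8.PfJ
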