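import Mathlib.AlgebraicGeometry.ProjectiveSpectrum.Basic
import Mathlib.AlgebraicGeometry.IdealSheaf.Basic

/-!
# `D₊(g)` is scheme-theoretically dense in `Proj` for a homogeneous non-zero-divisor `g`
-/

set_option autoImplicit false
universe u

namespace Groth.Agent.Lib.Helper8.ProjNZD

open CategoryTheory AlgebraicGeometry HomogeneousLocalization TopologicalSpace Opposite

variable {R A : Type u} [CommRing R] [CommRing A] [Algebra R A]
  (𝒜 : ℕ → Submodule R A) [GradedAlgebra 𝒜]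

/-- `A_(f) → A_(fg)` is injective when `g` is a non-zero-divisor. -/
theorem awayMap_injective {e d : ℕ} {f g x : A} (hf : f ∈ 𝒜 e) (hg : g ∈ 𝒜 d) (hx : x = f * g)
    (hnz : g ∈ nonZeroDivisors A) :
    Function.Injective (awayMap 𝒜 hg hx : Away 𝒜 f →+* Away 𝒜 x) := by
  rw [injective_iff_map_eq_zero]
  intro z hz
  obtain ⟨n, a, ha, rfl⟩ := Away.mk_surjective 𝒜 hf z
  rw [awayMap_mk] at hz
  have hval := congrArg HomogeneousLocalization.val hz
  rw [Away.val_mk, HomogeneousLocalization.val_zero, Localization.mk_eq_mk',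
    IsLocalization.mk'_eq_zero_iff] at hval
  obtain ⟨⟨_, k, rfl⟩, hk⟩ := hval
  simp only at hk
  have h1 : g ^ (k + n) * (f ^ k * a) = 0 := by
    rw [← hk, hx]; ring
  have h2 : f ^ k * a = 0 :=
    (mem_nonZeroDivisors_iff.mp (pow_mem hnz (k + n))).1 _ h1
  apply HomogeneousLocalization.val_injective
  rw [Away.val_mk, HomogeneousLocalization.val_zero, Localization.mk_eq_mk',
    IsLocalization.mk'_eq_zero_iff]
  exact ⟨⟨f ^ k, k, rfl⟩, h2⟩

/-- Every point of an open `V` of `Proj` lies in some `D₊(f) ≤ V` with `f` homogeneous of positive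
degree. -/
theorem exists_basicOpen_le (V : (Proj 𝒜).Opens) (x : Proj 𝒜) (hx : x ∈ V) :
    ∃ (f : A) (n : ℕ), 0 < n ∧ f ∈ 𝒜 n ∧ x ∈ Proj.basicOpen 𝒜 f ∧ Proj.basicOpen 𝒜 f ≤ V := by
  obtain ⟨_, ⟨_, ⟨s, rfl⟩, rfl⟩, hxs, hsV⟩ :=
    (Proj.isBasis_basicOpen 𝒜).exists_subset_of_mem_open hx V.2
  have hxs' : x ∈ Proj.basicOpen 𝒜 s := hxs
  rw [Proj.basicOpen_eq_iSup_proj, TopologicalSpace.Opens.mem_iSup] at hxs'
  obtain ⟨i, hi⟩ := hxs'
  have hle : Proj.basicOpen 𝒜 (GradedRing.proj 𝒜 i s) ≤ V := by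
    refine le_trans ?_ (show Proj.basicOpen 𝒜 s ≤ V from hsV)
    rw [Proj.basicOpen_eq_iSup_proj 𝒜 s]
    exact le_iSup (fun i => Proj.basicOpen 𝒜 (GradedRing.proj 𝒜 i s)) i
  have hcov := (Proj.affineOpenCover 𝒜).covers x
  set t := (Proj.affineOpenCover 𝒜).idx x
  have hxt : x ∈ Proj.basicOpen 𝒜 t.2.1 := by
    rw [← Proj.opensRange_awayι 𝒜 _ t.2.2 t.1.2]
    exact hcov
  refine ⟨GradedRing.proj 𝒜 i s * t.2.1, i + t.1.1, by have := t.1.2; omega,
    SetLike.mul_mem_graded (by rw [GradedRing.proj_apply]; exact Submodule.coe_mem _) t.2.2, ?_, ?_⟩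
  · rw [Proj.basicOpen_mul]
    exact ⟨hi, hxt⟩
  · rw [Proj.basicOpen_mul]
    exact inf_le_left.trans hle

/-- Sections of `Proj` vanishing on `D₊(g)` vanish, for `g` a homogeneous non-zero-divisor. -/
theorem eq_zero_of_restrict_eq_zero {d : ℕ} {g : A} (hg : g ∈ 𝒜 d)
    (hnz : g ∈ nonZeroDivisors A) (V W : (Proj 𝒜).Opens) (hWV : W ≤ V)
    (hW : Proj.basicOpen 𝒜 g ⊓ V ≤ W) (s : Γ(Proj 𝒜, V))
    (hs : (Proj 𝒜).presheaf.map (homOfLE hWV).op s = 0) : s = 0 := by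
  let ι := {f : A // ∃ n : ℕ, 0 < n ∧ f ∈ 𝒜 n ∧ Proj.basicOpen 𝒜 f ≤ V}
  refine TopCat.Sheaf.eq_of_locally_eq' (Proj 𝒜).sheaf (fun i : ι => Proj.basicOpen 𝒜 i.1) V
    (fun i => homOfLE i.2.choose_spec.2.2) ?_ s 0 ?_
  · intro x hx
    obtain ⟨f, n, hn, hf, hxf, hle⟩ := exists_basicOpen_le 𝒜 V x hx
    exact Opens.mem_iSup.mpr ⟨⟨f, n, hn, hf, hle⟩, hxf⟩
  · rintro ⟨f, n, hn, hf, hle⟩
    rw [map_zero]
    change (Proj 𝒜).presheaf.map (homOfLE hle).op s = 0
    set r := (Proj 𝒜).presheaf.map (homOfLE hle).op s with hr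
    have hiso : IsIso (Proj.awayToSection 𝒜 f) := (Proj.basicOpenIsoAway 𝒜 f hf hn).isIso_hom
    obtain ⟨z, hz⟩ := (ConcreteCategory.bijective_of_isIso (Proj.awayToSection 𝒜 f)).2 r
    have hfg : f * g ∈ 𝒜 (n + d) := SetLike.mul_mem_graded hf hg
    have hiso' : IsIso (Proj.awayToSection 𝒜 (f * g)) :=
      (Proj.basicOpenIsoAway 𝒜 (f * g) hfg (by omega)).isIso_hom
    have key := Proj.awayMap_awayToSection 𝒜 (f := f) hg (x := f * g) rfl
    have key' := congr($key z)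
    simp only [CommRingCat.hom_comp, RingHom.coe_comp, Function.comp_apply,
      CommRingCat.hom_ofHom] at key'
    rw [hz, hr, ← ConcreteCategory.comp_apply, ← Functor.map_comp] at key'
    have hle' : Proj.basicOpen 𝒜 (f * g) ≤ W := by
      refine le_trans ?_ hW
      rw [Proj.basicOpen_mul]
      exact le_inf inf_le_right (inf_le_left.trans hle)
    have h0 : (Proj 𝒜).presheaf.map (homOfLE (hle'.trans hWV)).op s = 0 := by
      have : (homOfLE (hle'.trans hWV)).op = (homOfLE hWV).op ≫ (homOfLE hle').op := rfl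
      rw [this, Functor.map_comp, ConcreteCategory.comp_apply, hs, map_zero]
    have h1 : (Proj.awayToSection 𝒜 (f * g)) (awayMap 𝒜 hg rfl z) = 0 := by
      rw [key']
      exact h0
    have h2 : awayMap 𝒜 hg rfl z = 0 :=
      (ConcreteCategory.bijective_of_isIso (Proj.awayToSection 𝒜 (f * g))).1
        (by rw [h1, map_zero])
    have h3 : z = 0 := awayMap_injective 𝒜 hf hg rfl hnz (by rw [h2, map_zero])
    rw [← hz, h3, map_zero]

end Groth.Agent.Lib.Helper8.ProjNZD
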