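import Mathlib
import Groth.Prelude.Def_QuadGrp

set_option backward.isDefEq.respectTransparency.types false
set_option autoImplicit false
set_option linter.unusedSectionVars false
set_option linter.style.haveILetI false

universe u

namespace Groth.Agent.Lib.Helper8.QG

open CliffordAlgebra

variable (k : Type u) [CommRing k]

lemma Q_apply (m : Fin 3 → k) : QuadGrp.splitForm k 3 m = m 0 * m 0 + m 1 * m 2 := by
  have h : ∀ (F : Fin (3 / 2) → QuadraticForm k (Fin 3 → k)), ∑ i, F i = F ⟨0, by norm_num⟩ := by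
    intro F
    exact Fin.sum_univ_one F
  unfold QuadGrp.splitForm
  rw [dif_pos (by norm_num : 3 % 2 = 1), h]
  simp
  ring

/-- the quadratic form `x₀² + x₁x₂`. -/
noncomputable abbrev Q : QuadraticForm k (Fin 3 → k) := QuadGrp.splitForm k 3

/-- its Clifford algebra. -/
abbrev C := CliffordAlgebra (QuadGrp.splitForm k 3)

/-- the generators. -/
noncomputable def ex : C k := ι (Q k) (Pi.single 0 1)
noncomputable def ey : C k := ι (Q k) (Pi.single 1 1)
noncomputable def et : C k := ι (Q k) (Pi.single 2 1)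

lemma ι_eq (m : Fin 3 → k) : ι (Q k) m = m 0 • ex k + m 1 • ey k + m 2 • et k := by
  have : m = m 0 • Pi.single 0 1 + m 1 • Pi.single 1 1 + m 2 • Pi.single 2 1 := by
    ext i
    fin_cases i <;> simp
  conv_lhs => rw [this]
  simp only [map_add, map_smul]
  rfl

lemma polar_apply (a b : Fin 3 → k) :
    QuadraticMap.polar (Q k) a b = 2 * a 0 * b 0 + a 1 * b 2 + a 2 * b 1 := by
  unfold QuadraticMap.polar
  simp only [Q_apply, Pi.add_apply]
  ring

lemma xx : ex k * ex k = 1 := by
  unfold ex
  rw [ι_sq_scalar, Q_apply]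
  simp

lemma yy : ey k * ey k = 0 := by
  unfold ey
  rw [ι_sq_scalar, Q_apply]
  simp

lemma tt : et k * et k = 0 := by
  unfold et
  rw [ι_sq_scalar, Q_apply]
  simp

lemma yx : ey k * ex k = -(ex k * ey k) := by
  have := ι_mul_ι_add_swap (Q := Q k) (Pi.single 1 1) (Pi.single 0 1)
  rw [polar_apply] at this
  simp at this
  exact eq_neg_of_add_eq_zero_left this

lemma tx : et k * ex k = -(ex k * et k) := by
  have := ι_mul_ι_add_swap (Q := Q k) (Pi.single 2 1) (Pi.single 0 1)
  rw [polar_apply] at this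
  simp at this
  exact eq_neg_of_add_eq_zero_left this

lemma ty : et k * ey k = 1 - ey k * et k := by
  have := ι_mul_ι_add_swap (Q := Q k) (Pi.single 2 1) (Pi.single 1 1)
  rw [polar_apply] at this
  simp at this
  exact eq_sub_of_add_eq this

lemma xx' (r : C k) : ex k * (ex k * r) = r := by rw [← mul_assoc, xx, one_mul]
lemma yy' (r : C k) : ey k * (ey k * r) = 0 := by rw [← mul_assoc, yy, zero_mul]
lemma tt' (r : C k) : et k * (et k * r) = 0 := by rw [← mul_assoc, tt, zero_mul]
lemma yx' (r : C k) : ey k * (ex k * r) = -(ex k * (ey k * r)) := by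
  rw [← mul_assoc, yx, neg_mul, mul_assoc]
lemma tx' (r : C k) : et k * (ex k * r) = -(ex k * (et k * r)) := by
  rw [← mul_assoc, tx, neg_mul, mul_assoc]
lemma ty' (r : C k) : et k * (ey k * r) = r - ey k * (et k * r) := by
  rw [← mul_assoc, ty, sub_mul, one_mul, mul_assoc]

end Groth.Agent.Lib.Helper8.QG
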