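import Mathlib
import Groth.Agent.Lib.Helper8.QG1

set_option backward.isDefEq.respectTransparency.types false
set_option autoImplicit false
set_option linter.unusedSectionVars false
set_option linter.style.haveILetI false

universe u

namespace Groth.Agent.Lib.Helper8.QG

open CliffordAlgebra

variable (k : Type u) [CommRing k]

/-- normal-form simp set for words in `ex, ey, et`. -/
macro "cliff_nf" : tactic =>
  `(tactic| simp only [mul_assoc, xx, yy, tt, yx, tx, ty, xx', yy', tt', yx', tx', ty',
      mul_add, add_mul, mul_sub, sub_mul, mul_neg, neg_mul, mul_one, one_mul, mul_zero, zero_mul,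
      neg_neg, neg_zero, sub_zero, zero_sub, add_zero, zero_add, sub_self])

/-- `w = e₁e₂ − e₂e₁`. -/
noncomputable def ew : C k := ey k * et k - et k * ey k
/-- the central element `z = e₀ w`. -/
noncomputable def ez : C k := ex k * ew k
/-- `p = e₁e₂`, `a = e₀e₁`, `b = e₀e₂`. -/
noncomputable def ep : C k := ey k * et k
noncomputable def ea : C k := ex k * ey k
noncomputable def eb : C k := ex k * et k

lemma ez_ex : ez k * ex k = ex k * ez k := by
  unfold ez ew; cliff_nf

lemma ez_ey : ez k * ey k = ey k * ez k := by
  unfold ez ew; cliff_nf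

lemma ez_et : ez k * et k = et k * ez k := by
  unfold ez ew; cliff_nf

lemma ez_ez : ez k * ez k = 1 := by
  unfold ez ew; cliff_nf; abel

lemma ez_ex' : ez k * ex k = ew k := by
  unfold ez ew; cliff_nf

lemma ez_ey' : ez k * ey k = ea k := by
  unfold ez ew ea; cliff_nf

lemma ez_et' : ez k * et k = -eb k := by
  unfold ez ew eb; cliff_nf


lemma ez_ι (m : Fin 3 → k) : ez k * ι (Q k) m = ι (Q k) m * ez k := by
  rw [ι_eq]
  simp only [mul_add, add_mul, mul_smul_comm, smul_mul_assoc, ez_ex, ez_ey, ez_et]

lemma ez_comm (c : C k) : ez k * c = c * ez k := by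
  induction c using CliffordAlgebra.induction with
  | algebraMap r => exact (Algebra.commutes r (ez k)).symm
  | ι m => exact ez_ι k m
  | mul a b ha hb => rw [← mul_assoc, ha, mul_assoc, hb, mul_assoc]
  | add a b ha hb => rw [mul_add, add_mul, ha, hb]

/-! products in the even subalgebra -/

lemma ep_ep : ep k * ep k = ep k := by unfold ep; cliff_nf
lemma ep_ea : ep k * ea k = ea k := by unfold ep ea; cliff_nf
lemma ep_eb : ep k * eb k = 0 := by unfold ep eb; cliff_nf
lemma ea_ep : ea k * ep k = 0 := by unfold ep ea; cliff_nf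
lemma ea_ea : ea k * ea k = 0 := by unfold ea; cliff_nf
lemma ea_eb : ea k * eb k = -ep k := by unfold ea eb ep; cliff_nf
lemma eb_ep : eb k * ep k = eb k := by unfold ep eb; cliff_nf
lemma eb_ea : eb k * ea k = ep k - 1 := by unfold ea eb ep; cliff_nf; abel
lemma eb_eb : eb k * eb k = 0 := by unfold eb; cliff_nf

end Groth.Agent.Lib.Helper8.QG
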