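import Mathlib
import Groth.Agent.Lib.Helper8.QG2

set_option backward.isDefEq.respectTransparency.types false
set_option autoImplicit false
set_option linter.unusedSectionVars false
set_option linter.style.haveILetI false

universe u

namespace Groth.Agent.Lib.Helper8.QG

open CliffordAlgebra

variable (k : Type u) [CommRing k]

/-- the span of `1, p, a, b`. -/
noncomputable def S : Submodule k (C k) := Submodule.span k {1, ep k, ea k, eb k}

lemma one_mem_S : (1 : C k) ∈ S k := Submodule.subset_span (by simp)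
lemma ep_mem_S : ep k ∈ S k := Submodule.subset_span (by simp)
lemma ea_mem_S : ea k ∈ S k := Submodule.subset_span (by simp)
lemma eb_mem_S : eb k ∈ S k := Submodule.subset_span (by simp)

lemma mul_mem_S_left (s : C k) (hs : s ∈ S k) :
    ep k * s ∈ S k ∧ ea k * s ∈ S k ∧ eb k * s ∈ S k := by
  unfold S at hs
  induction hs using Submodule.span_induction with
  | mem s hs =>
    simp only [Set.mem_insert_iff, Set.mem_singleton_iff] at hs
    rcases hs with rfl | rfl | rfl | rfl
    · simp only [mul_one]; exact ⟨ep_mem_S k, ea_mem_S k, eb_mem_S k⟩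
    · rw [ep_ep, ea_ep, eb_ep]; exact ⟨ep_mem_S k, Submodule.zero_mem _, eb_mem_S k⟩
    · rw [ep_ea, ea_ea, eb_ea]
      exact ⟨ea_mem_S k, Submodule.zero_mem _, Submodule.sub_mem _ (ep_mem_S k) (one_mem_S k)⟩
    · rw [ep_eb, ea_eb, eb_eb]
      exact ⟨Submodule.zero_mem _, Submodule.neg_mem _ (ep_mem_S k), Submodule.zero_mem _⟩
  | zero => simp
  | add s s' _ _ h h' =>
    simp only [mul_add]
    exact ⟨Submodule.add_mem _ h.1 h'.1, Submodule.add_mem _ h.2.1 h'.2.1,
      Submodule.add_mem _ h.2.2 h'.2.2⟩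
  | smul r s _ h =>
    simp only [mul_smul_comm]
    exact ⟨Submodule.smul_mem _ _ h.1, Submodule.smul_mem _ _ h.2.1, Submodule.smul_mem _ _ h.2.2⟩

lemma mul_mem_S (c s : C k) (hc : c ∈ S k) (hs : s ∈ S k) : c * s ∈ S k := by
  unfold S at hc
  induction hc using Submodule.span_induction with
  | mem c hc =>
    simp only [Set.mem_insert_iff, Set.mem_singleton_iff] at hc
    rcases hc with rfl | rfl | rfl | rfl
    · rwa [one_mul]
    · exact (mul_mem_S_left k s hs).1
    · exact (mul_mem_S_left k s hs).2.1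
    · exact (mul_mem_S_left k s hs).2.2
  | zero => simp
  | add c c' _ _ h h' => rw [add_mul]; exact Submodule.add_mem _ h h'
  | smul r c _ h => rw [smul_mul_assoc]; exact Submodule.smul_mem _ _ h

lemma ι_mul_ι_mem_S (m₁ m₂ : Fin 3 → k) : ι (Q k) m₁ * ι (Q k) m₂ ∈ S k := by
  rw [ι_eq, ι_eq]
  simp only [add_mul, mul_add, smul_mul_assoc, mul_smul_comm, xx, yy, tt, yx, tx, ty]
  have h1 : ex k * ey k ∈ S k := ea_mem_S k
  have h2 : ex k * et k ∈ S k := eb_mem_S k
  have h3 : ey k * et k ∈ S k := ep_mem_S k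
  have h0 := one_mem_S k
  repeat' (first
    | exact h0 | exact h1 | exact h2 | exact h3 | exact Submodule.zero_mem _
    | apply Submodule.add_mem | apply Submodule.smul_mem | apply Submodule.neg_mem
    | apply Submodule.sub_mem)

lemma even_le_S (x : C k) (hx : x ∈ evenOdd (Q k) 0) : x ∈ S k := by
  induction x, hx using CliffordAlgebra.even_induction with
  | algebraMap r =>
    rw [Algebra.algebraMap_eq_smul_one]
    exact Submodule.smul_mem _ _ (one_mem_S k)
  | add x y _ _ hx hy => exact Submodule.add_mem _ hx hy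
  | ι_mul_ι_mul m₁ m₂ x _ hx => exact mul_mem_S k _ _ (ι_mul_ι_mem_S k m₁ m₂) hx

lemma exists_coeffs (x : C k) (hx : x ∈ evenOdd (Q k) 0) :
    ∃ α β γ δ : k, x = α • (1 : C k) + β • ep k + γ • ea k + δ • eb k := by
  have h := even_le_S k x hx
  unfold S at h
  obtain ⟨α, z1, hz1, rfl⟩ := Submodule.mem_span_insert.1 h
  obtain ⟨β, z2, hz2, rfl⟩ := Submodule.mem_span_insert.1 hz1
  obtain ⟨γ, z3, hz3, rfl⟩ := Submodule.mem_span_insert.1 hz2
  obtain ⟨δ, rfl⟩ := Submodule.mem_span_singleton.1 hz3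
  exact ⟨α, β, γ, δ, by abel⟩

end Groth.Agent.Lib.Helper8.QG
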