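import Mathlib
import Groth.Agent.Lib.Helper8.QG3

set_option backward.isDefEq.respectTransparency.types false
set_option autoImplicit false
set_option linter.unusedSectionVars false
set_option linter.style.haveILetI false

universe u

namespace Groth.Agent.Lib.Helper8.QG

open CliffordAlgebra

variable (k : Type u) [CommRing k]

/-- the linear map `m ↦ [[m₀, m₁], [m₂, -m₀]]`. -/
noncomputable def fM : (Fin 3 → k) →ₗ[k] Matrix (Fin 2) (Fin 2) k where
  toFun m := !![m 0, m 1; m 2, -m 0]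
  map_add' := by
    intro a b; ext i j; fin_cases i <;> fin_cases j <;> simp [add_comm]
  map_smul' := by
    intro r a; ext i j; fin_cases i <;> fin_cases j <;> simp

lemma fM_apply (m : Fin 3 → k) : fM k m = !![m 0, m 1; m 2, -m 0] := rfl

lemma fM_sq (m : Fin 3 → k) :
    fM k m * fM k m = algebraMap k (Matrix (Fin 2) (Fin 2) k) (Q k m) := by
  rw [Q_apply, fM_apply]
  ext i j
  fin_cases i <;> fin_cases j <;>
    simp [Matrix.mul_apply, Fin.sum_univ_two, Matrix.algebraMap_matrix_apply] <;> ring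

/-- the representation of the Clifford algebra on `k²`. -/
noncomputable def rho : C k →ₐ[k] Matrix (Fin 2) (Fin 2) k :=
  CliffordAlgebra.lift (Q k) ⟨fM k, fM_sq k⟩

lemma rho_ι (m : Fin 3 → k) : rho k (ι (Q k) m) = fM k m :=
  CliffordAlgebra.lift_ι_apply _ _ _

/-- the trace of the representation. -/
noncomputable def tr : C k →ₗ[k] k :=
  (Matrix.traceLinearMap (Fin 2) k k) ∘ₗ (rho k).toLinearMap

lemma tr_apply (x : C k) : tr k x = Matrix.trace (rho k x) := rfl

lemma tr_mul_comm (x y : C k) : tr k (x * y) = tr k (y * x) := by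
  rw [tr_apply, tr_apply, map_mul, map_mul, Matrix.trace_mul_comm]

lemma tr_one : tr k 1 = 2 := by
  rw [tr_apply, map_one, Matrix.trace_fin_two]
  simp
  norm_num

lemma rho_ex : rho k (ex k) = !![1, 0; 0, -1] := by
  unfold ex; rw [rho_ι, fM_apply]; simp

lemma rho_ey : rho k (ey k) = !![0, 1; 0, 0] := by
  unfold ey; rw [rho_ι, fM_apply]; simp

lemma rho_et : rho k (et k) = !![0, 0; 1, 0] := by
  unfold et; rw [rho_ι, fM_apply]; simp

lemma tr_ep : tr k (ep k) = 1 := by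
  rw [tr_apply, ep, map_mul, rho_ey, rho_et, Matrix.trace_fin_two]
  simp [Matrix.mul_apply, Fin.sum_univ_two]

lemma tr_ea : tr k (ea k) = 0 := by
  rw [tr_apply, ea, map_mul, rho_ex, rho_ey, Matrix.trace_fin_two]
  simp [Matrix.mul_apply, Fin.sum_univ_two]

lemma tr_eb : tr k (eb k) = 0 := by
  rw [tr_apply, eb, map_mul, rho_ex, rho_et, Matrix.trace_fin_two]
  simp [Matrix.mul_apply, Fin.sum_univ_two]

lemma ew_eq : ew k = ep k + ep k - 1 := by
  unfold ew ep; rw [ty]; abel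

lemma ez_ew : ez k * ew k = ex k := by
  rw [← ez_ex', ← mul_assoc, ez_ez, one_mul]

lemma ez_ea : ez k * ea k = ey k := by
  rw [← ez_ey', ← mul_assoc, ez_ez, one_mul]

lemma ez_eb : ez k * eb k = -et k := by
  have := ez_et' k
  rw [eq_neg_iff_add_eq_zero] at this
  have h2 : eb k = -(ez k * et k) := by rw [ez_et', neg_neg]
  rw [h2, mul_neg, ← mul_assoc, ez_ez, one_mul]

/-- a trace-zero even element times `z` is a vector. -/
lemma ez_mul_mem_range (x : C k) (hx : x ∈ evenOdd (Q k) 0) (htr : tr k x = 0) :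
    ez k * x ∈ LinearMap.range (ι (Q k)) := by
  obtain ⟨α, β, γ, δ, rfl⟩ := exists_coeffs k x hx
  simp only [map_add, map_smul, tr_one, tr_ep, tr_ea, tr_eb, smul_eq_mul, mul_one, mul_zero,
    add_zero] at htr
  have hβ : β = -(α + α) := by linear_combination htr
  subst hβ
  refine ⟨![-α, γ, -δ], ?_⟩
  rw [ι_eq]
  have h1 : α • (1 : C k) + (-(α + α)) • ep k = (-α) • ew k := by
    rw [ew_eq]; module
  rw [h1]
  simp only [mul_add, mul_smul_comm, ez_ew, ez_ea, ez_eb]
  simp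

/-- `z` times a vector is a trace-zero even element. -/
lemma ez_mul_ι_mem_even (m : Fin 3 → k) : ez k * ι (Q k) m ∈ evenOdd (Q k) 0 := by
  rw [ι_eq]
  simp only [mul_add, mul_smul_comm, ez_ex', ez_ey', ez_et']
  have ha : ea k ∈ evenOdd (Q k) 0 := ι_mul_ι_mem_evenOdd_zero _ _ _
  have hb : eb k ∈ evenOdd (Q k) 0 := ι_mul_ι_mem_evenOdd_zero _ _ _
  have hw : ew k ∈ evenOdd (Q k) 0 :=
    Submodule.sub_mem _ (ι_mul_ι_mem_evenOdd_zero _ _ _) (ι_mul_ι_mem_evenOdd_zero _ _ _)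
  exact Submodule.add_mem _ (Submodule.add_mem _ (Submodule.smul_mem _ _ hw)
    (Submodule.smul_mem _ _ ha)) (Submodule.smul_mem _ _ (Submodule.neg_mem _ hb))

lemma tr_ez_mul_ι (m : Fin 3 → k) : tr k (ez k * ι (Q k) m) = 0 := by
  rw [ι_eq]
  simp only [mul_add, mul_smul_comm, ez_ex', ez_ey', ez_et', ew_eq, map_add, map_smul, map_sub,
    map_neg, tr_one, tr_ep, tr_ea, tr_eb]
  simp
  ring

/-- conjugation by an even unit preserves vectors. -/
lemma conj_mem_range (u : (C k)ˣ) (hu : (u : C k) ∈ evenOdd (Q k) 0)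
    (hu' : ((u⁻¹ : (C k)ˣ) : C k) ∈ evenOdd (Q k) 0) (m : Fin 3 → k) :
    (u : C k) * ι (Q k) m * ((u⁻¹ : (C k)ˣ) : C k) ∈ LinearMap.range (ι (Q k)) := by
  set v₀ := ez k * ι (Q k) m with hv₀
  have h1 : ι (Q k) m = ez k * v₀ := by rw [hv₀, ← mul_assoc, ez_ez, one_mul]
  have h2 : (u : C k) * ι (Q k) m * ((u⁻¹ : (C k)ˣ) : C k) =
      ez k * ((u : C k) * v₀ * ((u⁻¹ : (C k)ˣ) : C k)) := by
    rw [h1, ← mul_assoc (u : C k), ← ez_comm k (u : C k)]
    simp only [mul_assoc]
  rw [h2]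
  apply ez_mul_mem_range
  · have hv : v₀ ∈ evenOdd (Q k) 0 := ez_mul_ι_mem_even k m
    have := SetLike.mul_mem_graded (SetLike.mul_mem_graded hu hv) hu'
    simpa using this
  · rw [tr_mul_comm, ← mul_assoc, Units.inv_mul, one_mul]
    exact tr_ez_mul_ι k m

end Groth.Agent.Lib.Helper8.QG
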