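import Mathlib
import Groth.Agent.S7388
import Groth.Agent.Lib.Helper10.P1Conn1
import Groth.Agent.Lib.Helper29.VA7

/-!
# A quasi-projective scheme of dimension `d` over a noetherian ring is covered by `d + 1`
affine opens (helper8)
-/

set_option autoImplicit false
set_option linter.unusedSectionVars false
set_option linter.unusedVariables false
set_option linter.style.haveILetI false
universe u
open CategoryTheory CategoryTheory.Limits AlgebraicGeometry TopologicalSpace

namespace Groth.Agent.Lib.Helper8.QPa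

/-- every chain of irreducible closed subsets ending inside `Y` has length `< m` -/
def ChainLE {X : Type*} [TopologicalSpace X] (Y : Set X) (m : ℕ) : Prop :=
  ∀ p : LTSeries (IrreducibleCloseds X), (p.last : Set X) ⊆ Y → p.length + 1 ≤ m

theorem cover_of_chainLE {X : Scheme.{u}} [NoetherianSpace X]
    (hfin : ∀ E : Set X, E.Finite → ∃ U : X.Opens, IsAffineOpen U ∧ E ⊆ U) :
    ∀ (m : ℕ) (Y : Set X), IsClosed Y → ChainLE Y m →
      ∃ U : Fin m → X.Opens, (∀ i, IsAffineOpen (U i)) ∧ Y ⊆ ⋃ i, (U i : Set X) := by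
  classical
  intro m
  induction m with
  | zero =>
    intro Y hY hc
    refine ⟨fun i => i.elim0, fun i => i.elim0, ?_⟩
    intro y hy
    exfalso
    let a : IrreducibleCloseds X := ⟨closure {y}, isIrreducible_singleton.closure, isClosed_closure⟩
    have := hc (RelSeries.singleton _ a) (by
      simp only [RelSeries.last_singleton]
      exact closure_minimal (Set.singleton_subset_iff.mpr hy) hY)
    simp at this
  | succ m ih =>
    intro Y hY hc
    obtain ⟨S, hSf, hSc, hSi, hS⟩ := NoetherianSpace.exists_finite_set_isClosed_irreducible hY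
    have hgen : ∀ t ∈ S, ∃ x : X, IsGenericPoint x t := fun t ht =>
      QuasiSober.sober (hSi t ht) (hSc t ht)
    choose g hg using hgen
    haveI : Finite ↥S := hSf.to_subtype
    obtain ⟨U0, hU0, hEU⟩ := hfin (Set.range fun t : S => g t.1 t.2) (Set.finite_range _)
    have hY'cl : IsClosed (Y ∩ (U0 : Set X)ᶜ) := hY.inter U0.isOpen.isClosed_compl
    have hc' : ChainLE (Y ∩ (U0 : Set X)ᶜ) m := by
      intro p hp
      have hpY : (p.last : Set X) ⊆ ⋃₀ S := by
        rw [← hS]; exact hp.trans Set.inter_subset_left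
      obtain ⟨t, htS, hpt⟩ : ∃ t ∈ S, (p.last : Set X) ⊆ t := by
        have h1 := isIrreducible_iff_sUnion_isClosed.1 p.last.isIrreducible hSf.toFinset
          (fun t ht => hSc t (hSf.mem_toFinset.mp ht)) (by simpa using hpY)
        obtain ⟨t, ht, hpt⟩ := h1
        exact ⟨t, hSf.mem_toFinset.mp ht, hpt⟩
      have htY : t ⊆ Y := by rw [hS]; exact Set.subset_sUnion_of_mem htS
      have hgt : g t htS ∈ t := (hg t htS).mem
      have hgU : g t htS ∈ (U0 : Set X) := hEU ⟨⟨t, htS⟩, rfl⟩
      let b : IrreducibleCloseds X := ⟨t, hSi t htS, hSc t htS⟩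
      have hlt : p.last < b := by
        rw [← SetLike.coe_ssubset_coe]
        refine ⟨hpt, fun hsub => ?_⟩
        exact (hp (hsub hgt)).2 hgU
      have := hc (p.snoc b hlt) (by
        rw [RelSeries.last_snoc]
        exact htY)
      rw [RelSeries.snoc_length] at this
      omega
    obtain ⟨U', hU', hcov⟩ := ih _ hY'cl hc'
    refine ⟨Fin.cons U0 U', ?_, ?_⟩
    · intro i
      refine Fin.cases ?_ (fun i => ?_) i
      · simpa using hU0
      · simpa using hU' i
    · intro y hy
      by_cases hyU : y ∈ (U0 : Set X)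
      · exact Set.mem_iUnion.mpr ⟨0, by simpa using hyU⟩
      · obtain ⟨i, hi⟩ := Set.mem_iUnion.mp (hcov ⟨hy, hyU⟩)
        exact Set.mem_iUnion.mpr ⟨i.succ, by simpa using hi⟩

theorem main (A : Type u) [CommRing A] [IsNoetherianRing A] (n d : ℕ) {X : Scheme.{u}}
    (j : X ⟶ CohB1.ProjSpaceOver n (Spec (CommRingCat.of A))) [IsImmersion j]
    (hX : topologicalKrullDim ↥X = d) :
    ∃ U : Fin (d + 1) → X.Opens, (∀ i, IsAffineOpen (U i)) ∧ ⨆ i, U i = ⊤ := by
  classical
  -- projective space over `Spec A` is `Proj` of the polynomial ring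
  have PB := @Groth.Agent.Lib.Helper25.PolyRelProj.isPullback_projSpace n (ULift.{u} ℤ) A _ _
    (Groth.Agent.Lib.Helper10.P1Conn.zAlg A)
  have hT : Spec.map (CommRingCat.ofHom (@algebraMap (ULift.{u} ℤ) A _ _
      (Groth.Agent.Lib.Helper10.P1Conn.zAlg A))) =
      specULiftZIsTerminal.from (Spec (CommRingCat.of A)) := specULiftZIsTerminal.hom_ext _ _
  rw [hT] at PB
  let κ : Proj (CohB1.polyGrading n A) ≅ CohB1.ProjSpaceOver n (Spec (CommRingCat.of A)) :=
    PB.isoPullback
  -- noetherianity
  haveI : IsNoetherianRing (CommRingCat.of A) := (inferInstance : IsNoetherianRing A)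
  haveI := Groth.Agent.Lib.Helper29.QCoh.isProper_toBase n (Spec (CommRingCat.of A))
  haveI : IsLocallyNoetherian (CohB1.ProjSpaceOver n (Spec (CommRingCat.of A))) :=
    LocallyOfFiniteType.isLocallyNoetherian
      (CohB1.ProjSpaceOver.toBase n (Spec (CommRingCat.of A)))
  haveI : CompactSpace (CohB1.ProjSpaceOver n (Spec (CommRingCat.of A))) :=
    QuasiCompact.compactSpace_of_compactSpace
      (CohB1.ProjSpaceOver.toBase n (Spec (CommRingCat.of A)))
  haveI : IsNoetherian (CohB1.ProjSpaceOver n (Spec (CommRingCat.of A))) := { }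
  haveI : NoetherianSpace (CohB1.ProjSpaceOver n (Spec (CommRingCat.of A))) := inferInstance
  haveI : NoetherianSpace X := j.isEmbedding.isInducing.noetherianSpace
  have hfin : ∀ E : Set X, E.Finite → ∃ U : X.Opens, IsAffineOpen U ∧ E ⊆ U := fun E hE =>
    Groth.Agent.S7388.result (CohB1.polyGrading n A) (j ≫ κ.inv) E hE
  have hc : ChainLE (Set.univ : Set X) (d + 1) := by
    intro p _
    have h := Order.LTSeries.length_le_krullDim p
    have h' : (p.length : WithBot ℕ∞) ≤ (d : WithBot ℕ∞) := by
      rw [← hX]; exact h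
    have : p.length ≤ d := by exact_mod_cast h'
    omega
  obtain ⟨U, hU, hcov⟩ := cover_of_chainLE hfin (d + 1) Set.univ isClosed_univ hc
  refine ⟨U, hU, ?_⟩
  rw [eq_top_iff]
  intro x _
  obtain ⟨i, hi⟩ := Set.mem_iUnion.mp (hcov (Set.mem_univ x))
  exact Opens.mem_iSup.mpr ⟨i, hi⟩

end Groth.Agent.Lib.Helper8.QPa
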