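import Mathlib

set_option backward.isDefEq.respectTransparency.types false
set_option autoImplicit false
set_option linter.unusedSectionVars false
set_option linter.style.haveILetI false

namespace Groth.Agent.Lib.Helper8.QSq

open MvPolynomial

universe u
variable {κ : Type u} [Field κ]

/-- Colength at most one. -/
def Small (I : Ideal (MvPolynomial (Fin 2) κ)) : Prop :=
  Module.Finite κ (MvPolynomial (Fin 2) κ ⧸ I) ∧
    Module.finrank κ (MvPolynomial (Fin 2) κ ⧸ I) ≤ 1

lemma small_of_surj (I : Ideal (MvPolynomial (Fin 2) κ))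
    (h : Function.Surjective (algebraMap κ (MvPolynomial (Fin 2) κ ⧸ I))) : Small I := by
  have hs : Function.Surjective (Algebra.linearMap κ (MvPolynomial (Fin 2) κ ⧸ I)) := h
  haveI : Module.Finite κ (MvPolynomial (Fin 2) κ ⧸ I) := Module.Finite.of_surjective _ hs
  refine ⟨inferInstance, ?_⟩
  have := LinearMap.finrank_le_finrank_of_surjective hs
  simpa using this

lemma small_of_top (I : Ideal (MvPolynomial (Fin 2) κ)) (h : I = ⊤) : Small I := by
  apply small_of_surj
  intro z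
  obtain ⟨p, rfl⟩ := Ideal.Quotient.mk_surjective z
  refine ⟨0, ?_⟩
  rw [map_zero]
  symm
  rw [Ideal.Quotient.eq_zero_iff_mem, h]
  trivial

lemma small_of_rational (I : Ideal (MvPolynomial (Fin 2) κ)) (x₀ y₀ : κ)
    (hx : X 0 - C x₀ ∈ I) (hy : X 1 - C y₀ ∈ I) : Small I := by
  apply small_of_surj
  intro z
  obtain ⟨p, rfl⟩ := Ideal.Quotient.mk_surjective z
  have key : (Ideal.Quotient.mkₐ κ I) =
      (Algebra.ofId κ (MvPolynomial (Fin 2) κ ⧸ I)).comp (MvPolynomial.aeval ![x₀, y₀]) := by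
    apply MvPolynomial.algHom_ext
    intro i
    fin_cases i
    · simp only [Fin.zero_eta, Ideal.Quotient.mkₐ_eq_mk, AlgHom.coe_comp, Function.comp_apply,
        aeval_X, Matrix.cons_val_zero]
      have : (Ideal.Quotient.mk I) (X 0 - C x₀) = 0 := Ideal.Quotient.eq_zero_iff_mem.mpr hx
      rw [map_sub, sub_eq_zero] at this
      rw [this]
      rfl
    · simp only [Fin.mk_one, Ideal.Quotient.mkₐ_eq_mk, AlgHom.coe_comp, Function.comp_apply,
        aeval_X, Matrix.cons_val_one]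
      have : (Ideal.Quotient.mk I) (X 1 - C y₀) = 0 := Ideal.Quotient.eq_zero_iff_mem.mpr hy
      rw [map_sub, sub_eq_zero] at this
      rw [this]
      rfl
  refine ⟨MvPolynomial.aeval ![x₀, y₀] p, ?_⟩
  have := congrArg (fun φ => φ p) key
  simp only [Ideal.Quotient.mkₐ_eq_mk, AlgHom.coe_comp, Function.comp_apply] at this
  rw [this]
  rfl

lemma minors (I : Ideal (MvPolynomial (Fin 2) κ)) (hI : ¬ Small I)
    (g₁ h₁ i₁ g₂ h₂ i₂ : κ)
    (m1 : (C g₁ + C h₁ * X 0 + C i₁ * X 1 : MvPolynomial (Fin 2) κ) ∈ I)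
    (m2 : (C g₂ + C h₂ * X 0 + C i₂ * X 1 : MvPolynomial (Fin 2) κ) ∈ I) :
    g₁ * h₂ - g₂ * h₁ = 0 ∧ g₁ * i₂ - g₂ * i₁ = 0 ∧ h₁ * i₂ - h₂ * i₁ = 0 := by
  have hΔ : h₁ * i₂ - h₂ * i₁ = 0 := by
    by_contra hΔ
    apply hI
    set Δ := h₁ * i₂ - h₂ * i₁ with hΔdef
    apply small_of_rational I (-(g₁ * i₂ - g₂ * i₁) / Δ) (-(h₁ * g₂ - h₂ * g₁) / Δ)
    · have : (X 0 - C (-(g₁ * i₂ - g₂ * i₁) / Δ) : MvPolynomial (Fin 2) κ) =
          C (i₂ / Δ) * (C g₁ + C h₁ * X 0 + C i₁ * X 1) +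
          C (- i₁ / Δ) * (C g₂ + C h₂ * X 0 + C i₂ * X 1) := by
        have e1 : (X 0 : MvPolynomial (Fin 2) κ) = C ((i₂ / Δ) * h₁ + (-i₁ / Δ) * h₂) * X 0 := by
          have : (i₂ / Δ) * h₁ + (-i₁ / Δ) * h₂ = 1 := by
            field_simp
            rw [hΔdef]; ring
          rw [this, C_1, one_mul]
        have e2 : (0 : κ) = (i₂ / Δ) * i₁ + (-i₁ / Δ) * i₂ := by
          field_simp; ring
        have e3 : -(g₁ * i₂ - g₂ * i₁) / Δ = -((i₂ / Δ) * g₁ + (-i₁ / Δ) * g₂) := by
          field_simp; ring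
        rw [e3]
        conv_lhs => rw [e1]
        have e2' : (C (0:κ) : MvPolynomial (Fin 2) κ) * X 1 =
            C ((i₂ / Δ) * i₁ + (-i₁ / Δ) * i₂) * X 1 := by rw [← e2]
        simp only [C_0, zero_mul] at e2'
        simp only [map_add, map_mul, map_neg] at e2' ⊢
        linear_combination e2'
      rw [this]
      exact I.add_mem (I.mul_mem_left _ m1) (I.mul_mem_left _ m2)
    · have : (X 1 - C (-(h₁ * g₂ - h₂ * g₁) / Δ) : MvPolynomial (Fin 2) κ) =
          C (- h₂ / Δ) * (C g₁ + C h₁ * X 0 + C i₁ * X 1) +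
          C (h₁ / Δ) * (C g₂ + C h₂ * X 0 + C i₂ * X 1) := by
        have e1 : (X 1 : MvPolynomial (Fin 2) κ) = C ((-h₂ / Δ) * i₁ + (h₁ / Δ) * i₂) * X 1 := by
          have : (-h₂ / Δ) * i₁ + (h₁ / Δ) * i₂ = 1 := by
            field_simp
            rw [hΔdef]; ring
          rw [this, C_1, one_mul]
        have e2 : (0 : κ) = (-h₂ / Δ) * h₁ + (h₁ / Δ) * h₂ := by
          field_simp; ring
        have e3 : -(h₁ * g₂ - h₂ * g₁) / Δ = -((-h₂ / Δ) * g₁ + (h₁ / Δ) * g₂) := by
          field_simp; ring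
        rw [e3]
        conv_lhs => rw [e1]
        have e2' : (C (0:κ) : MvPolynomial (Fin 2) κ) * X 0 =
            C ((-h₂ / Δ) * h₁ + (h₁ / Δ) * h₂) * X 0 := by rw [← e2]
        simp only [C_0, zero_mul] at e2'
        simp only [map_add, map_mul, map_neg] at e2' ⊢
        linear_combination e2'
      rw [this]
      exact I.add_mem (I.mul_mem_left _ m1) (I.mul_mem_left _ m2)
  have hconst : ∀ c : κ, (C c : MvPolynomial (Fin 2) κ) ∈ I → c = 0 := by
    intro c hc
    by_contra hc0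
    apply hI
    apply small_of_top
    rw [Ideal.eq_top_iff_one]
    have : (1 : MvPolynomial (Fin 2) κ) = C c⁻¹ * C c := by
      rw [← C_mul, inv_mul_cancel₀ hc0, C_1]
    rw [this]
    exact I.mul_mem_left _ hc
  refine ⟨?_, ?_, hΔ⟩
  · apply hconst
    have : (C (g₁ * h₂ - g₂ * h₁) : MvPolynomial (Fin 2) κ) =
        C h₂ * (C g₁ + C h₁ * X 0 + C i₁ * X 1) - C h₁ * (C g₂ + C h₂ * X 0 + C i₂ * X 1)
        + C (h₁ * i₂ - h₂ * i₁) * X 1 := by
      simp only [map_sub, map_mul]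
      ring
    rw [this, hΔ, C_0, zero_mul, add_zero]
    exact I.sub_mem (I.mul_mem_left _ m1) (I.mul_mem_left _ m2)
  · apply hconst
    have : (C (g₁ * i₂ - g₂ * i₁) : MvPolynomial (Fin 2) κ) =
        C i₂ * (C g₁ + C h₁ * X 0 + C i₁ * X 1) - C i₁ * (C g₂ + C h₂ * X 0 + C i₂ * X 1)
        - C (h₁ * i₂ - h₂ * i₁) * X 0 := by
      simp only [map_sub, map_mul]
      ring
    rw [this, hΔ, C_0, zero_mul, sub_zero]
    exact I.sub_mem (I.mul_mem_left _ m1) (I.mul_mem_left _ m2)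

lemma pderiv_mem (I : Ideal (MvPolynomial (Fin 2) κ)) (k : Fin 2)
    (u : MvPolynomial (Fin 2) κ) (hu : u ∈ I ^ 2) : pderiv k u ∈ I := by
  rw [pow_two] at hu
  refine Submodule.mul_induction_on hu ?_ ?_
  · intro m hm n hn
    rw [Derivation.leibniz, smul_eq_mul, smul_eq_mul]
    exact I.add_mem (I.mul_mem_right _ hm) (I.mul_mem_right _ hn)
  · intro x y hx hy
    rw [map_add]
    exact I.add_mem hx hy

end Groth.Agent.Lib.Helper8.QSq

namespace Groth.Agent.Lib.Helper8.QSq

open MvPolynomial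

universe u
variable {κ : Type u} [Field κ]

/-- The general quadric. -/
noncomputable def quad (a b c d e f : κ) : MvPolynomial (Fin 2) κ :=
  C a + C b * X 0 + C c * X 1 + C d * X 0 ^ 2 + C e * X 0 * X 1 + C f * X 1 ^ 2

lemma expand_sq (j g h i : κ) :
    (C j * (C g + C h * X 0 + C i * X 1) ^ 2 : MvPolynomial (Fin 2) κ) =
      quad (j * g ^ 2) (2 * j * g * h) (2 * j * g * i) (j * h ^ 2) (2 * j * h * i) (j * i ^ 2) := by
  unfold quad
  simp only [map_mul, map_pow, map_ofNat]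
  ring

lemma pderiv0_quad (a b c d e f : κ) :
    pderiv 0 (quad a b c d e f) = C b + C (2 * d) * X 0 + C e * X 1 := by
  unfold quad
  simp only [map_add, Derivation.leibniz, pderiv_C, pderiv_X, Derivation.leibniz_pow, smul_eq_mul,
    map_mul, map_ofNat]
  simp
  ring

lemma pderiv1_quad (a b c d e f : κ) :
    pderiv 1 (quad a b c d e f) = C c + C e * X 0 + C (2 * f) * X 1 := by
  unfold quad
  simp only [map_add, Derivation.leibniz, pderiv_C, pderiv_X, Derivation.leibniz_pow, smul_eq_mul,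
    map_mul, map_ofNat]
  simp
  ring

lemma euler_quad (a b c d e f : κ) :
    (C (2 * a) + C b * X 0 + C c * X 1 : MvPolynomial (Fin 2) κ) =
      2 * quad a b c d e f - X 0 * (C b + C (2 * d) * X 0 + C e * X 1)
        - X 1 * (C c + C e * X 0 + C (2 * f) * X 1) := by
  unfold quad
  simp only [map_mul, map_ofNat]
  ring

theorem main_ne2 (I : Ideal (MvPolynomial (Fin 2) κ)) (hI : ¬ Small I) (h2 : (2 : κ) ≠ 0)
    (a b c d e f : κ) (hne : ¬ (a = 0 ∧ b = 0 ∧ c = 0 ∧ d = 0 ∧ e = 0 ∧ f = 0))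
    (hmem : quad a b c d e f ∈ I ^ 2) :
    ∃ j g h i : κ, a = j * g ^ 2 ∧ b = 2 * j * g * h ∧ c = 2 * j * g * i ∧ d = j * h ^ 2 ∧
      e = 2 * j * h * i ∧ f = j * i ^ 2 := by
  have hx : (C b + C (2 * d) * X 0 + C e * X 1 : MvPolynomial (Fin 2) κ) ∈ I := by
    rw [← pderiv0_quad a b c d e f]
    exact pderiv_mem I 0 _ hmem
  have hy : (C c + C e * X 0 + C (2 * f) * X 1 : MvPolynomial (Fin 2) κ) ∈ I := by
    rw [← pderiv1_quad a b c d e f]
    exact pderiv_mem I 1 _ hmem
  have hqI : quad a b c d e f ∈ I := Ideal.pow_le_self (by norm_num) hmem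
  have hz : (C (2 * a) + C b * X 0 + C c * X 1 : MvPolynomial (Fin 2) κ) ∈ I := by
    rw [euler_quad a b c d e f]
    exact I.sub_mem (I.sub_mem (I.mul_mem_left _ hqI) (I.mul_mem_left _ hx)) (I.mul_mem_left _ hy)
  obtain ⟨m1, m2, m3⟩ := minors I hI _ _ _ _ _ _ hx hy
  obtain ⟨m4, m5, m6⟩ := minors I hI _ _ _ _ _ _ hx hz
  obtain ⟨m7, m8, m9⟩ := minors I hI _ _ _ _ _ _ hy hz
  have h4 : (4 : κ) ≠ 0 := by
    have : (4 : κ) = 2 * 2 := by norm_num
    rw [this]; exact mul_ne_zero h2 h2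
  by_cases hd : d = 0
  · by_cases hf : f = 0
    · subst hd hf
      have he : e = 0 := by
        have : e * e = 0 := by linear_combination -m3
        exact mul_self_eq_zero.mp this
      have hb : b = 0 := by
        have : b * b = 0 := by linear_combination m4
        exact mul_self_eq_zero.mp this
      have hc : c = 0 := by
        have : c * c = 0 := by linear_combination m8
        exact mul_self_eq_zero.mp this
      subst he hb hc
      refine ⟨a, 1, 0, 0, ?_⟩
      simp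
    · refine ⟨f, c / (2 * f), e / (2 * f), 1, ?_, ?_, ?_, ?_, ?_, ?_⟩
      · field_simp
        linear_combination -m8
      · field_simp
        linear_combination -m9
      · field_simp
      · field_simp
        linear_combination m3
      · field_simp
      · ring
  · refine ⟨d, b / (2 * d), 1, e / (2 * d), ?_, ?_, ?_, ?_, ?_, ?_⟩
    · field_simp
      linear_combination -m4
    · field_simp
    · field_simp
      linear_combination m6
    · ring
    · field_simp
    · field_simp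
      linear_combination m3

end Groth.Agent.Lib.Helper8.QSq
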