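import Mathlib
import Groth.Agent.Lib.Helper8.QSq1

set_option backward.isDefEq.respectTransparency.types false
set_option autoImplicit false
set_option linter.unusedSectionVars false
set_option linter.style.haveILetI false

namespace Groth.Agent.Lib.Helper8.QSq

open MvPolynomial IntermediateField

universe u v
variable {κ : Type u} [Field κ] {L : Type v} [Field L] [Algebra κ L]

/-- The diagonal quadric (the only possible shape in characteristic 2). -/
noncomputable def dq (a d f : κ) : MvPolynomial (Fin 2) κ :=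
  C a + C d * X 0 ^ 2 + C f * X 1 ^ 2

lemma sq_dvd_of_mem_sq {A : Type*} [CommRing A] (φ : MvPolynomial (Fin 2) κ →+* A) (π : A)
    (m : Ideal (MvPolynomial (Fin 2) κ)) (h : ∀ u ∈ m, π ∣ φ u)
    (w : MvPolynomial (Fin 2) κ) (hw : w ∈ m ^ 2) : π ^ 2 ∣ φ w := by
  have h1 : m ≤ Ideal.comap φ (Ideal.span {π}) := by
    intro u hu
    rw [Ideal.mem_comap, Ideal.mem_span_singleton]
    exact h u hu
  have h2 : m ^ 2 ≤ Ideal.comap φ (Ideal.span {π ^ 2}) := by
    calc m ^ 2 ≤ (Ideal.comap φ (Ideal.span {π})) ^ 2 := Ideal.pow_right_mono h1 2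
      _ ≤ Ideal.comap φ ((Ideal.span {π}) ^ 2) := Ideal.le_comap_pow φ 2
      _ = Ideal.comap φ (Ideal.span {π ^ 2}) := by rw [Ideal.span_singleton_pow]
  have := h2 hw
  rwa [Ideal.mem_comap, Ideal.mem_span_singleton] at this

open Polynomial in
lemma coeff_two_sq (h2 : (2 : κ) = 0) (B : Polynomial κ) :
    (B ^ 2).coeff 2 = (B.coeff 1) ^ 2 := by
  rw [pow_two, Polynomial.coeff_mul]
  have : Finset.HasAntidiagonal.antidiagonal (2 : ℕ) = {(0, 2), (1, 1), (2, 0)} := by decide
  rw [this, Finset.sum_insert (by decide), Finset.sum_insert (by decide), Finset.sum_singleton]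
  linear_combination (B.coeff 0 * B.coeff 2) * h2

end Groth.Agent.Lib.Helper8.QSq

namespace Groth.Agent.Lib.Helper8.QSq

open MvPolynomial IntermediateField

universe u v
variable {κ : Type u} [Field κ] {L : Type v} [Field L] [Algebra κ L]

open Polynomial in
theorem subA (h2 : (2 : κ) = 0) (α β : L) (hα : IsIntegral κ α) (hβ : IsIntegral κ β)
    (a d f : κ) (hf : f ≠ 0)
    (hq : dq a d f ∈
      (RingHom.ker (MvPolynomial.aeval ![α, β] : MvPolynomial (Fin 2) κ →ₐ[κ] L)) ^ 2) :
    (α ∈ (algebraMap κ L).range ∧ β ∈ (algebraMap κ L).range) ∨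
      ∃ B₀ B₁ : κ, a = f * B₀ ^ 2 ∧ d = f * B₁ ^ 2 := by
  set m := RingHom.ker (MvPolynomial.aeval ![α, β] : MvPolynomial (Fin 2) κ →ₐ[κ] L) with hm
  -- Step 1 : β ∈ κ(α)
  set α' : κ⟮α⟯ := AdjoinSimple.gen κ α with hα'
  have hα'α : algebraMap κ⟮α⟯ L α' = α := AdjoinSimple.algebraMap_gen κ α
  let ev₁ : MvPolynomial (Fin 2) κ →ₐ[κ] Polynomial κ⟮α⟯ :=
    MvPolynomial.aeval ![Polynomial.C α', Polynomial.X]
  have hev₁ : ∀ u, Polynomial.aeval β (ev₁ u) = MvPolynomial.aeval ![α, β] u := by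
    intro u
    have : ((Polynomial.aeval β : Polynomial κ⟮α⟯ →ₐ[κ⟮α⟯] L).restrictScalars κ).comp ev₁ =
        (MvPolynomial.aeval ![α, β] : MvPolynomial (Fin 2) κ →ₐ[κ] L) := by
      apply MvPolynomial.algHom_ext
      intro i
      fin_cases i
      · simp [ev₁, hα'α]
      · simp [ev₁]
    exact congrArg (fun φ => φ u) this
  have hβF : IsIntegral κ⟮α⟯ β := hβ.tower_top
  set π := minpoly κ⟮α⟯ β with hπ
  have hdvd1 : ∀ u ∈ m, π ∣ ev₁ u := by
    intro u hu
    apply minpoly.dvd
    rw [hev₁ u]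
    exact hu
  have hsq1 := sq_dvd_of_mem_sq (ev₁ : MvPolynomial (Fin 2) κ →+* _) π m hdvd1 _ hq
  have hev₁q : ev₁ (dq a d f) =
      Polynomial.C (algebraMap κ κ⟮α⟯ f) * Polynomial.X ^ 2 +
        Polynomial.C (algebraMap κ κ⟮α⟯ a + algebraMap κ κ⟮α⟯ d * α' ^ 2) := by
    simp only [dq, ev₁, map_add, map_mul, map_pow, MvPolynomial.aeval_C, MvPolynomial.aeval_X,
      Matrix.cons_val_zero, Matrix.cons_val_one, Polynomial.algebraMap_apply,
      Algebra.algebraMap_self_apply]
    ring
  have hf' : algebraMap κ κ⟮α⟯ f ≠ 0 := by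
    rw [Ne, map_eq_zero_iff _ (algebraMap κ κ⟮α⟯).injective]
    exact hf
  have hdeg1 : (ev₁ (dq a d f)).natDegree = 2 := by
    rw [hev₁q, Polynomial.natDegree_add_C, Polynomial.natDegree_C_mul_X_pow 2 _ hf']
  have hne1 : ev₁ (dq a d f) ≠ 0 := by
    intro h0
    rw [h0] at hdeg1
    simp at hdeg1
  have hπdeg : π.natDegree = 1 := by
    have h1 : (π ^ 2).natDegree ≤ 2 := by
      have := Polynomial.natDegree_le_of_dvd hsq1 hne1
      exact this.trans hdeg1.le
    rw [Polynomial.natDegree_pow] at h1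
    have h3 : 0 < π.natDegree := minpoly.natDegree_pos hβF
    omega
  obtain ⟨b', hb'⟩ := minpoly.natDegree_eq_one_iff.mp hπdeg
  -- Step 2 : β = B(α)
  have hβmem : β ∈ (Algebra.adjoin κ {α} : Subalgebra κ L) := by
    rw [← IntermediateField.adjoin_simple_toSubalgebra_of_isAlgebraic hα.isAlgebraic]
    rw [← hb']
    exact b'.2
  rw [Algebra.adjoin_singleton_eq_range_aeval] at hβmem
  obtain ⟨B₁', hB₁'⟩ := hβmem
  set P₁ := minpoly κ α with hP₁
  have hP₁m : P₁.Monic := minpoly.monic hα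
  set B := B₁' %ₘ P₁ with hB
  have hBα : Polynomial.aeval α B = β := by
    rw [hB, minpoly.aeval_modByMonic_minpoly]
    exact hB₁'
  -- Step 3
  let ψ : MvPolynomial (Fin 2) κ →ₐ[κ] Polynomial κ := MvPolynomial.aeval ![Polynomial.X, B]
  have hψ : ∀ u, Polynomial.aeval α (ψ u) = MvPolynomial.aeval ![α, β] u := by
    intro u
    have : ((Polynomial.aeval α : Polynomial κ →ₐ[κ] L)).comp ψ =
        (MvPolynomial.aeval ![α, β] : MvPolynomial (Fin 2) κ →ₐ[κ] L) := by
      apply MvPolynomial.algHom_ext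
      intro i
      fin_cases i
      · simp [ψ]
      · simp [ψ, hBα]
    exact congrArg (fun φ => φ u) this
  have hdvd2 : ∀ u ∈ m, P₁ ∣ ψ u := by
    intro u hu
    apply minpoly.dvd
    rw [hψ u]
    exact hu
  have hsq2 := sq_dvd_of_mem_sq (ψ : MvPolynomial (Fin 2) κ →+* _) P₁ m hdvd2 _ hq
  have hψq : ψ (dq a d f) = Polynomial.C a + Polynomial.C d * Polynomial.X ^ 2 +
      Polynomial.C f * B ^ 2 := by
    simp only [dq, ψ, map_add, map_mul, map_pow, MvPolynomial.aeval_C, MvPolynomial.aeval_X,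
      Matrix.cons_val_zero, Matrix.cons_val_one, Polynomial.algebraMap_eq]
  by_cases hn1 : P₁.natDegree = 1
  · left
    obtain ⟨x₀, hx₀⟩ := minpoly.natDegree_eq_one_iff.mp hn1
    refine ⟨⟨x₀, hx₀⟩, ⟨Polynomial.eval x₀ B, ?_⟩⟩
    rw [← hBα, ← hx₀, Polynomial.aeval_algebraMap_apply, Polynomial.coe_aeval_eq_eval]
  · right
    have hn2 : 2 ≤ P₁.natDegree := by
      have : 0 < P₁.natDegree := minpoly.natDegree_pos hα
      omega
    have hP₁ne1 : P₁ ≠ 1 := by
      intro h1
      rw [h1] at hn2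
      simp at hn2
    have hBdeg : B.natDegree < P₁.natDegree := Polynomial.natDegree_modByMonic_lt _ hP₁m hP₁ne1
    have hdegψ : (ψ (dq a d f)).natDegree < (P₁ ^ 2).natDegree := by
      rw [Polynomial.natDegree_pow, hψq]
      have e1 : (Polynomial.C a + Polynomial.C d * Polynomial.X ^ 2 : Polynomial κ).natDegree
          ≤ 2 := by
        refine (Polynomial.natDegree_add_le _ _).trans ?_
        rw [max_le_iff]
        refine ⟨by simp, ?_⟩
        exact Polynomial.natDegree_C_mul_X_pow_le d 2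
      have e2 : (Polynomial.C f * B ^ 2 : Polynomial κ).natDegree ≤ 2 * B.natDegree := by
        refine (Polynomial.natDegree_C_mul_le _ _).trans ?_
        rw [Polynomial.natDegree_pow]
      have e3 := Polynomial.natDegree_add_le
        (Polynomial.C a + Polynomial.C d * Polynomial.X ^ 2 : Polynomial κ)
        (Polynomial.C f * B ^ 2)
      have e4 := max_le_iff.mpr ⟨e1.trans (by omega : 2 ≤ 2 * (P₁.natDegree - 1)),
        e2.trans (by omega : 2 * B.natDegree ≤ 2 * (P₁.natDegree - 1))⟩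
      omega
    have hzero : ψ (dq a d f) = 0 := Polynomial.eq_zero_of_dvd_of_natDegree_lt hsq2 hdegψ
    rw [hψq] at hzero
    refine ⟨B.coeff 0, B.coeff 1, ?_, ?_⟩
    · have := congrArg (fun p => Polynomial.coeff p 0) hzero
      simp only [Polynomial.coeff_add, Polynomial.coeff_C_zero, Polynomial.coeff_C_mul,
        Polynomial.coeff_X_pow, Polynomial.coeff_zero] at this
      rw [pow_two B, Polynomial.mul_coeff_zero] at this
      simp only [OfNat.zero_ne_ofNat, if_false, mul_zero, add_zero] at this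
      linear_combination this - (f * B.coeff 0 ^ 2) * h2
    · have := congrArg (fun p => Polynomial.coeff p 2) hzero
      simp only [Polynomial.coeff_add, Polynomial.coeff_C_mul,
        Polynomial.coeff_zero, coeff_two_sq h2, Polynomial.coeff_X_one, one_pow, mul_one] at this
      rw [Polynomial.coeff_C] at this
      simp only [OfNat.ofNat_ne_zero, if_false, zero_add] at this
      linear_combination this - (f * B.coeff 1 ^ 2) * h2

end Groth.Agent.Lib.Helper8.QSq
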