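import Mathlib
import Groth.Agent.Lib.Helper8.QSq2

set_option backward.isDefEq.respectTransparency.types false
set_option autoImplicit false
set_option linter.unusedSectionVars false
set_option linter.style.haveILetI false

namespace Groth.Agent.Lib.Helper8.QSq

open MvPolynomial

universe u
variable {κ : Type u} [Field κ]

/-- A maximal ideal is rational if both coordinates are congruent to constants. -/
def Rational (m : Ideal (MvPolynomial (Fin 2) κ)) : Prop :=
  ∃ x₀ y₀ : κ, X 0 - C x₀ ∈ m ∧ X 1 - C y₀ ∈ m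

lemma const_mem_proper (m : Ideal (MvPolynomial (Fin 2) κ)) (hm : m ≠ ⊤) (c : κ)
    (hc : (C c : MvPolynomial (Fin 2) κ) ∈ m) : c = 0 := by
  by_contra hc0
  apply hm
  rw [Ideal.eq_top_iff_one]
  have : (1 : MvPolynomial (Fin 2) κ) = C c⁻¹ * C c := by
    rw [← C_mul, inv_mul_cancel₀ hc0, C_1]
  rw [this]
  exact m.mul_mem_left _ hc

theorem caseA_gen (h2 : (2 : κ) = 0) {L : Type u} [Field L] [Algebra κ L] [Module.Finite κ L]
    (φ : MvPolynomial (Fin 2) κ →ₐ[κ] L) (m : Ideal (MvPolynomial (Fin 2) κ))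
    (hker : RingHom.ker φ = m) (hmtop : m ≠ ⊤)
    (hnr : ¬ Rational m) (a d f : κ) (hne : ¬ (a = 0 ∧ d = 0 ∧ f = 0))
    (hq : dq a d f ∈ m ^ 2) :
    ∃ j g h i : κ, a = j * g ^ 2 ∧ d = j * h ^ 2 ∧ f = j * i ^ 2 := by
  set α : L := φ (X 0) with hα
  set β : L := φ (X 1) with hβ
  have hαi : IsIntegral κ α := Algebra.IsIntegral.isIntegral α
  have hβi : IsIntegral κ β := Algebra.IsIntegral.isIntegral β
  have hae : (MvPolynomial.aeval ![α, β] : MvPolynomial (Fin 2) κ →ₐ[κ] L) = φ := by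
    apply MvPolynomial.algHom_ext
    intro i
    fin_cases i <;> simp [hα, hβ]
  have hker' : RingHom.ker (MvPolynomial.aeval ![α, β] : MvPolynomial (Fin 2) κ →ₐ[κ] L) = m := by
    rw [hae]
    exact hker
  have hae' : (MvPolynomial.aeval ![β, α] : MvPolynomial (Fin 2) κ →ₐ[κ] L) =
      φ.comp (rename (Equiv.swap (0 : Fin 2) 1)) := by
    apply MvPolynomial.algHom_ext
    intro i
    fin_cases i <;> simp [hα, hβ]
  have hrat : α ∈ (algebraMap κ L).range ∧ β ∈ (algebraMap κ L).range → False := by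
    rintro ⟨⟨x₀, hx₀⟩, ⟨y₀, hy₀⟩⟩
    apply hnr
    refine ⟨x₀, y₀, ?_, ?_⟩
    · rw [← hker, RingHom.mem_ker, map_sub, ← hα, ← hx₀, sub_eq_zero]
      simp
    · rw [← hker, RingHom.mem_ker, map_sub, ← hβ, ← hy₀, sub_eq_zero]
      simp
  by_cases hf : f = 0
  · by_cases hd : d = 0
    · exfalso
      apply hne
      refine ⟨?_, hd, hf⟩
      apply const_mem_proper m hmtop
      have : dq a d f = C a := by
        simp [dq, hd, hf]
      rw [← this]
      exact Ideal.pow_le_self (by norm_num) hq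
    · -- swap the variables
      have hq' : dq a 0 d ∈
          (RingHom.ker (MvPolynomial.aeval ![β, α] : MvPolynomial (Fin 2) κ →ₐ[κ] L)) ^ 2 := by
        have h1 : m ≤ Ideal.comap (rename (Equiv.swap (0 : Fin 2) 1) :
            MvPolynomial (Fin 2) κ →ₐ[κ] MvPolynomial (Fin 2) κ)
            (RingHom.ker (MvPolynomial.aeval ![β, α] : MvPolynomial (Fin 2) κ →ₐ[κ] L)) := by
          intro u hu
          rw [Ideal.mem_comap, RingHom.mem_ker, hae']
          simp only [AlgHom.coe_comp, Function.comp_apply, rename_rename]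
          have : (rename (Equiv.swap (0 : Fin 2) 1 ∘ Equiv.swap (0 : Fin 2) 1) u) = u := by
            have : (Equiv.swap (0 : Fin 2) 1 ∘ Equiv.swap (0 : Fin 2) 1) = id := by
              funext i; simp
            rw [this, rename_id_apply]
          rw [this]
          rw [← hker] at hu
          exact hu
        have h2' := (Ideal.pow_right_mono h1 2).trans (Ideal.le_comap_pow _ 2)
        have := h2' hq
        rw [Ideal.mem_comap] at this
        have e : (rename (Equiv.swap (0 : Fin 2) 1) :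
            MvPolynomial (Fin 2) κ →ₐ[κ] MvPolynomial (Fin 2) κ) (dq a d f) = dq a 0 d := by
          simp [dq, hf]
        rw [← e]
        exact this
      rcases subA h2 β α hβi hαi a 0 d hd hq' with h | ⟨B₀, B₁, h1, h2'⟩
      · exact absurd ⟨h.2, h.1⟩ hrat
      · refine ⟨d, B₀, 1, 0, h1, by ring, by rw [hf]; ring⟩
  · rw [← hker'] at hq
    rcases subA h2 α β hαi hβi a d f hf hq with h | ⟨B₀, B₁, h1, h2'⟩
    · exact absurd h hrat
    · exact ⟨f, B₀, B₁, 1, h1, h2', by ring⟩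

theorem caseA (h2 : (2 : κ) = 0) (m : Ideal (MvPolynomial (Fin 2) κ)) [hm : m.IsMaximal]
    (hnr : ¬ Rational m) (a d f : κ) (hne : ¬ (a = 0 ∧ d = 0 ∧ f = 0))
    (hq : dq a d f ∈ m ^ 2) :
    ∃ j g h i : κ, a = j * g ^ 2 ∧ d = j * h ^ 2 ∧ f = j * i ^ 2 := by
  letI : Field (MvPolynomial (Fin 2) κ ⧸ m) := Ideal.Quotient.field m
  haveI : Algebra.FiniteType κ (MvPolynomial (Fin 2) κ ⧸ m) :=
    Algebra.FiniteType.of_surjective (Ideal.Quotient.mkₐ κ m) (Ideal.Quotient.mkₐ_surjective κ m)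
  haveI : Module.Finite κ (MvPolynomial (Fin 2) κ ⧸ m) :=
    finite_of_finite_type_of_isJacobsonRing κ (MvPolynomial (Fin 2) κ ⧸ m)
  exact caseA_gen h2 (Ideal.Quotient.mkₐ κ m) m (Ideal.Quotient.mkₐ_ker κ m) hm.ne_top hnr a d f
    hne hq

end Groth.Agent.Lib.Helper8.QSq

namespace Groth.Agent.Lib.Helper8.QSq

open MvPolynomial

universe u
variable {κ : Type u} [Field κ]

section taylor

variable (x₀ y₀ : κ)

/-- Local coordinate at a rational point. -/
noncomputable def XX : MvPolynomial (Fin 2) κ := X 0 - C x₀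
/-- Local coordinate at a rational point. -/
noncomputable def YY : MvPolynomial (Fin 2) κ := X 1 - C y₀
/-- The maximal ideal of a rational point. -/
noncomputable def mP : Ideal (MvPolynomial (Fin 2) κ) := Ideal.span {XX x₀, YY y₀}
/-- Value at the point. -/
noncomputable def ev (u : MvPolynomial (Fin 2) κ) : κ := MvPolynomial.eval ![x₀, y₀] u
/-- x-derivative at the point. -/
noncomputable def Dx (u : MvPolynomial (Fin 2) κ) : κ := MvPolynomial.eval ![x₀, y₀] (pderiv 0 u)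
/-- y-derivative at the point. -/
noncomputable def Dy (u : MvPolynomial (Fin 2) κ) : κ := MvPolynomial.eval ![x₀, y₀] (pderiv 1 u)

lemma XX_mem : XX x₀ ∈ mP x₀ y₀ := Ideal.subset_span (by simp)
lemma YY_mem : YY y₀ ∈ mP x₀ y₀ := Ideal.subset_span (by simp)

lemma ev_add (u v : MvPolynomial (Fin 2) κ) : ev x₀ y₀ (u + v) = ev x₀ y₀ u + ev x₀ y₀ v := by
  simp [ev]
lemma Dx_add (u v : MvPolynomial (Fin 2) κ) : Dx x₀ y₀ (u + v) = Dx x₀ y₀ u + Dx x₀ y₀ v := by
  simp [Dx]
lemma Dy_add (u v : MvPolynomial (Fin 2) κ) : Dy x₀ y₀ (u + v) = Dy x₀ y₀ u + Dy x₀ y₀ v := by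
  simp [Dy]

/-- The first-order Taylor remainder. -/
noncomputable def Trem (u : MvPolynomial (Fin 2) κ) : MvPolynomial (Fin 2) κ :=
  u - C (ev x₀ y₀ u) - C (Dx x₀ y₀ u) * XX x₀ - C (Dy x₀ y₀ u) * YY y₀

lemma taylor (u : MvPolynomial (Fin 2) κ) : Trem x₀ y₀ u ∈ (mP x₀ y₀) ^ 2 := by
  induction u using MvPolynomial.induction_on with
  | C c =>
    have : Trem x₀ y₀ (C c) = 0 := by
      simp [Trem, ev, Dx, Dy]
    rw [this]
    exact Ideal.zero_mem _
  | add p q hp hq =>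
    have : Trem x₀ y₀ (p + q) = Trem x₀ y₀ p + Trem x₀ y₀ q := by
      simp only [Trem, ev_add, Dx_add, Dy_add, map_add]
      ring
    rw [this]
    exact Ideal.add_mem _ hp hq
  | mul_X p i hp =>
    have hXX2 : XX x₀ ^ 2 ∈ (mP x₀ y₀) ^ 2 := Ideal.pow_mem_pow (XX_mem x₀ y₀) 2
    have hXY : XX x₀ * YY y₀ ∈ (mP x₀ y₀) ^ 2 := by
      rw [pow_two]; exact Ideal.mul_mem_mul (XX_mem x₀ y₀) (YY_mem x₀ y₀)
    have hYY2 : YY y₀ ^ 2 ∈ (mP x₀ y₀) ^ 2 := Ideal.pow_mem_pow (YY_mem x₀ y₀) 2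
    fin_cases i
    · have : Trem x₀ y₀ (p * X 0) = Trem x₀ y₀ p * X 0 + C (Dx x₀ y₀ p) * XX x₀ ^ 2
          + C (Dy x₀ y₀ p) * (XX x₀ * YY y₀) := by
        have e1 : ev x₀ y₀ (p * X 0) = ev x₀ y₀ p * x₀ := by simp [ev]
        have e2 : Dx x₀ y₀ (p * X 0) = Dx x₀ y₀ p * x₀ + ev x₀ y₀ p := by
          simp [Dx, ev, Derivation.leibniz]
          ring
        have e3 : Dy x₀ y₀ (p * X 0) = Dy x₀ y₀ p * x₀ := by
          simp [Dy, Derivation.leibniz, pderiv_X, Pi.single_apply]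
          ring
        simp only [Trem, e1, e2, e3, XX, YY, map_add, map_mul]
        ring
      simp only [Fin.zero_eta]
      rw [this]
      exact Ideal.add_mem _ (Ideal.add_mem _ (Ideal.mul_mem_right _ _ hp)
        (Ideal.mul_mem_left _ _ hXX2)) (Ideal.mul_mem_left _ _ hXY)
    · have : Trem x₀ y₀ (p * X 1) = Trem x₀ y₀ p * X 1 + C (Dx x₀ y₀ p) * (XX x₀ * YY y₀)
          + C (Dy x₀ y₀ p) * YY y₀ ^ 2 := by
        have e1 : ev x₀ y₀ (p * X 1) = ev x₀ y₀ p * y₀ := by simp [ev]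
        have e2 : Dx x₀ y₀ (p * X 1) = Dx x₀ y₀ p * y₀ := by
          simp [Dx, Derivation.leibniz, pderiv_X, Pi.single_apply]
          ring
        have e3 : Dy x₀ y₀ (p * X 1) = Dy x₀ y₀ p * y₀ + ev x₀ y₀ p := by
          simp [Dy, ev, Derivation.leibniz]
          ring
        simp only [Trem, e1, e2, e3, XX, YY, map_add, map_mul]
        ring
      simp only [Fin.mk_one]
      rw [this]
      exact Ideal.add_mem _ (Ideal.add_mem _ (Ideal.mul_mem_right _ _ hp)
        (Ideal.mul_mem_left _ _ hXY)) (Ideal.mul_mem_left _ _ hYY2)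

end taylor

end Groth.Agent.Lib.Helper8.QSq
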