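import Mathlib
import Groth.Agent.Lib.Helper8.QSq3

set_option backward.isDefEq.respectTransparency.types false
set_option autoImplicit false
set_option linter.unusedSectionVars false
set_option linter.style.haveILetI false

namespace Groth.Agent.Lib.Helper8.QSq

open MvPolynomial

universe u
variable {κ : Type u} [Field κ]

lemma dichotomy {R : Type*} [CommRing R] [IsNoetherianRing R] (m I : Ideal R) [hm : m.IsMaximal]
    (hIm : I ≤ m) (hne : I ≠ m) :
    (∃ m' : Ideal R, m'.IsMaximal ∧ I ≤ m' ∧ m' ≠ m) ∨ ¬ (m ≤ I ⊔ m ^ 2) := by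
  by_contra hcon
  obtain ⟨h1, h2⟩ := not_or.mp hcon
  simp only [not_exists, not_and, not_not] at h1 h2
  set N : Submodule R (R ⧸ I) := Submodule.map (Submodule.mkQ I) m with hNdef
  have hN : N.FG := (IsNoetherian.noetherian m).map _
  have hle : N ≤ m • N := by
    calc N ≤ Submodule.map (Submodule.mkQ I) (I ⊔ m ^ 2) := Submodule.map_mono h2
      _ = Submodule.map (Submodule.mkQ I) I ⊔ Submodule.map (Submodule.mkQ I) (m ^ 2) :=
          Submodule.map_sup _ _ _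
      _ = m • N := by
          rw [Submodule.mkQ_map_self, bot_sup_eq, pow_two, ← smul_eq_mul, Submodule.map_smul'']
  obtain ⟨r, hr1, hr2⟩ :=
    Submodule.exists_sub_one_mem_and_smul_eq_zero_of_fg_of_le_smul m N hN hle
  have hrw : ∀ w ∈ m, r * w ∈ I := by
    intro w hw
    have := hr2 (Submodule.mkQ I w) (Submodule.mem_map_of_mem hw)
    rw [← map_smul, smul_eq_mul] at this
    exact (Submodule.Quotient.mk_eq_zero I).mp this
  have hrm : r ∉ m := by
    intro hr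
    apply hm.ne_top
    rw [Ideal.eq_top_iff_one]
    have : (1 : R) = r - (r - 1) := by ring
    rw [this]
    exact m.sub_mem hr hr1
  have htop : I ⊔ Ideal.span {r} = ⊤ := by
    by_contra hnt
    obtain ⟨m'', hm'', hle''⟩ := Ideal.exists_le_maximal _ hnt
    have := h1 m'' hm'' (le_sup_left.trans hle'')
    apply hrm
    rw [← this]
    exact hle'' (Ideal.mem_sup_right (Ideal.mem_span_singleton_self r))
  have h1mem : (1 : R) ∈ I ⊔ Ideal.span {r} := by rw [htop]; trivial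
  obtain ⟨i, hi, z, hz, hiz⟩ := Submodule.mem_sup.mp h1mem
  obtain ⟨s, rfl⟩ := Ideal.mem_span_singleton'.mp hz
  apply hne
  apply le_antisymm hIm
  intro w hw
  have : w = w * i + s * (r * w) := by
    linear_combination (-w) * hiz
  rw [this]
  exact I.add_mem (I.mul_mem_left _ hi) (I.mul_mem_left _ (hrw w hw))

end Groth.Agent.Lib.Helper8.QSq

namespace Groth.Agent.Lib.Helper8.QSq

open MvPolynomial

universe u
variable {κ : Type u} [Field κ]

lemma decomp (x₀ y₀ : κ) (u : MvPolynomial (Fin 2) κ) :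
    u = Trem x₀ y₀ u + C (ev x₀ y₀ u) + C (Dx x₀ y₀ u) * XX x₀ + C (Dy x₀ y₀ u) * YY y₀ := by
  unfold Trem
  ring

lemma mP_sq_le (x₀ y₀ : κ) : (mP x₀ y₀) ^ 2 ≤ mP x₀ y₀ := Ideal.pow_le_self (by norm_num)

lemma eq_mP (x₀ y₀ : κ) (m : Ideal (MvPolynomial (Fin 2) κ)) (hm : m ≠ ⊤)
    (hx : X 0 - C x₀ ∈ m) (hy : X 1 - C y₀ ∈ m) : m = mP x₀ y₀ := by
  have hle : mP x₀ y₀ ≤ m := by
    unfold mP
    rw [Ideal.span_le]
    intro z hz
    rcases hz with rfl | rfl
    · exact hx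
    · exact hy
  apply le_antisymm _ hle
  intro u hu
  have hev : ev x₀ y₀ u = 0 := by
    apply const_mem_proper m hm
    have : C (ev x₀ y₀ u) = u - Trem x₀ y₀ u - C (Dx x₀ y₀ u) * XX x₀ - C (Dy x₀ y₀ u) * YY y₀ := by
      unfold Trem; ring
    rw [this]
    exact m.sub_mem (m.sub_mem (m.sub_mem hu (hle (mP_sq_le x₀ y₀ (taylor x₀ y₀ u))))
      (m.mul_mem_left _ hx)) (m.mul_mem_left _ hy)
  rw [decomp x₀ y₀ u, hev, C_0, add_zero]
  exact Ideal.add_mem _ (Ideal.add_mem _ (mP_sq_le x₀ y₀ (taylor x₀ y₀ u))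
    (Ideal.mul_mem_left _ _ (XX_mem x₀ y₀))) (Ideal.mul_mem_left _ _ (YY_mem x₀ y₀))

lemma ev_eq_zero_of_mem (x₀ y₀ : κ) (u : MvPolynomial (Fin 2) κ) (hu : u ∈ mP x₀ y₀) :
    ev x₀ y₀ u = 0 := by
  have : mP x₀ y₀ ≤ RingHom.ker (MvPolynomial.eval ![x₀, y₀]) := by
    unfold mP
    rw [Ideal.span_le]
    intro z hz
    rcases hz with rfl | rfl
    · simp [XX, RingHom.mem_ker]
    · simp [YY, RingHom.mem_ker]
  exact this hu

/-- Evaluation along the line through `(x₀,y₀)` with direction `(r,-p)`. -/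
noncomputable def θ (x₀ y₀ p r : κ) : MvPolynomial (Fin 2) κ →ₐ[κ] Polynomial κ :=
  MvPolynomial.aeval ![Polynomial.C x₀ + Polynomial.C r * Polynomial.X,
    Polynomial.C y₀ - Polynomial.C p * Polynomial.X]

lemma θ_XX (x₀ y₀ p r : κ) : θ x₀ y₀ p r (XX x₀) = Polynomial.C r * Polynomial.X := by
  simp [θ, XX]

lemma θ_YY (x₀ y₀ p r : κ) : θ x₀ y₀ p r (YY y₀) = - (Polynomial.C p * Polynomial.X) := by
  simp [θ, YY]

lemma θ_dvd (x₀ y₀ p r : κ) (u : MvPolynomial (Fin 2) κ) (hu : u ∈ mP x₀ y₀) :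
    (Polynomial.X : Polynomial κ) ∣ θ x₀ y₀ p r u := by
  have : mP x₀ y₀ ≤ Ideal.comap (θ x₀ y₀ p r) (Ideal.span {(Polynomial.X : Polynomial κ)}) := by
    unfold mP
    rw [Ideal.span_le]
    intro z hz
    rcases hz with rfl | rfl
    · rw [SetLike.mem_coe, Ideal.mem_comap, Ideal.mem_span_singleton, θ_XX]
      exact Dvd.intro_left _ rfl
    · rw [SetLike.mem_coe, Ideal.mem_comap, Ideal.mem_span_singleton, θ_YY]
      exact (Dvd.intro_left _ rfl).neg_right
  have := this hu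
  rwa [Ideal.mem_comap, Ideal.mem_span_singleton] at this

lemma θ_dq (h2 : (2 : κ) = 0) (x₀ y₀ p r a d f : κ) (hP : a + d * x₀ ^ 2 + f * y₀ ^ 2 = 0) :
    θ x₀ y₀ p r (dq a d f) = Polynomial.C (d * r ^ 2 + f * p ^ 2) * Polynomial.X ^ 2 := by
  have h2' : (2 : Polynomial κ) = 0 := by
    calc (2 : Polynomial κ) = Polynomial.C (2 : κ) := (map_ofNat Polynomial.C 2).symm
      _ = 0 := by rw [h2, map_zero]
  have hP' := congrArg (Polynomial.C) hP
  simp only [map_add, map_mul, map_pow, map_zero] at hP'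
  simp only [θ, dq, map_add, map_mul, map_pow, aeval_C, aeval_X, Matrix.cons_val_zero,
    Matrix.cons_val_one, Polynomial.algebraMap_eq]
  linear_combination hP' + (Polynomial.C d * Polynomial.C x₀ * Polynomial.C r * Polynomial.X
    - Polynomial.C f * Polynomial.C y₀ * Polynomial.C p * Polynomial.X) * h2'

/-- The tangent-direction computation. -/
lemma tangent (h2 : (2 : κ) = 0) (x₀ y₀ p r a d f : κ) (hP : a + d * x₀ ^ 2 + f * y₀ ^ 2 = 0)
    (I : Ideal (MvPolynomial (Fin 2) κ)) (hI : I ≤ mP x₀ y₀)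
    (hpar : ∀ u ∈ I, Dx x₀ y₀ u * r - Dy x₀ y₀ u * p = 0)
    (hq : dq a d f ∈ I ^ 2) : d * r ^ 2 + f * p ^ 2 = 0 := by
  have h1 : ∀ u ∈ I, (Polynomial.X : Polynomial κ) ^ 2 ∣ θ x₀ y₀ p r u := by
    intro u hu
    have hev := ev_eq_zero_of_mem x₀ y₀ u (hI hu)
    have hT := sq_dvd_of_mem_sq (θ x₀ y₀ p r : MvPolynomial (Fin 2) κ →+* Polynomial κ) Polynomial.X
      (mP x₀ y₀) (θ_dvd x₀ y₀ p r) _ (taylor x₀ y₀ u)
    have hu' := decomp x₀ y₀ u
    rw [hev, C_0, add_zero] at hu'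
    have : θ x₀ y₀ p r u = θ x₀ y₀ p r (Trem x₀ y₀ u) := by
      conv_lhs => rw [hu']
      rw [map_add, map_add, map_mul, map_mul, θ_XX, θ_YY]
      have hc := congrArg (Polynomial.C) (hpar u hu)
      simp only [map_sub, map_mul, map_zero] at hc
      simp only [θ, aeval_C, Polynomial.algebraMap_eq]
      linear_combination Polynomial.X * hc
    rw [this]
    exact hT
  have h4 := sq_dvd_of_mem_sq (θ x₀ y₀ p r : MvPolynomial (Fin 2) κ →+* Polynomial κ) (Polynomial.X ^ 2)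
    I h1 _ hq
  have e : (θ x₀ y₀ p r : MvPolynomial (Fin 2) κ →+* Polynomial κ) (dq a d f) =
      Polynomial.C (d * r ^ 2 + f * p ^ 2) * Polynomial.X ^ 2 := θ_dq h2 x₀ y₀ p r a d f hP
  rw [e] at h4
  by_contra hc
  have hdeg : (Polynomial.C (d * r ^ 2 + f * p ^ 2) * Polynomial.X ^ 2 : Polynomial κ).natDegree
      = 2 := Polynomial.natDegree_C_mul_X_pow 2 _ hc
  have hne : (Polynomial.C (d * r ^ 2 + f * p ^ 2) * Polynomial.X ^ 2 : Polynomial κ) ≠ 0 := by
    intro h0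
    rw [h0] at hdeg
    simp at hdeg
  have := Polynomial.natDegree_le_of_dvd h4 hne
  rw [hdeg, ← pow_mul, Polynomial.natDegree_X_pow] at this
  omega

lemma finish (h2 : (2 : κ) = 0) (a d f x₀ y₀ p r : κ) (hP : a + d * x₀ ^ 2 + f * y₀ ^ 2 = 0)
    (hpr : d * r ^ 2 + f * p ^ 2 = 0) (hne : ¬ (p = 0 ∧ r = 0)) :
    ∃ j g h i : κ, a = j * g ^ 2 ∧ d = j * h ^ 2 ∧ f = j * i ^ 2 := by
  by_cases hd : d = 0
  · refine ⟨f, y₀, 0, 1, ?_, ?_, by ring⟩
    · rw [hd] at hP
      linear_combination hP - (f * y₀ ^ 2) * h2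
    · rw [hd]; ring
  by_cases hf : f = 0
  · refine ⟨d, x₀, 1, 0, ?_, by ring, ?_⟩
    · rw [hf] at hP
      linear_combination hP - (d * x₀ ^ 2) * h2
    · rw [hf]; ring
  have hp : p ≠ 0 := by
    intro hp
    apply hne
    refine ⟨hp, ?_⟩
    rw [hp] at hpr
    have : d * r ^ 2 = 0 := by linear_combination hpr
    rcases mul_eq_zero.mp this with h | h
    · exact absurd h hd
    · exact pow_eq_zero_iff (by norm_num) |>.mp h
  refine ⟨d, x₀ + (r / p) * y₀, 1, r / p, ?_, by ring, ?_⟩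
  · have hf' : f = d * (r / p) ^ 2 := by
      field_simp
      linear_combination hpr - (d * r ^ 2) * h2
    rw [hf'] at hP
    linear_combination hP - (d * x₀ ^ 2 + d * (r / p) ^ 2 * y₀ ^ 2 + d * x₀ * (r / p) * y₀) * h2
  · field_simp
    linear_combination hpr - (d * r ^ 2) * h2

end Groth.Agent.Lib.Helper8.QSq
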