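import Mathlib
import Groth.Agent.Lib.Helper8.QSq4

set_option backward.isDefEq.respectTransparency.types false
set_option autoImplicit false
set_option linter.unusedSectionVars false
set_option linter.style.haveILetI false

namespace Groth.Agent.Lib.Helper8.QSq

open MvPolynomial

universe u
variable {κ : Type u} [Field κ]

lemma ev_dq (x₀ y₀ a d f : κ) : ev x₀ y₀ (dq a d f) = a + d * x₀ ^ 2 + f * y₀ ^ 2 := by
  simp [ev, dq]

theorem rational_case (h2 : (2 : κ) = 0) (I : Ideal (MvPolynomial (Fin 2) κ)) (hI : ¬ Small I)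
    (m : Ideal (MvPolynomial (Fin 2) κ)) [hm : m.IsMaximal] (hIm : I ≤ m) (x₀ y₀ : κ)
    (hx : X 0 - C x₀ ∈ m) (hy : X 1 - C y₀ ∈ m) (a d f : κ)
    (hne : ¬ (a = 0 ∧ d = 0 ∧ f = 0)) (hq : dq a d f ∈ I ^ 2) :
    ∃ j g h i : κ, a = j * g ^ 2 ∧ d = j * h ^ 2 ∧ f = j * i ^ 2 := by
  have hmP : m = mP x₀ y₀ := eq_mP x₀ y₀ m hm.ne_top hx hy
  have hqI : dq a d f ∈ I := Ideal.pow_le_self (by norm_num) hq
  have hP : a + d * x₀ ^ 2 + f * y₀ ^ 2 = 0 := by
    rw [← ev_dq]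
    apply ev_eq_zero_of_mem
    rw [← hmP]
    exact hIm hqI
  have hInem : I ≠ m := by
    intro h
    apply hI
    apply small_of_rational I x₀ y₀
    · rw [h]; exact hx
    · rw [h]; exact hy
  rcases dichotomy m I hIm hInem with ⟨m', hm', hIm', hne'⟩ | hnot
  · by_cases hr : Rational m'
    · obtain ⟨x₁, y₁, hx₁, hy₁⟩ := hr
      have hmP' : m' = mP x₁ y₁ := eq_mP x₁ y₁ m' hm'.ne_top hx₁ hy₁
      have hP' : a + d * x₁ ^ 2 + f * y₁ ^ 2 = 0 := by
        rw [← ev_dq]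
        apply ev_eq_zero_of_mem
        rw [← hmP']
        exact hIm' hqI
      apply finish h2 a d f x₀ y₀ (y₁ - y₀) (x₁ - x₀) hP
      · linear_combination hP' + hP - (a + d * x₁ * x₀ + f * y₁ * y₀) * h2
      · rintro ⟨h1, h2'⟩
        apply hne'
        rw [hmP', hmP]
        have e1 : x₁ = x₀ := by linear_combination h2'
        have e2 : y₁ = y₀ := by linear_combination h1
        rw [e1, e2]
    · haveI := hm'
      exact caseA h2 m' hr a d f hne ((Ideal.pow_right_mono hIm' 2) hq)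
  · -- tangent direction
    have hIP : I ≤ mP x₀ y₀ := hmP ▸ hIm
    have hdec : ∀ u ∈ I, u = Trem x₀ y₀ u + C (Dx x₀ y₀ u) * XX x₀ + C (Dy x₀ y₀ u) * YY y₀ := by
      intro u hu
      have h := decomp x₀ y₀ u
      rw [ev_eq_zero_of_mem x₀ y₀ u (hIP hu), C_0, add_zero] at h
      exact h
    have hTm : ∀ u, Trem x₀ y₀ u ∈ I ⊔ m ^ 2 := by
      intro u
      apply Ideal.mem_sup_right
      rw [hmP]
      exact taylor x₀ y₀ u
    have key : ∃ p r : κ, ¬ (p = 0 ∧ r = 0) ∧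
        ∀ u ∈ I, Dx x₀ y₀ u * r - Dy x₀ y₀ u * p = 0 := by
      by_cases hall : ∀ u ∈ I, Dx x₀ y₀ u = 0 ∧ Dy x₀ y₀ u = 0
      · refine ⟨1, 0, by simp, ?_⟩
        intro u hu
        rw [(hall u hu).2]
        ring
      · simp only [not_forall] at hall
        obtain ⟨u₁, hu₁, hnz⟩ := hall
        refine ⟨Dx x₀ y₀ u₁, Dy x₀ y₀ u₁, hnz, ?_⟩
        by_contra hcon
        simp only [not_forall] at hcon
        obtain ⟨u₂, hu₂, hΔ⟩ := hcon
        apply hnot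
        set p₁ := Dx x₀ y₀ u₁
        set r₁ := Dy x₀ y₀ u₁
        set p₂ := Dx x₀ y₀ u₂
        set r₂ := Dy x₀ y₀ u₂
        set Δ := p₂ * r₁ - r₂ * p₁ with hΔdef
        have d1 := hdec u₁ hu₁
        have d2 := hdec u₂ hu₂
        have hCΔ : (C Δ⁻¹ * C Δ : MvPolynomial (Fin 2) κ) = 1 := by
          rw [← C_mul, inv_mul_cancel₀ hΔ, C_1]
        have hXX : XX x₀ ∈ I ⊔ m ^ 2 := by
          have : XX x₀ = C Δ⁻¹ * (C r₁ * u₂ - C r₂ * u₁)
              - C Δ⁻¹ * (C r₁ * Trem x₀ y₀ u₂ - C r₂ * Trem x₀ y₀ u₁) := by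
            have hΔC : (C Δ : MvPolynomial (Fin 2) κ) = C p₂ * C r₁ - C r₂ * C p₁ := by
              rw [hΔdef]; simp only [map_sub, map_mul]
            linear_combination (-(XX x₀)) * hCΔ + (C Δ⁻¹ * XX x₀) * hΔC
              - (C Δ⁻¹ * C r₁) * d2 + (C Δ⁻¹ * C r₂) * d1
          rw [this]
          refine Ideal.sub_mem _ (Ideal.mul_mem_left _ _ (Ideal.mem_sup_left ?_))
            (Ideal.mul_mem_left _ _ (Ideal.sub_mem _ (Ideal.mul_mem_left _ _ (hTm u₂))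
              (Ideal.mul_mem_left _ _ (hTm u₁))))
          exact I.sub_mem (I.mul_mem_left _ hu₂) (I.mul_mem_left _ hu₁)
        have hYY : YY y₀ ∈ I ⊔ m ^ 2 := by
          have : YY y₀ = C Δ⁻¹ * (C p₂ * u₁ - C p₁ * u₂)
              - C Δ⁻¹ * (C p₂ * Trem x₀ y₀ u₁ - C p₁ * Trem x₀ y₀ u₂) := by
            have hΔC : (C Δ : MvPolynomial (Fin 2) κ) = C p₂ * C r₁ - C r₂ * C p₁ := by
              rw [hΔdef]; simp only [map_sub, map_mul]
            linear_combination (-(YY y₀)) * hCΔ + (C Δ⁻¹ * YY y₀) * hΔC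
              - (C Δ⁻¹ * C p₂) * d1 + (C Δ⁻¹ * C p₁) * d2
          rw [this]
          refine Ideal.sub_mem _ (Ideal.mul_mem_left _ _ (Ideal.mem_sup_left ?_))
            (Ideal.mul_mem_left _ _ (Ideal.sub_mem _ (Ideal.mul_mem_left _ _ (hTm u₁))
              (Ideal.mul_mem_left _ _ (hTm u₂))))
          exact I.sub_mem (I.mul_mem_left _ hu₁) (I.mul_mem_left _ hu₂)
        conv_lhs => rw [hmP]
        unfold mP
        rw [Ideal.span_le]
        intro z hz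
        rcases hz with rfl | rfl
        · exact hXX
        · exact hYY
    obtain ⟨p, r, hprne, hpar⟩ := key
    have := tangent h2 x₀ y₀ p r a d f hP I hIP hpar hq
    exact finish h2 a d f x₀ y₀ p r hP this hprne

end Groth.Agent.Lib.Helper8.QSq

namespace Groth.Agent.Lib.Helper8.QSq

open MvPolynomial

universe u
variable {κ : Type u} [Field κ]

theorem main_2 (h2 : (2 : κ) = 0) (I : Ideal (MvPolynomial (Fin 2) κ)) (hI : ¬ Small I)
    (a b c d e f : κ) (hne : ¬ (a = 0 ∧ b = 0 ∧ c = 0 ∧ d = 0 ∧ e = 0 ∧ f = 0))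
    (hmem : quad a b c d e f ∈ I ^ 2) :
    ∃ j g h i : κ, a = j * g ^ 2 ∧ b = 0 ∧ c = 0 ∧ d = j * h ^ 2 ∧ e = 0 ∧ f = j * i ^ 2 := by
  have hItop : I ≠ ⊤ := fun h => hI (small_of_top I h)
  have hx : (C b + C (2 * d) * X 0 + C e * X 1 : MvPolynomial (Fin 2) κ) ∈ I := by
    rw [← pderiv0_quad a b c d e f]
    exact pderiv_mem I 0 _ hmem
  have hy : (C c + C e * X 0 + C (2 * f) * X 1 : MvPolynomial (Fin 2) κ) ∈ I := by
    rw [← pderiv1_quad a b c d e f]
    exact pderiv_mem I 1 _ hmem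
  obtain ⟨m1, m2, m3⟩ := minors I hI _ _ _ _ _ _ hx hy
  have he : e = 0 := by
    have : e * e = 0 := by linear_combination -m3 + (2 * d * f) * h2
    exact mul_self_eq_zero.mp this
  have hb : b = 0 := by
    apply const_mem_proper I hItop
    have : (C b : MvPolynomial (Fin 2) κ) = C b + C (2 * d) * X 0 + C e * X 1 := by
      rw [he, h2, zero_mul, C_0]; ring
    rw [this]; exact hx
  have hc : c = 0 := by
    apply const_mem_proper I hItop
    have : (C c : MvPolynomial (Fin 2) κ) = C c + C e * X 0 + C (2 * f) * X 1 := by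
      rw [he, h2, zero_mul, C_0]; ring
    rw [this]; exact hy
  have hqd : quad a b c d e f = dq a d f := by
    rw [hb, hc, he]
    simp [quad, dq]
  rw [hqd] at hmem
  have hne' : ¬ (a = 0 ∧ d = 0 ∧ f = 0) := by
    rintro ⟨h1, h2', h3⟩
    exact hne ⟨h1, hb, hc, h2', he, h3⟩
  obtain ⟨m, hm, hIm⟩ := Ideal.exists_le_maximal I hItop
  haveI := hm
  by_cases hr : Rational m
  · obtain ⟨x₀, y₀, hx₀, hy₀⟩ := hr
    obtain ⟨j, g, h, i, h1, h2', h3⟩ := rational_case h2 I hI m hIm x₀ y₀ hx₀ hy₀ a d f hne' hmem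
    exact ⟨j, g, h, i, h1, hb, hc, h2', he, h3⟩
  · obtain ⟨j, g, h, i, h1, h2', h3⟩ := caseA h2 m hr a d f hne' ((Ideal.pow_right_mono hIm 2) hmem)
    exact ⟨j, g, h, i, h1, hb, hc, h2', he, h3⟩

theorem main (I : Ideal (MvPolynomial (Fin 2) κ))
    (hI : ¬ (Module.Finite κ (MvPolynomial (Fin 2) κ ⧸ I) ∧
      Module.finrank κ (MvPolynomial (Fin 2) κ ⧸ I) ≤ 1))
    (a b c d e f : κ) (hne : (a, b, c, d, e, f) ≠ (0, 0, 0, 0, 0, 0))
    (hmem : (MvPolynomial.C a + MvPolynomial.C b * MvPolynomial.X 0 +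
      MvPolynomial.C c * MvPolynomial.X 1 +
      MvPolynomial.C d * MvPolynomial.X 0 ^ 2 + MvPolynomial.C e * MvPolynomial.X 0 *
      MvPolynomial.X 1 +
      MvPolynomial.C f * MvPolynomial.X 1 ^ 2 : MvPolynomial (Fin 2) κ) ∈ I ^ 2) :
    ∃ j g h i : κ, (MvPolynomial.C a + MvPolynomial.C b * MvPolynomial.X 0 +
      MvPolynomial.C c * MvPolynomial.X 1 +
      MvPolynomial.C d * MvPolynomial.X 0 ^ 2 + MvPolynomial.C e * MvPolynomial.X 0 *
      MvPolynomial.X 1 +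
      MvPolynomial.C f * MvPolynomial.X 1 ^ 2 : MvPolynomial (Fin 2) κ) =
      MvPolynomial.C j * (MvPolynomial.C g + MvPolynomial.C h * MvPolynomial.X 0 +
        MvPolynomial.C i * MvPolynomial.X 1) ^ 2 := by
  have hI' : ¬ Small I := hI
  have hne' : ¬ (a = 0 ∧ b = 0 ∧ c = 0 ∧ d = 0 ∧ e = 0 ∧ f = 0) := by
    rintro ⟨h1, h2, h3, h4, h5, h6⟩
    apply hne
    rw [h1, h2, h3, h4, h5, h6]
  have hmem' : quad a b c d e f ∈ I ^ 2 := hmem
  by_cases h2 : (2 : κ) = 0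
  · obtain ⟨j, g, h, i, e1, e2, e3, e4, e5, e6⟩ := main_2 h2 I hI' a b c d e f hne' hmem'
    refine ⟨j, g, h, i, ?_⟩
    rw [expand_sq]
    show quad a b c d e f = _
    have z1 : 2 * j * g * h = 0 := by rw [h2]; ring
    have z2 : 2 * j * g * i = 0 := by rw [h2]; ring
    have z3 : 2 * j * h * i = 0 := by rw [h2]; ring
    rw [z1, z2, z3, ← e1, ← e4, ← e6, e2, e3, e5]
  · obtain ⟨j, g, h, i, e1, e2, e3, e4, e5, e6⟩ := main_ne2 I hI' h2 a b c d e f hne' hmem'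
    refine ⟨j, g, h, i, ?_⟩
    rw [expand_sq]
    show quad a b c d e f = _
    rw [← e1, ← e2, ← e3, ← e4, ← e5, ← e6]

end Groth.Agent.Lib.Helper8.QSq
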