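import Mathlib
import Groth.Prelude.Def_W4bk4grassmannianPl
import Groth.Agent.Lib.Helper8.Gr1
set_option backward.isDefEq.respectTransparency.types false
set_option linter.unusedSectionVars false
set_option autoImplicit false
set_option linter.style.haveILetI false
universe u

namespace Groth.Agent.Lib.Helper8.Gr
open W4bk4grassmannian MvPolynomial

section QuadricMinors

variable {K : Type u} [CommRing K] {e n : ℕ}

/-- The inner alternating sum: expansion of a determinant with a repeated column. -/
theorem sum_col_mul_minor_eq_zero {R : Type*} [CommRing R] (A : Matrix (Fin n) (Fin (e + 1)) R)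
    (j' : Fin (e + 2) → Fin n) (c : Fin (e + 1)) :
    ∑ h : Fin (e + 2), (-1 : R) ^ (h : ℕ) * A (j' h) c
      * (A.submatrix (j' ∘ h.succAbove) id).det = 0 := by
  let B : Matrix (Fin (e + 2)) (Fin (e + 2)) R :=
    fun h k => Fin.cases (A (j' h) c) (fun k' => A (j' h) k') k
  have h1 := Matrix.det_succ_column_zero B
  have h2 : B.det = 0 := by
    apply Matrix.det_zero_of_column_eq (i := (0 : Fin (e + 2))) (j := c.succ)
      (Fin.succ_ne_zero c).symm
    intro h
    simp [B]
  rw [h2] at h1
  rw [h1]
  apply Finset.sum_congr rfl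
  intro h _
  congr 1

theorem evalR_quadric {R : Type*} [CommRing R] [Algebra K R] (A : Matrix (Fin n) (Fin (e + 1)) R)
    (i' : Idx e n) (j' : Idx (e + 2) n) :
    evalR (K := K) A (quadric K i' j') = 0 := by
  unfold quadric
  rw [map_sum]
  simp only [map_mul, map_pow, map_neg, map_one, evalR_coord]
  -- expand the first determinant along the last row
  have hexp : ∀ x : Fin n, (A.submatrix (Fin.snoc i'.1 x : Fin (e + 1) → Fin n) id).det
      = ∑ c : Fin (e + 1), (-1 : R) ^ (e + (c : ℕ)) * A x c
          * (A.submatrix i'.1 c.succAbove).det := by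
    intro x
    rw [Matrix.det_succ_row _ (Fin.last e)]
    apply Finset.sum_congr rfl
    intro c _
    congr 1
    · congr 1
      simp [Matrix.submatrix_apply]
    · congr 1
      ext a b
      simp [Matrix.submatrix_apply]
  simp only [hexp]
  have : ∀ h : Fin (e + 2), (-1 : R) ^ ((h : ℕ) + 1)
      * (∑ c : Fin (e + 1), (-1 : R) ^ (e + (c : ℕ)) * A (j'.1 h) c
          * (A.submatrix i'.1 c.succAbove).det)
      * (A.submatrix (j'.1 ∘ h.succAbove) id).det
      = ∑ c : Fin (e + 1), (-((-1 : R) ^ (e + (c : ℕ)) * (A.submatrix i'.1 c.succAbove).det))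
          * ((-1 : R) ^ (h : ℕ) * A (j'.1 h) c * (A.submatrix (j'.1 ∘ h.succAbove) id).det) := by
    intro h
    rw [Finset.mul_sum, Finset.sum_mul]
    apply Finset.sum_congr rfl
    intro c _
    ring
  simp only [this]
  rw [Finset.sum_comm]
  apply Finset.sum_eq_zero
  intro c _
  rw [← Finset.mul_sum, sum_col_mul_minor_eq_zero, mul_zero]

end QuadricMinors

end Groth.Agent.Lib.Helper8.Gr
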