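import Mathlib
import Groth.Prelude.Def_W4bk4grassmannianPl
import Groth.Agent.Lib.Helper8.Gr1
set_option backward.isDefEq.respectTransparency.types false
set_option linter.unusedSectionVars false
set_option autoImplicit false
set_option linter.style.haveILetI false
universe u

namespace Groth.Agent.Lib.Helper8.Gr
open W4bk4grassmannian MvPolynomial

section ImageLemmas

variable {α : Type*} [DecidableEq α]

theorem image_snoc {m : ℕ} (a : Fin m → α) (x : α) :
    Finset.univ.image (Fin.snoc a x : Fin (m + 1) → α) = insert x (Finset.univ.image a) := by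
  ext y
  simp only [Finset.mem_image, Finset.mem_univ, true_and, Finset.mem_insert]
  constructor
  · rintro ⟨t, rfl⟩
    induction t using Fin.lastCases with
    | last => left; simp
    | cast t => right; exact ⟨t, by simp⟩
  · rintro (rfl | ⟨t, rfl⟩)
    · exact ⟨Fin.last m, by simp⟩
    · exact ⟨t.castSucc, by simp⟩

theorem image_comp_succAbove {m : ℕ} (f : Fin (m + 1) → α) (hf : Function.Injective f)
    (t : Fin (m + 1)) :
    Finset.univ.image (f ∘ t.succAbove) = (Finset.univ.image f).erase (f t) := by
  ext y
  simp only [Finset.mem_image, Finset.mem_univ, true_and, Finset.mem_erase, Function.comp_apply]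
  constructor
  · rintro ⟨t', rfl⟩
    exact ⟨fun h => Fin.succAbove_ne t t' (hf h), ⟨_, rfl⟩⟩
  · rintro ⟨hne, ⟨t', rfl⟩⟩
    have : t' ≠ t := fun h => hne (by rw [h])
    obtain ⟨t'', rfl⟩ := Fin.exists_succAbove_eq this
    exact ⟨t'', rfl⟩

theorem image_update {ι : Type*} [Fintype ι] [DecidableEq ι] (f : ι → α)
    (hf : Function.Injective f) (t : ι) (s : α) :
    Finset.univ.image (Function.update f t s) = insert s ((Finset.univ.image f).erase (f t)) := by
  ext y
  simp only [Finset.mem_image, Finset.mem_univ, true_and, Finset.mem_erase, Finset.mem_insert]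
  constructor
  · rintro ⟨t', rfl⟩
    by_cases h : t' = t
    · left; rw [h, Function.update_self]
    · right
      rw [Function.update_of_ne h]
      exact ⟨fun h' => h (hf h'), ⟨_, rfl⟩⟩
  · rintro (rfl | ⟨hne, ⟨t', rfl⟩⟩)
    · exact ⟨t, Function.update_self ..⟩
    · have : t' ≠ t := fun h => hne (by rw [h])
      exact ⟨t', Function.update_of_ne this ..⟩

end ImageLemmas

section Coord

variable {K : Type u} [CommRing K] {d n : ℕ}

theorem sortIdx_eq_of_image (a : Fin d → Fin n) (h : (Finset.univ.image a).card = d)
    (θ : Idx d n) (hθ : Finset.univ.image θ.1 = Finset.univ.image a) : sortIdx d n a h = θ := by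
  apply Subtype.ext
  unfold sortIdx
  simp only
  symm
  apply Finset.orderEmbOfFin_unique h
  · intro x; rw [← hθ]; exact Finset.mem_image_of_mem _ (Finset.mem_univ x)
  · exact θ.2

theorem image_sortIdx (a : Fin d → Fin n) (h : (Finset.univ.image a).card = d) :
    Finset.univ.image (sortIdx d n a h).1 = Finset.univ.image a := by
  unfold sortIdx
  simp only
  exact Finset.image_orderEmbOfFin_univ _ h

theorem idx_eq_of_image_eq (θ θ' : Idx d n)
    (h : Finset.univ.image θ.1 = Finset.univ.image θ'.1) : θ = θ' := by
  have hc : (Finset.univ.image θ'.1).card = d := card_of_injective θ'.2.injective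
  rw [← sortIdx_eq_of_image θ'.1 hc θ h, sortIdx_eq_of_image θ'.1 hc θ' rfl]

/-- `eval p (coord a) = ± p θ` when `θ` is the sorted tuple. -/
theorem eval_coord_of_image (p : Idx d n → K) (a : Fin d → Fin n) (θ : Idx d n)
    (hθ : Finset.univ.image θ.1 = Finset.univ.image a) :
    eval p (coord K d n a) = (-1 : K) ^ invCount d n a * p θ := by
  have h : (Finset.univ.image a).card = d := by
    rw [← hθ]; exact card_of_injective θ.2.injective
  unfold coord
  rw [dif_pos h, sortIdx_eq_of_image a h θ hθ]
  simp

theorem eval_coord_of_card_ne (p : Idx d n → K) (a : Fin d → Fin n)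
    (h : (Finset.univ.image a).card ≠ d) : eval p (coord K d n a) = 0 := by
  unfold coord
  rw [dif_neg h, map_zero]

/-- Agreement of two Plücker vectors on a signed coordinate only depends on the set of rows. -/
theorem agree_congr (p q : Idx d n → K) (a b : Fin d → Fin n)
    (hab : Finset.univ.image a = Finset.univ.image b)
    (h : eval p (coord K d n a) = eval q (coord K d n a)) :
    eval p (coord K d n b) = eval q (coord K d n b) := by
  by_cases hc : (Finset.univ.image b).card = d
  · have h1 := image_sortIdx b hc
    set θ := sortIdx d n b hc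
    rw [eval_coord_of_image p b θ h1, eval_coord_of_image q b θ h1]
    rw [eval_coord_of_image p a θ (h1.trans hab.symm),
      eval_coord_of_image q a θ (h1.trans hab.symm)] at h
    have hu : IsUnit ((-1 : K) ^ invCount d n a) := (isUnit_one.neg).pow _
    rw [hu.mul_right_inj] at h
    rw [h]
  · rw [eval_coord_of_card_ne p b hc, eval_coord_of_card_ne q b hc]

theorem agree_idx_iff (p q : Idx d n → K) (θ : Idx d n) :
    eval p (coord K d n θ.1) = eval q (coord K d n θ.1) ↔ p θ = q θ := by
  rw [coord_of_strictMono, eval_X, eval_X]

end Coord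

end Groth.Agent.Lib.Helper8.Gr
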