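import Mathlib
import Groth.Prelude.Def_W4bk4grassmannianPl
import Groth.Agent.Lib.Helper8.Gr1
import Groth.Agent.Lib.Helper8.Quad2
set_option backward.isDefEq.respectTransparency.types false
set_option linter.unusedSectionVars false
set_option autoImplicit false
set_option linter.style.haveILetI false
universe u

namespace Groth.Agent.Lib.Helper8.Gr
open W4bk4grassmannian MvPolynomial

section Uniq

variable {K : Type u} [Field K] {e n : ℕ}

theorem eval_quadric (p : Idx (e + 1) n → K) (i' : Idx e n) (j' : Idx (e + 2) n) :
    eval p (quadric K i' j') = ∑ h : Fin (e + 2), (-1 : K) ^ (h.val + 1)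
      * eval p (coord K (e + 1) n (Fin.snoc i'.1 (j'.1 h)))
      * eval p (coord K (e + 1) n (j'.1 ∘ h.succAbove)) := by
  unfold quadric
  rw [map_sum]
  simp only [map_mul, map_pow, map_neg, map_one]

theorem eq_of_quadrics (p q : Idx (e + 1) n → K)
    (hp : ∀ (i' : Idx e n) (j' : Idx (e + 2) n), eval p (quadric K i' j') = 0)
    (hq : ∀ (i' : Idx e n) (j' : Idx (e + 2) n), eval q (quadric K i' j') = 0)
    (θ₀ : Idx (e + 1) n) (h0 : q θ₀ ≠ 0)
    (h1 : ∀ (t : Fin (e + 1)) (s : Fin n),
      eval p (coord K (e + 1) n (Function.update θ₀.1 t s))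
        = eval q (coord K (e + 1) n (Function.update θ₀.1 t s))) :
    ∀ θ, p θ = q θ := by
  have hθ₀ : p θ₀ = q θ₀ := by
    have := h1 0 (θ₀.1 0)
    rwa [Function.update_eq_self, agree_idx_iff] at this
  have hc0 : (Finset.univ.image θ₀.1).card = e + 1 := card_of_injective θ₀.2.injective
  have key : ∀ k : ℕ, ∀ θ : Idx (e + 1) n,
      (Finset.univ.image θ.1 \ Finset.univ.image θ₀.1).card ≤ k → p θ = q θ := by
    intro k
    induction k with
    | zero =>
      intro θ hθ
      have hsub : Finset.univ.image θ.1 ⊆ Finset.univ.image θ₀.1 := by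
        rw [← Finset.sdiff_eq_empty_iff_subset, ← Finset.card_eq_zero]
        omega
      have hc : (Finset.univ.image θ.1).card = e + 1 := card_of_injective θ.2.injective
      have heq : Finset.univ.image θ.1 = Finset.univ.image θ₀.1 :=
        Finset.eq_of_subset_of_card_le hsub (by rw [hc, hc0])
      rw [idx_eq_of_image_eq θ θ₀ heq]
      exact hθ₀
    | succ k ih =>
      intro θ hθ
      by_cases hk : (Finset.univ.image θ.1 \ Finset.univ.image θ₀.1).card ≤ k
      · exact ih θ hk
      have hk' : (Finset.univ.image θ.1 \ Finset.univ.image θ₀.1).card = k + 1 := by omega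
      have hne : (Finset.univ.image θ.1 \ Finset.univ.image θ₀.1).Nonempty := by
        rw [← Finset.card_pos]; omega
      obtain ⟨s, hs⟩ := hne
      rw [Finset.mem_sdiff] at hs
      obtain ⟨hs1, hs2⟩ := hs
      obtain ⟨t₁, -, ht₁⟩ := Finset.mem_image.mp hs1
      -- the indices
      let i' : Idx e n := ⟨θ.1 ∘ t₁.succAbove, θ.2.comp (Fin.strictMono_succAbove t₁)⟩
      have hS : (insert s (Finset.univ.image θ₀.1)).card = e + 2 := by
        rw [Finset.card_insert_of_notMem hs2, hc0]
      let j' : Idx (e + 2) n := ⟨fun h => (insert s (Finset.univ.image θ₀.1)).orderEmbOfFin hS h,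
        ((insert s (Finset.univ.image θ₀.1)).orderEmbOfFin hS).strictMono⟩
      have hj'img : Finset.univ.image j'.1 = insert s (Finset.univ.image θ₀.1) :=
        Finset.image_orderEmbOfFin_univ _ hS
      have hi'img : Finset.univ.image i'.1 = (Finset.univ.image θ.1).erase s := by
        rw [← ht₁]
        exact image_comp_succAbove θ.1 θ.2.injective t₁
      have hsj : s ∈ Finset.univ.image j'.1 := by rw [hj'img]; exact Finset.mem_insert_self _ _
      obtain ⟨h₀, -, hh₀⟩ := Finset.mem_image.mp hsj
      -- the two quadric sums
      have hP := hp i' j'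
      have hQ := hq i' j'
      rw [eval_quadric] at hP hQ
      rw [← Finset.add_sum_erase _ _ (Finset.mem_univ h₀)] at hP hQ
      -- all other terms agree
      have hrest : ∀ h ∈ Finset.univ.erase h₀,
          (-1 : K) ^ (h.val + 1) * eval p (coord K (e + 1) n (Fin.snoc i'.1 (j'.1 h)))
            * eval p (coord K (e + 1) n (j'.1 ∘ h.succAbove))
          = (-1 : K) ^ (h.val + 1) * eval q (coord K (e + 1) n (Fin.snoc i'.1 (j'.1 h)))
            * eval q (coord K (e + 1) n (j'.1 ∘ h.succAbove)) := by
        intro h hh
        have hhne : h ≠ h₀ := (Finset.mem_erase.mp hh).1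
        have hjh : j'.1 h ∈ Finset.univ.image θ₀.1 := by
          have : j'.1 h ∈ Finset.univ.image j'.1 := Finset.mem_image_of_mem _ (Finset.mem_univ h)
          rw [hj'img, Finset.mem_insert] at this
          rcases this with h' | h'
          · exact absurd (j'.2.injective (h'.trans hh₀.symm)) hhne
          · exact h'
        obtain ⟨t, -, ht⟩ := Finset.mem_image.mp hjh
        -- second factor
        have h2 : eval p (coord K (e + 1) n (j'.1 ∘ h.succAbove))
            = eval q (coord K (e + 1) n (j'.1 ∘ h.succAbove)) := by
          apply agree_congr p q (Function.update θ₀.1 t s) _ _ (h1 t s)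
          rw [image_update θ₀.1 θ₀.2.injective, image_comp_succAbove j'.1 j'.2.injective, hj'img,
            ← ht]
          rw [Finset.erase_insert_of_ne]
          intro hcon
          exact hs2 (by rw [hcon]; exact Finset.mem_image_of_mem _ (Finset.mem_univ t))
        -- first factor
        have h3 : eval p (coord K (e + 1) n (Fin.snoc i'.1 (j'.1 h)))
            = eval q (coord K (e + 1) n (Fin.snoc i'.1 (j'.1 h))) := by
          by_cases hc : (Finset.univ.image (Fin.snoc i'.1 (j'.1 h) : Fin (e + 1) → Fin n)).card
              = e + 1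
          · have himg := image_sortIdx _ hc
            set θ' := sortIdx (e + 1) n _ hc
            apply agree_congr p q θ'.1 _ himg
            rw [agree_idx_iff]
            apply ih
            rw [himg, image_snoc, hi'img]
            have hsub : insert (j'.1 h) ((Finset.univ.image θ.1).erase s)
                \ Finset.univ.image θ₀.1
                ⊆ (Finset.univ.image θ.1 \ Finset.univ.image θ₀.1).erase s := by
              intro y hy
              rw [Finset.mem_sdiff, Finset.mem_insert] at hy
              rw [Finset.mem_erase, Finset.mem_sdiff]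
              obtain ⟨hy1, hy2⟩ := hy
              rcases hy1 with rfl | hy1
              · exact absurd hjh hy2
              · rw [Finset.mem_erase] at hy1
                exact ⟨hy1.1, hy1.2, hy2⟩
            have := Finset.card_le_card hsub
            rw [Finset.card_erase_of_mem (Finset.mem_sdiff.mpr ⟨hs1, hs2⟩), hk'] at this
            simpa using this
          · rw [eval_coord_of_card_ne p _ hc, eval_coord_of_card_ne q _ hc]
        rw [h2, h3]
      rw [Finset.sum_congr rfl hrest, ← hQ] at hP
      have hP' := add_right_cancel hP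
      -- the main term
      have ha : Finset.univ.image θ.1
          = Finset.univ.image (Fin.snoc i'.1 (j'.1 h₀) : Fin (e + 1) → Fin n) := by
        rw [image_snoc, hi'img, hh₀, Finset.insert_erase hs1]
      have hb : Finset.univ.image θ₀.1 = Finset.univ.image (j'.1 ∘ h₀.succAbove) := by
        rw [image_comp_succAbove j'.1 j'.2.injective, hj'img, hh₀, Finset.erase_insert hs2]
      rw [eval_coord_of_image p _ θ ha, eval_coord_of_image q _ θ ha,
        eval_coord_of_image p _ θ₀ hb, eval_coord_of_image q _ θ₀ hb, hθ₀] at hP'
      have hu1 : ((-1 : K) ^ (h₀.val + 1)) ≠ 0 := pow_ne_zero _ (by simp)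
      have hu2 : ((-1 : K) ^ invCount (e + 1) n (Fin.snoc i'.1 (j'.1 h₀) : Fin (e + 1) → Fin n))
          ≠ 0 := pow_ne_zero _ (by simp)
      have hu3 : ((-1 : K) ^ invCount (e + 1) n (j'.1 ∘ h₀.succAbove)) ≠ 0 :=
        pow_ne_zero _ (by simp)
      have h4 := mul_right_cancel₀ (mul_ne_zero hu3 h0) hP'
      have h5 := mul_left_cancel₀ hu1 h4
      exact mul_left_cancel₀ hu2 h5
  intro θ
  exact key _ θ le_rfl

end Uniq

end Groth.Agent.Lib.Helper8.Gr
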