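import Mathlib
import Groth.Prelude.Def_W4bk4grassmannianPl
import Groth.Agent.Lib.Helper8.Gr1
import Groth.Agent.Lib.Helper8.Det1
import Groth.Agent.Lib.Helper8.Quad1
import Groth.Agent.Lib.Helper8.Quad2
import Groth.Agent.Lib.Helper8.Quad3
set_option backward.isDefEq.respectTransparency.types false
set_option linter.unusedSectionVars false
set_option autoImplicit false
set_option linter.style.haveILetI false
universe u

namespace Groth.Agent.Lib.Helper8.Gr
open W4bk4grassmannian MvPolynomial

section Constr

variable {K : Type u} [Field K] {e n : ℕ}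

theorem eval_eq_evalR (A : Matrix (Fin n) (Fin (e + 1)) K) (f : PlRing K (e + 1) n) :
    eval (fun θ : Idx (e + 1) n => (A.submatrix θ.1 id).det) f = evalR (K := K) A f := by
  unfold evalR
  rw [← MvPolynomial.aeval_eq_eval]

theorem quadrics_iff_exists_matrix (q : Idx (e + 1) n → K) (hq : q ≠ 0) :
    (∀ (i' : Idx e n) (j' : Idx (e + 2) n), eval q (quadric K i' j') = 0) ↔
      ∃ A : Matrix (Fin n) (Fin (e + 1)) K, ∀ θ : Idx (e + 1) n,
        q θ = (A.submatrix θ.1 id).det := by
  constructor
  · intro hquad
    have : ∃ θ₀, q θ₀ ≠ 0 := by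
      by_contra hcon
      push Not at hcon
      exact hq (funext hcon)
    obtain ⟨θ₀, h0⟩ := this
    set c := q θ₀ with hc
    -- the matrix
    let A₀ : Matrix (Fin n) (Fin (e + 1)) K := fun s t =>
      eval q (coord K (e + 1) n (Function.update θ₀.1 t s)) / c
    let v : Fin (e + 1) → K := fun t => if t = 0 then c else 1
    let A : Matrix (Fin n) (Fin (e + 1)) K := Matrix.of fun s t => v t * A₀ s t
    have hv : ∏ t, v t = c := by
      simp only [v]
      rw [Finset.prod_ite_eq' Finset.univ (0 : Fin (e + 1)) (fun _ => c)]
      simp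
    have hdetA : ∀ a : Fin (e + 1) → Fin n,
        (A.submatrix a id).det = c * (A₀.submatrix a id).det := by
      intro a
      have : A.submatrix a id = Matrix.of fun s t => v t * (A₀.submatrix a id) s t := by
        ext s t
        simp [A, Matrix.submatrix_apply]
      rw [this, Matrix.det_mul_row, hv]
    have hA₀θ₀ : ∀ t' t : Fin (e + 1), A₀ (θ₀.1 t') t = if t' = t then 1 else 0 := by
      intro t' t
      simp only [A₀]
      by_cases h : t' = t
      · rw [if_pos h, h, Function.update_eq_self, coord_of_strictMono, eval_X, ← hc,
          div_self h0]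
      · rw [if_neg h]
        have : (Finset.univ.image (Function.update θ₀.1 t (θ₀.1 t'))).card ≠ e + 1 := by
          intro hcard
          have hinj := injective_of_card hcard
          have : Function.update θ₀.1 t (θ₀.1 t') t = Function.update θ₀.1 t (θ₀.1 t') t' := by
            rw [Function.update_self, Function.update_of_ne h]
          exact h (hinj this).symm
        rw [eval_coord_of_card_ne q _ this, zero_div]
    refine ⟨A, ?_⟩
    intro θ
    symm
    apply eq_of_quadrics (fun θ : Idx (e + 1) n => (A.submatrix θ.1 id).det) q _ hquad θ₀ h0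
    · intro t s
      rw [eval_eq_evalR, evalR_coord, hdetA]
      have hM : A₀.submatrix (Function.update θ₀.1 t s) id
          = (1 : Matrix (Fin (e + 1)) (Fin (e + 1)) K).updateRow t (fun t' => A₀ s t') := by
        ext t' t''
        rw [Matrix.submatrix_apply, Matrix.updateRow_apply]
        by_cases h : t' = t
        · rw [if_pos h, h, Function.update_self]; rfl
        · rw [if_neg h, Function.update_of_ne h, hA₀θ₀, Matrix.one_apply]; rfl
      rw [hM, det_one_updateRow]
      simp only [A₀]
      rw [mul_div_cancel₀ _ h0]
    · intro i' j'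
      rw [eval_eq_evalR, evalR_quadric]
  · rintro ⟨A, hA⟩ i' j'
    have : q = fun θ : Idx (e + 1) n => (A.submatrix θ.1 id).det := funext hA
    rw [this, eval_eq_evalR, evalR_quadric]

end Constr

end Groth.Agent.Lib.Helper8.Gr
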