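import Mathlib
import Groth.Prelude.Def_QuadGrp
import Groth.Agent.Lib.Helper8.QuadCtr1
set_option backward.isDefEq.respectTransparency.types false
set_option autoImplicit false

/-!
# The functorial centre of the orthogonal group is `μ₂` (helper8)
-/

namespace Groth.Agent.Lib.Helper8.QuadCtr

open TensorProduct Matrix QuadraticMap

universe u v w

section HalfDisc

variable (n : ℕ)

/-- The ideal generated by the off-diagonal variables. -/
noncomputable def Joff : Ideal (MvPolynomial (Sym2 (Fin n)) ℤ) :=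
  Ideal.span (MvPolynomial.X '' {s : Sym2 (Fin n) | ¬ s.IsDiag})

/-- The ideal generated by the entries of the universal polar matrix. -/
noncomputable def Ju : Ideal (MvPolynomial (Sym2 (Fin n)) ℤ) :=
  Ideal.span (Set.range fun p : Fin n × Fin n => QuadGrp.univPolarMat n p.1 p.2)

lemma Joff_le_Ju : Joff n ≤ Ju n := by
  rw [Joff, Ideal.span_le]
  rintro _ ⟨s, hs, rfl⟩
  induction s using Sym2.ind with
  | _ i j =>
    have hij : i ≠ j := by
      intro h; apply hs; subst h; exact Sym2.mk_isDiag_iff.mpr rfl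
    apply Ideal.subset_span
    refine ⟨(i, j), ?_⟩
    simp [QuadGrp.univPolarMat, hij]

/-- the diagonal monomial -/
noncomputable def Pdiag : MvPolynomial (Sym2 (Fin n)) ℤ := ∏ i : Fin n, MvPolynomial.X (Sym2.mk i i)

lemma prod_diag_eq : ∏ i : Fin n, QuadGrp.univPolarMat n i i = MvPolynomial.C ((2 : ℤ) ^ n) * Pdiag n := by
  simp only [QuadGrp.univPolarMat, Matrix.of_apply, if_true]
  rw [Finset.prod_mul_distrib, Finset.prod_const, Finset.card_univ, Fintype.card_fin, Pdiag]
  simp

lemma discUniv_sub_mem_Joff :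
    QuadGrp.discUniv n - ∏ i : Fin n, QuadGrp.univPolarMat n i i ∈ Joff n := by
  classical
  rw [QuadGrp.discUniv, Matrix.det_apply]
  rw [← Finset.add_sum_erase _ _ (Finset.mem_univ (1 : Equiv.Perm (Fin n)))]
  simp only [Equiv.Perm.sign_one, one_smul, Equiv.Perm.coe_one, id_eq, add_sub_cancel_left]
  apply Ideal.sum_mem
  intro σ hσ
  have hσ1 : σ ≠ 1 := (Finset.mem_erase.mp hσ).1
  obtain ⟨i, hi⟩ : ∃ i, σ i ≠ i := by
    by_contra hne
    push Not at hne
    exact hσ1 (Equiv.ext hne)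
  have hmem : QuadGrp.univPolarMat n (σ i) i ∈ Joff n := by
    apply Ideal.subset_span
    refine ⟨Sym2.mk (σ i) i, ?_, ?_⟩
    · simpa using hi
    · simp [QuadGrp.univPolarMat, hi]
  have hprod : ∏ k, QuadGrp.univPolarMat n (σ k) k ∈ Joff n :=
    Ideal.mem_of_dvd _ (Finset.dvd_prod_of_mem _ (Finset.mem_univ i)) hmem
  rcases Int.units_eq_one_or (Equiv.Perm.sign σ) with h | h
  · rw [h, one_smul]; exact hprod
  · rw [h]; simpa using (Joff n).neg_mem hprod

lemma halfDiscUniv_sub_mem_Joff (hn : 1 ≤ n) :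
    QuadGrp.halfDiscUniv n - MvPolynomial.C ((2 : ℤ) ^ (n - 1)) * Pdiag n ∈ Joff n := by
  rw [Joff, MvPolynomial.mem_ideal_span_X_image]
  intro m hm
  by_contra hne
  push Not at hne
  apply MvPolynomial.mem_support_iff.mp hm
  have hT : MvPolynomial.coeff m
      (QuadGrp.discUniv n - ∏ i : Fin n, QuadGrp.univPolarMat n i i) = 0 := by
    by_contra h
    obtain ⟨s, hs, hms⟩ := (MvPolynomial.mem_ideal_span_X_image.mp (discUniv_sub_mem_Joff n)) m
      (MvPolynomial.mem_support_iff.mpr h)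
    exact hms (hne s hs)
  rw [MvPolynomial.coeff_sub, QuadGrp.coeff_halfDiscUniv, MvPolynomial.coeff_C_mul]
  rw [MvPolynomial.coeff_sub, prod_diag_eq, MvPolynomial.coeff_C_mul, sub_eq_zero] at hT
  rw [hT]
  obtain ⟨k, rfl⟩ : ∃ k, n = k + 1 := ⟨n - 1, by omega⟩
  rw [Nat.add_sub_cancel, pow_succ, mul_assoc, mul_comm (2 : ℤ), ← mul_assoc,
    Int.mul_ediv_cancel _ (by norm_num : (2 : ℤ) ≠ 0), sub_self]

lemma halfDiscUniv_mem_Ju (hn : 2 ≤ n) : QuadGrp.halfDiscUniv n ∈ Ju n := by
  classical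
  have h1 := Joff_le_Ju n (halfDiscUniv_sub_mem_Joff n (by omega))
  have h2 : MvPolynomial.C ((2 : ℤ) ^ (n - 1)) * Pdiag n ∈ Ju n := by
    have i0 : Fin n := ⟨0, by omega⟩
    have hU : QuadGrp.univPolarMat n i0 i0 ∈ Ju n := Ideal.subset_span ⟨(i0, i0), rfl⟩
    have hU' : QuadGrp.univPolarMat n i0 i0 = 2 * MvPolynomial.X (Sym2.mk i0 i0) := by
      simp [QuadGrp.univPolarMat]
    rw [Pdiag, ← Finset.mul_prod_erase _ _ (Finset.mem_univ i0)]
    obtain ⟨k, hk⟩ : ∃ k, n - 1 = k + 1 := ⟨n - 2, by omega⟩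
    rw [hk, pow_succ, map_mul]
    have : MvPolynomial.C ((2 : ℤ) ^ k) * MvPolynomial.C (2 : ℤ) *
        (MvPolynomial.X (Sym2.mk i0 i0) * ∏ x ∈ Finset.univ.erase i0, MvPolynomial.X (Sym2.mk x x)) =
        (MvPolynomial.C ((2 : ℤ) ^ k) * ∏ x ∈ Finset.univ.erase i0, MvPolynomial.X (Sym2.mk x x)) *
          QuadGrp.univPolarMat n i0 i0 := by
      rw [hU']
      simp only [map_ofNat]
      ring
    rw [this]
    exact Ideal.mul_mem_left _ _ hU
  have := (Ju n).add_mem h1 h2
  simpa using this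

end HalfDisc

section Nondeg

variable {R : Type u} [CommRing R] {n : ℕ} (Q : QuadraticForm R (Fin n → R))

/-- The ideal generated by the entries of the polar matrix. -/
def polarIdeal : Ideal R := Ideal.span (Set.range fun p : Fin n × Fin n => smat Q p.1 p.2)

lemma eval_univPolarMat (i j : Fin n) :
    MvPolynomial.eval₂Hom (Int.castRingHom R)
      (QuadGrp.coeffs (Pi.basisFun R (Fin n)) (LinearEquiv.refl R R) Q)
      (QuadGrp.univPolarMat n i j) = smat Q i j := by
  rw [smat_apply]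
  by_cases hij : i = j
  · subst hij
    simp [QuadGrp.univPolarMat, QuadGrp.coeffs_mk, QuadraticMap.polar_self, two_mul]
  · simp [QuadGrp.univPolarMat, QuadGrp.coeffs_mk, hij]

lemma halfDisc_mem_polarIdeal (hn : 2 ≤ n) :
    QuadGrp.halfDisc (Pi.basisFun R (Fin n)) (LinearEquiv.refl R R) Q ∈ polarIdeal Q := by
  have h1 := Ideal.mem_map_of_mem (MvPolynomial.eval₂Hom (Int.castRingHom R)
      (QuadGrp.coeffs (Pi.basisFun R (Fin n)) (LinearEquiv.refl R R) Q)) (halfDiscUniv_mem_Ju n hn)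
  have h2 : (Ju n).map (MvPolynomial.eval₂Hom (Int.castRingHom R)
      (QuadGrp.coeffs (Pi.basisFun R (Fin n)) (LinearEquiv.refl R R) Q)) ≤ polarIdeal Q := by
    rw [Ju, Ideal.map_span, Ideal.span_le]
    rintro _ ⟨_, ⟨p, rfl⟩, rfl⟩
    rw [eval_univPolarMat]
    exact Ideal.subset_span ⟨p, rfl⟩
  exact h2 h1

lemma polarIdeal_eq_top_of_isRegular (hn : 1 ≤ n) (h : QuadGrp.IsRegular Q) : polarIdeal Q = ⊤ := by
  obtain ⟨v, hv⟩ := h.2 (LinearMap.proj (⟨0, hn⟩ : Fin n))
  rw [Ideal.eq_top_iff_one]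
  have h1 : (1 : R) = QuadraticMap.polar Q v (Pi.single ⟨0, hn⟩ 1) := by
    have := congrArg (fun f => f (Pi.single (⟨0, hn⟩ : Fin n) (1 : R))) hv
    simpa using this.symm
  rw [h1, ← smat_spec]
  simp only [dotProduct, mulVec]
  exact Ideal.sum_mem _ fun i _ => Ideal.mul_mem_left _ _
    (Ideal.sum_mem _ fun j _ => Ideal.mul_mem_right _ _ (Ideal.subset_span ⟨(i, j), rfl⟩))

theorem polarIdeal_eq_top_of_isNondeg (hn : 2 ≤ n)
    (hQ : QuadGrp.IsNondeg (Pi.basisFun R (Fin n)) (LinearEquiv.refl R R) Q) : polarIdeal Q = ⊤ := by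
  rcases Nat.even_or_odd n with he | ho
  · exact polarIdeal_eq_top_of_isRegular Q (by omega) (hQ.1 he)
  · have hu : IsUnit (QuadGrp.halfDisc (Pi.basisFun R (Fin n)) (LinearEquiv.refl R R) Q) := hQ.2 ho
    exact Ideal.eq_top_of_isUnit_mem _ (halfDisc_mem_polarIdeal Q hn) hu

end Nondeg

section Main

variable {R : Type u} [CommRing R] {n : ℕ} (Q : QuadraticForm R (Fin n → R))
  (g : (Fin n → R) ≃ₗ[R] (Fin n → R))


lemma exists_isUnit_smat (h : polarIdeal Q = ⊤) (A : Type v) [CommRing A] [Algebra R A]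
    [IsLocalRing A] : ∃ i j, IsUnit (algebraMap R A (smat Q i j)) := by
  by_contra hne
  push Not at hne
  have h1 : (polarIdeal Q).map (algebraMap R A) ≤ IsLocalRing.maximalIdeal A := by
    rw [polarIdeal, Ideal.map_span, Ideal.span_le]
    rintro _ ⟨_, ⟨p, rfl⟩, rfl⟩
    exact hne p.1 p.2
  rw [h, Ideal.map_top] at h1
  exact (IsLocalRing.maximalIdeal.isMaximal A).ne_top (top_le_iff.mp h1)

lemma exists_isUnit_Q (h : polarIdeal Q = ⊤) (A : Type v) [CommRing A] [Algebra R A]
    [IsLocalRing A] : ∃ x : Fin n → R, IsUnit (algebraMap R A (Q x)) := by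
  obtain ⟨i, j, hij⟩ := exists_isUnit_smat Q h A
  by_contra hne
  push Not at hne
  have hm : ∀ x : Fin n → R, algebraMap R A (Q x) ∈ IsLocalRing.maximalIdeal A := hne
  have : algebraMap R A (smat Q i j) ∈ IsLocalRing.maximalIdeal A := by
    rw [smat_apply, QuadraticMap.polar, map_sub, map_sub]
    exact Ideal.sub_mem _ (Ideal.sub_mem _ (hm _) (hm _)) (hm _)
  exact this hij

/-- The scalar conclusion from the wedge identity over `R`. -/
lemma exists_scalar_of_H3 (hn : 2 ≤ n) (h : ∀ (z : Fin n → R) (a b : Fin n), g z a * z b = g z b * z a) :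
    ∃ c : R, ∀ v, g v = c • v := by
  classical
  have hoff : ∀ i a : Fin n, a ≠ i → g (Pi.single i 1) a = 0 := by
    intro i a hai
    have := h (Pi.single i 1) a i
    simpa [Pi.single_apply, hai] using this
  have hdiag : ∀ i l : Fin n, g (Pi.single i 1) i = g (Pi.single l 1) l := by
    intro i l
    by_cases hil : i = l
    · subst hil; rfl
    · have := h (Pi.single i 1 + Pi.single l 1) i l
      simp only [map_add, Pi.add_apply, Pi.single_apply, if_true, if_neg hil,
        if_neg (Ne.symm hil)] at this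
      rw [hoff l i hil, hoff i l (Ne.symm hil)] at this
      simpa using this
  refine ⟨g (Pi.single ⟨0, by omega⟩ 1) ⟨0, by omega⟩, ?_⟩
  have key : g.toLinearMap = (g (Pi.single ⟨0, by omega⟩ 1) ⟨0, by omega⟩) • LinearMap.id := by
    apply LinearMap.pi_ext'
    intro i
    ext a
    simp only [LinearMap.coe_comp, LinearEquiv.coe_coe, LinearMap.coe_single, Function.comp_apply,
      LinearMap.smul_apply, LinearMap.id_coe, id_eq, Pi.smul_apply, smul_eq_mul]
    by_cases hai : a = i
    · subst hai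
      rw [hdiag a ⟨0, by omega⟩]; simp
    · rw [hoff i a hai]; simp [hai]
  intro v
  have := congrArg (fun f => f v) key
  simpa using this

/-- The hypothesis of the centre statements. -/
def Comm (A : Type u) [CommRing A] [Algebra R A] : Prop :=
  ∀ h ∈ QuadGrp.orth Q A,
    g.baseChange R A (Fin n → R) (Fin n → R) * h = h * g.baseChange R A (Fin n → R) (Fin n → R)

lemma H1_of_comm (A : Type u) [CommRing A] [Algebra R A] (h : Comm Q g A) : H1 A Q g :=
  fun ξ v hξ => comm_coord Q A g h ξ v hξ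

lemma H3_local (hS : polarIdeal Q = ⊤) (A : Type u) [CommRing A] [Algebra R A] [IsLocalRing A]
    (hcomm : Comm Q g (PowerSeries (PowerSeries A))) : H3 A g := by
  obtain ⟨i, j, hij⟩ := exists_isUnit_smat Q hS A
  obtain ⟨x, hx⟩ := exists_isUnit_Q Q hS A
  have h1 : H1 (PowerSeries (PowerSeries A)) Q g := H1_of_comm Q g _ hcomm
  have hx' : IsUnit (qc Q (PowerSeries A) (PowerSeries.C ∘ (algebraMap R A ∘ x))) := by
    have := qc_map Q (Cₐ (R := R) A) (algebraMap R A ∘ x)
    rw [Cₐ_apply, qc_algebraMap] at this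
    change qc Q (PowerSeries A) (PowerSeries.C ∘ (algebraMap R A ∘ x)) = _ at this
    rw [this]
    exact hx.map _
  have h2 : H2 (PowerSeries A) Q g := H2_of_H1 (PowerSeries A) Q g h1 _ hx'
  exact H3_of_H2 A Q g h2 i j hij

theorem exists_scalar_of_comm (hn : 2 ≤ n) (hS : polarIdeal Q = ⊤)
    (hcomm : ∀ (A : Type u) [CommRing A] [Algebra R A], Comm Q g A) :
    ∃ c : R, ∀ v, g v = c • v := by
  apply exists_scalar_of_H3 g hn
  intro z a b
  rw [← sub_eq_zero]
  apply eq_zero_of_localization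
  intro J hJ
  have h3 := H3_local Q g hS (Localization.AtPrime J) (hcomm _)
  have := h3 (algebraMap R _ ∘ z) a b
  rw [gc_algebraMap] at this
  simp only [Function.comp_apply, ← map_mul] at this
  rw [map_sub, this, sub_self]

lemma sq_eq_one_of_scalar (hS : polarIdeal Q = ⊤) (hg : g ∈ QuadGrp.O Q) (c : R)
    (hc : ∀ v, g v = c • v) : c * c = 1 := by
  have h1 : ∀ v, (c * c - 1) * Q v = 0 := by
    intro v
    have := hg v
    rw [hc, QuadraticMap.map_smul] at this
    simp only [smul_eq_mul] at this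
    linear_combination this
  have h2 : ∀ p : Fin n × Fin n, (c * c - 1) * smat Q p.1 p.2 = 0 := by
    intro p
    rw [smat_apply, QuadraticMap.polar]
    simp only [mul_sub, h1, sub_zero]
  have h3 : ∀ r ∈ polarIdeal Q, (c * c - 1) * r = 0 := by
    intro r hr
    refine Submodule.span_induction ?_ ?_ ?_ ?_ hr
    · rintro _ ⟨p, rfl⟩
      exact h2 p
    · simp
    · intro x y _ _ hx hy
      rw [mul_add, hx, hy, add_zero]
    · intro a x _ hx
      rw [smul_eq_mul, mul_left_comm, hx, mul_zero]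
  have := h3 1 (hS ▸ Submodule.mem_top)
  linear_combination this

lemma comm_of_scalar (c : R) (hc : ∀ v, g v = c • v) (A : Type v) [CommRing A] [Algebra R A]
    (h : (A ⊗[R] (Fin n → R)) ≃ₗ[A] (A ⊗[R] (Fin n → R))) :
    g.baseChange R A (Fin n → R) (Fin n → R) * h = h * g.baseChange R A (Fin n → R) (Fin n → R) := by
  have key : ∀ z, g.baseChange R A (Fin n → R) (Fin n → R) z = c • z := by
    intro z
    induction z using TensorProduct.induction_on with
    | zero => simp
    | add x y hx hy => rw [map_add, hx, hy, smul_add]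
    | tmul a m => rw [LinearEquiv.baseChange_tmul, hc, TensorProduct.tmul_smul]
  ext z
  simp only [LinearEquiv.mul_apply, key]
  exact (h.toLinearMap.map_smul_of_tower c z).symm

end Main

end Groth.Agent.Lib.Helper8.QuadCtr
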