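import Mathlib
import Groth.Prelude.Def_QuadGrp
import Groth.Agent.Lib.Helper8.QuadCtr2
set_option backward.isDefEq.respectTransparency.types false
set_option autoImplicit false

/-!
# Infinitesimal rotations, determinants of reflections, and the centre of `SO'`/`SO` (helper8)
-/

namespace Groth.Agent.Lib.Helper8.QuadCtr

open TensorProduct Matrix QuadraticMap

universe u v w

section Rot

variable {A : Type u} {V : Type v} [CommRing A] [AddCommGroup V] [Module A V] (q : QuadraticForm A V)

/-- The infinitesimal rotation `L_{x,y} v = B(x,v) y - B(y,v) x`. -/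
noncomputable def rotLin (x y : V) : V →ₗ[A] V :=
  (QuadraticMap.polarBilin q x).smulRight y - (QuadraticMap.polarBilin q y).smulRight x

lemma rotLin_apply (x y v : V) :
    rotLin q x y v = QuadraticMap.polar q x v • y - QuadraticMap.polar q y v • x := by
  simp [rotLin]

lemma polar_rotLin_self (x y v : V) : QuadraticMap.polar q v (rotLin q x y v) = 0 := by
  rw [rotLin_apply, QuadraticMap.polar_sub_right, QuadraticMap.polar_smul_right,
    QuadraticMap.polar_smul_right, QuadraticMap.polar_comm q v y, QuadraticMap.polar_comm q v x]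
  simp only [smul_eq_mul]
  ring

/-- `1 + e L_{x,y}`. -/
noncomputable def infRotLin (x y : V) (e : A) : V →ₗ[A] V := LinearMap.id + e • rotLin q x y

lemma infRotLin_apply (x y : V) (e : A) (v : V) :
    infRotLin q x y e v = v + e • rotLin q x y v := by
  simp [infRotLin]

lemma infRotLin_comp (x y : V) (e : A) (he : e * e = 0) :
    infRotLin q x y e ∘ₗ infRotLin q x y (-e) = LinearMap.id := by
  ext v
  simp only [LinearMap.comp_apply, infRotLin_apply, LinearMap.id_apply, map_add, map_smul]
  rw [smul_add, smul_smul, neg_mul, he, neg_zero, zero_smul, add_zero, neg_smul]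
  abel

/-- `1 + e L_{x,y}` as a linear equivalence (for `e² = 0`). -/
noncomputable def infRot (x y : V) (e : A) (he : e * e = 0) : V ≃ₗ[A] V :=
  LinearEquiv.ofLinearMap (infRotLin q x y e) (infRotLin q x y (-e)) (infRotLin_comp q x y e he)
    (by
      have := infRotLin_comp q x y (-e) (by rw [neg_mul_neg, he])
      rwa [neg_neg] at this)

lemma infRot_apply (x y : V) (e : A) (he : e * e = 0) (v : V) :
    infRot q x y e he v = v + e • rotLin q x y v := by
  simp [infRot, infRotLin_apply]

lemma q_infRot (x y : V) (e : A) (he : e * e = 0) (v : V) : q (infRot q x y e he v) = q v := by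
  rw [infRot_apply, QuadraticMap.map_add (⇑q), QuadraticMap.map_smul, QuadraticMap.polar_smul_right,
    polar_rotLin_self, he]
  simp

lemma infRotLin_eq_comp (x y : V) (e : A) (he : e * e = 0) :
    infRotLin q x y e =
      LinearMap.transvection (e • QuadraticMap.polarBilin q x) y ∘ₗ
        LinearMap.transvection (-(e • QuadraticMap.polarBilin q y)) x := by
  ext v
  rw [LinearMap.comp_apply, LinearMap.transvection.apply, LinearMap.transvection.apply,
    infRotLin_apply, rotLin_apply]
  simp only [LinearMap.neg_apply, LinearMap.smul_apply, QuadraticMap.polarBilin_apply_apply,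
    smul_eq_mul]
  rw [QuadraticMap.polar_add_right, QuadraticMap.polar_smul_right]
  have h2 : e * (QuadraticMap.polar q x v + -(e * QuadraticMap.polar q y v) • QuadraticMap.polar q x x)
      = e * QuadraticMap.polar q x v := by
    simp only [smul_eq_mul]
    linear_combination (-(QuadraticMap.polar q y v * QuadraticMap.polar q x x)) * he
  rw [h2, smul_sub, smul_smul, smul_smul, neg_smul]
  abel

lemma det_infRot [Module.Free A V] [Module.Finite A V] (x y : V) (e : A) (he : e * e = 0) :
    LinearEquiv.det (infRot q x y e he) = 1 := by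
  rw [← Units.val_inj, LinearEquiv.coe_det, Units.val_one]
  change LinearMap.det (infRotLin q x y e) = 1
  rw [infRotLin_eq_comp q x y e he, LinearMap.det_comp, LinearMap.transvection.det,
    LinearMap.transvection.det]
  simp only [LinearMap.smul_apply, LinearMap.neg_apply, QuadraticMap.polarBilin_apply_apply,
    smul_eq_mul, QuadraticMap.polar_comm q y x]
  linear_combination (-(QuadraticMap.polar q x y) ^ 2) * he

end Rot

section Dickson

open CliffordAlgebra

variable {A : Type u} {V : Type v} [CommRing A] [AddCommGroup V] [Module A V] (q : QuadraticForm A V)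

lemma comm_aux (x y v : V) :
    ι q x * ι q y * ι q v - ι q v * (ι q x * ι q y) = - ι q (rotLin q x y v) := by
  have h1 := ι_mul_ι_comm (Q := q) y v
  have h2 := ι_mul_ι_comm (Q := q) x v
  rw [rotLin_apply, map_sub, map_smul, map_smul]
  calc ι q x * ι q y * ι q v - ι q v * (ι q x * ι q y)
      = ι q x * (ι q y * ι q v) - ι q v * (ι q x * ι q y) := by rw [mul_assoc]
    _ = ι q x * (algebraMap A _ (QuadraticMap.polar q y v) - ι q v * ι q y) -
          ι q v * (ι q x * ι q y) := by rw [h1]
    _ = QuadraticMap.polar q y v • ι q x - (ι q x * ι q v) * ι q y - ι q v * (ι q x * ι q y) := by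
        rw [mul_sub, ← Algebra.commutes, ← Algebra.smul_def, mul_assoc]
    _ = QuadraticMap.polar q y v • ι q x -
          (algebraMap A _ (QuadraticMap.polar q x v) - ι q v * ι q x) * ι q y -
          ι q v * (ι q x * ι q y) := by rw [h2]
    _ = _ := by
        rw [sub_mul, ← Algebra.smul_def, mul_assoc]
        abel

lemma map_mul_w (x y : V) (e : A) (he : e * e = 0) (hh : infRot q x y e he ∈ QuadGrp.O q)
    (c : CliffordAlgebra q) :
    CliffordAlgebra.map (QuadGrp.isometryOfMem q _ hh) c * (1 - e • (ι q x * ι q y)) =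
      (1 - e • (ι q x * ι q y)) * c := by
  induction c using CliffordAlgebra.induction with
  | algebraMap r =>
    rw [AlgHom.commutes, Algebra.commutes]
  | ι v =>
    rw [CliffordAlgebra.map_apply_ι, QuadGrp.isometryOfMem_apply, infRot_apply, map_add, map_smul]
    have h := comm_aux q x y v
    have h3 : ι q (rotLin q x y v) = ι q v * (ι q x * ι q y) - ι q x * ι q y * ι q v := by
      rw [← neg_sub, h, neg_neg]
    rw [h3, mul_sub, sub_mul, mul_one, one_mul, add_mul, smul_mul_smul_comm, he, zero_smul,
      smul_mul_assoc, mul_smul_comm, smul_sub]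
    abel
  | mul a b ha hb => rw [map_mul, mul_assoc, hb, ← mul_assoc, ha, mul_assoc]
  | add a b ha hb => rw [map_add, add_mul, ha, hb, mul_add]

lemma dickson_infRot (x y : V) (e : A) (he : e * e = 0) (hh : infRot q x y e he ∈ QuadGrp.O q) :
    QuadGrp.IsDicksonTrivial q (infRot q x y e he) hh := by
  intro z hz
  have hw : (1 - e • (ι q x * ι q y)) ∈ CliffordAlgebra.even q := by
    refine Subalgebra.sub_mem _ (Subalgebra.one_mem _) (Subalgebra.smul_mem _ ?_ e)
    have := ι_mul_ι_mem_evenOdd_zero q x y
    rw [← even_toSubmodule] at this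
    exact this
  have h1 := map_mul_w q x y e he hh (z : CliffordAlgebra q)
  have h2 : (⟨_, hw⟩ : CliffordAlgebra.even q) * z = z * ⟨_, hw⟩ :=
    (Subalgebra.mem_center_iff.mp hz ⟨_, hw⟩)
  have h3 : (1 - e • (ι q x * ι q y)) * (z : CliffordAlgebra q) =
      z * (1 - e • (ι q x * ι q y)) := congrArg Subtype.val h2
  have hww : (1 - e • (ι q x * ι q y)) * (1 + e • (ι q x * ι q y)) = 1 := by
    rw [sub_mul, mul_add, mul_add, one_mul, mul_one, one_mul, smul_mul_smul_comm, he, zero_smul]
    abel
  calc CliffordAlgebra.map (QuadGrp.isometryOfMem q _ hh) (z : CliffordAlgebra q)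
      = CliffordAlgebra.map (QuadGrp.isometryOfMem q _ hh) (z : CliffordAlgebra q) *
          ((1 - e • (ι q x * ι q y)) * (1 + e • (ι q x * ι q y))) := by rw [hww, mul_one]
    _ = (z : CliffordAlgebra q) * ((1 - e • (ι q x * ι q y)) * (1 + e • (ι q x * ι q y))) := by
        rw [← mul_assoc, h1, h3, mul_assoc]
    _ = z := by rw [hww, mul_one]

end Dickson

section RotScalar

variable {R : Type u} [CommRing R] {n : ℕ} (Q : QuadraticForm R (Fin n → R))
  (g : (Fin n → R) ≃ₗ[R] (Fin n → R))

lemma scalar_of_single (c : R) (h : ∀ b : Fin n, g (Pi.single b 1) = c • Pi.single b 1) :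
    ∀ v, g v = c • v := by
  have key : g.toLinearMap = c • LinearMap.id := by
    apply LinearMap.pi_ext'
    intro i
    ext a
    simp only [LinearMap.coe_comp, LinearEquiv.coe_coe, LinearMap.coe_single, Function.comp_apply,
      LinearMap.smul_apply, LinearMap.id_coe, id_eq]
    rw [h i]
  intro v
  have := congrArg (fun f => f v) key
  simpa using this

/-- the rotation operator over `R` in explicit form -/
def Rot : Prop :=
  ∀ x y v : Fin n → R,
    g (QuadraticMap.polar Q x v • y - QuadraticMap.polar Q y v • x) =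
      QuadraticMap.polar Q x (g v) • y - QuadraticMap.polar Q y (g v) • x

lemma exists_scalar_of_rot (hn : 3 ≤ n) (hQ : QuadGrp.IsRegular Q) (h : Rot Q g) :
    ∃ c : R, ∀ v, g v = c • v := by
  classical
  -- dual basis
  have hd : ∀ a : Fin n, ∃ d : Fin n → R, ∀ w, QuadraticMap.polar Q d w = w a := by
    intro a
    obtain ⟨d, hd⟩ := hQ.2 (LinearMap.proj a)
    exact ⟨d, fun w => by
      have := congrArg (fun f => f w) hd
      simpa using this⟩
  choose d hd using hd
  -- (B): for a ≠ b
  have hB : ∀ a b : Fin n, a ≠ b → ∀ y : Fin n → R,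
      -(QuadraticMap.polar Q y (Pi.single b 1) • g (d a)) =
        g (Pi.single b 1) a • y - QuadraticMap.polar Q y (g (Pi.single b 1)) • d a := by
    intro a b hab y
    have := h (d a) y (Pi.single b 1)
    rw [hd, hd, Pi.single_apply, if_neg hab, zero_smul, zero_sub, map_neg, map_smul] at this
    exact this
  have hoff : ∀ a b : Fin n, a ≠ b → g (Pi.single b 1) a = 0 := by
    intro a b hab
    obtain ⟨c, hca, hcb⟩ : ∃ c : Fin n, c ≠ a ∧ c ≠ b := by
      by_contra hne
      push Not at hne
      have : (Finset.univ : Finset (Fin n)) ⊆ {a, b} := by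
        intro c _
        by_cases hca : c = a
        · simp [hca]
        · simp [hne c hca]
      have := Finset.card_le_card this
      rw [Finset.card_univ, Fintype.card_fin] at this
      have h2 : ({a, b} : Finset (Fin n)).card ≤ 2 := Finset.card_le_two
      omega
    have h1 := hB a b hab (d c)
    rw [hd, Pi.single_apply, if_neg hcb, zero_smul, neg_zero] at h1
    have h2 := congrArg (fun z => QuadraticMap.polar Q z (Pi.single c 1)) h1
    simp only [QuadraticMap.polar_sub_left, QuadraticMap.polar_smul_left, hd, Pi.single_apply,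
      if_true, smul_eq_mul, mul_one] at h2
    rw [if_neg (Ne.symm hca), mul_zero, sub_zero, QuadraticMap.polar_zero_left] at h2
    exact h2.symm
  have hdiag : ∀ a b : Fin n, a ≠ b → g (d a) = g (Pi.single b 1) b • d a := by
    intro a b hab
    have h1 := hB a b hab (d b)
    rw [hd, hd, Pi.single_apply, if_pos rfl, one_smul, hoff a b hab, zero_smul, zero_sub, neg_inj]
      at h1
    exact h1
  have hc : ∀ b b' : Fin n, g (Pi.single b 1) b = g (Pi.single b' 1) b' := by
    intro b b'
    by_cases hbb : b = b'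
    · subst hbb; rfl
    obtain ⟨a, hab, hab'⟩ : ∃ a : Fin n, a ≠ b ∧ a ≠ b' := by
      by_contra hne
      push Not at hne
      have : (Finset.univ : Finset (Fin n)) ⊆ {b, b'} := by
        intro c _
        by_cases hca : c = b
        · simp [hca]
        · simp [hne c hca]
      have := Finset.card_le_card this
      rw [Finset.card_univ, Fintype.card_fin] at this
      have h2 : ({b, b'} : Finset (Fin n)).card ≤ 2 := Finset.card_le_two
      omega
    have h1 := (hdiag a b hab).symm.trans (hdiag a b' hab')
    have h2 := congrArg (fun z => QuadraticMap.polar Q z (Pi.single a 1)) h1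
    simpa [QuadraticMap.polar_smul_left, hd] using h2
  refine ⟨g (Pi.single ⟨0, by omega⟩ 1) ⟨0, by omega⟩, ?_⟩
  apply scalar_of_single
  intro b
  funext a
  by_cases hab : a = b
  · subst hab
    rw [hc a ⟨0, by omega⟩]; simp
  · rw [hoff a b hab]; simp [hab]

end RotScalar

section Transport

variable {R : Type u} [CommRing R] {n : ℕ} (Q : QuadraticForm R (Fin n → R))
variable (A : Type v) [CommRing A] [Algebra R A]

/-- Transport of an automorphism of `A^n` to `A ⊗ R^n`. -/
noncomputable def T (s : (Fin n → A) ≃ₗ[A] (Fin n → A)) :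
    (A ⊗[R] (Fin n → R)) ≃ₗ[A] (A ⊗[R] (Fin n → R)) :=
  (((E (n := n) (R := R) A).symm.symm.trans s).trans (E A).symm)

lemma T_apply (s : (Fin n → A) ≃ₗ[A] (Fin n → A)) (z : A ⊗[R] (Fin n → R)) :
    T A s z = (E A).symm (s (E A z)) := rfl

lemma T_mem_orth (s : (Fin n → A) ≃ₗ[A] (Fin n → A)) (hs : ∀ y, qc Q A (s y) = qc Q A y) :
    T (R := R) A s ∈ QuadGrp.orth Q A := by
  apply mem_orth_of_qc
  intro z
  rw [T_apply, LinearEquiv.apply_symm_apply, hs]

lemma det_T (s : (Fin n → A) ≃ₗ[A] (Fin n → A)) :
    LinearEquiv.det (T (R := R) A s) = LinearEquiv.det s := by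
  rw [T, LinearEquiv.det_conj]

variable (g : (Fin n → R) ≃ₗ[R] (Fin n → R))

lemma comm_T (s : (Fin n → A) ≃ₗ[A] (Fin n → A))
    (hcomm : g.baseChange R A (Fin n → R) (Fin n → R) * T A s =
      T A s * g.baseChange R A (Fin n → R) (Fin n → R)) (w : Fin n → A) :
    gc A g (s w) = s (gc A g w) := by
  have h2 := congrArg (fun f => E A (f ((E A).symm w))) hcomm
  simpa only [LinearEquiv.mul_apply, T_apply, LinearEquiv.apply_symm_apply, E_baseChange] using h2

/-- `g` commutes with all reflections in coordinates. -/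
def HR : Prop :=
  ∀ (ξ : Fin n → A) (u : A) (hu : u * qc Q A ξ = 1) (w : Fin n → A),
    gc A g (refl (qc Q A) ξ u hu w) = refl (qc Q A) ξ u hu (gc A g w)

lemma H1_of_HR (h : HR Q A g) : H1 A Q g := by
  intro ξ v hξ
  obtain ⟨u, hu⟩ := hξ.exists_left_inv
  have h2 := h ξ u hu v
  rw [refl_apply, refl_apply, map_sub, map_smul] at h2
  have h3 : (u * QuadraticMap.polar (qc Q A) ξ v) • gc A g ξ =
      (u * QuadraticMap.polar (qc Q A) ξ (gc A g v)) • ξ := sub_right_injective h2
  have h4 := congrArg (fun w => qc Q A ξ • w) h3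
  simp only [smul_smul] at h4
  rw [← mul_assoc, ← mul_assoc, mul_comm _ u, hu, one_mul, one_mul] at h4
  exact h4

end Transport

section DetRefl

variable {A : Type u} {V : Type v} [CommRing A] [AddCommGroup V] [Module A V] (q : QuadraticForm A V)

lemma reflLin_eq_transvection (x : V) (u : A) :
    reflLin q x u = LinearMap.transvection (-(u • QuadraticMap.polarBilin q x)) x := by
  ext v
  rw [reflLin_apply, LinearMap.transvection.apply]
  simp only [LinearMap.neg_apply, LinearMap.smul_apply, QuadraticMap.polarBilin_apply_apply,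
    smul_eq_mul, neg_smul]
  abel

lemma det_reflLin [Module.Free A V] [Module.Finite A V] (x : V) (u : A) (hu : u * q x = 1) :
    LinearMap.det (reflLin q x u) = -1 := by
  rw [reflLin_eq_transvection, LinearMap.transvection.det]
  simp only [LinearMap.neg_apply, LinearMap.smul_apply, QuadraticMap.polarBilin_apply_apply,
    smul_eq_mul, QuadraticMap.polar_self, nsmul_eq_mul, Nat.cast_ofNat]
  linear_combination (-2 : A) * hu

lemma det_refl [Module.Free A V] [Module.Finite A V] (x : V) (u : A) (hu : u * q x = 1) :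
    LinearEquiv.det (refl q x u hu) = -1 := by
  rw [← Units.val_inj, LinearEquiv.coe_det, Units.val_neg, Units.val_one]
  exact det_reflLin q x u hu

end DetRefl

section NegRefl

variable {A : Type u} [CommRing A] {n : ℕ} (q : QuadraticForm A (Fin n → A))

lemma det_neg_fin : LinearEquiv.det (LinearEquiv.neg A : (Fin n → A) ≃ₗ[A] (Fin n → A)) = (-1) ^ n := by
  rcases subsingleton_or_nontrivial A with hA | hA
  · exact Subsingleton.elim _ _
  rw [← Units.val_inj, LinearEquiv.coe_det]
  have : ((LinearEquiv.neg A : (Fin n → A) ≃ₗ[A] (Fin n → A)) : (Fin n → A) →ₗ[A] (Fin n → A)) =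
      (-1 : A) • LinearMap.id := by
    ext v; simp
  rw [this, LinearMap.det_smul, LinearMap.det_id, Module.finrank_fin_fun]
  simp

/-- `-s_ξ`. -/
noncomputable def negRefl (x : Fin n → A) (u : A) (hu : u * q x = 1) :
    (Fin n → A) ≃ₗ[A] (Fin n → A) :=
  (LinearEquiv.neg A).trans (refl q x u hu)

lemma negRefl_apply (x : Fin n → A) (u : A) (hu : u * q x = 1) (v : Fin n → A) :
    negRefl q x u hu v = - refl q x u hu v := by
  simp [negRefl]

lemma q_negRefl (x : Fin n → A) (u : A) (hu : u * q x = 1) (v : Fin n → A) :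
    q (negRefl q x u hu v) = q v := by
  rw [negRefl_apply, QuadraticMap.map_neg, q_refl]

lemma det_negRefl (hn : Odd n) (x : Fin n → A) (u : A) (hu : u * q x = 1) :
    LinearEquiv.det (negRefl q x u hu) = 1 := by
  rw [negRefl, LinearEquiv.det_trans, det_refl, det_neg_fin, hn.neg_one_pow]
  simp

end NegRefl

section MainH1

variable {R : Type u} [CommRing R] {n : ℕ} (Q : QuadraticForm R (Fin n → R))
  (g : (Fin n → R) ≃ₗ[R] (Fin n → R))

lemma H3_local' (hS : polarIdeal Q = ⊤) (A : Type u) [CommRing A] [Algebra R A] [IsLocalRing A]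
    (h1 : H1 (PowerSeries (PowerSeries A)) Q g) : H3 A g := by
  obtain ⟨i, j, hij⟩ := exists_isUnit_smat Q hS A
  obtain ⟨x, hx⟩ := exists_isUnit_Q Q hS A
  have hx' : IsUnit (qc Q (PowerSeries A) (PowerSeries.C ∘ (algebraMap R A ∘ x))) := by
    have := qc_map Q (Cₐ (R := R) A) (algebraMap R A ∘ x)
    rw [Cₐ_apply, qc_algebraMap] at this
    change qc Q (PowerSeries A) (PowerSeries.C ∘ (algebraMap R A ∘ x)) = _ at this
    rw [this]
    exact hx.map _
  have h2 : H2 (PowerSeries A) Q g := H2_of_H1 (PowerSeries A) Q g h1 _ hx'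
  exact H3_of_H2 A Q g h2 i j hij

theorem exists_scalar_of_H1 (hn : 2 ≤ n) (hS : polarIdeal Q = ⊤)
    (h1 : ∀ (A : Type u) [CommRing A] [Algebra R A], H1 A Q g) :
    ∃ c : R, ∀ v, g v = c • v := by
  apply exists_scalar_of_H3 g hn
  intro z a b
  rw [← sub_eq_zero]
  apply eq_zero_of_localization
  intro J hJ
  have h3 := H3_local' Q g hS (Localization.AtPrime J) (h1 _)
  have := h3 (algebraMap R _ ∘ z) a b
  rw [gc_algebraMap] at this
  simp only [Function.comp_apply, ← map_mul] at this
  rw [map_sub, this, sub_self]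

/-- The hypothesis of the centre statement for `SO'`. -/
def Comm' (A : Type u) [CommRing A] [Algebra R A] : Prop :=
  ∀ h ∈ QuadGrp.sorth' Q A,
    g.baseChange R A (Fin n → R) (Fin n → R) * h = h * g.baseChange R A (Fin n → R) (Fin n → R)

lemma HR_of_comm'_odd (hn : Odd n) (A : Type u) [CommRing A] [Algebra R A]
    (hcomm : Comm' Q g A) : HR Q A g := by
  intro ξ u hu w
  have hmem : T (R := R) A (negRefl (qc Q A) ξ u hu) ∈ QuadGrp.sorth' Q A := by
    refine ⟨T_mem_orth Q A _ (q_negRefl _ _ _ hu), ?_⟩
    change T A (negRefl (qc Q A) ξ u hu) ∈ LinearEquiv.det.ker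
    rw [MonoidHom.mem_ker, det_T, det_negRefl _ hn]
  have := comm_T A g _ (hcomm _ hmem) w
  rw [negRefl_apply, negRefl_apply, map_neg, neg_inj] at this
  exact this

theorem exists_scalar_of_comm'_odd (hn : 2 ≤ n) (ho : Odd n) (hS : polarIdeal Q = ⊤)
    (hcomm : ∀ (A : Type u) [CommRing A] [Algebra R A], Comm' Q g A) :
    ∃ c : R, ∀ v, g v = c • v :=
  exists_scalar_of_H1 Q g hn hS fun A _ _ => H1_of_HR Q A g (HR_of_comm'_odd Q g ho A (hcomm A))

end MainH1

end Groth.Agent.Lib.Helper8.QuadCtr
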