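import Mathlib
import Groth.Prelude.Def_QuadGrp
import Groth.Agent.Lib.Helper8.QuadCtr3
set_option backward.isDefEq.respectTransparency.types false
set_option autoImplicit false

/-!
# Test elements over the dual numbers for the centre of `SO'`/`SO` (helper8)
-/

namespace Groth.Agent.Lib.Helper8.QuadCtr

open TensorProduct Matrix QuadraticMap

universe u v w

section Dual

variable {R : Type u} [CommRing R] {n : ℕ} (Q : QuadraticForm R (Fin n → R))
  (g : (Fin n → R) ≃ₗ[R] (Fin n → R))
variable (A : Type v) [CommRing A] [Algebra R A]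

lemma baseChangeForm_one_tmul (m : Fin n → R) :
    QuadGrp.baseChangeForm A Q (1 ⊗ₜ[R] m) = algebraMap R A (Q m) := by
  rw [QuadGrp.baseChangeForm, LinearMap.compQuadraticMap_apply, QuadGrp.baseChange_tmul]
  simp [Algebra.smul_def]

lemma polar_baseChangeForm_one_tmul (x v : Fin n → R) :
    QuadraticMap.polar (QuadGrp.baseChangeForm A Q) (1 ⊗ₜ[R] x) (1 ⊗ₜ[R] v) =
      algebraMap R A (QuadraticMap.polar Q x v) := by
  rw [QuadraticMap.polar, ← TensorProduct.tmul_add, baseChangeForm_one_tmul, baseChangeForm_one_tmul,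
    baseChangeForm_one_tmul, QuadraticMap.polar, map_sub, map_sub]

lemma mem_orth_of_baseChangeForm (h : (A ⊗[R] (Fin n → R)) ≃ₗ[A] (A ⊗[R] (Fin n → R)))
    (hh : ∀ z, QuadGrp.baseChangeForm A Q (h z) = QuadGrp.baseChangeForm A Q z) :
    h ∈ QuadGrp.orth Q A := by
  intro z
  have := hh z
  rw [QuadGrp.baseChangeForm, LinearMap.compQuadraticMap_apply, LinearMap.compQuadraticMap_apply]
    at this
  exact (AlgebraTensorModule.rid R A A).injective this

lemma mem_O_baseChangeForm_of_orth (h : (A ⊗[R] (Fin n → R)) ≃ₗ[A] (A ⊗[R] (Fin n → R)))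
    (hh : h ∈ QuadGrp.orth Q A) : h ∈ QuadGrp.O (QuadGrp.baseChangeForm A Q) := by
  intro z
  have := hh z
  rw [QuadGrp.baseChangeForm, LinearMap.compQuadraticMap_apply, LinearMap.compQuadraticMap_apply]
  exact congrArg _ this

lemma rotLin_one_tmul (x y v : Fin n → R) :
    rotLin (QuadGrp.baseChangeForm A Q) (1 ⊗ₜ[R] x) (1 ⊗ₜ[R] y) (1 ⊗ₜ[R] v) =
      1 ⊗ₜ[R] (QuadraticMap.polar Q x v • y - QuadraticMap.polar Q y v • x) := by
  rw [rotLin_apply, polar_baseChangeForm_one_tmul, polar_baseChangeForm_one_tmul, algebraMap_smul,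
    algebraMap_smul, TensorProduct.tmul_sub, TensorProduct.tmul_smul, TensorProduct.tmul_smul]

/-- From commutation with the infinitesimal rotations to the rotation identity over `R`. -/
lemma rot_of_comm (e : A) (he : e * e = 0) (hinj : ∀ r : R, r • e = 0 → r = 0)
    (hcomm : ∀ x y : Fin n → R,
      g.baseChange R A (Fin n → R) (Fin n → R) *
          infRot (QuadGrp.baseChangeForm A Q) (1 ⊗ₜ[R] x) (1 ⊗ₜ[R] y) e he =
        infRot (QuadGrp.baseChangeForm A Q) (1 ⊗ₜ[R] x) (1 ⊗ₜ[R] y) e he *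
          g.baseChange R A (Fin n → R) (Fin n → R)) :
    Rot Q g := by
  intro x y v
  have h1 := congrArg (fun f => f (1 ⊗ₜ[R] v)) (hcomm x y)
  simp only [LinearEquiv.mul_apply, infRot_apply, LinearEquiv.baseChange_tmul, rotLin_one_tmul,
    map_add, map_smul] at h1
  have h2 := add_left_cancel h1
  have h3 := congrArg (E A) h2
  rw [map_smul, map_smul, E_tmul, E_tmul] at h3
  funext j
  have h4 := congrFun h3 j
  simp only [Pi.smul_apply, smul_eq_mul] at h4
  rw [← sub_eq_zero]
  apply hinj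
  rw [sub_smul, sub_eq_zero]
  simpa [Algebra.smul_def, mul_comm] using h4

end Dual

section DualNumberInst

variable {R : Type u} [CommRing R] {n : ℕ} (Q : QuadraticForm R (Fin n → R))
  (g : (Fin n → R) ≃ₗ[R] (Fin n → R))

lemma eps_inj (r : R) (h : r • (DualNumber.eps : DualNumber R) = 0) : r = 0 := by
  have := congrArg TrivSqZeroExt.snd h
  simpa using this

/-- The test elements over the dual numbers. -/
noncomputable def testRot (x y : Fin n → R) :
    (DualNumber R ⊗[R] (Fin n → R)) ≃ₗ[DualNumber R] (DualNumber R ⊗[R] (Fin n → R)) :=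
  infRot (QuadGrp.baseChangeForm (DualNumber R) Q) (1 ⊗ₜ[R] x) (1 ⊗ₜ[R] y) DualNumber.eps
    DualNumber.eps_mul_eps

lemma testRot_mem_O (x y : Fin n → R) :
    testRot Q x y ∈ QuadGrp.O (QuadGrp.baseChangeForm (DualNumber R) Q) :=
  fun z => q_infRot _ _ _ _ _ z

lemma testRot_mem_orth (x y : Fin n → R) : testRot Q x y ∈ QuadGrp.orth Q (DualNumber R) :=
  mem_orth_of_baseChangeForm Q _ _ (fun z => q_infRot _ _ _ _ _ z)

lemma det_testRot (x y : Fin n → R) : LinearEquiv.det (testRot Q x y) = 1 :=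
  det_infRot _ _ _ _ _

lemma testRot_mem_sorth' (x y : Fin n → R) : testRot Q x y ∈ QuadGrp.sorth' Q (DualNumber R) := by
  refine ⟨testRot_mem_orth Q x y, ?_⟩
  change testRot Q x y ∈ LinearEquiv.det.ker
  rw [MonoidHom.mem_ker, det_testRot]

lemma testRot_mem_sorth (x y : Fin n → R) : testRot Q x y ∈ QuadGrp.sorth Q (DualNumber R) := by
  unfold QuadGrp.sorth QuadGrp.SO
  split_ifs
  · exact ⟨testRot_mem_O Q x y, dickson_infRot _ _ _ _ _ _⟩
  · refine ⟨testRot_mem_O Q x y, ?_⟩
    change testRot Q x y ∈ LinearEquiv.det.ker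
    rw [MonoidHom.mem_ker, det_testRot]

theorem rot_of_comm_testRot
    (hcomm : ∀ x y : Fin n → R,
      g.baseChange R (DualNumber R) (Fin n → R) (Fin n → R) * testRot Q x y =
        testRot Q x y * g.baseChange R (DualNumber R) (Fin n → R) (Fin n → R)) :
    Rot Q g :=
  rot_of_comm Q g (DualNumber R) DualNumber.eps DualNumber.eps_mul_eps eps_inj hcomm

end DualNumberInst

end Groth.Agent.Lib.Helper8.QuadCtr
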