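import Mathlib.Algebra.Homology.DerivedCategory.RightDerivedFunctorPlus
import Mathlib.Algebra.Homology.DerivedCategory.HomologySequence
import Mathlib.Algebra.Homology.DerivedCategory.TStructure

/-!
# Computing `F.rightDerivedFunctorPlus` with bounded below complexes of injectives
-/

set_option autoImplicit false
set_option maxSynthPendingDepth 3

open CategoryTheory Limits

namespace Groth.Agent.Lib.Helper8.RDPlus

universe w w' v v' u u'

variable {C : Type u} [Category.{v} C] [Abelian C] [HasDerivedCategory.{w} C] [EnoughInjectives C]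
  {D : Type u'} [Category.{v'} D] [Abelian D] [HasDerivedCategory.{w'} D]
  (F : C ⥤ D) [F.Additive]

/-- For a bounded below complex of injectives `L`, `RF (Q L) ≅ Q (F L)`. -/
noncomputable def unitIso (L : CochainComplex.Plus (InjectiveObject C)) :
    DerivedCategory.Plus.Qh.obj (F.mapHomotopyCategoryPlus.obj
      ((HomotopyCategory.Plus.quotient C).obj ((InjectiveObject.ι C).mapCochainComplexPlus.obj L))) ≅
    F.rightDerivedFunctorPlus.obj
      (DerivedCategory.Plus.Q.obj ((InjectiveObject.ι C).mapCochainComplexPlus.obj L)) :=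
  show (F.mapHomotopyCategoryPlus ⋙ DerivedCategory.Plus.Qh).obj _ ≅
    (DerivedCategory.Plus.Qh ⋙ F.rightDerivedFunctorPlus).obj _ from
  asIso (F.rightDerivedFunctorPlusUnit.app
      ((HomotopyCategory.Plus.quotient C).obj
        ((InjectiveObject.ι C).mapCochainComplexPlus.obj L)))

/-- `RF` preserves the property of being cohomologically `≥ a`. -/
theorem isGE_rightDerivedFunctorPlus_obj (K : DerivedCategory.Plus C) (a : ℤ) [K.IsGE a] :
    (F.rightDerivedFunctorPlus.obj K).IsGE a := by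
  obtain ⟨L, hL, ⟨e⟩⟩ := DerivedCategory.Plus.exists_injective_nonempty_iso K a
  have e' := (unitIso F L) ≪≫ F.rightDerivedFunctorPlus.mapIso e
  have h1 : CochainComplex.IsStrictlyGE ((F.mapHomologicalComplex (ComplexShape.up ℤ)).obj
      (((InjectiveObject.ι C).mapHomologicalComplex (ComplexShape.up ℤ)).obj L.obj)) a :=
    inferInstance
  have h2 : (DerivedCategory.Q.obj ((F.mapHomologicalComplex (ComplexShape.up ℤ)).obj
      (((InjectiveObject.ι C).mapHomologicalComplex (ComplexShape.up ℤ)).obj L.obj))).IsGE a :=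
    inferInstance
  have h3 : (DerivedCategory.Plus.Qh.obj (F.mapHomotopyCategoryPlus.obj
      ((HomotopyCategory.Plus.quotient C).obj
        ((InjectiveObject.ι C).mapCochainComplexPlus.obj L)))).IsGE a := by
    rw [← DerivedCategory.Plus.isGE_ι_obj_iff]
    exact h2
  exact DerivedCategory.Plus.TStructure.t.isGE_of_iso e' a

section triangles

open Pretriangulated

variable (C) in
/-- `K⁺(Inj C) ⥤ D⁺(C)`. -/
noncomputable abbrev rho : HomotopyCategory.Plus (InjectiveObject C) ⥤ DerivedCategory.Plus C :=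
  (InjectiveObject.ι C).mapHomotopyCategoryPlus ⋙ DerivedCategory.Plus.Qh

/-- `K⁺(Inj C) ⥤ D⁺(D)`, `J ↦ Q (F J)`. -/
noncomputable abbrev GG : HomotopyCategory.Plus (InjectiveObject C) ⥤ DerivedCategory.Plus D :=
  (InjectiveObject.ι C).mapHomotopyCategoryPlus ⋙ F.mapHomotopyCategoryPlus ⋙
    DerivedCategory.Plus.Qh

instance : (rho C).Full where
  map_surjective {J₁ J₂} f := by
    have hK : CochainComplex.IsKInjective
        (((InjectiveObject.ι C).mapHomotopyCategoryPlus.obj J₂).1.as) := by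
      obtain ⟨K, rfl⟩ := HomotopyCategory.Plus.quotient_obj_surjective J₂
      exact inferInstanceAs (CochainComplex.IsKInjective
        (((InjectiveObject.ι C).mapHomologicalComplex (.up ℤ)).obj K.obj))
    obtain ⟨g, hg⟩ := (DerivedCategory.Plus.Qh_map_bijective_of_isKInjective
      ((InjectiveObject.ι C).mapHomotopyCategoryPlus.obj J₁)
      ((InjectiveObject.ι C).mapHomotopyCategoryPlus.obj J₂) hK).2 f
    obtain ⟨g', rfl⟩ := (InjectiveObject.ι C).mapHomotopyCategoryPlus.map_surjective g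
    exact ⟨g', hg⟩

/-- The natural isomorphism `Q ∘ F ≅ RF ∘ Q` on bounded below complexes of injectives. -/
noncomputable def unitNatIso : GG F ≅ rho C ⋙ F.rightDerivedFunctorPlus :=
  haveI : IsIso (Functor.whiskerLeft (InjectiveObject.ι C).mapHomotopyCategoryPlus
      F.rightDerivedFunctorPlusUnit) := by
    rw [NatTrans.isIso_iff_isIso_app]
    intro J
    dsimp
    infer_instance
  asIso (Functor.whiskerLeft (InjectiveObject.ι C).mapHomotopyCategoryPlus
      F.rightDerivedFunctorPlusUnit)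

/-- The cohomology functors of `RF`. -/
noncomputable abbrev HRF (n : ℤ) : DerivedCategory.Plus C ⥤ D :=
  F.rightDerivedFunctorPlus ⋙ DerivedCategory.Plus.ι ⋙ DerivedCategory.homologyFunctor D n

/-- The cohomology functors of `Q ∘ F` on complexes of injectives. -/
noncomputable abbrev HG (n : ℤ) : HomotopyCategory.Plus (InjectiveObject C) ⥤ D :=
  GG F ⋙ DerivedCategory.Plus.ι ⋙ DerivedCategory.homologyFunctor D n

/-- `Hⁿ(Q F J) ≅ Hⁿ(RF (Q J))`. -/
noncomputable def nuApp (n : ℤ) (J : HomotopyCategory.Plus (InjectiveObject C)) :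
    (HG F n).obj J ≅ (HRF F n).obj ((rho C).obj J) :=
  (DerivedCategory.Plus.ι ⋙ DerivedCategory.homologyFunctor D n).mapIso ((unitNatIso F).app J)

lemma nuApp_naturality (n : ℤ) {J₁ J₂ : HomotopyCategory.Plus (InjectiveObject C)} (a : J₁ ⟶ J₂) :
    (HG F n).map a ≫ (nuApp F n J₂).hom = (nuApp F n J₁).hom ≫ (HRF F n).map ((rho C).map a) := by
  have h := (unitNatIso F).hom.naturality a
  have h2 := congrArg (DerivedCategory.Plus.ι ⋙ DerivedCategory.homologyFunctor D n).map h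
  simp only [Functor.map_comp] at h2
  exact h2

/-- The long exact cohomology sequence of `RF` applied to a distinguished triangle of `D⁺(C)`:
existence of a connecting morphism with exactness at three consecutive spots. -/
theorem exists_delta_exact (T : Triangle (DerivedCategory.Plus C))
    (hT : T ∈ distTriang (DerivedCategory.Plus C)) (i j : ℤ) (hij : i + 1 = j) :
    ∃ (δ : (HRF F i).obj T.obj₃ ⟶ (HRF F j).obj T.obj₁)
      (h₁ : (HRF F i).map T.mor₁ ≫ (HRF F i).map T.mor₂ = 0)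
      (h₂ : (HRF F i).map T.mor₂ ≫ δ = 0) (h₃ : δ ≫ (HRF F j).map T.mor₁ = 0),
      (ShortComplex.mk _ _ h₁).Exact ∧ (ShortComplex.mk _ _ h₂).Exact ∧
        (ShortComplex.mk _ _ h₃).Exact := by
  let J₁ := (rho C).objPreimage T.obj₁
  let e₁ : (rho C).obj J₁ ≅ T.obj₁ := (rho C).objObjPreimageIso T.obj₁
  let J₂ := (rho C).objPreimage T.obj₂
  let e₂ : (rho C).obj J₂ ≅ T.obj₂ := (rho C).objObjPreimageIso T.obj₂
  let a : J₁ ⟶ J₂ := (rho C).preimage (e₁.hom ≫ T.mor₁ ≫ e₂.inv)
  obtain ⟨J₃, b, c, hT'⟩ := distinguished_cocone_triangle a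
  let T' := Triangle.mk a b c
  have hρT' : (rho C).mapTriangle.obj T' ∈ distTriang _ := (rho C).map_distinguished _ hT'
  have hcomm : ((rho C).mapTriangle.obj T').mor₁ ≫ e₂.hom = e₁.hom ≫ T.mor₁ := by
    show (rho C).map a ≫ e₂.hom = e₁.hom ≫ T.mor₁
    rw [Functor.map_preimage, Category.assoc, Category.assoc, Iso.inv_hom_id, Category.comp_id]
  let e : (rho C).mapTriangle.obj T' ≅ T := isoTriangleOfIso₁₂ _ _ hρT' hT e₁ e₂ hcomm
  let TD := (GG F ⋙ DerivedCategory.Plus.ι).mapTriangle.obj T'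
  have hTD : TD ∈ distTriang _ := (GG F ⋙ DerivedCategory.Plus.ι).map_distinguished _ hT'
  let φ₁ : ∀ n, (HG F n).obj J₁ ≅ (HRF F n).obj T.obj₁ := fun n =>
    nuApp F n J₁ ≪≫ (HRF F n).mapIso (Triangle.π₁.mapIso e)
  let φ₂ : ∀ n, (HG F n).obj J₂ ≅ (HRF F n).obj T.obj₂ := fun n =>
    nuApp F n J₂ ≪≫ (HRF F n).mapIso (Triangle.π₂.mapIso e)
  let φ₃ : ∀ n, (HG F n).obj J₃ ≅ (HRF F n).obj T.obj₃ := fun n =>
    nuApp F n J₃ ≪≫ (HRF F n).mapIso (Triangle.π₃.mapIso e)
  have sq₁ : ∀ n, (HG F n).map a ≫ (φ₂ n).hom = (φ₁ n).hom ≫ (HRF F n).map T.mor₁ := by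
    intro n
    dsimp only [φ₁, φ₂, Iso.trans_hom, Functor.mapIso_hom]
    rw [← Category.assoc, nuApp_naturality, Category.assoc, Category.assoc, ← Functor.map_comp,
      ← Functor.map_comp]
    exact congrArg (fun x => (nuApp F n J₁).hom ≫ (HRF F n).map x) e.hom.comm₁
  have sq₂ : ∀ n, (HG F n).map b ≫ (φ₃ n).hom = (φ₂ n).hom ≫ (HRF F n).map T.mor₂ := by
    intro n
    dsimp only [φ₂, φ₃, Iso.trans_hom, Functor.mapIso_hom]
    rw [← Category.assoc, nuApp_naturality, Category.assoc, Category.assoc, ← Functor.map_comp,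
      ← Functor.map_comp]
    exact congrArg (fun x => (nuApp F n J₂).hom ≫ (HRF F n).map x) e.hom.comm₂
  have r₁ : ∀ n, (HRF F n).map T.mor₁ = (φ₁ n).inv ≫ (HG F n).map a ≫ (φ₂ n).hom := by
    intro n; rw [sq₁, Iso.inv_hom_id_assoc]
  have r₂ : ∀ n, (HRF F n).map T.mor₂ = (φ₂ n).inv ≫ (HG F n).map b ≫ (φ₃ n).hom := by
    intro n; rw [sq₂, Iso.inv_hom_id_assoc]
  let δ' : (HG F i).obj J₃ ⟶ (HG F j).obj J₁ := DerivedCategory.HomologySequence.δ TD i j hij
  have z₁ : (HG F i).map a ≫ (HG F i).map b = 0 := by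
    show (DerivedCategory.homologyFunctor D i).map TD.mor₁ ≫
      (DerivedCategory.homologyFunctor D i).map TD.mor₂ = 0
    rw [← Functor.map_comp, comp_distTriang_mor_zero₁₂ _ hTD, Functor.map_zero]
  have z₂ : (HG F i).map b ≫ δ' = 0 := DerivedCategory.HomologySequence.comp_δ TD hTD i j hij
  have z₃ : δ' ≫ (HG F j).map a = 0 := DerivedCategory.HomologySequence.δ_comp TD hTD i j hij
  have ex₁ : (ShortComplex.mk _ _ z₁).Exact := DerivedCategory.HomologySequence.exact₂ TD hTD i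
  have ex₂ : (ShortComplex.mk _ _ z₂).Exact :=
    DerivedCategory.HomologySequence.exact₃ TD hTD i j hij
  have ex₃ : (ShortComplex.mk _ _ z₃).Exact :=
    DerivedCategory.HomologySequence.exact₁ TD hTD i j hij
  have h₁ : (HRF F i).map T.mor₁ ≫ (HRF F i).map T.mor₂ = 0 := by
    rw [r₁, r₂]
    simp only [Category.assoc, Iso.hom_inv_id_assoc]
    rw [← Category.assoc ((HG F i).map a) _ _, z₁, zero_comp, comp_zero]
  have hδ : (φ₃ i).hom ≫ ((φ₃ i).inv ≫ δ' ≫ (φ₁ j).hom) = δ' ≫ (φ₁ j).hom := by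
    rw [Iso.hom_inv_id_assoc]
  have h₂ : (HRF F i).map T.mor₂ ≫ ((φ₃ i).inv ≫ δ' ≫ (φ₁ j).hom) = 0 := by
    rw [r₂]
    simp only [Category.assoc, Iso.hom_inv_id_assoc]
    rw [← Category.assoc ((HG F i).map b) _ _, z₂, zero_comp, comp_zero]
  have h₃ : ((φ₃ i).inv ≫ δ' ≫ (φ₁ j).hom) ≫ (HRF F j).map T.mor₁ = 0 := by
    rw [r₁]
    simp only [Category.assoc, Iso.hom_inv_id_assoc]
    rw [← Category.assoc δ' _ _, z₃, zero_comp, comp_zero]
  refine ⟨(φ₃ i).inv ≫ δ' ≫ (φ₁ j).hom, h₁, h₂, h₃, ?_, ?_, ?_⟩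
  · exact ShortComplex.exact_of_iso
      (ShortComplex.isoMk (φ₁ i) (φ₂ i) (φ₃ i) (sq₁ i).symm (sq₂ i).symm) ex₁
  · exact ShortComplex.exact_of_iso
      (ShortComplex.isoMk (φ₂ i) (φ₃ i) (φ₁ j) (sq₂ i).symm hδ) ex₂
  · exact ShortComplex.exact_of_iso
      (ShortComplex.isoMk (φ₃ i) (φ₁ j) (φ₂ j) hδ (sq₁ j).symm) ex₃

/-- The connecting morphism in `D⁺(C)` attached to a short exact sequence of bounded below
complexes. -/
noncomputable def plusδ {K₁ K₂ K₃ : CochainComplex.Plus C} (f : K₁ ⟶ K₂) (g : K₂ ⟶ K₃)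
    (w : f.hom ≫ g.hom = 0) (hS : (ShortComplex.mk f.hom g.hom w).ShortExact) :
    DerivedCategory.Plus.Q.obj K₃ ⟶ (DerivedCategory.Plus.Q.obj K₁)⟦(1 : ℤ)⟧ :=
  DerivedCategory.Plus.ι.preimage
      (show DerivedCategory.Plus.ι.obj (DerivedCategory.Plus.Q.obj K₃) ⟶
        DerivedCategory.Plus.ι.obj ((DerivedCategory.Plus.Q.obj K₁)⟦(1 : ℤ)⟧) from
        DerivedCategory.triangleOfSESδ hS ≫
          (DerivedCategory.Plus.ι.commShiftIso (1 : ℤ)).inv.app (DerivedCategory.Plus.Q.obj K₁))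

omit [EnoughInjectives C] in
lemma ι_map_plusδ {K₁ K₂ K₃ : CochainComplex.Plus C} (f : K₁ ⟶ K₂) (g : K₂ ⟶ K₃)
    (w : f.hom ≫ g.hom = 0) (hS : (ShortComplex.mk f.hom g.hom w).ShortExact) :
    DerivedCategory.Plus.ι.map (plusδ f g w hS) =
      (show DerivedCategory.Plus.ι.obj (DerivedCategory.Plus.Q.obj K₃) ⟶
        DerivedCategory.Plus.ι.obj ((DerivedCategory.Plus.Q.obj K₁)⟦(1 : ℤ)⟧) from
        DerivedCategory.triangleOfSESδ hS ≫
          (DerivedCategory.Plus.ι.commShiftIso (1 : ℤ)).inv.app (DerivedCategory.Plus.Q.obj K₁)) :=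
  Functor.map_preimage _ _

/-- The distinguished triangle of `D⁺(C)` attached to a short exact sequence of bounded below
complexes. -/
noncomputable def plusTriangleOfSES {K₁ K₂ K₃ : CochainComplex.Plus C} (f : K₁ ⟶ K₂) (g : K₂ ⟶ K₃)
    (w : f.hom ≫ g.hom = 0) (hS : (ShortComplex.mk f.hom g.hom w).ShortExact) :
    Triangle (DerivedCategory.Plus C) :=
  Triangle.mk (DerivedCategory.Plus.Q.map f) (DerivedCategory.Plus.Q.map g) (plusδ f g w hS)

lemma plusTriangleOfSES_distinguished {K₁ K₂ K₃ : CochainComplex.Plus C} (f : K₁ ⟶ K₂)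
    (g : K₂ ⟶ K₃) (w : f.hom ≫ g.hom = 0) (hS : (ShortComplex.mk f.hom g.hom w).ShortExact) :
    plusTriangleOfSES f g w hS ∈ distTriang (DerivedCategory.Plus C) := by
  show DerivedCategory.Plus.ι.mapTriangle.obj (plusTriangleOfSES f g w hS) ∈
    distTriang (DerivedCategory C)
  refine isomorphic_distinguished _ (DerivedCategory.triangleOfSES_distinguished hS) _ ?_
  refine Triangle.isoMk _ _ (Iso.refl _) (Iso.refl _) (Iso.refl _) ?_ ?_ ?_
  · rw [Iso.refl_hom, Iso.refl_hom]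
    erw [Category.comp_id, Category.id_comp]
    rfl
  · rw [Iso.refl_hom, Iso.refl_hom]
    erw [Category.comp_id, Category.id_comp]
    rfl
  · rw [Iso.refl_hom, Iso.refl_hom]
    erw [CategoryTheory.Functor.map_id, Category.comp_id, Category.id_comp]
    show DerivedCategory.Plus.ι.map (plusTriangleOfSES f g w hS).mor₃ ≫
      (DerivedCategory.Plus.ι.commShiftIso (1 : ℤ)).hom.app _ = DerivedCategory.triangleOfSESδ hS
    show DerivedCategory.Plus.ι.map (plusδ f g w hS) ≫ _ = _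
    rw [ι_map_plusδ]
    erw [Category.assoc, Iso.inv_hom_id_app]
    exact Category.comp_id _

/-- The long exact sequence of `RⁿF` attached to a short exact sequence of bounded below
complexes. -/
theorem exists_delta_exact_of_shortExact {K₁ K₂ K₃ : CochainComplex.Plus C} (f : K₁ ⟶ K₂)
    (g : K₂ ⟶ K₃) (w : f.hom ≫ g.hom = 0) (hS : (ShortComplex.mk f.hom g.hom w).ShortExact)
    (i j : ℤ) (hij : i + 1 = j) :
    ∃ (δ : (HRF F i).obj (DerivedCategory.Plus.Q.obj K₃) ⟶
        (HRF F j).obj (DerivedCategory.Plus.Q.obj K₁))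
      (h₁ : (HRF F i).map (DerivedCategory.Plus.Q.map f) ≫
        (HRF F i).map (DerivedCategory.Plus.Q.map g) = 0)
      (h₂ : (HRF F i).map (DerivedCategory.Plus.Q.map g) ≫ δ = 0)
      (h₃ : δ ≫ (HRF F j).map (DerivedCategory.Plus.Q.map f) = 0),
      (ShortComplex.mk _ _ h₁).Exact ∧ (ShortComplex.mk _ _ h₂).Exact ∧
        (ShortComplex.mk _ _ h₃).Exact :=
  exists_delta_exact F (plusTriangleOfSES f g w hS) (plusTriangleOfSES_distinguished f g w hS)
    i j hij

end triangles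

end Groth.Agent.Lib.Helper8.RDPlus
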