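import Groth.Agent.Lib.Helper8.RDPlus
import Mathlib.CategoryTheory.Preadditive.Injective.Preserves

/-!
# Composition of right derived functors on `D⁺` when the first functor preserves injectives
-/

set_option autoImplicit false
set_option maxSynthPendingDepth 3

open CategoryTheory Limits

namespace Groth.Agent.Lib.Helper8.RDPlus

universe w₁ w₂ w₃ v₁ v₂ v₃ u₁ u₂ u₃

section equivalence

variable {C : Type u₁} [Category.{v₁} C] [Abelian C] [HasDerivedCategory.{w₁} C]
  [EnoughInjectives C]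

instance : (rho C).Faithful where
  map_injective {J₁ J₂} f g h := by
    have hK : CochainComplex.IsKInjective
        (((InjectiveObject.ι C).mapHomotopyCategoryPlus.obj J₂).1.as) := by
      obtain ⟨K, rfl⟩ := HomotopyCategory.Plus.quotient_obj_surjective J₂
      exact inferInstanceAs (CochainComplex.IsKInjective
        (((InjectiveObject.ι C).mapHomologicalComplex (.up ℤ)).obj K.obj))
    apply (InjectiveObject.ι C).mapHomotopyCategoryPlus.map_injective
    exact (DerivedCategory.Plus.Qh_map_bijective_of_isKInjective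
      ((InjectiveObject.ι C).mapHomotopyCategoryPlus.obj J₁)
      ((InjectiveObject.ι C).mapHomotopyCategoryPlus.obj J₂) hK).1 h

instance : (rho C).IsEquivalence where

/-- Natural isomorphisms of functors out of `D⁺(C)` can be checked on complexes of injectives. -/
noncomputable def natIsoOfRho {E : Type*} [Category E] {H₁ H₂ : DerivedCategory.Plus C ⥤ E}
    (φ : rho C ⋙ H₁ ≅ rho C ⋙ H₂) : H₁ ≅ H₂ :=
  ((rho C).asEquivalence.invFunIdAssoc H₁).symm ≪≫
    Functor.isoWhiskerLeft (rho C).asEquivalence.inverse φ ≪≫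
    (rho C).asEquivalence.invFunIdAssoc H₂

end equivalence

section comp

variable {A : Type u₁} [Category.{v₁} A] [Abelian A] [HasDerivedCategory.{w₁} A]
  [EnoughInjectives A]
  {B : Type u₂} [Category.{v₂} B] [Abelian B] [HasDerivedCategory.{w₂} B] [EnoughInjectives B]
  {E : Type u₃} [Category.{v₃} E] [Abelian E] [HasDerivedCategory.{w₃} E]
  (F : A ⥤ B) [F.Additive] [F.PreservesInjectiveObjects] (G : B ⥤ E) [G.Additive]

/-- The functor induced on injective objects by a functor preserving injectives. -/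
noncomputable def injFunctor : InjectiveObject A ⥤ InjectiveObject B :=
  ObjectProperty.lift _ (InjectiveObject.ι A ⋙ F) (fun X => F.injective_obj_of_injective X.2)

instance : (injFunctor F).Additive := by
  dsimp only [injFunctor]
  infer_instance

/-- `F_inj ⋙ ι ≅ ι ⋙ F`. -/
noncomputable def injFunctorCompι :
    injFunctor F ⋙ InjectiveObject.ι B ≅ InjectiveObject.ι A ⋙ F :=
  ObjectProperty.liftCompιIso _ _ _

/-- `K⁺(ι) ⋙ K⁺(F) ≅ K⁺(F_inj) ⋙ K⁺(ι)`. -/
noncomputable def iso1 :
    (InjectiveObject.ι A).mapHomotopyCategoryPlus ⋙ F.mapHomotopyCategoryPlus ≅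
      (injFunctor F).mapHomotopyCategoryPlus ⋙ (InjectiveObject.ι B).mapHomotopyCategoryPlus :=
  Functor.mapHomotopyCategoryPlusCompIso (Iso.refl (InjectiveObject.ι A ⋙ F)) ≪≫
    (Functor.mapHomotopyCategoryPlusCompIso (injFunctorCompι F)).symm

/-- `ρ ⋙ RF ⋙ RG ≅ ρ ⋙ R(F ⋙ G)` when `F` preserves injectives. -/
noncomputable def rhoCompIso :
    rho A ⋙ (F.rightDerivedFunctorPlus ⋙ G.rightDerivedFunctorPlus) ≅
      rho A ⋙ (F ⋙ G).rightDerivedFunctorPlus :=
  (show rho A ⋙ (F.rightDerivedFunctorPlus ⋙ G.rightDerivedFunctorPlus) ≅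
      (rho A ⋙ F.rightDerivedFunctorPlus) ⋙ G.rightDerivedFunctorPlus from Iso.refl _) ≪≫
    Functor.isoWhiskerRight (unitNatIso F).symm G.rightDerivedFunctorPlus ≪≫
    (show GG F ⋙ G.rightDerivedFunctorPlus ≅
      ((InjectiveObject.ι A).mapHomotopyCategoryPlus ⋙ F.mapHomotopyCategoryPlus) ⋙
        (DerivedCategory.Plus.Qh ⋙ G.rightDerivedFunctorPlus) from Iso.refl _) ≪≫
    Functor.isoWhiskerRight (iso1 F) (DerivedCategory.Plus.Qh ⋙ G.rightDerivedFunctorPlus) ≪≫
    (show ((injFunctor F).mapHomotopyCategoryPlus ⋙ (InjectiveObject.ι B).mapHomotopyCategoryPlus) ⋙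
        (DerivedCategory.Plus.Qh ⋙ G.rightDerivedFunctorPlus) ≅
      (injFunctor F).mapHomotopyCategoryPlus ⋙ (rho B ⋙ G.rightDerivedFunctorPlus) from
        Iso.refl _) ≪≫
    Functor.isoWhiskerLeft (injFunctor F).mapHomotopyCategoryPlus (unitNatIso G).symm ≪≫
    (show (injFunctor F).mapHomotopyCategoryPlus ⋙ GG G ≅
      ((injFunctor F).mapHomotopyCategoryPlus ⋙ (InjectiveObject.ι B).mapHomotopyCategoryPlus) ⋙
        (G.mapHomotopyCategoryPlus ⋙ DerivedCategory.Plus.Qh) from Iso.refl _) ≪≫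
    Functor.isoWhiskerRight (iso1 F).symm (G.mapHomotopyCategoryPlus ⋙ DerivedCategory.Plus.Qh) ≪≫
    (show ((InjectiveObject.ι A).mapHomotopyCategoryPlus ⋙ F.mapHomotopyCategoryPlus) ⋙
        (G.mapHomotopyCategoryPlus ⋙ DerivedCategory.Plus.Qh) ≅
      (InjectiveObject.ι A).mapHomotopyCategoryPlus ⋙
        ((F.mapHomotopyCategoryPlus ⋙ G.mapHomotopyCategoryPlus) ⋙ DerivedCategory.Plus.Qh) from
        Iso.refl _) ≪≫
    Functor.isoWhiskerLeft (InjectiveObject.ι A).mapHomotopyCategoryPlus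
      (Functor.isoWhiskerRight (Functor.mapHomotopyCategoryPlusCompIso (Iso.refl (F ⋙ G)))
        DerivedCategory.Plus.Qh) ≪≫
    unitNatIso (F ⋙ G)

/-- If `F` preserves injective objects, `RF ⋙ RG ≅ R(F ⋙ G)` on bounded below derived
categories. -/
noncomputable def rightDerivedFunctorPlusCompIso :
    F.rightDerivedFunctorPlus ⋙ G.rightDerivedFunctorPlus ≅ (F ⋙ G).rightDerivedFunctorPlus :=
  natIsoOfRho (rhoCompIso F G)

end comp

end Groth.Agent.Lib.Helper8.RDPlus
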