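import Mathlib
import Groth.Prelude.Def_RelSpec2
import Groth.Agent.Lib.Helper8.RelCone

set_option autoImplicit false
universe u
open CategoryTheory CategoryTheory.Limits AlgebraicGeometry Opposite TopologicalSpace
open scoped HomogeneousIdeal

namespace Groth.Agent.Lib.Helper8.RelCone2

open RelSpec

theorem map_mem_irrelevant {A B σ τ : Type*} [CommRing A] [SetLike σ A] [AddSubgroupClass σ A]
    {𝒜 : ℕ → σ} [GradedRing 𝒜] [CommRing B] [SetLike τ B] [AddSubgroupClass τ B]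
    {ℬ : ℕ → τ} [GradedRing ℬ] (f : 𝒜 →+*ᵍ ℬ) {x : A} (hx : x ∈ 𝒜₊) : f x ∈ ℬ₊ := by
  have h : 𝒜₊.toIdeal ≤ (ℬ₊.toIdeal).comap (f : A →+* B) := by
    rw [HomogeneousIdeal.toIdeal_irrelevant_le]
    intro i hi y hy
    exact HomogeneousIdeal.mem_irrelevant_of_mem _ hi (f.map_mem hy)
  exact h hx

variable {Y : Scheme.{u}} (𝒮 : RelProj.QCGrAlg Y)

theorem mem_vertexCompl_iff {R : CommRingCat.{u}} (𝒜 : ℕ → AddSubgroup R) [GradedRing 𝒜]
    (p : Spec R) :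
    p ∈ RelCone.vertexCompl 𝒜 ↔ ¬ ((HomogeneousIdeal.irrelevant 𝒜).toIdeal ≤ p.asIdeal) :=
  Iff.rfl

/-- chart independence for a basic open. -/
theorem mem_vertexCompl_res_iff (U : Y.Opens) (hU : IsAffineOpen U) (r : Γ(Y, U))
    (w : Spec (𝒮.presheaf.obj (op (Y.basicOpen r)))) :
    (Spec.map (𝒮.presheaf.map (homOfLE (Y.basicOpen_le r)).op)).base w ∈
        RelCone.vertexCompl (𝒮.deg U hU) ↔
      w ∈ RelCone.vertexCompl (𝒮.deg (Y.basicOpen r) (hU.basicOpen r)) := by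
  rw [mem_vertexCompl_iff, mem_vertexCompl_iff, not_iff_not]
  constructor
  · intro h
    have h1 := 𝒮.irrelevant_le_map U hU r
    have h2 : ((𝒮.deg U hU)₊.toIdeal).map
        (𝒮.res hU (hU.basicOpen r) (Y.basicOpen_le r)) ≤ w.asIdeal :=
      Ideal.map_le_iff_le_comap.mpr h
    exact le_trans h1 h2
  · intro h x hx
    have := map_mem_irrelevant (𝒮.res hU (hU.basicOpen r) (Y.basicOpen_le r)) hx
    exact h this

theorem mem_vertexCompl_res_iff' (U : Y.Opens) (hU : IsAffineOpen U) (r : Γ(Y, U))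
    (W : Y.Opens) (hW : IsAffineOpen W) (hWr : Y.basicOpen r = W) (hle : W ≤ U)
    (w : Spec (𝒮.presheaf.obj (op W))) :
    (Spec.map (𝒮.presheaf.map (homOfLE hle).op)).base w ∈ RelCone.vertexCompl (𝒮.deg U hU) ↔
      w ∈ RelCone.vertexCompl (𝒮.deg W hW) := by
  subst hWr
  exact mem_vertexCompl_res_iff 𝒮 U hU r w

theorem ι_res' (A : QCAlg Y) (U : Y.Opens) (hU : IsAffineOpen U) (r : Γ(Y, U))
    (W : Y.Opens) (hW : IsAffineOpen W) (hWr : Y.basicOpen r = W) (hle : W ≤ U) :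
    Spec.map (A.presheaf.map (homOfLE hle).op) ≫ A.ι U hU = A.ι W hW :=
  A.ι_res (U := ⟨U, hU⟩) (V := ⟨W, hW⟩) (homOfLE ⟨r, hWr⟩)

theorem mem_range_ι_iff (A : QCAlg Y) (U : Y.Opens) (hU : IsAffineOpen U) (c : A.spec) :
    c ∈ Set.range (A.ι U hU).base ↔ A.π.base c ∈ U := by
  have := A.π_preimage U hU
  have h2 : c ∈ A.π ⁻¹ᵁ U ↔ c ∈ (A.ι U hU).opensRange := by rw [this]
  exact h2.symm

theorem ι_mem_pointedCone_iff (U₁ : Y.Opens) (hU₁ : IsAffineOpen U₁)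
    (p₁ : Spec (𝒮.presheaf.obj (op U₁))) :
    (𝒮.toQCAlg.ι U₁ hU₁).base p₁ ∈ RelCone.pointedCone 𝒮 ↔
      p₁ ∈ RelCone.vertexCompl (𝒮.deg U₁ hU₁) := by
  constructor
  · intro h
    rw [RelCone.pointedCone, Opens.mem_iSup] at h
    obtain ⟨⟨U, hU'⟩, p, hp, hpe⟩ := h
    have hU : IsAffineOpen U := hU'
    change (𝒮.toQCAlg.ι U hU).base p = (𝒮.toQCAlg.ι U₁ hU₁).base p₁ at hpe
    change p ∈ RelCone.vertexCompl (𝒮.deg U hU) at hp
    set c := (𝒮.toQCAlg.ι U₁ hU₁).base p₁ with hc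
    have hyU : 𝒮.toQCAlg.π.base c ∈ U := (mem_range_ι_iff _ U hU c).mp ⟨p, hpe⟩
    have hyU₁ : 𝒮.toQCAlg.π.base c ∈ U₁ := (mem_range_ι_iff _ U₁ hU₁ c).mp ⟨p₁, rfl⟩
    obtain ⟨r, r₁, hrr, hy⟩ := exists_basicOpen_le_affine_inter hU hU₁ _ ⟨hyU, hyU₁⟩
    have hW : IsAffineOpen (Y.basicOpen r) := hU.basicOpen r
    obtain ⟨w, hw⟩ := (mem_range_ι_iff _ _ hW c).mpr hy
    have e1 := ι_res' 𝒮.toQCAlg U hU r _ hW rfl (Y.basicOpen_le r)
    have e2 := ι_res' 𝒮.toQCAlg U₁ hU₁ r₁ _ hW hrr.symm (hrr ▸ Y.basicOpen_le r₁)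
    have hp' : p = (Spec.map (𝒮.presheaf.map (homOfLE (Y.basicOpen_le r)).op)).base w := by
      apply (𝒮.toQCAlg.ι U hU).isOpenEmbedding.injective
      rw [hpe, ← hw, ← e1]
      rfl
    have hp₁' : p₁ = (Spec.map (𝒮.presheaf.map
        (homOfLE (hrr ▸ Y.basicOpen_le r₁ : Y.basicOpen r ≤ U₁)).op)).base w := by
      apply (𝒮.toQCAlg.ι U₁ hU₁).isOpenEmbedding.injective
      rw [← hc, ← hw, ← e2]
      rfl
    rw [hp', mem_vertexCompl_res_iff' 𝒮 U hU r _ hW rfl] at hp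
    rw [hp₁', mem_vertexCompl_res_iff' 𝒮 U₁ hU₁ r₁ _ hW hrr.symm]
    exact hp
  · intro h
    rw [RelCone.pointedCone, Opens.mem_iSup]
    exact ⟨⟨U₁, hU₁⟩, p₁, h, rfl⟩

end Groth.Agent.Lib.Helper8.RelCone2

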