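import Mathlib

set_option backward.isDefEq.respectTransparency.types false
set_option autoImplicit false
set_option linter.unusedSectionVars false
set_option linter.style.haveILetI false

universe u

namespace Groth.Agent.Lib.Helper8.SOP1

variable {A : Type u} [CommRing A]

/-- prime avoidance for a finite set of primes -/
theorem exists_mem_notMem (F : Set (Ideal A)) (hF : F.Finite) (hFp : ∀ P ∈ F, P.IsPrime)
    (b : Ideal A) (hb : ∀ P ∈ F, ¬ b ≤ P) : ∃ z ∈ b, ∀ P ∈ F, z ∉ P := by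
  classical
  by_contra hcon
  push Not at hcon
  have hsub : (b : Set A) ⊆ ⋃ P ∈ (↑hF.toFinset : Set (Ideal A)), (id P : Ideal A) := by
    intro z hz
    obtain ⟨P, hP, hzP⟩ := hcon z hz
    simp only [Set.mem_iUnion]
    exact ⟨P, by simpa using hP, hzP⟩
  by_cases hne : F.Nonempty
  · obtain ⟨P0, hP0⟩ := hne
    rw [Ideal.subset_union_prime (f := id) P0 P0 (fun i hi _ _ => hFp i (by simpa using hi))] at hsub
    obtain ⟨P, hP, hbP⟩ := hsub
    exact hb P (by simpa using hP) hbP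
  · rw [Set.not_nonempty_iff_eq_empty] at hne
    obtain ⟨P, hP, -⟩ := hcon 0 b.zero_mem
    rw [hne] at hP
    exact hP

/-- dimension drops when cutting by an element avoiding all minimal primes -/
theorem ringKrullDim_quotient_sup_succ_le (I : Ideal A) (z : A)
    (hz : ∀ P ∈ I.minimalPrimes, z ∉ P) :
    ringKrullDim (A ⧸ (I ⊔ Ideal.span {z})) + 1 ≤ ringKrullDim (A ⧸ I) := by
  by_cases hr' : I ⊔ Ideal.span {z} = ⊤
  · rw [hr', ringKrullDim_eq_bot_of_subsingleton]
    simp
  have hne : Nonempty (PrimeSpectrum.zeroLocus (R := A) (I ⊔ Ideal.span {z} : Ideal A)) := by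
    rwa [Set.nonempty_coe_sort, Set.nonempty_iff_ne_empty, ne_eq,
      PrimeSpectrum.zeroLocus_empty_iff_eq_top]
  have hne2 : Nonempty (PrimeSpectrum.zeroLocus (R := A) (I : Set A)) := by
    obtain ⟨⟨q, hq⟩⟩ := hne
    refine ⟨⟨q, ?_⟩⟩
    rw [PrimeSpectrum.mem_zeroLocus] at hq ⊢
    exact fun a ha => hq (Ideal.mem_sup_left ha)
  rw [ringKrullDim_quotient, ringKrullDim_quotient, Order.krullDim_eq_iSup_length,
    Order.krullDim_eq_iSup_length, ← WithBot.coe_one, ← WithBot.coe_add,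
    ENat.iSup_add, WithBot.coe_le_coe, iSup_le_iff]
  intro l
  have hl : I ⊔ Ideal.span {z} ≤ l.head.1.asIdeal := by
    have := l.head.2
    rw [PrimeSpectrum.mem_zeroLocus] at this
    exact this
  obtain ⟨p, hp, hp'⟩ := Ideal.exists_minimalPrimes_le (J := l.head.1.asIdeal)
    (le_trans le_sup_left hl)
  have hpI : (⟨p, hp.1.1⟩ : PrimeSpectrum A) ∈ PrimeSpectrum.zeroLocus (R := A) (I : Set A) := by
    rw [PrimeSpectrum.mem_zeroLocus]
    exact hp.1.2
  let p' : PrimeSpectrum.zeroLocus (R := A) (I : Set A) := ⟨⟨p, hp.1.1⟩, hpI⟩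
  have hmem : ∀ q ∈ PrimeSpectrum.zeroLocus (R := A) (I ⊔ Ideal.span {z} : Ideal A),
      q ∈ PrimeSpectrum.zeroLocus (R := A) (I : Set A) := by
    intro q hq
    rw [PrimeSpectrum.mem_zeroLocus] at hq ⊢
    exact fun a ha => hq (Ideal.mem_sup_left ha)
  let φ : PrimeSpectrum.zeroLocus (R := A) (I ⊔ Ideal.span {z} : Ideal A) →
      PrimeSpectrum.zeroLocus (R := A) (I : Set A) := fun q => ⟨q.1, hmem q.1 q.2⟩
  have hφ : StrictMono φ := fun a b hab => hab
  have hzl : z ∈ l.head.1.asIdeal := hl (Ideal.mem_sup_right (Ideal.mem_span_singleton_self z))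
  have hp'' : p' < φ l.head := by
    refine lt_of_le_of_ne hp' fun h => hz p hp ?_
    have h2 : p = l.head.1.asIdeal := by
      have := congrArg (fun q : PrimeSpectrum.zeroLocus (R := A) (I : Set A) => q.1.asIdeal) h
      exact this
    rw [h2]
    exact hzl
  refine le_trans ?_ (le_iSup _ ((l.map φ hφ).cons p' hp''))
  simp

/-- heights of (selected) minimal primes grow when cutting by an element avoiding them -/
theorem height_step (G : Ideal A → Prop)
    (hG : ∀ P P' : Ideal A, P.IsPrime → P'.IsPrime → P ≤ P' → G P' → G P)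
    (I : Ideal A) (n : ℕ∞) (hI : ∀ P ∈ I.minimalPrimes, G P → n ≤ P.height) (z : A)
    (hz : ∀ P ∈ I.minimalPrimes, G P → z ∉ P) :
    ∀ P ∈ (I ⊔ Ideal.span {z}).minimalPrimes, G P → n + 1 ≤ P.height := by
  intro P' hP' hGP'
  haveI := hP'.1.1
  obtain ⟨P, hP, hPP'⟩ := Ideal.exists_minimalPrimes_le (J := P') (le_trans le_sup_left hP'.1.2)
  haveI := hP.1.1
  have hGP : G P := hG P P' hP.1.1 hP'.1.1 hPP' hGP'
  have hzP' : z ∈ P' := hP'.1.2 (Ideal.mem_sup_right (Ideal.mem_span_singleton_self z))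
  have hlt : P < P' := lt_of_le_of_ne hPP' fun h => hz P hP hGP (h ▸ hzP')
  exact le_trans (by gcongr; exact hI P hP hGP) (Ideal.height_add_one_le_of_lt_of_isPrime hlt)

end Groth.Agent.Lib.Helper8.SOP1
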