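import Mathlib
import Groth.Agent.Lib.Helper8.SOP1

set_option backward.isDefEq.respectTransparency.types false
set_option autoImplicit false
set_option linter.unusedSectionVars false
set_option linter.style.haveILetI false

universe u

namespace Groth.Agent.Lib.Helper8.SOP2

open Groth.Agent.Lib.Helper8.SOP1

variable {A : Type u} [CommRing A]

theorem isMaximal_of_jacobson_le [Finite (MaximalSpectrum A)] (P : Ideal A) [hP : P.IsPrime]
    (h : Ring.jacobson A ≤ P) : P.IsMaximal := by
  classical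
  haveI : Finite {I : Ideal A // I.IsMaximal} := Finite.of_equiv _ (MaximalSpectrum.equivSubtype A)
  have hfin : {I : Ideal A | I.IsMaximal}.Finite := Set.finite_coe_iff.mp this
  rw [Ring.jacobson_eq_sInf_isMaximal] at h
  have h2 : hfin.toFinset.inf id ≤ P := by
    rw [Finset.inf_id_eq_sInf]
    simpa using h
  rw [Ideal.IsPrime.inf_le' hP] at h2
  obtain ⟨m, hm, hmP⟩ := h2
  have hm' : m.IsMaximal := by simpa using hm
  have : m = P := hm'.eq_of_le hP.ne_top hmP
  exact this ▸ hm'

theorem isFiniteLength_quotient [IsNoetherianRing A] (I : Ideal A)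
    (h : ∀ P ∈ I.minimalPrimes, P.IsMaximal) : IsFiniteLength A (A ⧸ I) := by
  haveI : Ring.KrullDimLE 0 (A ⧸ I) := by
    refine Ring.KrullDimLE.mk₀ fun Q hQ => ?_
    have hq : (Q.comap (Ideal.Quotient.mk I)).IsPrime := Ideal.IsPrime.comap _
    have hIq : I ≤ Q.comap (Ideal.Quotient.mk I) := by
      intro a ha
      rw [Ideal.mem_comap, Ideal.Quotient.eq_zero_iff_mem.mpr ha]
      exact Q.zero_mem
    obtain ⟨P, hP, hPq⟩ := Ideal.exists_minimalPrimes_le hIq
    have hPm := h P hP
    have hPeq : P = Q.comap (Ideal.Quotient.mk I) := hPm.eq_of_le hq.ne_top hPq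
    have hqm : (Q.comap (Ideal.Quotient.mk I)).IsMaximal := hPeq ▸ hPm
    have := Ideal.map_eq_top_or_isMaximal_of_surjective (Ideal.Quotient.mk I)
      Ideal.Quotient.mk_surjective hqm
    rw [Ideal.map_comap_of_surjective _ Ideal.Quotient.mk_surjective] at this
    rcases this with h1 | h1
    · exact absurd h1 hQ.ne_top
    · exact h1
  haveI : IsArtinianRing (A ⧸ I) := IsNoetherianRing.isArtinianRing_of_krullDimLE_zero
  haveI : IsArtinian A (A ⧸ I) :=
    isArtinian_of_surjective_algebraMap (S := A) (R := A ⧸ I) (M := A ⧸ I)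
      Ideal.Quotient.mk_surjective
  rw [isFiniteLength_iff_isNoetherian_isArtinian]
  exact ⟨inferInstance, inferInstance⟩

theorem exists_nat_ringKrullDim [IsNoetherianRing A] [Finite (MaximalSpectrum A)] [Nontrivial A] :
    ∃ d : ℕ, ringKrullDim A = d := by
  haveI : Nonempty (MaximalSpectrum A) := by
    obtain ⟨m, hm⟩ := Ideal.exists_maximal A
    exact ⟨⟨m, hm⟩⟩
  obtain ⟨m0, hm0⟩ := Finite.exists_max (fun m : MaximalSpectrum A => m.asIdeal.height)
  haveI := m0.isMaximal
  have hfin : m0.asIdeal.height ≠ ⊤ := Ideal.height_ne_top m0.isMaximal.ne_top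
  obtain ⟨d, hd⟩ := ENat.ne_top_iff_exists.mp hfin
  refine ⟨d, le_antisymm ?_ ?_⟩
  · rw [ringKrullDim_le_iff_isMaximal_height_le]
    intro m hm
    have := hm0 ⟨m, hm⟩
    simp only at this
    rw [← hd] at this
    exact_mod_cast this
  · have := Ideal.height_le_ringKrullDim_of_ne_top m0.isMaximal.ne_top
    rw [← hd] at this
    exact this

section

variable [IsNoetherianRing A] [Finite (MaximalSpectrum A)]

/-- the invariant -/
def Q (I : Ideal A) (n : ℕ∞) : Prop := ∀ P ∈ I.minimalPrimes, ¬ P.IsMaximal → n ≤ P.height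

theorem hG : ∀ P P' : Ideal A, P.IsPrime → P'.IsPrime → P ≤ P' → ¬ P'.IsMaximal → ¬ P.IsMaximal := by
  intro P P' _ hP' hle hn hm
  exact hn ((hm.eq_of_le hP'.ne_top hle) ▸ hm)

theorem step (I b : Ideal A) (n : ℕ∞) (hI : Q I n)
    (hb : ∀ P ∈ I.minimalPrimes, ¬ P.IsMaximal → ¬ b ≤ P) :
    ∃ z ∈ b, Q (I ⊔ Ideal.span {z}) (n + 1) := by
  have hfin : {P | P ∈ I.minimalPrimes ∧ ¬ P.IsMaximal}.Finite :=
    (Ideal.finite_minimalPrimes_of_isNoetherianRing A I).subset fun P hP => hP.1
  obtain ⟨z, hzb, hz⟩ := exists_mem_notMem {P | P ∈ I.minimalPrimes ∧ ¬ P.IsMaximal} hfin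
    (fun P hP => hP.1.1.1) b (fun P hP => hb P hP.1 hP.2)
  refine ⟨z, hzb, ?_⟩
  exact height_step (fun P => ¬ P.IsMaximal) hG I n hI z (fun P hP hPm => hz P ⟨hP, hPm⟩)

theorem phase1 (a : Ideal A) (h : ℕ) (hh : a.height = h) :
    ∀ n : ℕ, n ≤ h → ∃ x : Fin n → A, (∀ i, x i ∈ a) ∧ (∀ i, x i ∈ Ring.jacobson A) ∧
      Q (Ideal.span (Set.range x)) n := by
  intro n
  induction n with
  | zero =>
    intro _
    refine ⟨fun i => i.elim0, fun i => i.elim0, fun i => i.elim0, ?_⟩
    intro P _ _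
    simp
  | succ n ih =>
    intro hn
    obtain ⟨x, hxa, hxJ, hQ⟩ := ih (by omega)
    have hb : ∀ P ∈ (Ideal.span (Set.range x)).minimalPrimes, ¬ P.IsMaximal →
        ¬ (a ⊓ Ring.jacobson A) ≤ P := by
      intro P hP hPm hle
      haveI := hP.1.1
      rcases (Ideal.IsPrime.inf_le hP.1.1).mp hle with h1 | h1
      · have h2 : a.height ≤ P.height := Ideal.height_mono h1
        have h3 : P.height ≤ (Set.range x).ncard :=
          Ideal.height_le_card_of_mem_minimalPrimes_span (Set.finite_range x) hP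
        have h4 : (Set.range x).ncard ≤ n := by
          have := Set.ncard_image_le (f := x) (s := Set.univ) Set.finite_univ
          rw [Set.image_univ] at this
          refine this.trans ?_
          rw [Set.ncard_univ]
          simp
        rw [hh] at h2
        have h5 : (h : ℕ∞) ≤ (n : ℕ∞) := h2.trans (h3.trans (by exact_mod_cast h4))
        have h6 : h ≤ n := by exact_mod_cast h5
        omega
      · exact hPm (isMaximal_of_jacobson_le P h1)
    obtain ⟨z, hzb, hz⟩ := step (Ideal.span (Set.range x)) (a ⊓ Ring.jacobson A) n hQ hb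
    refine ⟨Fin.snoc x z, ?_, ?_, ?_⟩
    · intro i
      refine Fin.lastCases ?_ (fun j => ?_) i
      · simpa using hzb.1
      · simpa using hxa j
    · intro i
      refine Fin.lastCases ?_ (fun j => ?_) i
      · simpa using hzb.2
      · simpa using hxJ j
    · rw [Fin.range_snoc, Ideal.span_insert, sup_comm]
      have : ((n + 1 : ℕ) : ℕ∞) = (n : ℕ∞) + 1 := by push_cast; rfl
      rw [this]
      exact hz

theorem phase2 : ∀ k : ℕ, ∀ (I : Ideal A) (n : ℕ∞), Q I n →
    ∃ ys : List A, ys.length = k ∧ (∀ y ∈ ys, y ∈ Ring.jacobson A) ∧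
      Q (I ⊔ Ideal.ofList ys) (n + k) := by
  intro k
  induction k with
  | zero =>
    intro I n hQ
    refine ⟨[], rfl, by simp, ?_⟩
    simpa using hQ
  | succ k ih =>
    intro I n hQ
    have hb : ∀ P ∈ I.minimalPrimes, ¬ P.IsMaximal → ¬ (Ring.jacobson A) ≤ P := by
      intro P hP hPm hle
      haveI := hP.1.1
      exact hPm (isMaximal_of_jacobson_le P hle)
    obtain ⟨y, hyJ, hy⟩ := step I (Ring.jacobson A) n hQ hb
    obtain ⟨ys, hlen, hys, hQ'⟩ := ih (I ⊔ Ideal.span {y}) (n + 1) hy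
    refine ⟨y :: ys, by simp [hlen], ?_, ?_⟩
    · intro y' hy'
      rcases List.mem_cons.mp hy' with rfl | h1
      · exact hyJ
      · exact hys y' h1
    · rw [Ideal.ofList_cons, ← sup_assoc]
      have : n + ((k + 1 : ℕ) : ℕ∞) = n + 1 + k := by push_cast; ring
      rw [this]
      exact hQ'

theorem main5808 (a : Ideal A) (ha : a ≠ ⊤) (h : ℕ) (hh : a.height = h) (_hpos : 0 < h) :
    ∃ x : Fin h → A, (∀ i, x i ∈ a) ∧ (∀ i, x i ∈ Ring.jacobson A) ∧
      (∃ ys : List A, (∀ y ∈ ys, y ∈ Ring.jacobson A) ∧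
        (((h + ys.length : ℕ) : ℕ∞) : WithBot ℕ∞) = ringKrullDim A ∧
        IsFiniteLength A (A ⧸ (Ideal.span (Set.range x) ⊔ Ideal.ofList ys))) ∧
      (a.map (Ideal.Quotient.mk (Ideal.span (Set.range x)))).height = 0 := by
  haveI : Nontrivial A := by
    by_contra hnt
    rw [not_nontrivial_iff_subsingleton] at hnt
    exact ha (Subsingleton.elim _ _)
  obtain ⟨d, hd⟩ := exists_nat_ringKrullDim (A := A)
  have hhd : h ≤ d := by
    have h1 := Ideal.height_le_ringKrullDim_of_ne_top ha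
    rw [hh, hd] at h1
    exact_mod_cast h1
  obtain ⟨x, hxa, hxJ, hQ⟩ := phase1 a h hh h le_rfl
  obtain ⟨ys, hlen, hys, hQ'⟩ := phase2 (d - h) (Ideal.span (Set.range x)) h hQ
  refine ⟨x, hxa, hxJ, ⟨ys, hys, ?_, ?_⟩, ?_⟩
  · rw [hlen, hd]
    have : h + (d - h) = d := by omega
    rw [this]
    rfl
  · apply isFiniteLength_quotient
    intro P hP
    by_contra hPm
    haveI := hP.1.1
    have h1 := hQ' P hP hPm
    obtain ⟨m, hm, hPm'⟩ := Ideal.exists_le_maximal P hP.1.1.ne_top
    have hlt : P < m := lt_of_le_of_ne hPm' fun e => hPm (e ▸ hm)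
    haveI := hm.isPrime
    have h2 := Ideal.height_add_one_le_of_lt_of_isPrime hlt
    have h3 : (m.height : WithBot ℕ∞) ≤ (d : ℕ) := by
      rw [← hd]
      exact Ideal.height_le_ringKrullDim_of_ne_top hm.ne_top
    have h4 : m.height ≤ (d : ℕ∞) := by exact_mod_cast h3
    have h5 : ((h : ℕ∞) + ((d - h : ℕ) : ℕ∞)) + 1 ≤ (d : ℕ∞) :=
      le_trans (by gcongr) (h2.trans h4)
    have h6 : h + (d - h) + 1 ≤ d := by exact_mod_cast h5
    omega
  · obtain ⟨q, hq, haq, hqh⟩ := Ideal.exists_isPrime_height_eq hh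
    have hIq : Ideal.span (Set.range x) ≤ q := by
      rw [Ideal.span_le]
      rintro _ ⟨i, rfl⟩
      exact haq (hxa i)
    obtain ⟨q', hq', hq'q⟩ := Ideal.exists_minimalPrimes_le hIq
    haveI := hq'.1.1
    have heq : q' = q := by
      by_cases hm : q'.IsMaximal
      · exact hm.eq_of_le hq.ne_top hq'q
      · by_contra hne
        have hlt : q' < q := lt_of_le_of_ne hq'q hne
        have h1 := hQ q' hq' hm
        have h2 := Ideal.height_add_one_le_of_lt_of_isPrime hlt
        rw [hqh] at h2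
        have h3 : (h : ℕ∞) + 1 ≤ h := le_trans (by gcongr) h2
        have h4 : h + 1 ≤ h := by exact_mod_cast h3
        omega
    rw [heq] at hq'
    rw [Ideal.minimalPrimes_eq_comap] at hq'
    obtain ⟨Q', hQ'm, hQ'q⟩ := hq'
    haveI := hQ'm.1.1
    have hle : a.map (Ideal.Quotient.mk (Ideal.span (Set.range x))) ≤ Q' := by
      rw [Ideal.map_le_iff_le_comap, hQ'q]
      exact haq
    have h0 : Q'.height = 0 := Ideal.height_eq_zero_iff.mpr hQ'm
    have := Ideal.height_mono hle
    rw [h0] at this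
    exact le_antisymm this zero_le

end

end Groth.Agent.Lib.Helper8.SOP2
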