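import Mathlib
import Groth.Agent.Lib.Helper8.SOP1
import Groth.Agent.Lib.Helper16.CMHeightFormula

set_option backward.isDefEq.respectTransparency.types false
set_option autoImplicit false
set_option linter.unusedSectionVars false
set_option linter.style.haveILetI false

universe u

namespace Groth.Agent.Lib.Helper8.SOP3

open Groth.Agent.Lib.Helper8.SOP1

/-- in a CM local ring, the next parameter avoids all minimal primes of the previous ones -/
theorem notMem_minimalPrimes_of_sop (R : Type u) [CommRing R]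
    [hCM : LocCoh.IsCohenMacaulayLocalRing R] (s : ℕ)
    (hs : ringKrullDim R = s) (t : Fin s → R)
    (hsop : ringKrullDim (R ⧸ Ideal.span (Set.range t)) = 0) (i : Fin s)
    (𝔓 : Ideal R) (h𝔓 : 𝔓 ∈ (Ideal.span (t '' {j | j < i})).minimalPrimes)
    (ht : ∀ i, t i ∈ IsLocalRing.maximalIdeal R) : t i ∉ 𝔓 := by
  classical
  intro hti
  haveI := h𝔓.1.1
  have hCM' : LocCoh.IsCohenMacaulayModule R R := hCM.supportDim_eq_depth
  have hform := Groth.Agent.Lib.Helper16.CMHt.height_add_ringKrullDim_quotient_prime R hCM' 𝔓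
  -- height bound
  have h1 : 𝔓.height ≤ ((i : ℕ) : ℕ∞) := by
    have hfin : (t '' {j | j < i}).Finite := Set.Finite.image _ (Set.toFinite _)
    have h := Ideal.height_le_card_of_mem_minimalPrimes_span hfin h𝔓
    have h' : (t '' {j | j < i}).ncard ≤ (i : ℕ) := by
      refine (Set.ncard_image_le (Set.toFinite _)).trans ?_
      have : {j : Fin s | j < i} = ((Finset.Iio i : Finset (Fin s)) : Set (Fin s)) := by
        ext j; simp
      rw [this, Set.ncard_coe_finset, Fin.card_Iio]
    exact h.trans (by exact_mod_cast h')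
  -- dimension bound
  set S' : Set (R ⧸ 𝔓) := (fun j => Ideal.Quotient.mk 𝔓 (t j)) '' {j | i < j} with hS'
  haveI : RingHomSurjective (Ideal.Quotient.mk 𝔓) := ⟨Ideal.Quotient.mk_surjective⟩
  have hjac : S' ⊆ Ring.jacobson (R ⧸ 𝔓) := by
    rintro _ ⟨j, -, rfl⟩
    have h2 : t j ∈ Ring.jacobson R := by
      rw [Ring.jacobson_eq_sInf_isMaximal, Submodule.mem_sInf]
      intro m hm
      have hm' : Ideal.IsMaximal m := hm
      rw [IsLocalRing.eq_maximalIdeal hm']
      exact ht j
    exact Ring.le_comap_jacobson (Ideal.Quotient.mk 𝔓) h2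
  have h2 := ringKrullDim_le_ringKrullDim_quotient_add_encard S' hjac
  have hcard : S'.encard ≤ ((s - i - 1 : ℕ) : ℕ∞) := by
    refine (Set.encard_image_le _ _).trans ?_
    have : {j : Fin s | i < j} = ((Finset.Ioi i : Finset (Fin s)) : Set (Fin s)) := by
      ext j; simp
    rw [this, Set.encard_coe_eq_coe_finsetCard, Fin.card_Ioi]
    have : s - 1 - (i : ℕ) = s - i - 1 := by omega
    rw [this]
  have hdim0 : ringKrullDim ((R ⧸ 𝔓) ⧸ Ideal.span S') ≤ 0 := by
    rw [← hsop]
    let f : R →+* (R ⧸ 𝔓) ⧸ Ideal.span S' :=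
      (Ideal.Quotient.mk (Ideal.span S')).comp (Ideal.Quotient.mk 𝔓)
    have hf : ∀ a ∈ Ideal.span (Set.range t), f a = 0 := by
      intro a ha
      have hle : Ideal.span (Set.range t) ≤ RingHom.ker f := by
        rw [Ideal.span_le]
        rintro _ ⟨j, rfl⟩
        change f (t j) = 0
        rcases lt_trichotomy j i with hji | hji | hji
        · have : t j ∈ 𝔓 := h𝔓.1.2 (Ideal.subset_span ⟨j, hji, rfl⟩)
          simp only [f, RingHom.comp_apply]
          rw [Ideal.Quotient.eq_zero_iff_mem.mpr this, map_zero]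
        · subst hji
          simp only [f, RingHom.comp_apply]
          rw [Ideal.Quotient.eq_zero_iff_mem.mpr hti, map_zero]
        · simp only [f, RingHom.comp_apply]
          rw [Ideal.Quotient.eq_zero_iff_mem]
          exact Ideal.subset_span ⟨j, hji, rfl⟩
      exact hle ha
    refine ringKrullDim_le_of_surjective (Ideal.Quotient.lift _ f hf) ?_
    apply Ideal.Quotient.lift_surjective_of_surjective
    exact (Ideal.Quotient.mk_surjective).comp Ideal.Quotient.mk_surjective
  have h3 : ringKrullDim (R ⧸ 𝔓) ≤ (((s - i - 1 : ℕ) : ℕ∞) : WithBot ℕ∞) := by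
    calc ringKrullDim (R ⧸ 𝔓) ≤ _ := h2
      _ ≤ 0 + (((s - i - 1 : ℕ) : ℕ∞) : WithBot ℕ∞) := add_le_add hdim0 (by exact_mod_cast hcard)
      _ = _ := zero_add _
  rw [hs] at hform
  have h4 : ((s : ℕ) : WithBot ℕ∞) ≤ ((((i : ℕ) : ℕ∞) : WithBot ℕ∞)) +
      (((s - i - 1 : ℕ) : ℕ∞) : WithBot ℕ∞) := by
    rw [← hform]
    exact add_le_add (by exact_mod_cast h1) h3
  have h5 : s ≤ (i : ℕ) + (s - i - 1) := by exact_mod_cast h4
  have := i.isLt
  omega

section step

variable {A : Type u} [CommRing A] [IsNoetherianRing A] (p : Ideal A) [hp : p.IsPrime]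
  (R : Type u) [CommRing R] [Algebra A R] [IsLocalization.AtPrime R p] [IsLocalRing R]

theorem le_of_comap_map_le (I P : Ideal A) (hP : P ∈ I.minimalPrimes)
    (hJ : (I.map (algebraMap A R)).comap (algebraMap A R) ≤ P) : P ≤ p := by
  have hPJ : P ∈ ((I.map (algebraMap A R)).comap (algebraMap A R)).minimalPrimes := by
    refine ⟨⟨hP.1.1, hJ⟩, fun Q hQ hQP => hP.2 ⟨hQ.1, Ideal.le_comap_map.trans hQ.2⟩ hQP⟩
  rw [IsLocalization.minimalPrimes_comap p.primeCompl R] at hPJ
  obtain ⟨𝔓, h𝔓, rfl⟩ := hPJ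
  haveI := h𝔓.1.1
  have h1 : 𝔓 ≤ IsLocalRing.maximalIdeal R := IsLocalRing.le_maximalIdeal h𝔓.1.1.ne_top
  have h2 := Ideal.comap_mono (f := algebraMap A R) h1
  have h3 : (IsLocalRing.maximalIdeal R).comap (algebraMap A R) = p :=
    IsLocalization.AtPrime.under_maximalIdeal R p
  rw [h3] at h2
  exact h2

theorem exists_step (I : Ideal A) (hIp : I ≤ p) (τ : R)
    (hτ : τ ∈ IsLocalRing.maximalIdeal R)
    (H : ∀ 𝔓 ∈ (I.map (algebraMap A R)).minimalPrimes, τ ∉ 𝔓) :
    ∃ z c : A, z ∈ p ∧ c ∉ p ∧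
      algebraMap A R z - algebraMap A R c * τ ∈ I.map (algebraMap A R) ∧
      ∀ P ∈ I.minimalPrimes, z ∉ P := by
  classical
  obtain ⟨b, ⟨c, hc⟩, hbc⟩ := IsLocalization.exists_mk'_eq p.primeCompl τ
  have hspec : τ * algebraMap A R c = algebraMap A R b := by
    rw [← hbc]
    exact IsLocalization.mk'_spec R b ⟨c, hc⟩
  have hcp : c ∉ p := hc
  have hcu : IsUnit (algebraMap A R c) := IsLocalization.map_units R (⟨c, hc⟩ : p.primeCompl)
  have hbp : b ∈ p := by
    rw [← IsLocalization.AtPrime.to_map_mem_maximal_iff R p b, ← hspec]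
    exact Ideal.mul_mem_right _ _ hτ
  set J : Ideal A := (I.map (algebraMap A R)).comap (algebraMap A R) with hJ
  have hJp : J ≤ p := by
    intro w hw
    rw [hJ, Ideal.mem_comap] at hw
    rw [← IsLocalization.AtPrime.to_map_mem_maximal_iff R p w,
      ← IsLocalization.AtPrime.map_eq_maximalIdeal p R]
    exact Ideal.map_mono hIp hw
  have hMfin := Ideal.finite_minimalPrimes_of_isNoetherianRing A I
  set S1 : Set (Ideal A) := {P | P ∈ I.minimalPrimes ∧ ¬ P ≤ p ∧ b ∈ P} with hS1
  set S2 : Set (Ideal A) := {P | P ∈ I.minimalPrimes ∧ ¬ P ≤ p ∧ b ∉ P} with hS2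
  have hS1fin : S1.Finite := hMfin.subset fun P hP => hP.1
  have hS2fin : S2.Finite := hMfin.subset fun P hP => hP.1
  have hK : ∀ P' ∈ S1, ¬ (J ⊓ sInf S2) ≤ P' := by
    intro P' hP' hle
    haveI := hP'.1.1.1
    rcases (Ideal.IsPrime.inf_le hP'.1.1.1).mp hle with h1 | h1
    · exact hP'.2.1 (le_of_comap_map_le p R I P' hP'.1 h1)
    · have h2 : hS2fin.toFinset.inf id ≤ P' := by
        rw [Finset.inf_id_eq_sInf]
        simpa using h1
      rw [Ideal.IsPrime.inf_le' hP'.1.1.1] at h2
      obtain ⟨P, hP, hPP'⟩ := h2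
      have hP2 : P ∈ S2 := by simpa using hP
      have h3 : P' ≤ P := hP'.1.2 ⟨hP2.1.1.1, hP2.1.1.2⟩ hPP'
      have h4 : P = P' := le_antisymm hPP' h3
      exact hP2.2.2 (h4 ▸ hP'.2.2)
  obtain ⟨w, hwK, hw⟩ := exists_mem_notMem S1 hS1fin (fun P hP => hP.1.1.1) _ hK
  have hwJ : w ∈ J := hwK.1
  have hwS2 : ∀ P ∈ S2, w ∈ P := fun P hP => (Submodule.mem_sInf.mp hwK.2) P hP
  have hwmap : algebraMap A R w ∈ I.map (algebraMap A R) := by
    rw [hJ, Ideal.mem_comap] at hwJ
    exact hwJ
  refine ⟨b + w, c, p.add_mem hbp (hJp hwJ), hcp, ?_, ?_⟩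
  · have : algebraMap A R (b + w) - algebraMap A R c * τ = algebraMap A R w := by
      rw [map_add, ← hspec]; ring
    rw [this]
    exact hwmap
  · intro P hP hzP
    haveI := hP.1.1
    by_cases hPp : P ≤ p
    · have hdisj : Disjoint (p.primeCompl : Set A) (P : Set A) := by
        rw [Set.disjoint_left]
        intro a ha haP
        exact ha (hPp haP)
      have h𝔓 : P.map (algebraMap A R) ∈ (I.map (algebraMap A R)).minimalPrimes := by
        rw [IsLocalization.minimalPrimes_map p.primeCompl R I, Set.mem_preimage,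
          IsLocalization.under_map_of_isPrime_disjoint p.primeCompl R hP.1.1 hdisj]
        exact hP
      haveI := h𝔓.1.1
      have h1 : algebraMap A R (b + w) ∈ P.map (algebraMap A R) := Ideal.mem_map_of_mem _ hzP
      have h2 : algebraMap A R w ∈ P.map (algebraMap A R) := Ideal.map_mono hP.1.2 hwmap
      have h3 : algebraMap A R b ∈ P.map (algebraMap A R) := by
        have : algebraMap A R b = algebraMap A R (b + w) - algebraMap A R w := by
          rw [map_add]; ring
        rw [this]
        exact Ideal.sub_mem _ h1 h2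
      rw [← hspec] at h3
      rcases h𝔓.1.1.mem_or_mem h3 with h4 | h4
      · exact H _ h𝔓 h4
      · exact h𝔓.1.1.ne_top (Ideal.eq_top_of_isUnit_mem _ h4 hcu)
    · by_cases hbP : b ∈ P
      · have hwP : w ∉ P := hw P ⟨hP, hPp, hbP⟩
        exact hwP (by simpa using P.sub_mem hzP hbP)
      · have hwP : w ∈ P := hwS2 P ⟨hP, hPp, hbP⟩
        exact hbP (by simpa using P.sub_mem hzP hwP)

end step

section main

variable {A : Type u} [CommRing A] [IsNoetherianRing A] [IsLocalRing A] (p : Ideal A)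
  [hp : p.IsPrime]
  (R : Type u) [CommRing R] [Algebra A R] [IsLocalization.AtPrime R p]
  [hCM : LocCoh.IsCohenMacaulayLocalRing R] (s : ℕ)

/-- extension by zero -/
noncomputable def ext0 (t : Fin s → R) : ℕ → R := fun j => if h : j < s then t ⟨j, h⟩ else 0

theorem ext0_val (t : Fin s → R) (i : Fin s) : ext0 R s t i = t i := by
  simp [ext0, i.isLt]

theorem image_ext0 (t : Fin s → R) (i : Fin s) :
    t '' {j | j < i} = ext0 R s t '' Set.Iio (i : ℕ) := by
  ext y
  constructor
  · rintro ⟨j, hj, rfl⟩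
    exact ⟨j, hj, ext0_val R s t j⟩
  · rintro ⟨n, hn, rfl⟩
    have hns : n < s := lt_trans hn i.isLt
    exact ⟨⟨n, hns⟩, hn, (ext0_val R s t ⟨n, hns⟩).symm⟩

theorem Iio_succ (k : ℕ) : Set.Iio (k + 1) = insert k (Set.Iio k) := by
  ext j
  simp only [Set.mem_Iio, Set.mem_insert_iff]
  omega

theorem image_update_Iio_succ {α : Type u} (x : ℕ → α) (k : ℕ) (z : α) :
    Function.update x k z '' Set.Iio (k + 1) = insert z (x '' Set.Iio k) := by
  rw [Iio_succ, Set.image_insert_eq, Function.update_self]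
  congr 1
  apply Set.image_congr
  intro j hj
  have : j ≠ k := ne_of_lt hj
  rw [Function.update_of_ne this]

theorem induction (hs : ringKrullDim R = s) (t : Fin s → R)
    (ht : ∀ i, t i ∈ IsLocalRing.maximalIdeal R)
    (hsop : ringKrullDim (R ⧸ Ideal.span (Set.range t)) = 0) :
    ∀ k : ℕ, k ≤ s → ∃ x a : ℕ → A, (∀ j, x j ∈ p) ∧ (∀ j, a j ∉ p) ∧
      (∀ j < k, algebraMap A R (x j) - algebraMap A R (a j) * ext0 R s t j ∈
        Ideal.span (ext0 R s t '' Set.Iio j)) ∧
      (Ideal.span (x '' Set.Iio k)).map (algebraMap A R) = Ideal.span (ext0 R s t '' Set.Iio k) ∧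
      ringKrullDim (A ⧸ Ideal.span (x '' Set.Iio k)) + (k : WithBot ℕ∞) ≤ ringKrullDim A := by
  intro k
  induction k with
  | zero =>
    intro _
    refine ⟨fun _ => 0, fun _ => 1, fun _ => p.zero_mem, fun _ => ?_, ?_, ?_, ?_⟩
    · exact fun h => hp.ne_top ((Ideal.eq_top_iff_one p).mpr h)
    · intro j hj
      omega
    · simp
    · simp only [Nat.cast_zero, add_zero]
      exact ringKrullDim_le_of_surjective _ Ideal.Quotient.mk_surjective
  | succ k ih =>
    intro hk
    have hks : k < s := by omega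
    obtain ⟨x, a, hx, ha, hcong, hmap, hdim⟩ := ih (by omega)
    set I : Ideal A := Ideal.span (x '' Set.Iio k) with hI
    have hIp : I ≤ p := by
      rw [hI, Ideal.span_le]
      rintro _ ⟨j, -, rfl⟩
      exact hx j
    set τ : R := ext0 R s t k with hτ
    have hτt : τ = t ⟨k, hks⟩ := ext0_val R s t ⟨k, hks⟩
    have hτm : τ ∈ IsLocalRing.maximalIdeal R := hτt ▸ ht _
    have H : ∀ 𝔓 ∈ (I.map (algebraMap A R)).minimalPrimes, τ ∉ 𝔓 := by
      intro 𝔓 h𝔓
      rw [hmap, show Set.Iio k = Set.Iio ((⟨k, hks⟩ : Fin s) : ℕ) from rfl,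
        ← image_ext0 R s t ⟨k, hks⟩] at h𝔓
      rw [hτt]
      exact notMem_minimalPrimes_of_sop R s hs t hsop ⟨k, hks⟩ 𝔓 h𝔓 ht
    obtain ⟨z, c, hzp, hcp, hzc, hzmin⟩ := exists_step p R I hIp τ hτm H
    have hcu : IsUnit (algebraMap A R c) :=
      IsLocalization.map_units R (⟨c, hcp⟩ : p.primeCompl)
    refine ⟨Function.update x k z, Function.update a k c, ?_, ?_, ?_, ?_, ?_⟩
    · intro j
      by_cases hj : j = k
      · subst hj; rw [Function.update_self]; exact hzp
      · rw [Function.update_of_ne hj]; exact hx j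
    · intro j
      by_cases hj : j = k
      · subst hj; rw [Function.update_self]; exact hcp
      · rw [Function.update_of_ne hj]; exact ha j
    · intro j hj
      by_cases hjk : j = k
      · subst hjk
        rw [Function.update_self, Function.update_self, ← hmap]
        exact hzc
      · rw [Function.update_of_ne hjk, Function.update_of_ne hjk]
        exact hcong j (by omega)
    · rw [image_update_Iio_succ, Iio_succ, Set.image_insert_eq, Ideal.span_insert, Ideal.span_insert,
        Ideal.map_sup, Ideal.map_span, Set.image_singleton, ← hI, hmap, ← hτ]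
      rw [hmap] at hzc
      set T : Ideal R := Ideal.span (ext0 R s t '' Set.Iio k) with hT
      obtain ⟨u, hu⟩ := hcu
      apply le_antisymm
      · refine sup_le ?_ le_sup_right
        rw [Ideal.span_singleton_le_iff_mem]
        have : algebraMap A R z = algebraMap A R c * τ +
            (algebraMap A R z - algebraMap A R c * τ) := by ring
        rw [this]
        exact Ideal.add_mem _ (Ideal.mem_sup_left (Ideal.mul_mem_left _ _
          (Ideal.mem_span_singleton_self τ))) (Ideal.mem_sup_right hzc)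
      · refine sup_le ?_ le_sup_right
        rw [Ideal.span_singleton_le_iff_mem]
        have : τ = ((u⁻¹ : Rˣ) : R) * algebraMap A R z -
            ((u⁻¹ : Rˣ) : R) * (algebraMap A R z - algebraMap A R c * τ) := by
          rw [← hu]
          have h1 : ((u⁻¹ : Rˣ) : R) * (u : R) = 1 := by simp
          linear_combination (-τ) * h1
        rw [this]
        exact Ideal.sub_mem _ (Ideal.mem_sup_left (Ideal.mul_mem_left _ _
          (Ideal.mem_span_singleton_self _))) (Ideal.mem_sup_right (Ideal.mul_mem_left _ _ hzc))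
    · rw [image_update_Iio_succ, Ideal.span_insert, sup_comm, ← hI]
      have h1 := ringKrullDim_quotient_sup_succ_le I z hzmin
      have h2 : ((k + 1 : ℕ) : WithBot ℕ∞) = 1 + (k : WithBot ℕ∞) := by push_cast; ring
      rw [h2, ← add_assoc]
      exact le_trans (add_le_add h1 le_rfl) hdim

theorem main5987_aux (hs : ringKrullDim R = s) (t : Fin s → R)
    (ht : ∀ i, t i ∈ IsLocalRing.maximalIdeal R)
    (hsop : ringKrullDim (R ⧸ Ideal.span (Set.range t)) = 0) :
    ∃ x a : Fin s → A, (∀ i, x i ∈ p) ∧ (∀ i, a i ∉ p) ∧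
      ringKrullDim (A ⧸ Ideal.span (Set.range x)) + (s : WithBot ℕ∞) = ringKrullDim A ∧
      ∀ i : Fin s, algebraMap A R (x i) - algebraMap A R (a i) * t i ∈
        Ideal.span (t '' {j : Fin s | j < i}) := by
  obtain ⟨x, a, hx, ha, hcong, -, hdim⟩ := induction p R s hs t ht hsop s le_rfl
  have hrange : Set.range (fun i : Fin s => x i) = x '' Set.Iio s := by
    ext y
    constructor
    · rintro ⟨i, rfl⟩
      exact ⟨i, i.isLt, rfl⟩
    · rintro ⟨n, hn, rfl⟩
      exact ⟨⟨n, hn⟩, rfl⟩
  refine ⟨fun i => x i, fun i => a i, fun i => hx i, fun i => ha i, ?_, ?_⟩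
  · rw [hrange]
    refine le_antisymm hdim ?_
    have hjac : x '' Set.Iio s ⊆ Ring.jacobson A := by
      rintro _ ⟨j, -, rfl⟩
      rw [Ring.jacobson_eq_sInf_isMaximal]
      change x j ∈ sInf {I : Ideal A | I.IsMaximal}
      rw [Submodule.mem_sInf]
      intro m hm
      have hm' : Ideal.IsMaximal m := hm
      rw [IsLocalRing.eq_maximalIdeal hm']
      exact IsLocalRing.le_maximalIdeal hp.ne_top (hx j)
    refine (ringKrullDim_le_ringKrullDim_quotient_add_encard _ hjac).trans ?_
    have hcard : (x '' Set.Iio s).encard ≤ (s : ℕ∞) := by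
      refine (Set.encard_image_le _ _).trans ?_
      have : Set.Iio s = ((Finset.range s : Finset ℕ) : Set ℕ) := by ext; simp
      rw [this, Set.encard_coe_eq_coe_finsetCard, Finset.card_range]
    exact add_le_add le_rfl (by exact_mod_cast hcard)
  · intro i
    have := hcong i i.isLt
    rw [ext0_val, ← image_ext0] at this
    exact this

end main

end Groth.Agent.Lib.Helper8.SOP3
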