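import Mathlib

/-!
# Algebra for "a section with invertible ideal meets the fibre in a regular point of dim 1"

* `mul_mem_map_imp`: if `ψ : B → A` has a "section" `φ : A' → B` (with `ψ ∘ φ` bijective) and
  `ker ψ = (t)` with `t` a nonzerodivisor, then `t * c ∈ I B → c ∈ I B`.
* `pow_notMem_map`: so no power of `t` lies in a proper extended ideal `I B`.
* `isDVR_of_principal`: a Noetherian local ring with principal maximal ideal generated by a
  non-nilpotent element is a DVR.
-/

namespace Groth.Agent.Lib.Helper8.SectionDVR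

open IsLocalRing

theorem mem_map_decomp {A' A B : Type*} [CommRing A'] [CommRing A] [CommRing B]
    (φ : A' →+* B) (ψ : B →+* A) (hsurj : Function.Surjective (ψ.comp φ))
    (t : B) (hker : ∀ b, ψ b = 0 → ∃ c, b = t * c) (I : Ideal A') {z : B} (hz : z ∈ I.map φ) :
    ∃ c ∈ I.map φ, ∃ a ∈ I, z = φ a + t * c := by
  unfold Ideal.map at hz
  induction hz using Submodule.span_induction with
  | mem x hx =>
    obtain ⟨a, ha, rfl⟩ := hx
    exact ⟨0, Ideal.zero_mem _, a, ha, by simp⟩
  | zero => exact ⟨0, Ideal.zero_mem _, 0, Ideal.zero_mem _, by simp⟩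
  | add x y _ _ hx hy =>
    obtain ⟨c, hc, a, ha, rfl⟩ := hx
    obtain ⟨c', hc', a', ha', rfl⟩ := hy
    exact ⟨c + c', Ideal.add_mem _ hc hc', a + a', Ideal.add_mem _ ha ha', by
      rw [map_add]; ring⟩
  | smul b x _ hx =>
    obtain ⟨c, hc, a, ha, rfl⟩ := hx
    obtain ⟨ab, hab⟩ := hsurj (ψ b)
    have h0 : ψ (b - φ ab) = 0 := by
      rw [map_sub]
      have : ψ (φ ab) = ψ b := hab
      rw [this, sub_self]
    obtain ⟨d, hd⟩ := hker _ h0
    refine ⟨d * φ a + b * c, Ideal.add_mem _
      (Ideal.mul_mem_left _ _ (Ideal.mem_map_of_mem _ ha)) (Ideal.mul_mem_left _ _ hc),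
      ab * a, Ideal.mul_mem_left _ _ ha, ?_⟩
    have hb : b = φ ab + t * d := by rw [← hd]; ring
    rw [smul_eq_mul, map_mul]
    clear hd h0 hab
    subst hb
    ring

theorem mul_mem_map_imp {A' A B : Type*} [CommRing A'] [CommRing A] [CommRing B]
    (φ : A' →+* B) (ψ : B →+* A) (hbij : Function.Bijective (ψ.comp φ))
    (t : B) (ht : t ∈ nonZeroDivisors B) (hψt : ψ t = 0)
    (hker : ∀ b, ψ b = 0 → ∃ c, b = t * c) (I : Ideal A') (c' : B)
    (h : t * c' ∈ I.map φ) : c' ∈ I.map φ := by
  obtain ⟨c, hc, a, ha, he⟩ := mem_map_decomp φ ψ hbij.2 t hker I h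
  have h1 := congrArg ψ he
  rw [map_add, map_mul, map_mul, hψt, zero_mul, zero_mul, add_zero] at h1
  have ha0 : a = 0 := hbij.1 (by simpa using h1.symm)
  rw [ha0, map_zero, zero_add] at he
  have : c' = c := by
    have h2 : (c' - c) * t = 0 := by rw [sub_mul, mul_comm c' t, mul_comm c t, he, sub_self]
    exact sub_eq_zero.mp (ht.2 _ h2)
  rwa [this]

theorem pow_notMem_map {A' A B : Type*} [CommRing A'] [CommRing A] [CommRing B]
    (φ : A' →+* B) (ψ : B →+* A) (hbij : Function.Bijective (ψ.comp φ))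
    (t : B) (ht : t ∈ nonZeroDivisors B) (hψt : ψ t = 0)
    (hker : ∀ b, ψ b = 0 → ∃ c, b = t * c) (I : Ideal A') (hI : I.map φ ≠ ⊤) (n : ℕ) :
    t ^ n ∉ I.map φ := by
  intro h
  apply hI
  rw [Ideal.eq_top_iff_one]
  induction n with
  | zero => simpa using h
  | succ n ih =>
    apply ih
    rw [pow_succ'] at h
    exact mul_mem_map_imp φ ψ hbij t ht hψt hker I _ h

/-- every nonzero element of a Noetherian local ring with principal maximal ideal `(s)` is a unit
times a power of `s`. -/
theorem exists_unit_mul_pow {C : Type*} [CommRing C] [IsLocalRing C] [IsNoetherianRing C] (s : C)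
    (hs : maximalIdeal C = Ideal.span {s}) {x : C} (hx : x ≠ 0) :
    ∃ (n : ℕ) (u : Cˣ), x = u * s ^ n := by
  classical
  have hK : ⨅ n, maximalIdeal C ^ n = ⊥ :=
    Ideal.iInf_pow_eq_bot_of_isLocalRing _ (Ideal.IsPrime.ne_top inferInstance)
  have hex : ∃ n, x ∉ maximalIdeal C ^ n := by
    by_contra hcon
    push Not at hcon
    apply hx
    have : x ∈ ⨅ n, maximalIdeal C ^ n := Ideal.mem_iInf.mpr hcon
    rw [hK] at this
    simpa using this
  have hn0 : Nat.find hex ≠ 0 := by
    intro h0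
    have := Nat.find_spec hex
    rw [h0, pow_zero, Ideal.one_eq_top] at this
    exact this Submodule.mem_top
  obtain ⟨n, hn⟩ := Nat.exists_eq_succ_of_ne_zero hn0
  have hmem : x ∈ maximalIdeal C ^ n := by
    by_contra hcon
    have := Nat.find_min' hex hcon
    omega
  have hnot : x ∉ maximalIdeal C ^ (n + 1) := by
    have := Nat.find_spec hex
    rwa [hn] at this
  rw [hs, Ideal.span_singleton_pow, Ideal.mem_span_singleton'] at hmem
  obtain ⟨u, hu⟩ := hmem
  have huu : IsUnit u := by
    by_contra hnu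
    have hum : u ∈ maximalIdeal C := (IsLocalRing.mem_maximalIdeal u).mpr hnu
    rw [hs, Ideal.mem_span_singleton'] at hum
    obtain ⟨u', hu'⟩ := hum
    apply hnot
    rw [hs, Ideal.span_singleton_pow, Ideal.mem_span_singleton']
    exact ⟨u', by rw [← hu, ← hu', pow_succ]; ring⟩
  exact ⟨n, huu.unit, by rw [← hu]; rfl⟩

theorem isDVR_of_principal {C : Type*} [CommRing C] [IsLocalRing C] [IsNoetherianRing C] (s : C)
    (hs : maximalIdeal C = Ideal.span {s}) (hnil : ¬ IsNilpotent s) :
    ∃ _ : IsDomain C, IsDiscreteValuationRing C := by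
  have hs0 : ∀ n : ℕ, s ^ n ≠ 0 := fun n h => hnil ⟨n, h⟩
  have hsm : s ∈ maximalIdeal C := by rw [hs]; exact Ideal.mem_span_singleton_self s
  have hsnu : ¬ IsUnit s := (IsLocalRing.mem_maximalIdeal s).mp hsm
  have hdom : IsDomain C := by
    have : NoZeroDivisors C := by
      refine ⟨fun {x y} hxy => ?_⟩
      by_contra hcon
      push Not at hcon
      obtain ⟨n, u, hu⟩ := exists_unit_mul_pow s hs hcon.1
      obtain ⟨n', u', hu'⟩ := exists_unit_mul_pow s hs hcon.2
      rw [hu, hu'] at hxy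
      have h3 : ((u * u' : Cˣ) : C) * s ^ (n + n') = 0 := by
        rw [← hxy, pow_add]; push_cast; ring
      exact hs0 (n + n') ((Units.mul_right_eq_zero _).mp h3)
    exact NoZeroDivisors.to_isDomain C
  refine ⟨hdom, ?_⟩
  apply IsDiscreteValuationRing.ofHasUnitMulPowIrreducibleFactorization
  refine ⟨s, ⟨hsnu, fun a b hab => ?_⟩, fun {x} hx => ?_⟩
  · by_contra hcon
    push Not at hcon
    have ha : a ∈ maximalIdeal C := (IsLocalRing.mem_maximalIdeal a).mpr hcon.1
    have hb : b ∈ maximalIdeal C := (IsLocalRing.mem_maximalIdeal b).mpr hcon.2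
    rw [hs, Ideal.mem_span_singleton'] at ha hb
    obtain ⟨a', ha'⟩ := ha
    obtain ⟨b', hb'⟩ := hb
    have h1 : s * (1 - s * (a' * b')) = 0 := by
      have : s = (a' * s) * (b' * s) := by rw [ha', hb']; exact hab
      linear_combination this
    have hs1 : s ≠ 0 := by simpa using hs0 1
    have h2 : 1 - s * (a' * b') = 0 := (mul_eq_zero.mp h1).resolve_left hs1
    exact hsnu (IsUnit.of_mul_eq_one (a' * b') (by linear_combination -h2))
  · obtain ⟨n, u, hu⟩ := exists_unit_mul_pow s hs hx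
    exact ⟨n, u, by rw [hu]; ring⟩


end Groth.Agent.Lib.Helper8.SectionDVR
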