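import Mathlib
import Groth.Agent.Lib.Helper8.PC1

set_option backward.isDefEq.respectTransparency.types false
set_option autoImplicit false
set_option linter.unusedSectionVars false
set_option linter.style.haveILetI false

namespace Groth.Agent.Lib.Helper8.Sei

universe u

variable (k : Type u) [Field k] (A : Type u) [CommRing A] [Algebra k A]

/-- Extension of a derivation to the total ring of fractions. -/
theorem exists_extension (D : Derivation k A A) :
    ∃ DK : Derivation k (FractionRing A) (FractionRing A),
      ∀ a : A, DK (algebraMap A (FractionRing A) a) = algebraMap A (FractionRing A) (D a) := by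
  let K := FractionRing A
  let φ : Ω[A⁄k] →ₗ[A] K := (Algebra.linearMap A K) ∘ₗ D.liftKaehlerDifferential
  have hu : ∀ x : nonZeroDivisors A, IsUnit (algebraMap A (Module.End A K) x) := by
    intro x
    have hx : IsUnit (algebraMap A K x) := IsLocalization.map_units K x
    obtain ⟨u, hu⟩ := hx
    refine ⟨⟨algebraMap A (Module.End A K) x, (Algebra.lsmul A A K ((u⁻¹ : Kˣ) : K)), ?_, ?_⟩, rfl⟩
    · ext y
      simp only [Module.End.mul_apply, Module.algebraMap_end_apply, Algebra.lsmul_coe,
        Module.End.one_apply, Algebra.smul_def, ← hu, Algebra.algebraMap_self, RingHom.id_apply]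
      rw [← mul_assoc, Units.mul_inv, one_mul]
    · ext y
      simp only [Module.End.mul_apply, Module.algebraMap_end_apply, Algebra.lsmul_coe,
        Module.End.one_apply, Algebra.smul_def, ← hu, Algebra.algebraMap_self, RingHom.id_apply]
      rw [← mul_assoc, Units.inv_mul, one_mul]
  let ψ₀ : Ω[K⁄k] →ₗ[A] K :=
    IsLocalizedModule.lift (nonZeroDivisors A) (KaehlerDifferential.map k k A K) φ hu
  let ψ : Ω[K⁄k] →ₗ[K] K := LinearMap.extendScalarsOfIsLocalization (nonZeroDivisors A) K ψ₀
  refine ⟨ψ.compDer (KaehlerDifferential.D k K), fun a => ?_⟩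
  show ψ₀ (KaehlerDifferential.D k K (algebraMap A K a)) = _
  rw [← KaehlerDifferential.map_D k k A K]
  have := IsLocalizedModule.lift_apply (nonZeroDivisors A) (KaehlerDifferential.map k k A K) φ hu
    (KaehlerDifferential.D k A a)
  rw [this]
  simp only [φ, LinearMap.comp_apply, Derivation.liftKaehlerDifferential_comp_D,
    Algebra.linearMap_apply]
  rfl

end Groth.Agent.Lib.Helper8.Sei
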