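import Mathlib
import Groth.Agent.Lib.Helper8.Sei1

set_option backward.isDefEq.respectTransparency.types false
set_option autoImplicit false
set_option linter.unusedSectionVars false
set_option linter.style.haveILetI false

namespace Groth.Agent.Lib.Helper8.Sei

open Finset

universe u v

variable {k : Type u} [Field k] [CharZero k] {K : Type v} [CommRing K] [Algebra k K]
  (DK : Derivation k K K)

/-- the exponential `exp(tD)` as a ring homomorphism `K → K[[t]]`. -/
noncomputable def E : K →+* PowerSeries K where
  toFun a := PowerSeries.mk (fun j => ((j.factorial : k)⁻¹) • DK^[j] a)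
  map_one' := by
    ext j
    rw [PowerSeries.coeff_mk, PowerSeries.coeff_one]
    rcases j with _ | j
    · simp
    · rw [if_neg (Nat.succ_ne_zero j), Function.iterate_succ_apply, Derivation.map_one_eq_zero]
      have : ∀ n, DK^[n] (0 : K) = 0 := by
        intro n
        induction n with
        | zero => rfl
        | succ n ih => rw [Function.iterate_succ_apply, map_zero, ih]
      rw [this, smul_zero]
  map_mul' a b := by
    ext n
    rw [PowerSeries.coeff_mk, PowerSeries.coeff_mul, PC.iterate_mul, Finset.smul_sum]
    refine Finset.sum_congr rfl fun ⟨i, j⟩ hij => ?_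
    rw [PowerSeries.coeff_mk, PowerSeries.coeff_mk]
    have hn : i + j = n := mem_antidiagonal.mp hij
    simp only
    rw [smul_mul_smul_comm, ← Nat.cast_smul_eq_nsmul k, smul_smul]
    congr 1
    have h1 : ((i + j).choose i * i.factorial * j.factorial : ℕ) = (i + j).factorial := by
      rw [Nat.choose_symm_add]
      exact Nat.add_choose_mul_factorial_mul_factorial i j
    have h2 : ((i + j).choose i : k) * (i.factorial : k) * (j.factorial : k) =
        ((i + j).factorial : k) := by exact_mod_cast congrArg (Nat.cast (R := k)) h1
    have hi : (i.factorial : k) ≠ 0 := Nat.cast_ne_zero.mpr (Nat.factorial_ne_zero i)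
    have hj : (j.factorial : k) ≠ 0 := Nat.cast_ne_zero.mpr (Nat.factorial_ne_zero j)
    have hnn : ((i + j).factorial : k) ≠ 0 := Nat.cast_ne_zero.mpr (Nat.factorial_ne_zero _)
    rw [← hn]
    field_simp
    rw [← h2]
  map_zero' := by
    ext j
    rw [PowerSeries.coeff_mk, map_zero]
    have : ∀ n, DK^[n] (0 : K) = 0 := by
      intro n
      induction n with
      | zero => rfl
      | succ n ih => rw [Function.iterate_succ_apply, map_zero, ih]
    rw [this, smul_zero]
  map_add' a b := by
    ext j
    rw [PowerSeries.coeff_mk, map_add, PowerSeries.coeff_mk, PowerSeries.coeff_mk]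
    have : ∀ n (a b : K), DK^[n] (a + b) = DK^[n] a + DK^[n] b := by
      intro n
      induction n with
      | zero => intro a b; rfl
      | succ n ih => intro a b; rw [Function.iterate_succ_apply, map_add, ih]; rfl
    rw [this, smul_add]

lemma coeff_E (a : K) (j : ℕ) :
    PowerSeries.coeff j (E DK a) = ((j.factorial : k)⁻¹) • DK^[j] a := by
  exact PowerSeries.coeff_mk (R := K) j (fun j => ((j.factorial : k)⁻¹) • DK^[j] a)

end Groth.Agent.Lib.Helper8.Sei
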