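import Mathlib
import Groth.Agent.Lib.Helper8.Sei2

set_option backward.isDefEq.respectTransparency.types false
set_option autoImplicit false
set_option linter.unusedSectionVars false
set_option linter.style.haveILetI false

namespace Groth.Agent.Lib.Helper8.Sei

open Finset PowerSeries

universe u v

section general

variable {K : Type v} [CommRing K]

/-- power series with coefficients in a subring. -/
def coeffSubring (R : Subring K) : Subring (PowerSeries K) where
  carrier := {w | ∀ j, PowerSeries.coeff j w ∈ R}
  mul_mem' := by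
    intro v w hv hw j
    rw [PowerSeries.coeff_mul]
    exact Subring.sum_mem _ fun p _ => mul_mem (hv _) (hw _)
  one_mem' := by
    intro j
    rw [PowerSeries.coeff_one]
    split_ifs
    · exact one_mem _
    · exact zero_mem _
  add_mem' := by
    intro v w hv hw j
    rw [map_add]
    exact add_mem (hv _) (hw _)
  zero_mem' := by
    intro j
    rw [map_zero]
    exact zero_mem _
  neg_mem' := by
    intro v hv j
    rw [map_neg]
    exact neg_mem (hv _)

lemma mem_coeffSubring {R : Subring K} {w : PowerSeries K} :
    w ∈ coeffSubring R ↔ ∀ j, PowerSeries.coeff j w ∈ R := Iff.rfl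

lemma C_mem_coeffSubring {R : Subring K} {r : K} (hr : r ∈ R) :
    PowerSeries.C r ∈ coeffSubring R := by
  intro j
  rw [PowerSeries.coeff_C]
  split_ifs
  · exact hr
  · exact zero_mem _

lemma of_X_pow_mul_mem {R : Subring K} {w : PowerSeries K} (n : ℕ)
    (h : PowerSeries.X ^ n * w ∈ coeffSubring R) : w ∈ coeffSubring R := by
  intro j
  have := h (j + n)
  rwa [PowerSeries.coeff_X_pow_mul] at this

end general

section integrality

variable {A : Type u} [CommRing A] {K : Type v} [CommRing K] [Algebra A K]
  [IsFractionRing A K]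

/-- Lemma N: almost integral implies integral over a Noetherian ring. -/
lemma isIntegral_of_almost [IsNoetherianRing A] (c : A) (hc : c ∈ nonZeroDivisors A) (y : K)
    (h : ∀ n : ℕ, ∃ a : A, algebraMap A K c * y ^ n = algebraMap A K a) : IsIntegral A y := by
  obtain ⟨u, hu⟩ := IsLocalization.map_units K (⟨c, hc⟩ : nonZeroDivisors A)
  have hu' : (u : K) = algebraMap A K c := hu
  let M : Submodule A K := Submodule.span A {((u⁻¹ : Kˣ) : K)}
  haveI : IsNoetherian A M := isNoetherian_span_of_finite A (Set.finite_singleton _)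
  have hle : Subalgebra.toSubmodule (Algebra.adjoin A {y}) ≤ M := by
    rw [Algebra.adjoin_eq_span]
    refine Submodule.span_le.mpr ?_
    intro x hx
    obtain ⟨n, rfl⟩ := Submonoid.mem_closure_singleton.mp hx
    obtain ⟨a, ha⟩ := h n
    have : y ^ n = a • ((u⁻¹ : Kˣ) : K) := by
      rw [Algebra.smul_def, ← ha, ← hu', mul_comm, ← mul_assoc, Units.inv_mul, one_mul]
    show y ^ n ∈ M
    rw [this]
    exact Submodule.smul_mem _ _ (Submodule.subset_span rfl)
  have hN : IsNoetherian A (Subalgebra.toSubmodule (Algebra.adjoin A {y})) := isNoetherian_of_le hle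
  exact isIntegral_of_submodule_noetherian (Algebra.adjoin A {y}) hN y
    (Algebra.subset_adjoin (Set.mem_singleton y))

/-- Lemma M: integral implies almost integral. -/
lemma almost_of_isIntegral (y : K) (hy : IsIntegral A y) :
    ∃ c ∈ nonZeroDivisors A, ∀ n : ℕ, ∃ a : A, algebraMap A K c * y ^ n = algebraMap A K a := by
  obtain ⟨s, hs⟩ := hy.fg_adjoin_singleton
  obtain ⟨b, hb⟩ := IsLocalization.exist_integer_multiples_of_finset (nonZeroDivisors A) s
  refine ⟨b, b.2, fun n => ?_⟩
  have hmem : y ^ n ∈ Submodule.span A (s : Set K) := by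
    rw [hs]
    exact pow_mem (Algebra.subset_adjoin (Set.mem_singleton y)) n
  have key : ∀ w ∈ Submodule.span A (s : Set K), ∃ a : A, algebraMap A K b * w = algebraMap A K a := by
    intro w hw
    induction hw using Submodule.span_induction with
    | mem x hx =>
      obtain ⟨a, ha⟩ := hb x hx
      exact ⟨a, by rw [ha, Algebra.smul_def]⟩
    | zero => exact ⟨0, by rw [mul_zero, map_zero]⟩
    | add x y _ _ hx hy =>
      obtain ⟨a, ha⟩ := hx
      obtain ⟨a', ha'⟩ := hy
      exact ⟨a + a', by rw [mul_add, ha, ha', map_add]⟩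
    | smul r x _ hx =>
      obtain ⟨a, ha⟩ := hx
      exact ⟨r * a, by rw [Algebra.smul_def, mul_left_comm, ha, map_mul]⟩
  exact key _ hmem

variable (A K) in
/-- the subring of power series with coefficients in the image of `A`. -/
def Aint : Subring (PowerSeries K) := coeffSubring (algebraMap A K).range

/-- Lemma L. -/
lemma coeff_isIntegral [IsNoetherianRing A] (j : ℕ) : ∀ (d y : PowerSeries K),
    (∃ c ∈ nonZeroDivisors A, PowerSeries.constantCoeff d = algebraMap A K c) →
    (∀ n : ℕ, d * y ^ n ∈ Aint A K) → IsIntegral A (PowerSeries.coeff j y) := by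
  induction j with
  | zero =>
    intro d y ⟨c, hc, hd⟩ h
    rw [PowerSeries.coeff_zero_eq_constantCoeff_apply]
    refine isIntegral_of_almost c hc _ fun n => ?_
    obtain ⟨a, ha⟩ := h n 0
    refine ⟨a, ?_⟩
    rw [ha, PowerSeries.coeff_zero_eq_constantCoeff_apply, map_mul, map_pow, hd]
  | succ j ih =>
    intro d y ⟨c, hc, hd⟩ h
    have h0 : IsIntegral A (PowerSeries.constantCoeff y) := by
      have : IsIntegral A (PowerSeries.coeff 0 y) := by
        refine isIntegral_of_almost c hc _ fun n => ?_
        obtain ⟨a, ha⟩ := h n 0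
        refine ⟨a, ?_⟩
        rw [ha, PowerSeries.coeff_zero_eq_constantCoeff_apply,
          PowerSeries.coeff_zero_eq_constantCoeff_apply, map_mul, map_pow, hd]
      rwa [PowerSeries.coeff_zero_eq_constantCoeff_apply] at this
    obtain ⟨c', hc', hy0⟩ := almost_of_isIntegral _ h0
    set y₀ := PowerSeries.constantCoeff y with hy₀
    set z : PowerSeries K := PowerSeries.mk fun p => PowerSeries.coeff (p + 1) y with hz
    have hyz : PowerSeries.X * z = y + -PowerSeries.C y₀ := by
      have := PowerSeries.eq_X_mul_shift_add_const y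
      rw [← hz, ← hy₀] at this
      rw [eq_sub_iff_add_eq.mpr this.symm, sub_eq_add_neg]
    set d' : PowerSeries K := PowerSeries.C (algebraMap A K c') * d with hd'
    have hcoef : PowerSeries.coeff (j + 1) y = PowerSeries.coeff j z := by
      rw [hz, PowerSeries.coeff_mk]
    rw [hcoef]
    refine ih d' z ⟨c' * c, mul_mem hc' hc, ?_⟩ fun n => ?_
    · rw [hd', map_mul, PowerSeries.constantCoeff_C, hd, map_mul]
    · apply of_X_pow_mul_mem n
      have e1 : PowerSeries.X ^ n * (d' * z ^ n) = d' * (PowerSeries.X * z) ^ n := by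
        rw [mul_pow]; ring
      rw [e1, hyz, add_pow, Finset.mul_sum]
      refine Subring.sum_mem _ fun m _ => ?_
      have e2 : d' * (y ^ m * (-PowerSeries.C y₀) ^ (n - m) * ((n.choose m : ℕ) : PowerSeries K)) =
          (d * y ^ m) * PowerSeries.C (algebraMap A K c' * (-y₀) ^ (n - m)) *
            ((n.choose m : ℕ) : PowerSeries K) := by
        rw [hd', map_mul, map_pow, map_neg]; ring
      rw [e2]
      refine mul_mem (mul_mem (h m) (C_mem_coeffSubring ?_)) (natCast_mem _ _)
      obtain ⟨a, ha⟩ := hy0 (n - m)
      rw [neg_pow, mul_left_comm, ha]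
      exact mul_mem (pow_mem (neg_mem (one_mem _)) _) ⟨a, rfl⟩

end integrality

end Groth.Agent.Lib.Helper8.Sei
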