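import Mathlib
import Groth.Agent.Lib.Helper8.Sei3

set_option backward.isDefEq.respectTransparency.types false
set_option autoImplicit false
set_option linter.unusedSectionVars false
set_option linter.style.haveILetI false

namespace Groth.Agent.Lib.Helper8.Sei

open Finset PowerSeries

universe u

variable (k : Type u) [Field k] [CharZero k] (A : Type u) [CommRing A] [Algebra k A]

lemma iterate_DK (D : Derivation k A A)
    (DK : Derivation k (FractionRing A) (FractionRing A))
    (hDK : ∀ a : A, DK (algebraMap A (FractionRing A) a) = algebraMap A (FractionRing A) (D a))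
    (j : ℕ) (a : A) :
    DK^[j] (algebraMap A (FractionRing A) a) = algebraMap A (FractionRing A) (D^[j] a) := by
  induction j with
  | zero => rfl
  | succ j ih => rw [Function.iterate_succ_apply', Function.iterate_succ_apply', ih, hDK]

lemma E_mem_Aint (D : Derivation k A A)
    (DK : Derivation k (FractionRing A) (FractionRing A))
    (hDK : ∀ a : A, DK (algebraMap A (FractionRing A) a) = algebraMap A (FractionRing A) (D a))
    (a : A) : E DK (algebraMap A (FractionRing A) a) ∈ Aint A (FractionRing A) := by
  intro j
  rw [coeff_E, iterate_DK k A D DK hDK]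
  refine ⟨((j.factorial : k)⁻¹) • D^[j] a, ?_⟩
  rw [Algebra.smul_def, map_mul, ← IsScalarTower.algebraMap_apply k A (FractionRing A),
    ← Algebra.smul_def]

theorem DK_isIntegral [IsNoetherianRing A] (D : Derivation k A A)
    (DK : Derivation k (FractionRing A) (FractionRing A))
    (hDK : ∀ a : A, DK (algebraMap A (FractionRing A) a) = algebraMap A (FractionRing A) (D a))
    (x : FractionRing A) (hx : IsIntegral A x) : IsIntegral A (DK x) := by
  obtain ⟨c, hc, hcx⟩ := almost_of_isIntegral x hx
  have key := coeff_isIntegral (A := A) (K := FractionRing A) 1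
    (E DK (algebraMap A (FractionRing A) c)) (E DK x) ⟨c, hc, ?_⟩ fun n => ?_
  · rw [coeff_E] at key
    simpa using key
  · rw [← PowerSeries.coeff_zero_eq_constantCoeff_apply, coeff_E]
    simp
  · obtain ⟨a, ha⟩ := hcx n
    rw [← map_pow, ← map_mul, ha]
    exact E_mem_Aint k A D DK hDK a

theorem main [IsNoetherianRing A] (D : Derivation k A A) :
    ∃ D' : Derivation k ↥(integralClosure A (FractionRing A)) ↥(integralClosure A (FractionRing A)),
      ∀ a : A, (D' (algebraMap A ↥(integralClosure A (FractionRing A)) a) : FractionRing A) =
        algebraMap A (FractionRing A) (D a) := by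
  obtain ⟨DK, hDK⟩ := exists_extension k A D
  have hint : ∀ x : ↥(integralClosure A (FractionRing A)),
      DK (x : FractionRing A) ∈ integralClosure A (FractionRing A) :=
    fun x => DK_isIntegral k A D DK hDK x x.2
  let L : ↥(integralClosure A (FractionRing A)) →ₗ[k] ↥(integralClosure A (FractionRing A)) :=
    { toFun := fun x => ⟨DK (x : FractionRing A), hint x⟩
      map_add' := fun x y => Subtype.ext (by simp)
      map_smul' := fun r x => Subtype.ext (by simp) }
  refine ⟨Derivation.mk' L fun a b => Subtype.ext ?_, fun a => ?_⟩
  · show DK ((a * b : ↥(integralClosure A (FractionRing A))) : FractionRing A) = _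
    simp [L, Derivation.leibniz]
  · show DK _ = _
    rw [← hDK]
    rfl

end Groth.Agent.Lib.Helper8.Sei
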