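import Mathlib
import Groth.Prelude.Def_W4c2movlemaddchowShuffle

/-! Shuffle decompositions (helper8): abstract sorting lemma and the `extRight`/`extLeft` homs. -/

set_option autoImplicit false

namespace Groth.Agent.Lib.Helper8.Shuffle

open Equiv W4c2movlemaddchow

/-- Abstract injectivity: a factorisation `τ * E σ` with `τ` monotone on the block `ι` is unique. -/
theorem abstract_inj {a n : ℕ} (ι : Fin a → Fin n) (E : Perm (Fin a) →* Perm (Fin n))
    (hι : ∀ σ j, E σ (ι j) = ι (σ j)) (hιinj : Function.Injective ι)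
    (τ τ' : Perm (Fin n)) (σ σ' : Perm (Fin a)) (hτ : Monotone (τ ∘ ι)) (hτ' : Monotone (τ' ∘ ι))
    (h : τ * E σ = τ' * E σ') : τ = τ' ∧ σ = σ' := by
  set ν := τ * E σ with hν
  have h1 : ∀ j, τ (ι j) = ν (ι (σ⁻¹ j)) := by
    intro j
    rw [hν, Perm.mul_apply, hι, Perm.inv_def, Equiv.apply_symm_apply]
  have h2 : ∀ j, τ' (ι j) = ν (ι (σ'⁻¹ j)) := by
    intro j
    rw [h, Perm.mul_apply, hι, Perm.inv_def, Equiv.apply_symm_apply]
  have m1 : Monotone ((ν ∘ ι) ∘ (σ⁻¹ : Perm (Fin a))) := by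
    intro j j' hjj'
    have := hτ hjj'
    simp only [Function.comp_apply] at this ⊢
    rwa [h1, h1] at this
  have m2 : Monotone ((ν ∘ ι) ∘ (σ'⁻¹ : Perm (Fin a))) := by
    intro j j' hjj'
    have := hτ' hjj'
    simp only [Function.comp_apply] at this ⊢
    rwa [h2, h2] at this
  have h3 := Tuple.unique_monotone m1 m2
  have hinj : Function.Injective (ν ∘ ι) := ν.injective.comp hιinj
  have h4 : σ⁻¹ = σ'⁻¹ := by
    ext j
    have := congrFun h3 j
    simp only [Function.comp_apply] at this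
    exact congrArg _ (hinj this)
  have h5 : σ = σ' := inv_injective h4
  refine ⟨?_, h5⟩
  rw [hν, h5] at h
  exact mul_right_cancel h

/-- Abstract surjectivity: every `ν` factors as `τ * E σ` with `τ` monotone on the block `ι`,
agreeing with `ν` on the complementary block `κ`, and `σ` reflecting the order of `ν ∘ ι`. -/
theorem abstract_surj {a b n : ℕ} (ι : Fin a → Fin n) (κ : Fin b → Fin n)
    (E : Perm (Fin a) →* Perm (Fin n))
    (hι : ∀ σ j, E σ (ι j) = ι (σ j)) (hκ : ∀ σ l, E σ (κ l) = κ l)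
    (hιinj : Function.Injective ι) (ν : Perm (Fin n)) :
    ∃ (τ : Perm (Fin n)) (σ : Perm (Fin a)), τ * E σ = ν ∧ Monotone (τ ∘ ι) ∧
      (∀ l, τ (κ l) = ν (κ l)) ∧ ∀ u u', ν (ι u) ≤ ν (ι u') ↔ σ u ≤ σ u' := by
  set ρ := Tuple.sort (ν ∘ ι) with hρ
  have hm : Monotone ((ν ∘ ι) ∘ ρ) := Tuple.monotone_sort _
  have hinj : Function.Injective ((ν ∘ ι) ∘ ρ) := (ν.injective.comp hιinj).comp ρ.injective
  have hsm : StrictMono ((ν ∘ ι) ∘ ρ) := hm.strictMono_of_injective hinj
  refine ⟨ν * E ρ, ρ⁻¹, ?_, ?_, ?_, ?_⟩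
  · rw [mul_assoc, ← map_mul, mul_inv_cancel, map_one, mul_one]
  · intro j j' hjj'
    simp only [Function.comp_apply, Perm.mul_apply, hι]
    exact hm hjj'
  · intro l
    rw [Perm.mul_apply, hκ]
  · intro u u'
    have := hsm.le_iff_le (a := ρ⁻¹ u) (b := ρ⁻¹ u')
    simp only [Function.comp_apply, Perm.inv_def, Equiv.apply_symm_apply] at this
    simpa only [Perm.inv_def] using this

/-! ### `extRight` -/

lemma extRight_castAdd (a t : ℕ) (σ : Perm (Fin a)) (j : Fin a) :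
    extRight a t σ (Fin.castAdd t j) = Fin.castAdd t (σ j) := by
  simp [extRight]

lemma extRight_natAdd (a t : ℕ) (σ : Perm (Fin a)) (l : Fin t) :
    extRight a t σ (Fin.natAdd a l) = Fin.natAdd a l := by
  simp [extRight]

/-- `extRight` as a monoid hom. -/
noncomputable def extRightHom (a t : ℕ) : Perm (Fin a) →* Perm (Fin (a + t)) where
  toFun := extRight a t
  map_one' := by
    ext x
    refine Fin.addCases (fun j => ?_) (fun l => ?_) x
    · rw [extRight_castAdd]; rfl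
    · rw [extRight_natAdd]; rfl
  map_mul' σ σ' := by
    ext x
    refine Fin.addCases (fun j => ?_) (fun l => ?_) x
    · rw [Perm.mul_apply, extRight_castAdd, extRight_castAdd, extRight_castAdd]; rfl
    · rw [Perm.mul_apply, extRight_natAdd, extRight_natAdd, extRight_natAdd]

@[simp] lemma extRightHom_apply (a t : ℕ) (σ : Perm (Fin a)) :
    extRightHom a t σ = extRight a t σ := rfl

lemma sign_extRight (a t : ℕ) (σ : Perm (Fin a)) : Perm.sign (extRight a t σ) = Perm.sign σ := by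
  simp [extRight, Perm.sign_permCongr, Perm.sign_sumCongr]

/-! ### `extLeft` -/

/-- the block of the last `s + t` positions. -/
def iotaL (r s t : ℕ) (j : Fin (s + t)) : Fin (r + s + t) :=
  Fin.cast (Nat.add_assoc r s t).symm (Fin.natAdd r j)

/-- the block of the first `r` positions. -/
def kappaL (r s t : ℕ) (i : Fin r) : Fin (r + s + t) :=
  Fin.cast (Nat.add_assoc r s t).symm (Fin.castAdd (s + t) i)

lemma extLeft_iotaL (r s t : ℕ) (σ : Perm (Fin (s + t))) (j : Fin (s + t)) :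
    extLeft r s t σ (iotaL r s t j) = iotaL r s t (σ j) := by
  simp [extLeft, iotaL]

lemma extLeft_kappaL (r s t : ℕ) (σ : Perm (Fin (s + t))) (i : Fin r) :
    extLeft r s t σ (kappaL r s t i) = kappaL r s t i := by
  simp [extLeft, kappaL]

lemma cases_L (r s t : ℕ) (x : Fin (r + s + t)) :
    (∃ i, x = kappaL r s t i) ∨ ∃ j, x = iotaL r s t j := by
  have key : ∀ y : Fin (r + (s + t)),
      (∃ i, Fin.cast (Nat.add_assoc r s t).symm y = kappaL r s t i) ∨
        ∃ j, Fin.cast (Nat.add_assoc r s t).symm y = iotaL r s t j := by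
    intro y
    refine Fin.addCases (fun i => Or.inl ⟨i, rfl⟩) (fun j => Or.inr ⟨j, rfl⟩) y
  have := key (Fin.cast (Nat.add_assoc r s t) x)
  simpa using this

/-- `extLeft` as a monoid hom. -/
noncomputable def extLeftHom (r s t : ℕ) : Perm (Fin (s + t)) →* Perm (Fin (r + s + t)) where
  toFun := extLeft r s t
  map_one' := by
    ext x
    rcases cases_L r s t x with ⟨i, rfl⟩ | ⟨j, rfl⟩
    · rw [extLeft_kappaL]; rfl
    · rw [extLeft_iotaL]; rfl
  map_mul' σ σ' := by
    ext x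
    rcases cases_L r s t x with ⟨i, rfl⟩ | ⟨j, rfl⟩
    · rw [Perm.mul_apply, extLeft_kappaL, extLeft_kappaL, extLeft_kappaL]
    · rw [Perm.mul_apply, extLeft_iotaL, extLeft_iotaL, extLeft_iotaL]; rfl

@[simp] lemma extLeftHom_apply (r s t : ℕ) (σ : Perm (Fin (s + t))) :
    extLeftHom r s t σ = extLeft r s t σ := rfl

lemma sign_extLeft (r s t : ℕ) (σ : Perm (Fin (s + t))) :
    Perm.sign (extLeft r s t σ) = Perm.sign σ := by
  simp [extLeft, Perm.sign_permCongr, Perm.sign_sumCongr]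

lemma iotaL_injective (r s t : ℕ) : Function.Injective (iotaL r s t) := by
  intro j j' h
  simp only [iotaL, Fin.cast_inj] at h
  exact Fin.natAdd_injective _ _ h

lemma iotaL_le_iff (r s t : ℕ) (j j' : Fin (s + t)) : iotaL r s t j ≤ iotaL r s t j' ↔ j ≤ j' := by
  change (iotaL r s t j : ℕ) ≤ (iotaL r s t j' : ℕ) ↔ (j : ℕ) ≤ (j' : ℕ)
  simp [iotaL]

lemma kappaL_le_iff (r s t : ℕ) (i i' : Fin r) : kappaL r s t i ≤ kappaL r s t i' ↔ i ≤ i' := by
  change (kappaL r s t i : ℕ) ≤ (kappaL r s t i' : ℕ) ↔ (i : ℕ) ≤ (i' : ℕ)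
  simp [kappaL]

lemma pos1 (r s t : ℕ) (i : Fin r) :
    Fin.castAdd t (Fin.castAdd s i) = kappaL r s t i := by
  apply Fin.ext; simp [kappaL]

lemma pos2 (r s t : ℕ) (j : Fin s) :
    Fin.castAdd t (Fin.natAdd r j) = iotaL r s t (Fin.castAdd t j) := by
  apply Fin.ext; simp [iotaL]

lemma pos3 (r s t : ℕ) (l : Fin t) :
    Fin.natAdd (r + s) l = iotaL r s t (Fin.natAdd s l) := by
  apply Fin.ext; simp [iotaL, Nat.add_assoc]

/-! ### The two decompositions -/

theorem bijOn_extRight (r s t : ℕ) :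
    Set.BijOn
      (fun p : Equiv.Perm (Fin (r + s + t)) × Equiv.Perm (Fin (r + s)) =>
        p.1 * W4c2movlemaddchow.extRight (r + s) t p.2)
      ({τ | W4c2movlemaddchow.IsShuffle₂ (r + s) t τ} ×ˢ {σ | W4c2movlemaddchow.IsShuffle₂ r s σ})
      {ν | W4c2movlemaddchow.IsShuffle₃ r s t ν} := by
  refine ⟨?_, ?_, ?_⟩
  · rintro ⟨τ, σ⟩ ⟨hτ, hσ⟩
    simp only [Set.mem_ofPred_eq] at hτ hσ ⊢
    refine ⟨?_, ?_, ?_⟩
    · intro i i' h
      simp only [Perm.mul_apply, extRight_castAdd]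
      exact hτ.1 (hσ.1 h)
    · intro j j' h
      simp only [Perm.mul_apply, extRight_castAdd]
      exact hτ.1 (hσ.2 h)
    · intro l l' h
      simp only [Perm.mul_apply, extRight_natAdd]
      exact hτ.2 h
  · rintro ⟨τ, σ⟩ ⟨hτ, _⟩ ⟨τ', σ'⟩ ⟨hτ', _⟩ h
    simp only [Set.mem_ofPred_eq] at hτ hτ'
    have := abstract_inj (Fin.castAdd t) (extRightHom (r + s) t)
      (fun σ j => extRight_castAdd _ _ σ j) (Fin.castAdd_injective _ _) τ τ' σ σ' hτ.1 hτ'.1 h
    exact Prod.ext this.1 this.2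
  · intro ν hν
    simp only [Set.mem_ofPred_eq] at hν
    obtain ⟨τ, σ, h1, h2, h3, h4⟩ := abstract_surj (Fin.castAdd t) (Fin.natAdd (r + s))
      (extRightHom (r + s) t) (fun σ j => extRight_castAdd _ _ σ j)
      (fun σ l => extRight_natAdd _ _ σ l) (Fin.castAdd_injective _ _) ν
    refine ⟨(τ, σ), ⟨⟨h2, ?_⟩, ⟨?_, ?_⟩⟩, h1⟩
    · intro l l' h
      simp only [h3]
      exact hν.2.2 h
    · intro i i' h
      exact (h4 _ _).mp (hν.1 h)
    · intro j j' h
      exact (h4 _ _).mp (hν.2.1 h)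

theorem bijOn_extLeft (r s t : ℕ) :
    Set.BijOn
      (fun p : Equiv.Perm (Fin (r + s + t)) × Equiv.Perm (Fin (s + t)) =>
        p.1 * W4c2movlemaddchow.extLeft r s t p.2)
      ({τ | W4c2movlemaddchow.IsShuffle₂ r (s + t) ((finCongr (Nat.add_assoc r s t)).permCongr τ)} ×ˢ
        {σ | W4c2movlemaddchow.IsShuffle₂ s t σ})
      {ν | W4c2movlemaddchow.IsShuffle₃ r s t ν} := by
  have hsh : ∀ τ : Perm (Fin (r + s + t)),
      W4c2movlemaddchow.IsShuffle₂ r (s + t) ((finCongr (Nat.add_assoc r s t)).permCongr τ) ↔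
        Monotone (τ ∘ kappaL r s t) ∧ Monotone (τ ∘ iotaL r s t) := by
    intro τ
    unfold W4c2movlemaddchow.IsShuffle₂
    have e1 : ∀ i : Fin r, ((finCongr (Nat.add_assoc r s t)).permCongr τ) (Fin.castAdd (s + t) i) =
        Fin.cast (Nat.add_assoc r s t) (τ (kappaL r s t i)) := by
      intro i; simp [kappaL]
    have e2 : ∀ j : Fin (s + t), ((finCongr (Nat.add_assoc r s t)).permCongr τ) (Fin.natAdd r j) =
        Fin.cast (Nat.add_assoc r s t) (τ (iotaL r s t j)) := by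
      intro j; simp [iotaL]
    simp only [e1, e2]
    constructor
    · rintro ⟨h1, h2⟩
      exact ⟨fun i i' h => by simpa using h1 h, fun j j' h => by simpa using h2 h⟩
    · rintro ⟨h1, h2⟩
      exact ⟨fun i i' h => by simpa using h1 h, fun j j' h => by simpa using h2 h⟩
  refine ⟨?_, ?_, ?_⟩
  · rintro ⟨τ, σ⟩ ⟨hτ, hσ⟩
    simp only [Set.mem_ofPred_eq] at hτ hσ ⊢
    rw [hsh] at hτ
    refine ⟨?_, ?_, ?_⟩
    · intro i i' h
      simp only [Perm.mul_apply, pos1, extLeft_kappaL]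
      exact hτ.1 ((kappaL_le_iff r s t _ _).mpr h)
    · intro j j' h
      simp only [Perm.mul_apply, pos2, extLeft_iotaL]
      exact hτ.2 (hσ.1 h)
    · intro l l' h
      simp only [Perm.mul_apply, pos3, extLeft_iotaL]
      exact hτ.2 (hσ.2 h)
  · rintro ⟨τ, σ⟩ ⟨hτ, _⟩ ⟨τ', σ'⟩ ⟨hτ', _⟩ h
    simp only [Set.mem_ofPred_eq] at hτ hτ'
    rw [hsh] at hτ hτ'
    have := abstract_inj (iotaL r s t) (extLeftHom r s t)
      (fun σ j => extLeft_iotaL _ _ _ σ j) (iotaL_injective r s t) τ τ' σ σ' hτ.2 hτ'.2 h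
    exact Prod.ext this.1 this.2
  · intro ν hν
    simp only [Set.mem_ofPred_eq] at hν
    obtain ⟨τ, σ, h1, h2, h3, h4⟩ := abstract_surj (iotaL r s t) (kappaL r s t)
      (extLeftHom r s t) (fun σ j => extLeft_iotaL _ _ _ σ j)
      (fun σ l => extLeft_kappaL _ _ _ σ l) (iotaL_injective r s t) ν
    refine ⟨(τ, σ), ⟨?_, ⟨?_, ?_⟩⟩, h1⟩
    · simp only [Set.mem_ofPred_eq]
      rw [hsh]
      refine ⟨?_, h2⟩
      intro i i' h
      simp only [Function.comp_apply, h3]
      rw [← pos1, ← pos1]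
      exact hν.1 h
    · intro j j' h
      refine (h4 _ _).mp ?_
      rw [← pos2, ← pos2]
      exact hν.2.1 h
    · intro l l' h
      refine (h4 _ _).mp ?_
      rw [← pos3, ← pos3]
      exact hν.2.2 h

end Groth.Agent.Lib.Helper8.Shuffle

namespace Groth.Agent.Lib.Helper8.Shuffle

open Equiv W4c2movlemaddchow

theorem sum_extRight (r s t : ℕ) :
    (∑ ν ∈ Finset.univ.filter (W4c2movlemaddchow.IsShuffle₃ r s t),
        MonoidAlgebra.single ν (((Equiv.Perm.sign ν : ℤˣ) : ℤ)) :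
          MonoidAlgebra ℤ (Equiv.Perm (Fin (r + s + t)))) =
      ∑ τ ∈ Finset.univ.filter (W4c2movlemaddchow.IsShuffle₂ (r + s) t),
        ∑ σ ∈ Finset.univ.filter (W4c2movlemaddchow.IsShuffle₂ r s),
          MonoidAlgebra.single (τ * W4c2movlemaddchow.extRight (r + s) t σ)
            (((Equiv.Perm.sign τ : ℤˣ) : ℤ) * ((Equiv.Perm.sign σ : ℤˣ) : ℤ)) := by
  rw [← Finset.sum_product']
  symm
  have hb := bijOn_extRight r s t
  refine Finset.sum_nbij (fun p => p.1 * W4c2movlemaddchow.extRight (r + s) t p.2) ?_ ?_ ?_ ?_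
  · intro p hp
    have : p ∈ ({τ | W4c2movlemaddchow.IsShuffle₂ (r + s) t τ} ×ˢ
        {σ | W4c2movlemaddchow.IsShuffle₂ r s σ} : Set _) := by
      simpa using hp
    simpa using hb.1 this
  · intro p hp q hq h
    refine hb.2.1 ?_ ?_ h
    · simpa using hp
    · simpa using hq
  · intro ν hν
    have : ν ∈ {ν | W4c2movlemaddchow.IsShuffle₃ r s t ν} := by simpa using hν
    obtain ⟨p, hp, hpν⟩ := hb.2.2 this
    refine ⟨p, ?_, hpν⟩
    simpa using hp
  · intro p _
    rw [Perm.sign_mul, sign_extRight, Units.val_mul]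

theorem sum_extLeft (r s t : ℕ) :
    (∑ ν ∈ Finset.univ.filter (W4c2movlemaddchow.IsShuffle₃ r s t),
        MonoidAlgebra.single ν (((Equiv.Perm.sign ν : ℤˣ) : ℤ)) :
          MonoidAlgebra ℤ (Equiv.Perm (Fin (r + s + t)))) =
      ∑ τ ∈ Finset.univ.filter (fun τ : Equiv.Perm (Fin (r + s + t)) =>
          W4c2movlemaddchow.IsShuffle₂ r (s + t) ((finCongr (Nat.add_assoc r s t)).permCongr τ)),
        ∑ σ ∈ Finset.univ.filter (W4c2movlemaddchow.IsShuffle₂ s t),
          MonoidAlgebra.single (τ * W4c2movlemaddchow.extLeft r s t σ)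
            (((Equiv.Perm.sign τ : ℤˣ) : ℤ) * ((Equiv.Perm.sign σ : ℤˣ) : ℤ)) := by
  rw [← Finset.sum_product']
  symm
  have hb := bijOn_extLeft r s t
  refine Finset.sum_nbij (fun p => p.1 * W4c2movlemaddchow.extLeft r s t p.2) ?_ ?_ ?_ ?_
  · intro p hp
    have : p ∈ ({τ | W4c2movlemaddchow.IsShuffle₂ r (s + t)
        ((finCongr (Nat.add_assoc r s t)).permCongr τ)} ×ˢ
        {σ | W4c2movlemaddchow.IsShuffle₂ s t σ} : Set _) := by
      simpa using hp
    simpa using hb.1 this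
  · intro p hp q hq h
    refine hb.2.1 ?_ ?_ h
    · simpa using hp
    · simpa using hq
  · intro ν hν
    have : ν ∈ {ν | W4c2movlemaddchow.IsShuffle₃ r s t ν} := by simpa using hν
    obtain ⟨p, hp, hpν⟩ := hb.2.2 this
    refine ⟨p, ?_, hpν⟩
    simpa using hp
  · intro p _
    rw [Perm.sign_mul, sign_extLeft, Units.val_mul]

end Groth.Agent.Lib.Helper8.Shuffle
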