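import Mathlib
import Groth.Agent.Lib.Helper8.Lang1
import Groth.Prelude.Def_WittGrp
set_option backward.isDefEq.respectTransparency.types false
set_option autoImplicit false
set_option linter.unusedSectionVars false

universe u v w

namespace Groth.Agent.Lib.Helper8.SigmaLinL

open Module Groth.Agent.Lib.Helper8.LangL Polynomial

/-- `T - 1` is surjective and `T` has finitely many fixed points. -/
def GoodMap {A : Type*} [AddCommGroup A] (T : A → A) : Prop :=
  Function.Surjective (fun m => T m - m) ∧ {m | T m = m}.Finite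

section Field

variable {k : Type u} [Field k]
variable {V : Type w} [AddCommGroup V] [Module k V] [FiniteDimensional k V]

/-- An injective semilinear endomorphism (surjective twist) of a finite-dimensional space is
surjective. -/
lemma semilinear_surjective {φ : k →+* k} (hφs : Function.Surjective φ) (T : V →ₛₗ[φ] V)
    (hT : Function.Injective T) : Function.Surjective T := by
  set d := Module.finrank k V with hd
  let v := Module.finBasis k V
  let wv : Fin d → V := fun i => T (v i)
  have hli : LinearIndependent k wv := by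
    rw [linearIndependent_iff']
    intro S g hg i hi
    choose g' hg' using fun i => hφs (g i)
    have h1 : T (∑ i ∈ S, g' i • v i) = 0 := by
      rw [map_sum, ← hg]
      apply Finset.sum_congr rfl
      intro j _
      rw [map_smulₛₗ, hg']
    have h3 : ∑ i ∈ S, g' i • v i = 0 := hT (by rw [h1, map_zero])
    have h5 := (linearIndependent_iff'.mp v.linearIndependent) S g' h3 i hi
    rw [← hg' i, h5, map_zero]
  have hspan := hli.span_eq_top_of_card_eq_finrank' (by simp [hd])
  intro y
  have hy' : y ∈ Submodule.span k (Set.range wv) := by rw [hspan]; trivial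
  rw [Submodule.mem_span_range_iff_exists_fun] at hy'
  obtain ⟨c, hc⟩ := hy'
  choose c' hc' using fun i => hφs (c i)
  refine ⟨∑ i, c' i • v i, ?_⟩
  rw [map_sum, ← hc]
  apply Finset.sum_congr rfl
  intro j _
  rw [map_smulₛₗ, hc']

variable [IsAlgClosed k]

lemma finite_fixed_pow {q : ℕ} (hq : 2 ≤ q) : {c : k | c ^ q = c}.Finite := by
  classical
  have hne : (X ^ q - X : k[X]) ≠ 0 := by
    intro h
    have h2 : (X : k[X]).degree < (X ^ q : k[X]).degree := by
      rw [degree_X_pow, degree_X]
      exact_mod_cast hq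
    have := degree_sub_eq_left_of_degree_lt h2
    rw [h, degree_zero, degree_X_pow] at this
    exact absurd this (by simp)
  apply Set.Finite.subset (X ^ q - X : k[X]).roots.toFinset.finite_toSet
  intro c hc
  rw [Finset.mem_coe, Multiset.mem_toFinset, mem_roots hne, IsRoot, eval_sub, eval_pow, eval_X,
    sub_eq_zero]
  exact hc

/-- Lang: injective Frobenius-semilinear case. -/
lemma goodMap_of_injective_frob {φ : k →+* k} {q : ℕ} (hq : 2 ≤ q) (hφ : ∀ x, φ x = x ^ q)
    (T : V →ₛₗ[φ] V) (hT : Function.Injective T) : GoodMap T := by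
  refine ⟨fun c => exists_sub_eq hq hφ T hT c, ?_⟩
  obtain ⟨b, hb⟩ := exists_basis_fixed hq hφ T hT
  have hS := finite_fixed_pow (k := k) hq
  have hpi : (Set.pi Set.univ (fun _ : Fin (finrank k V) => {c : k | c ^ q = c})).Finite :=
    Set.Finite.pi (fun _ => hS)
  apply Set.Finite.subset (hpi.image (fun c => ∑ i, c i • b i))
  intro x hx
  refine ⟨fun i => b.repr x i, ?_, b.sum_repr x⟩
  intro i _
  have h1 : T x = ∑ i, φ (b.repr x i) • b i := by
    conv_lhs => rw [← b.sum_repr x]
    rw [map_sum]
    apply Finset.sum_congr rfl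
    intro j _
    rw [map_smulₛₗ, hb]
  have hx' : T x = x := hx
  have h2 : b.repr (T x) i = φ (b.repr x i) := by
    rw [h1, b.repr_sum_self]
  rw [hx'] at h2
  show (b.repr x i) ^ q = b.repr x i
  rw [← hφ, ← h2]


/-- Lang: injective inverse-Frobenius-semilinear case. -/
lemma goodMap_of_injective_frobInv {φ ψ : k →+* k} {q : ℕ} (hq : 2 ≤ q) (hψ : ∀ x, ψ x = x ^ q)
    (hφ : ∀ x, ψ (φ x) = x) (T : V →ₛₗ[φ] V) (hT : Function.Injective T) : GoodMap T := by
  have hφψ : ∀ y, φ (ψ y) = y := fun y => ψ.injective (hφ (ψ y))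
  have hφs : Function.Surjective φ := fun y => ⟨ψ y, hφψ y⟩
  have hTs : Function.Surjective T := semilinear_surjective hφs T hT
  have e1 : ∀ x, T (Function.surjInv hTs x) = x := Function.surjInv_eq hTs
  let S : V →ₛₗ[ψ] V :=
    { toFun := Function.surjInv hTs
      map_add' := fun x y => by
        apply hT
        rw [map_add, e1, e1, e1]
      map_smul' := fun c x => by
        apply hT
        rw [map_smulₛₗ, e1, e1, hφψ] }
  have hTS : ∀ x, T (S x) = x := e1
  have hST : ∀ x, S (T x) = x := fun x => hT (hTS (T x))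
  have hSinj : Function.Injective S := fun x y h => by rw [← hTS x, ← hTS y, h]
  obtain ⟨h1, h2⟩ := goodMap_of_injective_frob hq hψ S hSinj
  refine ⟨fun y => ?_, ?_⟩
  · obtain ⟨x, hx⟩ := h1 (-(S y))
    refine ⟨x, ?_⟩
    have h3 : S x - x = -(S y) := hx
    have h4 := congrArg T h3
    rw [map_sub, map_neg, hTS, hTS] at h4
    show T x - x = y
    rw [← neg_sub, h4, neg_neg]
  · apply h2.subset
    intro x hx
    have hx' : T x = x := hx
    show S x = x
    conv_lhs => rw [← hx']
    exact hST x

/-- **Lang-type theorem** for arbitrary (not necessarily injective) Frobenius- or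
inverse-Frobenius-semilinear endomorphisms of finite-dimensional spaces. -/
theorem goodMap_field {φ ψ : k →+* k} {q : ℕ} (hq : 2 ≤ q) (hψ : ∀ x, ψ x = x ^ q)
    (hφ : φ = ψ ∨ ∀ x, ψ (φ x) = x) :
    ∀ (d : ℕ) (V : Type w) [AddCommGroup V] [Module k V] [FiniteDimensional k V]
      (T : V →ₛₗ[φ] V), finrank k V = d → GoodMap T := by
  intro d
  induction d using Nat.strong_induction_on with
  | _ d ih =>
    intro V _ _ _ T hd
    by_cases hT : Function.Injective T
    · rcases hφ with h | h
      · subst h
        exact goodMap_of_injective_frob hq hψ T hT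
      · exact goodMap_of_injective_frobInv hq hψ h T hT
    · set W := LinearMap.ker T with hW
      have hWne : W ≠ ⊥ := fun h => hT (LinearMap.ker_eq_bot.mp h)
      have hWT : ∀ x ∈ W, T x = 0 := fun x hx => LinearMap.mem_ker.mp hx
      have hle : W ≤ W.comap T := fun x hx => by
        rw [Submodule.mem_comap, hWT x hx]; exact W.zero_mem
      set Tq := W.mapQ W T hle with hTq
      have hlt : finrank k (V ⧸ W) < d := by
        have h1 := Submodule.finrank_quotient_add_finrank W
        have h2 : 0 < finrank k W := by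
          rw [Module.finrank_pos_iff]
          exact Submodule.nontrivial_iff_ne_bot.mpr hWne
        omega
      obtain ⟨h1, h2⟩ := ih _ hlt (V ⧸ W) Tq rfl
      refine ⟨fun y => ?_, ?_⟩
      · obtain ⟨xq, hxq⟩ := h1 (Submodule.Quotient.mk y)
        obtain ⟨x, rfl⟩ := Submodule.Quotient.mk_surjective W xq
        have h3 : Tq (Submodule.Quotient.mk x) - Submodule.Quotient.mk x
            = Submodule.Quotient.mk y := hxq
        rw [hTq, Submodule.mapQ_apply, ← Submodule.Quotient.mk_sub, Submodule.Quotient.eq] at h3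
        set w := T x - x - y with hw
        refine ⟨x + w, ?_⟩
        show T (x + w) - (x + w) = y
        rw [map_add, hWT w h3, hw]
        abel
      · have hinj : Set.InjOn (Submodule.Quotient.mk (p := W)) {m : V | T m = m} := by
          intro x hx y hy hxy
          rw [Submodule.Quotient.eq] at hxy
          have h3 := hWT _ hxy
          have hx' : T x = x := hx
          have hy' : T y = y := hy
          rw [map_sub, hx', hy'] at h3
          exact sub_eq_zero.mp h3
        apply Set.Finite.of_finite_image _ hinj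
        apply h2.subset
        rintro _ ⟨x, hx, rfl⟩
        have hx' : T x = x := hx
        show Tq (Submodule.Quotient.mk x) = Submodule.Quotient.mk x
        rw [hTq, Submodule.mapQ_apply, hx']

end Field


section Witt

variable (p : ℕ) [Fact p.Prime] (k : Type u) [CommRing k]

/-- The residue map `W_n(k) → k`, `n ≥ 1`. -/
noncomputable def res (n : ℕ) (hn : 0 < n) : TruncatedWittVector p n k →+* k :=
  RingHom.liftOfSurjective (WittVector.truncate n) (WittVector.truncate_surjective p n k)
    ⟨WittVector.constantCoeff, fun x hx => by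
      rw [RingHom.mem_ker] at hx ⊢
      exact (WittVector.mem_ker_truncate n x).1 (RingHom.mem_ker.2 hx) 0 hn⟩

theorem res_truncate (n : ℕ) (hn : 0 < n) (X : WittVector p k) :
    res p k n hn (WittVector.truncate n X) = X.coeff 0 :=
  RingHom.liftOfRightInverse_comp_apply _ _ _ _ X

theorem res_apply (n : ℕ) (hn : 0 < n) (x : TruncatedWittVector p n k) :
    res p k n hn x = x.coeff ⟨0, hn⟩ := by
  obtain ⟨X, rfl⟩ := WittVector.truncate_surjective p n k x
  rw [res_truncate, WittVector.coeff_truncate]

theorem res_surjective (n : ℕ) (hn : 0 < n) : Function.Surjective (res p k n hn) := by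
  intro c
  refine ⟨WittVector.truncate n (WittVector.teichmuller p c), ?_⟩
  rw [res_truncate, WittVector.teichmuller_coeff_zero]

theorem res_truncMap (n : ℕ) (hn : 0 < n) (f : k →+* k) (x : TruncatedWittVector p n k) :
    res p k n hn (WittGrp.truncMap p n f x) = f (res p k n hn x) := by
  rw [res_apply, res_apply, WittGrp.coeff_truncMap]

theorem exists_eq_p_mul_of_res_eq_zero [CharP k p] [PerfectRing k p] (n : ℕ) (hn : 0 < n)
    (x : TruncatedWittVector p n k) (hx : res p k n hn x = 0) :
    ∃ y : TruncatedWittVector p n k, x = (p : TruncatedWittVector p n k) * y := by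
  obtain ⟨X, rfl⟩ := WittVector.truncate_surjective p n k x
  rw [res_truncate] at hx
  have h1 : X = WittVector.verschiebung (X.shift 1) := by
    have := WittVector.eq_iterate_verschiebung (x := X) (n := 1)
      (fun i hi => by
        have : i = 0 := by omega
        rw [this]; exact hx)
    simpa using this
  obtain ⟨Z, hZ⟩ := (WittVector.frobenius_bijective p k).2 (X.shift 1)
  refine ⟨WittVector.truncate n Z, ?_⟩
  rw [h1, ← hZ, WittVector.verschiebung_frobenius, map_mul, map_natCast, mul_comm]

end Witt


section Killed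

variable {R : Type*} [CommRing R] {k : Type u} [Field k]

/-- Modules killed by `π₀` (a generator of the kernel of the residue map `ρ : R → k`): reduction
to vector spaces over `k`. -/
theorem goodMap_of_killed (ρ : R →+* k) (hρ : Function.Surjective ρ) (π₀ : R)
    (hker : ∀ x, ρ x = 0 → ∃ y, x = π₀ * y) {σ : R →+* R} {φ : k →+* k}
    (hσ : ∀ x, ρ (σ x) = φ (ρ x))
    (hfield : ∀ (V : Type u) [AddCommGroup V] [Module k V] [FiniteDimensional k V]
      (T : V →ₛₗ[φ] V), GoodMap T)
    {N : Type v} [AddCommGroup N] [Module R N] [Module.Finite R N] (hN : ∀ m : N, π₀ • m = 0)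
    (T : N →ₛₗ[σ] N) : GoodMap T := by
  classical
  obtain ⟨r, s, hs⟩ := Module.Finite.exists_fin (R := R) (M := N)
  set π : (Fin r → R) →ₗ[R] N := Fintype.linearCombination R s with hπdef
  have hπs : Function.Surjective π := by
    rw [← LinearMap.range_eq_top, hπdef, Fintype.range_linearCombination, hs]
  have hπ : ∀ x, π x = ∑ i, x i • s i := fun x => Fintype.linearCombination_apply R s x
  have hkill : ∀ x y : Fin r → R, (∀ i, ρ (x i) = ρ (y i)) → π x = π y := by
    intro x y h
    rw [← sub_eq_zero, ← map_sub, hπ]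
    apply Finset.sum_eq_zero
    intro i _
    obtain ⟨z, hz⟩ := hker (x i - y i) (by rw [map_sub, h i, sub_self])
    rw [Pi.sub_apply, hz, mul_smul, hN]
  choose a ha using fun i => hπs (T (s i))
  set Tt : (Fin r → R) → (Fin r → R) := fun x => ∑ i, σ (x i) • a i with hTt
  have hTtπ : ∀ x, π (Tt x) = T (π x) := by
    intro x
    rw [hTt, map_sum, hπ x, map_sum]
    apply Finset.sum_congr rfl
    intro i _
    rw [map_smul, map_smulₛₗ, ha]
  let T₀ : (Fin r → k) →ₛₗ[φ] (Fin r → k) :=
    { toFun := fun v => ∑ i, φ (v i) • (fun j => ρ (a i j))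
      map_add' := fun v w => by
        simp only [Pi.add_apply, map_add, add_smul, Finset.sum_add_distrib]
      map_smul' := fun c v => by
        simp only [Pi.smul_apply, smul_eq_mul, map_mul, mul_smul, Finset.smul_sum] }
  have hT₀ : ∀ v, T₀ v = ∑ i, φ (v i) • (fun j => ρ (a i j)) := fun v => rfl
  have hρT : ∀ x : Fin r → R, (fun j => ρ (Tt x j)) = T₀ (fun i => ρ (x i)) := by
    intro x
    funext j
    rw [hT₀, hTt]
    simp only [Finset.sum_apply, Pi.smul_apply, smul_eq_mul, map_sum, map_mul, hσ]
  choose lift hlift using hρ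
  let K : Submodule k (Fin r → k) :=
    { carrier := {v | ∃ x : Fin r → R, (∀ i, ρ (x i) = v i) ∧ π x = 0}
      zero_mem' := ⟨0, fun i => by simp, map_zero _⟩
      add_mem' := by
        rintro v w ⟨x, hx, hx0⟩ ⟨y, hy, hy0⟩
        exact ⟨x + y, fun i => by rw [Pi.add_apply, map_add, hx, hy, Pi.add_apply],
          by rw [map_add, hx0, hy0, add_zero]⟩
      smul_mem' := by
        rintro c v ⟨x, hx, hx0⟩
        refine ⟨lift c • x, fun i => ?_, by rw [map_smul, hx0, smul_zero]⟩
        rw [Pi.smul_apply, smul_eq_mul, map_mul, hlift, hx, Pi.smul_apply, smul_eq_mul] }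
  have hKmem : ∀ v, v ∈ K ↔ ∃ x : Fin r → R, (∀ i, ρ (x i) = v i) ∧ π x = 0 := fun v => Iff.rfl
  have hKT : ∀ v ∈ K, T₀ v ∈ K := by
    rintro v ⟨x, hx, hx0⟩
    refine ⟨Tt x, fun i => ?_, by rw [hTtπ, hx0, map_zero]⟩
    have h1 := congrFun (hρT x) i
    have h2 : (fun i => ρ (x i)) = v := funext hx
    rw [h2] at h1
    exact h1
  obtain ⟨hs₀, hf₀⟩ := hfield (Fin r → k) T₀
  obtain ⟨hsK, -⟩ := hfield K (T₀.restrict hKT)
  refine ⟨fun y => ?_, ?_⟩
  · obtain ⟨x, rfl⟩ := hπs y
    obtain ⟨u, hu⟩ := hs₀ (fun i => ρ (x i))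
    have hu' : T₀ u - u = fun i => ρ (x i) := hu
    refine ⟨π (fun i => lift (u i)), ?_⟩
    show T (π (fun i => lift (u i))) - π (fun i => lift (u i)) = π x
    rw [← hTtπ, ← map_sub]
    apply hkill
    intro i
    have h1 := congrFun (hρT (fun i => lift (u i))) i
    simp only [hlift] at h1
    have h3 := congrFun hu' i
    rw [Pi.sub_apply] at h3
    rw [Pi.sub_apply, map_sub, h1, hlift]
    exact h3
  · apply Set.Finite.subset (hf₀.image (fun v => π (fun i => lift (v i))))
    intro m hm
    have hm' : T m = m := hm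
    obtain ⟨x, rfl⟩ := hπs m
    set v : Fin r → k := fun i => ρ (x i) with hv
    have hw : T₀ v - v ∈ K := by
      refine ⟨Tt x - x, fun i => ?_, by rw [map_sub, hTtπ, hm', sub_self]⟩
      have h1 := congrFun (hρT x) i
      rw [Pi.sub_apply, map_sub, h1, Pi.sub_apply]
    obtain ⟨⟨u, huK⟩, hu⟩ := hsK ⟨T₀ v - v, hw⟩
    have hu' : T₀ u - u = T₀ v - v := by
      have := congrArg Subtype.val hu
      exact this
    obtain ⟨xu, hxu, hxu0⟩ := huK
    refine ⟨v - u, ?_, ?_⟩
    · show T₀ (v - u) = v - u
      rw [map_sub]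
      have : T₀ v - T₀ u = (T₀ v - v) - (T₀ u - u) + (v - u) := by abel
      rw [this, hu', sub_self, zero_add]
    · show π (fun i => lift ((v - u) i)) = π x
      have h1 : π x = π (x - xu) := by rw [map_sub, hxu0, sub_zero]
      rw [h1]
      apply hkill
      intro i
      rw [hlift, Pi.sub_apply, Pi.sub_apply, map_sub, hxu]

end Killed


section General

variable {R : Type*} [CommRing R] {σ : R →+* R}

/-- Extension lemma. -/
theorem goodMap_of_ext {M : Type v} [AddCommGroup M] [Module R M] (T : M →ₛₗ[σ] M)
    (N : Submodule R M) (hN : ∀ x ∈ N, T x ∈ N)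
    (h1 : GoodMap (T.restrict hN)) (h2 : GoodMap (N.mapQ N T (fun x hx => hN x hx))) :
    GoodMap T := by
  classical
  set Tq := N.mapQ N T (fun x hx => hN x hx) with hTq
  refine ⟨fun y => ?_, ?_⟩
  · obtain ⟨xq, hxq⟩ := h2.1 (Submodule.Quotient.mk y)
    obtain ⟨x, rfl⟩ := Submodule.Quotient.mk_surjective N xq
    have h3 : Tq (Submodule.Quotient.mk x) - Submodule.Quotient.mk x
        = Submodule.Quotient.mk y := hxq
    rw [hTq, Submodule.mapQ_apply, ← Submodule.Quotient.mk_sub, Submodule.Quotient.eq] at h3
    have h3' : y - (T x - x) ∈ N := by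
      have := N.neg_mem h3
      rwa [neg_sub] at this
    obtain ⟨u, hu⟩ := h1.1 ⟨y - (T x - x), h3'⟩
    have hu' : T (u : M) - (u : M) = y - (T x - x) := by
      have := congrArg Subtype.val hu
      exact this
    refine ⟨x + u, ?_⟩
    show T (x + u) - (x + u) = y
    rw [map_add]
    have : T x + T (u : M) - (x + u) = (T x - x) + (T (u : M) - u) := by abel
    rw [this, hu']
    abel
  · let rep : M ⧸ N → M := fun c =>
      if h : ∃ x, T x = x ∧ Submodule.Quotient.mk x = c then h.choose else 0
    have hfin := Set.Finite.image2 (fun (c : M ⧸ N) (u : N) => rep c + (u : M)) h2.2 h1.2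
    apply hfin.subset
    intro m hm
    have hm' : T m = m := hm
    have hex : ∃ x, T x = x ∧ Submodule.Quotient.mk x = (Submodule.Quotient.mk m : M ⧸ N) :=
      ⟨m, hm', rfl⟩
    have hrep : rep (Submodule.Quotient.mk m) = hex.choose := dif_pos hex
    obtain ⟨hx₀fix, hx₀⟩ := hex.choose_spec
    set x₀ := hex.choose with hx₀def
    have hmem : m - x₀ ∈ N := by
      rw [← Submodule.Quotient.eq]; exact hx₀.symm
    refine ⟨Submodule.Quotient.mk m, ?_, ⟨m - x₀, hmem⟩, ?_, ?_⟩
    · show Tq (Submodule.Quotient.mk m) = Submodule.Quotient.mk m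
      rw [hTq, Submodule.mapQ_apply, hm']
    · show (T.restrict hN) ⟨m - x₀, hmem⟩ = ⟨m - x₀, hmem⟩
      apply Subtype.ext
      show T (m - x₀) = m - x₀
      rw [map_sub, hm', hx₀fix]
    · show rep (Submodule.Quotient.mk m) + (m - x₀) = m
      rw [hrep]
      abel

theorem goodMap_of_pow_killed (π₀ : R) (hσπ : σ π₀ = π₀)
    (hkilled : ∀ (N : Type v) [AddCommGroup N] [Module R N] [Module.Finite R N]
      (T : N →ₛₗ[σ] N), (∀ m : N, π₀ • m = 0) → GoodMap T) :
    ∀ (e : ℕ) (M : Type v) [AddCommGroup M] [Module R M] [Module.Finite R M]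
      (T : M →ₛₗ[σ] M), (∀ m : M, π₀ ^ e • m = 0) → GoodMap T := by
  intro e
  induction e with
  | zero =>
    intro M _ _ _ T h
    have hsub : ∀ m : M, m = 0 := fun m => by
      have := h m
      rwa [pow_zero, one_smul] at this
    refine ⟨fun y => ⟨0, ?_⟩, ?_⟩
    · show T 0 - 0 = y
      rw [map_zero, sub_zero, hsub y]
    · apply Set.Finite.subset (Set.finite_singleton (0 : M))
      intro m _
      exact hsub m
  | succ e ih =>
    intro M _ _ _ T h
    set N : Submodule R M := LinearMap.range (LinearMap.lsmul R M π₀) with hNdef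
    have hNmem : ∀ x, x ∈ N ↔ ∃ m, π₀ • m = x := fun x => by
      rw [hNdef, LinearMap.mem_range]
      rfl
    have hN : ∀ x ∈ N, T x ∈ N := by
      intro x hx
      obtain ⟨m, rfl⟩ := (hNmem x).mp hx
      rw [map_smulₛₗ, hσπ]
      exact (hNmem _).mpr ⟨T m, rfl⟩
    have h1 : GoodMap (T.restrict hN) := by
      apply ih N (T.restrict hN)
      rintro ⟨x, hx⟩
      obtain ⟨m, rfl⟩ := (hNmem x).mp hx
      apply Subtype.ext
      show π₀ ^ e • π₀ • m = 0
      rw [smul_smul, ← pow_succ]
      exact h m
    have h2 : GoodMap (N.mapQ N T (fun x hx => hN x hx)) := by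
      apply hkilled (M ⧸ N)
      intro c
      obtain ⟨m, rfl⟩ := Submodule.Quotient.mk_surjective N c
      rw [← Submodule.Quotient.mk_smul, Submodule.Quotient.mk_eq_zero]
      exact (hNmem _).mpr ⟨m, rfl⟩
    exact goodMap_of_ext T N hN h1 h2

end General

section Main

variable (p : ℕ) [Fact p.Prime] (k : Type u) [Field k] [CharP k p] [IsAlgClosed k]

theorem p_pow_eq_zero (n : ℕ) : (p : TruncatedWittVector p n k) ^ n = 0 := by
  have h : (p : TruncatedWittVector p n k) ^ n
      = WittVector.truncate n ((p : WittVector p k) ^ n) := by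
    rw [map_pow, map_natCast]
  rw [h]
  apply TruncatedWittVector.ext
  intro i
  rw [WittVector.coeff_truncate, TruncatedWittVector.coeff_zero]
  exact WittVector.coeff_p_pow_eq_zero (p := p) (R := k) (i := n) (j := (i : ℕ)) (by have := i.2; omega)

/-- **S19237 / S19238.** -/
theorem goodMap_truncatedWitt (n : ℕ)
    (σ : TruncatedWittVector p n k →+* TruncatedWittVector p n k)
    (hσ : σ = WittGrp.truncMap p n (frobenius k p) ∨
      σ = WittGrp.truncMap p n (frobeniusEquiv k p).symm.toRingHom)
    (M : Type v) [AddCommGroup M] [Module (TruncatedWittVector p n k) M]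
    [Module.Finite (TruncatedWittVector p n k) M] (T : M →ₛₗ[σ] M) : GoodMap T := by
  have hp2 : 2 ≤ p := (Fact.out : p.Prime).two_le
  apply goodMap_of_pow_killed (p : TruncatedWittVector p n k) (map_natCast σ p) _ n M T
  · intro m
    rw [p_pow_eq_zero, zero_smul]
  · intro N _ _ _ T' hN
    rcases Nat.eq_zero_or_pos n with h0 | hn
    · subst h0
      have hsub : ∀ m : N, m = 0 := fun m => by
        have h1 : (1 : TruncatedWittVector p 0 k) = 0 := TruncatedWittVector.ext (fun i => i.elim0)
        rw [← one_smul (TruncatedWittVector p 0 k) m, h1, zero_smul]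
      refine ⟨fun y => ⟨0, ?_⟩, ?_⟩
      · show T' 0 - 0 = y
        rw [map_zero, sub_zero, hsub y]
      · apply Set.Finite.subset (Set.finite_singleton (0 : N))
        intro m _
        exact hsub m
    · rcases hσ with h | h
      · exact goodMap_of_killed (res p k n hn) (res_surjective p k n hn)
          (p : TruncatedWittVector p n k) (exists_eq_p_mul_of_res_eq_zero p k n hn)
          (φ := frobenius k p) (fun x => by rw [h, res_truncMap])
          (fun V _ _ _ T₁ => goodMap_field (ψ := frobenius k p) hp2 (fun x => frobenius_def p x)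
            (Or.inl rfl) _ V T₁ rfl) hN T'
      · exact goodMap_of_killed (res p k n hn) (res_surjective p k n hn)
          (p : TruncatedWittVector p n k) (exists_eq_p_mul_of_res_eq_zero p k n hn)
          (φ := (frobeniusEquiv k p).symm.toRingHom) (fun x => by rw [h, res_truncMap])
          (fun V _ _ _ T₁ => goodMap_field (ψ := frobenius k p) hp2 (fun x => frobenius_def p x)
            (Or.inr (fun x => by simp)) _ V T₁ rfl) hN T'

end Main

end Groth.Agent.Lib.Helper8.SigmaLinL
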