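import Mathlib
import Groth.Agent.Lib.Helper8.DepthHom
import Groth.Agent.Lib.Helper18.CM3

set_option autoImplicit false
universe u

namespace Groth.Agent.Lib.Helper8.SkHom
open Groth.Agent.Lib.Helper8.DepthHom Groth.Agent.Lib.Helper18.CM

theorem withBot_le_of_lt_succ {a : WithBot ℕ∞} {n : ℕ} (h : a < ((n + 1 : ℕ) : WithBot ℕ∞)) :
    a ≤ ((n : ℕ) : WithBot ℕ∞) := by
  induction a using WithBot.recBotCoe with
  | bot => exact bot_le
  | coe a =>
    have h' : a < ((n + 1 : ℕ) : ℕ∞) := by exact_mod_cast h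
    have hne : a ≠ ⊤ := ne_top_of_lt h'
    lift a to ℕ using hne
    have h'' : a < n + 1 := by exact_mod_cast h'
    have : a ≤ n := by omega
    exact_mod_cast this

section local_
variable (A : Type u) [CommRing A] [IsNoetherianRing A] [IsLocalRing A]
  (M N : Type u) [AddCommGroup M] [Module A M] [Module.Finite A M] [AddCommGroup N] [Module A N]
  [Module.Finite A N]

theorem support_hom_subset : Module.support A (M →ₗ[A] N) ⊆ Module.support A N := by
  intro q hq
  have h1 := Module.annihilator_le_of_mem_support hq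
  rw [Module.support_eq_zeroLocus, PrimeSpectrum.mem_zeroLocus]
  refine le_trans ?_ h1
  intro a ha
  rw [SetLike.mem_coe, Module.mem_annihilator] at ha ⊢
  intro f
  ext m
  simp [ha]

theorem supportDim_hom_le : Module.supportDim A (M →ₗ[A] N) ≤ Module.supportDim A N := by
  unfold Module.supportDim
  exact Order.krullDim_le_of_strictMono (Set.inclusion (support_hom_subset A M N))
    (fun a b h => h)

theorem zero_le_coe_depth (P : Type u) [AddCommGroup P] [Module A P] :
    ((0 : ℕ) : WithBot ℕ∞) ≤ ((LocCoh.depth A P : ℕ∞) : WithBot ℕ∞) := by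
  have : ((0 : ℕ) : ℕ∞) ≤ LocCoh.depth A P := by simp
  exact_mod_cast this

theorem sk_one :
    min ((1 : ℕ) : WithBot ℕ∞) (Module.supportDim A N) ≤ ((LocCoh.depth A N : ℕ∞) : WithBot ℕ∞) →
    min ((1 : ℕ) : WithBot ℕ∞) (Module.supportDim A (M →ₗ[A] N)) ≤
      ((LocCoh.depth A (M →ₗ[A] N) : ℕ∞) : WithBot ℕ∞) := by
  intro h
  have hle := supportDim_hom_le A M N
  by_cases h1 : ((1 : ℕ) : WithBot ℕ∞) ≤ Module.supportDim A N
  · rw [min_eq_left h1] at h
    have h' : (1 : ℕ∞) ≤ LocCoh.depth A N := by exact_mod_cast h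
    have := (main A M N).1 h'
    refine (min_le_left _ _).trans ?_
    exact_mod_cast this
  · rw [not_le] at h1
    refine (min_le_right _ _).trans ?_
    exact (hle.trans (withBot_le_of_lt_succ h1)).trans (zero_le_coe_depth A _)

theorem sk_two :
    min ((2 : ℕ) : WithBot ℕ∞) (Module.supportDim A N) ≤ ((LocCoh.depth A N : ℕ∞) : WithBot ℕ∞) →
    min ((2 : ℕ) : WithBot ℕ∞) (Module.supportDim A (M →ₗ[A] N)) ≤
      ((LocCoh.depth A (M →ₗ[A] N) : ℕ∞) : WithBot ℕ∞) := by
  intro h
  have hle := supportDim_hom_le A M N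
  by_cases h2 : ((2 : ℕ) : WithBot ℕ∞) ≤ Module.supportDim A N
  · rw [min_eq_left h2] at h
    have h2' : (((2 : ℕ) : ℕ∞) : WithBot ℕ∞) ≤ (LocCoh.depth A N : WithBot ℕ∞) := h
    have h' : (2 : ℕ∞) ≤ LocCoh.depth A N := by exact_mod_cast WithBot.coe_le_coe.mp h2'
    have := (main A M N).2 h'
    refine (min_le_left _ _).trans ?_
    have h3 : ((2 : ℕ) : ℕ∞) ≤ LocCoh.depth A (M →ₗ[A] N) := by exact_mod_cast this
    exact WithBot.coe_le_coe.mpr h3
  · rw [not_le] at h2
    rw [min_eq_right h2.le] at h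
    by_cases h1 : ((1 : ℕ) : WithBot ℕ∞) ≤ Module.supportDim A N
    · have h' : (1 : ℕ∞) ≤ LocCoh.depth A N := by exact_mod_cast h1.trans h
      have := (main A M N).1 h'
      refine (min_le_right _ _).trans ?_
      have hlt : Module.supportDim A (M →ₗ[A] N) < ((1 + 1 : ℕ) : WithBot ℕ∞) :=
        lt_of_le_of_lt hle h2
      refine (withBot_le_of_lt_succ hlt).trans ?_
      exact_mod_cast this
    · rw [not_le] at h1
      refine (min_le_right _ _).trans ?_
      exact (hle.trans (withBot_le_of_lt_succ h1)).trans (zero_le_coe_depth A _)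

end local_

end Groth.Agent.Lib.Helper8.SkHom

namespace Groth.Agent.Lib.Helper8.SkHom
open Groth.Agent.Lib.Helper8.DepthHom Groth.Agent.Lib.Helper18.CM

variable (R : Type u) [CommRing R] [IsNoetherianRing R]
    (M N : Type u) [AddCommGroup M] [Module R M] [Module.Finite R M] [AddCommGroup N] [Module R N] [Module.Finite R N]

/-- Localization commutes with `Hom` out of a finite module over a Noetherian ring. -/
noncomputable def locHomEquiv (S : Submonoid R) :
    LocalizedModule S (M →ₗ[R] N) ≃ₗ[Localization S]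
      (LocalizedModule S M →ₗ[Localization S] LocalizedModule S N) :=
  haveI : Module.FinitePresentation R M := Module.finitePresentation_of_finite R M
  (IsLocalizedModule.iso S (LocalizedModule.map S (M := M) (N := N))).extendScalarsOfIsLocalization S
    (Localization S)

theorem hasSk_hom :
    (LocCoh.HasSk 1 R N → LocCoh.HasSk 1 R (M →ₗ[R] N)) ∧
    (LocCoh.HasSk 2 R N → LocCoh.HasSk 2 R (M →ₗ[R] N)) := by
  constructor
  · intro h p hp
    have e := locHomEquiv R M N p.primeCompl
    change _ ≃ₗ[Localization.AtPrime p] _ at e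
    rw [depth_congr e, Module.supportDim_eq_of_equiv e]
    exact sk_one _ _ _ (h p)
  · intro h p hp
    have e := locHomEquiv R M N p.primeCompl
    change _ ≃ₗ[Localization.AtPrime p] _ at e
    rw [depth_congr e, Module.supportDim_eq_of_equiv e]
    exact sk_two _ _ _ (h p)

end Groth.Agent.Lib.Helper8.SkHom
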