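import Mathlib
import Groth.Agent.Lib.Helper8.CSASplit
import Groth.Agent.Lib.Helper8.MatrixSimple
import Groth.Agent.Lib.Helper5.DoubleCentralizer
import Groth.Agent.Lib.Helper15.RedNorm
import Groth.Agent.S0194
import Groth.Agent.S7722

/-!
# Splitting fields and subfields of central simple algebras (helper8)

* `splits_of_subfield`: a subfield `k' ⊆ B` with `[B:k] = [k':k]^2` splits `B`.
* `splits_matrix`, `splits_of_splits_matrix`, `splits_of_algEquiv`: splitting is a Brauer invariant.
* `exists_csa_of_splits`: conversely a splitting field embeds in a Brauer equivalent CSA of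
  dimension `[k':k]^2`.
-/

set_option autoImplicit false
set_option maxSynthPendingDepth 3
universe u v w
open scoped TensorProduct

namespace Groth.Agent.Lib.Helper8.SplitField

open Groth.Agent.Lib.Helper15.CSA Groth.Agent.Lib.Helper8.CSASplit
  Groth.Agent.Lib.Helper5.DoubleCentralizer

/-- A subfield `k'` of a CSA `B` with `[B:k] = [k':k]^2` splits `B`. -/
theorem splits_of_subfield (k : Type u) [Field k] (B : Type v) [Ring B] [Algebra k B]
    [Algebra.IsCentral k B] [IsSimpleRing B] [FiniteDimensional k B]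
    (k' : Type w) [Field k'] [Algebra k k'] [FiniteDimensional k k'] (ι : k' →ₐ[k] B)
    (h : Module.finrank k B = Module.finrank k k' ^ 2) : Curves.Splits k B k' := by
  classical
  let f : k' →+* Module.End k B :=
    { toFun := fun c => LinearMap.mulRight k (ι c)
      map_one' := by ext x; simp
      map_mul' := fun a b => by
        ext x
        simp only [LinearMap.mulRight_apply, Module.End.mul_apply, map_mul]
        rw [← map_mul, mul_comm a b, map_mul, mul_assoc]
      map_zero' := by ext x; simp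
      map_add' := fun a b => by ext x; simp [mul_add] }
  letI : Module k' B := Module.compHom B f
  have hsmul : ∀ (c : k') (x : B), c • x = x * ι c := fun _ _ => rfl
  haveI : IsScalarTower k k' B := ⟨fun a c x => by
    rw [hsmul, hsmul, map_smul, mul_smul_comm]⟩
  haveI : SMulCommClass k' k B := ⟨fun c a x => by
    rw [hsmul, hsmul, smul_mul_assoc]⟩
  haveI : Module.Finite k' B := Module.Finite.of_restrictScalars_finite k k' B
  let g : B →ₐ[k] Module.End k' B :=
    { toFun := fun b =>
        { toFun := fun x => b * x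
          map_add' := fun x y => mul_add b x y
          map_smul' := fun c x => by simp only [hsmul, RingHom.id_apply, mul_assoc] }
      map_one' := by ext x; simp
      map_mul' := fun a b => by ext x; simp [mul_assoc]
      map_zero' := by ext x; simp
      map_add' := fun a b => by ext x; simp [add_mul]
      commutes' := fun a => by
        ext x
        simp [Algebra.smul_def] }
  let Φ : k' ⊗[k] B →ₐ[k'] Module.End k' B :=
    Algebra.TensorProduct.lift (Algebra.ofId k' (Module.End k' B)) g
      (fun c b => Algebra.commutes c (g b))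
  haveI : IsSimpleRing (k' ⊗[k] B) := isSimpleRing_baseChange k k' B
  have hinj : Function.Injective Φ := by
    have := RingHom.injective (Φ.toRingHom)
    exact this
  have hr : 0 < Module.finrank k k' := Module.finrank_pos
  have hB : Module.finrank k' B = Module.finrank k k' := by
    have h1 := Module.finrank_mul_finrank k k' B
    rw [h, sq] at h1
    exact Nat.eq_of_mul_eq_mul_left hr h1
  have hrank : Module.finrank k' (k' ⊗[k] B) = Module.finrank k' (Module.End k' B) := by
    rw [Module.finrank_baseChange, Module.finrank_linearMap, hB, h, sq]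
  have hbij : Function.Bijective Φ :=
    ⟨hinj, (LinearMap.injective_iff_surjective_of_finrank_eq_finrank hrank
      (f := Φ.toLinearMap)).mp hinj⟩
  exact ⟨Module.finrank k k', hr.ne', ⟨(AlgEquiv.ofBijective Φ hbij).trans
    (algEquivMatrix (Module.finBasisOfFinrankEq k' B hB))⟩⟩

theorem splits_of_algEquiv {k : Type*} [Field k] {A A' : Type*} [Ring A] [Algebra k A] [Ring A']
    [Algebra k A'] {K : Type*} [Field K] [Algebra k K] (e : A ≃ₐ[k] A')
    (h : Curves.Splits k A K) : Curves.Splits k A' K := by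
  obtain ⟨n, hn, ⟨ψ⟩⟩ := h
  exact ⟨n, hn, ⟨(Algebra.TensorProduct.congr (AlgEquiv.refl : K ≃ₐ[K] K) e.symm).trans ψ⟩⟩

theorem splits_matrix_self (k : Type*) [Field k] (K : Type*) [Field K] [Algebra k K] (m : ℕ)
    (hm : m ≠ 0) : Curves.Splits k (Matrix (Fin m) (Fin m) k) K :=
  ⟨m, hm, ⟨tensorMatrixEquiv k K (Fin m)⟩⟩

theorem splits_matrix {k : Type*} [Field k] {A : Type*} [Ring A] [Algebra k A]
    {K : Type*} [Field K] [Algebra k K] (m : ℕ) (hm : m ≠ 0) (h : Curves.Splits k A K) :
    Curves.Splits k (Matrix (Fin m) (Fin m) A) K :=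
  splits_of_algEquiv (matrixEquivTensor (Fin m) k A).symm
    (splits_tensor h (splits_matrix_self k K m hm))

/-- `K ⊗ M_n(A) ≃ M_n(K ⊗ A)` -/
noncomputable def baseChangeMatrixEquiv (k : Type*) [Field k] (A : Type*) [Ring A] [Algebra k A]
    (K : Type*) [Field K] [Algebra k K] (n : ℕ) :
    K ⊗[k] Matrix (Fin n) (Fin n) A ≃ₐ[K] Matrix (Fin n) (Fin n) (K ⊗[k] A) :=
  (Algebra.TensorProduct.congr (AlgEquiv.refl : K ≃ₐ[K] K) (matrixEquivTensor (Fin n) k A)).trans <|
    (baseChangeTensorEquiv k K A (Matrix (Fin n) (Fin n) k)).trans <|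
      (Algebra.TensorProduct.congr (AlgEquiv.refl : (K ⊗[k] A) ≃ₐ[K] (K ⊗[k] A))
        (tensorMatrixEquiv k K (Fin n))).trans
        (matrixEquivTensor (Fin n) K (K ⊗[k] A)).symm

/-- If `M_n(A)` is split by `K` then so is the CSA `A`. -/
theorem splits_of_splits_matrix (k : Type u) [Field k] (A : Type v) [Ring A] [Algebra k A]
    [Algebra.IsCentral k A] [IsSimpleRing A] [FiniteDimensional k A]
    (K : Type w) [Field K] [Algebra k K] (n : ℕ) (hn : n ≠ 0)
    (h : Curves.Splits k (Matrix (Fin n) (Fin n) A) K) : Curves.Splits k A K := by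
  obtain ⟨s, hs, ⟨ψ⟩⟩ := h
  haveI := isCentral_baseChange k K A
  haveI := isSimpleRing_baseChange k K A
  obtain ⟨t, ht, E, _, _, _, _, ⟨e⟩⟩ := exists_algEquiv_matrix_central_division K (K ⊗[k] A)
  haveI : NeZero n := ⟨hn⟩
  haveI : NeZero s := ⟨hs⟩
  let χ : Matrix (Fin (n * t)) (Fin (n * t)) E ≃ₐ[K] Matrix (Fin s) (Fin s) K :=
    ((Matrix.reindexAlgEquiv K E finProdFinEquiv).symm.trans <|
      (Matrix.compAlgEquiv (Fin n) (Fin t) E K).symm.trans <|
        (e.mapMatrix (m := Fin n)).symm.trans <|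
          (baseChangeMatrixEquiv k A K n).symm.trans ψ)
  obtain ⟨eE⟩ := Groth.Agent.Lib.Helper8.MatrixSimple.nonempty_algEquiv_of_matrix_algEquiv
    K E K (n * t) s χ
  exact ⟨t, ht.out, ⟨e.trans eE.mapMatrix⟩⟩

/-- restriction of scalars on endomorphism algebras -/
def endRestrict (k : Type*) [CommSemiring k] (k' : Type*) [Semiring k'] [Algebra k k']
    (V : Type*) [AddCommMonoid V] [Module k V] [Module k' V] [IsScalarTower k k' V] :
    Module.End k' V →+* Module.End k V where
  toFun f := f.restrictScalars k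
  map_one' := rfl
  map_mul' _ _ := rfl
  map_zero' := rfl
  map_add' _ _ := rfl

/-- Centralizer of a central simple subalgebra of a CSA is central. -/
theorem isCentral_centralizer (k : Type u) [Field k] (E : Type v) [Ring E] [Algebra k E]
    [Algebra.IsCentral k E] [IsSimpleRing E] [FiniteDimensional k E]
    (A' : Subalgebra k E) [IsSimpleRing A'] [Algebra.IsCentral k A'] :
    Algebra.IsCentral k (Subalgebra.centralizer k (A' : Set E)) := by
  refine ⟨fun z hz => ?_⟩
  rw [Subalgebra.mem_center_iff] at hz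
  have hzA : (z : E) ∈ A' := by
    have h1 : (z : E) ∈ Subalgebra.centralizer k
        (Subalgebra.centralizer k (A' : Set E) : Set E) := by
      rw [Subalgebra.mem_centralizer_iff]
      intro g hg
      exact congrArg Subtype.val (hz ⟨g, hg⟩)
    rwa [centralizer_centralizer_eq k E A'] at h1
  have hzc : (⟨z, hzA⟩ : A') ∈ Subalgebra.center k A' := by
    rw [Subalgebra.mem_center_iff]
    intro a
    have := z.2
    rw [Subalgebra.mem_centralizer_iff] at this
    exact Subtype.ext (this a a.2)
  obtain ⟨c, hc⟩ := Algebra.mem_bot.mp (Algebra.IsCentral.out hzc)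
  rw [Algebra.mem_bot]
  refine ⟨c, Subtype.ext ?_⟩
  have := congrArg (Subtype.val : A' → E) hc
  exact this

theorem isCentral_of_algEquiv' {k : Type*} [Field k] {A B : Type*} [Ring A] [Ring B] [Algebra k A]
    [Algebra k B] (e : A ≃ₐ[k] B) [Algebra.IsCentral k A] : Algebra.IsCentral k B := by
  refine ⟨fun z hz => ?_⟩
  have h1 : e.symm z ∈ Subalgebra.center k A := by
    rw [Subalgebra.mem_center_iff] at hz ⊢
    intro b
    have := congrArg e.symm (hz (e b))
    simpa using this
  obtain ⟨c, hc⟩ := (Algebra.IsCentral.mem_center_iff k).mp h1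
  rw [Algebra.mem_bot]
  refine ⟨c, e.symm.injective ?_⟩
  rw [AlgEquiv.commutes, hc]

/-- The abstract construction: the opposite of the centralizer of a CSA `A` inside a split CSA `E`
is Brauer equivalent to `A`. -/
theorem exists_matrix_algEquiv_centralizer_op (k : Type u) [Field k] (A : Type v) [Ring A]
    [Algebra k A] [Algebra.IsCentral k A] [IsSimpleRing A] [FiniteDimensional k A]
    (E : Type w) [Ring E] [Algebra k E] [Algebra.IsCentral k E] [IsSimpleRing E]
    [FiniteDimensional k E] (N : ℕ) (e₃ : E ≃ₐ[k] Matrix (Fin N) (Fin N) k) (α : A →ₐ[k] E) :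
    Algebra.IsCentral k (Subalgebra.centralizer k (α.range : Set E)) ∧
    IsSimpleRing (Subalgebra.centralizer k (α.range : Set E)) ∧
    Module.finrank k E = Module.finrank k A *
      Module.finrank k (Subalgebra.centralizer k (α.range : Set E)) ∧
    ∀ p, Module.finrank k (Subalgebra.centralizer k (α.range : Set E)) = p →
      Nonempty (Matrix (Fin p) (Fin p) A ≃ₐ[k]
        Matrix (Fin N) (Fin N) (Subalgebra.centralizer k (α.range : Set E))ᵐᵒᵖ) := by
  have hαinj : Function.Injective α := RingHom.injective α.toRingHom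
  let e₁ : A ≃ₐ[k] α.range := AlgEquiv.ofInjective α hαinj
  haveI : IsSimpleRing α.range := IsSimpleRing.of_ringEquiv e₁.toRingEquiv inferInstance
  haveI : Algebra.IsCentral k α.range := isCentral_of_algEquiv' e₁
  set C := Subalgebra.centralizer k (α.range : Set E) with hC
  haveI hCc : Algebra.IsCentral k C := isCentral_centralizer k E α.range
  haveI hCs : IsSimpleRing C := isSimpleRing_centralizer k E α.range
  have hfr : Module.finrank k E = Module.finrank k A * Module.finrank k C := by
    rw [finrank_eq_mul_centralizer k E α.range, e₁.toLinearEquiv.finrank_eq]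
  refine ⟨hCc, hCs, hfr, fun p hp => ?_⟩
  let e₂ : α.range ⊗[k] C ≃ₐ[k] E := AlgEquiv.ofBijective _ (Groth.Agent.S0194.result k E α.range)
  let e₄ : C ⊗[k] Cᵐᵒᵖ ≃ₐ[k] Module.End k C :=
    AlgEquiv.ofBijective (AlgHom.mulLeftRight k C) (Groth.Agent.S7722.result k C)
  let e₅ : Module.End k C ≃ₐ[k] Matrix (Fin p) (Fin p) k :=
    algEquivMatrix (Module.finBasisOfFinrankEq k C hp)
  exact ⟨(matrixEquivTensor (Fin p) k A).trans <|
    (Algebra.TensorProduct.congr (AlgEquiv.refl : A ≃ₐ[k] A) (e₄.trans e₅).symm).trans <|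
    (Algebra.TensorProduct.assoc k k k A C Cᵐᵒᵖ).symm.trans <|
    (Algebra.TensorProduct.congr (Algebra.TensorProduct.congr e₁ (AlgEquiv.refl : C ≃ₐ[k] C))
      (AlgEquiv.refl : Cᵐᵒᵖ ≃ₐ[k] Cᵐᵒᵖ)).trans <|
    (Algebra.TensorProduct.congr (e₂.trans e₃) (AlgEquiv.refl : Cᵐᵒᵖ ≃ₐ[k] Cᵐᵒᵖ)).trans <|
    (Algebra.TensorProduct.comm k (Matrix (Fin N) (Fin N) k) Cᵐᵒᵖ).trans
      (matrixEquivTensor (Fin N) k Cᵐᵒᵖ).symm⟩

/-- If `k'` splits the CSA `A`, there is a CSA `C` containing `k'`, of dimension `[k':k]^2`,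
Brauer equivalent to `A`. -/
theorem exists_csa_of_splits (k : Type u) [Field k] (A : Type u) [Ring A] [Algebra k A]
    [Algebra.IsCentral k A] [IsSimpleRing A] [FiniteDimensional k A]
    (k' : Type u) [Field k'] [Algebra k k'] [FiniteDimensional k k']
    (h : Curves.Splits k A k') :
    ∃ (C : Type u) (_ : Ring C) (_ : Algebra k C) (_ : Algebra.IsCentral k C)
      (_ : IsSimpleRing C) (_ : FiniteDimensional k C) (_ : k' →ₐ[k] C),
      (∃ p q : ℕ, p ≠ 0 ∧ q ≠ 0 ∧
        Nonempty (Matrix (Fin p) (Fin p) A ≃ₐ[k] Matrix (Fin q) (Fin q) C)) ∧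
      Module.finrank k C = Module.finrank k k' ^ 2 := by
  classical
  obtain ⟨n, hn, ⟨φ⟩⟩ := h
  let r := Module.finrank k k'
  have hr : 0 < r := Module.finrank_pos
  let V := Fin n → k'
  let E := Module.End k V
  have hV : Module.finrank k V = n * r := by simp [V, r, Module.finrank_pi_fintype]
  have hN : n * r ≠ 0 := Nat.mul_ne_zero hn hr.ne'
  haveI : NeZero (n * r) := ⟨hN⟩
  let e₃ : E ≃ₐ[k] Matrix (Fin (n * r)) (Fin (n * r)) k :=
    algEquivMatrix (Module.finBasisOfFinrankEq k V hV)
  haveI : Algebra.IsCentral k E := isCentral_of_algEquiv' e₃.symm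
  haveI : IsSimpleRing E := IsSimpleRing.of_ringEquiv e₃.symm.toRingEquiv inferInstance
  let α₀ : A →ₐ[k] Module.End k' V :=
    ((Matrix.toLinAlgEquiv' : Matrix (Fin n) (Fin n) k' ≃ₐ[k'] Module.End k' V).restrictScalars k
      : Matrix (Fin n) (Fin n) k' →ₐ[k] Module.End k' V).comp
      (((φ.restrictScalars k : k' ⊗[k] A ≃ₐ[k] Matrix (Fin n) (Fin n) k') : _ →ₐ[k] _).comp
        (Algebra.TensorProduct.includeRight : A →ₐ[k] k' ⊗[k] A))
  let α : A →ₐ[k] E :=
    { toRingHom := (endRestrict k k' V).comp α₀.toRingHom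
      commutes' := fun c => by
        refine LinearMap.ext fun v => ?_
        show (α₀ (algebraMap k A c)) v = (algebraMap k E c) v
        rw [AlgHom.commutes, Module.algebraMap_end_apply, Module.algebraMap_end_apply] }
  have hα : ∀ (a : A) (c : k') (v : V), α a (c • v) = c • α a v := fun a c v =>
    (α₀ a).map_smul c v
  obtain ⟨hCc, hCs, hfr, hbr⟩ := exists_matrix_algEquiv_centralizer_op k A E (n * r) e₃ α
  set C := Subalgebra.centralizer k (α.range : Set E) with hC
  have hE : Module.finrank k E = (n * r) * (n * r) := by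
    rw [e₃.toLinearEquiv.finrank_eq, Module.finrank_matrix]
    simp
  have hA : Module.finrank k A = n ^ 2 := finrank_eq_sq_of_algEquiv_matrix k k' A φ
  have hCdim : Module.finrank k C = r ^ 2 := by
    rw [hE, hA] at hfr
    have hn2 : 0 < n ^ 2 := by positivity
    have : n ^ 2 * Module.finrank k C = n ^ 2 * r ^ 2 := by rw [← hfr]; ring
    exact Nat.eq_of_mul_eq_mul_left hn2 this
  let σ : k' →ₐ[k] E := Algebra.lsmul k k V
  have hσ : ∀ c, σ c ∈ C := by
    intro c
    rw [Subalgebra.mem_centralizer_iff]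
    rintro _ ⟨a, rfl⟩
    refine LinearMap.ext fun v => ?_
    show α a (c • v) = c • α a v
    exact (hα a c v)
  let τ : k' →ₐ[k] C := σ.codRestrict C hσ
  have hcomm : ∀ x y : k', Commute (τ x) (τ y) := fun x y => by
    show τ x * τ y = τ y * τ x
    rw [← map_mul, ← map_mul, mul_comm]
  obtain ⟨χ⟩ := hbr (r ^ 2) hCdim
  refine ⟨Cᵐᵒᵖ, inferInstance, inferInstance, inferInstance, inferInstance, inferInstance,
    τ.toOpposite hcomm, ⟨r ^ 2, n * r, by positivity, hN, ⟨χ⟩⟩, ?_⟩
  rw [← hCdim]
  exact (MulOpposite.opLinearEquiv k : C ≃ₗ[k] Cᵐᵒᵖ).symm.finrank_eq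

end Groth.Agent.Lib.Helper8.SplitField
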