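import Mathlib

set_option backward.isDefEq.respectTransparency.types false
set_option autoImplicit false
set_option linter.unusedSectionVars false
set_option linter.style.haveILetI false

namespace Groth.Agent.Lib.Helper8.SymP

open TensorProduct MvPolynomial

universe u

variable {A : Type u} [CommRing A] {M : Type u} [AddCommGroup M] [Module A M] {m : ℕ}
  (x : Fin m → M)

/-- The linear form `∑ a_j y_j`. -/
noncomputable def lin (m : ℕ) : (Fin m → A) →ₗ[A] MvPolynomial (Fin m) A :=
  Fintype.linearCombination A (fun j => (X j : MvPolynomial (Fin m) A))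

lemma lin_apply (a : Fin m → A) : lin m a = ∑ j, C (a j) * X j := by
  simp [lin, Fintype.linearCombination_apply, MvPolynomial.smul_eq_C_mul]

/-- The ideal generated by the linear forms of the relations. -/
noncomputable def J0 : Ideal (MvPolynomial (Fin m) A) :=
  Ideal.span ((lin m) '' (LinearMap.ker (Fintype.linearCombination A x) : Set (Fin m → A)))

lemma aeval_lin (α : MvPolynomial (Fin m) A →ₐ[A] SymmetricAlgebra A M)
    (hα : ∀ j, α (X j) = SymmetricAlgebra.ι A M (x j)) (a : Fin m → A) :
    α (lin m a) = SymmetricAlgebra.ι A M (Fintype.linearCombination A x a) := by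
  simp only [lin, Fintype.linearCombination_apply, map_sum, map_smul, hα]

theorem ker_eq (hx : Function.Surjective (Fintype.linearCombination A x))
    (α : MvPolynomial (Fin m) A →ₐ[A] SymmetricAlgebra A M)
    (hα : ∀ j, α (X j) = SymmetricAlgebra.ι A M (x j)) :
    RingHom.ker (α : MvPolynomial (Fin m) A →+* SymmetricAlgebra A M) = J0 x := by
  apply le_antisymm
  · -- construct the inverse
    set π := Fintype.linearCombination A x with hπ
    have hle : LinearMap.ker π ≤ LinearMap.ker
        ((Ideal.Quotient.mkₐ A (J0 x)).toLinearMap ∘ₗ lin m) := by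
      intro k hk
      rw [LinearMap.mem_ker, LinearMap.comp_apply]
      exact Ideal.Quotient.eq_zero_iff_mem.mpr (Ideal.subset_span ⟨k, hk, rfl⟩)
    let g : M →ₗ[A] (MvPolynomial (Fin m) A ⧸ J0 x) :=
      ((LinearMap.ker π).liftQ _ hle) ∘ₗ (π.quotKerEquivOfSurjective hx).symm.toLinearMap
    have hg : ∀ a, g (π a) = Ideal.Quotient.mk (J0 x) (lin m a) := by
      intro a
      have : (π.quotKerEquivOfSurjective hx).symm (π a) = Submodule.Quotient.mk a := by
        rw [LinearEquiv.symm_apply_eq]
        rfl
      simp only [g, LinearMap.comp_apply, LinearEquiv.coe_coe, this, Submodule.liftQ_apply]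
      rfl
    let β : SymmetricAlgebra A M →ₐ[A] (MvPolynomial (Fin m) A ⧸ J0 x) := SymmetricAlgebra.lift g
    have hβα : β.comp α = Ideal.Quotient.mkₐ A (J0 x) := by
      apply MvPolynomial.algHom_ext
      intro j
      rw [AlgHom.comp_apply, hα]
      have hxj : x j = π (Pi.single j 1) := by
        simp [hπ, Fintype.linearCombination_apply, Pi.single_apply]
      rw [hxj]
      show SymmetricAlgebra.lift g (SymmetricAlgebra.ι A M _) = _
      rw [SymmetricAlgebra.lift_ι_apply, hg]
      have : lin m (Pi.single j (1 : A)) = X j := by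
        simp [lin, Fintype.linearCombination_apply, Pi.single_apply]
      rw [this]
      rfl
    intro p hp
    have h1 : Ideal.Quotient.mkₐ A (J0 x) p = 0 := by
      rw [← hβα, AlgHom.comp_apply]
      have : α p = 0 := hp
      rw [this, map_zero]
    exact Ideal.Quotient.eq_zero_iff_mem.mp h1
  · rw [J0, Ideal.span_le]
    rintro _ ⟨k, hk, rfl⟩
    show α (lin m k) = 0
    rw [aeval_lin x α hα, LinearMap.mem_ker.mp hk, map_zero]

end Groth.Agent.Lib.Helper8.SymP
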