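import Mathlib
import Groth.Agent.Lib.Helper8.SymP1

set_option backward.isDefEq.respectTransparency.types false
set_option autoImplicit false
set_option linter.unusedSectionVars false
set_option linter.style.haveILetI false

namespace Groth.Agent.Lib.Helper8.SymP

open TensorProduct MvPolynomial

universe u

variable {A : Type u} [CommRing A] {M : Type u} [AddCommGroup M] [Module A M] {m : ℕ}
  (x : Fin m → M) (G : Algebra.Generators A (SymmetricAlgebra A M) (Fin m))
  (hG : ∀ j, G.val j = SymmetricAlgebra.ι A M (x j))

include hG in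
lemma lin_mem_ker (k : LinearMap.ker (Fintype.linearCombination A x)) :
    lin m (k : Fin m → A) ∈ G.ker := by
  rw [G.ker_eq_ker_aeval_val, RingHom.mem_ker]
  have := aeval_lin x (MvPolynomial.aeval G.val) (fun j => by rw [aeval_X, hG]) (k : Fin m → A)
  rw [LinearMap.mem_ker.mp k.2, map_zero] at this
  exact this

include hG in
lemma ker_eq_J0 (hx : Function.Surjective (Fintype.linearCombination A x)) :
    G.ker = J0 x := by
  rw [G.ker_eq_ker_aeval_val]
  exact ker_eq x hx (MvPolynomial.aeval G.val) (fun j => by rw [aeval_X, hG])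

/-- `k ↦ [∑ k_j y_j]`. -/
noncomputable def linBar : LinearMap.ker (Fintype.linearCombination A x) →ₗ[A]
    G.toExtension.Cotangent :=
  ((Algebra.Extension.Cotangent.mk (P := G.toExtension)).restrictScalars A) ∘ₗ
    (LinearMap.codRestrict (G.ker.restrictScalars A)
      ((lin m) ∘ₗ (LinearMap.ker (Fintype.linearCombination A x)).subtype)
      (fun k => lin_mem_ker x G hG k))

lemma linBar_apply (k : LinearMap.ker (Fintype.linearCombination A x)) :
    linBar x G hG k = Algebra.Extension.Cotangent.mk ⟨lin m (k : Fin m → A), lin_mem_ker x G hG k⟩ :=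
  rfl

/-- The comparison map `C ⊗ K → J/J²`. -/
noncomputable def e : SymmetricAlgebra A M ⊗[A] (LinearMap.ker (Fintype.linearCombination A x))
    →ₗ[SymmetricAlgebra A M] G.toExtension.Cotangent :=
  (linBar x G hG).liftBaseChange (SymmetricAlgebra A M)

lemma e_tmul (c : SymmetricAlgebra A M) (k : LinearMap.ker (Fintype.linearCombination A x)) :
    e x G hG (c ⊗ₜ k) = c • linBar x G hG k := by
  simp [e]


end Groth.Agent.Lib.Helper8.SymP

namespace Groth.Agent.Lib.Helper8.SymP

/-- A general span-induction principle for linear maps out of an ideal. -/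
lemma mem_of_span {P S N : Type*} [CommRing P] [CommRing S] [Algebra P S] [AddCommGroup N]
    [Module S N] [Module P N] [IsScalarTower P S N] (I : Ideal P) (f : I →ₗ[P] N)
    (W : Submodule S N) (T : Set P) (hI : I = Ideal.span T)
    (hT : ∀ t ∈ T, ∀ h : t ∈ I, f ⟨t, h⟩ ∈ W) (j : I) : f j ∈ W := by
  obtain ⟨j, hj⟩ := j
  have key : ∀ j ∈ Ideal.span T, ∀ hj : j ∈ I, f ⟨j, hj⟩ ∈ W := by
    intro j hj0
    induction hj0 using Submodule.span_induction with
    | mem y hy => exact hT y hy
    | zero =>
      intro hj
      have : (⟨0, hj⟩ : I) = 0 := rfl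
      rw [this, map_zero]
      exact Submodule.zero_mem _
    | add y z hy hz ihy ihz =>
      intro hj
      have hy' : y ∈ I := by rw [hI]; exact hy
      have hz' : z ∈ I := by rw [hI]; exact hz
      have : (⟨y + z, hj⟩ : I) = ⟨y, hy'⟩ + ⟨z, hz'⟩ := rfl
      rw [this, map_add]
      exact Submodule.add_mem _ (ihy hy') (ihz hz')
    | smul a y hy ihy =>
      intro hj
      have hy' : y ∈ I := by rw [hI]; exact hy
      have : (⟨a • y, hj⟩ : I) = a • ⟨y, hy'⟩ := rfl
      rw [this, map_smul, ← algebraMap_smul S a]
      exact Submodule.smul_mem _ _ (ihy hy')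
  exact key j (by rw [← hI]; exact hj) hj

end Groth.Agent.Lib.Helper8.SymP

namespace Groth.Agent.Lib.Helper8.SymP

open TensorProduct MvPolynomial

universe u

variable {A : Type u} [CommRing A] {M : Type u} [AddCommGroup M] [Module A M] {m : ℕ}
  (x : Fin m → M) (G : Algebra.Generators A (SymmetricAlgebra A M) (Fin m))
  (hG : ∀ j, G.val j = SymmetricAlgebra.ι A M (x j))

theorem e_surjective (hx : Function.Surjective (Fintype.linearCombination A x)) :
    Function.Surjective (e x G hG) := by
  intro c
  obtain ⟨j, rfl⟩ := Algebra.Extension.Cotangent.mk_surjective c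
  refine mem_of_span (P := G.toExtension.Ring) (S := SymmetricAlgebra A M) G.toExtension.ker
    (Algebra.Extension.Cotangent.mk (P := G.toExtension)) (LinearMap.range (e x G hG))
    ((lin m) '' (LinearMap.ker (Fintype.linearCombination A x) : Set (Fin m → A)))
    (ker_eq_J0 x G hG hx) ?_ j
  rintro _ ⟨k, hk, rfl⟩ h
  refine ⟨1 ⊗ₜ ⟨k, hk⟩, ?_⟩
  rw [e_tmul, one_smul, linBar_apply]

/-- coordinates of the cotangent complex -/
noncomputable def δ : G.toExtension.Cotangent →ₗ[SymmetricAlgebra A M] (Fin m →₀ SymmetricAlgebra A M) :=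
  G.cotangentSpaceBasis.repr.toLinearMap ∘ₗ G.toExtension.cotangentComplex

lemma δ_mk (f : G.toExtension.ker) (j : Fin m) :
    δ G (Algebra.Extension.Cotangent.mk f) j = aeval G.val (pderiv j (f : G.toExtension.Ring)) := by
  simp only [δ, LinearMap.comp_apply, LinearEquiv.coe_coe,
    Algebra.Extension.cotangentComplex_mk]
  exact G.cotangentSpaceBasis_repr_one_tmul _ j

lemma δ_linBar (k : LinearMap.ker (Fintype.linearCombination A x)) (j : Fin m) :
    δ G (linBar x G hG k) j = algebraMap A (SymmetricAlgebra A M) ((k : Fin m → A) j) := by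
  rw [linBar_apply, δ_mk]
  simp only [lin, Fintype.linearCombination_apply, map_sum, map_smul, pderiv_X]
  rw [Finset.sum_eq_single j]
  · simp [Algebra.algebraMap_eq_smul_one]
  · intro i _ hij
    simp [Pi.single_apply, hij.symm]
  · intro h
    exact absurd (Finset.mem_univ j) h

theorem e_injective (hP : Module.Projective A M)
    (hx : Function.Surjective (Fintype.linearCombination A x)) :
    Function.Injective (e x G hG) := by
  set π := Fintype.linearCombination A x with hπ
  obtain ⟨s, hs⟩ := Module.projective_lifting_property π LinearMap.id hx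
  have hs' : ∀ y, π (s y) = y := fun y => LinearMap.congr_fun hs y
  let r : (Fin m → A) →ₗ[A] LinearMap.ker π :=
    LinearMap.codRestrict (LinearMap.ker π) (LinearMap.id - s ∘ₗ π) (by
      intro a
      rw [LinearMap.mem_ker, LinearMap.sub_apply, map_sub, LinearMap.comp_apply, hs',
        LinearMap.id_apply, sub_self])
  have hr : ∀ k : LinearMap.ker π, r (k : Fin m → A) = k := by
    intro k
    ext1
    show (k : Fin m → A) - s (π k) = k
    rw [LinearMap.mem_ker.mp k.2, map_zero, sub_zero]
  let τ : (Fin m →₀ SymmetricAlgebra A M) →ₗ[SymmetricAlgebra A M]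
      SymmetricAlgebra A M ⊗[A] (LinearMap.ker π) :=
    Finsupp.linearCombination (SymmetricAlgebra A M)
      (fun j => (1 : SymmetricAlgebra A M) ⊗ₜ[A] r (Pi.single j 1))
  have hcomp : ∀ t, τ (δ G (e x G hG t)) = t := by
    intro t
    induction t using TensorProduct.induction_on with
    | zero => simp
    | add y z hy hz => rw [map_add, map_add, map_add, hy, hz]
    | tmul c k =>
      rw [e_tmul, map_smul, map_smul]
      have : τ (δ G (linBar x G hG k)) = 1 ⊗ₜ k := by
        simp only [τ, Finsupp.linearCombination_apply]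
        rw [Finsupp.sum_fintype _ _ (fun i => by simp)]
        simp_rw [δ_linBar]
        have h1 : ∀ j : Fin m, (algebraMap A (SymmetricAlgebra A M) ((k : Fin m → A) j)) •
            ((1 : SymmetricAlgebra A M) ⊗ₜ[A] r (Pi.single j 1)) =
            (1 : SymmetricAlgebra A M) ⊗ₜ[A] (((k : Fin m → A) j) • r (Pi.single j 1)) := by
          intro j
          rw [algebraMap_smul, TensorProduct.tmul_smul]
        simp_rw [h1]
        rw [← TensorProduct.tmul_sum]
        congr 1
        simp_rw [← map_smul]
        rw [← map_sum]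
        have : ∑ j, ((k : Fin m → A) j) • (Pi.single j (1 : A) : Fin m → A) = (k : Fin m → A) := by
          ext i
          simp [Finset.sum_apply, Pi.single_apply]
        rw [this, hr]
      rw [this, TensorProduct.smul_tmul', smul_eq_mul, mul_one]
  intro t₁ t₂ h
  rw [← hcomp t₁, ← hcomp t₂, h]

theorem main (A : Type u) [CommRing A] (M : Type u)
    [AddCommGroup M] [Module A M] (m : ℕ) (x : Fin m → M)
    (hx : Function.Surjective (Fintype.linearCombination A x))
    (G : Algebra.Generators A (SymmetricAlgebra A M) (Fin m))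
    (hG : ∀ j, G.val j = SymmetricAlgebra.ι A M (x j)) :
    ∃ e : SymmetricAlgebra A M ⊗[A] (LinearMap.ker (Fintype.linearCombination A x)) →ₗ[SymmetricAlgebra A M]
        G.toExtension.Cotangent,
      (∀ (k : LinearMap.ker (Fintype.linearCombination A x))
        (hk : (∑ j, C ((k : Fin m → A) j) * X j : MvPolynomial (Fin m) A) ∈ G.toExtension.ker),
        e (1 ⊗ₜ k) = Algebra.Extension.Cotangent.mk ⟨_, hk⟩) ∧
      Function.Surjective e ∧ (Module.Projective A M → Function.Bijective e) := by
  refine ⟨e x G hG, ?_, e_surjective x G hG hx, fun hP => ⟨e_injective x G hG hP hx, e_surjective x G hG hx⟩⟩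
  intro k hk
  rw [e_tmul, one_smul, linBar_apply]
  congr 1
  apply Subtype.ext
  exact lin_apply _

end Groth.Agent.Lib.Helper8.SymP
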