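import Mathlib

set_option backward.isDefEq.respectTransparency.types false
set_option autoImplicit false
set_option linter.unusedSectionVars false
set_option linter.style.haveILetI false

universe u v

namespace Groth.Agent.Lib.Helper8.Tors

open TensorProduct

section basic

variable {R : Type u} [CommRing R] {H : Type v} [AddCommGroup H] [Module R H]
  {H' : Type v} [AddCommGroup H'] [Module R H'] (𝔫 : Ideal R)

lemma one_tmul_eq_zero {n : H} (hn : n ∈ 𝔫 • (⊤ : Submodule R H)) :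
    (1 : R ⧸ 𝔫) ⊗ₜ[R] n = 0 := by
  apply (TensorProduct.quotTensorEquivQuotSMul H 𝔫).injective
  rw [TensorProduct.quotTensorEquivQuotSMul_mk_one_tmul, map_zero]
  exact (Submodule.Quotient.mk_eq_zero _).2 hn

lemma map_mem_smul_top (p : H →ₗ[R] H') {z : H} (hz : z ∈ 𝔫 • (⊤ : Submodule R H)) :
    p z ∈ 𝔫 • (⊤ : Submodule R H') := by
  have h1 : p z ∈ Submodule.map p (𝔫 • (⊤ : Submodule R H)) := ⟨z, hz, rfl⟩
  rw [Submodule.map_smul''] at h1
  exact Submodule.smul_mono le_rfl le_top h1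

lemma map_mem_smul_of_range (p : H →ₗ[R] H') (F : Submodule R H') (hp : ∀ x, p x ∈ F) {z : H}
    (hz : z ∈ 𝔫 • (⊤ : Submodule R H)) : p z ∈ 𝔫 • F := by
  have h1 : p z ∈ Submodule.map p (𝔫 • (⊤ : Submodule R H)) := ⟨z, hz, rfl⟩
  rw [Submodule.map_smul''] at h1
  refine Submodule.smul_mono le_rfl ?_ h1
  rintro _ ⟨x, -, rfl⟩
  exact hp x

lemma one_tmul_mem_baseChange_iff (F : Submodule R H) (z : H) :
    (1 : R ⧸ 𝔫) ⊗ₜ[R] z ∈ F.baseChange (R ⧸ 𝔫) ↔ z ∈ F ⊔ 𝔫 • (⊤ : Submodule R H) := by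
  constructor
  · intro hz
    let q : (R ⧸ 𝔫) ⊗[R] H →ₗ[R] H ⧸ (F ⊔ 𝔫 • (⊤ : Submodule R H)) :=
      (Submodule.factor (le_sup_right : 𝔫 • (⊤ : Submodule R H) ≤ F ⊔ 𝔫 • ⊤)) ∘ₗ
        (TensorProduct.quotTensorEquivQuotSMul H 𝔫).toLinearMap
    have hq1 : ∀ x : H, q ((1 : R ⧸ 𝔫) ⊗ₜ[R] x) = Submodule.Quotient.mk x := by
      intro x
      simp only [q, LinearMap.coe_comp, LinearEquiv.coe_coe, Function.comp_apply,
        TensorProduct.quotTensorEquivQuotSMul_mk_one_tmul]
      rfl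
    have key : ∀ t ∈ F.baseChange (R ⧸ 𝔫), q t = 0 := by
      intro t ht
      rw [Submodule.baseChange_eq_span] at ht
      induction ht using Submodule.span_induction with
      | mem x hx =>
        obtain ⟨a, ha, rfl⟩ := hx
        simp only [TensorProduct.mk_apply]
        rw [hq1]
        exact (Submodule.Quotient.mk_eq_zero _).2 (Submodule.mem_sup_left ha)
      | zero => exact map_zero _
      | add x y _ _ hx hy => rw [map_add, hx, hy, add_zero]
      | smul r x _ hx =>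
        obtain ⟨r, rfl⟩ := Ideal.Quotient.mk_surjective r
        have : (Ideal.Quotient.mk 𝔫 r) • x = r • x := by
          rw [← Ideal.Quotient.algebraMap_eq, algebraMap_smul]
        rw [this, map_smul, hx, smul_zero]
    have := key _ hz
    rw [hq1] at this
    exact (Submodule.Quotient.mk_eq_zero _).1 this
  · intro hz
    obtain ⟨a, ha, n, hn, rfl⟩ := Submodule.mem_sup.1 hz
    rw [TensorProduct.tmul_add, one_tmul_eq_zero 𝔫 hn, add_zero]
    exact Submodule.tmul_mem_baseChange_of_mem _ ha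

lemma map_baseChange {H₁ : Type v} [AddCommGroup H₁] [Module R H₁] (f : H₁ →ₗ[R] H)
    (F₁ : Submodule R H₁) (A : Type*) [CommRing A] [Algebra R A] :
    Submodule.map (f.baseChange A) (F₁.baseChange A) = (Submodule.map f F₁).baseChange A := by
  rw [Submodule.baseChange_eq_span, Submodule.baseChange_eq_span, Submodule.map_span]
  congr 1
  ext t
  constructor
  · rintro ⟨_, ⟨a, ha, rfl⟩, rfl⟩
    exact ⟨f a, ⟨a, ha, rfl⟩, by simp⟩
  · rintro ⟨_, ⟨a, ha, rfl⟩, rfl⟩
    exact ⟨_, ⟨a, ha, rfl⟩, by simp⟩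

lemma exists_proj (F : Submodule R H) [Module.Projective R (H ⧸ F)] :
    ∃ p : H →ₗ[R] H, (∀ x, p x ∈ F) ∧ (∀ x ∈ F, p x = x) := by
  obtain ⟨s, hs⟩ := Module.projective_lifting_property F.mkQ LinearMap.id
    (Submodule.mkQ_surjective F)
  refine ⟨LinearMap.id - s ∘ₗ F.mkQ, ?_, ?_⟩
  · intro x
    rw [← Submodule.Quotient.mk_eq_zero]
    have := LinearMap.congr_fun hs (F.mkQ x)
    simp only [LinearMap.coe_comp, Function.comp_apply, LinearMap.id_coe, id_eq] at this
    simp only [LinearMap.sub_apply, LinearMap.id_coe, id_eq, LinearMap.coe_comp,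
      Function.comp_apply, Submodule.Quotient.mk_sub]
    rw [← Submodule.mkQ_apply, ← Submodule.mkQ_apply, this, sub_self]
  · intro x hx
    have : F.mkQ x = 0 := (Submodule.Quotient.mk_eq_zero _).2 hx
    simp [this]

end basic

end Groth.Agent.Lib.Helper8.Tors
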