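import Mathlib
import Groth.Agent.Lib.Helper8.Tors1

set_option backward.isDefEq.respectTransparency.types false
set_option autoImplicit false
set_option linter.unusedSectionVars false
set_option linter.style.haveILetI false

universe u v

namespace Groth.Agent.Lib.Helper8.Tors

open TensorProduct

variable {R : Type u} [CommRing R]
  {H₁ H H₂ : Type v} [AddCommGroup H₁] [Module R H₁] [AddCommGroup H] [Module R H]
  [AddCommGroup H₂] [Module R H₂]
  (f : H₁ →ₗ[R] H) (g : H →ₗ[R] H₂)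

/-- the automorphism `x ↦ x + f (u (g x))`. -/
def phi (u : H₂ →ₗ[R] H₁) : H →ₗ[R] H := LinearMap.id + f ∘ₗ u ∘ₗ g

lemma phi_apply (u : H₂ →ₗ[R] H₁) (x : H) : phi f g u x = x + f (u (g x)) := rfl

variable {f g}

lemma g_phi (hfg : ∀ x, g (f x) = 0) (u : H₂ →ₗ[R] H₁) (x : H) : g (phi f g u x) = g x := by
  rw [phi_apply, map_add, hfg, add_zero]

lemma phi_neg_phi (hfg : ∀ x, g (f x) = 0) (u : H₂ →ₗ[R] H₁) (x : H) :
    phi f g (-u) (phi f g u x) = x := by
  rw [phi_apply, g_phi hfg, phi_apply]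
  simp

lemma phi_phi_neg (hfg : ∀ x, g (f x) = 0) (u : H₂ →ₗ[R] H₁) (x : H) :
    phi f g u (phi f g (-u) x) = x := by
  have := phi_neg_phi hfg (-u) x
  rwa [neg_neg] at this

/-- `phi u` as a linear equivalence. -/
def phiEquiv (hfg : ∀ x, g (f x) = 0) (u : H₂ →ₗ[R] H₁) : H ≃ₗ[R] H :=
  LinearEquiv.ofLinearMap (phi f g u) (phi f g (-u))
    (LinearMap.ext fun x => phi_phi_neg hfg u x) (LinearMap.ext fun x => phi_neg_phi hfg u x)

lemma isCompl_map_phi (hfg : ∀ x, g (f x) = 0) (u : H₂ →ₗ[R] H₁) (F : Submodule R H)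
    (hF : ∃ C : Submodule R H, IsCompl F C) :
    ∃ C : Submodule R H, IsCompl (Submodule.map (phi f g u) F) C := by
  obtain ⟨C, hC⟩ := hF
  refine ⟨Submodule.map (phi f g u) C, ?_⟩
  have := (Submodule.orderIsoMapComap (phiEquiv hfg u)).isCompl hC
  exact this

lemma map_phi_inf_range (hfg : ∀ x, g (f x) = 0) (u : H₂ →ₗ[R] H₁) (F : Submodule R H)
    (F₁ : Submodule R H₁) (hF : F ⊓ LinearMap.range f = Submodule.map f F₁) :
    Submodule.map (phi f g u) F ⊓ LinearMap.range f = Submodule.map f F₁ := by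
  apply le_antisymm
  · rintro z ⟨⟨x, hx, rfl⟩, ⟨b, hb⟩⟩
    have h0 : g x = 0 := by
      rw [← g_phi hfg u x, ← hb, hfg]
    have h1 : phi f g u x = x := by
      rw [phi_apply, h0, map_zero, map_zero, add_zero]
    rw [h1] at hb ⊢
    rw [← hF]
    exact ⟨hx, ⟨b, hb⟩⟩
  · rintro z ⟨a, ha, rfl⟩
    have hz : f a ∈ F ⊓ LinearMap.range f := by rw [hF]; exact ⟨a, ha, rfl⟩
    refine ⟨⟨f a, hz.1, ?_⟩, ⟨a, rfl⟩⟩
    rw [phi_apply, hfg, map_zero, map_zero, add_zero]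

lemma map_g_map_phi (hfg : ∀ x, g (f x) = 0) (u : H₂ →ₗ[R] H₁) (F : Submodule R H) :
    Submodule.map g (Submodule.map (phi f g u) F) = Submodule.map g F := by
  rw [← Submodule.map_comp]
  congr 1
  ext x
  exact g_phi hfg u x

lemma baseChange_map_phi (𝔫 : Ideal R) (u : H₂ →ₗ[R] H₁)
    (hu : ∀ y : H₂, u y ∈ 𝔫 • (⊤ : Submodule R H₁)) (F : Submodule R H) :
    Submodule.baseChange (R ⧸ 𝔫) (Submodule.map (phi f g u) F) =
      Submodule.baseChange (R ⧸ 𝔫) F := by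
  rw [Submodule.baseChange_eq_span, Submodule.baseChange_eq_span, ← Submodule.map_comp]
  have : (TensorProduct.mk R (R ⧸ 𝔫) H) 1 ∘ₗ phi f g u = (TensorProduct.mk R (R ⧸ 𝔫) H) 1 := by
    ext x
    simp only [LinearMap.coe_comp, Function.comp_apply, TensorProduct.mk_apply, phi_apply,
      TensorProduct.tmul_add]
    rw [one_tmul_eq_zero 𝔫 (map_mem_smul_top 𝔫 f (hu (g x))), add_zero]
  rw [this]

/-- part (2). -/
lemma map_phi_eq_iff (hf : Function.Injective f) (hfg : ∀ x, g (f x) = 0) (𝔫 : Ideal R)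
    (u : H₂ →ₗ[R] H₁) (hu : ∀ y : H₂, u y ∈ 𝔫 • (⊤ : Submodule R H₁)) (F : Submodule R H)
    (F₁ : Submodule R H₁) (F₂ : Submodule R H₂) [Module.Projective R (H₁ ⧸ F₁)]
    (hF : F ⊓ LinearMap.range f = Submodule.map f F₁) (hF2 : Submodule.map g F = F₂) :
    Submodule.map (phi f g u) F = F ↔ ∀ y ∈ F₂, u y ∈ 𝔫 • F₁ := by
  constructor
  · intro h y hy
    rw [← hF2] at hy
    obtain ⟨x, hx, rfl⟩ := hy
    have h1 : phi f g u x ∈ F := by rw [← h]; exact ⟨x, hx, rfl⟩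
    have h2 : f (u (g x)) ∈ F := by
      have : f (u (g x)) = phi f g u x - x := by rw [phi_apply]; abel
      rw [this]; exact F.sub_mem h1 hx
    have h3 : f (u (g x)) ∈ Submodule.map f F₁ := by
      rw [← hF]; exact ⟨h2, ⟨_, rfl⟩⟩
    obtain ⟨a, ha, hfa⟩ := h3
    have h4 : u (g x) ∈ F₁ := by rw [← hf hfa]; exact ha
    obtain ⟨p, hp1, hp2⟩ := exists_proj F₁
    rw [← hp2 _ h4]
    exact map_mem_smul_of_range 𝔫 p F₁ hp1 (hu _)
  · intro h
    have key : ∀ (v : H₂ →ₗ[R] H₁), (∀ y ∈ F₂, v y ∈ 𝔫 • F₁) → ∀ x ∈ F, phi f g v x ∈ F := by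
      intro v hv x hx
      have h1 : g x ∈ F₂ := by rw [← hF2]; exact ⟨x, hx, rfl⟩
      have h2 : v (g x) ∈ F₁ := Submodule.smul_le_right (hv _ h1)
      have h3 : f (v (g x)) ∈ F ⊓ LinearMap.range f := by rw [hF]; exact ⟨_, h2, rfl⟩
      rw [phi_apply]
      exact F.add_mem hx h3.1
    apply le_antisymm
    · rintro _ ⟨x, hx, rfl⟩
      exact key u h x hx
    · intro x hx
      refine ⟨phi f g (-u) x, key (-u) ?_ x hx, phi_phi_neg hfg u x⟩
      intro y hy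
      rw [LinearMap.neg_apply]
      exact Submodule.neg_mem _ (h y hy)

end Groth.Agent.Lib.Helper8.Tors
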