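import Mathlib
import Groth.Agent.Lib.Helper8.Tors2

set_option backward.isDefEq.respectTransparency.types false
set_option autoImplicit false
set_option linter.unusedSectionVars false
set_option linter.style.haveILetI false

universe u v

namespace Groth.Agent.Lib.Helper8.Tors

open TensorProduct

variable {R : Type u} [CommRing R]
  {H₁ H H₂ : Type v} [AddCommGroup H₁] [Module R H₁] [AddCommGroup H] [Module R H]
  [AddCommGroup H₂] [Module R H₂]
  {f : H₁ →ₗ[R] H} {g : H →ₗ[R] H₂}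

/-- a retraction of `f` from a section of `g`. -/
lemma exists_retraction [Module.Projective R H₂] (hf : Function.Injective f)
    (hg : Function.Surjective g) (hfg : Function.Exact f g) :
    ∃ r : H →ₗ[R] H₁, ∀ z, (g z = 0 → f (r z) = z) ∧ ∀ b, r (f b) = b := by
  obtain ⟨t, ht⟩ := Module.projective_lifting_property g LinearMap.id hg
  have ht' : ∀ y, g (t y) = y := fun y => LinearMap.congr_fun ht y
  have hmem : ∀ z, ((LinearMap.id : H →ₗ[R] H) - t ∘ₗ g) z ∈ LinearMap.range f := by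
    intro z
    have : g (((LinearMap.id : H →ₗ[R] H) - t ∘ₗ g) z) = 0 := by simp [ht']
    obtain ⟨b, hb⟩ := (hfg _).1 this
    exact ⟨b, hb⟩
  let r : H →ₗ[R] H₁ := (LinearEquiv.ofInjective f hf).symm.toLinearMap ∘ₗ
    LinearMap.codRestrict (LinearMap.range f) ((LinearMap.id : H →ₗ[R] H) - t ∘ₗ g) hmem
  have hr : ∀ z, f (r z) = z - t (g z) := by
    intro z
    have h0 : (LinearEquiv.ofInjective f hf) (r z) =
        LinearMap.codRestrict (LinearMap.range f) ((LinearMap.id : H →ₗ[R] H) - t ∘ₗ g) hmem z :=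
      LinearEquiv.apply_symm_apply _ _
    have h2 := congrArg Subtype.val h0
    rw [LinearEquiv.ofInjective_apply] at h2
    exact h2
  refine ⟨r, fun z => ⟨fun hz => ?_, fun b => ?_⟩⟩
  · rw [hr, hz, map_zero, sub_zero]
  · apply hf
    rw [hr, hfg.apply_apply_eq_zero, map_zero, sub_zero]

lemma exists_section_on (g : H →ₗ[R] H₂) [Module.Projective R H₂] (F : Submodule R H)
    (p₂ : H₂ →ₗ[R] H₂) (hp₂ : ∀ y, p₂ y ∈ Submodule.map g F) :
    ∃ s : H₂ →ₗ[R] H, (∀ y, s y ∈ F) ∧ ∀ y, g (s y) = p₂ y := by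
  let G : F →ₗ[R] (Submodule.map g F) :=
    (g.domRestrict F).codRestrict (Submodule.map g F) (fun x => ⟨x, x.2, rfl⟩)
  have hG : Function.Surjective G := by
    rintro ⟨_, ⟨x, hx, rfl⟩⟩
    exact ⟨⟨x, hx⟩, rfl⟩
  let P : H₂ →ₗ[R] (Submodule.map g F) := p₂.codRestrict _ hp₂
  obtain ⟨s₀, hs₀⟩ := Module.projective_lifting_property G P hG
  refine ⟨F.subtype ∘ₗ s₀, fun y => (s₀ y).2, fun y => ?_⟩
  have := congrArg Subtype.val (LinearMap.congr_fun hs₀ y)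
  simpa [G, P] using this

/-- the basic "moving" lemma: symmetric in `(F, s)` and `(F', s')`. -/
lemma phi_mem_of_mem (hfg : Function.Exact f g) (F F' : Submodule R H) (F₁ : Submodule R H₁)
    (hF : F ⊓ LinearMap.range f = Submodule.map f F₁)
    (hF' : F' ⊓ LinearMap.range f = Submodule.map f F₁)
    (s s' : H₂ →ₗ[R] H) (p₂' : H₂ →ₗ[R] H₂)
    (hs : ∀ y, s y ∈ F) (hs' : ∀ y, s' y ∈ F')
    (hgs : ∀ y, g (s y) = p₂' y)
    (u c : H₂ →ₗ[R] H₁) (hc : ∀ y, c y ∈ F₁)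
    (hu : ∀ y, f (u y) = s' y - s y - f (c y))
    (x : H) (hx : x ∈ F) (hx2 : p₂' (g x) = g x) : phi f g u x ∈ F' := by
  rw [phi_apply, hu]
  have h1 : x - s (g x) ∈ F := F.sub_mem hx (hs _)
  have h2 : x - s (g x) ∈ LinearMap.range f := by
    have : g (x - s (g x)) = 0 := by rw [map_sub, hgs, hx2, sub_self]
    obtain ⟨b, hb⟩ := (hfg _).1 this
    exact ⟨b, hb⟩
  have h3 : x - s (g x) ∈ F' := by
    have : x - s (g x) ∈ F ⊓ LinearMap.range f := ⟨h1, h2⟩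
    rw [hF, ← hF'] at this
    exact this.1
  have h4 : f (c (g x)) ∈ F' := by
    have : f (c (g x)) ∈ F' ⊓ LinearMap.range f := by rw [hF']; exact ⟨_, hc _, rfl⟩
    exact this.1
  have : x + (s' (g x) - s (g x) - f (c (g x))) = (x - s (g x)) + s' (g x) - f (c (g x)) := by
    abel
  rw [this]
  exact F'.sub_mem (F'.add_mem h3 (hs' _)) h4

/-- part (3). -/
lemma exists_u [Module.Projective R H₂] (hf : Function.Injective f) (hg : Function.Surjective g)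
    (hfg : Function.Exact f g) (𝔫 : Ideal R)
    (F₁ : Submodule R H₁) (F₂ : Submodule R H₂) [Module.Projective R (H₁ ⧸ F₁)]
    [Module.Projective R (H₂ ⧸ F₂)]
    (Fb : Submodule (R ⧸ 𝔫) ((R ⧸ 𝔫) ⊗[R] H))
    (h1 : Fb ⊓ LinearMap.range (f.baseChange (R ⧸ 𝔫)) =
      Submodule.map (f.baseChange (R ⧸ 𝔫)) (F₁.baseChange (R ⧸ 𝔫)))
    (F F' : Submodule R H)
    (hF : F ⊓ LinearMap.range f = Submodule.map f F₁)
    (hFb : Submodule.baseChange (R ⧸ 𝔫) F = Fb) (hF2 : Submodule.map g F = F₂)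
    (hF' : F' ⊓ LinearMap.range f = Submodule.map f F₁)
    (hFb' : Submodule.baseChange (R ⧸ 𝔫) F' = Fb) (hF2' : Submodule.map g F' = F₂) :
    ∃ u : H₂ →ₗ[R] H₁, (∀ y : H₂, u y ∈ 𝔫 • (⊤ : Submodule R H₁)) ∧
      F' = Submodule.map (phi f g u) F := by
  have hfg0 : ∀ x, g (f x) = 0 := hfg.apply_apply_eq_zero
  obtain ⟨r, hr⟩ := exists_retraction hf hg hfg
  obtain ⟨p₁, hp₁, hp₁'⟩ := exists_proj F₁
  obtain ⟨p₂, hp₂, hp₂'⟩ := exists_proj F₂
  obtain ⟨s, hs, hgs⟩ := exists_section_on g F p₂ (by rw [hF2]; exact hp₂)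
  obtain ⟨s', hs', hgs'⟩ := exists_section_on g F' p₂ (by rw [hF2']; exact hp₂)
  let d₁ : H₂ →ₗ[R] H₁ := r ∘ₗ (s' - s)
  have hd₁ : ∀ y, f (d₁ y) = s' y - s y := by
    intro y
    apply (hr _).1
    rw [LinearMap.sub_apply, map_sub, hgs, hgs', sub_self]
  -- Claim A
  have hA : ∀ y, d₁ y ∈ F₁ ⊔ 𝔫 • (⊤ : Submodule R H₁) := by
    intro y
    have hw1 : (1 : R ⧸ 𝔫) ⊗ₜ[R] (f (d₁ y)) ∈ Fb := by
      rw [hd₁, TensorProduct.tmul_sub]
      refine Fb.sub_mem ?_ ?_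
      · rw [← hFb']; exact Submodule.tmul_mem_baseChange_of_mem _ (hs' y)
      · rw [← hFb]; exact Submodule.tmul_mem_baseChange_of_mem _ (hs y)
    have hw2 : (1 : R ⧸ 𝔫) ⊗ₜ[R] (f (d₁ y)) ∈ LinearMap.range (f.baseChange (R ⧸ 𝔫)) :=
      ⟨(1 : R ⧸ 𝔫) ⊗ₜ[R] (d₁ y), by simp⟩
    have hw3 : (1 : R ⧸ 𝔫) ⊗ₜ[R] (f (d₁ y)) ∈
        Submodule.map (f.baseChange (R ⧸ 𝔫)) (F₁.baseChange (R ⧸ 𝔫)) := by
      rw [← h1]; exact ⟨hw1, hw2⟩
    rw [map_baseChange, one_tmul_mem_baseChange_iff] at hw3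
    obtain ⟨_, ⟨a, ha, rfl⟩, n, hn, hsum⟩ := Submodule.mem_sup.1 hw3
    have hn' : n = f (d₁ y - a) := by rw [map_sub, ← hsum]; abel
    have h5 : d₁ y - a ∈ 𝔫 • (⊤ : Submodule R H₁) := by
      rw [← (hr 0).2 (d₁ y - a), ← hn']
      exact map_mem_smul_top 𝔫 r hn
    have : d₁ y = a + (d₁ y - a) := by abel
    rw [this]
    exact Submodule.add_mem_sup ha h5
  let u : H₂ →ₗ[R] H₁ := (LinearMap.id - p₁) ∘ₗ d₁
  let c : H₂ →ₗ[R] H₁ := p₁ ∘ₗ d₁
  have hu_apply : ∀ y, u y = d₁ y - p₁ (d₁ y) := fun y => rfl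
  have hc : ∀ y, c y ∈ F₁ := fun y => hp₁ _
  have huf : ∀ y, f (u y) = s' y - s y - f (c y) := by
    intro y
    rw [hu_apply, map_sub, hd₁]
    rfl
  have huf' : ∀ y, f ((-u) y) = s y - s' y - f ((-c) y) := by
    intro y
    rw [LinearMap.neg_apply, LinearMap.neg_apply, map_neg, map_neg, huf]
    abel
  have hB : ∀ y, u y ∈ 𝔫 • (⊤ : Submodule R H₁) := by
    intro y
    obtain ⟨a, ha, n, hn, hsum⟩ := Submodule.mem_sup.1 (hA y)
    rw [hu_apply, ← hsum, map_add, hp₁' a ha]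
    have : a + n - (a + p₁ n) = n - p₁ n := by abel
    rw [this]
    exact Submodule.sub_mem _ hn (map_mem_smul_top 𝔫 p₁ hn)
  refine ⟨u, hB, ?_⟩
  apply le_antisymm
  · intro x hx
    refine ⟨phi f g (-u) x, ?_, phi_phi_neg hfg0 u x⟩
    refine phi_mem_of_mem hfg F' F F₁ hF' hF s' s p₂ hs' hs hgs' (-u) (-c)
      (fun y => by rw [LinearMap.neg_apply]; exact F₁.neg_mem (hc y)) huf' x hx ?_
    apply hp₂'
    rw [← hF2']
    exact ⟨x, hx, rfl⟩
  · rintro _ ⟨x, hx, rfl⟩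
    refine phi_mem_of_mem hfg F F' F₁ hF hF' s s' p₂ hs hs' hgs u c hc huf x hx ?_
    apply hp₂'
    rw [← hF2]
    exact ⟨x, hx, rfl⟩

end Groth.Agent.Lib.Helper8.Tors
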