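import Mathlib

set_option backward.isDefEq.respectTransparency.types false
set_option autoImplicit false
set_option linter.unusedSectionVars false
set_option linter.style.haveILetI false

universe u

open TensorProduct

namespace Groth.Agent.Lib.Helper8.TrX

variable (R S N : Type u) [CommRing R] [CommRing S] [Algebra R S] [AddCommGroup N] [Module R N]

/-- `S ⊗ ⋀N`. -/
abbrev TA : Type u := S ⊗[R] ExteriorAlgebra R N

/-- `S ⊗ N → S ⊗ ⋀N`. -/
noncomputable def fT : S ⊗[R] N →ₗ[S] TA R S N :=
  LinearMap.baseChange S (ExteriorAlgebra.ι R)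

theorem fT_tmul (s : S) (n : N) : fT R S N (s ⊗ₜ n) = s ⊗ₜ ExteriorAlgebra.ι R n :=
  LinearMap.baseChange_tmul ..

theorem fT_anticomm (m m' : S ⊗[R] N) :
    fT R S N m * fT R S N m' + fT R S N m' * fT R S N m = 0 := by
  induction m using TensorProduct.induction_on with
  | zero => simp
  | add x y hx hy =>
    rw [map_add, add_mul, mul_add]
    rw [add_add_add_comm, hx, hy, add_zero]
  | tmul s n =>
    induction m' using TensorProduct.induction_on with
    | zero => simp
    | add x y hx hy =>
      rw [map_add, add_mul, mul_add]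
      rw [add_add_add_comm, hx, hy, add_zero]
    | tmul s' n' =>
      rw [fT_tmul, fT_tmul, Algebra.TensorProduct.tmul_mul_tmul,
        Algebra.TensorProduct.tmul_mul_tmul, mul_comm s' s, ← TensorProduct.tmul_add,
        ExteriorAlgebra.ι_add_mul_swap, TensorProduct.tmul_zero]

theorem fT_sq (m : S ⊗[R] N) : fT R S N m * fT R S N m = 0 := by
  induction m using TensorProduct.induction_on with
  | zero => simp
  | add x y hx hy =>
    rw [map_add, add_mul, mul_add, mul_add, hx, hy, zero_add, add_zero, fT_anticomm]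
  | tmul s n =>
    rw [fT_tmul, Algebra.TensorProduct.tmul_mul_tmul, ExteriorAlgebra.ι_sq_zero,
      TensorProduct.tmul_zero]

/-- `ι n w ι n = 0` in the exterior algebra. -/
theorem ι_mul_mul_ι (n : N) (w : ExteriorAlgebra R N) :
    ExteriorAlgebra.ι R n * w * ExteriorAlgebra.ι R n = 0 := by
  induction w using CliffordAlgebra.left_induction with
  | algebraMap r =>
    rw [← Algebra.commutes, mul_assoc, ExteriorAlgebra.ι_sq_zero, mul_zero]
  | add x y hx hy => rw [mul_add, add_mul, hx, hy, add_zero]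
  | ι_mul x m hx =>
    have h1 : ExteriorAlgebra.ι R n * ExteriorAlgebra.ι R m =
        -(ExteriorAlgebra.ι R m * ExteriorAlgebra.ι R n) :=
      eq_neg_of_add_eq_zero_left (ExteriorAlgebra.ι_add_mul_swap n m)
    change ExteriorAlgebra.ι R n * (ExteriorAlgebra.ι R m * x) * ExteriorAlgebra.ι R n = 0
    rw [← mul_assoc, h1, neg_mul, neg_mul, mul_assoc, mul_assoc, ← mul_assoc _ x, hx, mul_zero,
      neg_zero]

variable (n₀ : N)

/-- `1 ⊗ ι n₀`. -/
noncomputable def dT : TA R S N := (1 : S) ⊗ₜ ExteriorAlgebra.ι R n₀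

theorem dT_mul_mul_dT (e : TA R S N) : dT R S N n₀ * e * dT R S N n₀ = 0 := by
  induction e using TensorProduct.induction_on with
  | zero => simp
  | add x y hx hy => rw [mul_add, add_mul, hx, hy, add_zero]
  | tmul s w =>
    rw [dT, Algebra.TensorProduct.tmul_mul_tmul, Algebra.TensorProduct.tmul_mul_tmul,
      ι_mul_mul_ι, TensorProduct.tmul_zero]

theorem dT_sq : dT R S N n₀ * dT R S N n₀ = 0 := by
  have := dT_mul_mul_dT R S N n₀ 1
  rwa [mul_one] at this

/-- the left ideal `T · dT` as an `S`-submodule. -/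
noncomputable def IT : Submodule S (TA R S N) :=
  LinearMap.range (LinearMap.mulRight S (dT R S N n₀))

theorem dT_mem : dT R S N n₀ ∈ IT R S N n₀ := ⟨1, by simp⟩

theorem mul_mem_IT (y : TA R S N) {z : TA R S N} (hz : z ∈ IT R S N n₀) :
    y * z ∈ IT R S N n₀ := by
  obtain ⟨w, rfl⟩ := hz
  exact ⟨y * w, by simp [mul_assoc]⟩

theorem dT_mul_of_mem {z : TA R S N} (hz : z ∈ IT R S N n₀) : dT R S N n₀ * z = 0 := by
  obtain ⟨w, rfl⟩ := hz
  simp only [LinearMap.mulRight_apply]
  rw [← mul_assoc, dT_mul_mul_dT]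

/-- left multiplication on the left ideal, as an algebra hom. -/
noncomputable def Lrest : TA R S N →ₐ[S] Module.End S (IT R S N n₀) :=
  AlgHom.ofLinearMap
    { toFun := fun y => (LinearMap.mulLeft S y).restrict (fun z hz => mul_mem_IT R S N n₀ y hz)
      map_add' := fun y y' => by
        ext z
        simp [add_mul]
      map_smul' := fun s y => by
        ext z
        simp }
    (by ext z; simp)
    (fun y y' => by ext z; simp [mul_assoc])

theorem Lrest_apply (y : TA R S N) (z : IT R S N n₀) :
    ((Lrest R S N n₀ y z : IT R S N n₀) : TA R S N) = y * (z : TA R S N) := rfl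

theorem Lrest_dT : Lrest R S N n₀ (dT R S N n₀) = 0 := by
  ext z
  rw [Lrest_apply, dT_mul_of_mem R S N n₀ z.2]
  rfl

theorem Lrest_fT_sq (m : S ⊗[R] N) :
    Lrest R S N n₀ (fT R S N m) * Lrest R S N n₀ (fT R S N m) = 0 := by
  rw [← map_mul, fT_sq, map_zero]

end Groth.Agent.Lib.Helper8.TrX
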