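import Mathlib

set_option backward.isDefEq.respectTransparency.types false
set_option autoImplicit false
set_option linter.unusedSectionVars false
set_option linter.style.haveILetI false

universe u

open TensorProduct Polynomial

namespace Groth.Agent.Lib.Helper8.TrX

section Descent

variable {Λ R : Type u} [CommRing Λ] [CommRing R] [Algebra Λ R] (g : R[X])
  (M : Type u) [AddCommGroup M] [Module (AdjoinRoot g) M] [Module Λ M]
  [IsScalarTower Λ (AdjoinRoot g) M]

/-- descent of a "derivation" from `R[X]` to `R[X]/(g)`. -/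
theorem exists_derivation_adjoinRoot (D₀ : R[X] →+ M)
    (hleib : ∀ f h, D₀ (f * h) = AdjoinRoot.mk g f • D₀ h + AdjoinRoot.mk g h • D₀ f)
    (hΛ : ∀ l : Λ, D₀ (C (algebraMap Λ R l)) = 0)
    (hg : D₀ g = 0) :
    ∃ D : Derivation Λ (AdjoinRoot g) M, ∀ f, D (AdjoinRoot.mk g f) = D₀ f := by
  have hker : ∀ f, AdjoinRoot.mk g f = 0 → D₀ f = 0 := by
    intro f hf
    obtain ⟨h, rfl⟩ := AdjoinRoot.mk_eq_zero.mp hf
    rw [hleib, hg, smul_zero, add_zero, AdjoinRoot.mk_self, zero_smul]
  have hwd : ∀ f f', AdjoinRoot.mk g f = AdjoinRoot.mk g f' → D₀ f = D₀ f' := by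
    intro f f' h
    have := hker (f - f') (by rw [map_sub, h, sub_self])
    rwa [map_sub, sub_eq_zero] at this
  have hsurj := AdjoinRoot.mk_surjective (g := g)
  let Dfun : AdjoinRoot g → M := fun s => D₀ (Function.surjInv hsurj s)
  have hD : ∀ f, Dfun (AdjoinRoot.mk g f) = D₀ f := fun f =>
    hwd _ _ (Function.surjInv_eq hsurj _)
  let Dlin : AdjoinRoot g →ₗ[Λ] M :=
    { toFun := Dfun
      map_add' := by
        intro s s'
        obtain ⟨f, rfl⟩ := hsurj s
        obtain ⟨f', rfl⟩ := hsurj s'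
        rw [← map_add, hD, hD, hD, map_add]
      map_smul' := by
        intro l s
        obtain ⟨f, rfl⟩ := hsurj s
        have h1 : l • AdjoinRoot.mk g f = AdjoinRoot.mk g (C (algebraMap Λ R l) * f) := by
          rw [Algebra.smul_def, map_mul]
          rfl
        rw [h1, hD, hD, hleib, hΛ, smul_zero, add_zero, RingHom.id_apply,
          ← algebraMap_smul (AdjoinRoot g) l (D₀ f)]
        rfl }
  refine ⟨Derivation.mk' Dlin ?_, hD⟩
  intro s s'
  obtain ⟨f, rfl⟩ := hsurj s
  obtain ⟨f', rfl⟩ := hsurj s'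
  change Dfun (AdjoinRoot.mk g f * AdjoinRoot.mk g f') = _ • Dfun _ + _ • Dfun _
  rw [← map_mul, hD, hD, hD, hleib]

end Descent

section Coeff

variable (Λ R : Type u) [CommRing Λ] [CommRing R] [Algebra Λ R] (g : R[X])

/-- coefficientwise differential `R[X] → S ⊗ Ω_R`. -/
noncomputable def Dt : R[X] →+ (AdjoinRoot g ⊗[R] Ω[R⁄Λ]) where
  toFun f := f.sum (fun i r => (AdjoinRoot.root g ^ i) ⊗ₜ[R] KaehlerDifferential.D Λ R r)
  map_zero' := Polynomial.sum_zero_index _
  map_add' f h := Polynomial.sum_add_index f h _ (by simp)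
    (by intros; rw [map_add, TensorProduct.tmul_add])

theorem Dt_monomial (i : ℕ) (r : R) :
    Dt Λ R g (monomial i r) = (AdjoinRoot.root g ^ i) ⊗ₜ[R] KaehlerDifferential.D Λ R r := by
  exact Polynomial.sum_monomial_index r
    (fun i r => (AdjoinRoot.root g ^ i) ⊗ₜ[R] KaehlerDifferential.D Λ R r) (by simp)

theorem Dt_leibniz (f h : R[X]) :
    Dt Λ R g (f * h) = AdjoinRoot.mk g f • Dt Λ R g h + AdjoinRoot.mk g h • Dt Λ R g f := by
  induction f using Polynomial.induction_on' with
  | add f₁ f₂ h₁ h₂ =>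
    rw [add_mul, map_add, h₁, h₂, map_add, map_add, add_smul, smul_add]
    abel
  | monomial i r =>
    induction h using Polynomial.induction_on' with
    | add f₁ f₂ h₁ h₂ =>
      rw [mul_add, map_add, h₁, h₂, map_add, map_add, add_smul, smul_add]
      abel
    | monomial j s =>
      have hmk : ∀ (i : ℕ) (r : R), AdjoinRoot.mk g (monomial i r) =
          AdjoinRoot.of g r * AdjoinRoot.root g ^ i := by
        intro i r
        rw [← C_mul_X_pow_eq_monomial, map_mul, map_pow, AdjoinRoot.mk_X, AdjoinRoot.mk_C]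
      rw [monomial_mul_monomial, Dt_monomial, Dt_monomial, Dt_monomial, hmk, hmk,
        Derivation.leibniz, TensorProduct.tmul_add, TensorProduct.tmul_smul,
        TensorProduct.tmul_smul, TensorProduct.smul_tmul', TensorProduct.smul_tmul',
        TensorProduct.smul_tmul', TensorProduct.smul_tmul', Algebra.smul_def, Algebra.smul_def,
        AdjoinRoot.algebraMap_eq, smul_eq_mul, smul_eq_mul, pow_add]
      congr 2 <;> ring

theorem Dt_C_algebraMap (l : Λ) : Dt Λ R g (C (algebraMap Λ R l)) = 0 := by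
  rw [← monomial_zero_left, Dt_monomial, Derivation.map_algebraMap, TensorProduct.tmul_zero]

end Coeff

end Groth.Agent.Lib.Helper8.TrX
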