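import Mathlib
import Groth.Agent.Lib.Helper8.TrX1
import Groth.Agent.Lib.Helper8.TrX2

set_option backward.isDefEq.respectTransparency.types false
set_option autoImplicit false
set_option linter.unusedSectionVars false
set_option linter.style.haveILetI false

universe u

open TensorProduct Polynomial

namespace Groth.Agent.Lib.Helper8.TrX

variable (p : ℕ) [Fact p.Prime] (Λ R : Type u) [CommRing Λ] [CommRing R] [Algebra Λ R]
  [CharP R p] (a : R)

/-- the polynomial `X^p - a`. -/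
noncomputable abbrev gp : R[X] := X ^ p - C a

/-- `S = R[x]/(x^p - a)`. -/
abbrev SA : Type u := AdjoinRoot (gp p R a)

/-- the ideal `T·da`. -/
noncomputable abbrev IA : Submodule (SA p R a) (TA R (SA p R a) (Ω[R⁄Λ])) :=
  IT R (SA p R a) (Ω[R⁄Λ]) (KaehlerDifferential.D Λ R a)

/-- `m ↦ L_{f(m)}|_I`. -/
noncomputable def LF : (SA p R a ⊗[R] Ω[R⁄Λ]) →ₗ[SA p R a] Module.End (SA p R a) (IA p Λ R a) :=
  (Lrest R (SA p R a) (Ω[R⁄Λ]) (KaehlerDifferential.D Λ R a)).toLinearMap.comp
    (fT R (SA p R a) (Ω[R⁄Λ]))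

theorem LF_apply (m : SA p R a ⊗[R] Ω[R⁄Λ]) :
    LF p Λ R a m = Lrest R (SA p R a) (Ω[R⁄Λ]) (KaehlerDifferential.D Λ R a)
      (fT R (SA p R a) (Ω[R⁄Λ]) m) := rfl

theorem LF_sq (m : SA p R a ⊗[R] Ω[R⁄Λ]) : LF p Λ R a m * LF p Λ R a m = 0 :=
  Lrest_fT_sq R (SA p R a) (Ω[R⁄Λ]) (KaehlerDifferential.D Λ R a) m

theorem LF_da : LF p Λ R a ((1 : SA p R a) ⊗ₜ KaehlerDifferential.D Λ R a) = 0 := by
  rw [LF_apply, fT_tmul]
  exact Lrest_dT R (SA p R a) (Ω[R⁄Λ]) (KaehlerDifferential.D Λ R a)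

theorem Dt_gp : Dt Λ R (gp p R a) (gp p R a) =
    -((1 : SA p R a) ⊗ₜ[R] KaehlerDifferential.D Λ R a) := by
  have h1 : (X ^ p : R[X]) = monomial p 1 := (monomial_one_right_eq_X_pow p).symm
  have h2 : (C a : R[X]) = monomial 0 a := by rw [monomial_zero_left]
  change Dt Λ R (gp p R a) (X ^ p - C a) = _
  rw [map_sub, h1, h2, Dt_monomial, Dt_monomial, Derivation.map_one_eq_zero,
    TensorProduct.tmul_zero, zero_sub, pow_zero]

theorem exists_DA : ∃ D : Derivation Λ (SA p R a) (Module.End (SA p R a) (IA p Λ R a)),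
    ∀ f, D (AdjoinRoot.mk (gp p R a) f) = LF p Λ R a (Dt Λ R (gp p R a) f) := by
  refine exists_derivation_adjoinRoot (Λ := Λ) (gp p R a) (Module.End (SA p R a) (IA p Λ R a))
    ((LF p Λ R a).toAddMonoidHom.comp (Dt Λ R (gp p R a))) ?_ ?_ ?_
  · intro f h
    simp only [AddMonoidHom.comp_apply, LinearMap.toAddMonoidHom_coe]
    rw [Dt_leibniz, map_add, map_smul, map_smul]
  · intro l
    simp only [AddMonoidHom.comp_apply, LinearMap.toAddMonoidHom_coe]
    rw [Dt_C_algebraMap, map_zero]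
  · simp only [AddMonoidHom.comp_apply, LinearMap.toAddMonoidHom_coe]
    rw [Dt_gp, map_neg, LF_da]
    simp

/-- the derivation `S → End(I)`. -/
noncomputable def DA : Derivation Λ (SA p R a) (Module.End (SA p R a) (IA p Λ R a)) :=
  (exists_DA p Λ R a).choose

theorem DA_mk (f : R[X]) :
    DA p Λ R a (AdjoinRoot.mk (gp p R a) f) = LF p Λ R a (Dt Λ R (gp p R a) f) :=
  (exists_DA p Λ R a).choose_spec f

theorem derivative_gp : derivative (gp p R a) = 0 := by
  change derivative (X ^ p - C a : R[X]) = 0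
  rw [derivative_sub, derivative_C, sub_zero, derivative_X_pow]
  have : (C (p : R) : R[X]) = 0 := by rw [CharP.cast_eq_zero, map_zero]
  rw [this, zero_mul]

theorem exists_DB : ∃ D : Derivation Λ (SA p R a) (SA p R a),
    ∀ f, D (AdjoinRoot.mk (gp p R a) f) = AdjoinRoot.mk (gp p R a) (derivative f) := by
  refine exists_derivation_adjoinRoot (Λ := Λ) (gp p R a) (SA p R a)
    (((AdjoinRoot.mk (gp p R a) : R[X] →+* SA p R a) : R[X] →+ SA p R a).comp
      ((derivative : R[X] →ₗ[R] R[X]) : R[X] →+ R[X])) ?_ ?_ ?_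
  · intro f h
    simp only [AddMonoidHom.comp_apply, AddMonoidHom.coe_coe]
    rw [derivative_mul, map_add, map_mul, map_mul, smul_eq_mul, smul_eq_mul]
    ring
  · intro l
    simp only [AddMonoidHom.comp_apply, AddMonoidHom.coe_coe]
    rw [derivative_C, map_zero]
  · simp only [AddMonoidHom.comp_apply, AddMonoidHom.coe_coe]
    rw [derivative_gp, map_zero]

/-- the derivation `∂/∂x : S → S`. -/
noncomputable def DB : Derivation Λ (SA p R a) (SA p R a) := (exists_DB p Λ R a).choose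

theorem DB_mk (f : R[X]) :
    DB p Λ R a (AdjoinRoot.mk (gp p R a) f) = AdjoinRoot.mk (gp p R a) (derivative f) :=
  (exists_DB p Λ R a).choose_spec f

/-- `Ω_S → End(I)`. -/
noncomputable def Aend : Ω[SA p R a⁄Λ] →ₗ[SA p R a] Module.End (SA p R a) (IA p Λ R a) :=
  Derivation.liftKaehlerDifferential (M := Module.End (SA p R a) (IA p Λ R a)) (DA p Λ R a)

/-- `Ω_S → S`, the coefficient of `dx`. -/
noncomputable def Bdual : Module.Dual (SA p R a) (Ω[SA p R a⁄Λ]) :=
  (DB p Λ R a).liftKaehlerDifferential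

theorem Aend_D (s : SA p R a) : Aend p Λ R a (KaehlerDifferential.D Λ _ s) = DA p Λ R a s := by
  unfold Aend
  rw [Derivation.liftKaehlerDifferential_comp_D]

theorem Bdual_D (s : SA p R a) : Bdual p Λ R a (KaehlerDifferential.D Λ _ s) = DB p Λ R a s :=
  Derivation.liftKaehlerDifferential_comp_D _ _

theorem Aend_mem (α : Ω[SA p R a⁄Λ]) : ∃ m, Aend p Λ R a α = LF p Λ R a m := by
  have hα : α ∈ Submodule.span (SA p R a) (Set.range (KaehlerDifferential.D Λ (SA p R a))) := by
    rw [KaehlerDifferential.span_range_derivation]; trivial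
  induction hα using Submodule.span_induction with
  | mem x hx =>
    obtain ⟨s, rfl⟩ := hx
    obtain ⟨f, rfl⟩ := AdjoinRoot.mk_surjective (g := gp p R a) s
    exact ⟨_, by rw [Aend_D, DA_mk]⟩
  | zero => exact ⟨0, by simp⟩
  | add x y _ _ hx hy =>
    obtain ⟨m, hm⟩ := hx
    obtain ⟨m', hm'⟩ := hy
    exact ⟨m + m', by rw [map_add, map_add, hm, hm']⟩
  | smul s x _ hx =>
    obtain ⟨m, hm⟩ := hx
    exact ⟨s • m, by rw [map_smul, map_smul, hm]⟩

theorem Aend_sq (α : Ω[SA p R a⁄Λ]) : Aend p Λ R a α * Aend p Λ R a α = 0 := by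
  obtain ⟨m, hm⟩ := Aend_mem p Λ R a α
  rw [hm, LF_sq]

/-- the pullback `Ω_R → Ω_S`. -/
noncomputable abbrev pb : Ω[R⁄Λ] →ₗ[R] Ω[SA p R a⁄Λ] := KaehlerDifferential.map Λ Λ R (SA p R a)

theorem Aend_pb (η : Ω[R⁄Λ]) :
    Aend p Λ R a (pb p Λ R a η) = LF p Λ R a ((1 : SA p R a) ⊗ₜ η) := by
  have hη : η ∈ Submodule.span R (Set.range (KaehlerDifferential.D Λ R)) := by
    rw [KaehlerDifferential.span_range_derivation]; trivial
  induction hη using Submodule.span_induction with
  | mem x hx =>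
    obtain ⟨r, rfl⟩ := hx
    rw [pb, KaehlerDifferential.map_D, Aend_D]
    have : algebraMap R (SA p R a) r = AdjoinRoot.mk (gp p R a) (C r) := rfl
    rw [this, DA_mk, ← monomial_zero_left, Dt_monomial, pow_zero]
  | zero => simp
  | add x y _ _ hx hy => rw [map_add, map_add, hx, hy, TensorProduct.tmul_add, map_add]
  | smul r x _ hx =>
    rw [map_smul, ← algebraMap_smul (SA p R a) r (pb p Λ R a x), map_smul, hx,
      TensorProduct.tmul_smul, ← algebraMap_smul (SA p R a) r ((1 : SA p R a) ⊗ₜ[R] x), map_smul]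

theorem Bdual_pb (η : Ω[R⁄Λ]) : Bdual p Λ R a (pb p Λ R a η) = 0 := by
  have hη : η ∈ Submodule.span R (Set.range (KaehlerDifferential.D Λ R)) := by
    rw [KaehlerDifferential.span_range_derivation]; trivial
  induction hη using Submodule.span_induction with
  | mem x hx =>
    obtain ⟨r, rfl⟩ := hx
    rw [pb, KaehlerDifferential.map_D, Bdual_D]
    have : algebraMap R (SA p R a) r = AdjoinRoot.mk (gp p R a) (C r) := rfl
    rw [this, DB_mk, derivative_C, map_zero]
  | zero => simp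
  | add x y _ _ hx hy => rw [map_add, map_add, hx, hy, add_zero]
  | smul r x _ hx =>
    rw [map_smul, ← algebraMap_smul (SA p R a) r (pb p Λ R a x), map_smul, hx, smul_zero]

theorem Bdual_D_root : Bdual p Λ R a (KaehlerDifferential.D Λ _ (AdjoinRoot.root (gp p R a))) = 1 := by
  rw [Bdual_D]
  have : AdjoinRoot.root (gp p R a) = AdjoinRoot.mk (gp p R a) X := rfl
  rw [this, DB_mk, derivative_X, map_one]

end Groth.Agent.Lib.Helper8.TrX
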