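import Mathlib
import Groth.Agent.Lib.Helper8.TrX3

set_option backward.isDefEq.respectTransparency.types false
set_option autoImplicit false
set_option linter.unusedSectionVars false
set_option linter.style.haveILetI false

universe u

open TensorProduct Polynomial

namespace Groth.Agent.Lib.Helper8.TrX

variable (p : ℕ) [Fact p.Prime] (Λ R : Type u) [CommRing Λ] [CommRing R] [Algebra Λ R]
  [CharP R p] (a : R)

/-- the algebra map `⋀_S Ω_S → End(I)`. -/
noncomputable def psi : ExteriorAlgebra (SA p R a) (Ω[SA p R a⁄Λ]) →ₐ[SA p R a]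
    Module.End (SA p R a) (IA p Λ R a) :=
  ExteriorAlgebra.lift (SA p R a) ⟨Aend p Λ R a, Aend_sq p Λ R a⟩

theorem psi_ι (α : Ω[SA p R a⁄Λ]) :
    psi p Λ R a (ExteriorAlgebra.ι (SA p R a) α) = Aend p Λ R a α :=
  ExteriorAlgebra.lift_ι_apply _ _ _ _

/-- `da` as an element of the ideal. -/
noncomputable def dI : IA p Λ R a :=
  ⟨dT R (SA p R a) (Ω[R⁄Λ]) (KaehlerDifferential.D Λ R a),
    dT_mem R (SA p R a) (Ω[R⁄Λ]) (KaehlerDifferential.D Λ R a)⟩

/-- `y ↦ ψ(y ⌊ ∂x)(da)`. -/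
noncomputable def pre : ExteriorAlgebra (SA p R a) (Ω[SA p R a⁄Λ]) →ₗ[SA p R a]
    TA R (SA p R a) (Ω[R⁄Λ]) :=
  (IA p Λ R a).subtype ∘ₗ (LinearMap.applyₗ (dI p Λ R a)) ∘ₗ (psi p Λ R a).toLinearMap ∘ₗ
    ((CliffordAlgebra.contractRight (Q := (0 : QuadraticForm (SA p R a) (Ω[SA p R a⁄Λ])))).flip
      (Bdual p Λ R a))

theorem pre_apply (y : ExteriorAlgebra (SA p R a) (Ω[SA p R a⁄Λ])) :
    pre p Λ R a y = ((psi p Λ R a (CliffordAlgebra.contractRight y (Bdual p Λ R a)))
      (dI p Λ R a) : TA R (SA p R a) (Ω[R⁄Λ])) := rfl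

/-- product of pulled-back forms. -/
noncomputable def prodPb (l : List (Ω[R⁄Λ])) : ExteriorAlgebra (SA p R a) (Ω[SA p R a⁄Λ]) :=
  (l.map fun η => ExteriorAlgebra.ι (SA p R a) (pb p Λ R a η)).prod

theorem contractRight_prodPb (l : List (Ω[R⁄Λ])) :
    CliffordAlgebra.contractRight (prodPb p Λ R a l) (Bdual p Λ R a) = 0 := by
  induction l using List.reverseRecOn with
  | nil =>
    change CliffordAlgebra.contractRight
      (1 : CliffordAlgebra (0 : QuadraticForm (SA p R a) (Ω[SA p R a⁄Λ]))) (Bdual p Λ R a) = 0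
    exact CliffordAlgebra.contractRight_one _ (Bdual p Λ R a)
  | append_singleton l η ih =>
    rw [prodPb, List.map_append, List.prod_append, List.map_singleton, List.prod_singleton]
    change CliffordAlgebra.contractRight (prodPb p Λ R a l * CliffordAlgebra.ι _ _) _ = 0
    rw [CliffordAlgebra.contractRight_mul_ι, ih, zero_mul, sub_zero, Bdual_pb, zero_smul]

theorem psi_prodPb (l : List (Ω[R⁄Λ])) :
    psi p Λ R a (prodPb p Λ R a l) =
      Lrest R (SA p R a) (Ω[R⁄Λ]) (KaehlerDifferential.D Λ R a)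
        (Algebra.TensorProduct.includeRight (l.map fun η => ExteriorAlgebra.ι R η).prod) := by
  rw [prodPb, map_list_prod, map_list_prod, map_list_prod, List.map_map, List.map_map,
    List.map_map]
  congr 1
  apply List.map_congr_left
  intro η _
  simp only [Function.comp_apply]
  rw [psi_ι, Aend_pb, LF_apply, fT_tmul]
  rfl

theorem pre_prodPb_mul (l : List (Ω[R⁄Λ])) (v : Ω[SA p R a⁄Λ]) :
    pre p Λ R a (prodPb p Λ R a l * ExteriorAlgebra.ι (SA p R a) v) =
      (Bdual p Λ R a v) ⊗ₜ[R] ((l.map fun η => ExteriorAlgebra.ι R η).prod *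
        ExteriorAlgebra.ι R (KaehlerDifferential.D Λ R a)) := by
  rw [pre_apply]
  change ((psi p Λ R a (CliffordAlgebra.contractRight
    (prodPb p Λ R a l * CliffordAlgebra.ι _ v) (Bdual p Λ R a))) (dI p Λ R a)).val = _
  rw [CliffordAlgebra.contractRight_mul_ι, contractRight_prodPb, zero_mul, sub_zero, map_smul,
    psi_prodPb, LinearMap.smul_apply, Submodule.coe_smul, Lrest_apply]
  change _ • ((1 : SA p R a) ⊗ₜ[R] _ * (1 : SA p R a) ⊗ₜ[R] _) = _
  rw [Algebra.TensorProduct.tmul_mul_tmul, mul_one, TensorProduct.smul_tmul', smul_eq_mul,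
    mul_one]

theorem pre_smul_prodPb (s : SA p R a) (l : List (Ω[R⁄Λ])) :
    pre p Λ R a (s • prodPb p Λ R a l) = 0 := by
  rw [map_smul, pre_apply, contractRight_prodPb, map_zero, LinearMap.zero_apply,
    Submodule.coe_zero, smul_zero]

end Groth.Agent.Lib.Helper8.TrX
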