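import Mathlib
import Groth.Agent.Lib.Helper8.TrX4

set_option backward.isDefEq.respectTransparency.types false
set_option autoImplicit false
set_option linter.unusedSectionVars false
set_option linter.style.haveILetI false

universe u

open TensorProduct Polynomial

namespace Groth.Agent.Lib.Helper8.TrX

section General

variable (R N : Type u) [CommRing R] [AddCommGroup N] [Module R N]

/-- projection of the exterior algebra to its degree `n` part. -/
noncomputable def projTop (n : ℕ) : ExteriorAlgebra R N →ₗ[R] ⋀[R]^n N :=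
  (DirectSum.component R ℕ (fun i => ↥(⋀[R]^i N)) n) ∘ₗ
    (DirectSum.decomposeLinearEquiv (fun i => ⋀[R]^i N)).toLinearMap

theorem projTop_of_mem (n : ℕ) (x : ExteriorAlgebra R N) (hx : x ∈ ⋀[R]^n N) :
    projTop R N n x = ⟨x, hx⟩ := by
  apply Subtype.ext
  exact DirectSum.decompose_of_mem_same (fun i => ⋀[R]^i N) hx

theorem ofFn_snoc {α β : Type*} {n : ℕ} (f : α → β) (g : Fin n → α) (x : α) :
    List.ofFn (fun k => f (Fin.snoc (α := fun _ => α) g x k)) =
      (List.ofFn fun j => f (g j)) ++ [f x] := by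
  rw [List.ofFn_succ', List.concat_eq_append]
  simp

theorem ιMulti_snoc {n : ℕ} (η : Fin n → N) (x : N) :
    ExteriorAlgebra.ιMulti R (n + 1) (Fin.snoc (α := fun _ => N) η x) =
      ((List.ofFn η).map fun y => ExteriorAlgebra.ι R y).prod * ExteriorAlgebra.ι R x := by
  rw [ExteriorAlgebra.ιMulti_apply, ofFn_snoc (fun y => ExteriorAlgebra.ι R y), List.prod_append,
    List.prod_singleton, List.map_ofFn]
  rfl

end General

variable (p : ℕ) [Fact p.Prime] (Λ R : Type u) [CommRing Λ] [CommRing R] [Algebra Λ R]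
  [CharP R p] (a : R)

theorem gp_monic : (gp p R a).Monic := monic_X_pow_sub_C a (Fact.out : p.Prime).ne_zero

/-- coefficient of `x^(p-1)`. -/
noncomputable def coef : SA p R a →ₗ[R] R :=
  (Polynomial.lcoeff R (p - 1)) ∘ₗ (AdjoinRoot.modByMonicHom (gp_monic p R a))

theorem coef_root_pow (i : ℕ) (hi : i < p) :
    coef p R a (AdjoinRoot.root (gp p R a) ^ i) = if i = p - 1 then 1 else 0 := by
  nontriviality R
  have h1 : AdjoinRoot.root (gp p R a) ^ i = AdjoinRoot.mk (gp p R a) (X ^ i) := by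
    rw [map_pow, AdjoinRoot.mk_X]
  have h2 : (X ^ i : R[X]) %ₘ gp p R a = X ^ i := by
    rw [Polynomial.modByMonic_eq_self_iff (gp_monic p R a)]
    have : (gp p R a).degree = p := degree_X_pow_sub_C (Fact.out : p.Prime).pos a
    rw [this, degree_X_pow]
    exact_mod_cast hi
  rw [coef, LinearMap.comp_apply, h1, AdjoinRoot.modByMonicHom_mk, h2, Polynomial.lcoeff_apply,
    coeff_X_pow]
  by_cases h : i = p - 1
  · rw [if_pos h, if_pos h.symm]
  · rw [if_neg h, if_neg (fun hh => h hh.symm)]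

/-- `s ⊗ w ↦ coef(s) w`. -/
noncomputable def coefTop : TA R (SA p R a) (Ω[R⁄Λ]) →ₗ[R] ExteriorAlgebra R (Ω[R⁄Λ]) :=
  (TensorProduct.lid R (ExteriorAlgebra R (Ω[R⁄Λ]))).toLinearMap ∘ₗ
    (LinearMap.rTensor (ExteriorAlgebra R (Ω[R⁄Λ])) (coef p R a))

theorem coefTop_tmul (s : SA p R a) (w : ExteriorAlgebra R (Ω[R⁄Λ])) :
    coefTop p Λ R a (s ⊗ₜ w) = coef p R a s • w := by
  simp [coefTop]

/-- the trace map. -/
noncomputable def Tr (t : ℕ) :
    (⋀[SA p R a]^(t + 1) (Ω[SA p R a⁄Λ])) →+ (⋀[R]^(t + 1) (Ω[R⁄Λ])) where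
  toFun ω := projTop R (Ω[R⁄Λ]) (t + 1) (coefTop p Λ R a (pre p Λ R a ω.val))
  map_zero' := by simp
  map_add' ω ω' := by simp only [Submodule.coe_add, map_add]

theorem Tr_apply (t : ℕ) (ω : ⋀[SA p R a]^(t + 1) (Ω[SA p R a⁄Λ])) :
    Tr p Λ R a t ω = projTop R (Ω[R⁄Λ]) (t + 1) (coefTop p Λ R a (pre p Λ R a ω.val)) := rfl

theorem Tr_smul (t : ℕ) (r : R) (ω : ⋀[SA p R a]^(t + 1) (Ω[SA p R a⁄Λ])) :
    Tr p Λ R a t (algebraMap R (SA p R a) r • ω) = r • Tr p Λ R a t ω := by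
  rw [Tr_apply, Tr_apply, Submodule.coe_smul, map_smul, algebraMap_smul, map_smul, map_smul]

theorem val_snoc (t : ℕ) (η : Fin t → Ω[R⁄Λ]) (v : Ω[SA p R a⁄Λ]) :
    (exteriorPower.ιMulti (SA p R a) (t + 1)
      (Fin.snoc (α := fun _ => Ω[SA p R a⁄Λ]) (fun j => pb p Λ R a (η j)) v)).val =
      prodPb p Λ R a (List.ofFn η) * ExteriorAlgebra.ι (SA p R a) v := by
  rw [exteriorPower.ιMulti_apply_coe, ιMulti_snoc, prodPb, List.map_ofFn, List.map_ofFn]
  rfl

theorem Tr_snoc (t : ℕ) (η : Fin t → Ω[R⁄Λ]) (i : ℕ) (hi : i < p) :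
    Tr p Λ R a t (exteriorPower.ιMulti (SA p R a) (t + 1)
      (Fin.snoc (α := fun _ => Ω[SA p R a⁄Λ]) (fun j => pb p Λ R a (η j))
        (AdjoinRoot.root (gp p R a) ^ i •
          KaehlerDifferential.D Λ (SA p R a) (AdjoinRoot.root (gp p R a))))) =
      (if i = p - 1 then (1 : R) else 0) • exteriorPower.ιMulti R (t + 1)
        (Fin.snoc (α := fun _ => Ω[R⁄Λ]) η (KaehlerDifferential.D Λ R a)) := by
  rw [Tr_apply, val_snoc, pre_prodPb_mul, map_smul, Bdual_D_root, smul_eq_mul, mul_one,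
    coefTop_tmul, coef_root_pow p R a i hi, map_smul]
  congr 1
  have hW : (List.map (fun η => ExteriorAlgebra.ι R η) (List.ofFn η)).prod *
      ExteriorAlgebra.ι R (KaehlerDifferential.D Λ R a) =
      (exteriorPower.ιMulti R (t + 1)
        (Fin.snoc (α := fun _ => Ω[R⁄Λ]) η (KaehlerDifferential.D Λ R a))).val := by
    rw [exteriorPower.ιMulti_apply_coe, ιMulti_snoc]
  rw [projTop_of_mem R (Ω[R⁄Λ]) (t + 1) _ (hW ▸ Subtype.property _)]
  exact Subtype.ext hW

theorem Tr_pullback (t : ℕ) (s : SA p R a) (η : Fin (t + 1) → Ω[R⁄Λ]) :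
    Tr p Λ R a t (s • exteriorPower.ιMulti (SA p R a) (t + 1) (fun j => pb p Λ R a (η j))) = 0 := by
  have hval : (exteriorPower.ιMulti (SA p R a) (t + 1) (fun j => pb p Λ R a (η j))).val =
      prodPb p Λ R a (List.ofFn η) := by
    rw [exteriorPower.ιMulti_apply_coe, ExteriorAlgebra.ιMulti_apply, prodPb, List.map_ofFn]
    rfl
  rw [Tr_apply, Submodule.coe_smul, hval, pre_smul_prodPb, map_zero, map_zero]

end Groth.Agent.Lib.Helper8.TrX
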