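import Mathlib
import Groth.Agent.Lib.Helper20.DimTrdeg
import Groth.Agent.S0212
import Groth.Agent.S0214

set_option backward.isDefEq.respectTransparency.types false
set_option autoImplicit false
set_option linter.unusedSectionVars false
set_option linter.style.haveILetI false

namespace Groth.Agent.Lib.Helper8.TsenC

open AlgebraicGeometry CategoryTheory Opposite TopologicalSpace
open Groth.Agent.Lib.Helper20.DimTrdeg

universe u

lemma isCr_one_of_isCi_one (K : Type u) [Field K] (h : Curves.IsCi K 1) : Curves.IsCr K 1 := by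
  intro n d f hf hd hlt
  obtain ⟨a, ha, hz⟩ := h 1 n (fun _ => f) (fun _ => d) (fun _ => hf) (fun _ => hd) (by simpa using hlt)
  exact ⟨a, ha, hz 0⟩

theorem main (k : Type u) [Field k] [IsAlgClosed k] (C : Scheme.{u})
    (f : C ⟶ Spec (CommRingCat.of k)) [LocallyOfFiniteType f] [IsIntegral C]
    (hdim : topologicalKrullDim ↥C = 1)
    (D : Type u) [DivisionRing D] [Algebra ↑C.functionField D] [Algebra.IsCentral ↑C.functionField D]
    [FiniteDimensional ↑C.functionField D] : Module.finrank ↑C.functionField D = 1 := by
  obtain ⟨_, ⟨W, hW, rfl⟩, hηW, -⟩ :=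
    C.isBasis_affineOpens.exists_subset_of_mem_open (Set.mem_univ (genericPoint C)) isOpen_univ
  have : Nonempty W := ⟨⟨_, hηW⟩⟩
  let _ : Algebra k Γ(C, W) := (kMap f W).toAlgebra
  have : Algebra.FiniteType k Γ(C, W) := kMap_finiteType f W hW
  have hfr := functionField_isFractionRing_of_isAffineOpen C W hW
  let _ : Algebra k C.functionField :=
    ((algebraMap Γ(C, W) C.functionField).comp (algebraMap k Γ(C, W))).toAlgebra
  have : IsScalarTower k Γ(C, W) C.functionField := IsScalarTower.of_algebraMap_eq fun _ => rfl
  have hd := ringKrullDim_eq_trdeg k Γ(C, W) C.functionField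
  have hd2 := topologicalKrullDim_eq_ringKrullDim f hW
  rw [hdim, hd] at hd2
  have h1 : Cardinal.toNat (Algebra.trdeg k C.functionField) = 1 := by
    have : ((1 : ℕ) : WithBot ℕ∞) = ((Cardinal.toNat (Algebra.trdeg k C.functionField) : ℕ) : WithBot ℕ∞) := by
      exact_mod_cast hd2
    exact_mod_cast this.symm
  have htr : Algebra.trdeg k C.functionField = ((1 : ℕ) : Cardinal) :=
    (Cardinal.toNat_eq_iff one_ne_zero).mp h1
  have hCi := Groth.Agent.S0212.result k C.functionField 1 htr
  have hCr := isCr_one_of_isCi_one C.functionField hCi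
  exact Groth.Agent.S0214.result C.functionField hCr D

end Groth.Agent.Lib.Helper8.TsenC
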