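import Mathlib

set_option backward.isDefEq.respectTransparency.types false
set_option synthInstance.maxHeartbeats 400000
set_option autoImplicit false
set_option linter.unusedSectionVars false
set_option linter.style.haveILetI false

universe u
open TensorProduct Polynomial

namespace Groth.Agent.Lib.Helper8.VD1

section P1P2

variable {A K A' K' : Type*} [CommRing A] [IsDomain A] [ValuationRing A] [Field K] [Algebra A K]
    [IsFractionRing A K]
    [CommRing A'] [IsDomain A'] [ValuationRing A'] [Field K'] [Algebra A' K'] [IsFractionRing A' K']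
    [Algebra A A'] [IsLocalHom (algebraMap A A')]
    [Algebra K K'] [Algebra A K'] [IsScalarTower A A' K'] [IsScalarTower A K K']

theorem p2 (k : K) (a' : A') (h : algebraMap K K' k = algebraMap A' K' a') :
    ∃ a : A, algebraMap A K a = k := by
  rcases ValuationRing.isInteger_or_isInteger A k with ⟨a, ha⟩ | ⟨a, ha⟩
  · exact ⟨a, ha⟩
  · by_cases hk : k = 0
    · exact ⟨0, by simp [hk]⟩
    have ha' : algebraMap A K a = k⁻¹ := ha
    have h1 : algebraMap A' K' (a' * algebraMap A A' a) = 1 := by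
      rw [map_mul, ← h, ← IsScalarTower.algebraMap_apply A A' K',
        IsScalarTower.algebraMap_apply A K K', ha', ← map_mul, mul_inv_cancel₀ hk, map_one]
    have h2 : a' * algebraMap A A' a = 1 := by
      apply IsFractionRing.injective A' K'
      rw [h1, map_one]
    have h3 : IsUnit (algebraMap A A' a) := IsUnit.of_mul_eq_one_right _ h2
    have h4 : IsUnit a := isUnit_of_map_unit (algebraMap A A') a h3
    obtain ⟨u, rfl⟩ := h4
    refine ⟨↑u⁻¹, ?_⟩
    have h5 : algebraMap A K ↑u⁻¹ * algebraMap A K ↑u = 1 := by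
      rw [← map_mul, Units.inv_mul, map_one]
    rw [eq_inv_of_mul_eq_one_left h5, ha', inv_inv]

theorem p1 (hdense : ∀ a' b' : A', b' ≠ 0 → ∃ a : A, b' ∣ a' - algebraMap A A' a) (c' : K') :
    ∃ (k : K) (δ : A'), c' = algebraMap K K' k + algebraMap A' K' δ := by
  rcases ValuationRing.isInteger_or_isInteger A' c' with ⟨a, ha⟩ | ⟨b, hb⟩
  · exact ⟨0, a, by simp [ha]⟩
  · have hb' : algebraMap A' K' b = c'⁻¹ := hb
    by_cases hc : c' = 0
    · exact ⟨0, 0, by simp [hc]⟩
    have hb0 : b ≠ 0 := by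
      rintro rfl
      rw [map_zero] at hb'
      exact hc (inv_eq_zero.mp hb'.symm)
    by_cases hbu : IsUnit b
    · obtain ⟨u, rfl⟩ := hbu
      refine ⟨0, ↑u⁻¹, ?_⟩
      rw [map_zero, zero_add]
      have h5 : algebraMap A' K' ↑u⁻¹ * algebraMap A' K' ↑u = 1 := by
        rw [← map_mul, Units.inv_mul, map_one]
      rw [eq_inv_of_mul_eq_one_left h5, hb', inv_inv]
    · obtain ⟨a, t, ht⟩ := hdense b (b * b) (mul_ne_zero hb0 hb0)
      have hw : IsUnit (1 - b * t) :=
        IsLocalRing.isUnit_one_sub_self_of_mem_nonunits _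
          (fun h => hbu (IsUnit.mul_iff.mp h).1)
      obtain ⟨w, hw⟩ := hw
      have ha : algebraMap A A' a = b * w := by
        rw [hw]; linear_combination -ht
      have hβ : algebraMap A' K' b ≠ 0 := by
        rw [hb']; exact inv_ne_zero hc
      have hω : algebraMap A' K' ↑w * algebraMap A' K' ↑w⁻¹ = 1 := by
        rw [← map_mul, Units.mul_inv, map_one]
      have hω0 : algebraMap A' K' (↑w : A') ≠ 0 := left_ne_zero_of_mul_eq_one hω
      have hωeq : algebraMap A' K' (↑w : A') = 1 - algebraMap A' K' b * algebraMap A' K' t := by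
        rw [hw, map_sub, map_one, map_mul]
      refine ⟨(algebraMap A K a)⁻¹, -(t * ↑w⁻¹), ?_⟩
      rw [map_inv₀, ← IsScalarTower.algebraMap_apply A K K', IsScalarTower.algebraMap_apply A A' K',
        ha, map_mul, map_neg, map_mul]
      have hc' : c' = (algebraMap A' K' b)⁻¹ := by rw [hb', inv_inv]
      have hwinv : algebraMap A' K' ↑w⁻¹ = (algebraMap A' K' (↑w : A'))⁻¹ :=
        eq_inv_of_mul_eq_one_right hω
      rw [hc', hwinv]
      field_simp
      rw [hωeq]
      ring

end P1P2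

section P3

variable {A K L A' K' : Type*} [CommRing A] [IsDomain A] [ValuationRing A] [Field K] [Algebra A K]
    [IsFractionRing A K]
    [Field L] [Algebra K L] [FiniteDimensional K L] [Algebra A L] [IsScalarTower A K L]
    [CommRing A'] [IsDomain A'] [ValuationRing A'] [Field K'] [Algebra A' K'] [IsFractionRing A' K']
    [Algebra A A'] [IsLocalHom (algebraMap A A')]
    [Algebra K K'] [Algebra A K'] [IsScalarTower A A' K'] [IsScalarTower A K K']

theorem p3 (y₀ : L) (g : A'[X]) (hg : g.Monic)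
    (h0 : g.eval₂ ((Algebra.TensorProduct.includeLeft : K' →ₐ[K] K' ⊗[K] L).toRingHom.comp
      (algebraMap A' K')) ((1 : K') ⊗ₜ[K] y₀) = 0) : IsIntegral A y₀ := by
  have hy : IsIntegral K y₀ := Algebra.IsIntegral.isIntegral y₀
  have hμ : (minpoly K y₀).Monic := minpoly.monic hy
  have hμ' : ((minpoly K y₀).map (algebraMap K K')).Monic := hμ.map _
  have hG : aeval ((1 : K') ⊗ₜ[K] y₀ : K' ⊗[K] L) (g.map (algebraMap A' K')) = 0 := by
    rw [aeval_def, eval₂_map]
    exact h0
  have hμ0 : aeval ((1 : K') ⊗ₜ[K] y₀ : K' ⊗[K] L) ((minpoly K y₀).map (algebraMap K K')) = 0 := by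
    rw [aeval_def, eval₂_map, ← IsScalarTower.algebraMap_eq K K' (K' ⊗[K] L)]
    have h1 : ((1 : K') ⊗ₜ[K] y₀ : K' ⊗[K] L)
        = (Algebra.TensorProduct.includeRight : L →ₐ[K] K' ⊗[K] L) y₀ := rfl
    rw [h1, ← aeval_def, aeval_algHom_apply, minpoly.aeval, map_zero]
  -- remainder
  obtain ⟨r, hr⟩ : ∃ r, r = (g.map (algebraMap A' K')) %ₘ ((minpoly K y₀).map (algebraMap K K')) :=
    ⟨_, rfl⟩
  have hdiv := modByMonic_add_div (g.map (algebraMap A' K')) ((minpoly K y₀).map (algebraMap K K'))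
  rw [← hr] at hdiv
  have hr0 : aeval ((1 : K') ⊗ₜ[K] y₀ : K' ⊗[K] L) r = 0 := by
    have := congrArg (aeval ((1 : K') ⊗ₜ[K] y₀ : K' ⊗[K] L)) hdiv
    rw [map_add, map_mul, hμ0, zero_mul, add_zero, hG] at this
    exact this
  have hdeg : r.natDegree < (minpoly K y₀).natDegree := by
    have h1 : r.degree < ((minpoly K y₀).map (algebraMap K K')).degree := by
      rw [hr]; exact degree_modByMonic_lt _ hμ'
    have h2 : ((minpoly K y₀).map (algebraMap K K')).natDegree = (minpoly K y₀).natDegree :=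
      natDegree_map _
    by_cases hr00 : r = 0
    · rw [hr00, natDegree_zero]; exact minpoly.natDegree_pos hy
    · rw [← h2]
      exact natDegree_lt_natDegree hr00 h1
  have hli : LinearIndependent K' (fun i : Fin (minpoly K y₀).natDegree =>
      (1 : K') ⊗ₜ[K] (y₀ ^ (i : ℕ))) :=
    Module.Flat.linearIndependent_one_tmul (linearIndependent_pow y₀)
  have hrz : r = 0 := by
    rw [aeval_eq_sum_range' hdeg, ← Fin.sum_univ_eq_sum_range
      (fun i => r.coeff i • ((1 : K') ⊗ₜ[K] y₀ : K' ⊗[K] L) ^ i)] at hr0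
    have hr0' : ∑ i : Fin (minpoly K y₀).natDegree,
        r.coeff i • ((1 : K') ⊗ₜ[K] (y₀ ^ (i : ℕ)) : K' ⊗[K] L) = 0 := by
      rw [← hr0]
      refine Finset.sum_congr rfl fun i _ => ?_
      rw [Algebra.TensorProduct.tmul_pow, one_pow]
    have hall := Fintype.linearIndependent_iff.mp hli (fun i => r.coeff i) hr0'
    ext i
    rw [coeff_zero]
    by_cases hi : i < (minpoly K y₀).natDegree
    · exact hall ⟨i, hi⟩
    · exact coeff_eq_zero_of_natDegree_lt (lt_of_lt_of_le hdeg (not_lt.mp hi))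
  have hdvd : (minpoly K y₀).map (algebraMap K K') ∣ g.map (algebraMap A' K') := by
    rw [← modByMonic_eq_zero_iff_dvd hμ', ← hr, hrz]
  obtain ⟨g', hg'⟩ := IsIntegrallyClosed.eq_map_mul_C_of_dvd K' hg hdvd
  rw [hμ'.leadingCoeff, C_1, mul_one] at hg'
  have hlift : minpoly K y₀ ∈ lifts (algebraMap A K) := by
    rw [lifts_iff_coeff_lifts]
    intro i
    have h1 : algebraMap K K' ((minpoly K y₀).coeff i) = algebraMap A' K' (g'.coeff i) := by
      rw [← coeff_map, ← hg', coeff_map]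
    obtain ⟨a, ha⟩ := p2 (A := A) _ _ h1
    exact ⟨a, ha⟩
  obtain ⟨q, hq, -, hqm⟩ := lifts_and_natDegree_eq_and_monic hlift hμ
  refine ⟨q, hqm, ?_⟩
  rw [← aeval_def, ← aeval_map_algebraMap K, hq, minpoly.aeval]

end P3

section Main

variable (A : Type*) {K L : Type*} (A' : Type*) {K' : Type*}
    [CommRing A] [IsDomain A] [ValuationRing A] [Field K] [Algebra A K]
    [IsFractionRing A K]
    [Field L] [Algebra K L] [FiniteDimensional K L] [Algebra A L] [IsScalarTower A K L]
    [CommRing A'] [IsDomain A'] [ValuationRing A'] [Field K'] [Algebra A' K'] [IsFractionRing A' K']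
    [Algebra A A'] [IsLocalHom (algebraMap A A')]
    [Algebra K K'] [Algebra A K'] [IsScalarTower A A' K'] [IsScalarTower A K K']

/-- finite sums `Σ a'ᵢ ⊗ lᵢ` with `lᵢ` integral over `A`. -/
def IsGood (t : K' ⊗[K] L) : Prop :=
  ∃ (n : ℕ) (a : Fin n → A') (l : Fin n → L), (∀ i, IsIntegral A (l i)) ∧
    t = ∑ i, algebraMap A' K' (a i) ⊗ₜ[K] l i

variable {A A'}

theorem isGood_zero : IsGood A A' (0 : K' ⊗[K] L) :=
  ⟨0, Fin.elim0, Fin.elim0, fun i => Fin.elim0 i, by simp⟩

theorem isGood_tmul (δ : A') (e : L) (he : IsIntegral A e) :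
    IsGood A A' (algebraMap A' K' δ ⊗ₜ[K] e : K' ⊗[K] L) :=
  ⟨1, fun _ => δ, fun _ => e, fun _ => he, by simp⟩

theorem isGood_add {t s : K' ⊗[K] L} (ht : IsGood A A' t) (hs : IsGood A A' s) :
    IsGood A A' (t + s) := by
  obtain ⟨n, a, l, hl, rfl⟩ := ht
  obtain ⟨m, b, l', hl', rfl⟩ := hs
  refine ⟨n + m, Fin.append a b, Fin.append l l', ?_, ?_⟩
  · intro i
    refine Fin.addCases (fun j => ?_) (fun j => ?_) i
    · rw [Fin.append_left]; exact hl j
    · rw [Fin.append_right]; exact hl' j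
  · rw [Fin.sum_univ_add]
    simp only [Fin.append_left, Fin.append_right]

theorem decomp (hdense : ∀ a' b' : A', b' ≠ 0 → ∃ a : A, b' ∣ a' - algebraMap A A' a)
    (t : K' ⊗[K] L) :
    ∃ (y₀ : L) (t₁ : K' ⊗[K] L), IsGood A A' t₁ ∧ t = (1 : K') ⊗ₜ[K] y₀ + t₁ := by
  induction t using TensorProduct.induction_on with
  | zero => exact ⟨0, 0, isGood_zero, by simp⟩
  | tmul c l =>
    obtain ⟨⟨d, hd⟩, hdl⟩ := IsIntegral.exists_multiple_integral_of_isLocalization
      (nonZeroDivisors A) l (Algebra.IsIntegral.isIntegral (R := K) l)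
    have hdl' : IsIntegral A (d • l) := hdl
    have hd0 : d ≠ 0 := nonZeroDivisors.ne_zero hd
    have hκ : algebraMap A K d ≠ 0 := by
      rw [Ne, map_eq_zero_iff _ (IsFractionRing.injective A K)]; exact hd0
    obtain ⟨k, δ, hkδ⟩ := p1 (K := K) hdense (c * (algebraMap K K' (algebraMap A K d))⁻¹)
    refine ⟨k • (d • l), algebraMap A' K' δ ⊗ₜ (d • l), isGood_tmul δ _ hdl', ?_⟩
    have h1 : c ⊗ₜ[K] l = (c * (algebraMap K K' (algebraMap A K d))⁻¹) ⊗ₜ[K] (d • l) := by
      rw [← algebraMap_smul K d l, ← TensorProduct.smul_tmul, Algebra.smul_def, mul_comm,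
        mul_assoc, inv_mul_cancel₀, mul_one]
      rw [Ne, map_eq_zero]; exact hκ
    rw [h1, hkδ, TensorProduct.add_tmul]
    congr 1
    rw [Algebra.algebraMap_eq_smul_one, TensorProduct.smul_tmul]
  | add t s ht hs =>
    obtain ⟨y, t₁, h1, rfl⟩ := ht
    obtain ⟨z, s₁, h2, rfl⟩ := hs
    exact ⟨y + z, t₁ + s₁, isGood_add h1 h2, by rw [TensorProduct.tmul_add]; abel⟩

theorem isIntegralElem_of_isGood {t : K' ⊗[K] L} (h : IsGood A A' t) :
    ((Algebra.TensorProduct.includeLeft : K' →ₐ[K] K' ⊗[K] L).toRingHom.comp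
      (algebraMap A' K')).IsIntegralElem t := by
  obtain ⟨n, a, l, hl, rfl⟩ := h
  refine Finset.sum_induction _ _ (fun _ _ h1 h2 => RingHom.IsIntegralElem.add _ h1 h2)
    (RingHom.isIntegralElem_zero _) (fun i _ => ?_)
  have h1 : (algebraMap A' K' (a i) ⊗ₜ[K] l i : K' ⊗[K] L)
      = ((Algebra.TensorProduct.includeLeft : K' →ₐ[K] K' ⊗[K] L).toRingHom.comp
      (algebraMap A' K')) (a i) * (Algebra.TensorProduct.includeRight : L →ₐ[K] K' ⊗[K] L) (l i) := by
    simp
  rw [h1]
  refine RingHom.IsIntegralElem.mul _ (RingHom.isIntegralElem_map _) ?_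
  obtain ⟨p, hp, hp0⟩ := hl i
  refine ⟨p.map (algebraMap A A'), hp.map _, ?_⟩
  rw [eval₂_map]
  have h2 : ((Algebra.TensorProduct.includeLeft : K' →ₐ[K] K' ⊗[K] L).toRingHom.comp
      (algebraMap A' K')).comp (algebraMap A A')
      = (Algebra.TensorProduct.includeRight : L →ₐ[K] K' ⊗[K] L).toRingHom.comp
        (algebraMap A L) := by
    ext a
    simp only [RingHom.comp_apply, AlgHom.toRingHom_eq_coe, RingHom.coe_coe,
      Algebra.TensorProduct.includeLeft_apply, Algebra.TensorProduct.includeRight_apply]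
    rw [← IsScalarTower.algebraMap_apply A A' K', IsScalarTower.algebraMap_apply A K K',
      IsScalarTower.algebraMap_apply A K L, Algebra.algebraMap_eq_smul_one,
      Algebra.algebraMap_eq_smul_one (A := L), TensorProduct.smul_tmul]
  rw [h2]
  have h3 := hom_eval₂ p (algebraMap A L)
    (Algebra.TensorProduct.includeRight : L →ₐ[K] K' ⊗[K] L).toRingHom (l i)
  rw [hp0, map_zero] at h3
  exact h3.symm

theorem main (hdense : ∀ a' b' : A', b' ≠ 0 → ∃ a : A, b' ∣ a' - algebraMap A A' a)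
    (x : (K' ⊗[K] L) ⧸ nilradical (K' ⊗[K] L))
    (hx : ((Ideal.Quotient.mk (nilradical (K' ⊗[K] L))).comp
            ((Algebra.TensorProduct.includeLeft : K' →ₐ[K] K' ⊗[K] L).toRingHom.comp
              (algebraMap A' K'))).IsIntegralElem x) :
    ∃ (n : ℕ) (a : Fin n → A') (l : Fin n → L), (∀ i, IsIntegral A (l i)) ∧
      x = Ideal.Quotient.mk (nilradical (K' ⊗[K] L)) (∑ i, algebraMap A' K' (a i) ⊗ₜ[K] l i) := by
  obtain ⟨t, rfl⟩ := Ideal.Quotient.mk_surjective x
  obtain ⟨y₀, t₁, hgood, rfl⟩ := decomp (A := A) (A' := A') hdense t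
  have h1 : ((Ideal.Quotient.mk (nilradical (K' ⊗[K] L))).comp
            ((Algebra.TensorProduct.includeLeft : K' →ₐ[K] K' ⊗[K] L).toRingHom.comp
              (algebraMap A' K'))).IsIntegralElem
      (Ideal.Quotient.mk (nilradical (K' ⊗[K] L)) t₁) := by
    obtain ⟨p, hp, hp0⟩ := isIntegralElem_of_isGood hgood
    refine ⟨p, hp, ?_⟩
    rw [← hom_eval₂, hp0, map_zero]
  have h2 := RingHom.IsIntegralElem.sub _ hx h1
  rw [← map_sub, add_sub_cancel_right] at h2
  obtain ⟨p, hp, hp0⟩ := h2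
  rw [← hom_eval₂, Ideal.Quotient.eq_zero_iff_mem, mem_nilradical] at hp0
  obtain ⟨M, hM⟩ := hp0
  rw [← eval₂_pow] at hM
  have hy : IsIntegral A y₀ := p3 y₀ (p ^ M) (hp.pow M) hM
  have hfin : IsGood A A' ((1 : K') ⊗ₜ[K] y₀ + t₁) := by
    refine isGood_add ?_ hgood
    have := isGood_tmul (A := A) (A' := A') (K := K) (K' := K') 1 y₀ hy
    rwa [map_one] at this
  obtain ⟨n, a, l, hl, h⟩ := hfin
  exact ⟨n, a, l, hl, by rw [h]⟩

end Main

end Groth.Agent.Lib.Helper8.VD1
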