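import Mathlib
set_option backward.isDefEq.respectTransparency.types false
set_option synthInstance.maxHeartbeats 400000
set_option autoImplicit false
set_option linter.unusedSectionVars false
set_option linter.style.haveILetI false

namespace Groth.Agent.Lib.Helper8.VE1

open Polynomial

theorem isUnit_add_of_not_isUnit {W : Type*} [CommRing W] [IsLocalRing W] {u y : W}
    (hu : IsUnit u) (hy : ¬ IsUnit y) : IsUnit (u + y) := by
  by_contra h
  have h1 : u + y ∈ IsLocalRing.maximalIdeal W := (IsLocalRing.mem_maximalIdeal _).mpr h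
  have h2 : y ∈ IsLocalRing.maximalIdeal W := (IsLocalRing.mem_maximalIdeal _).mpr hy
  have h3 : u ∈ IsLocalRing.maximalIdeal W := by
    have := (IsLocalRing.maximalIdeal W).sub_mem h1 h2
    simpa using this
  exact (IsLocalRing.mem_maximalIdeal _).mp h3 hu

/-- `u`/`u⁻¹` lemma for integrally closed local domains: a nonzero element of the fraction field
which is a root of a polynomial having a unit coefficient lies in the ring or its inverse does. -/
theorem mem_or_inv_mem {W L : Type*} [CommRing W] [IsDomain W] [IsLocalRing W]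
    [IsIntegrallyClosed W] [Field L] [Algebra W L] [IsFractionRing W L] (x : L) :
    ∀ (n : ℕ) (P : W[X]), P.natDegree ≤ n → (∃ i, IsUnit (P.coeff i)) → aeval x P = 0 →
      (∃ w : W, algebraMap W L w = x) ∨ (∃ w : W, algebraMap W L w = x⁻¹) := by
  have hinj : Function.Injective (algebraMap W L) := IsFractionRing.injective W L
  intro n
  induction n with
  | zero =>
    intro P hdeg ⟨i, hi⟩ hP
    exfalso
    have hC : P = C (P.coeff 0) := eq_C_of_natDegree_le_zero hdeg
    have hi0 : i = 0 := by
      by_contra hne
      have : P.coeff i = 0 := by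
        rw [hC, coeff_C]; simp [hne]
      rw [this] at hi
      exact not_isUnit_zero hi
    subst hi0
    rw [hC, aeval_C] at hP
    have : P.coeff 0 = 0 := hinj (by rw [hP, map_zero])
    rw [this] at hi
    exact not_isUnit_zero hi
  | succ n ih =>
    intro P hdeg ⟨i, hi⟩ hP
    by_cases hdn : P.natDegree ≤ n
    · exact ih P hdn ⟨i, hi⟩ hP
    have hdeq : P.natDegree = n + 1 := by omega
    have hP0 : P ≠ 0 := by
      rintro rfl
      simp at hi
    have ha0 : P.leadingCoeff ≠ 0 := leadingCoeff_ne_zero.mpr hP0
    by_cases hau : IsUnit P.leadingCoeff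
    · -- x integral
      left
      obtain ⟨u, hu⟩ := hau
      have hmonic : (C (↑u⁻¹ : W) * P).Monic := by
        have : (C (↑u⁻¹ : W) * P).leadingCoeff = 1 := by
          rw [leadingCoeff_mul, leadingCoeff_C, ← hu]; simp
        exact this
      have hint : IsIntegral W x := ⟨_, hmonic, by
        rw [← aeval_def, map_mul, hP, mul_zero]⟩
      exact IsIntegrallyClosed.isIntegral_iff.mp hint
    · -- a • x integral
      have hint : IsIntegral W (P.leadingCoeff • x) := isIntegral_leadingCoeff_smul P x hP
      obtain ⟨y₀, hy₀⟩ := IsIntegrallyClosed.isIntegral_iff.mp hint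
      have hy₀' : algebraMap W L y₀ = algebraMap W L P.leadingCoeff * x := by
        rw [hy₀, Algebra.smul_def]
      have ha0' : algebraMap W L P.leadingCoeff ≠ 0 := by
        rw [Ne, map_eq_zero_iff _ hinj]; exact ha0
      by_cases hyu : IsUnit y₀
      · right
        obtain ⟨u, hu⟩ := hyu
        refine ⟨P.leadingCoeff * ↑u⁻¹, ?_⟩
        have hx0 : x ≠ 0 := by
          rintro rfl
          rw [mul_zero] at hy₀'
          have : y₀ = 0 := hinj (by rw [hy₀', map_zero])
          rw [← hu] at this
          exact u.ne_zero this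
        have hu' : algebraMap W L (↑u : W) * algebraMap W L (↑u⁻¹ : W) = 1 := by
          rw [← map_mul]; simp
        have hu0 : algebraMap W L (↑u : W) ≠ 0 := by
          rw [Ne, map_eq_zero_iff _ hinj]; exact u.ne_zero
        rw [map_mul]
        rw [← hu] at hy₀'
        have h1 : algebraMap W L (↑u⁻¹ : W) = (algebraMap W L (↑u : W))⁻¹ :=
          eq_inv_of_mul_eq_one_right hu'
        rw [h1, hy₀']
        field_simp
      · -- lower the degree
        let P' : W[X] := P.eraseLead + C y₀ * X ^ n
        have hdeg' : P'.natDegree ≤ n := by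
          refine (natDegree_add_le _ _).trans (max_le ?_ (natDegree_C_mul_X_pow_le _ _))
          have := eraseLead_natDegree_le P
          omega
        have hdecomp : P.eraseLead + C P.leadingCoeff * X ^ (n + 1) = P := by
          rw [← hdeq]; exact eraseLead_add_C_mul_X_pow P
        have hP' : aeval x P' = 0 := by
          have h1 : aeval x P.eraseLead + algebraMap W L P.leadingCoeff * x ^ (n + 1) = 0 := by
            rw [← hP]; conv_rhs => rw [← hdecomp]
            simp [map_add, map_mul, aeval_C, aeval_X]
          simp only [P', map_add, map_mul, aeval_C, map_pow, aeval_X]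
          rw [hy₀']
          rw [← h1]; ring
        have hine : i ≠ n + 1 := by
          rintro rfl
          apply hau
          have : P.coeff (n + 1) = P.leadingCoeff := by rw [← hdeq]; rfl
          rwa [← this]
        have hcoeff : P'.coeff i = P.coeff i + (if i = n then y₀ else 0) := by
          simp only [P', coeff_add, coeff_C_mul, coeff_X_pow]
          rw [eraseLead_coeff_of_ne _ (by rw [hdeq]; exact hine)]
          split_ifs <;> simp
        refine ih P' hdeg' ⟨i, ?_⟩ hP'
        rw [hcoeff]
        split_ifs
        · exact isUnit_add_of_not_isUnit hi hyu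
        · simpa using hi

/-- In a valuation ring, among the coefficients of a nonzero polynomial one divides all the
others. -/
theorem exists_coeff_dvd {A : Type*} [CommRing A] [IsDomain A] [ValuationRing A] (P : A[X])
    (s : Finset ℕ) (hs : s.Nonempty) : ∃ j ∈ s, ∀ i ∈ s, P.coeff j ∣ P.coeff i := by
  induction hs using Finset.Nonempty.cons_induction with
  | singleton a => exact ⟨a, by simp, by simp⟩
  | cons a s ha hs ih =>
    obtain ⟨j, hj, hjd⟩ := ih
    rcases ValuationRing.dvd_total (P.coeff a) (P.coeff j) with h | h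
    · refine ⟨a, by simp, fun i hi => ?_⟩
      rcases Finset.mem_cons.mp hi with rfl | hi
      · exact dvd_rfl
      · exact h.trans (hjd i hi)
    · refine ⟨j, by simp [hj], fun i hi => ?_⟩
      rcases Finset.mem_cons.mp hi with rfl | hi
      · exact h
      · exact hjd i hi

/-- A nonzero polynomial over a valuation ring is a constant times a polynomial having a
coefficient equal to one. -/
theorem exists_eq_C_mul {A : Type*} [CommRing A] [IsDomain A] [ValuationRing A] (P : A[X])
    (hP : P ≠ 0) : ∃ (c : A) (P₁ : A[X]), c ≠ 0 ∧ P = C c * P₁ ∧ ∃ j, P₁.coeff j = 1 := by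
  have hs : P.support.Nonempty := by
    rw [Finset.nonempty_iff_ne_empty, Ne, support_eq_empty]; exact hP
  obtain ⟨j, hj, hjd⟩ := exists_coeff_dvd P P.support hs
  have hc0 : P.coeff j ≠ 0 := mem_support_iff.mp hj
  have hall : ∀ i, P.coeff j ∣ P.coeff i := by
    intro i
    by_cases hi : i ∈ P.support
    · exact hjd i hi
    · rw [notMem_support_iff.mp hi]; exact dvd_zero _
  obtain ⟨P₁, hP₁⟩ := (C_dvd_iff_dvd_coeff _ _).mpr hall
  refine ⟨P.coeff j, P₁, hc0, hP₁, j, ?_⟩
  have : P.coeff j = P.coeff j * P₁.coeff j := by
    conv_lhs => rw [hP₁, coeff_C_mul]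
  have h2 : P.coeff j * 1 = P.coeff j * P₁.coeff j := by rw [mul_one]; exact this
  exact (mul_left_cancel₀ hc0 h2).symm

/-- An integrally closed local domain containing a valuation ring over which its fraction field is
algebraic is a valuation ring. -/
theorem valuationRing_of_isAlgebraic {A W L : Type*} [CommRing A] [IsDomain A] [ValuationRing A]
    [CommRing W] [IsDomain W] [IsLocalRing W] [IsIntegrallyClosed W] [Algebra A W]
    [Field L] [Algebra W L] [IsFractionRing W L] [Algebra A L] [IsScalarTower A W L]
    (hinj : Function.Injective (algebraMap A W)) (halg : ∀ x : L, IsAlgebraic A x) :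
    ValuationRing W := by
  rw [ValuationRing.iff_isInteger_or_isInteger W L]
  intro x
  have hinjL : Function.Injective (algebraMap A L) := by
    rw [IsScalarTower.algebraMap_eq A W L]
    exact (IsFractionRing.injective W L).comp hinj
  obtain ⟨P, hP0, hPx⟩ := halg x
  obtain ⟨c, P₁, hc, hPeq, j, hj⟩ := exists_eq_C_mul P hP0
  have hP₁x : aeval x P₁ = 0 := by
    rw [hPeq, map_mul, aeval_C] at hPx
    rcases mul_eq_zero.mp hPx with h | h
    · exact absurd ((map_eq_zero_iff _ hinjL).mp h) hc
    · exact h
  have hQ : aeval x (P₁.map (algebraMap A W)) = 0 := by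
    rw [aeval_map_algebraMap]; exact hP₁x
  have := mem_or_inv_mem (W := W) (L := L) x _ (P₁.map (algebraMap A W)) le_rfl
    ⟨j, by rw [coeff_map, hj, map_one]; exact isUnit_one⟩ hQ
  rcases this with ⟨w, hw⟩ | ⟨w, hw⟩
  · exact Or.inl ⟨w, hw⟩
  · exact Or.inr ⟨w, hw⟩

theorem isAlgebraic_of_gen {A W L : Type*} [CommRing A] [IsDomain A]
    [CommRing W] [IsDomain W] [Algebra A W]
    [Field L] [Algebra W L] [IsFractionRing W L] [Algebra A L] [IsScalarTower A W L]
    (β : W) (f₀ : A[X]) (hmonic : f₀.Monic) (hroot : aeval β f₀ = 0)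
    (hgen : ∀ w : W, ∃ p q : A[X], IsUnit (aeval β q) ∧ w * aeval β q = aeval β p) :
    ∀ x : L, IsAlgebraic A x := by
  have hinjW : Function.Injective (algebraMap W L) := IsFractionRing.injective W L
  let S : Subalgebra A L := Subalgebra.algebraicClosure A L
  have hβint : IsIntegral A (algebraMap W L β) := by
    refine ⟨f₀, hmonic, ?_⟩
    rw [← aeval_def, aeval_algebraMap_apply, hroot, map_zero]
  have hβ : algebraMap W L β ∈ S := hβint.isAlgebraic
  have hpoly : ∀ p : A[X], algebraMap W L (aeval β p) ∈ S := by
    intro p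
    rw [← aeval_algebraMap_apply]
    have := Subalgebra.aeval_coe S ⟨algebraMap W L β, hβ⟩ p
    simp only at this
    rw [this]
    exact (aeval (⟨algebraMap W L β, hβ⟩ : S) p).2
  have hinv : ∀ y : L, y ∈ S → y⁻¹ ∈ S := by
    intro y hy
    exact IsAlgebraic.inv_iff.mpr hy
  have hW : ∀ w : W, algebraMap W L w ∈ S := by
    intro w
    obtain ⟨p, q, hq, hw⟩ := hgen w
    have hq0 : algebraMap W L (aeval β q) ≠ 0 := by
      rw [Ne, map_eq_zero_iff _ hinjW]; exact hq.ne_zero
    have : algebraMap W L w = algebraMap W L (aeval β p) * (algebraMap W L (aeval β q))⁻¹ := by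
      rw [← hw, map_mul]; field_simp
    rw [this]
    exact S.mul_mem (hpoly p) (hinv _ (hpoly q))
  intro x
  obtain ⟨a, b, hb, rfl⟩ := IsFractionRing.div_surjective W x
  show _ ∈ S
  rw [div_eq_mul_inv]
  exact S.mul_mem (hW a) (hinv _ (hW b))

end Groth.Agent.Lib.Helper8.VE1
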