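import Mathlib
set_option backward.isDefEq.respectTransparency.types false
set_option synthInstance.maxHeartbeats 400000
set_option autoImplicit false
set_option linter.unusedSectionVars false
set_option linter.style.haveILetI false

namespace Groth.Agent.Lib.Helper8.VE2

open Finset

section ordered
variable {Γ : Type*} [LinearOrderedCommGroupWithZero Γ] {σ : Type*}

theorem pow_card_lt_prod (U : Finset σ) (hU : U.Nonempty) (g : σ → Γ) (c : Γ)
    (h : ∀ j ∈ U, c < g j) : c ^ U.card < ∏ j ∈ U, g j := by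
  induction hU using Finset.Nonempty.cons_induction with
  | singleton a => simpa using h a (by simp)
  | cons a s ha hs ih =>
    rw [Finset.card_cons, Finset.prod_cons, pow_succ']
    exact mul_lt_mul'' (h a (by simp)) (ih fun j hj => h j (by simp [hj])) zero_le zero_le

theorem prod_lt_pow_card (U : Finset σ) (hU : U.Nonempty) (g : σ → Γ) (c : Γ)
    (h : ∀ j ∈ U, g j < c) : ∏ j ∈ U, g j < c ^ U.card := by
  induction hU using Finset.Nonempty.cons_induction with
  | singleton a => simpa using h a (by simp)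
  | cons a s ha hs ih =>
    rw [Finset.card_cons, Finset.prod_cons, pow_succ']
    exact mul_lt_mul'' (h a (by simp)) (ih fun j hj => h j (by simp [hj])) zero_le zero_le

/-- comparison of products over two finsets of the same cardinality -/
theorem prod_lt_prod_of_card_eq [DecidableEq σ] (g : σ → Γ) (c : Γ) (S t : Finset σ)
    (hcard : t.card = S.card) (hne : t ≠ S)
    (hS : ∀ j ∈ S, c ≤ g j) (hS0 : c ≠ 0) (ht : ∀ i ∈ t, i ∉ S → g i ≤ c)
    (hstrict : (∀ j ∈ S, c < g j) ∨ (∀ i ∈ t, i ∉ S → g i < c)) :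
    ∏ i ∈ t, g i < ∏ i ∈ S, g i := by
  have hc0 : 0 < c := zero_lt_iff.mpr hS0
  have h1 : (∏ i ∈ t ∩ S, g i) * ∏ i ∈ t \ S, g i = ∏ i ∈ t, g i :=
    Finset.prod_inter_mul_prod_sdiff t S g
  have h2 : (∏ i ∈ S ∩ t, g i) * ∏ i ∈ S \ t, g i = ∏ i ∈ S, g i :=
    Finset.prod_inter_mul_prod_sdiff S t g
  rw [Finset.inter_comm] at h2
  have hcd : (t \ S).card = (S \ t).card := Finset.card_sdiff_comm hcard
  have hne1 : (S \ t).Nonempty := by
    rw [Finset.nonempty_iff_ne_empty]
    intro h
    have hsub : S ⊆ t := Finset.sdiff_eq_empty_iff_subset.mp h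
    exact hne (Finset.eq_of_subset_of_card_le hsub hcard.le).symm
  have hne2 : (t \ S).Nonempty := by
    rw [← Finset.card_pos, hcd, Finset.card_pos]; exact hne1
  have hD : 0 < ∏ i ∈ t ∩ S, g i := by
    rw [zero_lt_iff, Finset.prod_ne_zero_iff]
    intro i hi
    have := hS i (Finset.mem_inter.mp hi).2
    exact (zero_lt_iff.mp (hc0.trans_le this))
  have hmain : ∏ i ∈ t \ S, g i < ∏ i ∈ S \ t, g i := by
    rcases hstrict with hs | hs
    · calc ∏ i ∈ t \ S, g i ≤ c ^ (t \ S).card :=
            Finset.prod_le_pow_card _ _ _ fun i hi =>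
              ht i (Finset.mem_sdiff.mp hi).1 (Finset.mem_sdiff.mp hi).2
        _ = c ^ (S \ t).card := by rw [hcd]
        _ < ∏ i ∈ S \ t, g i :=
            pow_card_lt_prod _ hne1 g c fun j hj => hs j (Finset.mem_sdiff.mp hj).1
    · calc ∏ i ∈ t \ S, g i < c ^ (t \ S).card :=
            prod_lt_pow_card _ hne2 g c fun i hi =>
              hs i (Finset.mem_sdiff.mp hi).1 (Finset.mem_sdiff.mp hi).2
        _ = c ^ (S \ t).card := by rw [hcd]
        _ ≤ ∏ i ∈ S \ t, g i :=
            Finset.pow_card_le_prod _ _ _ fun j hj => hS j (Finset.mem_sdiff.mp hj).1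
  rw [← h1, ← h2]
  exact mul_lt_mul_of_pos_left hmain hD

end ordered

section val
variable {N Γ : Type*} [Field N] [LinearOrderedCommGroupWithZero Γ] (v : Valuation N Γ)
  {σ : Type*} [Fintype σ] [DecidableEq σ]

/-- a sum with a strictly dominant term -/
theorem map_sum_eq_of_dominant {ι : Type*} [DecidableEq ι] (F : Finset ι) (f : ι → N) (t₀ : ι)
    (ht₀ : t₀ ∈ F) (h0 : v (f t₀) ≠ 0) (h : ∀ t ∈ F, t ≠ t₀ → v (f t) < v (f t₀)) :
    v (∑ t ∈ F, f t) = v (f t₀) := by
  rw [← Finset.add_sum_erase F f ht₀]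
  apply Valuation.map_add_eq_of_lt_left
  apply Valuation.map_sum_lt v h0
  intro t ht
  exact h t (Finset.mem_of_mem_erase ht) (Finset.ne_of_mem_erase ht)

/-- Newton polygon lemma: if one root has a valuation different from that of all the others, then
its valuation is the quotient of the valuations of two consecutive elementary symmetric
functions. -/
theorem newton (ρ : σ → N) (i₀ : σ) (h0 : ρ i₀ ≠ 0)
    (hsep : ∀ i, i ≠ i₀ → v (ρ i) ≠ v (ρ i₀)) :
    ∃ s : ℕ, s + 1 ≤ Fintype.card σ ∧
      v (∑ t ∈ Finset.powersetCard s Finset.univ, ∏ i ∈ t, ρ i) ≠ 0 ∧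
      v (∑ t ∈ Finset.powersetCard (s + 1) Finset.univ, ∏ i ∈ t, ρ i) =
        v (ρ i₀) * v (∑ t ∈ Finset.powersetCard s Finset.univ, ∏ i ∈ t, ρ i) := by
  set c : Γ := v (ρ i₀) with hc
  have hc0 : c ≠ 0 := (Valuation.ne_zero_iff v).mpr h0
  set g : σ → Γ := fun i => v (ρ i) with hg
  set S : Finset σ := Finset.univ.filter fun i => c < g i with hS
  have hi₀S : i₀ ∉ S := by simp [hS, hg, hc]
  set T : Finset σ := insert i₀ S with hT
  have hTcard : T.card = S.card + 1 := Finset.card_insert_of_notMem hi₀S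
  have hvprod : ∀ t : Finset σ, v (∏ i ∈ t, ρ i) = ∏ i ∈ t, g i := fun t => map_prod v _ _
  have hSmem : ∀ j, j ∈ S ↔ c < g j := by intro j; simp [hS]
  -- the S-term is nonzero
  have hS0 : ∏ i ∈ S, g i ≠ 0 := by
    rw [Finset.prod_ne_zero_iff]
    intro i hi
    exact (zero_lt_iff.mp ((zero_lt_iff.mpr hc0).trans ((hSmem i).mp hi)))
  have hes : v (∑ t ∈ Finset.powersetCard S.card Finset.univ, ∏ i ∈ t, ρ i) = ∏ i ∈ S, g i := by
    rw [map_sum_eq_of_dominant v _ (fun t => ∏ i ∈ t, ρ i) S
      (by simp [Finset.mem_powersetCard]) (by rw [hvprod]; exact hS0)]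
    · exact hvprod S
    · intro t ht hne
      rw [hvprod, hvprod]
      have htc : t.card = S.card := (Finset.mem_powersetCard.mp ht).2
      exact prod_lt_prod_of_card_eq g c S t htc hne (fun j hj => ((hSmem j).mp hj).le) hc0
        (fun i _ hiS => not_lt.mp fun h => hiS ((hSmem i).mpr h))
        (Or.inl fun j hj => (hSmem j).mp hj)
  have hT0 : ∏ i ∈ T, g i = c * ∏ i ∈ S, g i := by
    rw [hT, Finset.prod_insert hi₀S]
  have hes1 : v (∑ t ∈ Finset.powersetCard (S.card + 1) Finset.univ, ∏ i ∈ t, ρ i) =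
      ∏ i ∈ T, g i := by
    rw [map_sum_eq_of_dominant v _ (fun t => ∏ i ∈ t, ρ i) T
      (by simp [Finset.mem_powersetCard, hTcard])
      (by rw [hvprod, hT0]; exact mul_ne_zero hc0 hS0)]
    · exact hvprod T
    · intro t ht hne
      rw [hvprod, hvprod]
      have htc : t.card = T.card := by rw [hTcard]; exact (Finset.mem_powersetCard.mp ht).2
      refine prod_lt_prod_of_card_eq g c T t htc hne ?_ hc0 ?_ (Or.inr ?_)
      · intro j hj
        rcases Finset.mem_insert.mp hj with rfl | hj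
        · exact le_rfl
        · exact ((hSmem j).mp hj).le
      · intro i _ hiT
        have hiS : i ∉ S := fun h => hiT (Finset.mem_insert_of_mem h)
        exact not_lt.mp fun h => hiS ((hSmem i).mpr h)
      · intro i _ hiT
        have hiS : i ∉ S := fun h => hiT (Finset.mem_insert_of_mem h)
        have hne0 : i ≠ i₀ := fun h => hiT (h ▸ Finset.mem_insert_self _ _)
        have hle : g i ≤ c := not_lt.mp fun h => hiS ((hSmem i).mpr h)
        exact lt_of_le_of_ne hle (hsep i hne0)
  refine ⟨S.card, ?_, ?_, ?_⟩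
  · rw [← hTcard]; exact Finset.card_le_univ T
  · rw [hes]; exact hS0
  · rw [hes1, hes, hT0]

end val

end Groth.Agent.Lib.Helper8.VE2
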