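import Mathlib
set_option backward.isDefEq.respectTransparency.types false
set_option synthInstance.maxHeartbeats 400000
set_option autoImplicit false
set_option linter.unusedSectionVars false
set_option linter.style.haveILetI false

namespace Groth.Agent.Lib.Helper8.VE3

open Polynomial Finset

variable {R N : Type*} [CommRing R] [CommRing N] [Algebra R N] {σ : Type*} [Fintype σ]
  [DecidableEq σ]

/-- values of elementary symmetric functions at the roots are (images of) coefficients -/
theorem esymm_roots_mem (f₀ : R[X]) (b : σ → N)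
    (hsplit : f₀.map (algebraMap R N) = ∏ i : σ, (X - C (b i))) (m : ℕ) :
    ∃ c : R, algebraMap R N c = MvPolynomial.aeval b (MvPolynomial.esymm σ R m) := by
  rw [MvPolynomial.aeval_esymm_eq_multiset_esymm]
  set s : Multiset N := Finset.univ.val.map b with hs
  have hcard : Multiset.card s = Fintype.card σ := by simp [hs]
  have hprod : f₀.map (algebraMap R N) = (s.map fun t => X - C t).prod := by
    rw [hsplit, hs, Multiset.map_map]; rfl
  by_cases hm : m ≤ Fintype.card σ
  · refine ⟨(-1) ^ m * f₀.coeff (Fintype.card σ - m), ?_⟩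
    have h := Multiset.prod_X_sub_C_coeff s (k := Fintype.card σ - m) (by rw [hcard]; omega)
    rw [← hprod, coeff_map, hcard] at h
    have h2 : Fintype.card σ - (Fintype.card σ - m) = m := by omega
    rw [h2] at h
    rw [map_mul, map_pow, map_neg, map_one, h, ← mul_assoc, ← pow_add, ← two_mul,
      pow_mul, neg_one_sq, one_pow, one_mul]
  · refine ⟨0, ?_⟩
    rw [map_zero]
    symm
    unfold Multiset.esymm
    rw [Multiset.powersetCard_eq_empty _ (by rw [hcard]; omega)]
    simp

/-- the elementary symmetric functions of the values `H(b i)` at the roots `b i` of a split monic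
polynomial `f₀` over `R` lie in (the image of) `R`. -/
theorem esymm_aeval_mem (f₀ : R[X]) (b : σ → N)
    (hsplit : f₀.map (algebraMap R N) = ∏ i : σ, (X - C (b i))) (H : R[X]) (k : ℕ) :
    ∃ c : R, algebraMap R N c =
      ∑ t ∈ Finset.powersetCard k Finset.univ, ∏ i ∈ t, aeval (b i) H := by
  classical
  let g : σ → MvPolynomial σ R := fun i => aeval (MvPolynomial.X i) H
  let p : MvPolynomial σ R := MvPolynomial.aeval g (MvPolynomial.esymm σ R k)
  have hpsym : p.IsSymmetric := by
    intro e
    have h1 : ∀ i, MvPolynomial.rename e (g i) = g (e i) := by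
      intro i
      show MvPolynomial.rename e (aeval (MvPolynomial.X i) H) = _
      rw [← Polynomial.aeval_algHom_apply, MvPolynomial.rename_X]
    show MvPolynomial.rename e (MvPolynomial.aeval g (MvPolynomial.esymm σ R k)) = _
    rw [← AlgHom.comp_apply, MvPolynomial.comp_aeval]
    have h2 : (fun i => MvPolynomial.rename e (g i)) = g ∘ e := funext h1
    rw [h2, ← MvPolynomial.aeval_rename, MvPolynomial.esymm_isSymmetric σ R k e]
  obtain ⟨q, hq⟩ := MvPolynomial.esymmAlgHom_surjective (σ := σ) R (n := Fintype.card σ) le_rfl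
    ⟨p, hpsym⟩
  have hq' : p = MvPolynomial.aeval (fun i : Fin (Fintype.card σ) =>
      MvPolynomial.esymm σ R (i + 1)) q := by
    rw [← MvPolynomial.esymmAlgHom_apply, hq]
  choose c hc using fun m => esymm_roots_mem f₀ b hsplit m
  have hpb : MvPolynomial.aeval b p =
      ∑ t ∈ Finset.powersetCard k Finset.univ, ∏ i ∈ t, aeval (b i) H := by
    show MvPolynomial.aeval b (MvPolynomial.aeval g (MvPolynomial.esymm σ R k)) = _
    rw [← AlgHom.comp_apply, MvPolynomial.comp_aeval]
    unfold MvPolynomial.esymm
    rw [map_sum]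
    refine Finset.sum_congr rfl fun t _ => ?_
    rw [map_prod]
    refine Finset.prod_congr rfl fun i _ => ?_
    rw [MvPolynomial.aeval_X]
    show MvPolynomial.aeval b (aeval (MvPolynomial.X i) H) = _
    rw [← Polynomial.aeval_algHom_apply, MvPolynomial.aeval_X]
  refine ⟨MvPolynomial.eval (fun i : Fin (Fintype.card σ) => c ((i : ℕ) + 1)) q, ?_⟩
  rw [← hpb, hq', ← AlgHom.comp_apply, MvPolynomial.comp_aeval]
  have : (fun i : Fin (Fintype.card σ) => MvPolynomial.aeval b (MvPolynomial.esymm σ R (i + 1))) =
      fun i : Fin (Fintype.card σ) => algebraMap R N (c ((i : ℕ) + 1)) :=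
    funext fun i => (hc _).symm
  rw [this]
  rw [MvPolynomial.aeval_def, MvPolynomial.eval, ]
  simp only [MvPolynomial.coe_eval₂Hom]
  rw [MvPolynomial.eval₂_comp_left (algebraMap R N)]
  simp
  rfl

end Groth.Agent.Lib.Helper8.VE3
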