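import Mathlib
import Groth.Agent.Lib.Helper8.VE1
set_option backward.isDefEq.respectTransparency.types false
set_option synthInstance.maxHeartbeats 400000
set_option autoImplicit false
set_option linter.unusedSectionVars false
set_option linter.style.haveILetI false

namespace Groth.Agent.Lib.Helper8.VE4

open Polynomial

section general
variable {N Γ : Type*} [Field N] [LinearOrderedCommGroupWithZero Γ] (v : Valuation N Γ)
variable {R : Type*} [CommRing R] [Algebra R N]

/-- the coefficient map into the ring of integers -/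
noncomputable def toInt (hR : ∀ c : R, v (algebraMap R N c) ≤ 1) : R →+* v.integer :=
  (algebraMap R N).codRestrict v.integer fun c => (Valuation.mem_integer_iff v _).mpr (hR c)

theorem coe_eval₂_toInt (hR : ∀ c : R, v (algebraMap R N c) ≤ 1) (r : R[X]) (x : v.integer) :
    ((eval₂ (toInt v hR) x r : v.integer) : N) = aeval (x : N) r := by
  have h := Polynomial.hom_eval₂ r (toInt v hR) v.integer.subtype x
  rw [aeval_def]
  exact h

theorem map_aeval_le_one (hR : ∀ c : R, v (algebraMap R N c) ≤ 1) (r : R[X]) {x : N}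
    (hx : v x ≤ 1) : v (aeval x r) ≤ 1 := by
  have := coe_eval₂_toInt v hR r ⟨x, (Valuation.mem_integer_iff v _).mpr hx⟩
  rw [← this]
  exact (Valuation.mem_integer_iff v _).mp (Subtype.property _)

theorem map_aeval_sub_le (hR : ∀ c : R, v (algebraMap R N c) ≤ 1) (r : R[X]) {x y : N}
    (hx : v x ≤ 1) (hy : v y ≤ 1) : v (aeval x r - aeval y r) ≤ v (x - y) := by
  set x' : v.integer := ⟨x, (Valuation.mem_integer_iff v _).mpr hx⟩
  set y' : v.integer := ⟨y, (Valuation.mem_integer_iff v _).mpr hy⟩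
  obtain ⟨q, hq⟩ := Polynomial.sub_dvd_eval_sub x' y' (r.map (toInt v hR))
  rw [eval_map, eval_map] at hq
  have h1 := coe_eval₂_toInt v hR r x'
  have h2 := coe_eval₂_toInt v hR r y'
  have h3 : aeval x r - aeval y r = (x - y) * (q : N) := by
    have := congrArg (fun z : v.integer => (z : N)) hq
    push_cast at this
    rw [h1, h2] at this
    exact this
  rw [h3, map_mul]
  have hq1 : v (q : N) ≤ 1 := (Valuation.mem_integer_iff v _).mp q.2
  calc v (x - y) * v (q : N) ≤ v (x - y) * 1 := by gcongr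
    _ = v (x - y) := mul_one _

theorem le_one_of_monic_root (hR : ∀ c : R, v (algebraMap R N c) ≤ 1) (P : R[X]) (hP : P.Monic)
    {x : N} (hx : aeval x P = 0) : v x ≤ 1 := by
  have hint : IsIntegral v.integer x := by
    refine ⟨P.map (toInt v hR), hP.map _, ?_⟩
    rw [eval₂_map]
    rw [aeval_def] at hx
    exact hx
  exact (Valuation.integer.integers v).isIntegral_iff_v_le_one.mp hint

theorem map_eq_one_of_isUnit (hR : ∀ c : R, v (algebraMap R N c) ≤ 1) {u : R} (hu : IsUnit u) :
    v (algebraMap R N u) = 1 := by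
  obtain ⟨u, rfl⟩ := hu
  have h1 := hR (↑u)
  have h2 := hR (↑u⁻¹)
  have h3 : v (algebraMap R N ↑u) * v (algebraMap R N ↑u⁻¹) = 1 := by
    rw [← map_mul, ← map_mul]; simp
  by_contra hne
  have hlt : v (algebraMap R N ↑u) < 1 := lt_of_le_of_ne h1 hne
  have : v (algebraMap R N ↑u) * v (algebraMap R N ↑u⁻¹) < 1 := by
    calc v (algebraMap R N ↑u) * v (algebraMap R N ↑u⁻¹) ≤ v (algebraMap R N ↑u) * 1 := by gcongr
      _ = v (algebraMap R N ↑u) := mul_one _
      _ < 1 := hlt
  rw [h3] at this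
  exact lt_irrefl _ this

end general


section main
variable {A N Γ : Type*} [CommRing A] [IsDomain A] [ValuationRing A] [Field N]
  [Algebra A N] [LinearOrderedCommGroupWithZero Γ] (v : Valuation N Γ)

/-- units criterion below the minimal degree -/
theorem map_aeval_eq_one_of_minimal
    (hA1 : ∀ a : A, v (algebraMap A N a) ≤ 1) (hA2 : ∀ a : A, ¬ IsUnit a → v (algebraMap A N a) < 1)
    (β : N) (hβ : v β ≤ 1) (d : ℕ)
    (hmin : ∀ ψ : A[X], ψ.Monic → ψ.natDegree < d → v (aeval β ψ) = 1) :
    ∀ (n : ℕ) (r : A[X]), r.natDegree ≤ n → n < d → (∃ i, IsUnit (r.coeff i)) →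
      v (aeval β r) = 1 := by
  intro n
  induction n with
  | zero =>
    intro r hdeg _ ⟨i, hi⟩
    have hC : r = C (r.coeff 0) := eq_C_of_natDegree_le_zero hdeg
    have hi0 : i = 0 := by
      by_contra hne
      have : r.coeff i = 0 := by rw [hC, coeff_C]; simp [hne]
      rw [this] at hi
      exact not_isUnit_zero hi
    subst hi0
    rw [hC, aeval_C]
    exact map_eq_one_of_isUnit v hA1 hi
  | succ n ih =>
    intro r hdeg hnd ⟨i, hi⟩
    by_cases hdn : r.natDegree ≤ n
    · exact ih r hdn (by omega) ⟨i, hi⟩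
    have hdeq : r.natDegree = n + 1 := by omega
    by_cases hau : IsUnit r.leadingCoeff
    · obtain ⟨u, hu⟩ := hau
      have hu0 : (↑u⁻¹ : A) ≠ 0 := (u⁻¹).ne_zero
      have hmonic : (C (↑u⁻¹ : A) * r).Monic := by
        have : (C (↑u⁻¹ : A) * r).leadingCoeff = 1 := by
          rw [leadingCoeff_mul, leadingCoeff_C, ← hu]; simp
        exact this
      have hnat : (C (↑u⁻¹ : A) * r).natDegree = n + 1 := by
        rw [natDegree_C_mul hu0, hdeq]
      have h1 := hmin _ hmonic (by rw [hnat]; exact hnd)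
      rw [map_mul, aeval_C, map_mul, map_eq_one_of_isUnit v hA1 (u⁻¹).isUnit, one_mul] at h1
      exact h1
    · have hdecomp : r.eraseLead + C r.leadingCoeff * X ^ (n + 1) = r := by
        rw [← hdeq]; exact eraseLead_add_C_mul_X_pow r
      have hine : i ≠ n + 1 := by
        rintro rfl
        apply hau
        have : r.coeff (n + 1) = r.leadingCoeff := by rw [← hdeq]; rfl
        rwa [← this]
      have herase : v (aeval β r.eraseLead) = 1 := by
        refine ih r.eraseLead ?_ (by omega) ⟨i, ?_⟩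
        · have := eraseLead_natDegree_le r
          omega
        · rw [eraseLead_coeff_of_ne _ (by rw [hdeq]; exact hine)]; exact hi
      have hsmall : v (algebraMap A N r.leadingCoeff * β ^ (n + 1)) < 1 := by
        rw [map_mul, map_pow]
        calc v (algebraMap A N r.leadingCoeff) * v β ^ (n + 1)
            ≤ v (algebraMap A N r.leadingCoeff) * 1 := by
              gcongr
              exact pow_le_one' hβ _
          _ = v (algebraMap A N r.leadingCoeff) := mul_one _
          _ < 1 := hA2 _ hau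
      have : aeval β r = aeval β r.eraseLead + algebraMap A N r.leadingCoeff * β ^ (n + 1) := by
        conv_lhs => rw [← hdecomp]
        simp [map_add, map_mul, aeval_C, aeval_X]
      rw [this, Valuation.map_add_eq_of_lt_left v (by rw [herase]; exact hsmall), herase]

theorem exists_root_near [IsAlgClosed N]
    (hA1 : ∀ a : A, v (algebraMap A N a) ≤ 1)
    (β : N) (hβ : v β ≤ 1) (φ : A[X]) (hφ : φ.Monic) (hφv : v (aeval β φ) < 1) :
    ∃ θ : N, aeval θ φ = 0 ∧ v (β - θ) < 1 ∧ v θ ≤ 1 := by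
  have hs : (φ.map (algebraMap A N)).Splits := IsAlgClosed.splits _
  have hprod := hs.aeval_eq_prod_aroots_of_monic hφ β
  by_contra hcon
  push Not at hcon
  have hall : ∀ θ ∈ φ.aroots N, v (β - θ) = 1 := by
    intro θ hθ
    have h0 : aeval θ φ = 0 := (mem_aroots'.mp hθ).2
    have hθ1 : v θ ≤ 1 := le_one_of_monic_root v hA1 φ hφ h0
    by_contra hne
    have hle : v (β - θ) ≤ 1 := Valuation.map_sub_le v hβ hθ1
    have hlt : v (β - θ) < 1 := lt_of_le_of_ne hle hne
    exact absurd hθ1 (not_le.mpr (hcon θ h0 hlt))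
  have : v (aeval β φ) = 1 := by
    rw [hprod, map_multiset_prod, Multiset.map_map]
    apply Multiset.prod_eq_one
    intro g hg
    obtain ⟨θ, hθ, rfl⟩ := Multiset.mem_map.mp hg
    exact hall θ hθ
  rw [this] at hφv
  exact lt_irrefl _ hφv

end main


section gauss
variable {A N Γ : Type*} [CommRing A] [IsDomain A] [ValuationRing A] [Field N]
  [Algebra A N] [LinearOrderedCommGroupWithZero Γ] (v : Valuation N Γ)

/-- Gauss step: there is an integral element `θ` close to `β` such that all nonzero elements of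
`A[θ]` have their valuation in the value group of `A`. -/
theorem exists_gauss [IsAlgClosed N]
    (hA1 : ∀ a : A, v (algebraMap A N a) ≤ 1) (hA2 : ∀ a : A, ¬ IsUnit a → v (algebraMap A N a) < 1)
    (β : N) (f₀ : A[X]) (hf₀ : f₀.Monic) (hroot : aeval β f₀ = 0) :
    ∃ θ : N, v (β - θ) < 1 ∧ v θ ≤ 1 ∧
      ∀ r : A[X], aeval θ r ≠ 0 → ∃ a : A, a ≠ 0 ∧ v (aeval θ r) = v (algebraMap A N a) := by
  classical
  have hβ : v β ≤ 1 := le_one_of_monic_root v hA1 f₀ hf₀ hroot
  let Pd : ℕ → Prop := fun d => ∃ φ : A[X], φ.Monic ∧ φ.natDegree = d ∧ v (aeval β φ) < 1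
  have hex : ∃ d, Pd d := ⟨f₀.natDegree, f₀, hf₀, rfl, by rw [hroot, map_zero]; exact zero_lt_one⟩
  obtain ⟨φ, hφm, hφd, hφv⟩ := Nat.find_spec hex
  set d := Nat.find hex with hd
  have hmin : ∀ ψ : A[X], ψ.Monic → ψ.natDegree < d → v (aeval β ψ) = 1 := by
    intro ψ hψ hlt
    have hnot : ¬ Pd ψ.natDegree := Nat.find_min hex hlt
    have hle : v (aeval β ψ) ≤ 1 := map_aeval_le_one v hA1 ψ hβ
    by_contra hne
    exact hnot ⟨ψ, hψ, rfl, lt_of_le_of_ne hle hne⟩
  obtain ⟨θ, hθroot, hθnear, hθ1⟩ := exists_root_near v hA1 β hβ φ hφm hφv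
  have hφ1 : φ ≠ 1 := by
    rintro rfl
    rw [map_one, map_one] at hφv
    exact lt_irrefl _ hφv
  have hG1 := map_aeval_eq_one_of_minimal v hA1 hA2 β hβ d hmin
  have hG2 : ∀ r : A[X], r.natDegree < d → (∃ i, IsUnit (r.coeff i)) → v (aeval θ r) = 1 := by
    intro r hr hu
    have h1 : v (aeval β r) = 1 := hG1 r.natDegree r le_rfl hr hu
    have h2 : v (aeval θ r - aeval β r) < 1 :=
      lt_of_le_of_lt (map_aeval_sub_le v hA1 r hθ1 hβ)
        (by rw [Valuation.map_sub_swap]; exact hθnear)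
    have h3 : aeval θ r = (aeval θ r - aeval β r) + aeval β r := by ring
    rw [h3, Valuation.map_add_eq_of_lt_right v (by rw [h1]; exact h2), h1]
  refine ⟨θ, hθnear, hθ1, ?_⟩
  intro r hr
  have hdiv := modByMonic_add_div r φ
  have hrθ : aeval θ r = aeval θ (r %ₘ φ) := by
    conv_lhs => rw [← hdiv]
    rw [map_add, map_mul, hθroot, zero_mul, add_zero]
  have hr' : r %ₘ φ ≠ 0 := by
    intro h
    rw [h, map_zero] at hrθ
    exact hr hrθ
  have hdeg' : (r %ₘ φ).natDegree < d := by
    rw [← hφd]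
    exact natDegree_modByMonic_lt r hφm hφ1
  obtain ⟨c, r₁, hc, hreq, j, hj⟩ := VE1.exists_eq_C_mul (r %ₘ φ) hr'
  have hdeg₁ : r₁.natDegree < d := by
    have : (C c * r₁).natDegree = r₁.natDegree := natDegree_C_mul hc
    rw [hreq, this] at hdeg'
    exact hdeg'
  have h1 : v (aeval θ r₁) = 1 := hG2 r₁ hdeg₁ ⟨j, by rw [hj]; exact isUnit_one⟩
  refine ⟨c, hc, ?_⟩
  rw [hrθ, hreq, map_mul, aeval_C, map_mul, h1, mul_one]

end gauss

end Groth.Agent.Lib.Helper8.VE4
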