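import Mathlib
import Groth.Agent.Lib.Helper8.VE1
import Groth.Agent.Lib.Helper8.VE2
import Groth.Agent.Lib.Helper8.VE3
import Groth.Agent.Lib.Helper8.VE4
set_option backward.isDefEq.respectTransparency.types false
set_option synthInstance.maxHeartbeats 400000
set_option autoImplicit false
set_option linter.unusedSectionVars false
set_option linter.style.haveILetI false

namespace Groth.Agent.Lib.Helper8.VE5

open Polynomial
open Groth.Agent.Lib.Helper8.VE4

section pigeon
variable {Γ : Type*} [LinearOrderedCommGroupWithZero Γ]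

/-- pigeonhole choice of an exponent -/
theorem exists_exponent {σ : Type*} [Fintype σ] [DecidableEq σ] (i₀ : σ) (g q : σ → Γ) (γ : Γ)
    (hγ : γ ≠ 0) (hq : ∀ i, i ≠ i₀ → q i < 1) :
    ∃ m : ℕ, ∀ i, i ≠ i₀ → g i * q i ^ m ≠ γ := by
  classical
  by_contra hcon
  push Not at hcon
  choose ι hι using hcon
  have hcard : (Finset.univ.erase i₀).card < (Finset.range (Fintype.card σ)).card := by
    rw [Finset.card_erase_of_mem (Finset.mem_univ _), Finset.card_range, Finset.card_univ]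
    have : 0 < Fintype.card σ := Fintype.card_pos_iff.mpr ⟨i₀⟩
    omega
  obtain ⟨m, _, m', _, hne, heq⟩ := Finset.exists_ne_map_eq_of_card_lt_of_maps_to hcard
    (f := ι) (fun m _ => Finset.mem_erase.mpr ⟨(hι m).1, Finset.mem_univ _⟩)
  wlog hlt : m < m' generalizing m m'
  · exact this m' ‹_› m ‹_› hne.symm heq.symm (lt_of_le_of_ne (not_lt.mp hlt) hne.symm)
  have h1 := (hι m).2
  have h2 := (hι m').2
  rw [← heq] at h2
  set i := ι m with hi
  have hq1 : q i < 1 := hq i (hι m).1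
  have hg0 : g i ≠ 0 := by
    intro h
    rw [h, zero_mul] at h1
    exact hγ h1.symm
  have hpow : q i ^ m = q i ^ m' := by
    have : g i * q i ^ m = g i * q i ^ m' := h1.trans h2.symm
    exact mul_left_cancel₀ hg0 this
  obtain ⟨k, hk⟩ : ∃ k, m' = m + (k + 1) := ⟨m' - m - 1, by omega⟩
  by_cases hq0 : q i = 0
  · rw [hk, hq0, zero_pow (by omega), mul_zero] at h2
    exact hγ h2.symm
  · rw [hk, pow_add] at hpow
    have hm0 : q i ^ m ≠ 0 := pow_ne_zero _ hq0
    have h3 : q i ^ m * 1 = q i ^ m * q i ^ (k + 1) := by rw [mul_one]; exact hpow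
    have h4 : q i ^ (k + 1) = 1 := (mul_left_cancel₀ hm0 h3).symm
    have h5 : q i ^ (k + 1) < 1 := pow_lt_one₀ zero_le hq1 (by omega)
    rw [h4] at h5
    exact lt_irrefl _ h5

end pigeon


section main
variable {A N Γ : Type*} [CommRing A] [IsDomain A] [ValuationRing A] [Field N] [IsAlgClosed N]
  [Algebra A N] [LinearOrderedCommGroupWithZero Γ] (v : Valuation N Γ)

theorem main (hA1 : ∀ a : A, v (algebraMap A N a) ≤ 1)
    (hA2 : ∀ a : A, ¬ IsUnit a → v (algebraMap A N a) < 1)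
    (β : N) (f₀ : A[X]) (hf₀ : f₀.Monic) (hroot : aeval β f₀ = 0)
    (hder : v (aeval β (derivative f₀)) = 1) (p : A[X]) (hp : aeval β p ≠ 0) :
    ∃ a b : A, a ≠ 0 ∧ b ≠ 0 ∧ v (aeval β p) * v (algebraMap A N b) = v (algebraMap A N a) := by
  classical
  have hβ : v β ≤ 1 := le_one_of_monic_root v hA1 f₀ hf₀ hroot
  obtain ⟨θ, hθnear, hθ1, hgauss⟩ := exists_gauss v hA1 hA2 β f₀ hf₀ hroot
  -- the ring A₁ = A[θ]
  let A₁ : Subalgebra A N := Algebra.adjoin A {θ}
  have hA₁range : ∀ c : A₁, ∃ r : A[X], aeval θ r = (c : N) := by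
    intro c
    have : (c : N) ∈ (aeval θ : A[X] →ₐ[A] N).range := by
      rw [← Algebra.adjoin_singleton_eq_range_aeval]; exact c.2
    exact this
  have hA₁le : ∀ c : A₁, v (algebraMap A₁ N c) ≤ 1 := by
    intro c
    obtain ⟨r, hr⟩ := hA₁range c
    show v (c : N) ≤ 1
    rw [← hr]; exact map_aeval_le_one v hA1 r hθ1
  have hA₁val : ∀ c : A₁, (c : N) ≠ 0 → ∃ a : A, a ≠ 0 ∧ v (c : N) = v (algebraMap A N a) := by
    intro c hc
    obtain ⟨r, hr⟩ := hA₁range c
    rw [← hr] at hc ⊢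
    exact hgauss r hc
  let θ₁ : A₁ := ⟨θ, Algebra.subset_adjoin rfl⟩
  let f₁ : A₁[X] := f₀.map (algebraMap A A₁)
  let Q : A₁[X] := f₁ /ₘ (X - C θ₁)
  have hdivQ : C (f₁.eval θ₁) + (X - C θ₁) * Q = f₁ := by
    have := modByMonic_add_div f₁ (X - C θ₁)
    rwa [modByMonic_X_sub_C_eq_C_eval] at this
  have hevalθ : ((f₁.eval θ₁ : A₁) : N) = aeval θ f₀ := by
    have h1 : f₁.eval θ₁ = aeval θ₁ f₀ := by
      show (f₀.map (algebraMap A A₁)).eval θ₁ = _
      rw [eval_map, aeval_def]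
    rw [h1]
    exact (Subalgebra.aeval_coe A₁ θ₁ f₀).symm
  set c₀ : N := aeval θ f₀ with hc₀def
  have hc₀ : v c₀ < 1 := by
    have h1 : v (aeval θ f₀ - aeval β f₀) ≤ v (θ - β) := map_aeval_sub_le v hA1 f₀ hθ1 hβ
    rw [hroot, sub_zero, Valuation.map_sub_swap] at h1
    exact lt_of_le_of_lt h1 hθnear
  have haevalf₁ : ∀ (x : N) (r : A[X]), aeval x (r.map (algebraMap A A₁)) = aeval x r := by
    intro x r
    exact aeval_map_algebraMap A₁ x r
  have hQid : ∀ x : N, aeval x f₀ = c₀ + (x - θ) * aeval x Q := by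
    intro x
    rw [← haevalf₁ x f₀]
    show aeval x f₁ = _
    conv_lhs => rw [← hdivQ]
    rw [map_add, map_mul, map_sub, aeval_C, aeval_C, aeval_X]
    show ((f₁.eval θ₁ : A₁) : N) + (x - (θ₁ : N)) * aeval x Q = _
    rw [hevalθ]
  have hQder : aeval θ Q = aeval θ (derivative f₀) := by
    have h1 : derivative f₁ = Q + (X - C θ₁) * derivative Q := by
      conv_lhs => rw [← hdivQ]
      simp [derivative_mul]
    have h2 : aeval θ (derivative f₁) = aeval θ Q := by
      rw [h1, map_add, map_mul, map_sub, aeval_X, aeval_C]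
      show aeval θ Q + (θ - (θ₁ : N)) * _ = _
      show aeval θ Q + (θ - θ) * _ = _
      rw [sub_self, zero_mul, add_zero]
    rw [← h2]
    show aeval θ (derivative (f₀.map (algebraMap A A₁))) = _
    rw [derivative_map, haevalf₁]
  have hQβ : v (aeval β Q) = 1 := by
    have h1 : v (aeval θ (derivative f₀) - aeval β (derivative f₀)) < 1 :=
      lt_of_le_of_lt (map_aeval_sub_le v hA1 _ hθ1 hβ)
        (by rw [Valuation.map_sub_swap]; exact hθnear)
    have h2 : v (aeval θ (derivative f₀)) = 1 := by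
      have : aeval θ (derivative f₀) =
          (aeval θ (derivative f₀) - aeval β (derivative f₀)) + aeval β (derivative f₀) := by ring
      rw [this, Valuation.map_add_eq_of_lt_right v (by rw [hder]; exact h1), hder]
    have h3 : v (aeval β Q - aeval θ Q) < 1 :=
      lt_of_le_of_lt (map_aeval_sub_le v hA₁le Q hβ hθ1) hθnear
    have h2' : v (aeval θ Q) = 1 := by rw [hQder]; exact h2
    have : aeval β Q = (aeval β Q - aeval θ Q) + aeval θ Q := by ring
    rw [this, Valuation.map_add_eq_of_lt_right v (by rw [h2']; exact h3), h2']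
  -- the roots
  set ms : Multiset N := f₀.aroots N with hms
  let bσ : ms → N := fun i => (i : N)
  have hsplit : f₀.map (algebraMap A N) = ∏ i : ms, (X - C (bσ i)) := by
    have h1 := (IsAlgClosed.splits (f₀.map (algebraMap A N))).eq_prod_roots_of_monic (hf₀.map _)
    rw [Finset.prod_eq_multiset_prod]
    have h2 := Multiset.map_univ ms (fun x : N => (X - C x : N[X]))
    rw [h2]
    exact h1
  have hsplit₁ : f₁.map (algebraMap A₁ N) = ∏ i : ms, (X - C (bσ i)) := by
    rw [← hsplit]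
    show (f₀.map (algebraMap A A₁)).map (algebraMap A₁ N) = _
    rw [Polynomial.map_map, ← IsScalarTower.algebraMap_eq]
  have hβmem : β ∈ ms := mem_aroots'.mpr ⟨(hf₀.map _).ne_zero, hroot⟩
  let i₀ : ms := ms.mkToType β ⟨0, Multiset.count_pos.mpr hβmem⟩
  have hi₀ : bσ i₀ = β := rfl
  have hbroot : ∀ i : ms, aeval (bσ i) f₀ = 0 := fun i =>
    (mem_aroots'.mp (Multiset.coe_mem (x := i))).2
  have hble : ∀ i : ms, v (bσ i) ≤ 1 := fun i =>
    le_one_of_monic_root v hA1 f₀ hf₀ (hbroot i)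
  -- separation of β from the other roots
  have hsepβ : ∀ i : ms, i ≠ i₀ → v (β - bσ i) = 1 := by
    set g₁ : N[X] := ∏ i ∈ Finset.univ.erase i₀, (X - C (bσ i)) with hg₁
    have hfact : f₀.map (algebraMap A N) = (X - C β) * g₁ := by
      rw [hsplit, ← Finset.mul_prod_erase Finset.univ _ (Finset.mem_univ i₀)]
    have hd : aeval β (derivative f₀) = g₁.eval β := by
      rw [← eval_map_algebraMap, ← derivative_map, hfact]
      simp [derivative_mul]
    have hg₁eval : g₁.eval β = ∏ i ∈ Finset.univ.erase i₀, (β - bσ i) := by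
      rw [hg₁, eval_prod]
      simp
    have hprod1 : ∏ i ∈ Finset.univ.erase i₀, v (β - bσ i) = 1 := by
      rw [← map_prod, ← hg₁eval, ← hd, hder]
    have hle : ∀ i ∈ Finset.univ.erase i₀, v (β - bσ i) ≤ 1 := fun i _ =>
      Valuation.map_sub_le v hβ (hble i)
    intro i hi
    exact (Finset.prod_eq_one_iff_of_le_one' hle).mp hprod1 i
      (Finset.mem_erase.mpr ⟨hi, Finset.mem_univ _⟩)
  -- values of Q at the roots
  have hQsmall : ∀ i : ms, i ≠ i₀ → v (aeval (bσ i) Q) < 1 := by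
    intro i hi
    have h1 := hQid (bσ i)
    rw [hbroot i] at h1
    have h2 : v (bσ i - θ) = 1 := by
      have : bσ i - θ = (bσ i - β) + (β - θ) := by ring
      have h5 : v (bσ i - β) = 1 := by rw [Valuation.map_sub_swap v (bσ i) β]; exact hsepβ i hi
      rw [this, Valuation.map_add_eq_of_lt_left v (by rw [h5]; exact hθnear), h5]
    have h3 : (bσ i - θ) * aeval (bσ i) Q = -c₀ := by
      linear_combination -h1
    have h4 := congrArg v h3
    rw [map_mul, h2, one_mul, Valuation.map_neg] at h4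
    rw [h4]; exact hc₀
  -- the polynomials H m
  let p₁ : A₁[X] := p.map (algebraMap A A₁)
  have hHval : ∀ (m : ℕ) (x : N), aeval x (p₁ * Q ^ m) = aeval x p * (aeval x Q) ^ m := by
    intro m x
    rw [map_mul, map_pow]
    show aeval x (p.map (algebraMap A A₁)) * _ = _
    rw [haevalf₁]
  set γ : Γ := v (aeval β p) with hγ
  have hγ0 : γ ≠ 0 := (Valuation.ne_zero_iff v).mpr hp
  obtain ⟨m, hm⟩ := exists_exponent i₀ (fun i => v (aeval (bσ i) p))
    (fun i => v (aeval (bσ i) Q)) γ hγ0 hQsmall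
  let ρ : ms → N := fun i => aeval (bσ i) (p₁ * Q ^ m)
  have hρval : ∀ i, v (ρ i) = v (aeval (bσ i) p) * v (aeval (bσ i) Q) ^ m := by
    intro i
    show v (aeval (bσ i) (p₁ * Q ^ m)) = _
    rw [hHval, map_mul, map_pow]
  have hρ₀ : v (ρ i₀) = γ := by
    rw [hρval, hi₀, hQβ, one_pow, mul_one]
  have hρ₀ne : ρ i₀ ≠ 0 := by
    rw [← Valuation.ne_zero_iff v, hρ₀]; exact hγ0
  have hsepρ : ∀ i, i ≠ i₀ → v (ρ i) ≠ v (ρ i₀) := by
    intro i hi
    rw [hρ₀, hρval]
    exact hm i hi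
  obtain ⟨s, _, hs0, hs1⟩ := VE2.newton v ρ i₀ hρ₀ne hsepρ
  obtain ⟨cs, hcs⟩ := VE3.esymm_aeval_mem (R := A₁) f₁ bσ hsplit₁ (p₁ * Q ^ m) s
  obtain ⟨cs1, hcs1⟩ := VE3.esymm_aeval_mem (R := A₁) f₁ bσ hsplit₁ (p₁ * Q ^ m) (s + 1)
  have hcs' : (cs : N) = ∑ t ∈ Finset.powersetCard s Finset.univ, ∏ i ∈ t, ρ i := hcs
  have hcs1' : (cs1 : N) = ∑ t ∈ Finset.powersetCard (s + 1) Finset.univ, ∏ i ∈ t, ρ i := hcs1
  rw [← hcs'] at hs0 hs1
  rw [← hcs1', hρ₀] at hs1
  have hcsne : (cs : N) ≠ 0 := (Valuation.ne_zero_iff v).mp hs0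
  have hcs1ne : (cs1 : N) ≠ 0 := by
    rw [← Valuation.ne_zero_iff v, hs1]
    exact mul_ne_zero hγ0 hs0
  obtain ⟨b, hb0, hb⟩ := hA₁val cs hcsne
  obtain ⟨a, ha0, ha⟩ := hA₁val cs1 hcs1ne
  exact ⟨a, b, ha0, hb0, by rw [← hb, ← ha, hs1]⟩

end main

end Groth.Agent.Lib.Helper8.VE5
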