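import Mathlib
import Groth.Agent.Lib.Helper8.VE1
import Groth.Agent.Lib.Helper8.VE5
set_option backward.isDefEq.respectTransparency.types false
set_option synthInstance.maxHeartbeats 400000
set_option autoImplicit false
set_option linter.unusedSectionVars false
set_option linter.style.haveILetI false

namespace Groth.Agent.Lib.Helper8.VE6

open Polynomial

/-- Chevalley: a local ring mapping injectively to a field is dominated by a valuation ring. -/
theorem exists_valuation_dominating {W N : Type*} [CommRing W] [IsLocalRing W] [Field N]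
    (ι : W →+* N) (hι : Function.Injective ι) :
    ∃ V : ValuationSubring N, (∀ w, V.valuation (ι w) ≤ 1) ∧
      (∀ w, ¬ IsUnit w → V.valuation (ι w) < 1) := by
  obtain ⟨V, hle, hloc⟩ := (LocalSubring.range ι).exists_le_valuationSubring
  have hmem : ∀ w, ι w ∈ V := fun w => hle ⟨w, rfl⟩
  refine ⟨V, fun w => (V.valuation_le_one_iff _).mpr (hmem w), fun w hw => ?_⟩
  have h1 : V.valuation (ι w) ≤ 1 := (V.valuation_le_one_iff _).mpr (hmem w)
  by_contra hcon
  have h2 : V.valuation (ι w) = 1 := le_antisymm h1 (not_lt.mp hcon)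
  have h3 : IsUnit (⟨ι w, hmem w⟩ : V) := (V.valuation_eq_one_iff ⟨ι w, hmem w⟩).mpr h2
  have h4 : IsUnit (⟨ι w, ⟨w, rfl⟩⟩ : (LocalSubring.range ι).toSubring) := by
    have := hloc.map_nonunit (⟨ι w, ⟨w, rfl⟩⟩ : (LocalSubring.range ι).toSubring)
    exact this h3
  obtain ⟨⟨z, w', rfl⟩, hz⟩ := isUnit_iff_exists_inv.mp h4
  have h5 : ι w * ι w' = 1 := congrArg Subtype.val hz
  apply hw
  rw [isUnit_iff_exists_inv]
  exact ⟨w', hι (by rw [map_mul, h5, map_one])⟩


section core
universe u

theorem mul_eq_one_of_le_one {Γ : Type*} [LinearOrderedCommGroupWithZero Γ] {x y : Γ}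
    (hx : x ≤ 1) (hy : y ≤ 1) (h : x * y = 1) : x = 1 := by
  by_contra hne
  have hlt : x < 1 := lt_of_le_of_ne hx hne
  have : x * y < 1 := by
    calc x * y ≤ x * 1 := by gcongr
      _ = x := mul_one _
      _ < 1 := hlt
  rw [h] at this
  exact lt_irrefl _ this

/-- Core theorem: an integrally closed local domain `W` which is generated (up to units) over a
valuation ring `A` by a root `β` of a monic polynomial `f₀` with `f₀'(β)` a unit is a valuation ring,
and every nonzero element of `W` is a unit times an element of `A`. -/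
theorem core {A W : Type u} [CommRing A] [IsDomain A] [ValuationRing A] [CommRing W] [IsDomain W]
    [IsLocalRing W] [IsIntegrallyClosed W] [Algebra A W]
    (hinj : Function.Injective (algebraMap A W)) [IsLocalHom (algebraMap A W)]
    (β : W) (f₀ : A[X]) (hmonic : f₀.Monic) (hroot : aeval β f₀ = 0)
    (hder : IsUnit (aeval β (derivative f₀)))
    (hgen : ∀ w : W, ∃ p q : A[X], IsUnit (aeval β q) ∧ w * aeval β q = aeval β p) :
    ValuationRing W ∧ ∀ w : W, w ≠ 0 → ∃ (a : A) (u : Wˣ), w = u * algebraMap A W a := by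
  let L := FractionRing W
  have hval : ValuationRing W :=
    VE1.valuationRing_of_isAlgebraic (A := A) (W := W) (L := L) hinj
      (VE1.isAlgebraic_of_gen β f₀ hmonic hroot hgen)
  refine ⟨hval, ?_⟩
  let N := AlgebraicClosure L
  let ι : W →+* N := algebraMap W N
  have hι : Function.Injective ι := by
    have h1 : Function.Injective (algebraMap W L) := IsFractionRing.injective W L
    have h2 : Function.Injective (algebraMap L N) := (algebraMap L N).injective
    have : (algebraMap W N) = (algebraMap L N).comp (algebraMap W L) :=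
      IsScalarTower.algebraMap_eq W L N
    show Function.Injective (algebraMap W N)
    rw [this]
    exact h2.comp h1
  obtain ⟨V, hV1, hV2⟩ := exists_valuation_dominating ι hι
  set v := V.valuation with hv
  have hAN : ∀ a : A, algebraMap A N a = ι (algebraMap A W a) := fun a =>
    IsScalarTower.algebraMap_apply A W N a
  have hA1 : ∀ a : A, v (algebraMap A N a) ≤ 1 := fun a => by rw [hAN]; exact hV1 _
  have hA2 : ∀ a : A, ¬ IsUnit a → v (algebraMap A N a) < 1 := fun a ha => by
    rw [hAN]
    exact hV2 _ fun h => ha (isUnit_of_map_unit (algebraMap A W) a h)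
  have hunit : ∀ w : W, IsUnit w → v (ι w) = 1 := fun w hw =>
    VE4.map_eq_one_of_isUnit v (R := W) hV1 hw
  have haev : ∀ r : A[X], aeval (ι β) r = ι (aeval β r) := fun r =>
    aeval_algebraMap_apply N β r
  have hroot' : aeval (ι β) f₀ = 0 := by rw [haev, hroot, map_zero]
  have hder' : v (aeval (ι β) (derivative f₀)) = 1 := by rw [haev]; exact hunit _ hder
  have hANinj : Function.Injective (algebraMap A N) := by
    intro a b hab
    rw [hAN, hAN] at hab
    exact hinj (hι hab)
  intro w hw
  obtain ⟨p, q, hq, hwq⟩ := hgen w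
  have hp0 : aeval β p ≠ 0 := by
    rw [← hwq]
    exact mul_ne_zero hw hq.ne_zero
  have hp0' : aeval (ι β) p ≠ 0 := by
    rw [haev]
    intro h
    exact hp0 (hι (by rw [h, map_zero]))
  obtain ⟨a, b, ha0, hb0, hab⟩ := VE5.main v hA1 hA2 (ι β) f₀ hmonic hroot' hder' p hp0'
  have hvw : v (ι w) = v (aeval (ι β) p) := by
    rw [haev, ← hwq, map_mul, map_mul, hunit _ hq, mul_one]
  rw [← hvw] at hab
  have hvw0 : v (ι w) ≠ 0 := by
    rw [Valuation.ne_zero_iff]
    intro h
    exact hw (hι (by rw [h, map_zero]))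
  have hvb0 : v (algebraMap A N b) ≠ 0 := by
    rw [Valuation.ne_zero_iff]
    intro h
    exact hb0 (hANinj (by rw [h, map_zero]))
  have hunit_of : ∀ z : W, v (ι z) = 1 → IsUnit z := by
    intro z hz
    by_contra hnu
    have := hV2 z hnu
    rw [hz] at this
    exact lt_irrefl _ this
  rcases ValuationRing.dvd_total a b with ⟨c, hc⟩ | ⟨c, hc⟩
  · -- b = a * c
    rw [hc, map_mul, map_mul] at hab
    have hva0 : v (algebraMap A N a) ≠ 0 := by
      intro h
      rw [hc, map_mul, map_mul, h, zero_mul] at hvb0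
      exact hvb0 rfl
    have h1 : v (ι w) * v (algebraMap A N c) = 1 := by
      have : v (algebraMap A N a) * (v (ι w) * v (algebraMap A N c)) = v (algebraMap A N a) * 1 := by
        rw [mul_one, mul_left_comm]; exact hab
      exact mul_left_cancel₀ hva0 this
    have h2 : v (ι w) = 1 := mul_eq_one_of_le_one (hV1 w) (hA1 c) h1
    obtain ⟨u, hu⟩ := hunit_of w h2
    exact ⟨1, u, by rw [map_one, mul_one, hu]⟩
  · -- a = b * c
    rw [hc, map_mul, map_mul, mul_comm (v (algebraMap A N b))] at hab
    have h1 : v (ι w) = v (algebraMap A N c) := mul_right_cancel₀ hvb0 hab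
    rw [hAN] at h1
    rcases ValuationRing.dvd_total w (algebraMap A W c) with ⟨z, hz⟩ | ⟨z, hz⟩
    · -- alg c = w * z
      have h2 : v (ι z) = 1 := by
        have : v (ι w) * v (ι z) = v (ι w) * 1 := by
          rw [mul_one, ← map_mul, ← map_mul, ← hz, h1]
        exact mul_left_cancel₀ hvw0 this
      obtain ⟨u, hu⟩ := hunit_of z h2
      refine ⟨c, u⁻¹, ?_⟩
      rw [hz, ← hu]
      rw [mul_comm w, ← mul_assoc, Units.inv_mul, one_mul]
    · -- w = alg c * z
      have h2 : v (ι z) = 1 := by
        have : v (ι w) * v (ι z) = v (ι w) * 1 := by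
          rw [mul_one]
          conv_rhs => rw [hz, map_mul, map_mul, ← h1]
        exact mul_left_cancel₀ hvw0 this
      obtain ⟨u, hu⟩ := hunit_of z h2
      exact ⟨c, u, by rw [hz, hu, mul_comm]⟩

end core

end Groth.Agent.Lib.Helper8.VE6
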