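import Mathlib
import Groth.Agent.Lib.Helper24.EtaleNormal
import Groth.Agent.Lib.Helper8.VE6
set_option backward.isDefEq.respectTransparency.types false
set_option synthInstance.maxHeartbeats 400000
set_option autoImplicit false
set_option linter.unusedSectionVars false
set_option linter.style.haveILetI false

namespace Groth.Agent.Lib.Helper8.VE7

open Polynomial

universe u

/-- generation statement for localizations of (localizations of) standard étale algebras -/
theorem exists_presentation_data (A B : Type u) [CommRing A]
    [CommRing B] [Algebra A B] [Algebra.Etale A B] (m : Ideal B) [m.IsPrime] :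
    ∃ (β : Localization.AtPrime m) (f₀ : A[X]), f₀.Monic ∧ aeval β f₀ = 0 ∧
      IsUnit (aeval β (derivative f₀)) ∧
      ∀ w : Localization.AtPrime m, ∃ p q : A[X], IsUnit (aeval β q) ∧
        w * aeval β q = aeval β p := by
  let W := Localization.AtPrime m
  have : Algebra.FormallyEtale B W := Algebra.FormallyEtale.of_isLocalization m.primeCompl
  have : Algebra.FormallyEtale A W := .comp A B W
  have hEt : Algebra.IsEtaleAt A m := this
  obtain ⟨g₀, hg₀, hstd⟩ := Algebra.IsEtaleAt.exists_isStandardEtale (R := A) m
  obtain ⟨P⟩ := hstd.nonempty_standardEtalePresentation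
  let B' := Localization.Away g₀
  have hunits : ∀ y : Submonoid.powers g₀, IsUnit ((IsScalarTower.toAlgHom A B W) y) := by
    rintro ⟨_, k, rfl⟩
    have hk : g₀ ^ k ∈ m.primeCompl := fun h => hg₀ (Ideal.IsPrime.mem_of_pow_mem ‹_› k h)
    exact IsLocalization.map_units W ⟨g₀ ^ k, hk⟩
  let φ : B' →ₐ[A] W := IsLocalization.liftAlgHom (M := Submonoid.powers g₀)
    (f := IsScalarTower.toAlgHom A B W) hunits
  have hφ : ∀ b : B, φ (algebraMap B B' b) = algebraMap B W b := by
    intro b
    simp [φ]
  refine ⟨φ P.x, P.f, P.monic_f, ?_, ?_, ?_⟩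
  · rw [aeval_algHom_apply, P.hasMap.1, map_zero]
  · rw [aeval_algHom_apply]
    exact (P.hasMap.isUnit_derivative_f).map φ
  · intro w
    obtain ⟨b, s, rfl⟩ := IsLocalization.exists_mk'_eq m.primeCompl w
    obtain ⟨pb, nb, hpb⟩ := P.exists_mul_aeval_x_g_pow_eq_aeval_x (algebraMap B B' b)
    obtain ⟨ps, ns, hps⟩ := P.exists_mul_aeval_x_g_pow_eq_aeval_x (algebraMap B B' (s : B))
    have hpb' := congrArg φ hpb
    have hps' := congrArg φ hps
    rw [map_mul, map_pow, hφ, ← aeval_algHom_apply, ← aeval_algHom_apply] at hpb' hps'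
    set G : W := aeval (φ P.x) P.g with hG
    have hGu : IsUnit G := by
      rw [hG, aeval_algHom_apply]
      exact P.hasMap.2.map φ
    have hsu : IsUnit (algebraMap B W (s : B)) := IsLocalization.map_units W s
    refine ⟨pb * P.g ^ ns, ps * P.g ^ nb, ?_, ?_⟩
    · rw [map_mul, map_pow, ← hps']
      exact (hsu.mul (hGu.pow _)).mul (hGu.pow _)
    · rw [map_mul, map_pow, map_mul, map_pow, ← hps', ← hpb']
      have hspec : IsLocalization.mk' W b s * algebraMap B W (s : B) = algebraMap B W b :=
        IsLocalization.mk'_spec W b s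
      rw [← hspec]
      ring


theorem main1963 (A B : Type u) [CommRing A] [IsDomain A] [ValuationRing A]
    [CommRing B] [Algebra A B] [Algebra.Etale A B] (m : Ideal B) [m.IsPrime]
    (hm : m.comap (algebraMap A B) = IsLocalRing.maximalIdeal A) :
    IsDomain (Localization.AtPrime m) ∧
    (∀ _ : IsDomain (Localization.AtPrime m), ValuationRing (Localization.AtPrime m)) ∧
    Function.Injective (algebraMap A (Localization.AtPrime m)) ∧
    IsLocalHom (algebraMap A (Localization.AtPrime m)) ∧
    ∀ b : Localization.AtPrime m, b ≠ 0 → ∃ (a : A) (u : (Localization.AtPrime m)ˣ),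
      b = u * algebraMap A (Localization.AtPrime m) a := by
  obtain ⟨hdom, hic⟩ :=
    Groth.Agent.Lib.Helper24.ENorm.isDomain_and_isIntegrallyClosed_localization_of_etale A B m
  have hflatB : Module.Flat B (Localization.AtPrime m) := IsLocalization.flat _ m.primeCompl
  have hflat : Module.Flat A (Localization.AtPrime m) := Module.Flat.trans A B _
  have hinj : Function.Injective (algebraMap A (Localization.AtPrime m)) :=
    FaithfulSMul.algebraMap_injective A (Localization.AtPrime m)
  have hloc : IsLocalHom (algebraMap A (Localization.AtPrime m)) := by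
    constructor
    intro a ha
    by_contra hnu
    have h1 : a ∈ IsLocalRing.maximalIdeal A := (IsLocalRing.mem_maximalIdeal a).mpr hnu
    rw [← hm, Ideal.mem_comap] at h1
    have h2 : algebraMap B (Localization.AtPrime m) (algebraMap A B a) ∈
        IsLocalRing.maximalIdeal (Localization.AtPrime m) := by
      rw [← Localization.AtPrime.map_eq_maximalIdeal]
      exact Ideal.mem_map_of_mem _ h1
    rw [← IsScalarTower.algebraMap_apply] at h2
    exact (IsLocalRing.mem_maximalIdeal _).mp h2 ha
  obtain ⟨β, f₀, hmonic, hroot, hder, hgen⟩ := exists_presentation_data A B m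
  obtain ⟨hval, hunit⟩ := VE6.core (A := A) (W := Localization.AtPrime m) hinj β f₀ hmonic hroot
    hder hgen
  exact ⟨hdom, fun _ => hval, hinj, hloc, hunit⟩

end Groth.Agent.Lib.Helper8.VE7
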