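import Mathlib
set_option backward.isDefEq.respectTransparency.types false
set_option synthInstance.maxHeartbeats 400000
set_option autoImplicit false
set_option linter.unusedSectionVars false
set_option linter.style.haveILetI false

namespace Groth.Agent.Lib.Helper8.VG1

open MvPolynomial

variable {V : Type*} [CommRing V] [IsDomain V] [ValuationRing V] {σ : Type*}

theorem exists_dvd_all {ι : Type*} (g : ι → V) (s : Finset ι) (hs : s.Nonempty) :
    ∃ j ∈ s, ∀ i ∈ s, g j ∣ g i := by
  induction hs using Finset.Nonempty.cons_induction with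
  | singleton a => exact ⟨a, by simp, by simp⟩
  | cons a s ha hs ih =>
    obtain ⟨j, hj, hjd⟩ := ih
    rcases ValuationRing.dvd_total (g a) (g j) with h | h
    · refine ⟨a, by simp, fun i hi => ?_⟩
      rcases Finset.mem_cons.mp hi with rfl | hi
      · exact dvd_rfl
      · exact h.trans (hjd i hi)
    · refine ⟨j, by simp [hj], fun i hi => ?_⟩
      rcases Finset.mem_cons.mp hi with rfl | hi
      · exact h
      · exact hjd i hi

/-- content normalization for multivariate polynomials over a valuation ring -/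
theorem exists_eq_C_mul (F : MvPolynomial σ V) (hF : F ≠ 0) :
    ∃ (c : V) (F₁ : MvPolynomial σ V), c ≠ 0 ∧ F = C c * F₁ ∧ ∃ j, F₁.coeff j = 1 := by
  have hs : F.support.Nonempty := by
    rw [Finset.nonempty_iff_ne_empty, Ne, MvPolynomial.support_eq_empty]; exact hF
  obtain ⟨j, hj, hjd⟩ := exists_dvd_all (fun m => F.coeff m) F.support hs
  have hc0 : F.coeff j ≠ 0 := MvPolynomial.mem_support_iff.mp hj
  have hall : ∀ i, F.coeff j ∣ F.coeff i := by
    intro i
    by_cases hi : i ∈ F.support
    · exact hjd i hi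
    · rw [MvPolynomial.notMem_support_iff.mp hi]; exact dvd_zero _
  obtain ⟨F₁, hF₁⟩ := (MvPolynomial.C_dvd_iff_dvd_coeff _ _).mpr hall
  refine ⟨F.coeff j, F₁, hc0, hF₁, j, ?_⟩
  have : F.coeff j = F.coeff j * F₁.coeff j := by
    conv_lhs => rw [hF₁, MvPolynomial.coeff_C_mul]
  have h2 : F.coeff j * 1 = F.coeff j * F₁.coeff j := by rw [mul_one]; exact this
  exact (mul_left_cancel₀ hc0 h2).symm

variable (V σ) in
/-- the prime ideal `𝔪 V[X_σ]` -/
noncomputable def gaussIdeal : Ideal (MvPolynomial σ V) :=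
  (IsLocalRing.maximalIdeal V).map (C : V →+* MvPolynomial σ V)

instance gaussIdeal_isPrime : (gaussIdeal V σ).IsPrime := by
  have h := MvPolynomial.ker_map (σ := σ) (Ideal.Quotient.mk (IsLocalRing.maximalIdeal V))
  rw [Ideal.mk_ker] at h
  unfold gaussIdeal
  rw [← h]
  exact RingHom.ker_isPrime _

theorem notMem_gaussIdeal_of_coeff_eq_one (F : MvPolynomial σ V) (j : σ →₀ ℕ)
    (hj : F.coeff j = 1) : F ∉ gaussIdeal V σ := by
  intro h
  have := (MvPolynomial.mem_map_C_iff.mp h) j
  rw [hj] at this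
  exact (IsLocalRing.maximalIdeal.isMaximal V).ne_top ((Ideal.eq_top_iff_one _).mpr this)

theorem C_mem_gaussIdeal_iff (c : V) : C c ∈ gaussIdeal V σ ↔ ¬ IsUnit c := by
  classical
  unfold gaussIdeal
  rw [MvPolynomial.mem_map_C_iff]
  constructor
  · intro h
    have := h 0
    rw [coeff_C] at this
    simpa using this
  · intro h m
    rw [coeff_C]
    split_ifs
    · exact (IsLocalRing.mem_maximalIdeal _).mpr h
    · exact zero_mem _

/-- every nonzero element of the Gauss localization is a unit times an element of `V` -/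
theorem gauss_unit_mul (x : Localization.AtPrime (gaussIdeal V σ)) (hx : x ≠ 0) :
    ∃ (c : V) (u : (Localization.AtPrime (gaussIdeal V σ))ˣ), c ≠ 0 ∧
      x = u * algebraMap V (Localization.AtPrime (gaussIdeal V σ)) c := by
  obtain ⟨F, s, rfl⟩ := IsLocalization.exists_mk'_eq (gaussIdeal V σ).primeCompl x
  have hF : F ≠ 0 := by
    rintro rfl
    exact hx (IsLocalization.mk'_zero _)
  obtain ⟨c, F₁, hc, hFeq, j, hj⟩ := exists_eq_C_mul F hF
  have hF₁ : F₁ ∈ (gaussIdeal V σ).primeCompl := notMem_gaussIdeal_of_coeff_eq_one F₁ j hj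
  have hu1 : IsUnit (algebraMap (MvPolynomial σ V) (Localization.AtPrime (gaussIdeal V σ)) F₁) :=
    IsLocalization.map_units _ ⟨F₁, hF₁⟩
  have hu2 : IsUnit (algebraMap (MvPolynomial σ V) (Localization.AtPrime (gaussIdeal V σ)) s) :=
    IsLocalization.map_units _ s
  obtain ⟨u1, hu1⟩ := hu1
  obtain ⟨u2, hu2⟩ := hu2
  refine ⟨c, u1 * u2⁻¹, hc, ?_⟩
  have hCc : algebraMap (MvPolynomial σ V) (Localization.AtPrime (gaussIdeal V σ)) (C c) =
      algebraMap V (Localization.AtPrime (gaussIdeal V σ)) c := by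
    rw [IsScalarTower.algebraMap_apply V (MvPolynomial σ V) (Localization.AtPrime (gaussIdeal V σ))]
    rfl
  rw [IsLocalization.mk'_eq_iff_eq_mul, hFeq, map_mul, ← hu1, ← hu2, hCc, Units.val_mul]
  have h1 : (↑u2⁻¹ : Localization.AtPrime (gaussIdeal V σ)) * ↑u2 = 1 := Units.inv_mul u2
  linear_combination (-(algebraMap V (Localization.AtPrime (gaussIdeal V σ)) c * ↑u1)) * h1

instance gauss_valuationRing : ValuationRing (Localization.AtPrime (gaussIdeal V σ)) := by
  rw [ValuationRing.iff_dvd_total]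
  constructor
  intro a b
  by_cases ha : a = 0
  · right; rw [ha]; exact dvd_zero _
  by_cases hb : b = 0
  · left; rw [hb]; exact dvd_zero _
  obtain ⟨c, u, _, rfl⟩ := gauss_unit_mul a ha
  obtain ⟨c', u', _, rfl⟩ := gauss_unit_mul b hb
  rcases ValuationRing.dvd_total c c' with ⟨d, hd⟩ | ⟨d, hd⟩
  · left
    refine ⟨↑u⁻¹ * ↑u' * algebraMap V _ d, ?_⟩
    rw [hd, map_mul]
    have h1 : (↑u : Localization.AtPrime (gaussIdeal V σ)) * ↑u⁻¹ = 1 := Units.mul_inv u
    linear_combination (-(↑u' * algebraMap V (Localization.AtPrime (gaussIdeal V σ)) c *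
      algebraMap V (Localization.AtPrime (gaussIdeal V σ)) d)) * h1
  · right
    refine ⟨↑u'⁻¹ * ↑u * algebraMap V _ d, ?_⟩
    rw [hd, map_mul]
    have h1 : (↑u' : Localization.AtPrime (gaussIdeal V σ)) * ↑u'⁻¹ = 1 := Units.mul_inv u'
    linear_combination (-(↑u * algebraMap V (Localization.AtPrime (gaussIdeal V σ)) c' *
      algebraMap V (Localization.AtPrime (gaussIdeal V σ)) d)) * h1

end Groth.Agent.Lib.Helper8.VG1
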