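import Mathlib
import Groth.Agent.Lib.Helper1.NormalSmooth
import Groth.Agent.Lib.Helper8.VE6
import Groth.Agent.Lib.Helper8.VG1
set_option backward.isDefEq.respectTransparency.types false
set_option synthInstance.maxHeartbeats 400000
set_option autoImplicit false
set_option linter.unusedSectionVars false
set_option linter.style.haveILetI false

namespace Groth.Agent.Lib.Helper8.VG2

open Polynomial Groth.Agent.Lib.Helper8.VG1

universe u

/-- The contraction of a generic point of the special fibre to the polynomial ring is the Gauss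
prime. -/
theorem contraction_eq_gaussIdeal (V : Type u) [CommRing V] [IsDomain V] [ValuationRing V]
    (A : Type u) [CommRing A] [IsDomain A] [Algebra V A]
    (p : Ideal A) [p.IsPrime]
    (hp : p ∈ ((IsLocalRing.maximalIdeal V).map (algebraMap V A)).minimalPrimes)
    (f : A) (n : ℕ) [Algebra (MvPolynomial (Fin n) V) (Localization.Away f)]
    [IsScalarTower V (MvPolynomial (Fin n) V) (Localization.Away f)]
    [Module.Flat (MvPolynomial (Fin n) V) (Localization.Away f)]
    (ψ₀ : Localization.Away f →+* Localization.AtPrime p)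
    (hψ₀ : ∀ a : A, ψ₀ (algebraMap A (Localization.Away f) a) =
      algebraMap A (Localization.AtPrime p) a) :
    (IsLocalRing.maximalIdeal (Localization.AtPrime p)).comap
      (ψ₀.comp (algebraMap (MvPolynomial (Fin n) V) (Localization.Away f))) =
      gaussIdeal V (Fin n) := by
  set P := MvPolynomial (Fin n) V
  set A' := Localization.Away f
  set W := Localization.AtPrime p
  set Q' : Ideal A' := (IsLocalRing.maximalIdeal W).comap ψ₀ with hQ'
  have hQ'prime : Q'.IsPrime := Ideal.comap_isPrime _ _
  have hQ'A : Q'.comap (algebraMap A A') = p := by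
    rw [hQ', Ideal.comap_comap]
    have : ψ₀.comp (algebraMap A A') = algebraMap A W := RingHom.ext hψ₀
    rw [this]
    exact IsLocalization.AtPrime.under_maximalIdeal W p
  have htowerA : ∀ v : V, algebraMap P A' (MvPolynomial.C v) =
      algebraMap A A' (algebraMap V A v) := by
    intro v
    have h1 : algebraMap P A' (algebraMap V P v) = algebraMap V A' v :=
      (IsScalarTower.algebraMap_apply V P A' v).symm
    have h2 : algebraMap V A' v = algebraMap A A' (algebraMap V A v) :=
      IsScalarTower.algebraMap_apply V A A' v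
    rw [← h2, ← h1]
    rfl
  have hle : gaussIdeal V (Fin n) ≤ Q'.comap (algebraMap P A') := by
    unfold gaussIdeal
    rw [Ideal.map_le_iff_le_comap]
    intro v hv
    rw [Ideal.mem_comap, Ideal.mem_comap, htowerA]
    have : algebraMap V A v ∈ p := hp.1.2 (Ideal.mem_map_of_mem _ hv)
    rw [← hQ'A] at this
    exact this
  show Q'.comap (algebraMap P A') = gaussIdeal V (Fin n)
  have hlies : Q'.LiesOver (Q'.comap (algebraMap P A')) := ⟨rfl⟩
  have hqprime : (Q'.comap (algebraMap P A')).IsPrime := Ideal.comap_isPrime _ _
  obtain ⟨p'', hp''le, hp''prime, hp''lies⟩ :=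
    Ideal.exists_ideal_le_liesOver_of_le (p := gaussIdeal V (Fin n))
      (q := Q'.comap (algebraMap P A')) Q' hle
  set p₀ : Ideal A := p''.comap (algebraMap A A') with hp₀
  have hp₀prime : p₀.IsPrime := Ideal.comap_isPrime _ _
  have hp₀le : p₀ ≤ p := by
    rw [← hQ'A]
    exact Ideal.comap_mono hp''le
  have hmp₀ : (IsLocalRing.maximalIdeal V).map (algebraMap V A) ≤ p₀ := by
    rw [Ideal.map_le_iff_le_comap]
    intro v hv
    rw [Ideal.mem_comap, hp₀, Ideal.mem_comap, ← htowerA]
    have h1 : (MvPolynomial.C v : P) ∈ gaussIdeal V (Fin n) := Ideal.mem_map_of_mem _ hv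
    rw [hp''lies.over] at h1
    exact h1
  have hp₀eq : p₀ = p := le_antisymm hp₀le (hp.2 ⟨hp₀prime, hmp₀⟩ hp₀le)
  have h1 : p'' = Q' := by
    rw [← IsLocalization.map_under (Submonoid.powers f) A' p'',
      ← IsLocalization.map_under (Submonoid.powers f) A' Q']
    show Ideal.map _ p₀ = Ideal.map _ (Q'.comap (algebraMap A A'))
    rw [hp₀eq, hQ'A]
  rw [← h1]
  exact hp''lies.over.symm


theorem main14726
    (V : Type u) [CommRing V] [IsDomain V] [ValuationRing V]
    (A : Type u) [CommRing A] [IsDomain A] [Algebra V A] [Algebra.Smooth V A]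
    (p : Ideal A) [p.IsPrime]
    (hp : p ∈ ((IsLocalRing.maximalIdeal V).map (algebraMap V A)).minimalPrimes) :
    ValuationRing (Localization.AtPrime p) ∧
      Function.Injective (algebraMap V (Localization.AtPrime p)) ∧
      IsLocalHom (algebraMap V (Localization.AtPrime p)) ∧
      ∀ x : Localization.AtPrime p, x ≠ 0 →
        ∃ (v : V) (w : (Localization.AtPrime p)ˣ),
          x = algebraMap V (Localization.AtPrime p) v * w := by
  classical
  obtain ⟨hWdom, hWic⟩ :=
    Groth.Agent.Lib.Helper1.NormalSmooth.normal_localization_of_smooth_of_domain V A p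
  have hfsA : Algebra.FormallySmooth A (Localization.AtPrime p) :=
    Algebra.FormallySmooth.of_isLocalization p.primeCompl
  have hsm : Algebra.IsSmoothAt V p := Algebra.FormallySmooth.comp V A (Localization.AtPrime p)
  obtain ⟨f, hf, n, algPA', htower, hstd⟩ :=
    Algebra.IsSmoothAt.exists_isStandardEtale_mvPolynomial (R := V) (p := p)
  obtain ⟨Pr⟩ := hstd.nonempty_standardEtalePresentation
  -- the map A' → W
  have hunits : ∀ y : Submonoid.powers f, IsUnit (algebraMap A (Localization.AtPrime p) y) := by
    rintro ⟨_, k, rfl⟩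
    have hk : f ^ k ∈ p.primeCompl := fun h => hf (Ideal.IsPrime.mem_of_pow_mem ‹_› k h)
    exact IsLocalization.map_units (Localization.AtPrime p) ⟨f ^ k, hk⟩
  let ψ₀ : Localization.Away f →+* Localization.AtPrime p :=
    IsLocalization.lift (M := Submonoid.powers f) (g := algebraMap A (Localization.AtPrime p)) hunits
  have hψ₀ : ∀ a : A, ψ₀ (algebraMap A (Localization.Away f) a) =
      algebraMap A (Localization.AtPrime p) a := fun a => IsLocalization.lift_eq hunits a
  have hcontr := contraction_eq_gaussIdeal V A p hp f n ψ₀ hψ₀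
  -- algebra structures
  letI algPW : Algebra (MvPolynomial (Fin n) V) (Localization.AtPrime p) :=
    (ψ₀.comp (algebraMap (MvPolynomial (Fin n) V) (Localization.Away f))).toAlgebra
  let ψ : Localization.Away f →ₐ[MvPolynomial (Fin n) V] Localization.AtPrime p :=
    { ψ₀ with commutes' := fun _ => rfl }
  have hψapp : ∀ a', ψ a' = ψ₀ a' := fun _ => rfl
  have hPunit : ∀ y : (gaussIdeal V (Fin n)).primeCompl,
      IsUnit (algebraMap (MvPolynomial (Fin n) V) (Localization.AtPrime p) y) := by
    rintro ⟨y, hy⟩
    by_contra hnu
    apply hy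
    rw [← hcontr]
    exact Ideal.mem_comap.mpr ((IsLocalRing.mem_maximalIdeal _).mpr hnu)
  letI algV'W : Algebra (Localization.AtPrime (gaussIdeal V (Fin n))) (Localization.AtPrime p) :=
    (IsLocalization.lift hPunit).toAlgebra
  haveI towerPV'W : IsScalarTower (MvPolynomial (Fin n) V)
      (Localization.AtPrime (gaussIdeal V (Fin n))) (Localization.AtPrime p) :=
    IsScalarTower.of_algebraMap_eq fun y => (IsLocalization.lift_eq hPunit y).symm
  -- injectivity of P → W
  have hAWinj : Function.Injective (algebraMap A (Localization.AtPrime p)) :=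
    IsLocalization.injective (Localization.AtPrime p) p.primeCompl_le_nonZeroDivisors
  have hAA'inj : Function.Injective (algebraMap A (Localization.Away f)) := by
    apply IsLocalization.injective (Localization.Away f) (M := Submonoid.powers f)
    apply powers_le_nonZeroDivisors_of_noZeroDivisors
    rintro rfl
    exact hf (zero_mem _)
  have hψ₀inj : Function.Injective ψ₀ := by
    rw [IsLocalization.lift_injective_iff]
    intro x y
    rw [hAWinj.eq_iff, hAA'inj.eq_iff]
  haveI : Nontrivial (Localization.Away f) := ψ₀.domain_nontrivial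
  have hPA'inj : Function.Injective (algebraMap (MvPolynomial (Fin n) V) (Localization.Away f)) :=
    FaithfulSMul.algebraMap_injective _ _
  have hPWinj : Function.Injective
      (algebraMap (MvPolynomial (Fin n) V) (Localization.AtPrime p)) :=
    hψ₀inj.comp hPA'inj
  have hPV'inj : Function.Injective (algebraMap (MvPolynomial (Fin n) V)
      (Localization.AtPrime (gaussIdeal V (Fin n)))) :=
    IsLocalization.injective _ (gaussIdeal V (Fin n)).primeCompl_le_nonZeroDivisors
  have hV'Winj : Function.Injective (algebraMap (Localization.AtPrime (gaussIdeal V (Fin n)))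
      (Localization.AtPrime p)) := by
    show Function.Injective (IsLocalization.lift hPunit)
    rw [IsLocalization.lift_injective_iff]
    intro x y
    rw [hPWinj.eq_iff, hPV'inj.eq_iff]
  -- local homomorphism
  haveI hloc' : IsLocalHom (algebraMap (Localization.AtPrime (gaussIdeal V (Fin n)))
      (Localization.AtPrime p)) := by
    constructor
    intro x hx
    obtain ⟨F, s, rfl⟩ := IsLocalization.exists_mk'_eq (gaussIdeal V (Fin n)).primeCompl x
    rw [IsLocalization.AtPrime.isUnit_mk'_iff]
    intro hF
    have h1 : algebraMap (MvPolynomial (Fin n) V) (Localization.AtPrime p) F ∈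
        IsLocalRing.maximalIdeal (Localization.AtPrime p) := by
      rw [← hcontr] at hF
      exact hF
    have h2 : algebraMap (Localization.AtPrime (gaussIdeal V (Fin n))) (Localization.AtPrime p)
        (IsLocalization.mk' _ F s) *
        algebraMap (MvPolynomial (Fin n) V) (Localization.AtPrime p) s =
        algebraMap (MvPolynomial (Fin n) V) (Localization.AtPrime p) F := by
      rw [IsScalarTower.algebraMap_apply (MvPolynomial (Fin n) V)
        (Localization.AtPrime (gaussIdeal V (Fin n))) (Localization.AtPrime p),
        IsScalarTower.algebraMap_apply (MvPolynomial (Fin n) V)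
        (Localization.AtPrime (gaussIdeal V (Fin n))) (Localization.AtPrime p) F, ← map_mul,
        IsLocalization.mk'_spec]
    have h3 : IsUnit (algebraMap (MvPolynomial (Fin n) V) (Localization.AtPrime p) F) := by
      rw [← h2]
      exact hx.mul (hPunit s)
    exact (IsLocalRing.mem_maximalIdeal _).mp h1 h3
  -- presentation data
  set β : Localization.AtPrime p := ψ Pr.x with hβ
  have haevP : ∀ r : (MvPolynomial (Fin n) V)[X],
      aeval β (r.map (algebraMap (MvPolynomial (Fin n) V)
        (Localization.AtPrime (gaussIdeal V (Fin n))))) = ψ (aeval Pr.x r) := by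
    intro r
    rw [aeval_map_algebraMap, hβ, aeval_algHom_apply]
  have hroot : aeval β (Pr.f.map (algebraMap (MvPolynomial (Fin n) V)
      (Localization.AtPrime (gaussIdeal V (Fin n))))) = 0 := by
    rw [haevP, Pr.hasMap.1, map_zero]
  have hder : IsUnit (aeval β (derivative (Pr.f.map (algebraMap (MvPolynomial (Fin n) V)
      (Localization.AtPrime (gaussIdeal V (Fin n))))))) := by
    rw [derivative_map, haevP]
    exact (Pr.hasMap.isUnit_derivative_f).map ψ
  have hgen : ∀ w : Localization.AtPrime p,
      ∃ pp q : (Localization.AtPrime (gaussIdeal V (Fin n)))[X],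
        IsUnit (aeval β q) ∧ w * aeval β q = aeval β pp := by
    intro w
    obtain ⟨b, s, rfl⟩ := IsLocalization.exists_mk'_eq p.primeCompl w
    obtain ⟨pb, nb, hpb⟩ :=
      Pr.exists_mul_aeval_x_g_pow_eq_aeval_x (algebraMap A (Localization.Away f) b)
    obtain ⟨ps, ns, hps⟩ :=
      Pr.exists_mul_aeval_x_g_pow_eq_aeval_x (algebraMap A (Localization.Away f) (s : A))
    have hpb' := congrArg ψ hpb
    have hps' := congrArg ψ hps
    rw [map_mul, map_pow, hψapp (algebraMap A _ _), hψ₀, ← haevP, ← haevP] at hpb' hps'
    set G : Localization.AtPrime p := aeval β (Pr.g.map (algebraMap (MvPolynomial (Fin n) V)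
      (Localization.AtPrime (gaussIdeal V (Fin n))))) with hG
    have hGu : IsUnit G := by
      rw [hG, haevP]
      exact Pr.hasMap.2.map ψ
    have hsu : IsUnit (algebraMap A (Localization.AtPrime p) (s : A)) :=
      IsLocalization.map_units _ s
    refine ⟨pb.map (algebraMap (MvPolynomial (Fin n) V) (Localization.AtPrime (gaussIdeal V (Fin n)))) * (Pr.g.map (algebraMap (MvPolynomial (Fin n) V) (Localization.AtPrime (gaussIdeal V (Fin n))))) ^ ns,
      ps.map (algebraMap (MvPolynomial (Fin n) V) (Localization.AtPrime (gaussIdeal V (Fin n)))) * (Pr.g.map (algebraMap (MvPolynomial (Fin n) V) (Localization.AtPrime (gaussIdeal V (Fin n))))) ^ nb, ?_, ?_⟩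
    · rw [map_mul, map_pow, ← hps']
      exact (hsu.mul (hGu.pow _)).mul (hGu.pow _)
    · rw [map_mul, map_pow, map_mul, map_pow, ← hps', ← hpb']
      have hspec : IsLocalization.mk' (Localization.AtPrime p) b s *
          algebraMap A (Localization.AtPrime p) (s : A) = algebraMap A (Localization.AtPrime p) b :=
        IsLocalization.mk'_spec _ b s
      rw [← hspec]
      ring
  obtain ⟨hval, hunit⟩ := VE6.core (A := Localization.AtPrime (gaussIdeal V (Fin n)))
    (W := Localization.AtPrime p) hV'Winj β _ (Pr.monic_f.map _) hroot hder hgen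
  -- V → W
  have hflatA : Module.Flat A (Localization.AtPrime p) := IsLocalization.flat _ p.primeCompl
  have hflat : Module.Flat V (Localization.AtPrime p) := Module.Flat.trans V A _
  have hinj : Function.Injective (algebraMap V (Localization.AtPrime p)) :=
    FaithfulSMul.algebraMap_injective V (Localization.AtPrime p)
  have hloc : IsLocalHom (algebraMap V (Localization.AtPrime p)) := by
    constructor
    intro a ha
    by_contra hnu
    have h1 : a ∈ IsLocalRing.maximalIdeal V := (IsLocalRing.mem_maximalIdeal a).mpr hnu
    have h1' : algebraMap V A a ∈ p := hp.1.2 (Ideal.mem_map_of_mem _ h1)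
    have h2 : algebraMap A (Localization.AtPrime p) (algebraMap V A a) ∈
        IsLocalRing.maximalIdeal (Localization.AtPrime p) :=
      (IsLocalization.AtPrime.to_map_mem_maximal_iff _ p _).mpr h1'
    rw [← IsScalarTower.algebraMap_apply] at h2
    exact (IsLocalRing.mem_maximalIdeal _).mp h2 ha
  refine ⟨hval, hinj, hloc, ?_⟩
  intro x hx
  obtain ⟨a, u, hxa⟩ := hunit x hx
  have ha0 : a ≠ 0 := by
    rintro rfl
    rw [map_zero, mul_zero] at hxa
    exact hx hxa
  obtain ⟨c, u₁, _, hau⟩ := gauss_unit_mul a ha0
  have hVV'W : algebraMap (Localization.AtPrime (gaussIdeal V (Fin n))) (Localization.AtPrime p)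
      (algebraMap V _ c) = algebraMap V (Localization.AtPrime p) c := by
    rw [IsScalarTower.algebraMap_apply V (MvPolynomial (Fin n) V)
      (Localization.AtPrime (gaussIdeal V (Fin n))),
      ← IsScalarTower.algebraMap_apply (MvPolynomial (Fin n) V)
      (Localization.AtPrime (gaussIdeal V (Fin n))) (Localization.AtPrime p)]
    show ψ₀ (algebraMap (MvPolynomial (Fin n) V) (Localization.Away f) (algebraMap V _ c)) = _
    rw [← IsScalarTower.algebraMap_apply V (MvPolynomial (Fin n) V) (Localization.Away f),
      IsScalarTower.algebraMap_apply V A (Localization.Away f), hψ₀,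
      ← IsScalarTower.algebraMap_apply]
  refine ⟨c, u * Units.map (algebraMap (Localization.AtPrime (gaussIdeal V (Fin n)))
    (Localization.AtPrime p)).toMonoidHom u₁, ?_⟩
  rw [hxa, hau, map_mul, hVV'W, Units.val_mul]
  simp only [Units.coe_map, RingHom.toMonoidHom_eq_coe, MonoidHom.coe_coe]
  ring

end Groth.Agent.Lib.Helper8.VG2
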