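import Mathlib
import Groth.Agent.Lib.Helper4.HznWE
import Groth.Agent.Lib.Helper4.HznSerre
import Groth.Agent.Lib.Helper8.VE7
set_option backward.isDefEq.respectTransparency.types false
set_option synthInstance.maxHeartbeats 400000
set_option autoImplicit false
set_option linter.unusedSectionVars false
set_option linter.style.haveILetI false

namespace Groth.Agent.Lib.Helper8.VH1

open Polynomial

universe u

/-- A local ind-étale algebra over a valuation ring is a valuation ring with the same value
group. -/
theorem of_isIndEtale (A S : Type u) [CommRing A] [IsDomain A] [ValuationRing A] [CommRing S]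
    [IsLocalRing S] [Algebra A S] [IsLocalHom (algebraMap A S)]
    (hind : EtPBC.IsIndEtale A S) :
    IsDomain S ∧ (∀ _ : IsDomain S, ValuationRing S) ∧ Function.Injective (algebraMap A S) ∧
      ∀ s : S, s ≠ 0 → ∃ (a : A) (u : Sˣ), s = u * algebraMap A S a := by
  have hwe : Algebra.WeaklyEtale A S :=
    Groth.Agent.Lib.Helper4.IndEt.weaklyEtale_of_isIndEtale A S hind
  have hinj : Function.Injective (algebraMap A S) := FaithfulSMul.algebraMap_injective A S
  have hmain : ∀ s : S, s ≠ 0 → ∃ (a : A) (u : Sˣ), s = u * algebraMap A S a := by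
    intro s hs
    obtain ⟨E, _, _, _, β, y, hy⟩ :=
      Groth.Agent.Lib.Helper4.Hzn.exists_etale_algHom_of_isIndEtale A S hind s
    have hy : β y = s := hy
    set m : Ideal E := (IsLocalRing.maximalIdeal S).comap β.toRingHom with hmdef
    have hmprime : m.IsPrime := Ideal.comap_isPrime _ _
    have hm : m.comap (algebraMap A E) = IsLocalRing.maximalIdeal A := by
      rw [hmdef, Ideal.comap_comap]
      have : β.toRingHom.comp (algebraMap A E) = algebraMap A S := β.comp_algebraMap
      rw [this]
      exact ((IsLocalRing.local_hom_TFAE (algebraMap A S)).out 0 4).mp ‹IsLocalHom (algebraMap A S)›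
    obtain ⟨hdom, _, _, _, hunitE⟩ := VE7.main1963 A E m hm
    have hunits : ∀ z : m.primeCompl, IsUnit (β z) := by
      rintro ⟨z, hz⟩
      by_contra hnu
      exact hz (Ideal.mem_comap.mpr ((IsLocalRing.mem_maximalIdeal _).mpr hnu))
    let βm : Localization.AtPrime m →ₐ[A] S :=
      IsLocalization.liftAlgHom (M := m.primeCompl) (f := β) hunits
    have hβm : ∀ e : E, βm (algebraMap E (Localization.AtPrime m) e) = β e := by
      intro e
      simp [βm]
    have he0 : algebraMap E (Localization.AtPrime m) y ≠ 0 := by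
      intro h0
      apply hs
      rw [← hy, ← hβm, h0, map_zero]
    obtain ⟨a, u, hau⟩ := hunitE _ he0
    refine ⟨a, Units.map βm.toRingHom.toMonoidHom u, ?_⟩
    rw [← hy, ← hβm, hau, map_mul, AlgHom.commutes]
    rfl
  have hnzd : NoZeroDivisors S := by
    constructor
    intro s s' hss
    by_contra hcon
    push Not at hcon
    obtain ⟨a, u, ha⟩ := hmain s hcon.1
    obtain ⟨a', u', ha'⟩ := hmain s' hcon.2
    rw [ha, ha'] at hss
    have h1 : algebraMap A S (a * a') = 0 := by
      rw [map_mul]
      have : (↑u * algebraMap A S a) * (↑u' * algebraMap A S a') =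
          (↑u * ↑u') * (algebraMap A S a * algebraMap A S a') := by ring
      rw [this] at hss
      exact ((u * u').isUnit.mul_right_eq_zero).mp hss
    have h2 : a * a' = 0 := hinj (by rw [h1, map_zero])
    rcases mul_eq_zero.mp h2 with h | h
    · apply hcon.1; rw [ha, h, map_zero, mul_zero]
    · apply hcon.2; rw [ha', h, map_zero, mul_zero]
  have hdomS : IsDomain S := NoZeroDivisors.to_isDomain S
  refine ⟨hdomS, fun _ => ?_, hinj, hmain⟩
  rw [ValuationRing.iff_dvd_total]
  constructor
  intro x y
  by_cases hx : x = 0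
  · right; rw [hx]; exact dvd_zero _
  by_cases hy : y = 0
  · left; rw [hy]; exact dvd_zero _
  obtain ⟨c, u, rfl⟩ := hmain x hx
  obtain ⟨c', u', rfl⟩ := hmain y hy
  rcases ValuationRing.dvd_total c c' with ⟨d, hd⟩ | ⟨d, hd⟩
  · left
    refine ⟨↑u⁻¹ * ↑u' * algebraMap A S d, ?_⟩
    rw [hd, map_mul]
    have h1 : (↑u : S) * ↑u⁻¹ = 1 := Units.mul_inv u
    linear_combination (-(↑u' * algebraMap A S c * algebraMap A S d)) * h1
  · right
    refine ⟨↑u'⁻¹ * ↑u * algebraMap A S d, ?_⟩
    rw [hd, map_mul]
    have h1 : (↑u' : S) * ↑u'⁻¹ = 1 := Units.mul_inv u'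
    linear_combination (-(↑u * algebraMap A S c' * algebraMap A S d)) * h1

theorem main1975 (A S : Type u) [CommRing A] [IsDomain A] [ValuationRing A] [CommRing S]
    [IsLocalRing S] [Algebra A S] [IsLocalHom (algebraMap A S)]
    (h : Hensel.IsHenselization A S ∨ Hensel.IsStrictHenselization A S) :
    IsDomain S ∧ (∀ _ : IsDomain S, ValuationRing S) ∧ Function.Injective (algebraMap A S) ∧
      ∀ s : S, s ≠ 0 → ∃ (a : A) (u : Sˣ), s = u * algebraMap A S a := by
  apply of_isIndEtale
  rcases h with h | h
  · exact Groth.Agent.Lib.Helper4.IndEt.isIndEtale_of_isHenselization A S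
  · exact Groth.Agent.Lib.Helper4.IndEt.isIndEtale_of_isStrictHenselization A S

end Groth.Agent.Lib.Helper8.VH1
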