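import Mathlib
import Groth.Agent.Lib.Helper21.AdicNoetherian

set_option backward.isDefEq.respectTransparency.types false
set_option synthInstance.maxHeartbeats 400000
set_option autoImplicit false
set_option linter.unusedSectionVars false
set_option linter.style.haveILetI false

universe u

namespace Groth.Agent.Lib.Helper8.WB1

open IsLocalRing TensorProduct

section lift

variable {R S : Type*} [CommRing R] [CommRing S] (I : Ideal R) (J : Ideal S) (f : R →+* S)
  (hf : I.map f ≤ J)

include hf in
theorem pow_le_comap (n : ℕ) : I ^ n ≤ (J ^ n).comap f := by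
  rw [← Ideal.map_le_iff_le_comap, Ideal.map_pow]
  exact Ideal.pow_right_mono hf n

/-- the level maps `R̂ → S / J^n`. -/
noncomputable def lvl (n : ℕ) : AdicCompletion I R →+* S ⧸ J ^ n :=
  (Ideal.quotientMap (J ^ n) f (pow_le_comap I J f hf n)).comp
    (AdicCompletion.evalₐ I n).toRingHom

theorem lvl_mk (n : ℕ) (x : AdicCompletion.AdicCauchySequence I R) :
    lvl I J f hf n (AdicCompletion.mk _ _ x) = Ideal.Quotient.mk _ (f (x.val n)) := by
  change (Ideal.quotientMap (J ^ n) f (pow_le_comap I J f hf n))
    (AdicCompletion.evalₐ I n (AdicCompletion.mk _ _ x)) = _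
  rw [AdicCompletion.evalₐ_mk]
  rfl

theorem lvl_of (n : ℕ) (r : R) :
    lvl I J f hf n (AdicCompletion.of I R r) = Ideal.Quotient.mk _ (f r) := by
  change (Ideal.quotientMap (J ^ n) f (pow_le_comap I J f hf n))
    (AdicCompletion.evalₐ I n (AdicCompletion.of I R r)) = _
  rw [AdicCompletion.evalₐ_of]
  rfl

theorem lvl_compat {m n : ℕ} (hle : m ≤ n) :
    (Ideal.Quotient.factorPow J hle).comp (lvl I J f hf n) = lvl I J f hf m := by
  ext x
  obtain ⟨x, rfl⟩ := AdicCompletion.mk_surjective _ _ x
  rw [RingHom.comp_apply, lvl_mk, lvl_mk]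
  change Ideal.Quotient.mk _ (f (x.val n)) = Ideal.Quotient.mk _ (f (x.val m))
  rw [Ideal.Quotient.eq, ← map_sub]
  apply pow_le_comap I J f hf m
  rw [← Ideal.Quotient.eq]
  exact AdicCompletion.Ideal.mk_eq_mk _ hle x

variable [IsAdicComplete J S]

/-- Extension of a continuous ring map to the completion (complete target). -/
noncomputable def ext : AdicCompletion I R →+* S :=
  IsAdicComplete.liftRingHom J (lvl I J f hf) (fun hle => lvl_compat I J f hf hle)

theorem mk_ext (n : ℕ) (x : AdicCompletion I R) :
    Ideal.Quotient.mk (J ^ n) (ext I J f hf x) = lvl I J f hf n x :=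
  IsAdicComplete.mk_liftRingHom _ _ _ n x

theorem ext_of (r : R) : ext I J f hf (AdicCompletion.of I R r) = f r := by
  have hH : IsHausdorff J S := inferInstance
  rw [← sub_eq_zero]
  apply hH.haus'
  intro n
  rw [SModEq.sub_mem, smul_eq_mul, Ideal.mul_top, sub_zero, ← Ideal.Quotient.eq, mk_ext, lvl_of]

end lift

section cpl

variable (R : Type u) [CommRing R] [IsNoetherianRing R] (q : Ideal R) [q.IsPrime]

/-- The completion of the local ring at a prime. -/
abbrev Cpl : Type u :=
  AdicCompletion (maximalIdeal (Localization.AtPrime q)) (Localization.AtPrime q)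

instance noeth : IsNoetherianRing (Cpl R q) :=
  Groth.Agent.Lib.Helper21.isNoetherianRing_adicCompletion_of_fg _ (IsNoetherian.noetherian _)

theorem flat : Module.Flat R (Cpl R q) :=
  Module.Flat.trans R (Localization.AtPrime q) (Cpl R q)

theorem ffl : Module.FaithfullyFlat (Localization.AtPrime q) (Cpl R q) :=
  Module.FaithfullyFlat.of_flat_of_isLocalHom

theorem map_eq_maximalIdeal :
    q.map (algebraMap R (Cpl R q)) = maximalIdeal (Cpl R q) := by
  have h1 : q.map (algebraMap R (Cpl R q)) =
      (q.map (algebraMap R (Localization.AtPrime q))).map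
        (algebraMap (Localization.AtPrime q) (Cpl R q)) := by
    rw [Ideal.map_map, ← IsScalarTower.algebraMap_eq]
  rw [h1, Localization.AtPrime.map_eq_maximalIdeal]
  exact (AdicCompletion.maximalIdeal_eq_map (R := Localization.AtPrime q)).symm

theorem comap_maximalIdeal :
    (maximalIdeal (Cpl R q)).comap (algebraMap R (Cpl R q)) = q := by
  rw [IsScalarTower.algebraMap_eq R (Localization.AtPrime q) (Cpl R q), ← Ideal.comap_comap,
    IsLocalRing.maximalIdeal_comap]
  exact Localization.AtPrime.under_maximalIdeal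

/-- F3: faithfulness. -/
theorem exists_smul_eq_zero (Q : Type u) [AddCommGroup Q] [Module R Q] (x : Q)
    (hx : (1 : Cpl R q) ⊗ₜ[R] x = 0) : ∃ t : R, t ∉ q ∧ t • x = 0 := by
  haveI := ffl R q
  have h1 : (1 : Cpl R q) ⊗ₜ[Localization.AtPrime q] ((1 : Localization.AtPrime q) ⊗ₜ[R] x) = 0 := by
    apply (TensorProduct.AlgebraTensorModule.cancelBaseChange R (Localization.AtPrime q)
      (Localization.AtPrime q) (Cpl R q) Q).injective
    rw [TensorProduct.AlgebraTensorModule.cancelBaseChange_tmul, one_smul, map_zero]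
    exact hx
  have h2 : (1 : Localization.AtPrime q) ⊗ₜ[R] x = 0 := by
    apply Module.FaithfullyFlat.tensorProduct_mk_injective (A := Localization.AtPrime q)
      (B := Cpl R q) (Localization.AtPrime q ⊗[R] Q)
    rw [map_zero]
    exact h1
  have h3 : (TensorProduct.mk R (Localization.AtPrime q) Q 1) x = 0 := h2
  rw [IsLocalizedModule.eq_zero_iff q.primeCompl] at h3
  obtain ⟨⟨t, ht⟩, hts⟩ := h3
  exact ⟨t, ht, hts⟩

/-- F4: residue field. -/
theorem exists_residue (c : Cpl R q) : ∃ (r t : R), t ∉ q ∧
    algebraMap R (Cpl R q) t * c - algebraMap R (Cpl R q) r ∈ q.map (algebraMap R (Cpl R q)) := by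
  obtain ⟨y, hy⟩ := (AdicCompletion.residueField_map_bijective (Localization.AtPrime q)).2
    (residue _ c)
  obtain ⟨l, rfl⟩ := residue_surjective y
  rw [IsLocalRing.ResidueField.map_residue] at hy
  have hmem : c - algebraMap (Localization.AtPrime q) (Cpl R q) l ∈ maximalIdeal (Cpl R q) := by
    rw [← Ideal.Quotient.eq]
    exact hy.symm
  obtain ⟨⟨r, ⟨t, ht⟩⟩, hl⟩ := IsLocalization.mk'_surjective q.primeCompl l
  refine ⟨r, t, ht, ?_⟩
  rw [map_eq_maximalIdeal]
  have h1 : algebraMap R (Cpl R q) r =
      algebraMap R (Cpl R q) t * algebraMap (Localization.AtPrime q) (Cpl R q) l := by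
    rw [IsScalarTower.algebraMap_apply R (Localization.AtPrime q) (Cpl R q),
      IsScalarTower.algebraMap_apply R (Localization.AtPrime q) (Cpl R q), ← map_mul]
    congr 1
    rw [← hl, mul_comm]
    exact (IsLocalization.mk'_spec _ r ⟨t, ht⟩).symm
  rw [h1, ← mul_sub]
  exact Ideal.mul_mem_left _ _ hmem

/-- F5: universal property. -/
theorem exists_algHom (S : Type u) [CommRing S] [Algebra R S] [IsLocalRing S]
    [IsAdicComplete (maximalIdeal S) S]
    (hS : (maximalIdeal S).comap (algebraMap R S) = q) :
    Nonempty (Cpl R q →ₐ[R] S) := by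
  have hu : ∀ t : q.primeCompl, IsUnit (algebraMap R S t) := by
    rintro ⟨t, ht⟩
    by_contra hn
    apply ht
    have h1 : t ∈ (maximalIdeal S).comap (algebraMap R S) := by
      rw [Ideal.mem_comap]
      exact (IsLocalRing.mem_maximalIdeal _).mpr hn
    rw [hS] at h1
    exact h1
  obtain ⟨g, hg⟩ : ∃ g : Localization.AtPrime q →+* S, g = IsLocalization.lift hu := ⟨_, rfl⟩
  have hgc : ∀ r : R, g (algebraMap R (Localization.AtPrime q) r) = algebraMap R S r := by
    intro r
    rw [hg, IsLocalization.lift_eq]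
  have hle : (maximalIdeal (Localization.AtPrime q)).map g ≤ maximalIdeal S := by
    rw [← Localization.AtPrime.map_eq_maximalIdeal, Ideal.map_map, Ideal.map_le_iff_le_comap]
    intro r hr
    rw [Ideal.mem_comap, RingHom.comp_apply, hgc]
    rw [← hS] at hr
    exact hr
  refine ⟨{ (ext (maximalIdeal (Localization.AtPrime q)) (maximalIdeal S) g hle) with
    commutes' := fun r => ?_ }⟩
  change ext (maximalIdeal (Localization.AtPrime q)) (maximalIdeal S) g hle
    (algebraMap R (Cpl R q) r) = _
  rw [AdicCompletion.algebraMap_apply, ext_of, hgc]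

end cpl

end Groth.Agent.Lib.Helper8.WB1
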