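import Mathlib
import Groth.Agent.Lib.Helper8.WB1

set_option backward.isDefEq.respectTransparency.types false
set_option synthInstance.maxHeartbeats 400000
set_option autoImplicit false
set_option linter.unusedSectionVars false
set_option linter.style.haveILetI false

universe u

namespace Groth.Agent.Lib.Helper8.WB2

open IsLocalRing TensorProduct

variable (A : Type u) [CommRing A]

/-- A compatible family of elements `x_B ∈ B ⊗ M`. -/
structure Fam (M : Type u) [AddCommGroup M] [Module A M] where
  x : ∀ (B : Type u) [CommRing B] [Algebra A B] [IsNoetherianRing B] [IsLocalRing B],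
    IsAdicComplete (maximalIdeal B) B → Module.Flat A B → B ⊗[A] M
  hx : ∀ (B : Type u) [CommRing B] [Algebra A B] [IsNoetherianRing B] [IsLocalRing B]
    (hB : IsAdicComplete (maximalIdeal B) B) (hBf : Module.Flat A B)
    (B' : Type u) [CommRing B'] [Algebra A B'] [IsNoetherianRing B'] [IsLocalRing B']
    (hB' : IsAdicComplete (maximalIdeal B') B') (hB'f : Module.Flat A B')
    (g : B →ₐ[A] B'), LinearMap.rTensor M g.toLinearMap (x B hB hBf) = x B' hB' hB'f

variable {A}

namespace Fam

variable {M N : Type u} [AddCommGroup M] [Module A M] [AddCommGroup N] [Module A N]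

/-- constancy -/
def IsConst (F : Fam A M) (m : M) : Prop :=
  ∀ (B : Type u) [CommRing B] [Algebra A B] [IsNoetherianRing B] [IsLocalRing B]
    (hB : IsAdicComplete (maximalIdeal B) B) (hBf : Module.Flat A B),
    F.x B hB hBf = (1 : B) ⊗ₜ[A] m

/-- push forward along a linear map -/
noncomputable def map (f : M →ₗ[A] N) (F : Fam A M) : Fam A N where
  x := fun B _ _ _ _ hB hBf => LinearMap.lTensor B f (F.x B hB hBf)
  hx := by
    intro B _ _ _ _ hB hBf B' _ _ _ _ hB' hB'f g
    rw [← F.hx B hB hBf B' hB' hB'f g, ← LinearMap.comp_apply, ← LinearMap.comp_apply,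
      LinearMap.rTensor_comp_lTensor, LinearMap.lTensor_comp_rTensor]

/-- subtract a constant family -/
noncomputable def subConst (F : Fam A M) (m : M) : Fam A M where
  x := fun B _ _ _ _ hB hBf => F.x B hB hBf - (1 : B) ⊗ₜ[A] m
  hx := by
    intro B _ _ _ _ hB hBf B' _ _ _ _ hB' hB'f g
    rw [map_sub, F.hx B hB hBf B' hB' hB'f g, LinearMap.rTensor_tmul]
    simp

/-- lift along an injective map -/
noncomputable def lift (f : N →ₗ[A] M) (hf : Function.Injective f) (F : Fam A M)
    (h : ∀ (B : Type u) [CommRing B] [Algebra A B] [IsNoetherianRing B] [IsLocalRing B]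
      (hB : IsAdicComplete (maximalIdeal B) B) (hBf : Module.Flat A B),
      ∃ y : B ⊗[A] N, LinearMap.lTensor B f y = F.x B hB hBf) : Fam A N where
  x := fun B _ _ _ _ hB hBf => Classical.choose (h B hB hBf)
  hx := by
    intro B _ _ _ _ hB hBf B' _ _ _ _ hB' hB'f g
    have hinj : Function.Injective (LinearMap.lTensor B' f) :=
      Module.Flat.lTensor_preserves_injective_linearMap f hf
    apply hinj
    rw [Classical.choose_spec (h B' hB' hB'f), ← LinearMap.comp_apply,
      LinearMap.lTensor_comp_rTensor, ← LinearMap.rTensor_comp_lTensor, LinearMap.comp_apply,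
      Classical.choose_spec (h B hB hBf), F.hx B hB hBf B' hB' hB'f g]

theorem lift_spec (f : N →ₗ[A] M) (hf : Function.Injective f) (F : Fam A M)
    (h : ∀ (B : Type u) [CommRing B] [Algebra A B] [IsNoetherianRing B] [IsLocalRing B]
      (hB : IsAdicComplete (maximalIdeal B) B) (hBf : Module.Flat A B),
      ∃ y : B ⊗[A] N, LinearMap.lTensor B f y = F.x B hB hBf)
    (B : Type u) [CommRing B] [Algebra A B] [IsNoetherianRing B] [IsLocalRing B]
    (hB : IsAdicComplete (maximalIdeal B) B) (hBf : Module.Flat A B) :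
    LinearMap.lTensor B f ((lift f hf F h).x B hB hBf) = F.x B hB hBf :=
  Classical.choose_spec (h B hB hBf)

end Fam

/-- Dévissage. -/
theorem dev [IsNoetherianRing A]
    (base : ∀ (p : Ideal A) [p.IsPrime] (F : Fam A (A ⧸ p)), ∃ m, F.IsConst m)
    (M : Type u) [AddCommGroup M] [Module A M] [Module.Finite A M] :
    ∀ F : Fam A M, ∃ m, F.IsConst m := by
  induction ‹Module.Finite A M› using
    IsNoetherianRing.induction_on_isQuotientEquivQuotientPrime A with
  | subsingleton N =>
    intro F
    exact ⟨0, fun B _ _ _ _ hB hBf => Subsingleton.elim _ _⟩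
  | quotient N p e =>
    intro F
    haveI := p.2
    obtain ⟨m', hm'⟩ := base p.1 (F.map e.toLinearMap)
    refine ⟨e.symm m', fun B _ _ _ _ hB hBf => ?_⟩
    have h1 := hm' B hB hBf
    change LinearMap.lTensor B e.toLinearMap (F.x B hB hBf) = _ at h1
    have h2 : LinearMap.lTensor B e.symm.toLinearMap
        (LinearMap.lTensor B e.toLinearMap (F.x B hB hBf)) = F.x B hB hBf := by
      rw [← LinearMap.comp_apply, ← LinearMap.lTensor_comp]
      simp
    rw [← h2, h1, LinearMap.lTensor_tmul]
    rfl
  | exact N₁ N₂ N₃ f g hf hg hfg h₁ h₃ =>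
    intro F
    obtain ⟨m₃, hm₃⟩ := h₃ (F.map g)
    obtain ⟨m₂, rfl⟩ := hg m₃
    have hrange : ∀ (B : Type u) [CommRing B] [Algebra A B] [IsNoetherianRing B] [IsLocalRing B]
        (hB : IsAdicComplete (maximalIdeal B) B) (hBf : Module.Flat A B),
        ∃ y : B ⊗[A] N₁, LinearMap.lTensor B f y = (F.subConst m₂).x B hB hBf := by
      intro B _ _ _ _ hB hBf
      have hex : Function.Exact (LinearMap.lTensor B f) (LinearMap.lTensor B g) :=
        lTensor_exact B hfg hg
      apply (hex _).mp
      change LinearMap.lTensor B g (F.x B hB hBf - (1 : B) ⊗ₜ[A] m₂) = 0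
      rw [map_sub, LinearMap.lTensor_tmul, sub_eq_zero]
      exact hm₃ B hB hBf
    obtain ⟨m₁, hm₁⟩ := h₁ (Fam.lift f hf (F.subConst m₂) hrange)
    refine ⟨m₂ + f m₁, fun B _ _ _ _ hB hBf => ?_⟩
    have h1 := Fam.lift_spec f hf (F.subConst m₂) hrange B hB hBf
    rw [hm₁ B hB hBf, LinearMap.lTensor_tmul] at h1
    change _ = F.x B hB hBf - (1 : B) ⊗ₜ[A] m₂ at h1
    rw [tmul_add, h1]
    abel

end Groth.Agent.Lib.Helper8.WB2
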