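import Mathlib
import Groth.Agent.Lib.Helper8.WB2

set_option backward.isDefEq.respectTransparency.types false
set_option synthInstance.maxHeartbeats 400000
set_option autoImplicit false
set_option linter.unusedSectionVars false
set_option linter.style.haveILetI false

universe u

namespace Groth.Agent.Lib.Helper8.WB3

open IsLocalRing TensorProduct Groth.Agent.Lib.Helper8.WB1 Groth.Agent.Lib.Helper8.WB2

section lemmas

variable {A : Type u} [CommRing A] (p : Ideal A) (B : Type u) [CommRing B] [Algebra A B]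

theorem mk_eq_smul_one (a : A) : Ideal.Quotient.mk p a = a • (1 : A ⧸ p) := by
  rw [Algebra.smul_def, mul_one]
  rfl

/-- L1 -/
theorem exists_tmul_one (y : B ⊗[A] (A ⧸ p)) : ∃ b : B, y = b ⊗ₜ[A] (1 : A ⧸ p) := by
  induction y using TensorProduct.induction_on with
  | zero => exact ⟨0, (zero_tmul _ _).symm⟩
  | tmul b d =>
    obtain ⟨a, rfl⟩ := Ideal.Quotient.mk_surjective d
    exact ⟨a • b, by rw [mk_eq_smul_one, tmul_smul, smul_tmul']⟩
  | add y₁ y₂ h₁ h₂ =>
    obtain ⟨b₁, rfl⟩ := h₁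
    obtain ⟨b₂, rfl⟩ := h₂
    exact ⟨b₁ + b₂, (add_tmul _ _ _).symm⟩

/-- L4 -/
theorem smul_eq_zero_of_mem {t : A} (ht : t ∈ p) (y : B ⊗[A] (A ⧸ p)) : t • y = 0 := by
  induction y using TensorProduct.induction_on with
  | zero => exact smul_zero _
  | tmul b d =>
    obtain ⟨a, rfl⟩ := Ideal.Quotient.mk_surjective d
    rw [← tmul_smul, Algebra.smul_def]
    have : algebraMap A (A ⧸ p) t = 0 := Ideal.Quotient.eq_zero_iff_mem.mpr ht
    rw [this, zero_mul, tmul_zero]
  | add y₁ y₂ h₁ h₂ => rw [smul_add, h₁, h₂, add_zero]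

/-- L2 -/
theorem tmul_one_eq_zero {b : B} (hb : b ∈ p.map (algebraMap A B)) :
    b ⊗ₜ[A] (1 : A ⧸ p) = 0 := by
  refine Submodule.span_induction ?_ ?_ ?_ ?_ hb
  · rintro _ ⟨t, ht, rfl⟩
    have h1 := smul_eq_zero_of_mem p B ht ((1 : B) ⊗ₜ[A] (1 : A ⧸ p))
    rw [smul_tmul', Algebra.smul_def, mul_one] at h1
    exact h1
  · exact zero_tmul _ _
  · intro x y _ _ hx hy
    rw [add_tmul, hx, hy, add_zero]
  · intro c x _ hx
    rw [← smul_tmul', hx, smul_zero]

/-- L3 -/
theorem eq_zero_of_smul [p.IsPrime] [Module.Flat A B] {s : A} (hs : s ∉ p)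
    (y : B ⊗[A] (A ⧸ p)) (hy : s • y = 0) : y = 0 := by
  have hreg : IsSMulRegular (A ⧸ p) s := by
    intro d₁ d₂ h
    simp only [Algebra.smul_def] at h
    refine mul_left_cancel₀ ?_ h
    intro h0
    exact hs (Ideal.Quotient.eq_zero_iff_mem.mp h0)
  have := IsSMulRegular.lTensor B hreg
  apply this
  simp only [hy, smul_zero]

end lemmas

section base

variable {A : Type u} [CommRing A] [IsNoetherianRing A] (p : Ideal A) [p.IsPrime]
  (F : Fam A (A ⧸ p))

/-- Step 1. -/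
theorem step1 : ∃ (s a : A), s ∉ p ∧
    s • F.x (Cpl A p) inferInstance (flat A p) = (1 : Cpl A p) ⊗ₜ[A] Ideal.Quotient.mk p a := by
  obtain ⟨b, hb⟩ := exists_tmul_one p (Cpl A p) (F.x (Cpl A p) inferInstance (flat A p))
  obtain ⟨r, t, ht, hrt⟩ := exists_residue A p b
  refine ⟨t, r, ht, ?_⟩
  have h1 := tmul_one_eq_zero p (Cpl A p) hrt
  rw [sub_tmul, sub_eq_zero] at h1
  rw [hb, smul_tmul', Algebra.smul_def, h1, mk_eq_smul_one, tmul_smul, smul_tmul',
    Algebra.smul_def, mul_one]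

theorem cancel_one_tmul (B : Type u) [CommRing B] [Algebra A B] [IsNoetherianRing B]
    (P : Ideal B) [P.IsPrime] (D : Type u) [AddCommGroup D] [Module A D] (z : B ⊗[A] D) :
    TensorProduct.AlgebraTensorModule.cancelBaseChange A B B (Cpl B P) D
      ((1 : Cpl B P) ⊗ₜ[B] z) =
      LinearMap.rTensor D (IsScalarTower.toAlgHom A B (Cpl B P)).toLinearMap z := by
  induction z using TensorProduct.induction_on with
  | zero => simp
  | tmul b d =>
    rw [TensorProduct.AlgebraTensorModule.cancelBaseChange_tmul, LinearMap.rTensor_tmul,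
      Algebra.smul_def, mul_one]
    rfl
  | add y₁ y₂ h₁ h₂ => rw [tmul_add, map_add, map_add, h₁, h₂]

/-- Step 2. -/
theorem step2 (s a : A)
    (h0 : s • F.x (Cpl A p) inferInstance (flat A p) =
      (1 : Cpl A p) ⊗ₜ[A] Ideal.Quotient.mk p a)
    (B : Type u) [CommRing B] [Algebra A B] [IsNoetherianRing B] [IsLocalRing B]
    (hB : IsAdicComplete (maximalIdeal B) B) (hBf : Module.Flat A B) :
    s • F.x B hB hBf = (1 : B) ⊗ₜ[A] Ideal.Quotient.mk p a := by
  by_contra hne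
  obtain ⟨z, hz⟩ : ∃ z : B ⊗[A] (A ⧸ p),
      z = s • F.x B hB hBf - (1 : B) ⊗ₜ[A] Ideal.Quotient.mk p a := ⟨_, rfl⟩
  have hz0 : z ≠ 0 := by
    intro h
    rw [hz, sub_eq_zero] at h
    exact hne h
  have hdisj : Disjoint (Ideal.torsionOf B (B ⊗[A] (A ⧸ p)) z : Set B)
      (Submonoid.map (algebraMap A B) p.primeCompl : Set B) := by
    rw [Set.disjoint_left]
    rintro _ hb ⟨t, ht, rfl⟩
    have h1 : algebraMap A B t • z = 0 := (Ideal.mem_torsionOf_iff z _).mp hb
    rw [algebraMap_smul] at h1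
    exact hz0 (eq_zero_of_smul p B ht z h1)
  obtain ⟨P, hPprime, hPle, hPdisj⟩ := Ideal.exists_le_prime_disjoint _ _ hdisj
  have hPcomap : P.comap (algebraMap A B) = p := by
    ext t
    rw [Ideal.mem_comap]
    constructor
    · intro ht
      by_contra htp
      exact (Set.disjoint_left.mp hPdisj) ht ⟨t, htp, rfl⟩
    · intro ht
      apply hPle
      rw [Ideal.mem_torsionOf_iff, algebraMap_smul]
      exact smul_eq_zero_of_mem p B ht z
  haveI hCflat : Module.Flat A (Cpl B P) :=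
    haveI := flat B P
    Module.Flat.trans A B (Cpl B P)
  have hCcomap : (maximalIdeal (Cpl B P)).comap (algebraMap A (Cpl B P)) = p := by
    rw [IsScalarTower.algebraMap_eq A B (Cpl B P), ← Ideal.comap_comap, comap_maximalIdeal,
      hPcomap]
  obtain ⟨g₀⟩ := exists_algHom A p (Cpl B P) hCcomap
  have e0 := F.hx (Cpl A p) inferInstance (flat A p) (Cpl B P) inferInstance hCflat g₀
  have e1 := F.hx B hB hBf (Cpl B P) inferInstance hCflat (IsScalarTower.toAlgHom A B (Cpl B P))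
  have hzC : LinearMap.rTensor (A ⧸ p) (IsScalarTower.toAlgHom A B (Cpl B P)).toLinearMap z
      = 0 := by
    rw [hz, map_sub, map_smul, e1, ← e0, ← map_smul, h0, LinearMap.rTensor_tmul,
      LinearMap.rTensor_tmul, sub_eq_zero]
    simp
  have h1z : (1 : Cpl B P) ⊗ₜ[B] z = 0 := by
    apply (TensorProduct.AlgebraTensorModule.cancelBaseChange A B B (Cpl B P) (A ⧸ p)).injective
    rw [cancel_one_tmul, hzC, map_zero]
  obtain ⟨t, ht, htz⟩ := exists_smul_eq_zero B P (B ⊗[A] (A ⧸ p)) z h1z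
  exact ht (hPle ((Ideal.mem_torsionOf_iff z t).mpr htz))

/-- local-global: an element killed in all `Cpl A n ⊗ Q` is zero. -/
theorem eq_zero_of_forall_maximal (Q : Type u) [AddCommGroup Q] [Module A Q] (x : Q)
    (h : ∀ (n : Ideal A) [n.IsMaximal], (1 : Cpl A n) ⊗ₜ[A] x = 0) : x = 0 := by
  by_contra hx
  have hne : Ideal.torsionOf A Q x ≠ ⊤ := by
    intro htop
    have h1 : (1 : A) ∈ Ideal.torsionOf A Q x := by rw [htop]; trivial
    rw [Ideal.mem_torsionOf_iff, one_smul] at h1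
    exact hx h1
  obtain ⟨n, hn, hle⟩ := Ideal.exists_le_maximal _ hne
  obtain ⟨t, ht, htx⟩ := exists_smul_eq_zero A n Q x (h n)
  exact ht (hle ((Ideal.mem_torsionOf_iff x t).mpr htx))

theorem smul_eq_zero_of_mem' (I : Ideal A) (B : Type u) [CommRing B] [Algebra A B]
    {t : A} (ht : t ∈ I) (y : B ⊗[A] (A ⧸ I)) : t • y = 0 := by
  induction y using TensorProduct.induction_on with
  | zero => exact smul_zero _
  | tmul b d =>
    obtain ⟨a, rfl⟩ := Ideal.Quotient.mk_surjective d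
    rw [← tmul_smul, Algebra.smul_def]
    have : algebraMap A (A ⧸ I) t = 0 := Ideal.Quotient.eq_zero_iff_mem.mpr ht
    rw [this, zero_mul, tmul_zero]
  | add y₁ y₂ h₁ h₂ => rw [smul_add, h₁, h₂, add_zero]

/-- Step 3. -/
theorem step3 (s a : A)
    (h : ∀ (B : Type u) [CommRing B] [Algebra A B] [IsNoetherianRing B] [IsLocalRing B]
      (hB : IsAdicComplete (maximalIdeal B) B) (hBf : Module.Flat A B),
      s • F.x B hB hBf = (1 : B) ⊗ₜ[A] Ideal.Quotient.mk p a) :
    ∃ m : A, Ideal.Quotient.mk p a = s • Ideal.Quotient.mk p m := by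
  obtain ⟨I, hI⟩ : ∃ I : Ideal A, I = p ⊔ Ideal.span {s} := ⟨_, rfl⟩
  have hpI : p ≤ I := hI ▸ le_sup_left
  have hsI : s ∈ I := hI ▸ (le_sup_right : Ideal.span {s} ≤ p ⊔ Ideal.span {s})
    (Ideal.subset_span rfl)
  have h0 : Ideal.Quotient.mk I a = 0 := by
    apply eq_zero_of_forall_maximal (A := A) (A ⧸ I)
    intro n hn
    have h1 := h (Cpl A n) inferInstance (flat A n)
    have h2 := congrArg (LinearMap.lTensor (Cpl A n) (Ideal.Quotient.factorₐ A hpI).toLinearMap) h1
    rw [map_smul, LinearMap.lTensor_tmul, smul_eq_zero_of_mem' I (Cpl A n) hsI] at h2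
    rw [h2]
    rfl
  have haI : a ∈ I := Ideal.Quotient.eq_zero_iff_mem.mp h0
  rw [hI, Submodule.mem_sup] at haI
  obtain ⟨x, hx, y, hy, hxy⟩ := haI
  obtain ⟨m, rfl⟩ := Ideal.mem_span_singleton'.mp hy
  refine ⟨m, ?_⟩
  rw [← hxy, map_add, Ideal.Quotient.eq_zero_iff_mem.mpr hx, zero_add, Algebra.smul_def,
    map_mul, mul_comm]
  rfl

/-- The base case: families on `A ⧸ p` are constant. -/
theorem base : ∃ m, F.IsConst m := by
  obtain ⟨s, a, hs, h0⟩ := step1 p F
  obtain ⟨m, hm⟩ := step3 p F s a (fun B _ _ _ _ hB hBf => step2 p F s a h0 B hB hBf)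
  refine ⟨Ideal.Quotient.mk p m, fun B _ _ _ _ hB hBf => ?_⟩
  have h2 := step2 p F s a h0 B hB hBf
  rw [hm, tmul_smul] at h2
  rw [← sub_eq_zero]
  apply eq_zero_of_smul p B hs
  rw [smul_sub, h2, sub_self]

end base

/-- Main theorem. -/
theorem main11181 (A : Type u) [CommRing A] [IsNoetherianRing A] (M : Type u) [AddCommGroup M]
    [Module A M] [Module.Finite A M] (F : Fam A M) :
    ∃! m : M, F.IsConst m := by
  obtain ⟨m, hm⟩ := dev (fun p _ F => base p F) M F
  refine ⟨m, hm, fun m' hm' => ?_⟩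
  rw [← sub_eq_zero]
  apply eq_zero_of_forall_maximal (A := A) M
  intro n hn
  rw [tmul_sub, sub_eq_zero, ← hm (Cpl A n) inferInstance (flat A n),
    ← hm' (Cpl A n) inferInstance (flat A n)]

end Groth.Agent.Lib.Helper8.WB3
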