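import Mathlib

set_option backward.isDefEq.respectTransparency.types false
set_option synthInstance.maxHeartbeats 400000
set_option autoImplicit false
set_option linter.unusedSectionVars false
set_option linter.style.haveILetI false

universe u

namespace Groth.Agent.Lib.Helper8.WC1

open IsLocalRing

theorem core (k D : Type u) [Field k] [CommRing D] [IsDomain D] [Algebra k D]
    (R : Type u) [CommRing R] [Algebra k R] (e : R ≃ₐ[k] PowerSeries D) (x : R)
    (hx : e x = PowerSeries.X) (P : Ideal R) (hP : P = Ideal.span {x}) [P.IsPrime] :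
    ∃ (A : Type u) (_ : CommRing A) (_ : IsDomain A) (_ : IsDiscreteValuationRing A)
      (_ : Algebra k A) (φ : Localization.AtPrime P →ₐ[k] A),
      IsAdicComplete (IsLocalRing.maximalIdeal A) A ∧ IsAlgClosed (IsLocalRing.ResidueField A) ∧
        Function.Injective φ ∧ IsLocalHom φ.toRingHom ∧
          Irreducible (φ (algebraMap R (Localization.AtPrime P) x)) := by
  obtain ⟨j, hj⟩ : ∃ j : D →ₐ[k] AlgebraicClosure (FractionRing D), j =
      IsScalarTower.toAlgHom k D (AlgebraicClosure (FractionRing D)) := ⟨_, rfl⟩
  have hjinj : Function.Injective j := by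
    rw [hj]
    change Function.Injective (algebraMap D (AlgebraicClosure (FractionRing D)))
    rw [IsScalarTower.algebraMap_eq D (FractionRing D) (AlgebraicClosure (FractionRing D))]
    exact (algebraMap (FractionRing D) (AlgebraicClosure (FractionRing D))).injective.comp
      (IsFractionRing.injective D (FractionRing D))
  obtain ⟨Φ, hΦ⟩ : ∃ Φ : R →ₐ[k] PowerSeries (AlgebraicClosure (FractionRing D)),
      Φ = (PowerSeries.mapAlgHom j).comp e.toAlgHom := ⟨_, rfl⟩
  have hΦapp : ∀ r, Φ r = PowerSeries.map (j : D →+* _) (e r) := by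
    intro r; rw [hΦ]; rfl
  have hΦinj : Function.Injective Φ := by
    intro a b hab
    rw [hΦapp, hΦapp] at hab
    exact e.injective (PowerSeries.map_injective _ hjinj hab)
  have hΦx : Φ x = PowerSeries.X := by
    rw [hΦapp, hx, PowerSeries.map_X]
  have hmemP : ∀ r, r ∈ P ↔ PowerSeries.constantCoeff (e r) = 0 := by
    intro r
    rw [hP, Ideal.mem_span_singleton, ← PowerSeries.X_dvd_iff, ← hx]
    constructor
    · rintro ⟨c, rfl⟩
      exact ⟨e c, map_mul e x c⟩
    · rintro ⟨c, hc⟩
      refine ⟨e.symm c, ?_⟩
      apply e.injective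
      rw [map_mul, AlgEquiv.apply_symm_apply, hc]
  have hunit : ∀ r, IsUnit (Φ r) ↔ r ∉ P := by
    intro r
    rw [hmemP, PowerSeries.isUnit_iff_constantCoeff, hΦapp, ← PowerSeries.coeff_zero_eq_constantCoeff_apply,
      ← PowerSeries.coeff_zero_eq_constantCoeff_apply, PowerSeries.coeff_map,
      isUnit_iff_ne_zero, ne_eq]
    exact not_congr (map_eq_zero_iff _ hjinj)
  have hu : ∀ y : P.primeCompl, IsUnit (Φ y) := fun y => (hunit y).mpr y.2
  obtain ⟨φ, hφ⟩ : ∃ φ : Localization.AtPrime P →ₐ[k] PowerSeries (AlgebraicClosure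
      (FractionRing D)), φ = IsLocalization.liftAlgHom (M := P.primeCompl) (f := Φ) hu :=
    ⟨_, rfl⟩
  have hφa : ∀ r, φ (algebraMap R (Localization.AtPrime P) r) = Φ r := by
    intro r
    rw [hφ]
    exact IsLocalization.lift_eq _ r
  refine ⟨PowerSeries (AlgebraicClosure (FractionRing D)), inferInstance, inferInstance,
    inferInstance, inferInstance, φ, ?_, ?_, ?_, ?_, ?_⟩
  · rw [PowerSeries.maximalIdeal_eq_span_X]
    infer_instance
  · exact IsAlgClosed.of_ringEquiv _ _ PowerSeries.residueFieldOfPowerSeries.symm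
  · have hu' : ∀ y : P.primeCompl, IsUnit ((Φ : R →+* PowerSeries (AlgebraicClosure
        (FractionRing D))) y) := hu
    have : Function.Injective (IsLocalization.lift (M := P.primeCompl)
        (S := Localization.AtPrime P) hu') := by
      rw [IsLocalization.lift_injective_iff]
      intro a b
      constructor
      · intro h
        have h2 := congrArg φ h
        rw [hφa, hφa] at h2
        exact h2
      · intro h
        rw [hΦinj h]
    rw [hφ]
    exact this
  · constructor
    intro a ha
    obtain ⟨⟨r, s⟩, rfl⟩ := IsLocalization.mk'_surjective P.primeCompl a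
    have h1 : φ (IsLocalization.mk' (Localization.AtPrime P) r s) * Φ s = Φ r := by
      rw [← hφa, ← hφa, ← map_mul, IsLocalization.mk'_spec]
    have h2 : IsUnit (Φ r) := by
      rw [← h1]
      exact IsUnit.mul ha (hu s)
    have hr : r ∉ P := (hunit r).mp h2
    have : IsUnit (algebraMap R (Localization.AtPrime P) r) :=
      IsLocalization.map_units (Localization.AtPrime P) (⟨r, hr⟩ : P.primeCompl)
    have h3 : IsLocalization.mk' (Localization.AtPrime P) r s *
        algebraMap R (Localization.AtPrime P) s = algebraMap R (Localization.AtPrime P) r :=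
      IsLocalization.mk'_spec _ r s
    have h4 : IsUnit (IsLocalization.mk' (Localization.AtPrime P) r s *
        algebraMap R (Localization.AtPrime P) s) := by rw [h3]; exact this
    exact isUnit_of_mul_isUnit_left h4
  · rw [hφa, hΦx]
    exact PowerSeries.X_prime.irreducible

theorem main15366 (k : Type u) [Field k]
    (P : Ideal (MvPowerSeries (Fin 2) k))
    (hP : P = Ideal.span {(MvPowerSeries.X 0 : MvPowerSeries (Fin 2) k)}) [P.IsPrime] :
    ∃ (A : Type u) (_ : CommRing A) (_ : IsDomain A) (_ : IsDiscreteValuationRing A) (_ : Algebra k A)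
      (φ : Localization.AtPrime P →ₐ[k] A),
      IsAdicComplete (IsLocalRing.maximalIdeal A) A ∧ IsAlgClosed (IsLocalRing.ResidueField A) ∧
        Function.Injective φ ∧ IsLocalHom φ.toRingHom ∧
          Irreducible (φ (algebraMap (MvPowerSeries (Fin 2) k) (Localization.AtPrime P)
            (MvPowerSeries.X 0))) := by
  haveI : IsDomain (MvPowerSeries (Fin 1) k) := NoZeroDivisors.to_isDomain _
  exact core k (MvPowerSeries (Fin 1) k) (MvPowerSeries (Fin 2) k)
    (MvPowerSeries.finSuccEquiv k 1) (MvPowerSeries.X 0) MvPowerSeries.finSuccEquiv_X_zero P hP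

end Groth.Agent.Lib.Helper8.WC1
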