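import Mathlib

set_option backward.isDefEq.respectTransparency.types false
set_option synthInstance.maxHeartbeats 400000
set_option autoImplicit false
set_option linter.unusedSectionVars false
set_option linter.style.haveILetI false

universe u

namespace Groth.Agent.Lib.Helper8.WD1

open IsLocalRing IsDedekindDomain

section dedekind

variable (B F : Type u) [CommRing B] [IsDedekindDomain B] [Field F] [Algebra B F]
  [IsFractionRing B F]

theorem exists_bezout (a b : B) (hb : b ≠ 0) :
    ∃ u w u' w' : B,
      algebraMap B F u * (algebraMap B F a / algebraMap B F b) + algebraMap B F w = 1 ∧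
      algebraMap B F u' = algebraMap B F u * (algebraMap B F a / algebraMap B F b) ∧
      algebraMap B F w' = algebraMap B F w * (algebraMap B F a / algebraMap B F b) := by
  have hb' : algebraMap B F b ≠ 0 := by
    intro h
    exact hb ((IsFractionRing.injective B F) (h.trans (map_zero _).symm))
  obtain ⟨I, hI⟩ : ∃ I : Ideal B, I = Ideal.span {a, b} := ⟨_, rfl⟩
  have haI : a ∈ I := hI ▸ Ideal.subset_span (by simp)
  have hbI : b ∈ I := hI ▸ Ideal.subset_span (by simp)
  have hIbot : I ≠ ⊥ := by
    intro h
    rw [h] at hbI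
    exact hb hbI
  have h1 := FractionalIdeal.coe_ideal_mul_inv (K := F) I hIbot
  have hone : (1 : F) ∈ ((I : FractionalIdeal (nonZeroDivisors B) F) *
      (I : FractionalIdeal (nonZeroDivisors B) F)⁻¹) := by
    rw [h1]
    exact FractionalIdeal.one_mem_one _
  have key : ∃ c d : F, c ∈ (I : FractionalIdeal (nonZeroDivisors B) F)⁻¹ ∧
      d ∈ (I : FractionalIdeal (nonZeroDivisors B) F)⁻¹ ∧
      (1 : F) = c * algebraMap B F a + d * algebraMap B F b := by
    refine FractionalIdeal.mul_induction_on (C := fun r => ∃ c d : F,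
      c ∈ (I : FractionalIdeal (nonZeroDivisors B) F)⁻¹ ∧
      d ∈ (I : FractionalIdeal (nonZeroDivisors B) F)⁻¹ ∧
      r = c * algebraMap B F a + d * algebraMap B F b) hone ?_ ?_
    · intro i hi j hj
      obtain ⟨i', hi', rfl⟩ := (FractionalIdeal.mem_coeIdeal _).mp hi
      rw [hI] at hi'
      obtain ⟨α, β, rfl⟩ := Ideal.mem_span_pair.mp hi'
      refine ⟨algebraMap B F α * j, algebraMap B F β * j, ?_, ?_, ?_⟩
      · have := Submodule.smul_mem
          (FractionalIdeal.coeToSubmodule (I : FractionalIdeal (nonZeroDivisors B) F)⁻¹) α hj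
        rwa [Algebra.smul_def] at this
      · have := Submodule.smul_mem
          (FractionalIdeal.coeToSubmodule (I : FractionalIdeal (nonZeroDivisors B) F)⁻¹) β hj
        rwa [Algebra.smul_def] at this
      · simp only [map_add, map_mul]
        ring
    · rintro x y ⟨c, d, hc, hd, rfl⟩ ⟨c', d', hc', hd', rfl⟩
      exact ⟨c + c', d + d', Submodule.add_mem _ hc hc', Submodule.add_mem _ hd hd', by ring⟩
  obtain ⟨c, d, hc, hd, hcd⟩ := key
  have hI0 : (I : FractionalIdeal (nonZeroDivisors B) F) ≠ 0 := by
    rw [Ne, FractionalIdeal.coeIdeal_eq_zero]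
    exact hIbot
  have hmemI : ∀ x ∈ I, algebraMap B F x ∈ (I : FractionalIdeal (nonZeroDivisors B) F) :=
    fun x hx => (FractionalIdeal.mem_coeIdeal _).mpr ⟨x, hx, rfl⟩
  obtain ⟨u, hu⟩ := (FractionalIdeal.mem_one_iff _).mp
    ((FractionalIdeal.mem_inv_iff hI0).mp hc _ (hmemI b hbI))
  obtain ⟨w, hw⟩ := (FractionalIdeal.mem_one_iff _).mp
    ((FractionalIdeal.mem_inv_iff hI0).mp hd _ (hmemI b hbI))
  obtain ⟨u', hu'⟩ := (FractionalIdeal.mem_one_iff _).mp
    ((FractionalIdeal.mem_inv_iff hI0).mp hc _ (hmemI a haI))
  obtain ⟨w', hw'⟩ := (FractionalIdeal.mem_one_iff _).mp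
    ((FractionalIdeal.mem_inv_iff hI0).mp hd _ (hmemI a haI))
  refine ⟨u, w, u', w', ?_, ?_, ?_⟩
  · rw [hu, hw, hcd]
    field_simp
  · rw [hu, hu']
    field_simp
  · rw [hw, hw']
    field_simp

/-- the centre of a valuation ring on `B` -/
def cen (O : ValuationSubring F) : Set B := {b | O.valuation (algebraMap B F b) < 1}

theorem cen_injOn (O O' : ValuationSubring F)
    (hO' : ∀ b : B, algebraMap B F b ∈ O') (h : cen B F O = cen B F O') : O ≤ O' := by
  intro f hf
  by_contra hf'
  obtain ⟨a, b, hb, rfl⟩ := IsFractionRing.div_surjective (A := B) f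
  have hb0 : b ≠ 0 := nonZeroDivisors.ne_zero hb
  obtain ⟨u, w, u', w', h1, h2, h3⟩ := exists_bezout B F a b hb0
  have hvf' : 1 < O'.valuation (algebraMap B F a / algebraMap B F b) := by
    rw [← not_le, ValuationSubring.valuation_le_one_iff]
    exact hf'
  have hvf : O.valuation (algebraMap B F a / algebraMap B F b) ≤ 1 :=
    (ValuationSubring.valuation_le_one_iff _ _).mpr hf
  have aux : ∀ z z' : B, algebraMap B F z' =
      algebraMap B F z * (algebraMap B F a / algebraMap B F b) → z ∈ cen B F O' := by
    intro z z' hz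
    change O'.valuation (algebraMap B F z) < 1
    by_contra hcon
    rw [not_lt] at hcon
    have h4 : O'.valuation (algebraMap B F z') ≤ 1 :=
      (ValuationSubring.valuation_le_one_iff _ _).mpr (hO' z')
    rw [hz, map_mul] at h4
    have h5 : 1 * O'.valuation (algebraMap B F a / algebraMap B F b) ≤
        O'.valuation (algebraMap B F z) * O'.valuation (algebraMap B F a / algebraMap B F b) :=
      mul_le_mul' hcon le_rfl
    rw [one_mul] at h5
    exact absurd (lt_of_lt_of_le hvf' (h5.trans h4)) (lt_irrefl _)
  have hu : u ∈ cen B F O := h ▸ aux u u' h2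
  have hw : w ∈ cen B F O := h ▸ aux w w' h3
  have h6 : O.valuation (algebraMap B F u * (algebraMap B F a / algebraMap B F b)) < 1 := by
    rw [map_mul]
    calc O.valuation (algebraMap B F u) * O.valuation (algebraMap B F a / algebraMap B F b)
        ≤ O.valuation (algebraMap B F u) * 1 := mul_le_mul' le_rfl hvf
      _ = O.valuation (algebraMap B F u) := mul_one _
      _ < 1 := hu
  have h7 := Valuation.map_add_lt O.valuation h6 hw
  rw [h1, map_one] at h7
  exact lt_irrefl _ h7

theorem finite_valuationSubrings (y : B) (hy : y ≠ 0) :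
    {O : ValuationSubring F | (∀ b : B, algebraMap B F b ∈ O) ∧
      O.valuation (algebraMap B F y) < 1}.Finite := by
  apply Set.Finite.of_finite_image (f := cen B F)
  · have hfin : ((fun v : HeightOneSpectrum B => (v.asIdeal : Set B)) ''
        {v | v.asIdeal ∣ Ideal.span {y}}).Finite := by
      apply Set.Finite.image
      apply Ideal.finite_factors
      rw [Ne, Ideal.zero_eq_bot, Ideal.span_singleton_eq_bot]
      exact hy
    refine hfin.subset ?_
    rintro _ ⟨O, ⟨hO, hOy⟩, rfl⟩
    have hle : ∀ b : B, O.valuation (algebraMap B F b) ≤ 1 :=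
      fun b => (ValuationSubring.valuation_le_one_iff _ _).mpr (hO b)
    obtain ⟨n, hn⟩ : ∃ n : Ideal B, (n : Set B) = cen B F O := by
      refine ⟨{ carrier := cen B F O
                add_mem' := ?_
                zero_mem' := ?_
                smul_mem' := ?_ }, rfl⟩
      · intro a b ha hb
        change O.valuation (algebraMap B F (a + b)) < 1
        rw [map_add]
        exact Valuation.map_add_lt _ ha hb
      · change O.valuation (algebraMap B F 0) < 1
        rw [map_zero, map_zero]
        exact zero_lt_one
      · intro c b hb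
        change O.valuation (algebraMap B F (c • b)) < 1
        rw [smul_eq_mul, map_mul, map_mul]
        calc O.valuation (algebraMap B F c) * O.valuation (algebraMap B F b)
            ≤ 1 * O.valuation (algebraMap B F b) := mul_le_mul' (hle c) le_rfl
          _ = O.valuation (algebraMap B F b) := one_mul _
          _ < 1 := hb
    have hmem : ∀ b, b ∈ n ↔ O.valuation (algebraMap B F b) < 1 := by
      intro b
      rw [← SetLike.mem_coe, hn]
      rfl
    have hprime : n.IsPrime := by
      rw [Ideal.isPrime_iff]
      constructor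
      · intro htop
        have : (1 : B) ∈ n := htop ▸ Submodule.mem_top
        rw [hmem, map_one, map_one] at this
        exact lt_irrefl _ this
      · intro a b hab
        rw [hmem, map_mul, map_mul] at hab
        by_contra hcon
        rw [not_or, hmem, hmem, not_lt, not_lt] at hcon
        have : (1 : ValuationSubring.ValueGroup O) * 1 ≤ O.valuation (algebraMap B F a) *
            O.valuation (algebraMap B F b) := mul_le_mul' hcon.1 hcon.2
        rw [one_mul] at this
        exact absurd (lt_of_le_of_lt this hab) (lt_irrefl _)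
    have hyn : y ∈ n := (hmem y).mpr hOy
    have hbot : n ≠ ⊥ := by
      intro h
      rw [h] at hyn
      exact hy hyn
    refine ⟨⟨n, hprime, hbot⟩, ?_, hn⟩
    change n ∣ Ideal.span {y}
    rw [Ideal.dvd_iff_le, Ideal.span_singleton_le_iff_mem]
    exact hyn
  · rintro O ⟨hO, -⟩ O' ⟨hO', -⟩ h
    exact le_antisymm (cen_injOn B F O O' hO' h) (cen_injOn B F O' O hO h.symm)

end dedekind

end Groth.Agent.Lib.Helper8.WD1
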