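import Mathlib
import Groth.Agent.Lib.Helper8.WD1
import Groth.Agent.Lib.Helper21.NagFin6

set_option backward.isDefEq.respectTransparency.types false
set_option synthInstance.maxHeartbeats 400000
set_option autoImplicit false
set_option linter.unusedSectionVars false
set_option linter.style.haveILetI false

universe u

namespace Groth.Agent.Lib.Helper8.WD2

open IsLocalRing

theorem mem_of_isIntegral (C F : Type u) [CommRing C] [Field F] [Algebra C F]
    (O : ValuationSubring F) (hO : ∀ c : C, algebraMap C F c ∈ O) (b : F) (hb : IsIntegral C b) :
    b ∈ O := by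
  letI : Algebra C O := (RingHom.codRestrict (algebraMap C F) O.toSubring hO).toAlgebra
  haveI : IsScalarTower C O F := IsScalarTower.of_algebraMap_eq (fun c => rfl)
  have h1 : IsIntegral O b := hb.tower_top
  obtain ⟨y, hy⟩ := IsIntegrallyClosed.isIntegral_iff.mp h1
  rw [← hy]
  exact y.2

theorem n2_core (C F : Type u) [CommRing C] [IsDomain C] [IsNoetherianRing C]
    [Ring.DimensionLEOne C] (hN2 : CAlg.IsN2 C) [Field F] [Algebra C F]
    [Algebra (FractionRing C) F] [IsScalarTower C (FractionRing C) F]
    [FiniteDimensional (FractionRing C) F] (y : C) (hy : y ≠ 0) :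
    {O : ValuationSubring F | (∀ c : C, algebraMap C F c ∈ O) ∧
      O.valuation (algebraMap C F y) < 1}.Finite := by
  haveI hfin : Module.Finite C (integralClosure C F) := hN2 F inferInstance
  haveI : IsNoetherianRing (integralClosure C F) := IsNoetherianRing.of_finite C _
  haveI : IsFractionRing (integralClosure C F) F :=
    integralClosure.isFractionRing_of_finite_extension (FractionRing C) F
  haveI : IsIntegrallyClosed (integralClosure C F) :=
    integralClosure.isIntegrallyClosedOfFiniteExtension (FractionRing C)
  haveI : Ring.DimensionLEOne (integralClosure C F) := Ring.DimensionLEOne.integralClosure C F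
  haveI : IsDedekindDomain (integralClosure C F) :=
    (isDedekindDomain_iff (integralClosure C F) F).mpr
      ⟨inferInstance, inferInstance, inferInstance, fun hx => IsIntegrallyClosed.isIntegral_iff.mp hx⟩
  have hinj : Function.Injective (algebraMap C F) := by
    rw [IsScalarTower.algebraMap_eq C (FractionRing C) F]
    exact (algebraMap (FractionRing C) F).injective.comp (IsFractionRing.injective C _)
  have hyB : (algebraMap C (integralClosure C F) y) ≠ 0 := by
    intro h
    apply hy
    apply hinj
    rw [map_zero, IsScalarTower.algebraMap_apply C (integralClosure C F) F, h, map_zero]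
  refine (WD1.finite_valuationSubrings (integralClosure C F) F _ hyB).subset ?_
  rintro O ⟨hO, hOy⟩
  refine ⟨fun b => mem_of_isIntegral C F O hO _ b.2, ?_⟩
  rw [← IsScalarTower.algebraMap_apply C (integralClosure C F) F]
  exact hOy

end Groth.Agent.Lib.Helper8.WD2
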