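import Mathlib
import Groth.Agent.Lib.Helper8.WD2
import Groth.Agent.Lib.Helper12.IntegralDim

set_option backward.isDefEq.respectTransparency.types false
set_option synthInstance.maxHeartbeats 400000
set_option autoImplicit false
set_option linter.unusedSectionVars false
set_option linter.style.haveILetI false

universe u

namespace Groth.Agent.Lib.Helper8.WD3

open IsLocalRing Polynomial

theorem finiteDimensional_of_adjoin (K F : Type u) [Field K] [Field F] [Algebra K F]
    (S' : Set F) [Finite S'] (hint : ∀ s ∈ S', IsIntegral K s)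
    (htop : ∀ f : F, f ∈ IntermediateField.adjoin K S') : FiniteDimensional K F := by
  haveI := IntermediateField.finiteDimensional_adjoin hint
  have h : IntermediateField.adjoin K S' = ⊤ := by
    rw [eq_top_iff]
    intro f _
    exact htop f
  rw [h] at this
  exact Module.Finite.equiv (IntermediateField.topEquiv (F := K) (E := F)).toLinearEquiv

theorem main11085 (k A F : Type u) [Field k]
    [CommRing A] [IsDomain A] [Algebra k A] [Algebra.FiniteType k A] (hA : ringKrullDim A = 1)
    [Field F] [Algebra A F] [IsFractionRing A F] [Algebra k F] [IsScalarTower k A F] :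
    {O : ValuationSubring F | (algebraMap k F).range ≤ O.toSubring ∧
        ¬ (algebraMap A F).range ≤ O.toSubring}.Finite := by
  classical
  obtain ⟨s, g, hginj, hgint⟩ := exists_integral_inj_algHom_of_fg k A
  have hs : s = 1 := by
    letI : Algebra (MvPolynomial (Fin s) k) A := g.toRingHom.toAlgebra
    haveI : Algebra.IsIntegral (MvPolynomial (Fin s) k) A := ⟨hgint⟩
    have h1 := Groth.Agent.Lib.Helper12.ringKrullDim_eq_of_isIntegral_of_injective
      (MvPolynomial (Fin s) k) A hginj
    rw [hA, MvPolynomial.ringKrullDim_of_isNoetherianRing, ringKrullDim_eq_zero_of_field,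
      zero_add, Nat.card_fin] at h1
    exact_mod_cast h1
  subst hs
  obtain ⟨x, hx⟩ : ∃ x : A, x = g (MvPolynomial.X 0) := ⟨_, rfl⟩
  obtain ⟨xF, hxF⟩ : ∃ xF : F, xF = algebraMap A F x := ⟨_, rfl⟩
  have hgX : ∀ i : Fin 1, algebraMap A F (g (MvPolynomial.X i)) = xF := by
    intro i
    rw [Subsingleton.elim i 0, ← hx, hxF]
  have hgC : ∀ c : k, algebraMap A F (g (MvPolynomial.C c)) = algebraMap k F c := by
    intro c
    rw [← MvPolynomial.algebraMap_eq, g.commutes, ← IsScalarTower.algebraMap_apply]
  have htr : Transcendental k xF := by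
    have h1 := (MvPolynomial.algebraicIndependent_X (Fin 1) k).map'
      (f := (IsScalarTower.toAlgHom k A F).comp g)
      ((IsFractionRing.injective A F).comp hginj)
    have h2 := h1.transcendental 0
    simpa [hgX] using h2
  have htry : Transcendental k xF⁻¹ := fun h => htr (by simpa using h.inv)
  letI algC : Algebra (Polynomial k) F := (Polynomial.aeval xF⁻¹).toRingHom.toAlgebra
  have halgC : ∀ p : Polynomial k, algebraMap (Polynomial k) F p = Polynomial.aeval xF⁻¹ p :=
    fun p => rfl
  haveI : IsScalarTower k (Polynomial k) F := IsScalarTower.of_algebraMap_eq (fun c => by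
    rw [halgC, Polynomial.algebraMap_apply, Algebra.algebraMap_self, RingHom.id_apply,
      Polynomial.aeval_C])
  haveI : FaithfulSMul (Polynomial k) F :=
    (faithfulSMul_iff_algebraMap_injective _ _).mpr (transcendental_iff_injective.mp htry)
  letI := FractionRing.liftAlgebra (Polynomial k) F
  haveI := FractionRing.isScalarTower_liftAlgebra (Polynomial k) F
  haveI : IsScalarTower k (FractionRing (Polynomial k)) F := IsScalarTower.of_algebraMap_eq
    (fun c => by
      rw [IsScalarTower.algebraMap_apply k (Polynomial k) (FractionRing (Polynomial k)),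
        ← IsScalarTower.algebraMap_apply (Polynomial k) (FractionRing (Polynomial k)) F,
        ← IsScalarTower.algebraMap_apply k (Polynomial k) F])
  -- integrality over K
  obtain ⟨ψ, hψ⟩ : ∃ ψ : MvPolynomial (Fin 1) k →ₐ[k] FractionRing (Polynomial k),
      ψ = MvPolynomial.aeval (fun _ => (algebraMap (Polynomial k) (FractionRing (Polynomial k))
        Polynomial.X)⁻¹) := ⟨_, rfl⟩
  have hcomp : (algebraMap (FractionRing (Polynomial k)) F).comp (ψ : _ →+* _) =
      (algebraMap A F).comp (g : MvPolynomial (Fin 1) k →+* A) := by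
    apply MvPolynomial.ringHom_ext
    · intro c
      simp only [RingHom.comp_apply, RingHom.coe_coe]
      rw [hgC, ← MvPolynomial.algebraMap_eq, ψ.commutes, ← IsScalarTower.algebraMap_apply]
    · intro i
      simp only [RingHom.comp_apply, RingHom.coe_coe]
      rw [hgX, hψ, MvPolynomial.aeval_X, map_inv₀,
        ← IsScalarTower.algebraMap_apply (Polynomial k) (FractionRing (Polynomial k)) F, halgC,
        Polynomial.aeval_X, inv_inv]
  have hintA : ∀ a : A, IsIntegral (FractionRing (Polynomial k)) (algebraMap A F a) := by
    intro a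
    obtain ⟨p, hpm, hp⟩ := hgint a
    refine ⟨p.map (ψ : _ →+* _), hpm.map _, ?_⟩
    rw [Polynomial.eval₂_map, hcomp, ← Polynomial.hom_eval₂]
    have : Polynomial.eval₂ (g : MvPolynomial (Fin 1) k →+* A) a p = 0 := hp
    rw [this, map_zero]
  haveI : FiniteDimensional (FractionRing (Polynomial k)) F := by
    obtain ⟨gens, hgens⟩ := (Algebra.FiniteType.out : (⊤ : Subalgebra k A).FG)
    haveI : Finite ((algebraMap A F) '' (gens : Set A)) := (gens.finite_toSet.image _).to_subtype
    refine finiteDimensional_of_adjoin (FractionRing (Polynomial k)) F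
      ((algebraMap A F) '' (gens : Set A)) ?_ ?_
    · rintro _ ⟨a, -, rfl⟩
      exact hintA a
    · have hAE : ∀ a : A, algebraMap A F a ∈ IntermediateField.adjoin (FractionRing (Polynomial k))
          ((algebraMap A F) '' (gens : Set A)) := by
        intro a
        have ha : a ∈ Algebra.adjoin k (gens : Set A) := by rw [hgens]; trivial
        induction ha using Algebra.adjoin_induction with
        | mem s hs => exact IntermediateField.subset_adjoin _ _ ⟨s, hs, rfl⟩
        | algebraMap c =>
          rw [← IsScalarTower.algebraMap_apply k A F,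
            IsScalarTower.algebraMap_apply k (FractionRing (Polynomial k)) F]
          exact IntermediateField.algebraMap_mem _ _
        | add a b _ _ ha hb => rw [map_add]; exact add_mem ha hb
        | mul a b _ _ ha hb => rw [map_mul]; exact mul_mem ha hb
      intro f
      obtain ⟨a, b, -, rfl⟩ := IsFractionRing.div_surjective (A := A) f
      exact div_mem (hAE a) (hAE b)
  have hfin := WD2.n2_core (Polynomial k) F
    (Groth.Agent.Lib.Helper21.FJ.isUniversallyJapanese_field k (Polynomial k) inferInstance)
    Polynomial.X Polynomial.X_ne_zero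
  refine hfin.subset ?_
  rintro O ⟨hkO, hAO⟩
  have hk : ∀ c : k, algebraMap k F c ∈ O := fun c => hkO ⟨c, rfl⟩
  have hxO : xF ∉ O := by
    intro hxO
    apply hAO
    rintro _ ⟨a, rfl⟩
    letI : Algebra (MvPolynomial (Fin 1) k) F :=
      ((algebraMap A F).comp (g : MvPolynomial (Fin 1) k →+* A)).toAlgebra
    have hmap : ∀ p : MvPolynomial (Fin 1) k, algebraMap (MvPolynomial (Fin 1) k) F p =
        algebraMap A F (g p) := fun p => rfl
    refine WD2.mem_of_isIntegral (MvPolynomial (Fin 1) k) F O ?_ _ ?_
    · intro p
      induction p using MvPolynomial.induction_on with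
      | C c => rw [hmap, hgC]; exact hk c
      | add p q hp hq => rw [map_add]; exact O.add_mem _ _ hp hq
      | mul_X p i hp => rw [map_mul, hmap (MvPolynomial.X i), hgX]; exact O.mul_mem _ _ hp hxO
    · obtain ⟨p, hpm, hp⟩ := hgint a
      refine ⟨p, hpm, ?_⟩
      change Polynomial.eval₂ ((algebraMap A F).comp (g : MvPolynomial (Fin 1) k →+* A)) _ p = 0
      rw [← Polynomial.hom_eval₂]
      have : Polynomial.eval₂ (g : MvPolynomial (Fin 1) k →+* A) a p = 0 := hp
      rw [this, map_zero]
  have hyO : xF⁻¹ ∈ O := (O.mem_or_inv_mem xF).resolve_left hxO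
  have hvy : O.valuation xF⁻¹ < 1 := by
    rw [map_inv₀]
    apply inv_lt_one_of_one_lt₀
    rw [← not_le, ValuationSubring.valuation_le_one_iff]
    exact hxO
  refine ⟨?_, ?_⟩
  · intro p
    rw [halgC]
    induction p using Polynomial.induction_on with
    | C c => rw [Polynomial.aeval_C]; exact hk c
    | add p q hp hq => rw [map_add]; exact O.add_mem _ _ hp hq
    | monomial n c hn =>
      rw [pow_succ, ← mul_assoc, map_mul, Polynomial.aeval_X]
      exact O.mul_mem _ _ hn hyO
  · rw [halgC, Polynomial.aeval_X]
    exact hvy

end Groth.Agent.Lib.Helper8.WD3
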