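import Mathlib

set_option backward.isDefEq.respectTransparency.types false
set_option synthInstance.maxHeartbeats 400000
set_option autoImplicit false
set_option linter.unusedSectionVars false
set_option linter.style.haveILetI false

universe u

namespace Groth.Agent.Lib.Helper8.WE1

/-- Every element of the residue field at a prime is a fraction of images of ring elements. -/
theorem exists_div {S : Type*} [CommRing S] (𝔮 : Ideal S) [𝔮.IsPrime] (x : 𝔮.ResidueField) :
    ∃ s s' : S, s' ∉ 𝔮 ∧ x = algebraMap S 𝔮.ResidueField s / algebraMap S 𝔮.ResidueField s' := by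
  obtain ⟨a, b, hb, hx⟩ := IsFractionRing.div_surjective (A := S ⧸ 𝔮) x
  obtain ⟨s, rfl⟩ := Ideal.Quotient.mk_surjective a
  obtain ⟨s', rfl⟩ := Ideal.Quotient.mk_surjective b
  refine ⟨s, s', ?_, ?_⟩
  · intro h
    have : (Ideal.Quotient.mk 𝔮 s') = 0 := Ideal.Quotient.eq_zero_iff_mem.mpr h
    rw [this] at hb
    exact zero_notMem_nonZeroDivisors hb
  · rw [← hx, Ideal.algebraMap_quotient_residueField_mk, Ideal.algebraMap_quotient_residueField_mk]

section
variable {A B : Type*} [CommRing A] [CommRing B] [Algebra A B]

/-- Elementwise form of "the image of `x` in `κ(r)` is purely inseparable over `κ(r ∩ A)`". -/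
def PIel (A : Type*) {B : Type*} [CommRing A] [CommRing B] [Algebra A B]
    (r : Ideal B) (q : ℕ) (x : B) : Prop :=
  ∃ (n : ℕ) (a b : A), algebraMap A B b ∉ r ∧
    algebraMap A B b * x ^ (q ^ n) - algebraMap A B a ∈ r

variable (r : Ideal B) [r.IsPrime] (p' : Ideal A) [p'.IsPrime]
  (hr : r.comap (algebraMap A B) = p') (q : ℕ) [ExpChar p'.ResidueField q]

include hr in
theorem piel_iff (x : B) :
    letI := (Ideal.ResidueField.map p' r (algebraMap A B) hr.symm).toAlgebra
    PIel A r q x ↔
      algebraMap B r.ResidueField x ∈ perfectClosure p'.ResidueField r.ResidueField := by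
  letI := (Ideal.ResidueField.map p' r (algebraMap A B) hr.symm).toAlgebra
  have hmap : ∀ a : A, algebraMap p'.ResidueField r.ResidueField (algebraMap A _ a) =
      algebraMap B r.ResidueField (algebraMap A B a) := fun a =>
    Ideal.ResidueField.map_algebraMap p' r (algebraMap A B) hr.symm a
  rw [mem_perfectClosure_iff_pow_mem q]
  constructor
  · rintro ⟨n, a, b, hb, hab⟩
    refine ⟨n, algebraMap A _ a / algebraMap A _ b, ?_⟩
    have hb' : algebraMap B r.ResidueField (algebraMap A B b) ≠ 0 := by
      rw [Ne, Ideal.algebraMap_residueField_eq_zero]; exact hb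
    have h0 : algebraMap B r.ResidueField (algebraMap A B b * x ^ (q ^ n) - algebraMap A B a) = 0 :=
      Ideal.algebraMap_residueField_eq_zero.mpr hab
    rw [map_sub, map_mul, map_pow, sub_eq_zero] at h0
    rw [map_div₀, hmap, hmap, ← h0, mul_div_cancel_left₀ _ hb']
  · rintro ⟨n, y, hy⟩
    obtain ⟨a, b, hb, rfl⟩ := exists_div p' y
    refine ⟨n, a, b, ?_, ?_⟩
    · intro h
      apply hb
      rw [← hr]; exact h
    · have hb' : algebraMap B r.ResidueField (algebraMap A B b) ≠ 0 := by
        rw [Ne, Ideal.algebraMap_residueField_eq_zero]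
        intro h
        apply hb
        rw [← hr]; exact h
      rw [← Ideal.algebraMap_residueField_eq_zero (I := r), map_sub, map_mul, map_pow, ← hy,
        map_div₀, hmap, hmap, mul_div_cancel₀ _ hb', sub_self]

include hr in
theorem piel_add {x y : B} (hx : PIel A r q x) (hy : PIel A r q y) : PIel A r q (x + y) := by
  letI := (Ideal.ResidueField.map p' r (algebraMap A B) hr.symm).toAlgebra
  rw [piel_iff r p' hr q] at hx hy ⊢
  rw [map_add]
  exact add_mem hx hy

include hr in
theorem piel_mul {x y : B} (hx : PIel A r q x) (hy : PIel A r q y) : PIel A r q (x * y) := by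
  letI := (Ideal.ResidueField.map p' r (algebraMap A B) hr.symm).toAlgebra
  rw [piel_iff r p' hr q] at hx hy ⊢
  rw [map_mul]
  exact mul_mem hx hy

omit [ExpChar p'.ResidueField q] in
theorem piel_algebraMap (a : A) : PIel A r q (algebraMap A B a) := by
  refine ⟨0, a, 1, ?_, ?_⟩
  · rw [map_one]; exact fun h => (‹r.IsPrime›).ne_top ((Ideal.eq_top_iff_one _).mpr h)
  · simp

include hr in
theorem piel_smul (a : A) {x : B} (hx : PIel A r q x) : PIel A r q (a • x) := by
  rw [Algebra.smul_def]
  exact piel_mul r p' hr q (piel_algebraMap r q a) hx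

include hr in
/-- If every element is elementwise purely inseparable then the residue field extension is. -/
theorem isPurelyInseparable_of_piel (h : ∀ x : B, PIel A r q x) :
    letI := (Ideal.ResidueField.map p' r (algebraMap A B) hr.symm).toAlgebra
    IsPurelyInseparable p'.ResidueField r.ResidueField := by
  letI := (Ideal.ResidueField.map p' r (algebraMap A B) hr.symm).toAlgebra
  rw [isPurelyInseparable_iff_perfectClosure_eq_top, eq_top_iff]
  intro y _
  obtain ⟨s, s', -, rfl⟩ := exists_div r y
  exact div_mem ((piel_iff r p' hr q s).mp (h s)) ((piel_iff r p' hr q s').mp (h s'))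

end

end Groth.Agent.Lib.Helper8.WE1
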