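import Mathlib

set_option backward.isDefEq.respectTransparency.types false
set_option synthInstance.maxHeartbeats 400000
set_option autoImplicit false
set_option linter.unusedSectionVars false
set_option linter.style.haveILetI false

universe u

open IntermediateField Polynomial

namespace Groth.Agent.Lib.Helper8.WE2

/-- A finite family of finite separable extensions embeds in a common finite Galois extension;
in particular all their minimal polynomials split there. -/
theorem exists_galois {k : Type u} [Field k] {ι : Type*} [Finite ι] (K : ι → Type u)
    [∀ i, Field (K i)] [∀ i, Algebra k (K i)] [∀ i, FiniteDimensional k (K i)]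
    [∀ i, Algebra.IsSeparable k (K i)] :
    ∃ (L : Type u) (_ : Field L) (_ : Algebra k L), FiniteDimensional k L ∧
      Algebra.IsSeparable k L ∧
      ∀ i (z : K i), ((minpoly k z).map (algebraMap k L)).Splits := by
  classical
  let σ : ∀ i, K i →ₐ[k] SeparableClosure k := fun i => IsSepClosed.lift
  choose α hα using fun i => Field.exists_primitive_element k (K i)
  let s : Set (SeparableClosure k) := Set.range fun i => σ i (α i)
  haveI : Finite s := (Set.finite_range _).to_subtype
  let L := FiniteGaloisIntermediateField.adjoin k s
  have hsub : s ⊆ L.toIntermediateField := FiniteGaloisIntermediateField.subset_adjoin k s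
  refine ⟨L.toIntermediateField, inferInstance, inferInstance, L.finiteDimensional,
    L.isGalois.to_isSeparable, ?_⟩
  intro i z
  have hmem : σ i z ∈ L.toIntermediateField := by
    have hz : z ∈ k⟮α i⟯ := by rw [hα i]; trivial
    have h1 : σ i z ∈ (k⟮α i⟯).map (σ i) := (IntermediateField.mem_map _).mpr ⟨z, hz, rfl⟩
    rw [IntermediateField.adjoin_map] at h1
    refine (IntermediateField.adjoin_le_iff.mpr ?_) h1
    rintro _ ⟨_, rfl, rfl⟩
    exact hsub ⟨i, rfl⟩
  have h1 := Normal.splits (L.isGalois.to_normal) ⟨σ i z, hmem⟩
  rw [IntermediateField.minpoly_eq] at h1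
  have h2 : minpoly k (σ i z) = minpoly k z := minpoly.algHom_eq (σ i) (σ i).injective z
  simp only at h1
  rw [h2] at h1
  exact h1

end Groth.Agent.Lib.Helper8.WE2
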