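import Mathlib
import Groth.Agent.Lib.Helper8.WE1

set_option backward.isDefEq.respectTransparency.types false
set_option synthInstance.maxHeartbeats 400000
set_option autoImplicit false
set_option linter.unusedSectionVars false
set_option linter.style.haveILetI false

universe u

open TensorProduct Polynomial
open Groth.Agent.Lib.Helper8.WE1

namespace Groth.Agent.Lib.Helper8.WE3

attribute [local instance] RingHom.ker_isPrime

section
variable {R S : Type u} [CommRing R] [CommRing S] [Algebra R S] [Algebra.IsIntegral R S]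
  (p : Ideal R) [p.IsPrime]
  {R₁ : Type u} [CommRing R₁] [Algebra R R₁]
  {L : Type u} [Field L] [Algebra p.ResidueField L]
  (φ : R₁ →+* L)
  (hφ : φ.comp (algebraMap R R₁) =
    (algebraMap p.ResidueField L).comp (algebraMap R p.ResidueField))
  (hfrac : ∀ c : L, ∃ a b : R₁, φ b ≠ 0 ∧ φ b * c = φ a)
  (hstar : ∀ (𝔮 : Ideal S) [𝔮.IsPrime] (h𝔮 : 𝔮.comap (algebraMap R S) = p),
     letI := (Ideal.ResidueField.map p 𝔮 (algebraMap R S) h𝔮.symm).toAlgebra
     ∀ z : 𝔮.ResidueField, IsSeparable p.ResidueField z →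
      ((minpoly p.ResidueField z).map (algebraMap p.ResidueField L)).Splits)
  (q : ℕ) [ExpChar p.ResidueField q]

include hφ in
theorem ker_comap : (RingHom.ker φ).comap (algebraMap R R₁) = p := by
  ext x
  rw [Ideal.mem_comap, RingHom.mem_ker]
  have h2 : φ (algebraMap R R₁ x) =
      algebraMap p.ResidueField L (algebraMap R p.ResidueField x) := RingHom.congr_fun hφ x
  rw [h2, map_eq_zero_iff _ (algebraMap p.ResidueField L).injective,
    Ideal.algebraMap_residueField_eq_zero]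

include hφ hfrac hstar in
theorem thmI (Q : Ideal (R₁ ⊗[R] S)) [Q.IsPrime]
    (hQ : Q.comap (algebraMap R₁ (R₁ ⊗[R] S)) = RingHom.ker φ) (s : S) :
    PIel R₁ Q q ((1 : R₁) ⊗ₜ[R] s) := by
  classical
  haveI hP₁ : (RingHom.ker φ).IsPrime := RingHom.ker_isPrime φ
  obtain ⟨𝔮, h𝔮def⟩ : ∃ 𝔮 : Ideal S, 𝔮 = Q.comap
    (Algebra.TensorProduct.includeRight : S →ₐ[R] R₁ ⊗[R] S).toRingHom := ⟨_, rfl⟩
  haveI : 𝔮.IsPrime := by rw [h𝔮def]; exact Ideal.comap_isPrime _ _
  have hinc : ∀ x : R, (Algebra.TensorProduct.includeRight : S →ₐ[R] R₁ ⊗[R] S).toRingHom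
      (algebraMap R S x) = algebraMap R₁ (R₁ ⊗[R] S) (algebraMap R R₁ x) := by
    intro x
    simp [Algebra.TensorProduct.algebraMap_apply, Algebra.TensorProduct.tmul_one_eq_one_tmul]
  have h𝔮 : 𝔮.comap (algebraMap R S) = p := by
    ext x
    rw [Ideal.mem_comap, h𝔮def, Ideal.mem_comap, hinc, ← Ideal.mem_comap, hQ,
      ← Ideal.mem_comap, ker_comap p φ hφ]
  letI := (Ideal.ResidueField.map p 𝔮 (algebraMap R S) h𝔮.symm).toAlgebra
  have hkκ : ∀ x : R, algebraMap p.ResidueField 𝔮.ResidueField (algebraMap R _ x) =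
      algebraMap S 𝔮.ResidueField (algebraMap R S x) := fun x =>
    Ideal.ResidueField.map_algebraMap p 𝔮 (algebraMap R S) h𝔮.symm x
  -- the maps into κ(Q)
  obtain ⟨μ, hμ⟩ : ∃ μ : 𝔮.ResidueField →+* Q.ResidueField, ∀ t : S,
      μ (algebraMap S _ t) = algebraMap _ Q.ResidueField ((1 : R₁) ⊗ₜ[R] t) :=
    ⟨Ideal.ResidueField.map 𝔮 Q _ h𝔮def, fun t =>
      Ideal.ResidueField.map_algebraMap 𝔮 Q _ h𝔮def t⟩
  obtain ⟨ν, hν⟩ : ∃ ν : (RingHom.ker φ).ResidueField →+* Q.ResidueField, ∀ b : R₁,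
      ν (algebraMap R₁ _ b) = algebraMap _ Q.ResidueField (algebraMap R₁ (R₁ ⊗[R] S) b) :=
    ⟨Ideal.ResidueField.map (RingHom.ker φ) Q _ hQ.symm, fun b =>
      Ideal.ResidueField.map_algebraMap (RingHom.ker φ) Q _ hQ.symm b⟩
  have hunits : (RingHom.ker φ).primeCompl ≤ (IsUnit.submonoid L).comap φ := by
    intro b hb
    rw [Submonoid.mem_comap, IsUnit.mem_submonoid_iff, isUnit_iff_ne_zero]
    exact fun h => hb (RingHom.mem_ker.mpr h)
  obtain ⟨φ', hφ'⟩ : ∃ φ' : (RingHom.ker φ).ResidueField →+* L, ∀ b : R₁,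
      φ' (algebraMap R₁ _ b) = φ b :=
    ⟨Ideal.ResidueField.lift (RingHom.ker φ) φ le_rfl hunits, fun b =>
      Ideal.ResidueField.lift_algebraMap _ φ le_rfl hunits b⟩
  have hsurj : Function.Surjective φ' := by
    intro c
    obtain ⟨a, b, hb, hab⟩ := hfrac c
    refine ⟨algebraMap R₁ _ a / algebraMap R₁ _ b, ?_⟩
    rw [map_div₀, hφ', hφ', ← hab, mul_div_cancel_left₀ _ hb]
  obtain ⟨lam, hlam⟩ : ∃ lam : L →+* Q.ResidueField, ∀ b : R₁,
      lam (φ b) = algebraMap _ Q.ResidueField (algebraMap R₁ (R₁ ⊗[R] S) b) := by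
    let e : (RingHom.ker φ).ResidueField ≃+* L := RingEquiv.ofBijective φ' ⟨φ'.injective, hsurj⟩
    refine ⟨ν.comp e.symm.toRingHom, fun b => ?_⟩
    have h1 : e.symm (φ b) = algebraMap R₁ _ b := by
      rw [RingEquiv.symm_apply_eq]
      exact (hφ' b).symm
    simp only [RingHom.coe_comp, Function.comp_apply, RingEquiv.toRingHom_eq_coe, RingHom.coe_coe]
    rw [h1, hν]
  have hk : lam.comp (algebraMap p.ResidueField L) =
      μ.comp (algebraMap p.ResidueField 𝔮.ResidueField) := by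
    apply Ideal.ResidueField.ringHom_ext
    ext x
    simp only [RingHom.coe_comp, Function.comp_apply]
    have h2 : algebraMap p.ResidueField L (algebraMap R p.ResidueField x) =
        φ (algebraMap R R₁ x) := (RingHom.congr_fun hφ x).symm
    rw [h2, hlam, hkκ, hμ, ← hinc]
    rfl
  -- the element
  obtain ⟨x₀, hx₀⟩ : ∃ x₀ : 𝔮.ResidueField, x₀ = algebraMap S _ s := ⟨_, rfl⟩
  have hint : IsIntegral p.ResidueField x₀ := by
    rw [hx₀]
    refine IsIntegral.map_of_comp_eq (algebraMap R p.ResidueField) (algebraMap S 𝔮.ResidueField)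
      ?_ (Algebra.IsIntegral.isIntegral s)
    ext x
    exact hkκ x
  obtain ⟨g, h1, n, h2⟩ := (minpoly.irreducible hint).hasSeparableContraction q
  have hzsep : IsSeparable p.ResidueField (x₀ ^ q ^ n) :=
    h1.of_dvd <| minpoly.dvd p.ResidueField _ <| by
      simpa only [expand_aeval, minpoly.aeval] using congr_arg (aeval x₀) h2
  have hsplit := hstar 𝔮 h𝔮 (x₀ ^ q ^ n) hzsep
  have hzint : IsIntegral p.ResidueField (x₀ ^ q ^ n) := hzsep.isIntegral
  have hf0 : (minpoly p.ResidueField (x₀ ^ q ^ n)).map (algebraMap p.ResidueField L) ≠ 0 :=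
    ((minpoly.monic hzint).map _).ne_zero
  have hroot : (((minpoly p.ResidueField (x₀ ^ q ^ n)).map
      (algebraMap p.ResidueField L)).map lam).IsRoot (μ (x₀ ^ q ^ n)) := by
    rw [Polynomial.map_map, hk, Polynomial.IsRoot.def, Polynomial.eval_map,
      ← Polynomial.hom_eval₂, ← Polynomial.aeval_def, minpoly.aeval, map_zero]
  obtain ⟨c, hc⟩ := hsplit.mem_range_of_isRoot hf0 hroot
  obtain ⟨a, b, hb, hab⟩ := hfrac c
  refine ⟨n, a, b, ?_, ?_⟩
  · intro h
    apply hb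
    have : b ∈ Q.comap (algebraMap R₁ (R₁ ⊗[R] S)) := h
    rw [hQ] at this
    exact RingHom.mem_ker.mp this
  · rw [← Ideal.algebraMap_residueField_eq_zero (I := Q), map_sub, map_mul, map_pow, ← hμ,
      ← hx₀, ← map_pow, ← hc, ← hlam, ← hlam, ← map_mul, hab, sub_self]

include hφ hfrac hstar in
theorem thmI_all [ExpChar (RingHom.ker φ).ResidueField q] (Q : Ideal (R₁ ⊗[R] S)) [Q.IsPrime]
    (hQ : Q.comap (algebraMap R₁ (R₁ ⊗[R] S)) = RingHom.ker φ) (t : R₁ ⊗[R] S) :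
    PIel R₁ Q q t := by
  haveI := RingHom.ker_isPrime φ
  induction t using TensorProduct.induction_on with
  | zero => simpa using piel_algebraMap (A := R₁) Q q (0 : R₁)
  | tmul a s =>
    have : a ⊗ₜ[R] s = a • ((1 : R₁) ⊗ₜ[R] s) := by
      rw [TensorProduct.smul_tmul', smul_eq_mul, mul_one]
    rw [this]
    exact piel_smul Q (RingHom.ker φ) hQ q a (thmI p φ hφ hfrac hstar q Q hQ s)
  | add x y hx hy => exact piel_add Q _ hQ q hx hy

omit [Algebra.IsIntegral R S] in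
theorem finite_primes [Algebra.Etale R R₁]
    (hfin : {𝔮 : PrimeSpectrum S | 𝔮.asIdeal.comap (algebraMap R S) = p}.Finite)
    (P₁ : Ideal R₁) (hP₁ : P₁.comap (algebraMap R R₁) = p) :
    {Q : PrimeSpectrum (R₁ ⊗[R] S) | Q.asIdeal.comap (algebraMap R₁ (R₁ ⊗[R] S)) = P₁}.Finite := by
  haveI : Algebra.QuasiFinite R R₁ := inferInstance
  have hG := Algebra.QuasiFinite.finite_comap_preimage (R := S) (S := S ⊗[R] R₁) hfin
  let c : S ⊗[R] R₁ ≃ₐ[R] R₁ ⊗[R] S := Algebra.TensorProduct.comm R S R₁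
  have hinj : Function.Injective (PrimeSpectrum.comap (c : S ⊗[R] R₁ →+* R₁ ⊗[R] S)) :=
    PrimeSpectrum.comap_injective_of_surjective _ c.surjective
  refine Set.Finite.subset (hG.preimage (hinj.injOn)) ?_
  intro Q hQ
  simp only [Set.mem_preimage, Set.mem_ofPred_eq] at hQ ⊢
  ext x
  simp only [PrimeSpectrum.comap_asIdeal, Ideal.mem_comap]
  have h1 : (c : S ⊗[R] R₁ →+* R₁ ⊗[R] S) (algebraMap S (S ⊗[R] R₁) (algebraMap R S x)) =
      algebraMap R₁ (R₁ ⊗[R] S) (algebraMap R R₁ x) := by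
    simp [c, Algebra.TensorProduct.algebraMap_apply]
    exact (Algebra.TensorProduct.tmul_one_eq_one_tmul x).symm
  rw [h1, ← Ideal.mem_comap, hQ, ← Ideal.mem_comap, hP₁]

end

end Groth.Agent.Lib.Helper8.WE3
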