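import Mathlib
import Groth.Agent.Lib.Helper8.WE1

set_option backward.isDefEq.respectTransparency.types false
set_option synthInstance.maxHeartbeats 400000
set_option autoImplicit false
set_option linter.unusedSectionVars false
set_option linter.style.haveILetI false

universe u

open TensorProduct Polynomial
open Groth.Agent.Lib.Helper8.WE1

namespace Groth.Agent.Lib.Helper8.WE4

/-- Merge the last idempotent of a complete orthogonal family into the first one. -/
theorem merge {B : Type*} [CommRing B] {m : ℕ} (e : Fin (m + 2) → B)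
    (he : CompleteOrthogonalIdempotents e) :
    ∃ ε : Fin (m + 1) → B, CompleteOrthogonalIdempotents ε ∧
      ∀ j, (ε j = e j.castSucc ∨ ε j = e j.castSucc + e (Fin.last (m + 1))) := by
  classical
  refine ⟨fun j => e j.castSucc + if j = 0 then e (Fin.last (m + 1)) else 0, ?_, ?_⟩
  · have hlast : ∀ j : Fin (m + 1), e j.castSucc * e (Fin.last (m + 1)) = 0 := fun j =>
      he.ortho (Fin.castSucc_lt_last j).ne
    have hlast' : ∀ j : Fin (m + 1), e (Fin.last (m + 1)) * e j.castSucc = 0 := fun j =>
      he.ortho (Fin.castSucc_lt_last j).ne'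
    have hll : e (Fin.last (m + 1)) * e (Fin.last (m + 1)) = e (Fin.last (m + 1)) := he.idem _
    have hjj : ∀ j : Fin (m + 1), e j.castSucc * e j.castSucc = e j.castSucc := fun j => he.idem _
    have hij : ∀ i j : Fin (m + 1), i ≠ j → e i.castSucc * e j.castSucc = 0 := fun i j h =>
      he.ortho (fun h' => h (Fin.castSucc_injective _ h'))
    refine ⟨⟨fun j => ?_, fun i j hne => ?_⟩, ?_⟩
    · show (_ + _) * (_ + _) = _ + _
      by_cases hj : j = 0
      · simp only [hj, if_true]
        rw [add_mul, mul_add, mul_add, hjj, hlast, hlast', hll]; ring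
      · simp only [hj, if_false, add_zero]
        exact hjj j
    · show (_ + _) * (_ + _) = 0
      by_cases hi : i = 0
      · have hj : j ≠ 0 := fun h => hne (hi.trans h.symm)
        simp only [hi, hj, if_true, if_false, add_zero]
        rw [add_mul, hij _ _ (hi ▸ hne), hlast', add_zero]
      · by_cases hj : j = 0
        · simp only [hi, hj, if_true, if_false, add_zero]
          rw [mul_add, hij _ _ (hj ▸ hne), hlast, add_zero]
        · simp only [hi, hj, if_false, add_zero]
          exact hij _ _ hne
    · rw [Finset.sum_add_distrib, Finset.sum_ite_eq' Finset.univ (0 : Fin (m + 1))]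
      simp only [Finset.mem_univ, if_true]
      rw [← Fin.sum_univ_castSucc]
      exact he.complete
  · intro j
    by_cases hj : j = 0
    · right; simp [hj]
    · left; simp [hj]

/-- `A_f ⊗ T` is trivial when `f` kills `T`. -/
theorem subsingleton_away_tensor {A T : Type*} [CommRing A] [CommRing T] [Algebra A T] (f : A)
    (hf : algebraMap A T f = 0) : Subsingleton (Localization.Away f ⊗[A] T) := by
  have hu : IsUnit (algebraMap A (Localization.Away f) f) :=
    IsLocalization.Away.algebraMap_isUnit f
  obtain ⟨u, hu'⟩ := hu.exists_right_inv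
  refine subsingleton_of_zero_eq_one ?_
  have h1 : (1 : Localization.Away f ⊗[A] T) = (f • u) ⊗ₜ[A] (1 : T) := by
    rw [Algebra.smul_def, hu']; rfl
  rw [h1, TensorProduct.smul_tmul, Algebra.smul_def, hf, zero_mul, TensorProduct.tmul_zero]

section
variable {A T : Type u} [CommRing A] [CommRing T] [Algebra A T]
  (P : Ideal A) [P.IsPrime] (q : ℕ) [ExpChar P.ResidueField q]
  (hPI : ∀ Q : Ideal T, Q.IsPrime → Q.comap (algebraMap A T) = P → ∀ t, PIel A Q q t)
  {A' : Type u} [CommRing A'] [Algebra A A'] (P' : Ideal A') [P'.IsPrime]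
  (hP' : P'.comap (algebraMap A A') = P)

include hP' in
theorem expChar_of_comap : ExpChar P'.ResidueField q :=
  expChar_of_injective_ringHom
    (Ideal.ResidueField.map P P' (algebraMap A A') hP'.symm).injective q

include hPI hP' in
/-- Elementwise pure inseparability is preserved by base change. -/
theorem piel_baseChange (Q' : Ideal (A' ⊗[A] T)) [Q'.IsPrime]
    (hQ' : Q'.comap (algebraMap A' (A' ⊗[A] T)) = P') (x : A' ⊗[A] T) : PIel A' Q' q x := by
  haveI : ExpChar P'.ResidueField q := expChar_of_comap P q P' hP'
  have hinc : ∀ a : A, (Algebra.TensorProduct.includeRight : T →ₐ[A] A' ⊗[A] T)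
      (algebraMap A T a) = algebraMap A' (A' ⊗[A] T) (algebraMap A A' a) := by
    intro a
    simp [Algebra.TensorProduct.algebraMap_apply, Algebra.TensorProduct.tmul_one_eq_one_tmul]
  induction x using TensorProduct.induction_on with
  | zero => simpa using piel_algebraMap (A := A') Q' q (0 : A')
  | add x y hx hy => exact piel_add Q' P' hQ' q hx hy
  | tmul a' t =>
    have : a' ⊗ₜ[A] t = a' • ((1 : A') ⊗ₜ[A] t) := by
      rw [TensorProduct.smul_tmul', smul_eq_mul, mul_one]
    rw [this]
    refine piel_smul Q' P' hQ' q a' ?_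
    obtain ⟨Q, hQdef⟩ : ∃ Q : Ideal T, Q = Q'.comap
      (Algebra.TensorProduct.includeRight : T →ₐ[A] A' ⊗[A] T).toRingHom := ⟨_, rfl⟩
    haveI : Q.IsPrime := by rw [hQdef]; exact Ideal.comap_isPrime _ _
    have hQ : Q.comap (algebraMap A T) = P := by
      ext a
      rw [Ideal.mem_comap, hQdef, Ideal.mem_comap]
      show (Algebra.TensorProduct.includeRight : T →ₐ[A] A' ⊗[A] T) (algebraMap A T a) ∈ Q' ↔ _
      rw [hinc, ← Ideal.mem_comap, hQ', ← Ideal.mem_comap, hP']
    obtain ⟨n, a, b, hb, hab⟩ := hPI Q inferInstance hQ t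
    refine ⟨n, algebraMap A A' a, algebraMap A A' b, ?_, ?_⟩
    · rw [← hinc]
      intro h
      apply hb
      rw [hQdef]
      exact h
    · rw [hQdef] at hab
      have h2 : (Algebra.TensorProduct.includeRight : T →ₐ[A] A' ⊗[A] T)
          (algebraMap A T b * t ^ q ^ n - algebraMap A T a) ∈ Q' := hab
      rw [map_sub, map_mul, map_pow, hinc, hinc] at h2
      exact h2

end

end Groth.Agent.Lib.Helper8.WE4
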