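import Mathlib
import Groth.Agent.Lib.Helper8.WE1
import Groth.Agent.Lib.Helper8.WE4

set_option backward.isDefEq.respectTransparency.types false
set_option synthInstance.maxHeartbeats 400000
set_option autoImplicit false
set_option linter.unusedSectionVars false
set_option linter.style.haveILetI false

universe u

open TensorProduct Polynomial
open Groth.Agent.Lib.Helper8.WE1 Groth.Agent.Lib.Helper8.WE4

namespace Groth.Agent.Lib.Helper8.WE5

/-- The conclusion of the splitting theorem, in idempotent form. -/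
def Concl (A T : Type u) [CommRing A] [CommRing T] [Algebra A T] (P : Ideal A) (q : ℕ) : Prop :=
  ∃ (A' : Type u) (_ : CommRing A') (_ : Algebra A A') (_ : Algebra.Etale A A') (P' : Ideal A')
    (_ : P'.IsPrime) (_ : P'.comap (algebraMap A A') = P) (n : ℕ) (ε : Fin n → A' ⊗[A] T),
    CompleteOrthogonalIdempotents ε ∧
    (∀ j, ∃ Q' : Ideal (A' ⊗[A] T), Q'.IsPrime ∧ Q'.comap (algebraMap A' (A' ⊗[A] T)) = P' ∧
      ε j ∉ Q' ∧ ∀ Q'' : Ideal (A' ⊗[A] T), Q''.IsPrime →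
        Q''.comap (algebraMap A' (A' ⊗[A] T)) = P' → ε j ∉ Q'' → Q'' = Q') ∧
    (∀ Q' : Ideal (A' ⊗[A] T), Q'.IsPrime → Q'.comap (algebraMap A' (A' ⊗[A] T)) = P' →
      ∀ x, PIel A' Q' q x)

/-- Lying over for an injective integral ring homomorphism. -/
theorem exists_prime_comap_eq {B₀ B : Type*} [CommRing B₀] [CommRing B] (f : B₀ →+* B)
    (hinj : Function.Injective f) (hint : f.IsIntegral) (P₀ : Ideal B₀) [P₀.IsPrime] :
    ∃ Q : Ideal B, Q.IsPrime ∧ Q.comap f = P₀ := by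
  letI := f.toAlgebra
  haveI : Algebra.IsIntegral B₀ B := ⟨hint⟩
  obtain ⟨Q, -, hQ, hQc⟩ := Ideal.exists_ideal_over_prime_of_isIntegral P₀ (⊥ : Ideal B) (by
    intro x hx
    rw [Ideal.mem_comap, Ideal.mem_bot] at hx
    have : x = 0 := hinj (by rw [map_zero]; exact hx)
    rw [this]; exact zero_mem _)
  exact ⟨Q, hQ, hQc⟩

theorem comap_includeRight_comap {A T A' : Type*} [CommRing A] [CommRing T] [Algebra A T]
    [CommRing A'] [Algebra A A'] (P : Ideal A) (P' : Ideal A')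
    (hP' : P'.comap (algebraMap A A') = P) (Q' : Ideal (A' ⊗[A] T))
    (hQ' : Q'.comap (algebraMap A' (A' ⊗[A] T)) = P') :
    (Q'.comap (Algebra.TensorProduct.includeRight : T →ₐ[A] A' ⊗[A] T).toRingHom).comap
      (algebraMap A T) = P := by
  ext a
  rw [Ideal.mem_comap, Ideal.mem_comap]
  have hinc : (Algebra.TensorProduct.includeRight : T →ₐ[A] A' ⊗[A] T).toRingHom
      (algebraMap A T a) = algebraMap A' (A' ⊗[A] T) (algebraMap A A' a) := by
    simp [Algebra.TensorProduct.algebraMap_apply, Algebra.TensorProduct.tmul_one_eq_one_tmul]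
  rw [hinc, ← Ideal.mem_comap, hQ', ← Ideal.mem_comap, hP']

section
variable {A T : Type u} [CommRing A] [CommRing T] [Algebra A T] [Algebra.IsIntegral A T]
  (P : Ideal A) [P.IsPrime] (q : ℕ) [ExpChar P.ResidueField q]
  (hPI : ∀ Q : Ideal T, Q.IsPrime → Q.comap (algebraMap A T) = P → ∀ t, PIel A Q q t)

include hPI in
theorem thmII_empty (hemp : ∀ Q : Ideal T, Q.IsPrime → Q.comap (algebraMap A T) ≠ P) :
    Concl A T P q := by
  have hker : ¬ RingHom.ker (algebraMap A T) ≤ P := by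
    intro h
    obtain ⟨Q, -, hQ, hQc⟩ := Ideal.exists_ideal_over_prime_of_isIntegral P (⊥ : Ideal T) (by
      intro x hx
      rw [Ideal.mem_comap, Ideal.mem_bot] at hx
      exact h (RingHom.mem_ker.mpr hx))
    exact hemp Q hQ hQc
  obtain ⟨f, hfker, hfP⟩ := SetLike.not_le_iff_exists.mp hker
  have hdisj : Disjoint (Submonoid.powers f : Set A) (P : Set A) := by
    rw [Ideal.disjoint_powers_iff_notMem_of_isPrime]; exact hfP
  haveI : (P.map (algebraMap A (Localization.Away f))).IsPrime :=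
    IsLocalization.isPrime_of_isPrime_disjoint (.powers f) _ P inferInstance hdisj
  have hc : (P.map (algebraMap A (Localization.Away f))).comap
      (algebraMap A (Localization.Away f)) = P :=
    IsLocalization.under_map_of_isPrime_disjoint (.powers f) _ inferInstance hdisj
  haveI : Subsingleton (Localization.Away f ⊗[A] T) :=
    subsingleton_away_tensor f (RingHom.mem_ker.mp hfker)
  refine ⟨Localization.Away f, inferInstance, inferInstance, inferInstance,
    P.map (algebraMap A (Localization.Away f)), inferInstance, hc, 0, fun j => j.elim0,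
    ⟨⟨fun j => j.elim0, fun j => j.elim0⟩, Subsingleton.elim _ _⟩, fun j => j.elim0, ?_⟩
  intro Q' hQ' hQ'c x
  exact piel_baseChange P q hPI _ hc Q' hQ'c x

include hPI in
theorem thmII_main
    (hfin : {Q : PrimeSpectrum T | Q.asIdeal.comap (algebraMap A T) = P}.Finite)
    (hne : ∃ Q : Ideal T, Q.IsPrime ∧ Q.comap (algebraMap A T) = P) :
    Concl A T P q := by
  classical
  -- incomparability
  have hsep : ∀ Q₁ Q₂ : Ideal T, Q₁.IsPrime → Q₂.IsPrime → Q₁.comap (algebraMap A T) = P →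
      Q₂.comap (algebraMap A T) = P → Q₁ ≠ Q₂ → ∃ t, t ∈ Q₁ ∧ t ∉ Q₂ := by
    intro Q₁ Q₂ h₁ h₂ hc₁ hc₂ hne
    by_contra hcon
    push Not at hcon
    have hle : Q₁ ≤ Q₂ := hcon
    have hlt : Q₁ < Q₂ := lt_of_le_of_ne hle hne
    have := Ideal.IsIntegral.comap_lt_comap (R := A) hlt
    rw [hc₁, hc₂] at this
    exact lt_irrefl _ this
  obtain ⟨W, hWfin, hW⟩ : ∃ W : Set T, W.Finite ∧ ∀ Q₁ Q₂ : Ideal T, Q₁.IsPrime → Q₂.IsPrime →
      Q₁.comap (algebraMap A T) = P → Q₂.comap (algebraMap A T) = P → Q₁ ≠ Q₂ →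
      ∃ t ∈ W, t ∈ Q₁ ∧ t ∉ Q₂ := by
    have hch : ∀ x : {Q : PrimeSpectrum T | Q.asIdeal.comap (algebraMap A T) = P} ×
        {Q : PrimeSpectrum T | Q.asIdeal.comap (algebraMap A T) = P}, ∃ t : T,
        x.1.1 ≠ x.2.1 → (t ∈ x.1.1.asIdeal ∧ t ∉ x.2.1.asIdeal) := by
      intro x
      by_cases h : x.1.1 = x.2.1
      · exact ⟨0, fun h' => absurd h h'⟩
      · obtain ⟨t, ht⟩ := hsep x.1.1.asIdeal x.2.1.asIdeal x.1.1.2 x.2.1.2 x.1.2 x.2.2
          (fun h' => h (PrimeSpectrum.ext h'))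
        exact ⟨t, fun _ => ht⟩
    choose g hg using hch
    haveI : Finite {Q : PrimeSpectrum T | Q.asIdeal.comap (algebraMap A T) = P} :=
      hfin.to_subtype
    refine ⟨Set.range g, Set.finite_range g, ?_⟩
    intro Q₁ Q₂ h₁ h₂ hc₁ hc₂ hne
    refine ⟨g (⟨⟨Q₁, h₁⟩, hc₁⟩, ⟨⟨Q₂, h₂⟩, hc₂⟩), ⟨_, rfl⟩,
      hg (⟨⟨Q₁, h₁⟩, hc₁⟩, ⟨⟨Q₂, h₂⟩, hc₂⟩) ?_⟩
    intro h
    apply hne
    exact congrArg PrimeSpectrum.asIdeal h
  obtain ⟨T₀, hT₀⟩ : ∃ T₀ : Subalgebra A T, T₀ = Algebra.adjoin A W := ⟨_, rfl⟩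
  have hWT₀ : W ⊆ T₀ := by rw [hT₀]; exact Algebra.subset_adjoin
  haveI : Module.Finite A T₀ := by
    have := fg_adjoin_of_finite hWfin (fun x _ => Algebra.IsIntegral.isIntegral (R := A) x)
    rw [← hT₀] at this
    exact Module.Finite.iff_fg.mpr this
  obtain ⟨A', _, _, hét, P', hP'prime, hP'over, n, e, he, P'', hP''prime, hP''over, Hbij, hnot,
    Hall⟩ := Algebra.exists_etale_completeOrthogonalIdempotents_forall_liesOver_eq
      (R := A) (S := T₀) P
  have hP'comap : P'.comap (algebraMap A A') = P := (P'.over_def P).symm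
  have hP''comap : ∀ i, (P'' i).comap (algebraMap A' (A' ⊗[A] T₀)) = P' := fun i =>
    ((P'' i).over_def P').symm
  -- the map ψ
  obtain ⟨ψ, hψ⟩ : ∃ ψ : A' ⊗[A] T₀ →ₐ[A'] A' ⊗[A] T, ∀ (a : A') (t : T₀),
      ψ (a ⊗ₜ t) = a ⊗ₜ (t : T) :=
    ⟨Algebra.TensorProduct.map (AlgHom.id A' A') T₀.val, fun a t => by simp⟩
  have hψinj : Function.Injective ψ := by
    haveI : Module.Flat A A' := inferInstance
    have h1 := Module.Flat.lTensor_preserves_injective_linearMap (M := A') T₀.val.toLinearMap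
      Subtype.val_injective
    have h2 : ⇑ψ = ⇑(LinearMap.lTensor A' T₀.val.toLinearMap) := by
      funext x
      induction x using TensorProduct.induction_on with
      | zero => simp
      | tmul a t => rw [hψ]; simp
      | add x y hx hy => simp only [map_add, hx, hy]
    rw [h2]; exact h1
  have hψint : (ψ : A' ⊗[A] T₀ →+* A' ⊗[A] T).IsIntegral := by
    refine RingHom.IsIntegral.tower_top (algebraMap A' (A' ⊗[A] T₀)) _ ?_
    have : (ψ : A' ⊗[A] T₀ →+* A' ⊗[A] T).comp (algebraMap A' (A' ⊗[A] T₀)) =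
        algebraMap A' (A' ⊗[A] T) := ψ.comp_algebraMap
    rw [this]
    exact algebraMap_isIntegral_iff.mpr inferInstance
  have hψcomap : ∀ Q' : Ideal (A' ⊗[A] T),
      (Q'.comap (ψ : A' ⊗[A] T₀ →+* A' ⊗[A] T)).comap (algebraMap A' (A' ⊗[A] T₀)) =
        Q'.comap (algebraMap A' (A' ⊗[A] T)) := by
    intro Q'
    ext a
    simp only [Ideal.mem_comap]
    have : (ψ : A' ⊗[A] T₀ →+* A' ⊗[A] T) (algebraMap A' (A' ⊗[A] T₀) a) =
        algebraMap A' (A' ⊗[A] T) a := ψ.commutes a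
    rw [this]
  -- n ≠ 0
  obtain ⟨Q₀, hQ₀prime, hQ₀⟩ := hne
  have hnpos : n ≠ 0 := by
    rintro rfl
    haveI := hQ₀prime
    obtain ⟨Q₀', hQ₀'⟩ : ∃ Q₀' : Ideal T₀, Q₀' = Q₀.comap (algebraMap T₀ T) := ⟨_, rfl⟩
    haveI : Q₀'.IsPrime := by rw [hQ₀']; exact Ideal.comap_isPrime _ _
    haveI : Q₀'.LiesOver P := ⟨by
      rw [Ideal.under_def, hQ₀', Ideal.comap_comap, ← hQ₀]
      rfl⟩
    obtain ⟨X, hX⟩ : ∃ X : P'.primesOver (A' ⊗[A] T₀), X = X :=
      ⟨(Ideal.fiberIsoOfBijectiveResidueField (S := T₀) Hbij).symm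
        ⟨Q₀', inferInstance, inferInstance⟩, rfl⟩
    have h1 := (Hall X.1 X.2.1 X.2.2).1
    have h2 : e (Fin.last 0) = 1 := by
      rw [← he.complete]; simp
    rw [h2] at h1
    exact X.2.1.ne_top ((Ideal.eq_top_iff_one _).mpr h1)
  obtain ⟨m, rfl⟩ := Nat.exists_eq_add_one_of_ne_zero hnpos
  obtain ⟨ε, hε, hεe⟩ := merge e he
  -- properties of ε wrt primes over P'
  have hε1 : ∀ (Q'' : Ideal (A' ⊗[A] T₀)), Q''.IsPrime →
      Q''.comap (algebraMap A' (A' ⊗[A] T₀)) = P' → ∀ j, ε j ∉ Q'' → Q'' = P'' j := by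
    intro Q'' hQ'' hc j hj
    haveI : Q''.LiesOver P' := ⟨hc.symm⟩
    obtain ⟨hl, hall⟩ := Hall Q'' hQ'' inferInstance
    refine hall j (fun h => hj ?_)
    rcases hεe j with h' | h'
    · rw [h']; exact h
    · rw [h']; exact add_mem h hl
  have hε2 : ∀ j, ε j ∉ P'' j := by
    intro j h
    obtain ⟨hl, -⟩ := Hall (P'' j) (hP''prime j) (hP''over j)
    apply hnot j
    rcases hεe j with h' | h'
    · rw [← h']; exact h
    · have : e j.castSucc = ε j - e (Fin.last (m + 1)) := by rw [h']; ring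
      rw [this]; exact sub_mem h hl
  refine ⟨A', inferInstance, inferInstance, hét, P', hP'prime, hP'comap, m + 1, ψ ∘ ε,
    CompleteOrthogonalIdempotents.map (ψ : A' ⊗[A] T₀ →+* A' ⊗[A] T) hε, ?_, ?_⟩
  · intro j
    obtain ⟨Q', hQ'prime, hQ'c⟩ := exists_prime_comap_eq (ψ : A' ⊗[A] T₀ →+* A' ⊗[A] T)
      hψinj hψint (P'' j)
    have hQ'over : Q'.comap (algebraMap A' (A' ⊗[A] T)) = P' := by
      rw [← hψcomap, hQ'c, hP''comap]
    refine ⟨Q', hQ'prime, hQ'over, ?_, ?_⟩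
    · intro h
      apply hε2 j
      rw [← hQ'c]
      exact h
    · intro Q'' hQ''prime hQ''over hj
      have h3 : Q''.comap (ψ : A' ⊗[A] T₀ →+* A' ⊗[A] T) = P'' j := by
        refine hε1 _ (Ideal.comap_isPrime _ _) ?_ j ?_
        · rw [hψcomap, hQ''over]
        · exact hj
      haveI := hQ''prime
      haveI := hQ'prime
      haveI : Q''.LiesOver P' := ⟨hQ''over.symm⟩
      haveI : Q'.LiesOver P' := ⟨hQ'over.symm⟩
      refine Ideal.eq_of_comap_eq_comap_of_bijective_residueFieldMap (S := T) Hbij Q'' Q' ?_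
      by_contra hcon
      obtain ⟨t, htW, ht1, ht2⟩ := hW _ _ (Ideal.comap_isPrime _ _) (Ideal.comap_isPrime _ _)
        (comap_includeRight_comap P P' hP'comap Q'' hQ''over)
        (comap_includeRight_comap P P' hP'comap Q' hQ'over) hcon
      have hkey : ψ ((1 : A') ⊗ₜ[A] (⟨t, hWT₀ htW⟩ : T₀)) = (1 : A') ⊗ₜ[A] t := hψ _ _
      have h4 : (1 : A') ⊗ₜ[A] (⟨t, hWT₀ htW⟩ : T₀) ∈ Q''.comap
          (ψ : A' ⊗[A] T₀ →+* A' ⊗[A] T) := by
        rw [Ideal.mem_comap]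
        show ψ _ ∈ Q''
        rw [hkey]
        exact ht1
      rw [h3, ← hQ'c, Ideal.mem_comap] at h4
      apply ht2
      show (1 : A') ⊗ₜ[A] t ∈ Q'
      rw [← hkey]
      exact h4
  · intro Q' hQ' hQ'c x
    exact piel_baseChange P q hPI P' hP'comap Q' hQ'c x

end

end Groth.Agent.Lib.Helper8.WE5
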