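import Mathlib
import Groth.Agent.Lib.Helper6.EtLocSep
import Groth.Agent.Lib.Helper8.WE1
import Groth.Agent.Lib.Helper8.WE2
import Groth.Agent.Lib.Helper8.WE3
import Groth.Agent.Lib.Helper8.WE4
import Groth.Agent.Lib.Helper8.WE5

set_option backward.isDefEq.respectTransparency.types false
set_option synthInstance.maxHeartbeats 400000
set_option autoImplicit false
set_option linter.unusedSectionVars false
set_option linter.style.haveILetI false

universe u

open TensorProduct Polynomial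
open Groth.Agent.Lib.Helper8.WE1 Groth.Agent.Lib.Helper8.WE2 Groth.Agent.Lib.Helper8.WE3
  Groth.Agent.Lib.Helper8.WE4 Groth.Agent.Lib.Helper8.WE5

namespace Groth.Agent.Lib.Helper8.WE6

attribute [local instance] RingHom.ker_isPrime

theorem thmII {A T : Type u} [CommRing A] [CommRing T] [Algebra A T] [Algebra.IsIntegral A T]
    (P : Ideal A) [P.IsPrime] (q : ℕ) [ExpChar P.ResidueField q]
    (hPI : ∀ Q : Ideal T, Q.IsPrime → Q.comap (algebraMap A T) = P → ∀ t, PIel A Q q t)
    (hfin : {Q : PrimeSpectrum T | Q.asIdeal.comap (algebraMap A T) = P}.Finite) :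
    Concl A T P q := by
  by_cases hne : ∃ Q : Ideal T, Q.IsPrime ∧ Q.comap (algebraMap A T) = P
  · exact thmII_main P q hPI hfin hne
  · exact thmII_empty P q hPI (fun Q hQ hc => hne ⟨Q, hQ, hc⟩)

theorem thmIII {A' B : Type u} [CommRing A'] [CommRing B] [Algebra A' B]
    [Algebra.IsIntegral A' B] (P' : Ideal A') [P'.IsPrime] (q : ℕ) [ExpChar P'.ResidueField q]
    {n : ℕ} (ε : Fin n → B) (hε : CompleteOrthogonalIdempotents ε)
    (hU : ∀ j, ∃ Q' : Ideal B, Q'.IsPrime ∧ Q'.comap (algebraMap A' B) = P' ∧ ε j ∉ Q' ∧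
      ∀ Q'' : Ideal B, Q''.IsPrime → Q''.comap (algebraMap A' B) = P' → ε j ∉ Q'' → Q'' = Q')
    (hPI : ∀ Q' : Ideal B, Q'.IsPrime → Q'.comap (algebraMap A' B) = P' → ∀ x, PIel A' Q' q x) :
    ∃ (Aj : Fin n → Type u) (_ : ∀ j, CommRing (Aj j)) (_ : ∀ j, Algebra A' (Aj j))
      (_ : B ≃ₐ[A'] (Π j, Aj j)),
      ∀ j, Algebra.IsIntegral A' (Aj j) ∧ ∃ (r : PrimeSpectrum (Aj j))
        (hr : r.asIdeal.comap (algebraMap A' (Aj j)) = P'),
        (∀ r' : PrimeSpectrum (Aj j), r'.asIdeal.comap (algebraMap A' (Aj j)) = P' → r' = r) ∧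
        letI := (Ideal.ResidueField.map P' r.asIdeal (algebraMap A' (Aj j)) hr.symm).toAlgebra
        IsPurelyInseparable P'.ResidueField r.asIdeal.ResidueField := by
  classical
  have hbij : Function.Bijective (AlgHom.pi (R := A') (A := fun j => B ⧸ Ideal.span {1 - ε j})
      (fun j => Ideal.Quotient.mkₐ A' (Ideal.span {1 - ε j}))) := hε.bijective_pi
  refine ⟨fun j => B ⧸ Ideal.span {1 - ε j}, fun j => inferInstance, fun j => inferInstance,
    AlgEquiv.ofBijective _ hbij, ?_⟩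
  intro j
  refine ⟨inferInstance, ?_⟩
  obtain ⟨Q', hQ'p, hQ'c, hjQ', huniq⟩ := hU j
  haveI := hQ'p
  have hmksurj : Function.Surjective (Ideal.Quotient.mk (Ideal.span {1 - ε j})) :=
    Ideal.Quotient.mk_surjective
  have hIQ' : Ideal.span {1 - ε j} ≤ Q' := by
    rw [Ideal.span_le, Set.singleton_subset_iff]
    have h0 : ε j * (1 - ε j) ∈ Q' := by
      have : ε j * (1 - ε j) = 0 := by
        rw [mul_sub, mul_one, (hε.idem j).eq, sub_self]
      rw [this]; exact zero_mem _
    exact (hQ'p.mem_or_mem h0).resolve_left hjQ'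
  have hker : RingHom.ker (Ideal.Quotient.mk (Ideal.span {1 - ε j})) ≤ Q' := by
    rw [Ideal.mk_ker]; exact hIQ'
  haveI hrp : (Q'.map (Ideal.Quotient.mk (Ideal.span {1 - ε j}))).IsPrime :=
    Ideal.map_isPrime_of_surjective hmksurj hker
  have hcm : (Q'.map (Ideal.Quotient.mk (Ideal.span {1 - ε j}))).comap
      (Ideal.Quotient.mk (Ideal.span {1 - ε j})) = Q' := by
    rw [Ideal.comap_map_of_surjective _ hmksurj, sup_eq_left]
    exact hker
  have halg : ∀ a : A', algebraMap A' (B ⧸ Ideal.span {1 - ε j}) a =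
      Ideal.Quotient.mk (Ideal.span {1 - ε j}) (algebraMap A' B a) := fun a => rfl
  have hr : (Q'.map (Ideal.Quotient.mk (Ideal.span {1 - ε j}))).comap
      (algebraMap A' (B ⧸ Ideal.span {1 - ε j})) = P' := by
    ext a
    rw [Ideal.mem_comap, halg, ← Ideal.mem_comap, hcm, ← Ideal.mem_comap, hQ'c]
  refine ⟨⟨Q'.map (Ideal.Quotient.mk (Ideal.span {1 - ε j})), hrp⟩, hr, ?_, ?_⟩
  · intro r' hr'
    have hQ''c : (r'.asIdeal.comap (Ideal.Quotient.mk (Ideal.span {1 - ε j}))).comap
        (algebraMap A' B) = P' := by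
      ext a
      rw [Ideal.mem_comap, Ideal.mem_comap, ← halg, ← Ideal.mem_comap, hr']
    have hj : ε j ∉ r'.asIdeal.comap (Ideal.Quotient.mk (Ideal.span {1 - ε j})) := by
      intro h
      have h1 : (1 - ε j) ∈ r'.asIdeal.comap (Ideal.Quotient.mk (Ideal.span {1 - ε j})) := by
        rw [Ideal.mem_comap]
        have : Ideal.Quotient.mk (Ideal.span {1 - ε j}) (1 - ε j) = 0 :=
          Ideal.Quotient.eq_zero_iff_mem.mpr (Ideal.subset_span rfl)
        rw [this]; exact zero_mem _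
      have h2 : (1 : B) ∈ r'.asIdeal.comap (Ideal.Quotient.mk (Ideal.span {1 - ε j})) := by
        have := add_mem h1 h
        rwa [sub_add_cancel] at this
      exact (Ideal.comap_isPrime (Ideal.Quotient.mk (Ideal.span {1 - ε j})) r'.asIdeal).ne_top
        ((Ideal.eq_top_iff_one _).mpr h2)
    have h3 := huniq _ (Ideal.comap_isPrime _ _) hQ''c hj
    apply PrimeSpectrum.ext
    show r'.asIdeal = Q'.map _
    rw [← h3, Ideal.map_comap_of_surjective _ hmksurj]
  · refine isPurelyInseparable_of_piel _ P' hr q ?_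
    intro x
    obtain ⟨b, rfl⟩ := hmksurj x
    obtain ⟨n, a, c, hc, hac⟩ := hPI Q' hQ'p hQ'c b
    refine ⟨n, a, c, ?_, ?_⟩
    · intro h
      apply hc
      rw [halg, ← Ideal.mem_comap, hcm] at h
      exact h
    · rw [halg, halg, ← map_pow, ← map_mul, ← map_sub]
      exact Ideal.mem_map_of_mem _ hac

theorem main {R S : Type u} [CommRing R] [CommRing S] [Algebra R S] [Algebra.IsIntegral R S]
    (p : Ideal R) [p.IsPrime]
    (hfin : {q : PrimeSpectrum S | q.asIdeal.comap (algebraMap R S) = p}.Finite)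
    (hsep : ∀ (q : PrimeSpectrum S) (hq : q.asIdeal.comap (algebraMap R S) = p),
      letI := (Ideal.ResidueField.map p q.asIdeal (algebraMap R S) hq.symm).toAlgebra
      Module.Finite p.ResidueField (separableClosure p.ResidueField q.asIdeal.ResidueField)) :
    ∃ (R' : Type u) (_ : CommRing R') (_ : Algebra R R') (p' : PrimeSpectrum R'),
      Algebra.Etale R R' ∧ p'.asIdeal.comap (algebraMap R R') = p ∧
      ∃ (m : ℕ) (A : Fin m → Type u) (_ : ∀ j, CommRing (A j)) (_ : ∀ j, Algebra R' (A j))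
        (e : R' ⊗[R] S ≃ₐ[R'] (Π j, A j)),
        ∀ j, Algebra.IsIntegral R' (A j) ∧ ∃ (r : PrimeSpectrum (A j))
          (hr : r.asIdeal.comap (algebraMap R' (A j)) = p'.asIdeal),
          (∀ r' : PrimeSpectrum (A j),
            r'.asIdeal.comap (algebraMap R' (A j)) = p'.asIdeal → r' = r) ∧
          letI := (Ideal.ResidueField.map p'.asIdeal r.asIdeal (algebraMap R' (A j))
            hr.symm).toAlgebra
          IsPurelyInseparable p'.asIdeal.ResidueField r.asIdeal.ResidueField := by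
  classical
  obtain ⟨q, hqdef⟩ : ∃ q : ℕ, q = ringExpChar p.ResidueField := ⟨_, rfl⟩
  haveI : ExpChar p.ResidueField q := by rw [hqdef]; infer_instance
  -- the Galois closure
  haveI : Finite {𝔮 : PrimeSpectrum S // 𝔮.asIdeal.comap (algebraMap R S) = p} := hfin.to_subtype
  letI algι : ∀ i : {𝔮 : PrimeSpectrum S // 𝔮.asIdeal.comap (algebraMap R S) = p},
      Algebra p.ResidueField i.1.asIdeal.ResidueField := fun i =>
    (Ideal.ResidueField.map p i.1.asIdeal (algebraMap R S) i.2.symm).toAlgebra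
  haveI : ∀ i : {𝔮 : PrimeSpectrum S // 𝔮.asIdeal.comap (algebraMap R S) = p},
      FiniteDimensional p.ResidueField
        (separableClosure p.ResidueField i.1.asIdeal.ResidueField) := fun i => hsep i.1 i.2
  obtain ⟨L, _, _, hLfin, hLsep, hLsplit⟩ := exists_galois (k := p.ResidueField)
    (fun i : {𝔮 : PrimeSpectrum S // 𝔮.asIdeal.comap (algebraMap R S) = p} =>
      ↥(separableClosure p.ResidueField i.1.asIdeal.ResidueField))
  -- the étale neighbourhood realising L
  have he : ∀ c : p.ResidueField, ∃ a b : R, algebraMap R p.ResidueField b ≠ 0 ∧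
      algebraMap R p.ResidueField b * c = algebraMap R p.ResidueField a := by
    intro c
    obtain ⟨a, b, hb, rfl⟩ := exists_div p c
    have hb' : algebraMap R p.ResidueField b ≠ 0 := by
      rw [Ne, Ideal.algebraMap_residueField_eq_zero]; exact hb
    exact ⟨a, b, hb', mul_div_cancel₀ _ hb'⟩
  obtain ⟨R₁, _, _, hét, φ, hφ, hfrac⟩ :=
    Groth.Agent.Lib.Helper6.EtLoc.exists_etale_lift_of_separable (A := R)
      (K₀ := p.ResidueField) (k := L) (algebraMap R p.ResidueField) he
  have hstar : ∀ (𝔮 : Ideal S) [𝔮.IsPrime] (h𝔮 : 𝔮.comap (algebraMap R S) = p),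
     letI := (Ideal.ResidueField.map p 𝔮 (algebraMap R S) h𝔮.symm).toAlgebra
     ∀ z : 𝔮.ResidueField, IsSeparable p.ResidueField z →
      ((minpoly p.ResidueField z).map (algebraMap p.ResidueField L)).Splits := by
    intro 𝔮 h𝔮p h𝔮 z hz
    have h1 := hLsplit ⟨⟨𝔮, h𝔮p⟩, h𝔮⟩ ⟨z, mem_separableClosure_iff.mpr hz⟩
    rw [IntermediateField.minpoly_eq] at h1
    exact h1
  have hP₁ : (RingHom.ker φ).comap (algebraMap R R₁) = p := ker_comap p φ hφ
  haveI : ExpChar (RingHom.ker φ).ResidueField q := expChar_of_comap p q (RingHom.ker φ) hP₁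
  have hPI₁ : ∀ Q : Ideal (R₁ ⊗[R] S), Q.IsPrime →
      Q.comap (algebraMap R₁ (R₁ ⊗[R] S)) = RingHom.ker φ → ∀ t, PIel R₁ Q q t :=
    fun Q hQ hc t => @thmI_all R S _ _ _ _ p _ R₁ _ _ L _ _ φ hφ hfrac hstar q _ _ Q hQ hc t
  have hfin₁ := finite_primes (S := S) p hfin (RingHom.ker φ) hP₁
  obtain ⟨A', _, _, hét', P', hP'prime, hP'c, n, ε, hε, hU, hPI'⟩ :=
    thmII (T := R₁ ⊗[R] S) (RingHom.ker φ) q hPI₁ hfin₁
  haveI := hP'prime
  haveI : ExpChar P'.ResidueField q := expChar_of_comap (RingHom.ker φ) q P' hP'c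
  obtain ⟨Aj, _, _, e, he⟩ := thmIII (B := A' ⊗[R₁] (R₁ ⊗[R] S)) P' q ε hε hU hPI'
  letI : Algebra R A' := ((algebraMap R₁ A').comp (algebraMap R R₁)).toAlgebra
  haveI : IsScalarTower R R₁ A' := IsScalarTower.of_algebraMap_eq' rfl
  haveI : Algebra.Etale R A' := Algebra.Etale.comp R R₁ A'
  refine ⟨A', inferInstance, inferInstance, ⟨P', hP'prime⟩, inferInstance, ?_, n, Aj,
    inferInstance, inferInstance,
    (Algebra.TensorProduct.cancelBaseChange R R₁ A' A' S).symm.trans e, he⟩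
  show P'.comap (algebraMap R A') = p
  rw [IsScalarTower.algebraMap_eq R R₁ A', ← Ideal.comap_comap, hP'c, hP₁]

end Groth.Agent.Lib.Helper8.WE6
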