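import Mathlib
import Groth.Agent.S13773

set_option backward.isDefEq.respectTransparency.types false
set_option synthInstance.maxHeartbeats 400000
set_option autoImplicit false
set_option linter.unusedSectionVars false
set_option linter.style.haveILetI false

universe u v

namespace Groth.Agent.Lib.Helper8.WF1

open PLie

variable {R : Type u} [CommRing R] {L : Type v} [LieRing L] [LieAlgebra R L]

/-- matrix of `ad w` in terms of matrices of `ad (bs j)` -/
theorem toMatrix_ad (bs : Module.Basis (Fin 3) R L) (w : L) :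
    LinearMap.toMatrix bs bs (LieAlgebra.ad R L w) =
      ∑ j, bs.repr w j • LinearMap.toMatrix bs bs (LieAlgebra.ad R L (bs j)) := by
  conv_lhs => rw [← bs.sum_repr w]
  rw [map_sum, map_sum]
  refine Finset.sum_congr rfl fun j _ => ?_
  rw [map_smul, map_smul]

theorem toMatrix_ad_sum (bs : Module.Basis (Fin 3) R L) (w : Fin 3 → R) :
    LinearMap.toMatrix bs bs (LieAlgebra.ad R L (∑ j, w j • bs j)) =
      ∑ j, w j • LinearMap.toMatrix bs bs (LieAlgebra.ad R L (bs j)) := by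
  rw [map_sum, map_sum]
  refine Finset.sum_congr rfl fun j _ => ?_
  rw [map_smul, map_smul]

/-- Jacobson criterion in matrix form, rank three. -/
theorem nonempty_pmap_iff (p : ℕ) [Fact p.Prime] [CharP R p] (bs : Module.Basis (Fin 3) R L) :
    Nonempty (PLie.PMap R p L) ↔
      ∀ i, ∃ w : Fin 3 → R, (LinearMap.toMatrix bs bs (LieAlgebra.ad R L (bs i))) ^ p =
        ∑ j, w j • LinearMap.toMatrix bs bs (LieAlgebra.ad R L (bs j)) := by
  constructor
  · rintro ⟨φ⟩ i
    refine ⟨fun j => bs.repr (φ (bs i)) j, ?_⟩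
    rw [LinearMap.toMatrix_pow, ← toMatrix_ad, ← φ.ad_map (bs i)]
  · intro h
    choose w hw using h
    have hy : ∀ i : Fin 3, LieAlgebra.ad R L (bs i) ^ p =
        LieAlgebra.ad R L (∑ j, w i j • bs j) := by
      intro i
      apply (LinearMap.toMatrix bs bs).injective
      rw [← LinearMap.toMatrix_pow, hw i, toMatrix_ad_sum]
    obtain ⟨φ, -, -⟩ := Groth.Agent.S13773.result R p L bs (fun i => ∑ j, w i j • bs j) hy
    exact ⟨φ⟩

/-- the matrix of `ad (bs 0)`, `ad (bs 1)`, `ad (bs 2)` from the three brackets. -/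
theorem toMatrix_ad_basis (bs : Module.Basis (Fin 3) R L)
    (c01 c02 c12 : Fin 3 → R)
    (hxy : ⁅bs 0, bs 1⁆ = c01 0 • bs 0 + c01 1 • bs 1 + c01 2 • bs 2)
    (hxz : ⁅bs 0, bs 2⁆ = c02 0 • bs 0 + c02 1 • bs 1 + c02 2 • bs 2)
    (hyz : ⁅bs 1, bs 2⁆ = c12 0 • bs 0 + c12 1 • bs 1 + c12 2 • bs 2) :
    LinearMap.toMatrix bs bs (LieAlgebra.ad R L (bs 0)) =
        !![0, c01 0, c02 0; 0, c01 1, c02 1; 0, c01 2, c02 2] ∧
    LinearMap.toMatrix bs bs (LieAlgebra.ad R L (bs 1)) =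
        !![-c01 0, 0, c12 0; -c01 1, 0, c12 1; -c01 2, 0, c12 2] ∧
    LinearMap.toMatrix bs bs (LieAlgebra.ad R L (bs 2)) =
        !![-c02 0, -c12 0, 0; -c02 1, -c12 1, 0; -c02 2, -c12 2, 0] := by
  have hyx : ⁅bs 1, bs 0⁆ = -(c01 0 • bs 0 + c01 1 • bs 1 + c01 2 • bs 2) := by
    rw [← lie_skew, hxy]
  have hzx : ⁅bs 2, bs 0⁆ = -(c02 0 • bs 0 + c02 1 • bs 1 + c02 2 • bs 2) := by
    rw [← lie_skew, hxz]
  have hzy : ⁅bs 2, bs 1⁆ = -(c12 0 • bs 0 + c12 1 • bs 1 + c12 2 • bs 2) := by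
    rw [← lie_skew, hyz]
  refine ⟨?_, ?_, ?_⟩
  · ext i j
    rw [LinearMap.toMatrix_apply, LieAlgebra.ad_apply]
    fin_cases j
    · fin_cases i <;> simp
    · fin_cases i <;> simp [hxy]
    · fin_cases i <;> simp [hxz]
  · ext i j
    rw [LinearMap.toMatrix_apply, LieAlgebra.ad_apply]
    fin_cases j
    · fin_cases i <;> simp [hyx]
    · fin_cases i <;> simp
    · fin_cases i <;> simp [hyz]
  · ext i j
    rw [LinearMap.toMatrix_apply, LieAlgebra.ad_apply]
    fin_cases j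
    · fin_cases i <;> simp [hzx]
    · fin_cases i <;> simp [hzy]
    · fin_cases i <;> simp

end Groth.Agent.Lib.Helper8.WF1
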