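import Mathlib
import Groth.Agent.Lib.Helper8.WF1

set_option backward.isDefEq.respectTransparency.types false
set_option synthInstance.maxHeartbeats 400000
set_option autoImplicit false
set_option linter.unusedSectionVars false
set_option linter.style.haveILetI false

universe u v

namespace Groth.Agent.Lib.Helper8.WF2

open PLie DualNumber

variable {K : Type u} [Field K]

/-- matrix of `ad x` -/
def Mx (a b c d e f : K) : Matrix (Fin 3) (Fin 3) (DualNumber K) :=
  !![0, a • ε, d • ε; 0, b • ε, e • ε; 0, c • ε, f • ε]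

/-- matrix of `ad y` -/
def My (a b c g h i : K) : Matrix (Fin 3) (Fin 3) (DualNumber K) :=
  !![-(a • ε), 0, 1 + g • ε; -(b • ε), 0, h • ε; -(c • ε), 0, i • ε]

/-- matrix of `ad z` -/
def Mz (d e f g h i : K) : Matrix (Fin 3) (Fin 3) (DualNumber K) :=
  !![-(d • ε), -(1 + g • ε), 0; -(e • ε), -(h • ε), 0; -(f • ε), -(i • ε), 0]

theorem Mx_sq (a b c d e f : K) : Mx a b c d e f * Mx a b c d e f = 0 := by
  refine Matrix.ext fun r s => ?_
  fin_cases r <;> fin_cases s <;>
    simp [Mx, Matrix.mul_apply, Fin.sum_univ_three]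

theorem My_sq (a b c g h i : K) : My a b c g h i * My a b c g h i =
    !![-(c • ε), 0, (i - a) • ε; 0, 0, -(b • ε); 0, 0, -(c • ε)] := by
  refine Matrix.ext fun r s => ?_
  fin_cases r <;> fin_cases s <;>
    simp [My, Matrix.mul_apply, Fin.sum_univ_three] <;>
    (apply TrivSqZeroExt.ext <;> simp <;> ring)


theorem My_cube (a b c g h i : K) : My a b c g h i * My a b c g h i * My a b c g h i =
    !![0, 0, -(c • ε); 0, 0, 0; 0, 0, 0] := by
  rw [My_sq]
  refine Matrix.ext fun r s => ?_
  fin_cases r <;> fin_cases s <;>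
    simp [My, Matrix.mul_apply, Fin.sum_univ_three] <;>
    (apply TrivSqZeroExt.ext <;> simp <;> ring)

theorem My_four (a b c g h i : K) :
    My a b c g h i * My a b c g h i * My a b c g h i * My a b c g h i = 0 := by
  rw [My_cube]
  refine Matrix.ext fun r s => ?_
  fin_cases r <;> fin_cases s <;>
    simp [My, Matrix.mul_apply, Fin.sum_univ_three]

theorem Mz_sq (d e f g h i : K) : Mz d e f g h i * Mz d e f g h i =
    !![e • ε, (d + h) • ε, 0; 0, e • ε, 0; 0, f • ε, 0] := by
  refine Matrix.ext fun r s => ?_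
  fin_cases r <;> fin_cases s <;>
    simp [Mz, Matrix.mul_apply, Fin.sum_univ_three] <;>
    (apply TrivSqZeroExt.ext <;> simp <;> ring)

theorem Mz_cube (d e f g h i : K) : Mz d e f g h i * Mz d e f g h i * Mz d e f g h i =
    !![0, -(e • ε), 0; 0, 0, 0; 0, 0, 0] := by
  rw [Mz_sq]
  refine Matrix.ext fun r s => ?_
  fin_cases r <;> fin_cases s <;>
    simp [Mz, Matrix.mul_apply, Fin.sum_univ_three] <;>
    (apply TrivSqZeroExt.ext <;> simp <;> ring)

theorem Mz_four (d e f g h i : K) :
    Mz d e f g h i * Mz d e f g h i * Mz d e f g h i * Mz d e f g h i = 0 := by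
  rw [Mz_cube]
  refine Matrix.ext fun r s => ?_
  fin_cases r <;> fin_cases s <;>
    simp [Mz, Matrix.mul_apply, Fin.sum_univ_three]

theorem pow_eq_zero_of_four {M : Matrix (Fin 3) (Fin 3) (DualNumber K)}
    (h : M * M * M * M = 0) {p : ℕ} (hp : 4 ≤ p) : M ^ p = 0 := by
  have : p = 4 + (p - 4) := by omega
  rw [this, pow_add]
  have h4 : M ^ 4 = M * M * M * M := by
    simp [pow_succ]
  rw [h4, h, zero_mul]


section main
variable (p : ℕ) [Fact p.Prime] [CharP (DualNumber K) p] (a b c d e f g h i : K)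
  {L : Type v} [LieRing L] [LieAlgebra (DualNumber K) L] (bs : Module.Basis (Fin 3) (DualNumber K) L)

include p in
theorem setup
    (hxy : ⁅bs 0, bs 1⁆ = (a • ε : DualNumber K) • bs 0 + (b • ε : DualNumber K) • bs 1 + (c • ε : DualNumber K) • bs 2)
    (hxz : ⁅bs 0, bs 2⁆ = (d • ε : DualNumber K) • bs 0 + (e • ε : DualNumber K) • bs 1 + (f • ε : DualNumber K) • bs 2)
    (hyz : ⁅bs 1, bs 2⁆ = (1 + g • ε : DualNumber K) • bs 0 + (h • ε : DualNumber K) • bs 1 + (i • ε : DualNumber K) • bs 2) :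
    LinearMap.toMatrix bs bs (LieAlgebra.ad (DualNumber K) L (bs 0)) = Mx a b c d e f ∧
    LinearMap.toMatrix bs bs (LieAlgebra.ad (DualNumber K) L (bs 1)) = My a b c g h i ∧
    LinearMap.toMatrix bs bs (LieAlgebra.ad (DualNumber K) L (bs 2)) = Mz d e f g h i ∧
    f + b = 0 := by
  obtain ⟨h0, h1, h2⟩ := WF1.toMatrix_ad_basis bs ![a • ε, b • ε, c • ε] ![d • ε, e • ε, f • ε]
    ![1 + g • ε, h • ε, i • ε] hxy hxz hyz
  have hX : LinearMap.toMatrix bs bs (LieAlgebra.ad (DualNumber K) L (bs 0)) = Mx a b c d e f := by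
    rw [h0]; rfl
  have hY : LinearMap.toMatrix bs bs (LieAlgebra.ad (DualNumber K) L (bs 1)) = My a b c g h i := by
    rw [h1]; rfl
  have hZ : LinearMap.toMatrix bs bs (LieAlgebra.ad (DualNumber K) L (bs 2)) = Mz d e f g h i := by
    rw [h2]; rfl
  refine ⟨hX, hY, hZ, ?_⟩
  have hJ0 : LieAlgebra.ad (DualNumber K) L ⁅bs 1, bs 2⁆ =
      LieAlgebra.ad (DualNumber K) L (bs 1) * LieAlgebra.ad (DualNumber K) L (bs 2) -
        LieAlgebra.ad (DualNumber K) L (bs 2) * LieAlgebra.ad (DualNumber K) L (bs 1) := by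
    refine LinearMap.ext fun m => ?_
    rw [LinearMap.sub_apply, Module.End.mul_apply, Module.End.mul_apply, LieAlgebra.ad_apply,
      LieAlgebra.ad_apply, LieAlgebra.ad_apply, LieAlgebra.ad_apply, LieAlgebra.ad_apply, lie_lie]
  have hJ1 := congrArg (LinearMap.toMatrix bs bs) hJ0
  rw [map_sub, LinearMap.toMatrix_mul, LinearMap.toMatrix_mul, hY, hZ, hyz] at hJ1
  simp only [map_add, map_smul] at hJ1
  rw [hX, hY, hZ] at hJ1
  have h00 := congrFun (congrFun hJ1 0) 0
  simp [Mx, My, Mz, Matrix.mul_apply, Fin.sum_univ_three] at h00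
  have := congrArg TrivSqZeroExt.snd h00
  simp at this
  linear_combination this


theorem main19868
    (hxy : ⁅bs 0, bs 1⁆ = (a • ε : DualNumber K) • bs 0 + (b • ε : DualNumber K) • bs 1 + (c • ε : DualNumber K) • bs 2)
    (hxz : ⁅bs 0, bs 2⁆ = (d • ε : DualNumber K) • bs 0 + (e • ε : DualNumber K) • bs 1 + (f • ε : DualNumber K) • bs 2)
    (hyz : ⁅bs 1, bs 2⁆ = (1 + g • ε : DualNumber K) • bs 0 + (h • ε : DualNumber K) • bs 1 + (i • ε : DualNumber K) • bs 2) :
    Nonempty (PLie.PMap (DualNumber K) p L) ↔ (p = 2 → b = 0 ∧ c = 0 ∧ e = 0) := by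
  have hpp : p.Prime := Fact.out
  obtain ⟨hX, hY, hZ, hJ⟩ := setup p a b c d e f g h i bs hxy hxz hyz
  rw [WF1.nonempty_pmap_iff p bs]
  simp only [hX, hY, hZ, Fin.sum_univ_three]
  constructor
  · intro H hp2
    obtain ⟨w, hw⟩ := H 1
    obtain ⟨w', hw'⟩ := H 2
    rw [hY, hp2, pow_two, My_sq] at hw
    rw [hZ, hp2, pow_two, Mz_sq] at hw'
    have e01 := congrArg TrivSqZeroExt.fst (congrFun (congrFun hw 0) 1)
    have e02 := congrArg TrivSqZeroExt.fst (congrFun (congrFun hw 0) 2)
    have e00 := congrArg TrivSqZeroExt.snd (congrFun (congrFun hw 0) 0)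
    have e11 := congrArg TrivSqZeroExt.snd (congrFun (congrFun hw 1) 1)
    have e12 := congrArg TrivSqZeroExt.snd (congrFun (congrFun hw 1) 2)
    have f02 := congrArg TrivSqZeroExt.fst (congrFun (congrFun hw' 0) 2)
    have f01 := congrArg TrivSqZeroExt.fst (congrFun (congrFun hw' 0) 1)
    have f00 := congrArg TrivSqZeroExt.snd (congrFun (congrFun hw' 0) 0)
    simp [Mx, My, Mz] at e01 e02 e00 e11 e12 f02 f01 f00
    have hw1 : TrivSqZeroExt.fst (w 1) = 0 := e02.symm
    have hw1' : TrivSqZeroExt.fst (w' 1) = 0 := f02.symm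
    rw [hw1, e01] at e00
    rw [hw1] at e12
    rw [e01] at e11
    rw [hw1', f01] at f00
    refine ⟨?_, ?_, ?_⟩
    · have hb2 : b * b = 0 := by
        have h1 : b * TrivSqZeroExt.fst (w 0) = 0 := by linear_combination -e11
        have h2 : b = -(e * TrivSqZeroExt.fst (w 0)) := by linear_combination -e12
        calc b * b = b * -(e * TrivSqZeroExt.fst (w 0)) := by rw [← h2]
          _ = -e * (b * TrivSqZeroExt.fst (w 0)) := by ring
          _ = 0 := by rw [h1, mul_zero]
      exact mul_self_eq_zero.mp hb2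
    · linear_combination -e00
    · linear_combination f00
  · intro hc r
    have h2p : 2 ≤ p := hpp.two_le
    fin_cases r
    · refine ⟨0, ?_⟩
      simp only [Fin.zero_eta, Fin.isValue, Pi.zero_apply, zero_smul, add_zero]
      rw [hX]
      have : p = 2 + (p - 2) := by omega
      rw [this, pow_add, pow_two, Mx_sq, zero_mul]
    · simp only [Fin.mk_one, Fin.isValue]
      rw [hY]
      rcases (by omega : p = 2 ∨ p = 3 ∨ 4 ≤ p) with h2 | h3 | h4
      · obtain ⟨hb, hcc, he⟩ := hc h2
        refine ⟨![0, (i - a) • ε, 0], ?_⟩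
        rw [h2, pow_two, My_sq, hb, hcc]
        refine Matrix.ext fun r s => ?_
        fin_cases r <;> fin_cases s <;>
          simp [Mx, My, Mz] <;>
          (apply TrivSqZeroExt.ext <;> simp)
      · refine ⟨![0, -(c • ε), 0], ?_⟩
        have h3' : My a b c g h i ^ 3 = My a b c g h i * My a b c g h i * My a b c g h i := by
          simp [pow_succ]
        rw [h3, h3', My_cube]
        refine Matrix.ext fun r s => ?_
        fin_cases r <;> fin_cases s <;>
          simp [Mx, My, Mz] <;>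
          (apply TrivSqZeroExt.ext <;> simp)
      · refine ⟨0, ?_⟩
        simp only [Pi.zero_apply, zero_smul, add_zero]
        exact pow_eq_zero_of_four (My_four a b c g h i) h4
    · simp only [Fin.reduceFinMk, Fin.isValue]
      rw [hZ]
      rcases (by omega : p = 2 ∨ p = 3 ∨ 4 ≤ p) with h2 | h3 | h4
      · obtain ⟨hb, hcc, he⟩ := hc h2
        have hf : f = 0 := by rw [hb, add_zero] at hJ; exact hJ
        refine ⟨![0, 0, -((d + h) • ε)], ?_⟩
        rw [h2, pow_two, Mz_sq, hf, he]
        refine Matrix.ext fun r s => ?_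
        fin_cases r <;> fin_cases s <;>
          simp [Mx, My, Mz] <;>
          (apply TrivSqZeroExt.ext <;> simp)
      · refine ⟨![0, 0, e • ε], ?_⟩
        have h3' : Mz d e f g h i ^ 3 = Mz d e f g h i * Mz d e f g h i * Mz d e f g h i := by
          simp [pow_succ]
        rw [h3, h3', Mz_cube]
        refine Matrix.ext fun r s => ?_
        fin_cases r <;> fin_cases s <;>
          simp [Mx, My, Mz] <;>
          (apply TrivSqZeroExt.ext <;> simp)
      · refine ⟨0, ?_⟩
        simp only [Pi.zero_apply, zero_smul, add_zero]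
        exact pow_eq_zero_of_four (Mz_four d e f g h i) h4

end main

end Groth.Agent.Lib.Helper8.WF2
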