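import Mathlib
import Groth.Agent.Lib.Helper8.WF1

set_option backward.isDefEq.respectTransparency.types false
set_option synthInstance.maxHeartbeats 400000
set_option autoImplicit false
set_option linter.unusedSectionVars false
set_option linter.style.haveILetI false
set_option linter.unusedSimpArgs false
set_option linter.unusedTactic false
set_option linter.unreachableTactic false
set_option linter.unnecessarySeqFocus false

universe u v

namespace Groth.Agent.Lib.Helper8.WF3

open PLie DualNumber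

variable {K : Type u} [Field K]

/-- matrix of `ad x` -/
def Mx (t a b c d e f : K) : Matrix (Fin 3) (Fin 3) (DualNumber K) :=
  !![0, a • ε, d • ε; 0, 1 + b • ε, e • ε; 0, c • ε, algebraMap K (DualNumber K) t + f • ε]

/-- matrix of `ad y` -/
def My (a b c g h i : K) : Matrix (Fin 3) (Fin 3) (DualNumber K) :=
  !![-(a • ε), 0, g • ε; -(1 + b • ε), 0, h • ε; -(c • ε), 0, i • ε]

/-- matrix of `ad z` -/
def Mz (t d e f g h i : K) : Matrix (Fin 3) (Fin 3) (DualNumber K) :=
  !![-(d • ε), -(g • ε), 0; -(e • ε), -(h • ε), 0; -(algebraMap K (DualNumber K) t + f • ε), -(i • ε), 0]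

/-- geometric sum -/
def tau (t : K) (n : ℕ) : K := ∑ k ∈ Finset.range n, t ^ k

theorem tau_succ (t : K) (n : ℕ) : tau t (n + 1) = tau t n + t ^ n := by
  unfold tau; rw [Finset.sum_range_succ]

theorem tau_succ' (t : K) (n : ℕ) : tau t (n + 1) = t * tau t n + 1 := by
  unfold tau; rw [geom_sum_succ]

/-- the `(n+1)`-st power of `Mx`. -/
def MxPow (t a b c d e f : K) (n : ℕ) : Matrix (Fin 3) (Fin 3) (DualNumber K) :=
  !![0, a • ε, (d * t ^ n) • ε;
     0, 1 + (((n + 1 : ℕ) : K) * b) • ε, (e * tau t (n + 1)) • ε;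
     0, (c * tau t (n + 1)) • ε, algebraMap K (DualNumber K) (t ^ (n + 1)) + (((n + 1 : ℕ) : K) * t ^ n * f) • ε]

theorem Mx_pow (t a b c d e f : K) (n : ℕ) :
    Mx t a b c d e f ^ (n + 1) = MxPow t a b c d e f n := by
  induction n with
  | zero =>
    rw [zero_add, pow_one]
    refine Matrix.ext fun r s => ?_
    fin_cases r <;> fin_cases s <;>
      simp [Mx, MxPow, tau, TrivSqZeroExt.algebraMap_eq_inl]
  | succ n ih =>
    rw [pow_succ, ih]
    have h1 := tau_succ t (n + 1)
    have h2 := tau_succ' t (n + 1)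
    refine Matrix.ext fun r s => ?_
    fin_cases r <;> fin_cases s <;>
      simp [Mx, MxPow, Matrix.mul_apply, Fin.sum_univ_three, TrivSqZeroExt.algebraMap_eq_inl] <;>
      (apply TrivSqZeroExt.ext <;> simp <;>
        first | ring1 | linear_combination (-e) * h2 | linear_combination (-c) * h1)


theorem tau_mul (t : K) (n : ℕ) : tau t n * (t - 1) = t ^ n - 1 := by
  unfold tau; exact geom_sum_mul t n

theorem tau_one (n : ℕ) : tau (1 : K) n = (n : K) := by
  unfold tau; simp

/-- the `p`-th power of `Mx` -/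
theorem Mx_pow_p (p : ℕ) [Fact p.Prime] [CharP K p] (t a b c d e f h : K) (ht : t ^ p = t)
    (hd : d = t * h) :
    Mx t a b c d e f ^ p =
      !![0, a • ε, d • ε; 0, 1, (e * tau t p) • ε; 0, (c * tau t p) • ε,
        algebraMap K (DualNumber K) t] := by
  have hpp : p.Prime := Fact.out
  obtain ⟨n, rfl⟩ := Nat.exists_eq_add_one_of_ne_zero hpp.ne_zero
  rw [Mx_pow]
  have hc0 : ((n + 1 : ℕ) : K) = 0 := CharP.cast_eq_zero K (n + 1)
  have hdt : d * t ^ n = d := by
    rw [hd]
    calc t * h * t ^ n = h * t ^ (n + 1) := by ring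
      _ = t * h := by rw [ht]; ring
  unfold MxPow
  rw [hc0, hdt, ht]
  simp

theorem My_sq (a b c g h i : K) : My a b c g h i * My a b c g h i =
    !![0, 0, 0; a • ε, 0, -(g • ε); 0, 0, 0] := by
  refine Matrix.ext fun r s => ?_
  fin_cases r <;> fin_cases s <;>
    simp [My, Matrix.mul_apply, Fin.sum_univ_three] <;>
    (apply TrivSqZeroExt.ext <;> simp)

theorem My_cube (a b c g h i : K) : My a b c g h i * My a b c g h i * My a b c g h i = 0 := by
  rw [My_sq]
  refine Matrix.ext fun r s => ?_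
  fin_cases r <;> fin_cases s <;>
    simp [My, Matrix.mul_apply, Fin.sum_univ_three]

theorem Mz_sq (t d e f g h i : K) : Mz t d e f g h i * Mz t d e f g h i =
    !![0, 0, 0; 0, 0, 0; (t * d) • ε, (t * g) • ε, 0] := by
  refine Matrix.ext fun r s => ?_
  fin_cases r <;> fin_cases s <;>
    simp [Mz, Matrix.mul_apply, Fin.sum_univ_three, TrivSqZeroExt.algebraMap_eq_inl] <;>
    (apply TrivSqZeroExt.ext <;> simp <;> ring1)

theorem Mz_cube (t d e f g h i : K) :
    Mz t d e f g h i * Mz t d e f g h i * Mz t d e f g h i = 0 := by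
  rw [Mz_sq]
  refine Matrix.ext fun r s => ?_
  fin_cases r <;> fin_cases s <;>
    simp [Mz, Matrix.mul_apply, Fin.sum_univ_three]

theorem pow_eq_zero_of_three {M : Matrix (Fin 3) (Fin 3) (DualNumber K)}
    (h : M * M * M = 0) {p : ℕ} (hp : 3 ≤ p) : M ^ p = 0 := by
  have : p = 3 + (p - 3) := by omega
  rw [this, pow_add]
  have h3 : M ^ 3 = M * M * M := by
    simp [pow_succ]
  rw [h3, h, zero_mul]


section main
variable (p : ℕ) [Fact p.Prime] [CharP K p] [CharP (DualNumber K) p] (t a b c d e f g h i : K)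
  {L : Type v} [LieRing L] [LieAlgebra (DualNumber K) L] (bs : Module.Basis (Fin 3) (DualNumber K) L)

include p in
theorem setup
    (hxy : ⁅bs 0, bs 1⁆ = (a • ε : DualNumber K) • bs 0 + (1 + b • ε : DualNumber K) • bs 1 + (c • ε : DualNumber K) • bs 2)
    (hxz : ⁅bs 0, bs 2⁆ = (d • ε : DualNumber K) • bs 0 + (e • ε : DualNumber K) • bs 1 +
      (algebraMap K (DualNumber K) t + f • ε) • bs 2)
    (hyz : ⁅bs 1, bs 2⁆ = (g • ε : DualNumber K) • bs 0 + (h • ε : DualNumber K) • bs 1 + (i • ε : DualNumber K) • bs 2) :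
    LinearMap.toMatrix bs bs (LieAlgebra.ad (DualNumber K) L (bs 0)) = Mx t a b c d e f ∧
    LinearMap.toMatrix bs bs (LieAlgebra.ad (DualNumber K) L (bs 1)) = My a b c g h i ∧
    LinearMap.toMatrix bs bs (LieAlgebra.ad (DualNumber K) L (bs 2)) = Mz t d e f g h i ∧
    d = t * h := by
  obtain ⟨h0, h1, h2⟩ := WF1.toMatrix_ad_basis bs ![a • ε, 1 + b • ε, c • ε]
    ![d • ε, e • ε, algebraMap K (DualNumber K) t + f • ε]
    ![g • ε, h • ε, i • ε] hxy hxz hyz
  have hX : LinearMap.toMatrix bs bs (LieAlgebra.ad (DualNumber K) L (bs 0)) = Mx t a b c d e f := by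
    rw [h0]; rfl
  have hY : LinearMap.toMatrix bs bs (LieAlgebra.ad (DualNumber K) L (bs 1)) = My a b c g h i := by
    rw [h1]; rfl
  have hZ : LinearMap.toMatrix bs bs (LieAlgebra.ad (DualNumber K) L (bs 2)) = Mz t d e f g h i := by
    rw [h2]; rfl
  refine ⟨hX, hY, hZ, ?_⟩
  have hJ0 : LieAlgebra.ad (DualNumber K) L ⁅bs 1, bs 2⁆ =
      LieAlgebra.ad (DualNumber K) L (bs 1) * LieAlgebra.ad (DualNumber K) L (bs 2) -
        LieAlgebra.ad (DualNumber K) L (bs 2) * LieAlgebra.ad (DualNumber K) L (bs 1) := by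
    refine LinearMap.ext fun m => ?_
    rw [LinearMap.sub_apply, Module.End.mul_apply, Module.End.mul_apply, LieAlgebra.ad_apply,
      LieAlgebra.ad_apply, LieAlgebra.ad_apply, LieAlgebra.ad_apply, LieAlgebra.ad_apply, lie_lie]
  have hJ1 := congrArg (LinearMap.toMatrix bs bs) hJ0
  rw [map_sub, LinearMap.toMatrix_mul, LinearMap.toMatrix_mul, hY, hZ, hyz] at hJ1
  simp only [map_add, map_smul] at hJ1
  rw [hX, hY, hZ] at hJ1
  have h10 := congrFun (congrFun hJ1 1) 0
  simp [Mx, My, Mz, Matrix.mul_apply, Fin.sum_univ_three, TrivSqZeroExt.algebraMap_eq_inl] at h10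
  have := congrArg TrivSqZeroExt.snd h10
  simp at this
  linear_combination this


theorem main13778 (ht : t ^ p = t)
    (hxy : ⁅bs 0, bs 1⁆ = (a • ε : DualNumber K) • bs 0 + (1 + b • ε : DualNumber K) • bs 1 + (c • ε : DualNumber K) • bs 2)
    (hxz : ⁅bs 0, bs 2⁆ = (d • ε : DualNumber K) • bs 0 + (e • ε : DualNumber K) • bs 1 +
      (algebraMap K (DualNumber K) t + f • ε) • bs 2)
    (hyz : ⁅bs 1, bs 2⁆ = (g • ε : DualNumber K) • bs 0 + (h • ε : DualNumber K) • bs 1 + (i • ε : DualNumber K) • bs 2) :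
    Nonempty (PLie.PMap (DualNumber K) p L) ↔
      (b * t = f ∧ (t = 1 → c = 0 ∧ e = 0) ∧ (p = 2 → g = 0)) := by
  have hpp : p.Prime := Fact.out
  obtain ⟨hX, hY, hZ, hJ⟩ := setup p t a b c d e f g h i bs hxy hxz hyz
  have hXp := Mx_pow_p p t a b c d e f h ht hJ
  have htau1 : t = 1 → tau t p = 0 := by
    intro h1
    rw [h1, tau_one]
    exact CharP.cast_eq_zero K p
  have htau2 : t ≠ 1 → tau t p = 1 := by
    intro h1
    have h2 := tau_mul t p
    rw [ht] at h2
    have h3 : t - 1 ≠ 0 := sub_ne_zero.mpr h1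
    exact mul_right_cancel₀ h3 (by rw [h2, one_mul])
  rw [WF1.nonempty_pmap_iff p bs]
  simp only [hX, hY, hZ, Fin.sum_univ_three]
  constructor
  · intro H
    obtain ⟨w, hw⟩ := H 0
    rw [hX, hXp] at hw
    have e11 := congrArg TrivSqZeroExt.fst (congrFun (congrFun hw 1) 1)
    have e10 := congrArg TrivSqZeroExt.fst (congrFun (congrFun hw 1) 0)
    have e20 := congrArg TrivSqZeroExt.fst (congrFun (congrFun hw 2) 0)
    have s11 := congrArg TrivSqZeroExt.snd (congrFun (congrFun hw 1) 1)
    have s22 := congrArg TrivSqZeroExt.snd (congrFun (congrFun hw 2) 2)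
    have s12 := congrArg TrivSqZeroExt.snd (congrFun (congrFun hw 1) 2)
    have s21 := congrArg TrivSqZeroExt.snd (congrFun (congrFun hw 2) 1)
    simp [Mx, My, Mz, TrivSqZeroExt.algebraMap_eq_inl] at e11 e10 e20 s11 s22 s12 s21
    have hw2t : TrivSqZeroExt.fst (w 2) * t = 0 := by
      rcases e20 with h' | h' <;> simp [h']
    rw [← e11] at s11 s22 s12 s21
    rw [e10] at s22 s12
    refine ⟨?_, ?_, ?_⟩
    · linear_combination (-t) * s11 + s22 + h * hw2t
    · intro h1
      have ht0 : t ≠ 0 := by rw [h1]; exact one_ne_zero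
      have hw2 : TrivSqZeroExt.fst (w 2) = 0 := by
        rcases e20 with h' | h'
        · exact h'
        · exact absurd h' ht0
      rw [htau1 h1] at s12 s21
      rw [hw2] at s21
      constructor
      · linear_combination -s21
      · linear_combination -s12
    · intro hp2
      obtain ⟨w', hw'⟩ := H 1
      rw [hY, hp2, pow_two, My_sq] at hw'
      have f11 := congrArg TrivSqZeroExt.fst (congrFun (congrFun hw' 1) 1)
      have f10 := congrArg TrivSqZeroExt.fst (congrFun (congrFun hw' 1) 0)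
      have t12 := congrArg TrivSqZeroExt.snd (congrFun (congrFun hw' 1) 2)
      simp [Mx, My, Mz, TrivSqZeroExt.algebraMap_eq_inl] at f11 f10 t12
      rw [← f11, f10] at t12
      linear_combination -t12
  · rintro ⟨hbt, hce, hg⟩ r
    have h2p : 2 ≤ p := hpp.two_le
    fin_cases r
    · simp only [Fin.zero_eta, Fin.isValue]
      rw [hX, hXp]
      have heτ : e * tau t p = e := by
        by_cases h1 : t = 1
        · rw [(hce h1).2, zero_mul]
        · rw [htau2 h1, mul_one]
      have hcτ : c * tau t p = c := by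
        by_cases h1 : t = 1
        · rw [(hce h1).1, zero_mul]
        · rw [htau2 h1, mul_one]
      rw [heτ, hcτ]
      refine ⟨![1 - b • ε, 0, 0], ?_⟩
      refine Matrix.ext fun r s => ?_
      fin_cases r <;> fin_cases s <;>
        simp [Mx, My, Mz, TrivSqZeroExt.algebraMap_eq_inl] <;>
        (apply TrivSqZeroExt.ext <;> simp <;> first | ring1 | linear_combination hbt | linear_combination -hbt)
    · simp only [Fin.mk_one, Fin.isValue]
      rw [hY]
      rcases (by omega : p = 2 ∨ 3 ≤ p) with h2 | h3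
      · have hg0 := hg h2
        refine ⟨![0, -(a • ε), 0], ?_⟩
        rw [h2, pow_two, My_sq, hg0]
        refine Matrix.ext fun r s => ?_
        fin_cases r <;> fin_cases s <;>
          simp [Mx, My, Mz, TrivSqZeroExt.algebraMap_eq_inl] <;>
          (apply TrivSqZeroExt.ext <;> simp)
      · refine ⟨0, ?_⟩
        simp only [Pi.zero_apply, zero_smul, add_zero]
        exact pow_eq_zero_of_three (My_cube a b c g h i) h3
    · simp only [Fin.reduceFinMk, Fin.isValue]
      rw [hZ]
      rcases (by omega : p = 2 ∨ 3 ≤ p) with h2 | h3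
      · have hg0 := hg h2
        refine ⟨![0, 0, -(d • ε)], ?_⟩
        rw [h2, pow_two, Mz_sq, hg0]
        refine Matrix.ext fun r s => ?_
        fin_cases r <;> fin_cases s <;>
          simp [Mx, My, Mz, TrivSqZeroExt.algebraMap_eq_inl] <;>
          (apply TrivSqZeroExt.ext <;> simp <;> ring1)
      · refine ⟨0, ?_⟩
        simp only [Pi.zero_apply, zero_smul, add_zero]
        exact pow_eq_zero_of_three (Mz_cube t d e f g h i) h3

end main

end Groth.Agent.Lib.Helper8.WF3
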