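import Mathlib.RingTheory.DividedPowers.Basic
import Mathlib.Data.Nat.Choose.Vandermonde

set_option backward.isDefEq.respectTransparency.types false
set_option synthInstance.maxHeartbeats 400000
set_option autoImplicit false
set_option linter.unusedSectionVars false
set_option linter.style.haveILetI false

/-!
# Divided powers from generators, part 1: the product rule is closed under sums and scalars
-/

namespace Groth.Agent.Lib.Helper8.WG

open Finset

universe u

variable {A : Type u} [CommRing A]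

/-- The product rule at `x`. -/
def MulRule (d : ℕ → A → A) (x : A) : Prop :=
  ∀ m n : ℕ, d m x * d n x = ((m + n).choose m : A) * d (m + n) x

/-- The composition rule at `x`. -/
def CompRule (d : ℕ → A → A) (x : A) : Prop :=
  ∀ m n : ℕ, n ≠ 0 → d m (d n x) = (Nat.uniformBell m n : A) * d (m * n) x

/-- The raw axioms (all but the product and composition rules). -/
structure RawDP (I : Ideal A) (d : ℕ → A → A) : Prop where
  zero : ∀ x ∈ I, d 0 x = 1
  one : ∀ x ∈ I, d 1 x = x
  mem : ∀ (n : ℕ) (x : A), n ≠ 0 → x ∈ I → d n x ∈ I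
  add : ∀ (n : ℕ) (x y : A), x ∈ I → y ∈ I →
    d n (x + y) = (antidiagonal n).sum fun k => d k.1 x * d k.2 y
  mul : ∀ (n : ℕ) (a x : A), x ∈ I → d n (a * x) = a ^ n * d n x

variable {I : Ideal A} {d : ℕ → A → A}

theorem RawDP.eval_zero (h : RawDP I d) {n : ℕ} (hn : n ≠ 0) : d n 0 = 0 := by
  have := h.mul n 0 0 I.zero_mem
  rw [zero_mul, zero_pow hn, zero_mul] at this
  exact this

theorem mulRule_zero (h : RawDP I d) : MulRule d 0 := by
  intro m n
  by_cases hm : m = 0
  · subst hm
    rw [h.zero 0 I.zero_mem, one_mul, zero_add, Nat.choose_zero_right, Nat.cast_one, one_mul]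
  · have hmn : m + n ≠ 0 := by omega
    rw [h.eval_zero hm, h.eval_zero hmn, zero_mul, mul_zero]

theorem mulRule_smul (h : RawDP I d) {x : A} (hx : x ∈ I) (hm : MulRule d x) (a : A) :
    MulRule d (a * x) := by
  intro m n
  rw [h.mul m a x hx, h.mul n a x hx, h.mul (m + n) a x hx, pow_add]
  have := hm m n
  calc a ^ m * d m x * (a ^ n * d n x) = a ^ m * a ^ n * (d m x * d n x) := by ring
    _ = a ^ m * a ^ n * (((m + n).choose m : A) * d (m + n) x) := by rw [this]
    _ = _ := by ring

theorem mulRule_add (h : RawDP I d) {x y : A} (hx : x ∈ I) (hy : y ∈ I)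
    (hmx : MulRule d x) (hmy : MulRule d y) : MulRule d (x + y) := by
  intro m n
  rw [h.add m x y hx hy, h.add n x y hx hy, h.add (m + n) x y hx hy]
  rw [Finset.sum_mul_sum, Finset.mul_sum]
  -- rewrite the right-hand side with Vandermonde
  have hR : ∀ c ∈ antidiagonal (m + n),
      ((m + n).choose m : A) * (d c.1 x * d c.2 y) =
        ∑ a ∈ antidiagonal m, (d c.1 x * d c.2 y) *
          ((c.1.choose a.1 * c.2.choose a.2 : ℕ) : A) := by
    intro c hc
    rw [HasAntidiagonal.mem_antidiagonal] at hc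
    rw [← hc, Nat.add_choose_eq, Nat.cast_sum, Finset.sum_mul]
    exact Finset.sum_congr rfl (fun _ _ => mul_comm _ _)
  rw [Finset.sum_congr rfl hR]
  have hL : ∀ a ∈ antidiagonal m, ∀ b ∈ antidiagonal n,
      d a.1 x * d a.2 y * (d b.1 x * d b.2 y) =
        (d (a.1 + b.1) x * d (a.2 + b.2) y) *
          (((a.1 + b.1).choose a.1 * (a.2 + b.2).choose a.2 : ℕ) : A) := by
    intro a _ b _
    have h1 := hmx a.1 b.1
    have h2 := hmy a.2 b.2
    calc d a.1 x * d a.2 y * (d b.1 x * d b.2 y)
        = (d a.1 x * d b.1 x) * (d a.2 y * d b.2 y) := by ring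
      _ = _ := by rw [h1, h2]; push_cast; ring
  rw [Finset.sum_congr rfl (fun a ha => Finset.sum_congr rfl (hL a ha))]
  rw [← Finset.sum_product', ← Finset.sum_product']
  refine Finset.sum_bij_ne_zero (fun ab _ _ => ((ab.1.1 + ab.2.1, ab.1.2 + ab.2.2), ab.1))
    ?_ ?_ ?_ ?_
  · intro ab hab _
    rw [mem_product, HasAntidiagonal.mem_antidiagonal, HasAntidiagonal.mem_antidiagonal] at hab
    rw [mem_product, HasAntidiagonal.mem_antidiagonal, HasAntidiagonal.mem_antidiagonal]
    refine ⟨?_, hab.1⟩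
    simp only
    omega
  · intro ab hab _ ab' hab' _ heq
    simp only [Prod.mk.injEq] at heq
    obtain ⟨⟨h1, h2⟩, h3⟩ := heq
    have e1 : ab.1.1 = ab'.1.1 := by rw [h3]
    have e2 : ab.1.2 = ab'.1.2 := by rw [h3]
    refine Prod.ext h3 (Prod.ext ?_ ?_)
    · omega
    · omega
  · intro ca hca hne
    rw [mem_product, HasAntidiagonal.mem_antidiagonal, HasAntidiagonal.mem_antidiagonal] at hca
    have hN : ca.1.1.choose ca.2.1 * ca.1.2.choose ca.2.2 ≠ 0 := by
      intro h0
      apply hne
      rw [h0, Nat.cast_zero, mul_zero]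
    have h1 : ca.2.1 ≤ ca.1.1 := by
      by_contra hlt
      exact hN (by rw [Nat.choose_eq_zero_of_lt (Nat.lt_of_not_le hlt), zero_mul])
    have h2 : ca.2.2 ≤ ca.1.2 := by
      by_contra hlt
      exact hN (by rw [Nat.choose_eq_zero_of_lt (Nat.lt_of_not_le hlt), mul_zero])
    refine ⟨(ca.2, (ca.1.1 - ca.2.1, ca.1.2 - ca.2.2)), ?_, ?_, ?_⟩
    · rw [mem_product, HasAntidiagonal.mem_antidiagonal, HasAntidiagonal.mem_antidiagonal]
      refine ⟨hca.2, ?_⟩
      simp only
      omega
    · simp only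
      have e1 : ca.2.1 + (ca.1.1 - ca.2.1) = ca.1.1 := by omega
      have e2 : ca.2.2 + (ca.1.2 - ca.2.2) = ca.1.2 := by omega
      rw [e1, e2]
      exact hne
    · simp only
      have e1 : ca.2.1 + (ca.1.1 - ca.2.1) = ca.1.1 := by omega
      have e2 : ca.2.2 + (ca.1.2 - ca.2.2) = ca.1.2 := by omega
      rw [e1, e2]
  · intro ab _ _
    rfl

/-- The product rule holds on all of `I` if it holds on generators. -/
theorem mulRule_of_span (h : RawDP I d) (S : Set A) (hS : Ideal.span S = I)
    (hmS : ∀ x ∈ S, MulRule d x) : ∀ x ∈ I, MulRule d x := by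
  intro x hx
  have key : ∀ x ∈ Ideal.span S, x ∈ I ∧ MulRule d x := by
    intro x hx
    induction hx using Submodule.span_induction with
    | mem x hx => exact ⟨hS ▸ Ideal.subset_span hx, hmS x hx⟩
    | zero => exact ⟨I.zero_mem, mulRule_zero h⟩
    | add x y _ _ hx hy => exact ⟨I.add_mem hx.1 hy.1, mulRule_add h hx.1 hy.1 hx.2 hy.2⟩
    | smul a x _ hx => exact ⟨I.mul_mem_left a hx.1, mulRule_smul h hx.1 hx.2 a⟩
  exact (key x (hS ▸ hx)).2

/-- Raw version of `DividedPowers.prod_dpow`. -/
theorem prod_dpow_raw {x : A} (h0 : d 0 x = 1) (hm : MulRule d x)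
    {ι : Type*} (s : Finset ι) (f : ι → ℕ) :
    (s.prod fun i => d (f i) x) = (Nat.multinomial s f : A) * d (s.sum f) x := by
  classical
  induction s using Finset.induction with
  | empty =>
    simp only [prod_empty, Nat.multinomial_empty, Nat.cast_one, sum_empty, one_mul]
    rw [h0]
  | insert a s hi hrec =>
    rw [prod_insert hi, hrec, ← mul_assoc, mul_comm (d (f _) x),
      mul_assoc, hm, ← sum_insert hi, ← mul_assoc]
    apply congr_arg₂ _ _ rfl
    rw [Nat.multinomial_insert hi, mul_comm, Nat.cast_mul, sum_insert hi]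

theorem pow_dpow_raw {x : A} (h0 : d 0 x = 1) (hm : MulRule d x) (c j : ℕ) :
    (d j x) ^ c = (Nat.multinomial (Finset.range c) (fun _ => j) : A) * d (c * j) x := by
  have := prod_dpow_raw h0 hm (Finset.range c) (fun _ => j)
  rw [Finset.prod_const, Finset.card_range, Finset.sum_const, Finset.card_range,
    smul_eq_mul] at this
  exact this

end Groth.Agent.Lib.Helper8.WG
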