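import Groth.Agent.Lib.Helper8.WG1

set_option backward.isDefEq.respectTransparency.types false
set_option synthInstance.maxHeartbeats 400000
set_option autoImplicit false
set_option linter.unusedSectionVars false
set_option linter.style.haveILetI false

/-!
# Divided powers from generators, part 2: expansion of `d m (d n (x + y))`
-/

namespace Groth.Agent.Lib.Helper8.WG

open Finset

universe u

variable {A : Type u} [CommRing A] {I : Ideal A} {d : ℕ → A → A}

/-- The coefficient in `d c (d i x * d j y) = phi c i j * (d (c i) x * d (c j) y)`. -/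
def phi (c i j : ℕ) : ℕ :=
  if i = 0 then Nat.uniformBell c j
  else Nat.uniformBell c i * Nat.multinomial (Finset.range c) (fun _ => j)

theorem dpow_term (h : RawDP I d) {x y : A} (hx : x ∈ I) (hy : y ∈ I)
    (hcx : CompRule d x) (hcy : CompRule d y) (hmy : MulRule d y)
    (c i j : ℕ) (hij : i ≠ 0 ∨ j ≠ 0) :
    d c (d i x * d j y) = (phi c i j : A) * (d (c * i) x * d (c * j) y) := by
  unfold phi
  split_ifs with hi
  · subst hi
    have hj : j ≠ 0 := by tauto
    rw [h.zero x hx, one_mul, mul_zero, h.zero x hx, one_mul, hcy c j hj]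
  · rw [mul_comm (d i x), h.mul c _ _ (h.mem i x hi hx), hcx c i hi,
      pow_dpow_raw (h.zero y hy) hmy c j]
    push_cast
    ring

/-- The weight of a multiset. -/
def wt (n m : ℕ) (k : Sym ℕ m) : ℕ := ∑ i ∈ range (n + 1), Multiset.count i (k : Multiset ℕ) * i

/-- The coefficient attached to a multiset. -/
def Phi (n m : ℕ) (k : Sym ℕ m) : ℕ :=
  (∏ i ∈ range (n + 1), phi (Multiset.count i (k : Multiset ℕ)) i (n - i)) *
    Nat.multinomial (range (n + 1)) (fun i => Multiset.count i (k : Multiset ℕ) * i) *
    Nat.multinomial (range (n + 1)) (fun i => Multiset.count i (k : Multiset ℕ) * (n - i))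

/-- The universal coefficients. -/
def Ncoef (m n p : ℕ) : ℕ :=
  ∑ k ∈ ((range (n + 1)).sym m).filter (fun k => wt n m k = p), Phi n m k

theorem wt_add (n m : ℕ) (k : Sym ℕ m) (hk : k ∈ (range (n + 1)).sym m) :
    wt n m k + ∑ i ∈ range (n + 1), Multiset.count i (k : Multiset ℕ) * (n - i) = m * n := by
  unfold wt
  rw [← Finset.sum_add_distrib]
  have h1 : ∀ i ∈ range (n + 1), Multiset.count i (k : Multiset ℕ) * i +
      Multiset.count i (k : Multiset ℕ) * (n - i) = Multiset.count i (k : Multiset ℕ) * n := by
    intro i hi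
    rw [mem_range] at hi
    rw [← mul_add]
    congr 1
    omega
  rw [Finset.sum_congr rfl h1, ← Finset.sum_mul]
  have h4 : ∑ i ∈ range (n + 1), Multiset.count i (k : Multiset ℕ) = m := by
    have := Multiset.sum_count_eq_card (s := range (n + 1)) (m := (k : Multiset ℕ))
      (fun a ha => Finset.mem_sym_iff.mp hk a ha)
    rw [Sym.card_coe] at this
    convert this
  rw [h4]

theorem comp_add_formula (h : RawDP I d) (hmul : ∀ z ∈ I, MulRule d z) {x y : A}
    (hx : x ∈ I) (hy : y ∈ I) (hcx : CompRule d x) (hcy : CompRule d y)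
    (m n : ℕ) (hn : n ≠ 0) :
    d m (d n (x + y)) =
      ∑ p ∈ range (m * n + 1), (Ncoef m n p : A) * (d p x * d (m * n - p) y) := by
  classical
  have e1 : d n (x + y) = ∑ i ∈ range (n + 1), d i x * d (n - i) y := by
    rw [h.add n x y hx hy, Finset.Nat.sum_antidiagonal_eq_sum_range_succ_mk]
  have hmem : ∀ i ∈ range (n + 1), d i x * d (n - i) y ∈ I.toAddSubmonoid := by
    intro i _
    by_cases hi : i = 0
    · subst hi
      exact I.mul_mem_left _ (h.mem _ y (by simpa using hn) hy)
    · exact I.mul_mem_right _ (h.mem i x hi hx)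
  have e2 := DividedPowers.dpow_sum' (I := I.toAddSubmonoid) d (fun {z} hz => h.zero z hz)
    (fun {n z w} hz hw => h.add n z w hz hw) (fun {n} hn => h.eval_zero hn)
    (s := range (n + 1)) (x := fun i => d i x * d (n - i) y) hmem (n := m)
  rw [e1, e2]
  -- each term
  have hterm : ∀ k ∈ (range (n + 1)).sym m,
      (∏ i ∈ range (n + 1), d (Multiset.count i (k : Multiset ℕ)) (d i x * d (n - i) y)) =
        (Phi n m k : A) * (d (wt n m k) x * d (m * n - wt n m k) y) := by
    intro k hk
    have h1 : ∀ i ∈ range (n + 1),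
        d (Multiset.count i (k : Multiset ℕ)) (d i x * d (n - i) y) =
          (phi (Multiset.count i (k : Multiset ℕ)) i (n - i) : A) *
            (d (Multiset.count i (k : Multiset ℕ) * i) x *
              d (Multiset.count i (k : Multiset ℕ) * (n - i)) y) := by
      intro i _
      refine dpow_term h hx hy hcx hcy (hmul y hy) _ i (n - i) ?_
      by_cases hi : i = 0
      · right; subst hi; simpa using hn
      · left; exact hi
    rw [Finset.prod_congr rfl h1, Finset.prod_mul_distrib, Finset.prod_mul_distrib,
      prod_dpow_raw (h.zero x hx) (hmul x hx), prod_dpow_raw (h.zero y hy) (hmul y hy)]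
    have h2 : ∑ i ∈ range (n + 1), Multiset.count i (k : Multiset ℕ) * (n - i) =
        m * n - wt n m k := by
      have := wt_add n m k hk
      omega
    have h3 : ∑ i ∈ range (n + 1), Multiset.count i (k : Multiset ℕ) * i = wt n m k := rfl
    rw [h2, h3]
    unfold Phi
    push_cast
    ring
  rw [Finset.sum_congr rfl hterm]
  have hmaps : ∀ k ∈ (range (n + 1)).sym m, wt n m k ∈ range (m * n + 1) := by
    intro k hk
    rw [mem_range]
    have := wt_add n m k hk
    omega
  rw [← Finset.sum_fiberwise_of_maps_to hmaps]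
  refine Finset.sum_congr rfl (fun p _ => ?_)
  unfold Ncoef
  rw [Nat.cast_sum, Finset.sum_mul]
  refine Finset.sum_congr rfl (fun k hk => ?_)
  rw [(Finset.mem_filter.mp hk).2]

end Groth.Agent.Lib.Helper8.WG
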