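import Mathlib.RingTheory.DividedPowers.RatAlgebra
import Groth.Agent.Lib.Helper8.WG2

set_option backward.isDefEq.respectTransparency.types false
set_option synthInstance.maxHeartbeats 400000
set_option autoImplicit false
set_option linter.unusedSectionVars false
set_option linter.style.haveILetI false

/-!
# Divided powers from generators, part 3: the universal coefficients, and the composition rule
-/

namespace Groth.Agent.Lib.Helper8.WG

open Finset

universe u

theorem rawDP_of_dividedPowers {A : Type u} [CommRing A] {I : Ideal A} (hI : DividedPowers I) :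
    RawDP I hI.dpow :=
  ⟨fun _ hx => hI.dpow_zero hx, fun _ hx => hI.dpow_one hx, fun _ _ hn hx => hI.dpow_mem hn hx,
    fun _ _ _ hx hy => hI.dpow_add hx hy, fun _ _ _ hx => hI.dpow_mul hx⟩

theorem Ncoef_eq (m n p : ℕ) (hn : n ≠ 0) (hp : p ≤ m * n) :
    Ncoef m n p = Nat.uniformBell m n := by
  classical
  let hI : DividedPowers (⊤ : Ideal (Polynomial ℚ)) := DividedPowers.RatAlgebra.dividedPowers ⊤
  have hraw := rawDP_of_dividedPowers hI
  have hmul : ∀ z ∈ (⊤ : Ideal (Polynomial ℚ)), MulRule hI.dpow z :=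
    fun z hz m n => hI.mul_dpow hz
  have hcomp : ∀ z ∈ (⊤ : Ideal (Polynomial ℚ)), CompRule hI.dpow z :=
    fun z hz m n hn => hI.dpow_comp hn hz
  have hX : (Polynomial.X : Polynomial ℚ) ∈ (⊤ : Ideal (Polynomial ℚ)) := trivial
  have h1 : (1 : Polynomial ℚ) ∈ (⊤ : Ideal (Polynomial ℚ)) := trivial
  have key := comp_add_formula hraw hmul hX h1 (hcomp _ hX) (hcomp _ h1) m n hn
  rw [hI.dpow_comp hn (Ideal.add_mem _ hX h1), hI.dpow_add' hX h1, Finset.mul_sum] at key
  have hF : ∀ q : ℕ, hI.dpow q Polynomial.X * hI.dpow (m * n - q) 1 =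
      (((q.factorial : ℚ)⁻¹ * ((m * n - q).factorial : ℚ)⁻¹) • (Polynomial.X ^ q : Polynomial ℚ)) := by
    intro q
    rw [DividedPowers.RatAlgebra.dpow_eq_inv_fact_smul _ hI hX,
      DividedPowers.RatAlgebra.dpow_eq_inv_fact_smul _ hI h1, one_pow, Ring.inverse_eq_inv',
      smul_mul_smul_comm, mul_one]
  simp only [hF] at key
  have key2 := congrArg (fun f => Polynomial.coeff f p) key
  simp only [Polynomial.finsetSum_coeff, Polynomial.coeff_natCast_mul, Polynomial.coeff_smul,
    Polynomial.coeff_X_pow, smul_eq_mul, mul_ite, mul_one, mul_zero] at key2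
  rw [Finset.sum_ite_eq (range (m * n + 1)) p, Finset.sum_ite_eq (range (m * n + 1)) p,
    if_pos (mem_range.mpr (by omega)), if_pos (mem_range.mpr (by omega))] at key2
  have hne : ((p.factorial : ℚ)⁻¹ * ((m * n - p).factorial : ℚ)⁻¹) ≠ 0 := by
    apply mul_ne_zero <;> exact inv_ne_zero (Nat.cast_ne_zero.mpr (Nat.factorial_ne_zero _))
  have key3 := mul_right_cancel₀ hne key2
  exact (Nat.cast_injective key3).symm

variable {A : Type u} [CommRing A] {I : Ideal A} {d : ℕ → A → A}

theorem compRule_zero (h : RawDP I d) : CompRule d 0 := by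
  intro m n hn
  rw [h.eval_zero hn]
  by_cases hm : m = 0
  · subst hm
    rw [h.zero 0 I.zero_mem, Nat.uniformBell_zero_left, Nat.cast_one, one_mul, zero_mul,
      h.zero 0 I.zero_mem]
  · rw [h.eval_zero hm, h.eval_zero (Nat.mul_ne_zero hm hn), mul_zero]

theorem compRule_smul (h : RawDP I d) {x : A} (hx : x ∈ I) (hc : CompRule d x) (a : A) :
    CompRule d (a * x) := by
  intro m n hn
  rw [h.mul n a x hx, h.mul m _ _ (h.mem n x hn hx), hc m n hn, h.mul (m * n) a x hx, ← pow_mul,
    mul_comm n m]
  ring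

theorem compRule_add (h : RawDP I d) (hmul : ∀ z ∈ I, MulRule d z) {x y : A}
    (hx : x ∈ I) (hy : y ∈ I) (hcx : CompRule d x) (hcy : CompRule d y) :
    CompRule d (x + y) := by
  intro m n hn
  rw [comp_add_formula h hmul hx hy hcx hcy m n hn, h.add (m * n) x y hx hy,
    Finset.Nat.sum_antidiagonal_eq_sum_range_succ_mk, Finset.mul_sum]
  refine Finset.sum_congr rfl (fun p hp => ?_)
  rw [Ncoef_eq m n p hn (by rw [mem_range] at hp; omega)]

theorem compRule_of_span (h : RawDP I d) (hmul : ∀ z ∈ I, MulRule d z) (S : Set A)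
    (hS : Ideal.span S = I) (hcS : ∀ x ∈ S, CompRule d x) : ∀ x ∈ I, CompRule d x := by
  intro x hx
  have key : ∀ x ∈ Ideal.span S, x ∈ I ∧ CompRule d x := by
    intro x hx
    induction hx using Submodule.span_induction with
    | mem x hx => exact ⟨hS ▸ Ideal.subset_span hx, hcS x hx⟩
    | zero => exact ⟨I.zero_mem, compRule_zero h⟩
    | add x y _ _ hx hy =>
      exact ⟨I.add_mem hx.1 hy.1, compRule_add h hmul hx.1 hy.1 hx.2 hy.2⟩
    | smul a x _ hx => exact ⟨I.mul_mem_left a hx.1, compRule_smul h hx.1 hx.2 a⟩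
  exact (key x (hS ▸ hx)).2

/-- A divided power structure from the raw axioms plus the product and composition rules on a
generating set. -/
theorem exists_dividedPowers_of_generators (I : Ideal A) (S : Set A) (hS : Ideal.span S = I)
    (d : ℕ → A → A) (h_null : ∀ (n : ℕ) (x : A), x ∉ I → d n x = 0) (h : RawDP I d)
    (hmS : ∀ x ∈ S, MulRule d x) (hcS : ∀ x ∈ S, CompRule d x) :
    ∃ γ : DividedPowers I, γ.dpow = d := by
  have hmul := mulRule_of_span h S hS hmS
  have hcomp := compRule_of_span h hmul S hS hcS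
  exact ⟨{ dpow := d
           dpow_null := fun hx => h_null _ _ hx
           dpow_zero := fun hx => h.zero _ hx
           dpow_one := fun hx => h.one _ hx
           dpow_mem := fun hn hx => h.mem _ _ hn hx
           dpow_add := fun hx hy => h.add _ _ _ hx hy
           dpow_mul := fun hx => h.mul _ _ _ hx
           mul_dpow := fun hx => hmul _ hx _ _
           dpow_comp := fun hn hx => hcomp _ hx _ _ hn }, rfl⟩

end Groth.Agent.Lib.Helper8.WG
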