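import Mathlib.RingTheory.DividedPowers.RatAlgebra
import Mathlib.Tactic.LinearCombination
import Mathlib.Tactic.Ring
import Groth.Agent.Lib.Helper8.WG3

set_option backward.isDefEq.respectTransparency.types false
set_option synthInstance.maxHeartbeats 400000
set_option autoImplicit false
set_option linter.unusedSectionVars false
set_option linter.style.haveILetI false

/-!
# Numerical identities for divided power monomials
-/

namespace Groth.Agent.Lib.Helper8.WG

open Finset

universe u

section Seq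

variable {A : Type u} [CommRing A]

/-- Sequences of exponential type are closed under convolution. -/
theorem seqRule_conv {u v w : ℕ → A}
    (hw : ∀ n, w n = ∑ k ∈ antidiagonal n, u k.1 * v k.2)
    (hu : ∀ m n, u m * u n = ((m + n).choose m : A) * u (m + n))
    (hv : ∀ m n, v m * v n = ((m + n).choose m : A) * v (m + n)) :
    ∀ m n, w m * w n = ((m + n).choose m : A) * w (m + n) := by
  -- apply `mulRule_add` to a fake divided power function on `A × ...`: we simply redo the proof
  intro m n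
  rw [hw m, hw n, hw (m + n)]
  rw [Finset.sum_mul_sum, Finset.mul_sum]
  have hR : ∀ c ∈ antidiagonal (m + n),
      ((m + n).choose m : A) * (u c.1 * v c.2) =
        ∑ a ∈ antidiagonal m, (u c.1 * v c.2) *
          ((c.1.choose a.1 * c.2.choose a.2 : ℕ) : A) := by
    intro c hc
    rw [HasAntidiagonal.mem_antidiagonal] at hc
    rw [← hc, Nat.add_choose_eq, Nat.cast_sum, Finset.sum_mul]
    exact Finset.sum_congr rfl (fun _ _ => mul_comm _ _)
  rw [Finset.sum_congr rfl hR]
  have hL : ∀ a ∈ antidiagonal m, ∀ b ∈ antidiagonal n,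
      u a.1 * v a.2 * (u b.1 * v b.2) =
        (u (a.1 + b.1) * v (a.2 + b.2)) *
          (((a.1 + b.1).choose a.1 * (a.2 + b.2).choose a.2 : ℕ) : A) := by
    intro a _ b _
    have h1 := hu a.1 b.1
    have h2 := hv a.2 b.2
    calc u a.1 * v a.2 * (u b.1 * v b.2)
        = (u a.1 * u b.1) * (v a.2 * v b.2) := by ring
      _ = _ := by rw [h1, h2]; push_cast; ring
  rw [Finset.sum_congr rfl (fun a ha => Finset.sum_congr rfl (hL a ha))]
  rw [← Finset.sum_product', ← Finset.sum_product']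
  refine Finset.sum_bij_ne_zero (fun ab _ _ => ((ab.1.1 + ab.2.1, ab.1.2 + ab.2.2), ab.1))
    ?_ ?_ ?_ ?_
  · intro ab hab _
    rw [mem_product, HasAntidiagonal.mem_antidiagonal, HasAntidiagonal.mem_antidiagonal] at hab
    rw [mem_product, HasAntidiagonal.mem_antidiagonal, HasAntidiagonal.mem_antidiagonal]
    refine ⟨?_, hab.1⟩
    simp only
    omega
  · intro ab hab _ ab' hab' _ heq
    simp only [Prod.mk.injEq] at heq
    obtain ⟨⟨h1, h2⟩, h3⟩ := heq
    have e1 : ab.1.1 = ab'.1.1 := by rw [h3]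
    have e2 : ab.1.2 = ab'.1.2 := by rw [h3]
    refine Prod.ext h3 (Prod.ext ?_ ?_)
    · omega
    · omega
  · intro ca hca hne
    rw [mem_product, HasAntidiagonal.mem_antidiagonal, HasAntidiagonal.mem_antidiagonal] at hca
    have hN : ca.1.1.choose ca.2.1 * ca.1.2.choose ca.2.2 ≠ 0 := by
      intro h0
      apply hne
      rw [h0, Nat.cast_zero, mul_zero]
    have h1 : ca.2.1 ≤ ca.1.1 := by
      by_contra hlt
      exact hN (by rw [Nat.choose_eq_zero_of_lt (Nat.lt_of_not_le hlt), zero_mul])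
    have h2 : ca.2.2 ≤ ca.1.2 := by
      by_contra hlt
      exact hN (by rw [Nat.choose_eq_zero_of_lt (Nat.lt_of_not_le hlt), mul_zero])
    refine ⟨(ca.2, (ca.1.1 - ca.2.1, ca.1.2 - ca.2.2)), ?_, ?_, ?_⟩
    · rw [mem_product, HasAntidiagonal.mem_antidiagonal, HasAntidiagonal.mem_antidiagonal]
      refine ⟨hca.2, ?_⟩
      simp only
      omega
    · simp only
      have e1 : ca.2.1 + (ca.1.1 - ca.2.1) = ca.1.1 := by omega
      have e2 : ca.2.2 + (ca.1.2 - ca.2.2) = ca.1.2 := by omega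
      rw [e1, e2]
      exact hne
    · simp only
      have e1 : ca.2.1 + (ca.1.1 - ca.2.1) = ca.1.1 := by omega
      have e2 : ca.2.2 + (ca.1.2 - ca.2.2) = ca.1.2 := by omega
      rw [e1, e2]
  · intro ab _ _
    rfl

end Seq

section Num

variable {N : ℕ}

/-- Multi-factorial. -/
def fac (e : Fin N →₀ ℕ) : ℕ := ∏ l : Fin N, (e l).factorial

/-- Multi-binomial. -/
def mm (e f : Fin N →₀ ℕ) : ℕ := ∏ l : Fin N, (e l + f l).choose (e l)

/-- `(kn)!/(n!)^k`. -/
def Q1 (k n : ℕ) : ℕ := Nat.multinomial (Finset.range k) (fun _ => n)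

/-- `(ke)!/(e!)^k`. -/
def Qe (k : ℕ) (e : Fin N →₀ ℕ) : ℕ := ∏ l : Fin N, Q1 k (e l)

/-- `(ke)!/(k!(e!)^k)`. -/
def cc (k : ℕ) (e : Fin N →₀ ℕ) : ℕ := Qe k e / k.factorial

theorem fac_pos (e : Fin N →₀ ℕ) : 0 < fac e :=
  Finset.prod_pos (fun _ _ => Nat.factorial_pos _)

theorem mm_spec (e f : Fin N →₀ ℕ) : mm e f * fac e * fac f = fac (e + f) := by
  unfold mm fac
  rw [← Finset.prod_mul_distrib, ← Finset.prod_mul_distrib]
  refine Finset.prod_congr rfl (fun l _ => ?_)
  rw [Finsupp.add_apply, ← Nat.add_choose_mul_factorial_mul_factorial (e l) (f l),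
    Nat.choose_symm_add]

theorem Q1_spec (k n : ℕ) : Q1 k n * n.factorial ^ k = (k * n).factorial := by
  have := Nat.multinomial_spec (Finset.range k) (fun _ => n)
  rw [Finset.prod_const, Finset.card_range, Finset.sum_const, Finset.card_range, smul_eq_mul]
    at this
  unfold Q1
  rw [mul_comm]; exact this

theorem Qe_spec (k : ℕ) (e : Fin N →₀ ℕ) : Qe k e * fac e ^ k = fac (k • e) := by
  unfold Qe fac
  rw [← Finset.prod_pow, ← Finset.prod_mul_distrib]
  refine Finset.prod_congr rfl (fun l _ => ?_)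
  rw [Finsupp.smul_apply, smul_eq_mul, Q1_spec]

theorem Q1_eq (k : ℕ) {n : ℕ} (hn : n ≠ 0) : Q1 k n = k.factorial * Nat.uniformBell k n := by
  have h1 := Q1_spec k n
  have h2 := Nat.uniformBell_mul_eq k hn
  have hpos : 0 < n.factorial ^ k := Nat.pow_pos (Nat.factorial_pos n)
  apply Nat.eq_of_mul_eq_mul_right hpos
  rw [h1, ← h2]; ring

theorem cc_spec (k : ℕ) {e : Fin N →₀ ℕ} (he : e ≠ 0) : k.factorial * cc k e = Qe k e := by
  unfold cc
  apply Nat.mul_div_cancel'
  obtain ⟨l, hl⟩ : ∃ l, e l ≠ 0 := by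
    by_contra hcon
    push Not at hcon
    exact he (Finsupp.ext hcon)
  have h1 : k.factorial ∣ Q1 k (e l) := ⟨_, Q1_eq k hl⟩
  exact h1.trans (Finset.dvd_prod_of_mem _ (Finset.mem_univ l))

theorem N1 {e : Fin N →₀ ℕ} (he : e ≠ 0) (i j : ℕ) :
    cc i e * cc j e * mm (i • e) (j • e) = (i + j).choose i * cc (i + j) e := by
  have h1 := cc_spec i he
  have h2 := cc_spec j he
  have h3 := cc_spec (i + j) he
  have h4 := Qe_spec i e
  have h5 := Qe_spec j e
  have h6 := Qe_spec (i + j) e
  have h7 := mm_spec (i • e) (j • e)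
  have h8 : i • e + j • e = (i + j) • e := (add_smul i j e).symm
  have h9 := Nat.add_choose_mul_factorial_mul_factorial i j
  rw [← Nat.choose_symm_add] at h9
  have hK : 0 < i.factorial * j.factorial * fac e ^ (i + j) :=
    Nat.mul_pos (Nat.mul_pos (Nat.factorial_pos _) (Nat.factorial_pos _))
      (Nat.pow_pos (fac_pos e))
  apply Nat.eq_of_mul_eq_mul_left hK
  calc i.factorial * j.factorial * fac e ^ (i + j) * (cc i e * cc j e * mm (i • e) (j • e))
      = (i.factorial * cc i e * fac e ^ i) * (j.factorial * cc j e * fac e ^ j) *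
          mm (i • e) (j • e) := by rw [pow_add]; ring
    _ = mm (i • e) (j • e) * fac (i • e) * fac (j • e) := by rw [h1, h2, h4, h5]; ring
    _ = fac ((i + j) • e) := by rw [h7, h8]
    _ = (i + j).factorial * cc (i + j) e * fac e ^ (i + j) := by rw [h3, h6]
    _ = _ := by rw [← h9]; ring

theorem N2 {e : Fin N →₀ ℕ} (he : e ≠ 0) (f : Fin N →₀ ℕ) (k : ℕ) :
    mm f e ^ k * cc k (e + f) = Qe k f * cc k e * mm (k • f) (k • e) := by
  have hef : e + f ≠ 0 := by
    intro h0
    apply he
    ext l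
    have := DFunLike.congr_fun h0 l
    simp only [Finsupp.add_apply, Finsupp.zero_apply] at this ⊢
    omega
  have h1 := cc_spec k he
  have h2 := cc_spec k hef
  have h3 := Qe_spec k e
  have h4 := Qe_spec k f
  have h5 := Qe_spec k (e + f)
  have h6 := mm_spec f e
  have h7 := mm_spec (k • f) (k • e)
  have h8 : k • f + k • e = k • (e + f) := by rw [smul_add, add_comm]
  have h9 : f + e = e + f := add_comm _ _
  have hK : 0 < k.factorial * fac e ^ k * fac f ^ k :=
    Nat.mul_pos (Nat.mul_pos (Nat.factorial_pos _) (Nat.pow_pos (fac_pos e)))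
      (Nat.pow_pos (fac_pos f))
  apply Nat.eq_of_mul_eq_mul_left hK
  calc k.factorial * fac e ^ k * fac f ^ k * (mm f e ^ k * cc k (e + f))
      = (mm f e * fac f * fac e) ^ k * (k.factorial * cc k (e + f)) := by ring
    _ = fac (k • (e + f)) := by rw [h6, h9, h2, mul_comm, h5]
    _ = mm (k • f) (k • e) * fac (k • f) * fac (k • e) := by rw [h7, h8]
    _ = _ := by rw [← h3, ← h4, ← h1]; ring

theorem cc_zero_left (e : Fin N →₀ ℕ) : cc 0 e = 1 := by
  unfold cc Qe Q1
  simp

theorem cc_one_left (e : Fin N →₀ ℕ) : cc 1 e = 1 := by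
  unfold cc Qe Q1
  simp

theorem cc_single (m : ℕ) (i : Fin N) {n : ℕ} (hn : n ≠ 0) :
    cc m (Finsupp.single i n) = Nat.uniformBell m n := by
  have hne : (Finsupp.single i n : Fin N →₀ ℕ) ≠ 0 := by
    intro h0
    have := DFunLike.congr_fun h0 i
    simp at this
    exact hn this
  have h1 := cc_spec m hne
  have h2 : Qe m (Finsupp.single i n) = Q1 m n := by
    unfold Qe
    rw [Finset.prod_eq_single i]
    · rw [Finsupp.single_eq_same]
    · intro l _ hl
      rw [Finsupp.single_eq_of_ne hl]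
      have := Q1_spec m 0
      simpa using this
    · intro h; exact absurd (Finset.mem_univ i) h
  rw [h2, Q1_eq m hn] at h1
  exact Nat.eq_of_mul_eq_mul_left (Nat.factorial_pos m) h1

/-- `uB(n,k)^m uB(m,nk) = uB(m,n) uB(mn,k)`, via the rational divided powers on `ℚ`. -/
theorem N3 (m : ℕ) {n k : ℕ} (hn : n ≠ 0) (hk : k ≠ 0) :
    Nat.uniformBell n k ^ m * Nat.uniformBell m (n * k) =
      Nat.uniformBell m n * Nat.uniformBell (m * n) k := by
  classical
  let hI : DividedPowers (⊤ : Ideal ℚ) := DividedPowers.RatAlgebra.dividedPowers ⊤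
  have h1 : (1 : ℚ) ∈ (⊤ : Ideal ℚ) := trivial
  have hnk : n * k ≠ 0 := Nat.mul_ne_zero hn hk
  have e1 : hI.dpow m (hI.dpow n (hI.dpow k 1)) =
      ((Nat.uniformBell n k ^ m * Nat.uniformBell m (n * k) : ℕ) : ℚ) *
        hI.dpow (m * (n * k)) 1 := by
    rw [hI.dpow_comp hk h1, hI.dpow_mul (hI.dpow_mem hnk h1), hI.dpow_comp hnk h1]
    push_cast; ring
  have e2 : hI.dpow m (hI.dpow n (hI.dpow k 1)) =
      ((Nat.uniformBell m n * Nat.uniformBell (m * n) k : ℕ) : ℚ) *
        hI.dpow (m * (n * k)) 1 := by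
    rw [hI.dpow_comp hn (hI.dpow_mem hk h1), hI.dpow_comp hk h1, mul_assoc m n k]
    push_cast; ring
  have hne : hI.dpow (m * (n * k)) 1 ≠ 0 := by
    rw [DividedPowers.RatAlgebra.dpow_eq_inv_fact_smul _ hI h1, one_pow, Ring.inverse_eq_inv',
      smul_eq_mul, mul_one]
    exact inv_ne_zero (Nat.cast_ne_zero.mpr (Nat.factorial_ne_zero _))
  have := mul_right_cancel₀ hne (e1.symm.trans e2)
  exact Nat.cast_injective this

end Num

end Groth.Agent.Lib.Helper8.WG
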