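import Mathlib.RingTheory.DividedPowers.RatAlgebra
import Mathlib.Tactic.LinearCombination
import Mathlib.Tactic.Ring
import Mathlib.LinearAlgebra.Basis.Basic
import Groth.Agent.Lib.Helper8.WG6

set_option backward.isDefEq.respectTransparency.types false
set_option synthInstance.maxHeartbeats 400000
set_option autoImplicit false
set_option linter.unusedSectionVars false
set_option linter.style.haveILetI false

/-!
# Divided power monomials in an abstract divided power polynomial algebra
-/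

namespace Groth.Agent.Lib.Helper8.WG

open Finset

universe u v

variable {N : ℕ} {P : Type v} [CommRing P] (x : Fin N → ℕ → P)

/-- The hypotheses on the family `x i n = X_i^[n]`. -/
structure DPFam : Prop where
  hx0 : ∀ i, x i 0 = 1
  hxmul : ∀ i n m, x i n * x i m = ((n + m).choose n : P) * x i (n + m)

/-- The monomial `∏ X_l^[e_l]`. -/
def bm (e : Fin N →₀ ℕ) : P := ∏ l : Fin N, x l (e l)

/-- The augmentation ideal. -/
def Pp : Ideal P := Ideal.span {y : P | ∃ (i : Fin N) (n : ℕ), 1 ≤ n ∧ y = x i n}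

variable {x}

theorem bm_zero (h : DPFam x) : bm x 0 = 1 :=
  Finset.prod_eq_one (fun l _ => by rw [Finsupp.zero_apply, h.hx0])

theorem bm_single (h : DPFam x) (i : Fin N) (n : ℕ) : bm x (Finsupp.single i n) = x i n := by
  unfold bm
  rw [Finset.prod_eq_single i]
  · rw [Finsupp.single_eq_same]
  · intro l _ hl
    rw [Finsupp.single_eq_of_ne hl, h.hx0]
  · intro hi; exact absurd (Finset.mem_univ i) hi

theorem bm_eq_finsupp_prod (h : DPFam x) (e : Fin N →₀ ℕ) :
    e.prod (fun i k => x i k) = bm x e :=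
  Finsupp.prod_fintype e _ (fun i => h.hx0 i)

theorem bm_mul (h : DPFam x) (e f : Fin N →₀ ℕ) :
    bm x e * bm x f = (mm e f : P) * bm x (e + f) := by
  unfold bm mm
  rw [← Finset.prod_mul_distrib, Nat.cast_prod, ← Finset.prod_mul_distrib]
  refine Finset.prod_congr rfl (fun l _ => ?_)
  rw [h.hxmul, Finsupp.add_apply]

theorem x_pow (h : DPFam x) (l : Fin N) (n k : ℕ) :
    (x l n) ^ k = (Q1 k n : P) * x l (k * n) := by
  have := pow_dpow_raw (A := P) (d := fun m (_ : P) => x l m) (x := (0 : P)) (h.hx0 l)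
    (fun m n => h.hxmul l m n) k n
  exact this

theorem bm_pow (h : DPFam x) (e : Fin N →₀ ℕ) (k : ℕ) :
    (bm x e) ^ k = (Qe k e : P) * bm x (k • e) := by
  unfold bm Qe
  rw [← Finset.prod_pow, Nat.cast_prod, ← Finset.prod_mul_distrib]
  refine Finset.prod_congr rfl (fun l _ => ?_)
  rw [x_pow h, Finsupp.smul_apply, smul_eq_mul]

theorem bm_mem (e : Fin N →₀ ℕ) (he : e ≠ 0) : bm x e ∈ Pp x := by
  obtain ⟨l, hl⟩ : ∃ l, e l ≠ 0 := by
    by_contra hcon
    push Not at hcon
    exact he (Finsupp.ext hcon)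
  refine Ideal.prod_mem _ (Finset.mem_univ l) ?_
  exact Ideal.subset_span ⟨l, e l, Nat.one_le_iff_ne_zero.mpr hl, rfl⟩

theorem smul_ne_zero' {e : Fin N →₀ ℕ} (he : e ≠ 0) {k : ℕ} (hk : k ≠ 0) : k • e ≠ 0 := by
  intro h0
  apply he
  ext l
  have := DFunLike.congr_fun h0 l
  simp only [Finsupp.smul_apply, smul_eq_mul, Finsupp.zero_apply, mul_eq_zero] at this
  rw [Finsupp.zero_apply]
  tauto

variable (x)

/-- The `k`-th divided power of the monomial `bm e`. -/
noncomputable def Dk (k : ℕ) (e : Fin N →₀ ℕ) : P :=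
  open scoped Classical in
  if e = 0 then (if k = 0 then 1 else 0) else (cc k e : P) * bm x (k • e)

variable {x}

theorem Dk_of_ne {e : Fin N →₀ ℕ} (he : e ≠ 0) (k : ℕ) :
    Dk x k e = (cc k e : P) * bm x (k • e) := by
  unfold Dk; rw [if_neg he]

theorem Dk_zero (h : DPFam x) (e : Fin N →₀ ℕ) : Dk x 0 e = 1 := by
  by_cases he : e = 0
  · unfold Dk; rw [if_pos he, if_pos rfl]
  · rw [Dk_of_ne he, cc_zero_left, zero_smul, bm_zero h, Nat.cast_one, one_mul]

theorem Dk_one {e : Fin N →₀ ℕ} (he : e ≠ 0) : Dk x 1 e = bm x e := by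
  rw [Dk_of_ne he, cc_one_left, one_smul, Nat.cast_one, one_mul]

theorem Dk_mem {e : Fin N →₀ ℕ} (he : e ≠ 0) {k : ℕ} (hk : k ≠ 0) : Dk x k e ∈ Pp x := by
  rw [Dk_of_ne he]
  exact Ideal.mul_mem_left _ _ (bm_mem _ (smul_ne_zero' he hk))

theorem Dk_mul (h : DPFam x) (e : Fin N →₀ ℕ) (i j : ℕ) :
    Dk x i e * Dk x j e = ((i + j).choose i : P) * Dk x (i + j) e := by
  by_cases he : e = 0
  · unfold Dk
    rw [if_pos he, if_pos he, if_pos he]
    by_cases hi : i = 0
    · subst hi
      simp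
    · have hij : i + j ≠ 0 := by omega
      rw [if_neg hi, if_neg hij, zero_mul, mul_zero]
  · rw [Dk_of_ne he, Dk_of_ne he, Dk_of_ne he]
    have h1 := N1 he i j
    have h2 : i • e + j • e = (i + j) • e := (add_smul i j e).symm
    calc (cc i e : P) * bm x (i • e) * ((cc j e : P) * bm x (j • e))
        = (cc i e : P) * (cc j e : P) * (bm x (i • e) * bm x (j • e)) := by ring
      _ = ((cc i e * cc j e * mm (i • e) (j • e) : ℕ) : P) * bm x ((i + j) • e) := by
          rw [bm_mul h, h2]; push_cast; ring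
      _ = _ := by rw [h1]; push_cast; ring

theorem Dk_scale (h : DPFam x) {e : Fin N →₀ ℕ} (he : e ≠ 0) (f : Fin N →₀ ℕ) (k : ℕ) :
    (mm f e : P) ^ k * Dk x k (e + f) = (bm x f) ^ k * Dk x k e := by
  have hef : e + f ≠ 0 := by
    intro h0
    apply he
    ext l
    have := DFunLike.congr_fun h0 l
    simp only [Finsupp.add_apply, Finsupp.zero_apply] at this ⊢
    omega
  rw [Dk_of_ne he, Dk_of_ne hef, bm_pow h]
  have h1 := N2 he f k
  have h2 : k • f + k • e = k • (e + f) := by rw [smul_add, add_comm]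
  calc (mm f e : P) ^ k * ((cc k (e + f) : P) * bm x (k • (e + f)))
      = ((mm f e ^ k * cc k (e + f) : ℕ) : P) * bm x (k • (e + f)) := by push_cast; ring
    _ = ((Qe k f * cc k e * mm (k • f) (k • e) : ℕ) : P) * bm x (k • (e + f)) := by rw [h1]
    _ = (Qe k f : P) * (cc k e : P) * (bm x (k • f) * bm x (k • e)) := by
        rw [bm_mul h, h2]; push_cast; ring
    _ = _ := by ring

end Groth.Agent.Lib.Helper8.WG
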