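import Mathlib.RingTheory.DividedPowers.RatAlgebra
import Mathlib.Tactic.LinearCombination
import Mathlib.Tactic.Ring
import Mathlib.LinearAlgebra.Basis.Basic
import Groth.Agent.Lib.Helper8.WG7

set_option backward.isDefEq.respectTransparency.types false
set_option synthInstance.maxHeartbeats 400000
set_option autoImplicit false
set_option linter.unusedSectionVars false
set_option linter.style.haveILetI false

/-!
# The exponential map of an abstract divided power polynomial algebra
-/

namespace Groth.Agent.Lib.Helper8.WG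

open Finset

universe u v

section ET

variable {P : Type v} [CommRing P]

/-- Power series of exponential type. -/
def ET (f : PowerSeries P) : Prop :=
  ∀ i j : ℕ, PowerSeries.coeff i f * PowerSeries.coeff j f =
    ((i + j).choose i : P) * PowerSeries.coeff (i + j) f

theorem ET_one : ET (1 : PowerSeries P) := by
  intro i j
  simp only [PowerSeries.coeff_one]
  by_cases hi : i = 0
  · subst hi; simp
  · have hij : i + j ≠ 0 := by omega
    rw [if_neg hi, if_neg hij, zero_mul, mul_zero]

theorem ET_mul {f g : PowerSeries P} (hf : ET f) (hg : ET g) : ET (f * g) :=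
  seqRule_conv (u := fun n => PowerSeries.coeff n f) (v := fun n => PowerSeries.coeff n g)
    (w := fun n => PowerSeries.coeff n (f * g)) (fun n => PowerSeries.coeff_mul n f g) hf hg

theorem ET_prod {ι : Type*} (s : Finset ι) (g : ι → PowerSeries P) (h : ∀ i ∈ s, ET (g i)) :
    ET (∏ i ∈ s, g i) := by
  classical
  induction s using Finset.induction with
  | empty => rw [Finset.prod_empty]; exact ET_one
  | insert a s ha ih =>
    rw [Finset.prod_insert ha]
    exact ET_mul (h a (Finset.mem_insert_self a s))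
      (ih (fun i hi => h i (Finset.mem_insert_of_mem hi)))

theorem ET_rescale {f : PowerSeries P} (hf : ET f) (w : P) : ET (PowerSeries.rescale w f) := by
  intro i j
  rw [PowerSeries.coeff_rescale, PowerSeries.coeff_rescale, PowerSeries.coeff_rescale, pow_add]
  have := hf i j
  calc w ^ i * PowerSeries.coeff i f * (w ^ j * PowerSeries.coeff j f)
      = w ^ i * w ^ j * (PowerSeries.coeff i f * PowerSeries.coeff j f) := by ring
    _ = _ := by rw [this]; ring

theorem rescale_add_of_ET {f : PowerSeries P} (hf : ET f) (w w' : P) :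
    PowerSeries.rescale (w + w') f = PowerSeries.rescale w f * PowerSeries.rescale w' f := by
  ext n
  rw [PowerSeries.coeff_mul, PowerSeries.coeff_rescale, (Commute.all w w').add_pow' n,
    Finset.sum_mul]
  refine Finset.sum_congr rfl (fun k hk => ?_)
  rw [HasAntidiagonal.mem_antidiagonal] at hk
  rw [PowerSeries.coeff_rescale, PowerSeries.coeff_rescale, nsmul_eq_mul]
  have h1 := hf k.1 k.2
  rw [hk] at h1
  calc (n.choose k.1 : P) * (w ^ k.1 * w' ^ k.2) * PowerSeries.coeff n f
      = (w ^ k.1 * w' ^ k.2) * ((n.choose k.1 : P) * PowerSeries.coeff n f) := by ring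
    _ = _ := by rw [← h1]; ring

theorem coeff_zero_prod {ι : Type*} (s : Finset ι) (g : ι → PowerSeries P)
    (h : ∀ i ∈ s, PowerSeries.coeff 0 (g i) = 1) : PowerSeries.coeff 0 (∏ i ∈ s, g i) = 1 := by
  rw [PowerSeries.coeff_zero_eq_constantCoeff_apply, map_prod]
  refine Finset.prod_eq_one (fun i hi => ?_)
  rw [← PowerSeries.coeff_zero_eq_constantCoeff_apply]
  exact h i hi

theorem coeff_one_prod {ι : Type*} (s : Finset ι) (g : ι → PowerSeries P)
    (h : ∀ i ∈ s, PowerSeries.coeff 0 (g i) = 1) :
    PowerSeries.coeff 1 (∏ i ∈ s, g i) = ∑ i ∈ s, PowerSeries.coeff 1 (g i) := by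
  classical
  induction s using Finset.induction with
  | empty => simp
  | insert a s ha ih =>
    rw [Finset.prod_insert ha, Finset.sum_insert ha, PowerSeries.coeff_mul,
      Finset.Nat.antidiagonal_succ]
    have h0 := coeff_zero_prod s g (fun i hi => h i (Finset.mem_insert_of_mem hi))
    have ha0 := h a (Finset.mem_insert_self a s)
    have ih' := ih (fun i hi => h i (Finset.mem_insert_of_mem hi))
    simp [h0, ha0, ih', add_comm]

end ET

variable {R : Type u} [CommRing R] {N : ℕ} {P : Type v} [CommRing P] [Algebra R P]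
  (x : Fin N → ℕ → P)

/-- The exponential of a monomial. -/
noncomputable def Ge (e : Fin N →₀ ℕ) : PowerSeries P := PowerSeries.mk fun k => Dk x k e

/-- The exponential of a scalar multiple of a monomial. -/
noncomputable def Fe (e : Fin N →₀ ℕ) (a : R) : PowerSeries P :=
  PowerSeries.rescale (algebraMap R P a) (Ge x e)

variable {x}

theorem coeff_Fe (e : Fin N →₀ ℕ) (a : R) (k : ℕ) :
    PowerSeries.coeff k (Fe x e a) = (algebraMap R P a) ^ k * Dk x k e := by
  unfold Fe Ge
  rw [PowerSeries.coeff_rescale, PowerSeries.coeff_mk]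

theorem ET_Ge (h : DPFam x) (e : Fin N →₀ ℕ) : ET (Ge x e) := by
  intro i j
  unfold Ge
  simp only [PowerSeries.coeff_mk]
  exact Dk_mul h e i j

theorem ET_Fe (h : DPFam x) (e : Fin N →₀ ℕ) (a : R) : ET (Fe x e a) :=
  ET_rescale (ET_Ge h e) _

theorem Fe_zero (h : DPFam x) (e : Fin N →₀ ℕ) : Fe x e (0 : R) = 1 := by
  ext k
  rw [coeff_Fe, map_zero, PowerSeries.coeff_one]
  split_ifs with hk
  · subst hk; rw [pow_zero, one_mul, Dk_zero h]
  · rw [zero_pow hk, zero_mul]

theorem Fe_add (h : DPFam x) (e : Fin N →₀ ℕ) (a a' : R) :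
    Fe x e (a + a') = Fe x e a * Fe x e a' := by
  unfold Fe
  rw [map_add]
  exact rescale_add_of_ET (ET_Ge h e) _ _

theorem Fe_mul (e : Fin N →₀ ℕ) (r a : R) :
    Fe x e (r * a) = PowerSeries.rescale (algebraMap R P r) (Fe x e a) := by
  unfold Fe
  rw [PowerSeries.rescale_rescale, map_mul, mul_comm]

theorem coeff_zero_Fe (h : DPFam x) (e : Fin N →₀ ℕ) (a : R) :
    PowerSeries.coeff 0 (Fe x e a) = 1 := by
  rw [coeff_Fe, pow_zero, one_mul, Dk_zero h]

variable (x)

/-- The exponential map. -/
noncomputable def Ee (b : Module.Basis (Fin N →₀ ℕ) R P) (y : P) : PowerSeries P :=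
  (b.repr y).prod (fun e a => Fe x e a)

variable {x} (b : Module.Basis (Fin N →₀ ℕ) R P)

theorem Ee_add (h : DPFam x) (y y' : P) : Ee x b (y + y') = Ee x b y * Ee x b y' := by
  unfold Ee
  rw [map_add, Finsupp.prod_add_index' (fun e => Fe_zero h e) (fun e a a' => Fe_add h e a a')]

theorem Ee_zero : Ee x b 0 = 1 := by
  unfold Ee
  rw [map_zero, Finsupp.prod_zero_index]

theorem Ee_smul_basis (h : DPFam x) (a : R) (e : Fin N →₀ ℕ) :
    Ee x b (a • b e) = Fe x e a := by
  unfold Ee
  rw [map_smul, b.repr_self, Finsupp.smul_single, smul_eq_mul, mul_one,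
    Finsupp.prod_single_index (Fe_zero h e)]

theorem ET_Ee (h : DPFam x) (y : P) : ET (Ee x b y) :=
  ET_prod _ _ (fun e _ => ET_Fe h e _)

theorem coeff_zero_Ee (h : DPFam x) (y : P) : PowerSeries.coeff 0 (Ee x b y) = 1 :=
  coeff_zero_prod _ _ (fun e _ => coeff_zero_Fe h e _)

theorem Ee_smul (h : DPFam x) (r : R) (y : P) :
    Ee x b (r • y) = PowerSeries.rescale (algebraMap R P r) (Ee x b y) := by
  unfold Ee
  rw [map_smul, Finsupp.prod_of_support_subset (r • b.repr y) Finsupp.support_smul _
    (fun e _ => Fe_zero h e)]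
  unfold Finsupp.prod
  rw [map_prod]
  refine Finset.prod_congr rfl (fun e _ => ?_)
  rw [Finsupp.smul_apply, smul_eq_mul, Fe_mul]

end Groth.Agent.Lib.Helper8.WG
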