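import Mathlib.RingTheory.DividedPowers.RatAlgebra
import Mathlib.RingTheory.DividedPowers.DPMorphism
import Mathlib.Tactic.LinearCombination
import Mathlib.Tactic.Ring
import Mathlib.LinearAlgebra.Basis.Basic
import Groth.Agent.Lib.Helper8.WG8

set_option backward.isDefEq.respectTransparency.types false
set_option synthInstance.maxHeartbeats 400000
set_option autoImplicit false
set_option linter.unusedSectionVars false
set_option linter.style.haveILetI false

/-!
# Divided powers on the augmentation ideal of an abstract divided power polynomial algebra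
-/

namespace Groth.Agent.Lib.Helper8.WG

open Finset

universe u v

variable {R : Type u} [CommRing R] {N : ℕ} {P : Type v} [CommRing P] [Algebra R P]
  {x : Fin N → ℕ → P} (b : Module.Basis (Fin N →₀ ℕ) R P)

/-- The augmentation. -/
noncomputable def aug : P →ₗ[R] R := (Finsupp.lapply 0) ∘ₗ b.repr.toLinearMap

theorem aug_apply (y : P) : aug b y = b.repr y 0 := rfl

theorem aug_basis (e : Fin N →₀ ℕ) : aug b (b e) = if e = 0 then 1 else 0 := by
  rw [aug_apply, b.repr_self, Finsupp.single_apply]

theorem natCast_mul_eq_smul (n : ℕ) (y : P) : (n : P) * y = (n : R) • y := by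
  rw [Nat.cast_smul_eq_nsmul, nsmul_eq_mul]

theorem aug_mul (h : DPFam x) (hb : ∀ e, b e = bm x e) (w y : P) :
    aug b (w * y) = aug b w * aug b y := by
  have key : (LinearMap.mul R P).compr₂ (aug b) =
      (LinearMap.mul R R).compl₁₂ (aug b) (aug b) := by
    refine b.ext fun e => b.ext fun f => ?_
    simp only [LinearMap.compr₂_apply, LinearMap.mul_apply', LinearMap.compl₁₂_apply]
    rw [hb e, hb f, bm_mul h, natCast_mul_eq_smul (R := R), map_smul, ← hb, ← hb e, ← hb f,
      aug_basis, aug_basis, aug_basis, smul_eq_mul]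
    by_cases he : e = 0
    · subst he
      by_cases hf : f = 0
      · subst hf
        simp [mm]
      · have : (0 : Fin N →₀ ℕ) + f ≠ 0 := by rwa [zero_add]
        rw [if_neg this, if_neg hf, mul_zero, mul_zero]
    · have : e + f ≠ 0 := by
        intro h0
        apply he
        ext l
        have := DFunLike.congr_fun h0 l
        simp only [Finsupp.add_apply, Finsupp.zero_apply] at this ⊢
        omega
      rw [if_neg this, if_neg he, mul_zero, zero_mul]
  have := LinearMap.congr_fun (LinearMap.congr_fun key w) y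
  simpa using this

theorem sum_repr' (y : P) : y = ∑ e ∈ (b.repr y).support, (b.repr y e) • b e := by
  conv_lhs => rw [← b.linearCombination_repr y]
  rw [Finsupp.linearCombination_apply, Finsupp.sum]

theorem mem_Pp_iff (h : DPFam x) (hb : ∀ e, b e = bm x e) (y : P) :
    y ∈ Pp x ↔ aug b y = 0 := by
  constructor
  · intro hy
    unfold Pp at hy
    induction hy using Submodule.span_induction with
    | mem y hy =>
      obtain ⟨i, n, hn, rfl⟩ := hy
      rw [← bm_single h, ← hb, aug_basis, if_neg]
      intro h0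
      have := DFunLike.congr_fun h0 i
      simp at this
      omega
    | zero => exact map_zero _
    | add y y' _ _ hy hy' => rw [map_add, hy, hy', add_zero]
    | smul w y _ hy => rw [smul_eq_mul, aug_mul b h hb, hy, mul_zero]
  · intro hy
    rw [sum_repr' b y]
    refine Submodule.sum_mem _ (fun e he => ?_)
    have he0 : e ≠ 0 := by
      rintro rfl
      rw [Finsupp.mem_support_iff] at he
      exact he hy
    rw [Algebra.smul_def, hb]
    exact Ideal.mul_mem_left _ _ (bm_mem e he0)

/-- Induction principle on the augmentation ideal. -/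
theorem Pp_induction (h : DPFam x) (hb : ∀ e, b e = bm x e) {T : P → Prop} (h0 : T 0)
    (hadd : ∀ y y', T y → T y' → T (y + y')) (hmon : ∀ (a : R) (e : Fin N →₀ ℕ), e ≠ 0 → T (a • b e))
    (y : P) (hy : y ∈ Pp x) : T y := by
  rw [mem_Pp_iff b h hb] at hy
  rw [sum_repr' b y]
  refine Finset.sum_induction _ T hadd h0 (fun e he => hmon _ e ?_)
  rintro rfl
  rw [Finsupp.mem_support_iff] at he
  exact he hy

/-- Series with constant term one and higher coefficients in the augmentation ideal. -/
def SPp (x : Fin N → ℕ → P) : Submonoid (PowerSeries P) where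
  carrier := {f | PowerSeries.coeff 0 f = 1 ∧ ∀ n : ℕ, n ≠ 0 → PowerSeries.coeff n f ∈ Pp x}
  one_mem' := by
    refine ⟨PowerSeries.coeff_zero_one, fun n hn => ?_⟩
    rw [PowerSeries.coeff_one, if_neg hn]
    exact Ideal.zero_mem _
  mul_mem' := by
    rintro f g ⟨hf0, hf⟩ ⟨hg0, hg⟩
    refine ⟨?_, fun n hn => ?_⟩
    · rw [PowerSeries.coeff_mul]
      simp [hf0, hg0]
    · rw [PowerSeries.coeff_mul]
      refine Submodule.sum_mem _ (fun k hk => ?_)
      rw [HasAntidiagonal.mem_antidiagonal] at hk
      by_cases hk1 : k.1 = 0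
      · have hk2 : k.2 ≠ 0 := by omega
        exact Ideal.mul_mem_left _ _ (hg _ hk2)
      · exact Ideal.mul_mem_right _ _ (hf _ hk1)

theorem Fe_mem_SPp (h : DPFam x) (e : Fin N →₀ ℕ) (a : R) : Fe x e a ∈ SPp x := by
  refine ⟨coeff_zero_Fe h e a, fun n hn => ?_⟩
  rw [coeff_Fe]
  by_cases he : e = 0
  · subst he
    unfold Dk
    rw [if_pos rfl, if_neg hn, mul_zero]
    exact Ideal.zero_mem _
  · exact Ideal.mul_mem_left _ _ (Dk_mem he hn)

theorem Ee_mem_SPp (h : DPFam x) (y : P) : Ee x b y ∈ SPp x :=
  Submonoid.prod_mem _ (fun e _ => Fe_mem_SPp h e _)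

theorem coeff_one_Ee (h : DPFam x) (hb : ∀ e, b e = bm x e) {y : P} (hy : y ∈ Pp x) :
    PowerSeries.coeff 1 (Ee x b y) = y := by
  rw [mem_Pp_iff b h hb] at hy
  unfold Ee Finsupp.prod
  rw [coeff_one_prod _ _ (fun e _ => coeff_zero_Fe h e _)]
  conv_rhs => rw [sum_repr' b y]
  refine Finset.sum_congr rfl (fun e he => ?_)
  have he0 : e ≠ 0 := by
    rintro rfl
    rw [Finsupp.mem_support_iff] at he
    exact he hy
  rw [coeff_Fe, pow_one, Dk_one he0, Algebra.smul_def, hb]

theorem Ee_basis_mul (h : DPFam x) (hb : ∀ e, b e = bm x e) (f : Fin N →₀ ℕ) (y : P)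
    (hy : y ∈ Pp x) : Ee x b (b f * y) = PowerSeries.rescale (b f) (Ee x b y) := by
  refine Pp_induction b h hb (T := fun y => Ee x b (b f * y) =
    PowerSeries.rescale (b f) (Ee x b y)) ?_ ?_ ?_ y hy
  · rw [mul_zero, Ee_zero, map_one]
  · intro y y' hy hy'
    rw [mul_add, Ee_add b h, hy, hy', Ee_add b h, map_mul]
  · intro a e he
    have e1 : b f * a • b e = (a * (mm f e : R)) • b (e + f) := by
      rw [mul_smul_comm, hb f, hb e, bm_mul h, natCast_mul_eq_smul (R := R), smul_smul, ← hb,
        add_comm f e]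
    rw [e1, Ee_smul_basis b h, Ee_smul_basis b h]
    ext k
    rw [PowerSeries.coeff_rescale, coeff_Fe, coeff_Fe, map_mul, map_natCast, mul_pow, mul_assoc,
      Dk_scale h he, hb f]
    ring

theorem Ee_mul (h : DPFam x) (hb : ∀ e, b e = bm x e) (w y : P) (hy : y ∈ Pp x) :
    Ee x b (w * y) = PowerSeries.rescale w (Ee x b y) := by
  have hw : w ∈ Submodule.span R (Set.range b) := by rw [b.span_eq]; trivial
  induction hw using Submodule.span_induction with
  | mem w hw =>
    obtain ⟨f, rfl⟩ := hw
    exact Ee_basis_mul b h hb f y hy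
  | zero =>
    rw [zero_mul, Ee_zero, PowerSeries.rescale_zero_apply,
      ← PowerSeries.coeff_zero_eq_constantCoeff_apply, coeff_zero_Ee b h, map_one]
  | add w w' _ _ hw hw' =>
    rw [add_mul, Ee_add b h, hw, hw', rescale_add_of_ET (ET_Ee b h y)]
  | smul r w _ hw =>
    rw [smul_mul_assoc, Ee_smul b h, hw, PowerSeries.rescale_rescale, Algebra.smul_def,
      mul_comm]

end Groth.Agent.Lib.Helper8.WG
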