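import Mathlib.RingTheory.DividedPowers.RatAlgebra
import Mathlib.RingTheory.DividedPowers.DPMorphism
import Mathlib.Tactic.LinearCombination
import Mathlib.Tactic.Ring
import Mathlib.LinearAlgebra.Basis.Basic
import Groth.Agent.Lib.Helper8.WG9

set_option backward.isDefEq.respectTransparency.types false
set_option synthInstance.maxHeartbeats 400000
set_option autoImplicit false
set_option linter.unusedSectionVars false
set_option linter.style.haveILetI false

/-!
# Existence and uniqueness of divided powers on the augmentation ideal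
-/

namespace Groth.Agent.Lib.Helper8.WG

open Finset

universe u v

variable {R : Type u} [CommRing R] {N : ℕ} {P : Type v} [CommRing P] [Algebra R P]
  (x : Fin N → ℕ → P) (b : Module.Basis (Fin N →₀ ℕ) R P)

/-- The divided power function on the augmentation ideal. -/
noncomputable def dP (n : ℕ) (y : P) : P :=
  open scoped Classical in
  if y ∈ Pp x then PowerSeries.coeff n (Ee x b y) else 0

variable {x}

theorem dP_of_mem {y : P} (hy : y ∈ Pp x) (n : ℕ) :
    dP x b n y = PowerSeries.coeff n (Ee x b y) := by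
  unfold dP; rw [if_pos hy]

theorem dP_null {y : P} (hy : y ∉ Pp x) (n : ℕ) : dP x b n y = 0 := by
  unfold dP; rw [if_neg hy]

theorem rawDP_dP (h : DPFam x) (hb : ∀ e, b e = bm x e) : RawDP (Pp x) (dP x b) := by
  refine ⟨?_, ?_, ?_, ?_, ?_⟩
  · intro y hy
    rw [dP_of_mem b hy, coeff_zero_Ee b h]
  · intro y hy
    rw [dP_of_mem b hy, coeff_one_Ee b h hb hy]
  · intro n y hn hy
    rw [dP_of_mem b hy]
    exact (Ee_mem_SPp b h y).2 n hn
  · intro n y y' hy hy'
    rw [dP_of_mem b (Ideal.add_mem _ hy hy'), Ee_add b h, PowerSeries.coeff_mul]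
    refine Finset.sum_congr rfl (fun k _ => ?_)
    rw [dP_of_mem b hy, dP_of_mem b hy']
  · intro n w y hy
    rw [dP_of_mem b (Ideal.mul_mem_left _ w hy), dP_of_mem b hy, Ee_mul b h hb w y hy,
      PowerSeries.coeff_rescale]

theorem x_mem_Pp (i : Fin N) {n : ℕ} (hn : n ≠ 0) : x i n ∈ Pp x :=
  Ideal.subset_span ⟨i, n, Nat.one_le_iff_ne_zero.mpr hn, rfl⟩

theorem dP_gen_Dk (h : DPFam x) (hb : ∀ e, b e = bm x e) (i : Fin N) {n : ℕ} (hn : n ≠ 0)
    (m : ℕ) : dP x b m (x i n) = Dk x m (Finsupp.single i n) := by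
  rw [dP_of_mem b (x_mem_Pp i hn)]
  have e1 : x i n = (1 : R) • b (Finsupp.single i n) := by
    rw [one_smul, hb, bm_single h]
  rw [e1, Ee_smul_basis b h, coeff_Fe, map_one, one_pow, one_mul]

theorem Dk_single (h : DPFam x) (i : Fin N) {n : ℕ} (hn : n ≠ 0) (m : ℕ) :
    Dk x m (Finsupp.single i n) = (Nat.uniformBell m n : P) * x i (m * n) := by
  have hne : (Finsupp.single i n : Fin N →₀ ℕ) ≠ 0 := by
    intro h0
    have := DFunLike.congr_fun h0 i
    simp at this
    exact hn this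
  rw [Dk_of_ne hne, cc_single m i hn, Finsupp.smul_single, smul_eq_mul, bm_single h]

theorem dP_gen (h : DPFam x) (hb : ∀ e, b e = bm x e) (i : Fin N) {n : ℕ} (hn : n ≠ 0)
    (m : ℕ) : dP x b m (x i n) = (Nat.uniformBell m n : P) * x i (m * n) := by
  rw [dP_gen_Dk b h hb i hn, Dk_single h i hn]

theorem existsUnique_dp (h : DPFam x) (hb : ∀ e, b e = bm x e) :
    ∃! γ : DividedPowers (Pp x), ∀ (i : Fin N) (n : ℕ), γ.dpow n (x i 1) = x i n := by
  have hraw := rawDP_dP b h hb
  have hmS : ∀ y ∈ {y : P | ∃ (i : Fin N) (n : ℕ), 1 ≤ n ∧ y = x i n}, MulRule (dP x b) y := by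
    rintro _ ⟨i, n, hn, rfl⟩ m m'
    have hn' : n ≠ 0 := by omega
    rw [dP_gen_Dk b h hb i hn', dP_gen_Dk b h hb i hn', dP_gen_Dk b h hb i hn']
    exact Dk_mul h _ m m'
  have hcS : ∀ y ∈ {y : P | ∃ (i : Fin N) (n : ℕ), 1 ≤ n ∧ y = x i n}, CompRule (dP x b) y := by
    rintro _ ⟨i, k, hk, rfl⟩ m n hn
    have hk' : k ≠ 0 := by omega
    have hnk : n * k ≠ 0 := Nat.mul_ne_zero hn hk'
    rw [dP_gen b h hb i hk', hraw.mul m _ _ (x_mem_Pp i hnk), dP_gen b h hb i hnk,
      dP_gen b h hb i hk']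
    have := N3 m hn hk'
    calc (Nat.uniformBell n k : P) ^ m * ((Nat.uniformBell m (n * k) : P) * x i (m * (n * k)))
        = ((Nat.uniformBell n k ^ m * Nat.uniformBell m (n * k) : ℕ) : P) * x i (m * (n * k)) := by
          push_cast; ring
      _ = _ := by rw [this, mul_assoc m n k]; push_cast; ring
  obtain ⟨γ, hγ⟩ := exists_dividedPowers_of_generators (Pp x) _ rfl (dP x b)
    (fun n y hy => dP_null b hy n) hraw hmS hcS
  have hx1 : ∀ i, x i 1 ∈ Pp x := fun i => x_mem_Pp i one_ne_zero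
  refine ⟨γ, fun i n => ?_, fun γ' hγ' => ?_⟩
  · rw [hγ, dP_gen b h hb i one_ne_zero, Nat.uniformBell_one_right, Nat.cast_one, one_mul,
      mul_one]
  · refine DividedPowers.dpow_eq_from_gens γ γ'
      (S := {y : P | ∃ (i : Fin N) (n : ℕ), 1 ≤ n ∧ y = x i n}) rfl ?_
    rintro n _ ⟨i, k, hk, rfl⟩
    have hk' : k ≠ 0 := by omega
    have e1 : γ.dpow n (x i k) = (Nat.uniformBell n k : P) * x i (n * k) := by
      rw [hγ, dP_gen b h hb i hk']
    have e2 : γ'.dpow n (x i k) = (Nat.uniformBell n k : P) * x i (n * k) := by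
      rw [← hγ' i k, γ'.dpow_comp hk' (hx1 i), hγ' i (n * k)]
    rw [e1, e2]

end Groth.Agent.Lib.Helper8.WG
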