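import Mathlib.RingTheory.DividedPowers.RatAlgebra
import Mathlib.Tactic.LinearCombination
import Mathlib.Tactic.Ring
import Groth.Agent.Lib.Helper8.WG3

set_option backward.isDefEq.respectTransparency.types false
set_option synthInstance.maxHeartbeats 400000
set_option autoImplicit false
set_option linter.unusedSectionVars false
set_option linter.style.haveILetI false

/-!
# Divided powers on a sum of two ideals
-/

namespace Groth.Agent.Lib.Helper8.WG

open Finset

universe u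

variable {A : Type u} [CommRing A] {I J : Ideal A} (γ : DividedPowers I) (δ : DividedPowers J)

/-- The product of exponentials. -/
noncomputable def E2 (a b : A) : PowerSeries A := γ.exp a * δ.exp b

theorem exp_eq_of_agree (h : ∀ (n : ℕ) (x : A), x ∈ I ⊓ J → γ.dpow n x = δ.dpow n x)
    {z : A} (hz : z ∈ I ⊓ J) : γ.exp z = δ.exp z := by
  ext n
  simp only [DividedPowers.exp, PowerSeries.coeff_mk]
  exact h n z hz

theorem E2_wd (h : ∀ (n : ℕ) (x : A), x ∈ I ⊓ J → γ.dpow n x = δ.dpow n x)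
    {a a' b b' : A} (ha : a ∈ I) (ha' : a' ∈ I) (hb : b ∈ J) (hb' : b' ∈ J)
    (heq : a + b = a' + b') : E2 γ δ a b = E2 γ δ a' b' := by
  have hzI : a - a' ∈ I := I.sub_mem ha ha'
  have hzJ : a - a' ∈ J := by
    have : a - a' = b' - b := by linear_combination heq
    rw [this]
    exact J.sub_mem hb' hb
  have e1 : a = a' + (a - a') := by ring
  have e2 : b' = (a - a') + b := by linear_combination -heq
  unfold E2
  conv_lhs => rw [e1]
  conv_rhs => rw [e2]
  rw [γ.exp_add ha' hzI, δ.exp_add hzJ hb, exp_eq_of_agree γ δ h ⟨hzI, hzJ⟩, mul_assoc]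

/-- The divided power function on `I ⊔ J`. -/
noncomputable def dsup : ℕ → A → A := fun n z =>
  open scoped Classical in
  if hz : z ∈ I ⊔ J then
    PowerSeries.coeff n (E2 γ δ (Submodule.mem_sup.mp hz).choose
      (Submodule.mem_sup.mp hz).choose_spec.2.choose)
  else 0

theorem dsup_eq (h : ∀ (n : ℕ) (x : A), x ∈ I ⊓ J → γ.dpow n x = δ.dpow n x)
    {a b : A} (ha : a ∈ I) (hb : b ∈ J) (n : ℕ) :
    dsup γ δ n (a + b) = PowerSeries.coeff n (E2 γ δ a b) := by
  have hz : a + b ∈ I ⊔ J := Submodule.add_mem_sup ha hb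
  unfold dsup
  rw [dif_pos hz]
  have hs := (Submodule.mem_sup.mp hz).choose_spec
  have hs2 := hs.2.choose_spec
  rw [E2_wd γ δ h hs.1 ha hs2.1 hb hs2.2]

theorem dsup_null {n : ℕ} {z : A} (hz : z ∉ I ⊔ J) : dsup γ δ n z = 0 := by
  unfold dsup
  rw [dif_neg hz]

theorem coeff_E2 (a b : A) (n : ℕ) :
    PowerSeries.coeff n (E2 γ δ a b) =
      ∑ k ∈ antidiagonal n, γ.dpow k.1 a * δ.dpow k.2 b := by
  unfold E2
  rw [PowerSeries.coeff_mul]
  simp only [DividedPowers.exp, PowerSeries.coeff_mk]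

theorem exp_zero' : γ.exp 0 = 1 := by
  ext n
  simp only [DividedPowers.exp, PowerSeries.coeff_mk, PowerSeries.coeff_one]
  split_ifs with hn
  · subst hn; exact γ.dpow_zero I.zero_mem
  · exact γ.dpow_eval_zero hn

theorem dsup_left (h : ∀ (n : ℕ) (x : A), x ∈ I ⊓ J → γ.dpow n x = δ.dpow n x)
    {a : A} (ha : a ∈ I) (n : ℕ) : dsup γ δ n a = γ.dpow n a := by
  have := dsup_eq γ δ h ha J.zero_mem n
  rw [add_zero] at this
  rw [this, E2, exp_zero', mul_one]
  simp only [DividedPowers.exp, PowerSeries.coeff_mk]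

theorem dsup_right (h : ∀ (n : ℕ) (x : A), x ∈ I ⊓ J → γ.dpow n x = δ.dpow n x)
    {b : A} (hb : b ∈ J) (n : ℕ) : dsup γ δ n b = δ.dpow n b := by
  have := dsup_eq γ δ h I.zero_mem hb n
  rw [zero_add] at this
  rw [this, E2, exp_zero', one_mul]
  simp only [DividedPowers.exp, PowerSeries.coeff_mk]

theorem exp_smul (c : A) {a : A} (ha : a ∈ I) :
    γ.exp (c * a) = PowerSeries.rescale c (γ.exp a) := by
  ext n
  rw [PowerSeries.coeff_rescale]
  simp only [DividedPowers.exp, PowerSeries.coeff_mk]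
  exact γ.dpow_mul ha

theorem rawDP_dsup (h : ∀ (n : ℕ) (x : A), x ∈ I ⊓ J → γ.dpow n x = δ.dpow n x) :
    RawDP (I ⊔ J) (dsup γ δ) := by
  refine ⟨?_, ?_, ?_, ?_, ?_⟩
  · intro z hz
    obtain ⟨a, ha, b, hb, rfl⟩ := Submodule.mem_sup.mp hz
    rw [dsup_eq γ δ h ha hb, coeff_E2]
    simp [γ.dpow_zero ha, δ.dpow_zero hb]
  · intro z hz
    obtain ⟨a, ha, b, hb, rfl⟩ := Submodule.mem_sup.mp hz
    rw [dsup_eq γ δ h ha hb, coeff_E2]
    rw [Finset.Nat.antidiagonal_succ]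
    simp [γ.dpow_zero ha, δ.dpow_zero hb, γ.dpow_one ha, δ.dpow_one hb, add_comm]
  · intro n z hn hz
    obtain ⟨a, ha, b, hb, rfl⟩ := Submodule.mem_sup.mp hz
    rw [dsup_eq γ δ h ha hb, coeff_E2]
    refine Submodule.sum_mem _ (fun k hk => ?_)
    rw [HasAntidiagonal.mem_antidiagonal] at hk
    by_cases hk1 : k.1 = 0
    · have hk2 : k.2 ≠ 0 := by omega
      exact Ideal.mul_mem_left _ _ (Ideal.mem_sup_right (δ.dpow_mem hk2 hb))
    · exact Ideal.mul_mem_right _ _ (Ideal.mem_sup_left (γ.dpow_mem hk1 ha))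
  · intro n z w hz hw
    obtain ⟨a, ha, b, hb, rfl⟩ := Submodule.mem_sup.mp hz
    obtain ⟨a', ha', b', hb', rfl⟩ := Submodule.mem_sup.mp hw
    have e : a + b + (a' + b') = (a + a') + (b + b') := by ring
    rw [e, dsup_eq γ δ h (I.add_mem ha ha') (J.add_mem hb hb')]
    have e2 : E2 γ δ (a + a') (b + b') = E2 γ δ a b * E2 γ δ a' b' := by
      unfold E2
      rw [γ.exp_add ha ha', δ.exp_add hb hb']
      ring
    rw [e2, PowerSeries.coeff_mul]
    refine Finset.sum_congr rfl (fun k _ => ?_)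
    rw [dsup_eq γ δ h ha hb, dsup_eq γ δ h ha' hb']
  · intro n c z hz
    obtain ⟨a, ha, b, hb, rfl⟩ := Submodule.mem_sup.mp hz
    rw [mul_add, dsup_eq γ δ h (I.mul_mem_left c ha) (J.mul_mem_left c hb), dsup_eq γ δ h ha hb]
    unfold E2
    rw [exp_smul γ c ha, exp_smul δ c hb, ← map_mul, PowerSeries.coeff_rescale]

theorem existsUnique_sup (h : ∀ (n : ℕ) (x : A), x ∈ I ⊓ J → γ.dpow n x = δ.dpow n x) :
    ∃! ε : DividedPowers (I ⊔ J),
      (∀ (n : ℕ) (x : A), x ∈ I → ε.dpow n x = γ.dpow n x) ∧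
        (∀ (n : ℕ) (x : A), x ∈ J → ε.dpow n x = δ.dpow n x) := by
  have hraw := rawDP_dsup γ δ h
  have hS : Ideal.span ((I : Set A) ∪ (J : Set A)) = I ⊔ J := by
    rw [Ideal.span_union, Ideal.span_eq, Ideal.span_eq]
  have hmS : ∀ x ∈ (I : Set A) ∪ (J : Set A), MulRule (dsup γ δ) x := by
    rintro x (hx | hx) m n
    · rw [dsup_left γ δ h hx, dsup_left γ δ h hx, dsup_left γ δ h hx]
      exact γ.mul_dpow hx
    · rw [dsup_right γ δ h hx, dsup_right γ δ h hx, dsup_right γ δ h hx]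
      exact δ.mul_dpow hx
  have hcS : ∀ x ∈ (I : Set A) ∪ (J : Set A), CompRule (dsup γ δ) x := by
    rintro x (hx | hx) m n hn
    · rw [dsup_left γ δ h hx n, dsup_left γ δ h (γ.dpow_mem hn hx), dsup_left γ δ h hx]
      exact γ.dpow_comp hn hx
    · rw [dsup_right γ δ h hx n, dsup_right γ δ h (δ.dpow_mem hn hx), dsup_right γ δ h hx]
      exact δ.dpow_comp hn hx
  obtain ⟨ε, hε⟩ := exists_dividedPowers_of_generators (I ⊔ J) _ hS (dsup γ δ)
    (fun n x hx => dsup_null γ δ hx) hraw hmS hcS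
  refine ⟨ε, ⟨fun n x hx => ?_, fun n x hx => ?_⟩, ?_⟩
  · rw [hε]; exact dsup_left γ δ h hx n
  · rw [hε]; exact dsup_right γ δ h hx n
  · rintro ε' ⟨h1, h2⟩
    refine DividedPowers.ext _ _ (fun n z hz => ?_)
    obtain ⟨a, ha, b, hb, rfl⟩ := Submodule.mem_sup.mp hz
    rw [ε'.dpow_add (Ideal.mem_sup_left ha) (Ideal.mem_sup_right hb), hε,
      dsup_eq γ δ h ha hb, coeff_E2]
    refine Finset.sum_congr rfl (fun k _ => ?_)
    rw [h1 _ _ ha, h2 _ _ hb]

end Groth.Agent.Lib.Helper8.WG
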