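import Mathlib.RingTheory.DividedPowers.RatAlgebra
import Mathlib.RingTheory.DividedPowers.DPMorphism
import Mathlib.RingTheory.Flat.Basic
import Mathlib.Tactic.LinearCombination
import Mathlib.Tactic.Ring
import Groth.Agent.Lib.Helper8.WG4

set_option backward.isDefEq.respectTransparency.types false
set_option synthInstance.maxHeartbeats 400000
set_option autoImplicit false
set_option linter.unusedSectionVars false
set_option linter.style.haveILetI false

/-!
# Extension of divided powers along a ring map `A → B` with `B ⊗ I → B` injective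
-/

namespace Groth.Agent.Lib.Helper8.WG

open Finset TensorProduct

universe u v

variable {A : Type u} {B : Type v} [CommRing A] [CommRing B] [Algebra A B]
  {I : Ideal A} (γ : DividedPowers I)

/-- The exponential `∑ uⁿ γₙ(a) Tⁿ`. -/
noncomputable def E1 (u : B) (a : A) : PowerSeries B :=
  PowerSeries.mk fun n => u ^ n * algebraMap A B (γ.dpow n a)

theorem coeff_E1 (u : B) (a : A) (n : ℕ) :
    PowerSeries.coeff n (E1 γ u a) = u ^ n * algebraMap A B (γ.dpow n a) := by
  simp [E1]

theorem E1_add_right (u : B) {a a' : A} (ha : a ∈ I) (ha' : a' ∈ I) :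
    E1 γ u (a + a') = E1 γ u a * E1 γ u a' := by
  ext n
  rw [PowerSeries.coeff_mul, coeff_E1, γ.dpow_add ha ha', map_sum, Finset.mul_sum]
  refine Finset.sum_congr rfl (fun k hk => ?_)
  rw [HasAntidiagonal.mem_antidiagonal] at hk
  rw [coeff_E1, coeff_E1, map_mul, ← hk, pow_add]
  ring

theorem E1_add_left (u v : B) {a : A} (ha : a ∈ I) :
    E1 γ (u + v) a = E1 γ u a * E1 γ v a := by
  ext n
  rw [PowerSeries.coeff_mul, coeff_E1, (Commute.all u v).add_pow' n, Finset.sum_mul]
  refine Finset.sum_congr rfl (fun k hk => ?_)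
  rw [HasAntidiagonal.mem_antidiagonal] at hk
  rw [coeff_E1, coeff_E1]
  have h1 : algebraMap A B (γ.dpow k.1 a) * algebraMap A B (γ.dpow k.2 a) =
      (n.choose k.1 : B) * algebraMap A B (γ.dpow n a) := by
    rw [← map_mul, γ.mul_dpow ha, hk, map_mul, map_natCast]
  rw [nsmul_eq_mul]
  calc (n.choose k.1 : B) * (u ^ k.1 * v ^ k.2) * algebraMap A B (γ.dpow n a)
      = (u ^ k.1 * v ^ k.2) * ((n.choose k.1 : B) * algebraMap A B (γ.dpow n a)) := by ring
    _ = _ := by rw [← h1]; ring

theorem E1_zero_right (u : B) : E1 γ u 0 = 1 := by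
  ext n
  rw [coeff_E1, PowerSeries.coeff_one]
  split_ifs with hn
  · subst hn; rw [γ.dpow_zero I.zero_mem, map_one, pow_zero, one_mul]
  · rw [γ.dpow_eval_zero hn, map_zero, mul_zero]

theorem E1_zero_left {a : A} (ha : a ∈ I) : E1 γ (0 : B) a = 1 := by
  ext n
  rw [coeff_E1, PowerSeries.coeff_one]
  split_ifs with hn
  · subst hn; rw [γ.dpow_zero ha, map_one, pow_zero, one_mul]
  · rw [zero_pow hn, zero_mul]

theorem E1_smul (r : A) (u : B) {a : A} (ha : a ∈ I) :
    E1 γ (r • u) a = E1 γ u (r * a) := by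
  ext n
  rw [coeff_E1, coeff_E1, γ.dpow_mul ha, map_mul, map_pow, Algebra.smul_def, mul_pow]
  ring

theorem E1_mul_left (w u : B) (a : A) :
    E1 γ (w * u) a = PowerSeries.rescale w (E1 γ u a) := by
  ext n
  rw [PowerSeries.coeff_rescale, coeff_E1, coeff_E1, mul_pow]
  ring

/-- `E1` as a bi-additive map. -/
noncomputable def Ehom : B →+ (↥I →+ Additive (PowerSeries B)) where
  toFun u :=
    { toFun := fun a => Additive.ofMul (E1 γ u (a : A))
      map_zero' := by
        show Additive.ofMul (E1 γ u ((0 : ↥I) : A)) = 0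
        rw [Submodule.coe_zero, E1_zero_right]; rfl
      map_add' := fun a a' => by
        show Additive.ofMul (E1 γ u ((a + a' : ↥I) : A)) = _
        rw [Submodule.coe_add, E1_add_right γ u a.2 a'.2]; rfl }
  map_zero' := by
    refine AddMonoidHom.ext fun a => ?_
    show Additive.ofMul (E1 γ (0 : B) (a : A)) = 0
    rw [E1_zero_left γ a.2]; rfl
  map_add' u v := by
    refine AddMonoidHom.ext fun a => ?_
    show Additive.ofMul (E1 γ (u + v) (a : A)) = _
    rw [E1_add_left γ u v a.2]; rfl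

/-- The exponential on the tensor product. -/
noncomputable def Et : B ⊗[A] ↥I →+ Additive (PowerSeries B) :=
  TensorProduct.liftAddHom (Ehom γ) (by
    intro r u a
    show Additive.ofMul (E1 γ (r • u) (a : A)) = Additive.ofMul (E1 γ u ((r • a : ↥I) : A))
    rw [E1_smul γ r u a.2]; rfl)

/-- The exponential as a power series. -/
noncomputable def Es (t : B ⊗[A] ↥I) : PowerSeries B := Additive.toMul (Et γ t)

theorem Es_tmul (u : B) (a : ↥I) : Es γ (u ⊗ₜ[A] a) = E1 γ u (a : A) := rfl

theorem Es_add (t t' : B ⊗[A] ↥I) : Es γ (t + t') = Es γ t * Es γ t' := by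
  unfold Es
  rw [map_add]; rfl

theorem Es_zero : Es γ (0 : B ⊗[A] ↥I) = 1 := by
  unfold Es
  rw [map_zero]; rfl

/-- The multiplication map `B ⊗ I → B`. -/
noncomputable def mu : B ⊗[A] ↥I →ₗ[A] B :=
  (TensorProduct.rid A B).toLinearMap ∘ₗ (LinearMap.lTensor B (Submodule.subtype I))

theorem mu_tmul (u : B) (a : ↥I) : mu (I := I) (u ⊗ₜ[A] a) = (a : A) • u := by
  simp [mu]

theorem mu_smul (w : B) (t : B ⊗[A] ↥I) : mu (w • t) = w * mu t := by
  induction t using TensorProduct.induction_on with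
  | zero => simp
  | tmul u a =>
    rw [TensorProduct.smul_tmul', mu_tmul, mu_tmul, smul_eq_mul, Algebra.smul_def,
      Algebra.smul_def]
    ring
  | add t t' h h' => rw [smul_add, map_add, h, h', map_add, mul_add]

theorem coeff_zero_Es (t : B ⊗[A] ↥I) : PowerSeries.coeff 0 (Es γ t) = 1 := by
  induction t using TensorProduct.induction_on with
  | zero => rw [Es_zero, PowerSeries.coeff_zero_one]
  | tmul u a => rw [Es_tmul, coeff_E1, pow_zero, one_mul, γ.dpow_zero a.2, map_one]
  | add t t' h h' =>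
    rw [Es_add, PowerSeries.coeff_mul]
    simp [h, h']

theorem coeff_one_Es (t : B ⊗[A] ↥I) : PowerSeries.coeff 1 (Es γ t) = mu t := by
  induction t using TensorProduct.induction_on with
  | zero => rw [Es_zero, PowerSeries.coeff_one, if_neg one_ne_zero, map_zero]
  | tmul u a =>
    rw [Es_tmul, coeff_E1, pow_one, γ.dpow_one a.2, mu_tmul, Algebra.smul_def, mul_comm]
  | add t t' h h' =>
    rw [Es_add, PowerSeries.coeff_mul, Finset.Nat.antidiagonal_succ]
    simp [h, h', coeff_zero_Es, add_comm]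

theorem coeff_Es_mem (t : B ⊗[A] ↥I) {n : ℕ} (hn : n ≠ 0) :
    PowerSeries.coeff n (Es γ t) ∈ I.map (algebraMap A B) := by
  induction t using TensorProduct.induction_on generalizing n with
  | zero => rw [Es_zero, PowerSeries.coeff_one, if_neg hn]; exact Ideal.zero_mem _
  | tmul u a =>
    rw [Es_tmul, coeff_E1]
    exact Ideal.mul_mem_left _ _ (Ideal.mem_map_of_mem _ (γ.dpow_mem hn a.2))
  | add t t' h h' =>
    rw [Es_add, PowerSeries.coeff_mul]
    refine Submodule.sum_mem _ (fun k hk => ?_)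
    rw [HasAntidiagonal.mem_antidiagonal] at hk
    by_cases hk1 : k.1 = 0
    · have hk2 : k.2 ≠ 0 := by omega
      exact Ideal.mul_mem_left _ _ (h' hk2)
    · exact Ideal.mul_mem_right _ _ (h hk1)

theorem Es_smul (w : B) (t : B ⊗[A] ↥I) :
    Es γ (w • t) = PowerSeries.rescale w (Es γ t) := by
  induction t using TensorProduct.induction_on with
  | zero => rw [smul_zero, Es_zero, map_one]
  | tmul u a => rw [TensorProduct.smul_tmul', smul_eq_mul, Es_tmul, Es_tmul, E1_mul_left]
  | add t t' h h' => rw [smul_add, Es_add, h, h', Es_add, map_mul]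

theorem mem_map_iff_exists_mu (z : B) :
    z ∈ I.map (algebraMap A B) ↔ ∃ t : B ⊗[A] ↥I, mu t = z := by
  constructor
  · intro hz
    unfold Ideal.map at hz
    induction hz using Submodule.span_induction with
    | mem x hx =>
      obtain ⟨a, ha, rfl⟩ := hx
      exact ⟨(1 : B) ⊗ₜ[A] (⟨a, ha⟩ : ↥I), by rw [mu_tmul, Algebra.smul_def, mul_one]⟩
    | zero => exact ⟨0, map_zero _⟩
    | add x y _ _ hx hy =>
      obtain ⟨t, rfl⟩ := hx
      obtain ⟨t', rfl⟩ := hy
      exact ⟨t + t', map_add _ _ _⟩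
    | smul w x _ hx =>
      obtain ⟨t, rfl⟩ := hx
      exact ⟨w • t, by rw [mu_smul, smul_eq_mul]⟩
  · rintro ⟨t, rfl⟩
    induction t using TensorProduct.induction_on with
    | zero => rw [map_zero]; exact Ideal.zero_mem _
    | tmul u a =>
      rw [mu_tmul, Algebra.smul_def]
      exact Ideal.mul_mem_right _ _ (Ideal.mem_map_of_mem _ a.2)
    | add t t' h h' => rw [map_add]; exact Ideal.add_mem _ h h'

/-- The extended divided power function. -/
noncomputable def dext (n : ℕ) (z : B) : B :=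
  open scoped Classical in
  if hz : ∃ t : B ⊗[A] ↥I, mu t = z then PowerSeries.coeff n (Es γ hz.choose) else 0

theorem dext_mu (hinj : Function.Injective (mu (A := A) (B := B) (I := I)))
    (t : B ⊗[A] ↥I) (n : ℕ) : dext γ n (mu t) = PowerSeries.coeff n (Es γ t) := by
  have hz : ∃ t' : B ⊗[A] ↥I, mu t' = mu t := ⟨t, rfl⟩
  unfold dext
  rw [dif_pos hz, hinj hz.choose_spec]

theorem dext_null {n : ℕ} {z : B} (hz : z ∉ I.map (algebraMap A B)) : dext γ n z = 0 := by
  unfold dext
  rw [dif_neg]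
  rwa [← mem_map_iff_exists_mu]

theorem rawDP_dext (hinj : Function.Injective (mu (A := A) (B := B) (I := I))) :
    RawDP (I.map (algebraMap A B)) (dext γ) := by
  refine ⟨?_, ?_, ?_, ?_, ?_⟩
  · intro z hz
    obtain ⟨t, rfl⟩ := (mem_map_iff_exists_mu z).mp hz
    rw [dext_mu γ hinj, coeff_zero_Es]
  · intro z hz
    obtain ⟨t, rfl⟩ := (mem_map_iff_exists_mu z).mp hz
    rw [dext_mu γ hinj, coeff_one_Es]
  · intro n z hn hz
    obtain ⟨t, rfl⟩ := (mem_map_iff_exists_mu z).mp hz
    rw [dext_mu γ hinj]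
    exact coeff_Es_mem γ t hn
  · intro n z z' hz hz'
    obtain ⟨t, rfl⟩ := (mem_map_iff_exists_mu z).mp hz
    obtain ⟨t', rfl⟩ := (mem_map_iff_exists_mu z').mp hz'
    rw [← map_add, dext_mu γ hinj, Es_add, PowerSeries.coeff_mul]
    refine Finset.sum_congr rfl (fun k _ => ?_)
    rw [dext_mu γ hinj, dext_mu γ hinj]
  · intro n w z hz
    obtain ⟨t, rfl⟩ := (mem_map_iff_exists_mu z).mp hz
    rw [← mu_smul, dext_mu γ hinj, dext_mu γ hinj, Es_smul, PowerSeries.coeff_rescale]

theorem dext_algebraMap (hinj : Function.Injective (mu (A := A) (B := B) (I := I)))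
    {a : A} (ha : a ∈ I) (n : ℕ) :
    dext γ n (algebraMap A B a) = algebraMap A B (γ.dpow n a) := by
  have : algebraMap A B a = mu ((1 : B) ⊗ₜ[A] (⟨a, ha⟩ : ↥I)) := by
    rw [mu_tmul, Algebra.smul_def, mul_one]
  rw [this, dext_mu γ hinj, Es_tmul, coeff_E1, one_pow, one_mul]

theorem exists_extension_of_injective
    (hinj : Function.Injective (mu (A := A) (B := B) (I := I))) :
    ∃ δ : DividedPowers (I.map (algebraMap A B)), γ.IsDPMorphism δ (algebraMap A B) := by
  have hraw := rawDP_dext γ hinj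
  have hS : Ideal.span ((algebraMap A B) '' (I : Set A)) = I.map (algebraMap A B) := rfl
  have hmS : ∀ x ∈ (algebraMap A B) '' (I : Set A), MulRule (dext γ) x := by
    rintro _ ⟨a, ha, rfl⟩ m n
    rw [dext_algebraMap γ hinj ha, dext_algebraMap γ hinj ha, dext_algebraMap γ hinj ha,
      ← map_mul, γ.mul_dpow ha, map_mul, map_natCast]
  have hcS : ∀ x ∈ (algebraMap A B) '' (I : Set A), CompRule (dext γ) x := by
    rintro _ ⟨a, ha, rfl⟩ m n hn
    rw [dext_algebraMap γ hinj ha, dext_algebraMap γ hinj (γ.dpow_mem hn ha),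
      dext_algebraMap γ hinj ha, γ.dpow_comp hn ha, map_mul, map_natCast]
  obtain ⟨δ, hδ⟩ := exists_dividedPowers_of_generators _ _ hS (dext γ)
    (fun n x hx => dext_null γ hx) hraw hmS hcS
  refine ⟨δ, ⟨le_refl _, fun {n} a ha => ?_⟩⟩
  rw [hδ, dext_algebraMap γ hinj ha]

theorem mu_injective_of_flat [Module.Flat A B] :
    Function.Injective (mu (A := A) (B := B) (I := I)) := by
  unfold mu
  rw [LinearMap.coe_comp]
  exact (TensorProduct.rid A B).injective.comp
    (Module.Flat.lTensor_preserves_injective_linearMap (M := B) (Submodule.subtype I)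
      (Submodule.injective_subtype I))

theorem extension_unique (δ δ' : DividedPowers (I.map (algebraMap A B)))
    (h1 : γ.IsDPMorphism δ (algebraMap A B)) (h2 : γ.IsDPMorphism δ' (algebraMap A B)) :
    δ = δ' := by
  refine (DividedPowers.dpow_eq_from_gens δ' δ
    (S := (algebraMap A B) '' (I : Set A)) rfl ?_)
  rintro n _ ⟨a, ha, rfl⟩
  rw [h1.dpow_comp a ha, h2.dpow_comp a ha]

end Groth.Agent.Lib.Helper8.WG
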