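import Mathlib.RingTheory.DividedPowers.RatAlgebra
import Mathlib.RingTheory.DividedPowers.DPMorphism
import Mathlib.RingTheory.Flat.Basic
import Mathlib.Tactic.LinearCombination
import Mathlib.Tactic.Ring
import Mathlib.LinearAlgebra.Basis.Basic
import Groth.Agent.Lib.Helper8.WG5

set_option backward.isDefEq.respectTransparency.types false
set_option synthInstance.maxHeartbeats 400000
set_option autoImplicit false
set_option linter.unusedSectionVars false
set_option linter.style.haveILetI false

/-!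
# Divided powers on `I P + P₊` for a divided power polynomial algebra `P` over `(R, I, γ)`
-/

namespace Groth.Agent.Lib.Helper8.WG

open Finset

universe u v w

variable {R : Type u} [CommRing R] {Λ : Type w} {P : Type v} [CommRing P] [Algebra R P]
  {x : Λ → ℕ → P} (b : Module.Basis (Λ →₀ ℕ) R P)

/-- The augmentation ideal (general index set). -/
def PpL (x : Λ → ℕ → P) : Ideal P := Ideal.span {y : P | ∃ (l : Λ) (n : ℕ), 1 ≤ n ∧ y = x l n}

theorem prodL_mul (hx0 : ∀ l, x l 0 = 1)
    (hxmul : ∀ l n m, x l n * x l m = ((n + m).choose n : P) * x l (n + m))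
    (e f : Λ →₀ ℕ) : ∃ m : ℕ, e.prod (fun l k => x l k) * f.prod (fun l k => x l k) =
      (m : P) * (e + f).prod (fun l k => x l k) ∧ (e = 0 → f = 0 → m = 1) := by
  classical
  refine ⟨∏ l ∈ e.support ∪ f.support, (e l + f l).choose (e l), ?_, ?_⟩
  · rw [Finsupp.prod_of_support_subset e Finset.subset_union_left _ (fun l _ => hx0 l),
      Finsupp.prod_of_support_subset f Finset.subset_union_right _ (fun l _ => hx0 l),
      Finsupp.prod_of_support_subset (e + f) Finsupp.support_add _ (fun l _ => hx0 l),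
      ← Finset.prod_mul_distrib, Nat.cast_prod, ← Finset.prod_mul_distrib]
    refine Finset.prod_congr rfl (fun l _ => ?_)
    rw [hxmul, Finsupp.add_apply]
  · rintro rfl rfl
    simp

/-- The augmentation. -/
noncomputable def augL : P →ₗ[R] R := (Finsupp.lapply 0) ∘ₗ b.repr.toLinearMap

theorem augL_apply (y : P) : augL b y = b.repr y 0 := rfl

theorem augL_basis (e : Λ →₀ ℕ) : augL b (b e) = open scoped Classical in if e = 0 then 1 else 0 := by
  classical
  rw [augL_apply, b.repr_self, Finsupp.single_apply]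

theorem augL_mul (hx0 : ∀ l, x l 0 = 1)
    (hxmul : ∀ l n m, x l n * x l m = ((n + m).choose n : P) * x l (n + m))
    (hb : ∀ e : Λ →₀ ℕ, b e = e.prod (fun l k => x l k)) (w y : P) :
    augL b (w * y) = augL b w * augL b y := by
  classical
  have key : (LinearMap.mul R P).compr₂ (augL b) =
      (LinearMap.mul R R).compl₁₂ (augL b) (augL b) := by
    refine b.ext fun e => b.ext fun f => ?_
    simp only [LinearMap.compr₂_apply, LinearMap.mul_apply', LinearMap.compl₁₂_apply]
    obtain ⟨m, hm, hm1⟩ := prodL_mul hx0 hxmul e f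
    rw [hb e, hb f, hm, ← hb, ← hb e, ← hb f]
    have : (m : P) * b (e + f) = (m : R) • b (e + f) := by
      rw [Nat.cast_smul_eq_nsmul, nsmul_eq_mul]
    rw [this, map_smul, augL_basis, augL_basis, augL_basis, smul_eq_mul]
    by_cases he : e = 0
    · by_cases hf : f = 0
      · rw [hm1 he hf, he, hf]
        simp
      · have : e + f ≠ 0 := by rw [he, zero_add]; exact hf
        rw [if_neg this, if_neg hf, mul_zero, mul_zero]
    · have : e + f ≠ 0 := by
        intro h0
        apply he
        ext l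
        have := DFunLike.congr_fun h0 l
        simp only [Finsupp.add_apply, Finsupp.zero_apply] at this ⊢
        omega
      rw [if_neg this, if_neg he, mul_zero, zero_mul]
  have := LinearMap.congr_fun (LinearMap.congr_fun key w) y
  simpa using this

theorem basis_mem_PpL (hb : ∀ e : Λ →₀ ℕ, b e = e.prod (fun l k => x l k)) (e : Λ →₀ ℕ)
    (he : e ≠ 0) : b e ∈ PpL x := by
  obtain ⟨l, hl⟩ : ∃ l, e l ≠ 0 := by
    by_contra hcon
    push Not at hcon
    exact he (Finsupp.ext hcon)
  rw [hb]
  unfold Finsupp.prod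
  refine Ideal.prod_mem _ (Finsupp.mem_support_iff.mpr hl) ?_
  exact Ideal.subset_span ⟨l, e l, Nat.one_le_iff_ne_zero.mpr hl, rfl⟩

theorem augL_eq_zero_of_mem (hx0 : ∀ l, x l 0 = 1)
    (hxmul : ∀ l n m, x l n * x l m = ((n + m).choose n : P) * x l (n + m))
    (hb : ∀ e : Λ →₀ ℕ, b e = e.prod (fun l k => x l k)) {y : P} (hy : y ∈ PpL x) :
    augL b y = 0 := by
  classical
  unfold PpL at hy
  induction hy using Submodule.span_induction with
  | mem y hy =>
    obtain ⟨l, n, hn, rfl⟩ := hy
    have e1 : x l n = b (Finsupp.single l n) := by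
      rw [hb, Finsupp.prod_single_index (hx0 l)]
    rw [e1, augL_basis, if_neg]
    intro h0
    have := DFunLike.congr_fun h0 l
    simp at this
    omega
  | zero => exact map_zero _
  | add y y' _ _ hy hy' => rw [map_add, hy, hy', add_zero]
  | smul w y _ hy => rw [smul_eq_mul, augL_mul b hx0 hxmul hb, hy, mul_zero]

theorem inf_le_smul (hx0 : ∀ l, x l 0 = 1)
    (hxmul : ∀ l n m, x l n * x l m = ((n + m).choose n : P) * x l (n + m))
    (hb : ∀ e : Λ →₀ ℕ, b e = e.prod (fun l k => x l k)) (I : Ideal R) :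
    I.map (algebraMap R P) ⊓ PpL x ≤ I.map (algebraMap R P) • PpL x := by
  rintro z ⟨hz1, hz2⟩
  have h1 : z ∈ I • (⊤ : Submodule R P) := by
    rw [Ideal.smul_top_eq_map]; exact hz1
  rw [← b.span_eq, Submodule.mem_ideal_smul_span_iff_exists_sum] at h1
  obtain ⟨a, ha, rfl⟩ := h1
  have h0 := augL_eq_zero_of_mem b hx0 hxmul hb hz2
  have hrepr : b.repr (a.sum fun i c => c • b i) = a := by
    have : (a.sum fun i c => c • b i) = Finsupp.linearCombination R b a := by
      rw [Finsupp.linearCombination_apply]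
    rw [this, b.repr_linearCombination]
  rw [augL_apply, hrepr] at h0
  unfold Finsupp.sum
  refine Submodule.sum_mem _ (fun e he => ?_)
  have he0 : e ≠ 0 := by
    rintro rfl
    rw [Finsupp.mem_support_iff] at he
    exact he h0
  have hsm : (a e) • b e = algebraMap R P (a e) * b e := Algebra.smul_def _ _
  show (a e) • b e ∈ _
  rw [hsm]
  exact Ideal.mul_mem_mul (Ideal.mem_map_of_mem (algebraMap R P) (ha e)) (basis_mem_PpL b hb e he0)

theorem existsUnique_compatible (hx0 : ∀ l, x l 0 = 1)
    (hxmul : ∀ l n m, x l n * x l m = ((n + m).choose n : P) * x l (n + m))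
    (hb : ∀ e : Λ →₀ ℕ, b e = e.prod (fun l k => x l k)) {I : Ideal R} (γ : DividedPowers I)
    (δplus : DividedPowers (PpL x)) :
    ∃! δ : DividedPowers (I.map (algebraMap R P) ⊔ PpL x),
      γ.IsDPMorphism δ (algebraMap R P) ∧
        ∀ (n : ℕ) (y : P), y ∈ PpL x → δ.dpow n y = δplus.dpow n y := by
  haveI : Module.Free R P := Module.Free.of_basis b
  obtain ⟨δI, hδI⟩ := exists_extension_of_injective γ (mu_injective_of_flat (A := R) (B := P))
  have hagree : ∀ (n : ℕ) (z : P), z ∈ I.map (algebraMap R P) ⊓ PpL x →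
      δI.dpow n z = δplus.dpow n z := fun n z hz =>
    DividedPowers.coincide_on_smul δI δplus (inf_le_smul b hx0 hxmul hb I hz)
  obtain ⟨ε, ⟨hε1, hε2⟩, -⟩ := existsUnique_sup δI δplus hagree
  refine ⟨ε, ⟨⟨le_sup_left, fun {n} a ha => ?_⟩, hε2⟩, ?_⟩
  · rw [hε1 n _ (Ideal.mem_map_of_mem _ ha), hδI.dpow_comp a ha]
  · rintro δ' ⟨h1, h2⟩
    have hS : I.map (algebraMap R P) ⊔ PpL x = Ideal.span ((algebraMap R P) '' (I : Set R) ∪
        {y : P | ∃ (l : Λ) (n : ℕ), 1 ≤ n ∧ y = x l n}) := by
      rw [Ideal.span_union]; rfl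
    refine DividedPowers.dpow_eq_from_gens ε δ' hS ?_
    rintro n z (⟨a, ha, rfl⟩ | hz)
    · rw [hε1 n _ (Ideal.mem_map_of_mem _ ha), hδI.dpow_comp a ha, h1.dpow_comp a ha]
    · have hz' : z ∈ PpL x := Ideal.subset_span hz
      rw [hε2 n z hz', h2 n z hz']

end Groth.Agent.Lib.Helper8.WG
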