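import Mathlib.RingTheory.DividedPowers.RatAlgebra
import Mathlib.Algebra.MvPolynomial.Basic
import Mathlib.Tactic.LinearCombination
import Mathlib.Tactic.Ring
import Mathlib.Tactic.FieldSimp
import Mathlib.LinearAlgebra.Basis.Basic
import Groth.Agent.Lib.Helper8.WG10

set_option backward.isDefEq.respectTransparency.types false
set_option synthInstance.maxHeartbeats 400000
set_option autoImplicit false
set_option linter.unusedSectionVars false
set_option linter.style.haveILetI false

/-!
# A concrete model of the divided power polynomial algebra `ℤ⟨X_1, …, X_N⟩ ⊆ ℚ[X_1, …, X_N]`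
-/

namespace Groth.Agent.Lib.Helper8.WG

noncomputable section

open Finset MvPolynomial

variable (N : ℕ)

/-- `X_i^n / n!`. -/
def xq (i : Fin N) (n : ℕ) : MvPolynomial (Fin N) ℚ :=
  monomial (Finsupp.single i n) ((n.factorial : ℚ)⁻¹)

theorem dpFam_xq : DPFam (xq N) := by
  refine ⟨fun i => ?_, fun i n m => ?_⟩
  · unfold xq
    rw [Finsupp.single_zero, Nat.factorial_zero, Nat.cast_one, inv_one]
    rfl
  · unfold xq
    rw [monomial_mul, ← Finsupp.single_add]
    have h1 : ((n + m).choose n : MvPolynomial (Fin N) ℚ) = C ((n + m).choose n : ℚ) := by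
      rw [map_natCast]
    rw [h1, C_mul_monomial]
    congr 1
    have h2 := Nat.add_choose_mul_factorial_mul_factorial n m
    rw [← Nat.choose_symm_add] at h2
    have h3 : ((n + m).choose n : ℚ) * n.factorial * m.factorial = (n + m).factorial := by
      exact_mod_cast h2
    have hn : (n.factorial : ℚ) ≠ 0 := Nat.cast_ne_zero.mpr (Nat.factorial_ne_zero n)
    have hm : (m.factorial : ℚ) ≠ 0 := Nat.cast_ne_zero.mpr (Nat.factorial_ne_zero m)
    have hnm : ((n + m).factorial : ℚ) ≠ 0 := Nat.cast_ne_zero.mpr (Nat.factorial_ne_zero _)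
    field_simp
    linear_combination -h3

theorem prod_monomial' {ι : Type*} (s : Finset ι) (g : ι → (Fin N →₀ ℕ)) (c : ι → ℚ) :
    ∏ l ∈ s, monomial (g l) (c l) = monomial (∑ l ∈ s, g l) (∏ l ∈ s, c l) := by
  classical
  induction s using Finset.induction with
  | empty => simp
  | insert a s ha ih =>
    rw [Finset.prod_insert ha, Finset.sum_insert ha, Finset.prod_insert ha, ih, monomial_mul]

theorem bm_xq (e : Fin N →₀ ℕ) : bm (xq N) e = monomial e ((fac e : ℚ)⁻¹) := by
  unfold bm xq
  rw [prod_monomial', Finsupp.univ_sum_single]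
  congr 1
  unfold fac
  rw [Nat.cast_prod, Finset.prod_inv_distrib]

/-- The subalgebra `ℤ⟨X⟩`. -/
def ZNsub : Subalgebra ℤ (MvPolynomial (Fin N) ℚ) :=
  (Submodule.span ℤ (Set.range (bm (xq N)))).toSubalgebra
    (by
      rw [← bm_zero (dpFam_xq N)]
      exact Submodule.subset_span ⟨0, rfl⟩)
    (by
      intro p q hp hq
      induction hp using Submodule.span_induction with
      | mem p hp =>
        obtain ⟨e, rfl⟩ := hp
        induction hq using Submodule.span_induction with
        | mem q hq =>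
          obtain ⟨f, rfl⟩ := hq
          rw [bm_mul (dpFam_xq N), ← nsmul_eq_mul]
          exact Submodule.smul_of_tower_mem _ _ (Submodule.subset_span ⟨e + f, rfl⟩)
        | zero => rw [mul_zero]; exact Submodule.zero_mem _
        | add q q' _ _ hq hq' => rw [mul_add]; exact Submodule.add_mem _ hq hq'
        | smul a q _ hq => rw [mul_smul_comm]; exact Submodule.smul_mem _ _ hq
      | zero => rw [zero_mul]; exact Submodule.zero_mem _
      | add p p' _ _ hp hp' => rw [add_mul]; exact Submodule.add_mem _ hp hp'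
      | smul a p _ hp => rw [smul_mul_assoc]; exact Submodule.smul_mem _ _ hp)

/-- The type `ℤ⟨X_1, …, X_N⟩`. -/
abbrev ZN : Type := ↥(ZNsub N)

theorem mem_ZNsub_iff (q : MvPolynomial (Fin N) ℚ) :
    q ∈ ZNsub N ↔ q ∈ Submodule.span ℤ (Set.range (bm (xq N))) := Iff.rfl

/-- `X_i^[n]` in the model. -/
def xz (i : Fin N) (n : ℕ) : ZN N :=
  ⟨xq N i n, by
    rw [mem_ZNsub_iff, ← bm_single (dpFam_xq N)]
    exact Submodule.subset_span ⟨_, rfl⟩⟩

theorem dpFam_xz : DPFam (xz N) := by
  refine ⟨fun i => ?_, fun i n m => ?_⟩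
  · apply Subtype.ext
    exact (dpFam_xq N).hx0 i
  · apply Subtype.ext
    show xq N i n * xq N i m = _
    rw [(dpFam_xq N).hxmul]
    simp [xz]

theorem coe_bm_xz (e : Fin N →₀ ℕ) : ((bm (xz N) e : ZN N) : MvPolynomial (Fin N) ℚ) =
    bm (xq N) e := by
  unfold bm
  show (ZNsub N).val (∏ l, xz N l (e l)) = _
  rw [map_prod]
  rfl

theorem linearIndependent_bm_xz : LinearIndependent ℤ (bm (xz N)) := by
  classical
  rw [linearIndependent_iff']
  intro s g hg e he
  have h1 := congrArg (ZNsub N).val hg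
  rw [map_sum, map_zero] at h1
  have h1' : ∑ f ∈ s, g f • monomial f ((fac f : ℚ)⁻¹) = (0 : MvPolynomial (Fin N) ℚ) := by
    rw [← h1]
    refine Finset.sum_congr rfl (fun f _ => ?_)
    rw [map_zsmul, ← bm_xq, ← coe_bm_xz]
    rfl
  have h2 := congrArg (coeff e) h1'
  simp only [coeff_sum, coeff_smul, coeff_monomial, coeff_zero] at h2
  rw [Finset.sum_eq_single e] at h2
  · rw [if_pos rfl, zsmul_eq_mul] at h2
    have hne : ((fac e : ℚ)⁻¹) ≠ 0 :=
      inv_ne_zero (Nat.cast_ne_zero.mpr (Nat.pos_iff_ne_zero.mp (fac_pos e)))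
    have := (mul_eq_zero.mp h2).resolve_right hne
    exact_mod_cast this
  · intro f _ hf
    rw [if_neg hf, smul_zero]
  · intro h; exact absurd he h

theorem span_bm_xz_aux (q : MvPolynomial (Fin N) ℚ)
    (hq : q ∈ Submodule.span ℤ (Set.range (bm (xq N)))) :
    ∀ hq' : q ∈ ZNsub N, (⟨q, hq'⟩ : ZN N) ∈ Submodule.span ℤ (Set.range (bm (xz N))) := by
  induction hq using Submodule.span_induction with
  | mem q hq =>
    intro hq'
    obtain ⟨e, rfl⟩ := hq
    refine Submodule.subset_span ⟨e, ?_⟩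
    apply Subtype.ext
    exact coe_bm_xz N e
  | zero => intro _; exact Submodule.zero_mem _
  | add p p' hp hp' h h' =>
    intro _
    have : (⟨p + p', Submodule.add_mem _ hp hp'⟩ : ZN N) = ⟨p, hp⟩ + ⟨p', hp'⟩ := rfl
    rw [this]
    exact Submodule.add_mem _ (h hp) (h' hp')
  | smul a p hp h =>
    intro _
    have : (⟨a • p, Submodule.smul_mem _ a hp⟩ : ZN N) = a • ⟨p, hp⟩ := rfl
    rw [this]
    exact Submodule.smul_mem _ _ (h hp)

theorem span_bm_xz : ⊤ ≤ Submodule.span ℤ (Set.range (bm (xz N))) := by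
  rintro ⟨q, hq⟩ -
  exact span_bm_xz_aux N q hq hq

/-- The monomial basis of `ℤ⟨X⟩`. -/
def bZ : Module.Basis (Fin N →₀ ℕ) ℤ (ZN N) :=
  Module.Basis.mk (linearIndependent_bm_xz N) (span_bm_xz N)

theorem bZ_apply (e : Fin N →₀ ℕ) : bZ N e = bm (xz N) e := by
  unfold bZ
  rw [Module.Basis.mk_apply]

end

end Groth.Agent.Lib.Helper8.WG
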