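import Mathlib.RingTheory.DividedPowers.RatAlgebra
import Mathlib.RingTheory.DividedPowers.DPMorphism
import Mathlib.RingTheory.TensorProduct.Free
import Mathlib.RingTheory.TensorProduct.Maps
import Mathlib.Tactic.LinearCombination
import Mathlib.Tactic.Ring
import Groth.Agent.Lib.Helper8.WG11
import Groth.Agent.Lib.Helper8.WG12

set_option backward.isDefEq.respectTransparency.types false
set_option synthInstance.maxHeartbeats 400000
set_option autoImplicit false
set_option linter.unusedSectionVars false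
set_option linter.style.haveILetI false

/-!
# The divided power polynomial algebra over a divided power ring and its universal property
-/

namespace Groth.Agent.Lib.Helper8.WG

noncomputable section

open Finset TensorProduct

universe u

variable (A : Type u) [CommRing A] (N : ℕ)

/-- `X_i^[n]` in `A ⊗ ℤ⟨X⟩`. -/
def xd (i : Fin N) (n : ℕ) : A ⊗[ℤ] ZN N := (1 : A) ⊗ₜ[ℤ] xz N i n

theorem xd_eq (i : Fin N) (n : ℕ) :
    xd A N i n = (Algebra.TensorProduct.includeRight : ZN N →ₐ[ℤ] A ⊗[ℤ] ZN N) (xz N i n) := rfl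

theorem dpFam_xd : DPFam (xd A N) := by
  refine ⟨fun i => ?_, fun i n m => ?_⟩
  · rw [xd_eq, (dpFam_xz N).hx0, map_one]
  · rw [xd_eq, xd_eq, ← map_mul, (dpFam_xz N).hxmul, map_mul, map_natCast, xd_eq]

theorem bm_xd (e : Fin N →₀ ℕ) : bm (xd A N) e = (1 : A) ⊗ₜ[ℤ] bm (xz N) e := by
  unfold bm
  rw [← Algebra.TensorProduct.includeRight_apply, map_prod]
  rfl

/-- The monomial basis of `A ⊗ ℤ⟨X⟩`. -/
def bD : Module.Basis (Fin N →₀ ℕ) A (A ⊗[ℤ] ZN N) := Algebra.TensorProduct.basis A (bZ N)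

theorem bD_apply (e : Fin N →₀ ℕ) : bD A N e = bm (xd A N) e := by
  unfold bD
  rw [Algebra.TensorProduct.basis_apply, bZ_apply, bm_xd]

theorem bD_apply' (e : Fin N →₀ ℕ) : bD A N e = e.prod (fun i k => xd A N i k) := by
  rw [bD_apply, bm_eq_finsupp_prod (dpFam_xd A N)]

variable {A N}

section UP

variable {C : Type u} [CommRing C] [Algebra A C] {K : Ideal C} (ε : DividedPowers K)
  (k : Fin N → C) (hk : ∀ i, k i ∈ K)

include hk

theorem dpFam_eps : DPFam (fun l n => ε.dpow n (k l)) :=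
  ⟨fun i => ε.dpow_zero (hk i), fun i _ _ => ε.mul_dpow (hk i)⟩

/-- The linear map `ℤ⟨X⟩ → C`. -/
def phi0 : ZN N →ₗ[ℤ] C := (bZ N).constr ℤ (bm (fun l n => ε.dpow n (k l)))

omit hk in
theorem phi0_basis (e : Fin N →₀ ℕ) :
    phi0 ε k (bm (xz N) e) = bm (fun l n => ε.dpow n (k l)) e := by
  unfold phi0
  rw [← bZ_apply, Module.Basis.constr_basis]

theorem phi0_mul (p q : ZN N) : phi0 ε k (p * q) = phi0 ε k p * phi0 ε k q := by
  have key : (LinearMap.mul ℤ (ZN N)).compr₂ (phi0 ε k) =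
      (LinearMap.mul ℤ C).compl₁₂ (phi0 ε k) (phi0 ε k) := by
    refine (bZ N).ext fun e => (bZ N).ext fun f => ?_
    simp only [LinearMap.compr₂_apply, LinearMap.mul_apply', LinearMap.compl₁₂_apply]
    rw [bZ_apply, bZ_apply, bm_mul (dpFam_xz N), ← nsmul_eq_mul, map_nsmul, phi0_basis,
      phi0_basis, phi0_basis, bm_mul (dpFam_eps ε k hk), nsmul_eq_mul]
  have := LinearMap.congr_fun (LinearMap.congr_fun key p) q
  simpa using this

theorem phi0_one : phi0 ε k (1 : ZN N) = 1 := by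
  rw [← bm_zero (dpFam_xz N), phi0_basis, bm_zero (dpFam_eps ε k hk)]

/-- The algebra map `ℤ⟨X⟩ → C`. -/
def phi0' : ZN N →ₐ[ℤ] C := AlgHom.ofLinearMap (phi0 ε k) (phi0_one ε k hk) (phi0_mul ε k hk)

/-- The algebra map `A ⊗ ℤ⟨X⟩ → C`. -/
def phiD : A ⊗[ℤ] ZN N →ₐ[A] C :=
  Algebra.TensorProduct.lift (Algebra.ofId A C) (phi0' ε k hk) (fun _ _ => Commute.all _ _)

theorem phiD_xd (i : Fin N) (n : ℕ) : phiD ε k hk (xd A N i n) = ε.dpow n (k i) := by
  unfold phiD xd
  rw [Algebra.TensorProduct.lift_tmul, map_one, one_mul]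
  show phi0 ε k (xz N i n) = _
  rw [← bm_single (dpFam_xz N), phi0_basis, bm_single (dpFam_eps ε k hk)]

end UP

/-- The universal divided power polynomial algebra. -/
theorem exists_universal {I : Ideal A} (γ : DividedPowers I) (t : ℕ) :
    ∃ (D : Type u) (_ : CommRing D) (_ : Algebra A D) (J : Ideal D) (δ : DividedPowers J)
      (x : Fin t → D), (∀ i, x i ∈ J) ∧ γ.IsDPMorphism δ (algebraMap A D) ∧
      ∀ (C : Type u) [CommRing C] [Algebra A C] (K : Ideal C) (ε : DividedPowers K),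
        γ.IsDPMorphism ε (algebraMap A C) → ∀ k : Fin t → C, (∀ i, k i ∈ K) →
          ∃! φ : D →ₐ[A] C, (∀ i, φ (x i) = k i) ∧ δ.IsDPMorphism ε φ.toRingHom := by
  obtain ⟨δplus, hδplus, -⟩ := existsUnique_dp (bD A t) (dpFam_xd A t) (bD_apply A t)
  have hplus : ∀ (i : Fin t) (n m : ℕ), m ≠ 0 →
      δplus.dpow n (xd A t i m) = (Nat.uniformBell n m : A ⊗[ℤ] ZN t) * xd A t i (n * m) := by
    intro i n m hm
    rw [← hδplus i m, δplus.dpow_comp hm (x_mem_Pp i one_ne_zero), hδplus]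
  obtain ⟨δ, ⟨hδ1, hδ2⟩, -⟩ := existsUnique_compatible (bD A t) (dpFam_xd A t).hx0
    (dpFam_xd A t).hxmul (bD_apply' A t) γ (δplus : DividedPowers (PpL (xd A t)))
  have hxmem : ∀ (i : Fin t) (n : ℕ), n ≠ 0 → xd A t i n ∈ PpL (xd A t) :=
    fun i n hn => x_mem_Pp i hn
  refine ⟨A ⊗[ℤ] ZN t, inferInstance, inferInstance, _, δ, fun i => xd A t i 1,
    fun i => Ideal.mem_sup_right (hxmem i 1 one_ne_zero), hδ1, ?_⟩
  intro C _ _ K ε hmor k hk
  have hS : I.map (algebraMap A (A ⊗[ℤ] ZN t)) ⊔ PpL (xd A t) =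
      Ideal.span ((algebraMap A (A ⊗[ℤ] ZN t)) '' (I : Set A) ∪
        {y | ∃ (l : Fin t) (n : ℕ), 1 ≤ n ∧ y = xd A t l n}) := by
    rw [Ideal.span_union]; rfl
  refine ⟨phiD ε k hk, ⟨fun i => ?_, ?_⟩, ?_⟩
  · rw [phiD_xd, ε.dpow_one (hk i)]
  · refine DividedPowers.IsDPMorphism.on_span δ ε hS ?_ ?_
    · rintro s (⟨a, ha, rfl⟩ | ⟨l, n, hn, rfl⟩)
      · show phiD ε k hk (algebraMap A _ a) ∈ K
        rw [AlgHom.commutes]
        exact hmor.ideal_comp (Ideal.mem_map_of_mem _ ha)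
      · show phiD ε k hk (xd A t l n) ∈ K
        rw [phiD_xd]
        exact ε.dpow_mem (by omega) (hk l)
    · rintro n s (⟨a, ha, rfl⟩ | ⟨l, m, hm, rfl⟩)
      · show phiD ε k hk (δ.dpow n (algebraMap A _ a)) = ε.dpow n (phiD ε k hk (algebraMap A _ a))
        rw [hδ1.dpow_comp a ha, AlgHom.commutes, AlgHom.commutes, hmor.dpow_comp a ha]
      · show phiD ε k hk (δ.dpow n (xd A t l m)) = ε.dpow n (phiD ε k hk (xd A t l m))
        have hm' : m ≠ 0 := by omega
        rw [hδ2 n _ (hxmem l m hm'), hplus l n m hm', map_mul, map_natCast, phiD_xd, phiD_xd,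
          ε.dpow_comp hm' (hk l)]
  · rintro φ' ⟨h1, h2⟩
    have hx' : ∀ (i : Fin t) (n : ℕ), φ' (xd A t i n) = ε.dpow n (k i) := by
      intro i n
      have e1 : xd A t i n = δ.dpow n (xd A t i 1) := by
        rw [hδ2 n _ (hxmem i 1 one_ne_zero), hδplus]
      rw [e1]
      have := h2.dpow_comp (n := n) (xd A t i 1) (Ideal.mem_sup_right (hxmem i 1 one_ne_zero))
      rw [AlgHom.toRingHom_eq_coe, RingHom.coe_coe] at this
      rw [← this, h1 i]
    have hlin : φ'.toLinearMap = (phiD ε k hk).toLinearMap := by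
      refine (bD A t).ext fun e => ?_
      rw [bD_apply]
      simp only [AlgHom.toLinearMap_apply]
      unfold bm
      rw [map_prod, map_prod]
      refine Finset.prod_congr rfl (fun l _ => ?_)
      rw [hx', phiD_xd]
    exact AlgHom.ext (fun z => LinearMap.congr_fun hlin z)

end

end Groth.Agent.Lib.Helper8.WG
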