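import Mathlib.RingTheory.DividedPowers.RatAlgebra
import Mathlib.RingTheory.DividedPowers.DPMorphism
import Mathlib.Tactic.LinearCombination
import Mathlib.Tactic.Ring
import Groth.Agent.Lib.Helper8.WG12

set_option backward.isDefEq.respectTransparency.types false
set_option synthInstance.maxHeartbeats 400000
set_option autoImplicit false
set_option linter.unusedSectionVars false
set_option linter.style.haveILetI false

/-!
# Ring maps out of `ℤ⟨X_1, …, X_N⟩` and its divided power structure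
-/

namespace Groth.Agent.Lib.Helper8.WG

noncomputable section

open Finset

universe u

variable {N : ℕ} {C : Type u} [CommRing C] (κ : Fin N → ℕ → C)

/-- The linear map `ℤ⟨X⟩ → C` attached to a family. -/
def liftZ0 : ZN N →ₗ[ℤ] C := (bZ N).constr ℤ (bm κ)

theorem liftZ0_basis (e : Fin N →₀ ℕ) : liftZ0 κ (bm (xz N) e) = bm κ e := by
  unfold liftZ0
  rw [← bZ_apply, Module.Basis.constr_basis]

variable {κ} (hκ : DPFam κ)

include hκ

theorem liftZ0_mul (p q : ZN N) : liftZ0 κ (p * q) = liftZ0 κ p * liftZ0 κ q := by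
  have key : (LinearMap.mul ℤ (ZN N)).compr₂ (liftZ0 κ) =
      (LinearMap.mul ℤ C).compl₁₂ (liftZ0 κ) (liftZ0 κ) := by
    refine (bZ N).ext fun e => (bZ N).ext fun f => ?_
    simp only [LinearMap.compr₂_apply, LinearMap.mul_apply', LinearMap.compl₁₂_apply]
    rw [bZ_apply, bZ_apply, bm_mul (dpFam_xz N), ← nsmul_eq_mul, map_nsmul, liftZ0_basis,
      liftZ0_basis, liftZ0_basis, bm_mul hκ, nsmul_eq_mul]
  have := LinearMap.congr_fun (LinearMap.congr_fun key p) q
  simpa using this

theorem liftZ0_one : liftZ0 κ (1 : ZN N) = 1 := by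
  rw [← bm_zero (dpFam_xz N), liftZ0_basis, bm_zero hκ]

/-- The ring map `ℤ⟨X⟩ → C` attached to a divided power family. -/
def liftZ : ZN N →ₐ[ℤ] C := AlgHom.ofLinearMap (liftZ0 κ) (liftZ0_one hκ) (liftZ0_mul hκ)

theorem liftZ_xz (i : Fin N) (n : ℕ) : liftZ hκ (xz N i n) = κ i n := by
  show liftZ0 κ (xz N i n) = _
  rw [← bm_single (dpFam_xz N), liftZ0_basis, bm_single hκ]

omit hκ

variable (N)

/-- The divided power structure on the augmentation ideal of `ℤ⟨X⟩`. -/
def epsZ : DividedPowers (Pp (xz N)) :=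
  (existsUnique_dp (bZ N) (dpFam_xz N) (bZ_apply N)).exists.choose

theorem epsZ_one (i : Fin N) (n : ℕ) : (epsZ N).dpow n (xz N i 1) = xz N i n :=
  (existsUnique_dp (bZ N) (dpFam_xz N) (bZ_apply N)).exists.choose_spec i n

theorem epsZ_gen (i : Fin N) (n : ℕ) {m : ℕ} (hm : m ≠ 0) :
    (epsZ N).dpow n (xz N i m) = (Nat.uniformBell n m : ZN N) * xz N i (n * m) := by
  rw [← epsZ_one N i m, (epsZ N).dpow_comp hm (x_mem_Pp i one_ne_zero), epsZ_one]

end

end Groth.Agent.Lib.Helper8.WG
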