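import Mathlib.RingTheory.DividedPowers.RatAlgebra
import Mathlib.RingTheory.DividedPowers.DPMorphism
import Mathlib.Tactic.LinearCombination
import Mathlib.Tactic.Ring
import Mathlib.Data.Nat.Prime.Basic
import Groth.Agent.Lib.Helper8.WG14

set_option backward.isDefEq.respectTransparency.types false
set_option synthInstance.maxHeartbeats 400000
set_option autoImplicit false
set_option linter.unusedSectionVars false
set_option linter.style.haveILetI false
set_option linter.unusedVariables false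

/-!
# Divided powers from a `p`-th divided power operation: the one-variable calculus
-/

namespace Groth.Agent.Lib.Helper8.WG

noncomputable section

open Finset

universe u

section NumP

open Nat

variable {p : ℕ} (hp : p.Prime)

include hp

theorem not_dvd_asc (m : ℕ) {k : ℕ} (hk : k < p) : ¬ p ∣ (p * m + 1).ascFactorial k := by
  induction k with
  | zero =>
    rw [Nat.ascFactorial_zero]
    intro h
    exact hp.one_lt.ne' (Nat.dvd_one.mp h)
  | succ k ih =>
    rw [Nat.ascFactorial_succ]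
    intro h
    rcases hp.dvd_mul.mp h with h | h
    · have h' : p ∣ 1 + k := by
        rw [add_assoc] at h
        exact (Nat.dvd_add_right (dvd_mul_right p m)).mp h
      have := Nat.le_of_dvd (by omega) h'
      omega
    · exact ih (by omega) h

theorem not_dvd_uniformBell (q : ℕ) : ¬ p ∣ Nat.uniformBell q p := by
  induction q with
  | zero =>
    rw [Nat.uniformBell_zero_left]
    intro h
    exact hp.one_lt.ne' (Nat.dvd_one.mp h)
  | succ q ih =>
    rw [Nat.uniformBell_succ_left]
    intro h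
    rcases hp.dvd_mul.mp h with h | h
    · have h1 : (p * q + 1).ascFactorial (p - 1) =
          (p - 1)! * (p * q + (p - 1)).choose (p - 1) :=
        Nat.ascFactorial_eq_factorial_mul_choose _ _
      apply not_dvd_asc hp q (k := p - 1) (by have := hp.pos; omega)
      rw [h1]
      apply Dvd.dvd.mul_left
      have e : q * p + p - 1 = p * q + (p - 1) := by
        have := hp.pos
        rw [mul_comm]; omega
      rwa [e] at h
    · exact ih h

omit hp

theorem numI1 (hp0 : p ≠ 0) (r : ℕ) :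
    (p * r + 1).ascFactorial (p - 1) * Nat.uniformBell r p * (p * (r + 1)) =
      p ! * (r + 1) * Nat.uniformBell (r + 1) p := by
  obtain ⟨s, hs⟩ : ∃ s, p = s + 1 := ⟨p - 1, by omega⟩
  subst hs
  rw [Nat.uniformBell_succ_left, Nat.ascFactorial_eq_factorial_mul_choose, Nat.factorial_succ]
  have e : r * (s + 1) + (s + 1) - 1 = (s + 1) * r + (s + 1 - 1) := by
    rw [mul_comm]; omega
  rw [e]
  simp only [Nat.add_sub_cancel]
  ring

theorem numI2 (hp0 : p ≠ 0) (a b : ℕ) :
    Nat.uniformBell a p * Nat.uniformBell b p * (p * a + p * b).choose (p * a) =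
      (a + b).choose a * Nat.uniformBell (a + b) p := by
  have h1 := Nat.uniformBell_mul_eq a hp0
  have h2 := Nat.uniformBell_mul_eq b hp0
  have h3 := Nat.uniformBell_mul_eq (a + b) hp0
  have h4 := Nat.add_choose_mul_factorial_mul_factorial (p * a) (p * b)
  have h5 := Nat.add_choose_mul_factorial_mul_factorial a b
  rw [← Nat.choose_symm_add] at h4 h5
  have hK : 0 < p ! ^ (a + b) * a ! * b ! :=
    Nat.mul_pos (Nat.mul_pos (Nat.pow_pos (Nat.factorial_pos _)) (Nat.factorial_pos _))
      (Nat.factorial_pos _)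
  apply Nat.eq_of_mul_eq_mul_left hK
  calc p ! ^ (a + b) * a ! * b ! *
        (Nat.uniformBell a p * Nat.uniformBell b p * (p * a + p * b).choose (p * a))
      = (p * a + p * b).choose (p * a) * (Nat.uniformBell a p * p ! ^ a * a !) *
          (Nat.uniformBell b p * p ! ^ b * b !) := by rw [pow_add]; ring
    _ = ((a + b) * p)! := by
        rw [h1, h2, mul_comm a p, mul_comm b p, h4, ← mul_add, mul_comm]
    _ = ((a + b).choose a * a ! * b !) * Nat.uniformBell (a + b) p * p ! ^ (a + b) := by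
        rw [h5, ← h3]; ring
    _ = _ := by ring

theorem numI3 {k : ℕ} (hk : k ≠ 0) :
    Nat.uniformBell p k * (p * k + 1).ascFactorial p =
      (k + 1) ^ p * Nat.uniformBell p (k + 1) := by
  have h1 := Nat.uniformBell_mul_eq p hk
  have h2 := Nat.uniformBell_mul_eq p (by omega : k + 1 ≠ 0)
  have h3 := Nat.factorial_mul_ascFactorial (p * k) p
  have hK : 0 < k ! ^ p * p ! :=
    Nat.mul_pos (Nat.pow_pos (Nat.factorial_pos _)) (Nat.factorial_pos _)
  apply Nat.eq_of_mul_eq_mul_left hK
  calc k ! ^ p * p ! * (Nat.uniformBell p k * (p * k + 1).ascFactorial p)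
      = (Nat.uniformBell p k * k ! ^ p * p !) * (p * k + 1).ascFactorial p := by ring
    _ = (p * (k + 1))! := by rw [h1, h3, mul_add, mul_one]
    _ = Nat.uniformBell p (k + 1) * ((k + 1) * k !) ^ p * p ! := by
        rw [← Nat.factorial_succ, ← h2]
    _ = _ := by rw [mul_pow]; ring

theorem numI4 (j : ℕ) {n : ℕ} (hn : n ≠ 0) :
    Nat.uniformBell j n * ((j + 1) * n).choose n = (j + 1) * Nat.uniformBell (j + 1) n := by
  have h1 := Nat.uniformBell_mul_eq j hn
  have h2 := Nat.uniformBell_mul_eq (j + 1) hn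
  have h4 := Nat.add_choose_mul_factorial_mul_factorial n (j * n)
  rw [← Nat.choose_symm_add] at h4
  have e : (j + 1) * n = n + j * n := by ring
  have hK : 0 < n ! ^ (j + 1) * j ! :=
    Nat.mul_pos (Nat.pow_pos (Nat.factorial_pos _)) (Nat.factorial_pos _)
  apply Nat.eq_of_mul_eq_mul_left hK
  calc n ! ^ (j + 1) * j ! * (Nat.uniformBell j n * ((j + 1) * n).choose n)
      = (n + j * n).choose n * n ! * (Nat.uniformBell j n * n ! ^ j * j !) := by
        rw [e, pow_succ]; ring
    _ = ((j + 1) * n)! := by rw [h1, h4, e]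
    _ = Nat.uniformBell (j + 1) n * n ! ^ (j + 1) * ((j + 1) * j !) := by
        rw [← Nat.factorial_succ, h2]
    _ = _ := by ring

end NumP

section Gdp

variable {A : Type u} [CommRing A]

/-- The candidate divided powers attached to a `p`-th divided power operation `d`. -/
def gdp (p : ℕ) (d : A → A) (n : ℕ) : A → A :=
  if hn : n = 0 then fun _ => 1
  else if h : p ∣ n ∧ 1 < p then
    fun x => Ring.inverse ((Nat.uniformBell (n / p) p : ℕ) : A) * gdp p d (n / p) (d x)
  else fun x => Ring.inverse ((n : ℕ) : A) * (x * gdp p d (n - 1) x)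
termination_by n
decreasing_by
  · exact Nat.div_lt_self (Nat.pos_of_ne_zero hn) h.2
  · omega

theorem gdp_zero (p : ℕ) (d : A → A) (x : A) : gdp p d 0 x = 1 := by
  rw [gdp]; simp

theorem gdp_of_not_dvd {p : ℕ} (d : A → A) {n : ℕ} (hn : n ≠ 0) (h : ¬ p ∣ n) (x : A) :
    gdp p d n x = Ring.inverse ((n : ℕ) : A) * (x * gdp p d (n - 1) x) := by
  rw [gdp]; simp [hn, h]

theorem gdp_of_dvd {p : ℕ} (hp1 : 1 < p) (d : A → A) {n : ℕ} (hn : n ≠ 0) (h : p ∣ n) (x : A) :
    gdp p d n x =
      Ring.inverse ((Nat.uniformBell (n / p) p : ℕ) : A) * gdp p d (n / p) (d x) := by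
  rw [gdp]; simp [hn, h, hp1]

/-- The hypotheses on the `p`-th divided power operation (without additivity). -/
structure PData (p : ℕ) (I : Ideal A) (d : A → A) : Prop where
  hp : p.Prime
  hA : ∀ n : ℕ, ¬ p ∣ n → IsUnit (n : A)
  hdI : ∀ x ∈ I, d x ∈ I
  h1 : ∀ x ∈ I, (p.factorial : A) * d x = x ^ p
  h2 : ∀ (a x : A), x ∈ I → d (a * x) = a ^ p * d x

namespace PData

variable {p : ℕ} {I : Ideal A} {d : A → A} (H : PData p I d)

include H

theorem cancel {n : ℕ} (hn : ¬ p ∣ n) {X Y : A} (h : ((n : ℕ) : A) * X = n * Y) : X = Y :=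
  (H.hA n hn).mul_left_cancel h

theorem E1 {n : ℕ} (hn : n ≠ 0) (h : ¬ p ∣ n) (x : A) :
    ((n : ℕ) : A) * gdp p d n x = x * gdp p d (n - 1) x := by
  rw [gdp_of_not_dvd d hn h, ← mul_assoc, Ring.mul_inverse_cancel _ (H.hA n h), one_mul]

theorem E2 (q : ℕ) (x : A) :
    ((Nat.uniformBell q p : ℕ) : A) * gdp p d (p * q) x = gdp p d q (d x) := by
  rcases Nat.eq_zero_or_pos q with rfl | hq
  · simp [gdp_zero, Nat.uniformBell_zero_left]
  · have hn : p * q ≠ 0 := Nat.mul_ne_zero H.hp.pos.ne' hq.ne'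
    rw [gdp_of_dvd H.hp.one_lt d hn (dvd_mul_right p q), Nat.mul_div_cancel_left q H.hp.pos,
      ← mul_assoc, Ring.mul_inverse_cancel _ (H.hA _ (not_dvd_uniformBell H.hp q)), one_mul]

theorem g_one (x : A) : gdp p d 1 x = x := by
  have := H.E1 one_ne_zero (fun h => H.hp.one_lt.ne' (Nat.dvd_one.mp h)) x
  simpa [gdp_zero] using this

theorem g_p (x : A) : gdp p d p x = d x := by
  have := H.E2 1 x
  rwa [Nat.uniformBell_one_left, Nat.cast_one, one_mul, mul_one, H.g_one] at this

theorem g_mem : ∀ n : ℕ, n ≠ 0 → ∀ x ∈ I, gdp p d n x ∈ I := by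
  intro n
  induction n using Nat.strong_induction_on with
  | _ n IH =>
  intro hn x hx
  by_cases h : p ∣ n
  · rw [gdp_of_dvd H.hp.one_lt d hn h]
    apply I.mul_mem_left
    obtain ⟨q, rfl⟩ := h
    rw [Nat.mul_div_cancel_left q H.hp.pos]
    have hq : q ≠ 0 := by rintro rfl; simp at hn
    apply IH q _ hq _ (H.hdI x hx)
    have := H.hp.one_lt
    have : 1 * q < p * q := Nat.mul_lt_mul_of_pos_right this (Nat.pos_of_ne_zero hq)
    omega
  · rw [gdp_of_not_dvd d hn h]
    exact I.mul_mem_left _ (I.mul_mem_right _ hx)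

theorem g_smul : ∀ n : ℕ, ∀ a x : A, x ∈ I → gdp p d n (a * x) = a ^ n * gdp p d n x := by
  intro n
  induction n using Nat.strong_induction_on with
  | _ n IH =>
  intro a x hx
  rcases Nat.eq_zero_or_pos n with rfl | hn0
  · simp [gdp_zero]
  have hn := hn0.ne'
  by_cases h : p ∣ n
  · rw [gdp_of_dvd H.hp.one_lt d hn h, gdp_of_dvd H.hp.one_lt d hn h, H.h2 a x hx]
    obtain ⟨q, rfl⟩ := h
    rw [Nat.mul_div_cancel_left q H.hp.pos]
    have hq : q ≠ 0 := by rintro rfl; simp at hn
    have hlt : q < p * q := by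
      have := H.hp.one_lt
      have : 1 * q < p * q := Nat.mul_lt_mul_of_pos_right this (Nat.pos_of_ne_zero hq)
      omega
    rw [IH q hlt _ _ (H.hdI x hx), pow_mul]
    ring
  · rw [gdp_of_not_dvd d hn h, gdp_of_not_dvd d hn h, IH (n - 1) (by omega) a x hx]
    obtain ⟨k, rfl⟩ := Nat.exists_eq_succ_of_ne_zero hn
    simp only [Nat.succ_eq_add_one, Nat.add_sub_cancel]
    ring

theorem g_iter_aux {n : ℕ}
    (IH : ∀ n' < n, ∀ x ∈ I, x * gdp p d n' x = ((n' + 1 : ℕ) : A) * gdp p d (n' + 1) x)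
    {x : A} (hx : x ∈ I) (m : ℕ) :
    ∀ k : ℕ, m + k ≤ n →
      x ^ k * gdp p d m x = (((m + 1).ascFactorial k : ℕ) : A) * gdp p d (m + k) x := by
  intro k
  induction k with
  | zero => intro _; simp
  | succ k ih =>
    intro hk
    have e1 := ih (by omega)
    have e2 := IH (m + k) (by omega) x hx
    rw [Nat.ascFactorial_succ]
    push_cast at e2 ⊢
    have e3 : gdp p d (m + (k + 1)) x = gdp p d (m + k + 1) x := rfl
    rw [e3]
    linear_combination x * e1 + (((m + 1).ascFactorial k : ℕ) : A) * e2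

theorem g_succ : ∀ n : ℕ, ∀ x ∈ I,
    x * gdp p d n x = ((n + 1 : ℕ) : A) * gdp p d (n + 1) x := by
  intro n
  induction n using Nat.strong_induction_on with
  | _ n IH =>
  intro x hx
  by_cases hdiv : p ∣ n + 1
  · obtain ⟨q, hq⟩ := hdiv
    have hq0 : q ≠ 0 := by rintro rfl; simp at hq
    obtain ⟨r, rfl⟩ := Nat.exists_eq_succ_of_ne_zero hq0
    have hp1 := H.hp.one_lt
    obtain ⟨s, hs⟩ : ∃ s, p = s + 1 := ⟨p - 1, by omega⟩
    subst hs
    have hn : n = (s + 1) * r + s := by
      rw [Nat.succ_eq_add_one, mul_add, mul_one] at hq; omega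
    have hu : ¬ (s + 1) ∣ ((s + 1) * r + 1).ascFactorial s * Nat.uniformBell r (s + 1) := by
      intro h
      rcases H.hp.dvd_mul.mp h with h | h
      · exact not_dvd_asc H.hp r (by omega) h
      · exact not_dvd_uniformBell H.hp r h
    apply H.cancel hu
    have hr : r ≤ (s + 1) * r := Nat.le_mul_of_pos_left r (by omega)
    have e1 := H.g_iter_aux IH hx ((s + 1) * r) s (by omega)
    have e2 := H.E2 r x
    have e3 := IH r (by omega) (d x) (H.hdI x hx)
    have e4 := H.E2 (r + 1) x
    have e5 := H.h1 x hx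
    have e6 := congrArg (Nat.cast (R := A)) (numI1 (p := s + 1) (by omega) r)
    rw [← hq] at e4
    rw [← hn] at e1
    have hcast : ((n + 1 : ℕ) : A) = ((s : A) + 1) * ((r : A) + 1) := by
      rw [hq]; push_cast; ring
    rw [hcast]
    simp only [Nat.add_sub_cancel] at e6 e4 ⊢
    push_cast at e1 e2 e3 e4 e5 e6 ⊢
    linear_combination (-((Nat.uniformBell r (s + 1) : A) * x)) * e1 + x ^ (s + 1) * e2
      - gdp (s + 1) d r (d x) * e5 + ((s + 1).factorial : A) * e3
      - ((s + 1).factorial : A) * ((r : A) + 1) * e4 - gdp (s + 1) d (n + 1) x * e6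
  · have := H.E1 (Nat.succ_ne_zero n) hdiv x
    simp only [Nat.succ_eq_add_one, Nat.add_sub_cancel] at this
    exact this.symm

theorem g_iter {x : A} (hx : x ∈ I) (m k : ℕ) :
    x ^ k * gdp p d m x = (((m + 1).ascFactorial k : ℕ) : A) * gdp p d (m + k) x :=
  H.g_iter_aux (n := m + k) (fun n' _ x hx => H.g_succ n' x hx) hx m k le_rfl

theorem g_fact (n : ℕ) {x : A} (hx : x ∈ I) : ((n.factorial : ℕ) : A) * gdp p d n x = x ^ n := by
  have := H.g_iter hx 0 n
  rw [gdp_zero, mul_one, zero_add, zero_add, Nat.one_ascFactorial] at this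
  exact this.symm

theorem g_mul_aux (N : ℕ)
    (IH : ∀ N' < N, ∀ m n : ℕ, m + n = N' → ∀ x ∈ I,
      gdp p d m x * gdp p d n x = (((m + n).choose m : ℕ) : A) * gdp p d (m + n) x)
    (m n : ℕ) (hmn : m + n = N) (hm : m ≠ 0) (hpm : ¬ p ∣ m) {x : A} (hx : x ∈ I) :
    gdp p d m x * gdp p d n x = (((m + n).choose m : ℕ) : A) * gdp p d (m + n) x := by
  obtain ⟨j, rfl⟩ := Nat.exists_eq_succ_of_ne_zero hm
  apply H.cancel hpm
  have e1 := H.E1 hm hpm x
  have e2 := IH (j + n) (by omega) j n rfl x hx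
  have e3 := H.g_succ (j + n) x hx
  have e4 := congrArg (Nat.cast (R := A)) (Nat.add_one_mul_choose_eq (j + n) j)
  have e5 : j + 1 + n = j + n + 1 := by omega
  simp only [Nat.succ_eq_add_one, Nat.add_sub_cancel] at e1 ⊢
  rw [e5]
  push_cast at e1 e2 e3 e4 ⊢
  linear_combination gdp p d n x * e1 + x * e2 + (((j + n).choose j : ℕ) : A) * e3
    + gdp p d (j + n + 1) x * e4

theorem g_mul : ∀ N m n : ℕ, m + n = N → ∀ x ∈ I,
    gdp p d m x * gdp p d n x = (((m + n).choose m : ℕ) : A) * gdp p d (m + n) x := by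
  intro N
  induction N using Nat.strong_induction_on with
  | _ N IH =>
  intro m n hmn x hx
  rcases Nat.eq_zero_or_pos m with rfl | hm
  · simp [gdp_zero]
  rcases Nat.eq_zero_or_pos n with rfl | hn
  · simp [gdp_zero]
  by_cases hpm : p ∣ m
  · by_cases hpn : p ∣ n
    · obtain ⟨a, rfl⟩ := hpm
      obtain ⟨b, rfl⟩ := hpn
      have ha : a ≠ 0 := by rintro rfl; simp at hm
      have hb : b ≠ 0 := by rintro rfl; simp at hn
      have hp1 := H.hp.one_lt
      have hu : ¬ p ∣ Nat.uniformBell a p * Nat.uniformBell b p := by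
        intro h
        rcases H.hp.dvd_mul.mp h with h | h
        · exact not_dvd_uniformBell H.hp a h
        · exact not_dvd_uniformBell H.hp b h
      apply H.cancel hu
      have hlt : a + b < N := by
        have h1 : 1 * a < p * a := Nat.mul_lt_mul_of_pos_right hp1 (Nat.pos_of_ne_zero ha)
        have h2 : 1 * b < p * b := Nat.mul_lt_mul_of_pos_right hp1 (Nat.pos_of_ne_zero hb)
        omega
      have e1 := H.E2 a x
      have e2 := H.E2 b x
      have e3 := IH (a + b) hlt a b rfl (d x) (H.hdI x hx)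
      have e4 := H.E2 (a + b) x
      have e5 := congrArg (Nat.cast (R := A)) (numI2 (p := p) H.hp.pos.ne' a b)
      rw [mul_add] at e4
      push_cast at e1 e2 e3 e4 e5 ⊢
      linear_combination ((Nat.uniformBell b p : A) * gdp p d (p * b) x) * e1
        + gdp p d a (d x) * e2 + e3 - (((a + b).choose a : ℕ) : A) * e4
        - gdp p d (p * a + p * b) x * e5
    · have := H.g_mul_aux N IH n m (by omega) hn.ne' hpn hx
      rw [mul_comm, this, add_comm n m, Nat.choose_symm_add]
  · exact H.g_mul_aux N IH m n hmn hm.ne' hpm hx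

theorem g_mul' (m n : ℕ) {x : A} (hx : x ∈ I) :
    gdp p d m x * gdp p d n x = (((m + n).choose m : ℕ) : A) * gdp p d (m + n) x :=
  H.g_mul (m + n) m n rfl x hx

theorem g_d : ∀ n : ℕ, n ≠ 0 → ∀ x ∈ I,
    d (gdp p d n x) = ((Nat.uniformBell p n : ℕ) : A) * gdp p d (p * n) x := by
  intro n
  induction n using Nat.strong_induction_on with
  | _ n IH =>
  intro hn x hx
  have hp1 := H.hp.one_lt
  by_cases hpn : p ∣ n
  · obtain ⟨q, rfl⟩ := hpn
    have hq : q ≠ 0 := by rintro rfl; simp at hn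
    have hlt : q < p * q := by
      have h1 : 1 * q < p * q := Nat.mul_lt_mul_of_pos_right hp1 (Nat.pos_of_ne_zero hq)
      omega
    have hu : ¬ p ∣ Nat.uniformBell q p ^ p := fun h =>
      not_dvd_uniformBell H.hp q (Nat.Prime.dvd_of_dvd_pow H.hp h)
    apply H.cancel hu
    have e1 := H.E2 q x
    have e2 := H.h2 ((Nat.uniformBell q p : ℕ) : A) (gdp p d (p * q) x) (H.g_mem _ hn x hx)
    rw [e1] at e2
    have e3 := IH q hlt hq (d x) (H.hdI x hx)
    have e4 := H.E2 (p * q) x
    have e5 := congrArg (Nat.cast (R := A)) (N3 p hq H.hp.pos.ne')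
    rw [mul_comm q p] at e5
    push_cast at e1 e2 e3 e4 e5 ⊢
    linear_combination (-1 : A) * e2 + e3 - (Nat.uniformBell p q : A) * e4
      - gdp p d (p * (p * q)) x * e5
  · obtain ⟨k, rfl⟩ := Nat.exists_eq_succ_of_ne_zero hn
    rcases Nat.eq_zero_or_pos k with rfl | hk
    · simp only [Nat.succ_eq_add_one, zero_add, mul_one]
      rw [H.g_one, H.g_p, Nat.uniformBell_one_right, Nat.cast_one, one_mul]
    · have hu : ¬ p ∣ (k + 1) ^ p := fun h => hpn (Nat.Prime.dvd_of_dvd_pow H.hp h)
      apply H.cancel hu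
      have e1 := H.E1 hn hpn x
      simp only [Nat.succ_eq_add_one, Nat.add_sub_cancel] at e1 ⊢
      have e2 := H.h2 ((k + 1 : ℕ) : A) (gdp p d (k + 1) x) (H.g_mem _ (by omega) x hx)
      rw [e1] at e2
      have e2' := H.h2 x (gdp p d k x) (H.g_mem _ hk.ne' x hx)
      have e3 := IH k (by omega) hk.ne' x hx
      have e4 := H.g_iter hx (p * k) p
      have e5 := congrArg (Nat.cast (R := A)) (numI3 (p := p) hk.ne')
      have e6 : p * (k + 1) = p * k + p := by ring
      rw [e6]
      push_cast at e1 e2 e2' e3 e4 e5 ⊢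
      linear_combination (-1 : A) * e2 + e2' + x ^ p * e3 + (Nat.uniformBell p k : A) * e4
        + gdp p d (p * k + p) x * e5

theorem g_comp : ∀ m n : ℕ, n ≠ 0 → ∀ x ∈ I,
    gdp p d m (gdp p d n x) = ((Nat.uniformBell m n : ℕ) : A) * gdp p d (m * n) x := by
  intro m
  induction m using Nat.strong_induction_on with
  | _ m IH =>
  intro n hn x hx
  have hp1 := H.hp.one_lt
  rcases Nat.eq_zero_or_pos m with rfl | hm
  · simp [gdp_zero, Nat.uniformBell_zero_left]
  have hy : gdp p d n x ∈ I := H.g_mem n hn x hx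
  by_cases hpm : p ∣ m
  · obtain ⟨q, rfl⟩ := hpm
    have hq : q ≠ 0 := by rintro rfl; simp at hm
    have hlt : q < p * q := by
      have h1 : 1 * q < p * q := Nat.mul_lt_mul_of_pos_right hp1 (Nat.pos_of_ne_zero hq)
      omega
    apply H.cancel (not_dvd_uniformBell H.hp q)
    have hpn : p * n ≠ 0 := Nat.mul_ne_zero H.hp.pos.ne' hn
    have e1 := H.E2 q (gdp p d n x)
    have e2 := H.g_d n hn x hx
    have e3 := H.g_smul q ((Nat.uniformBell p n : ℕ) : A) (gdp p d (p * n) x)
      (H.g_mem _ hpn x hx)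
    have e4 := IH q hlt (p * n) hpn x hx
    have e5 := congrArg (Nat.cast (R := A)) (N3 q H.hp.pos.ne' hn)
    rw [e2, e3, e4] at e1
    have e6 : p * q * n = q * (p * n) := by ring
    rw [e6]
    rw [mul_comm q p] at e5
    push_cast at e1 e5 ⊢
    linear_combination e1 + gdp p d (q * (p * n)) x * e5
  · obtain ⟨j, rfl⟩ := Nat.exists_eq_succ_of_ne_zero hm.ne'
    apply H.cancel hpm
    have e1 := H.E1 hm.ne' hpm (gdp p d n x)
    simp only [Nat.succ_eq_add_one, Nat.add_sub_cancel] at e1 ⊢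
    have e2 := IH j (by omega) n hn x hx
    have e3 := H.g_mul' n (j * n) hx
    have e4 := congrArg (Nat.cast (R := A)) (numI4 j hn)
    have e6 : (j + 1) * n = n + j * n := by ring
    rw [e6] at e4 ⊢
    rw [e2] at e1
    push_cast at e1 e3 e4 ⊢
    linear_combination e1 + (Nat.uniformBell j n : A) * e3 + gdp p d (n + j * n) x * e4

end PData

end Gdp

end

end Groth.Agent.Lib.Helper8.WG
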