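import Mathlib.RingTheory.DividedPowers.RatAlgebra
import Mathlib.RingTheory.DividedPowers.DPMorphism
import Mathlib.Tactic.LinearCombination
import Mathlib.Tactic.Ring
import Mathlib.Data.Nat.Prime.Basic
import Mathlib.Data.Nat.Prime.Factorial
import Groth.Agent.Lib.Helper8.WG15

set_option backward.isDefEq.respectTransparency.types false
set_option synthInstance.maxHeartbeats 400000
set_option autoImplicit false
set_option linter.unusedSectionVars false
set_option linter.style.haveILetI false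
set_option linter.unusedVariables false

/-!
# Divided powers from a `p`-th divided power operation: additivity and assembly
-/

namespace Groth.Agent.Lib.Helper8.WG

noncomputable section

open Finset

universe u

section Uniq

variable {A : Type u} [CommRing A] {p : ℕ} {I : Ideal A}

theorem dp_ext_of_p (hp : p.Prime) (hA : ∀ n : ℕ, ¬ p ∣ n → IsUnit (n : A))
    (γ γ' : DividedPowers I) (h : ∀ x ∈ I, γ.dpow p x = γ'.dpow p x) : γ = γ' := by
  apply DividedPowers.ext
  intro n
  induction n using Nat.strong_induction_on with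
  | _ n IH =>
  intro x hx
  have hp1 := hp.one_lt
  rcases Nat.eq_zero_or_pos n with rfl | hn
  · rw [γ.dpow_zero hx, γ'.dpow_zero hx]
  by_cases hpn : p ∣ n
  · obtain ⟨q, rfl⟩ := hpn
    have hq : q ≠ 0 := by rintro rfl; simp at hn
    have hlt : q < p * q := by
      have h1 : 1 * q < p * q := Nat.mul_lt_mul_of_pos_right hp1 (Nat.pos_of_ne_zero hq)
      omega
    apply (hA _ (not_dvd_uniformBell hp q)).mul_left_cancel
    have e1 := γ.dpow_comp (m := q) hp.ne_zero hx
    have e2 := γ'.dpow_comp (m := q) hp.ne_zero hx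
    rw [mul_comm q p] at e1 e2
    rw [← e1, ← e2, h x hx]
    exact IH q hlt (γ'.dpow_mem hp.ne_zero hx)
  · obtain ⟨j, rfl⟩ := Nat.exists_eq_succ_of_ne_zero hn.ne'
    apply (hA _ hpn).mul_left_cancel
    have e1 := γ.mul_dpow (m := 1) (n := j) hx
    have e2 := γ'.mul_dpow (m := 1) (n := j) hx
    rw [γ.dpow_one hx, Nat.choose_one_right, add_comm 1 j] at e1
    rw [γ'.dpow_one hx, Nat.choose_one_right, add_comm 1 j] at e2
    rw [Nat.succ_eq_add_one, ← e1, ← e2, IH j (by omega) hx]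

end Uniq

section Two

variable {A : Type u} [CommRing A] {p : ℕ} {I : Ideal A} {d : A → A} (H : PData p I d)
  (h3 : ∀ x ∈ I, ∀ y ∈ I, d (x + y) = d x + d y +
      ((antidiagonal p).filter fun k => 0 < k.1 ∧ 0 < k.2).sum
        fun k => Ring.inverse ((k.1.factorial * k.2.factorial : ℕ) : A) * x ^ k.1 * y ^ k.2)
  {N : ℕ} (z : Fin N → A) (hz : ∀ i, z i ∈ I)

/-- The family of candidate divided powers of the `z i`. -/
def kap (p : ℕ) (d : A → A) {N : ℕ} (z : Fin N → A) : Fin N → ℕ → A :=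
  fun i n => gdp p d n (z i)

include H hz in
theorem dpFam_kap : DPFam (kap p d z) where
  hx0 i := gdp_zero p d (z i)
  hxmul i n m := H.g_mul' n m (hz i)

/-- The ring map `ℤ⟨X⟩ → A`. -/
def phiZ : ZN N →ₐ[ℤ] A := liftZ (dpFam_kap H z hz)

theorem phiZ_xz (i : Fin N) (n : ℕ) : phiZ H z hz (xz N i n) = gdp p d n (z i) :=
  liftZ_xz (dpFam_kap H z hz) i n

theorem phiZ_mem {f : ZN N} (hf : f ∈ Pp (xz N)) : phiZ H z hz f ∈ I := by
  have hle : Pp (xz N) ≤ I.comap (phiZ H z hz) := by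
    unfold Pp
    rw [Ideal.span_le]
    rintro _ ⟨i, n, hn, rfl⟩
    show phiZ H z hz (xz N i n) ∈ I
    rw [phiZ_xz]
    exact H.g_mem n (by omega) _ (hz i)
  exact hle hf

theorem phiZ_dpow_small {n : ℕ} (hn : n < p) {f : ZN N} (hf : f ∈ Pp (xz N)) :
    phiZ H z hz ((epsZ N).dpow n f) = gdp p d n (phiZ H z hz f) := by
  have hu : ¬ p ∣ n.factorial := by
    rw [H.hp.dvd_factorial]; omega
  apply H.cancel hu
  rw [H.g_fact n (phiZ_mem H z hz hf), ← map_natCast (phiZ H z hz), ← map_mul,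
    (epsZ N).factorial_mul_dpow_eq_pow hf, map_pow]

include H in
theorem term_eq {i j : ℕ} (hi : i < p) (hj : j < p) {a b : A} (ha : a ∈ I) (hb : b ∈ I) :
    Ring.inverse ((i.factorial * j.factorial : ℕ) : A) * a ^ i * b ^ j =
      gdp p d i a * gdp p d j b := by
  have hu : ¬ p ∣ i.factorial * j.factorial := by
    intro h
    rcases H.hp.dvd_mul.mp h with h | h
    · rw [H.hp.dvd_factorial] at h; omega
    · rw [H.hp.dvd_factorial] at h; omega
  have e1 := H.g_fact i ha
  have e2 := H.g_fact j hb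
  have e3 := Ring.inverse_mul_cancel _ (H.hA _ hu)
  rw [← e1, ← e2]
  push_cast at e3 ⊢
  linear_combination (gdp p d i a * gdp p d j b) * e3

include H in
theorem d_zero : d 0 = 0 := by
  have := H.h2 0 0 I.zero_mem
  rw [zero_pow H.hp.ne_zero, zero_mul, zero_mul] at this
  exact this

theorem filter_not_eq (hp0 : p ≠ 0) :
    (antidiagonal p).filter (fun k => ¬ (0 < k.1 ∧ 0 < k.2)) = {(0, p), (p, 0)} := by
  ext ⟨i, j⟩
  simp only [mem_filter, HasAntidiagonal.mem_antidiagonal, mem_insert, mem_singleton,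
    Prod.mk.injEq]
  omega

include h3 in
theorem phiZ_dpow_p {f : ZN N} (hf : f ∈ Pp (xz N)) :
    phiZ H z hz ((epsZ N).dpow p f) = d (phiZ H z hz f) := by
  have hp0 := H.hp.ne_zero
  unfold Pp at hf
  induction hf using Submodule.span_induction with
  | mem f hf =>
    obtain ⟨i, m, hm, rfl⟩ := hf
    rw [epsZ_gen N i p (by omega), map_mul, map_natCast, phiZ_xz, phiZ_xz,
      H.g_d m (by omega) _ (hz i)]
  | zero =>
    rw [(epsZ N).dpow_eval_zero hp0, map_zero, d_zero H]
  | add f f' hf hf' ihf ihf' =>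
    have hfP : f ∈ Pp (xz N) := hf
    have hfP' : f' ∈ Pp (xz N) := hf'
    rw [(epsZ N).dpow_add hfP hfP', map_sum, map_add,
      h3 _ (phiZ_mem H z hz hfP) _ (phiZ_mem H z hz hfP'),
      ← Finset.sum_filter_add_sum_filter_not (antidiagonal p) (fun k => 0 < k.1 ∧ 0 < k.2),
      filter_not_eq hp0, Finset.sum_pair (by simp [hp0] : ((0, p) : ℕ × ℕ) ≠ (p, 0))]
    have hterm : ∀ k ∈ (antidiagonal p).filter (fun k => 0 < k.1 ∧ 0 < k.2),
        phiZ H z hz ((epsZ N).dpow k.1 f * (epsZ N).dpow k.2 f') =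
          Ring.inverse ((k.1.factorial * k.2.factorial : ℕ) : A) * phiZ H z hz f ^ k.1 *
            phiZ H z hz f' ^ k.2 := by
      intro k hk
      rw [mem_filter, HasAntidiagonal.mem_antidiagonal] at hk
      have hk1 : k.1 < p := by omega
      have hk2 : k.2 < p := by omega
      rw [map_mul, phiZ_dpow_small H z hz hk1 hfP, phiZ_dpow_small H z hz hk2 hfP',
        term_eq H hk1 hk2 (phiZ_mem H z hz hfP) (phiZ_mem H z hz hfP')]
    rw [Finset.sum_congr rfl hterm]
    have e0 : (epsZ N).dpow 0 f = 1 := (epsZ N).dpow_zero hfP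
    have e0' : (epsZ N).dpow 0 f' = 1 := (epsZ N).dpow_zero hfP'
    simp only [map_mul, ihf, ihf']
    rw [e0, e0', map_one]
    ring
  | smul a f hf ih =>
    have hfP : f ∈ Pp (xz N) := hf
    rw [smul_eq_mul, (epsZ N).dpow_mul hfP, map_mul, map_pow, ih, map_mul,
      H.h2 _ _ (phiZ_mem H z hz hfP)]

include h3 in
theorem phiZ_dpow : ∀ n : ℕ, ∀ f ∈ Pp (xz N),
    phiZ H z hz ((epsZ N).dpow n f) = gdp p d n (phiZ H z hz f) := by
  intro n
  induction n using Nat.strong_induction_on with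
  | _ n IH =>
  intro f hf
  have hp1 := H.hp.one_lt
  have hp0 := H.hp.ne_zero
  rcases Nat.eq_zero_or_pos n with rfl | hn
  · rw [(epsZ N).dpow_zero hf, map_one, gdp_zero]
  by_cases hpn : p ∣ n
  · obtain ⟨q, rfl⟩ := hpn
    have hq : q ≠ 0 := by rintro rfl; simp at hn
    have hlt : q < p * q := by
      have h1 : 1 * q < p * q := Nat.mul_lt_mul_of_pos_right hp1 (Nat.pos_of_ne_zero hq)
      omega
    apply H.cancel (not_dvd_uniformBell H.hp q)
    have e1 := (epsZ N).dpow_comp (m := q) hp0 hf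
    rw [mul_comm q p] at e1
    rw [H.E2, ← phiZ_dpow_p H h3 z hz hf, ← IH q hlt _ ((epsZ N).dpow_mem hp0 hf), e1, map_mul,
      map_natCast]
  · obtain ⟨j, rfl⟩ := Nat.exists_eq_succ_of_ne_zero hn.ne'
    apply H.cancel hpn
    have e1 := (epsZ N).mul_dpow (m := 1) (n := j) hf
    rw [(epsZ N).dpow_one hf, Nat.choose_one_right, add_comm 1 j] at e1
    have e2 := H.g_succ j _ (phiZ_mem H z hz hf)
    rw [Nat.succ_eq_add_one, ← e2, ← IH j (by omega) f hf, ← map_mul, e1, map_mul, map_natCast]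

end Two

section Assemble

variable {A : Type u} [CommRing A] {p : ℕ} {I : Ideal A} {d : A → A} (H : PData p I d)
  (h3 : ∀ x ∈ I, ∀ y ∈ I, d (x + y) = d x + d y +
      ((antidiagonal p).filter fun k => 0 < k.1 ∧ 0 < k.2).sum
        fun k => Ring.inverse ((k.1.factorial * k.2.factorial : ℕ) : A) * x ^ k.1 * y ^ k.2)

include H h3 in
theorem g_add {x y : A} (hx : x ∈ I) (hy : y ∈ I) (n : ℕ) :
    gdp p d n (x + y) = ∑ k ∈ antidiagonal n, gdp p d k.1 x * gdp p d k.2 y := by
  let z : Fin 2 → A := ![x, y]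
  have hz : ∀ i, z i ∈ I := by
    intro i
    fin_cases i
    · exact hx
    · exact hy
  have h0 : xz 2 0 1 ∈ Pp (xz 2) := x_mem_Pp 0 one_ne_zero
  have h1 : xz 2 1 1 ∈ Pp (xz 2) := x_mem_Pp 1 one_ne_zero
  have hf : xz 2 0 1 + xz 2 1 1 ∈ Pp (xz 2) := (Pp (xz 2)).add_mem h0 h1
  have key := phiZ_dpow H h3 z hz n _ hf
  have e1 : phiZ H z hz (xz 2 0 1 + xz 2 1 1) = x + y := by
    rw [map_add, phiZ_xz, phiZ_xz, H.g_one, H.g_one]
    rfl
  rw [e1] at key
  rw [← key, (epsZ 2).dpow_add h0 h1, map_sum]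
  refine Finset.sum_congr rfl fun k _ => ?_
  rw [epsZ_one, epsZ_one, map_mul, phiZ_xz, phiZ_xz]
  rfl

include H h3 in
open Classical in
/-- The divided power structure attached to a `p`-th divided power operation. -/
def dpOfP : DividedPowers I where
  dpow n x := if x ∈ I then gdp p d n x else 0
  dpow_null hx := if_neg hx
  dpow_zero hx := by rw [if_pos hx, gdp_zero]
  dpow_one hx := by rw [if_pos hx, H.g_one]
  dpow_mem hn hx := by rw [if_pos hx]; exact H.g_mem _ hn _ hx
  dpow_add hx hy := by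
    rw [if_pos (I.add_mem hx hy), g_add H h3 hx hy]
    refine Finset.sum_congr rfl fun k _ => ?_
    rw [if_pos hx, if_pos hy]
  dpow_mul hx := by rw [if_pos (I.mul_mem_left _ hx), if_pos hx, H.g_smul _ _ _ hx]
  mul_dpow hx := by simp only [if_pos hx]; exact H.g_mul' _ _ hx
  dpow_comp hn hx := by
    rw [if_pos hx, if_pos (H.g_mem _ hn _ hx), if_pos hx, H.g_comp _ _ hn _ hx]

open Classical in
theorem dpOfP_dpow_p {x : A} (hx : x ∈ I) : (dpOfP H h3).dpow p x = d x := by
  show (if x ∈ I then gdp p d p x else 0) = d x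
  rw [if_pos hx, H.g_p]

end Assemble

/-- Let `p` be a prime, `A` a `ℤ_(p)`-algebra and `I` an ideal.  A `p`-th divided power
operation `d` on `I` extends uniquely to a divided power structure on `I`. -/
theorem existsUnique_dividedPowers_of_dpow_prime {A : Type u} [CommRing A] (p : ℕ) (hp : p.Prime)
    (hA : ∀ n : ℕ, ¬ p ∣ n → IsUnit (n : A)) {I : Ideal A} (d : A → A)
    (hdI : ∀ x ∈ I, d x ∈ I) (h1 : ∀ x ∈ I, (p.factorial : A) * d x = x ^ p)
    (h2 : ∀ (a x : A), x ∈ I → d (a * x) = a ^ p * d x)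
    (h3 : ∀ x ∈ I, ∀ y ∈ I, d (x + y) = d x + d y +
      ((antidiagonal p).filter fun k => 0 < k.1 ∧ 0 < k.2).sum
        fun k => Ring.inverse ((k.1.factorial * k.2.factorial : ℕ) : A) * x ^ k.1 * y ^ k.2) :
    ∃! γ : DividedPowers I, ∀ x ∈ I, γ.dpow p x = d x := by
  have H : PData p I d := ⟨hp, hA, hdI, h1, h2⟩
  refine ⟨dpOfP H h3, fun x hx => dpOfP_dpow_p H h3 hx, fun γ' hγ' => ?_⟩
  apply dp_ext_of_p hp hA
  intro x hx
  rw [hγ' x hx, dpOfP_dpow_p H h3 hx]

end

end Groth.Agent.Lib.Helper8.WG
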