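import Mathlib.RingTheory.DividedPowers.RatAlgebra
import Mathlib.RingTheory.DividedPowers.DPMorphism
import Mathlib.RingTheory.DividedPowers.Padic
import Mathlib.Algebra.MvPolynomial.Basic
import Mathlib.Tactic.LinearCombination
import Mathlib.Tactic.Ring
import Mathlib.Tactic.FieldSimp
import Mathlib.LinearAlgebra.Basis.Basic
import Groth.Agent.Lib.Helper8.WG11

set_option backward.isDefEq.respectTransparency.types false
set_option synthInstance.maxHeartbeats 400000
set_option autoImplicit false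
set_option linter.unusedSectionVars false
set_option linter.style.haveILetI false
set_option linter.unusedVariables false

/-!
# A concrete model of the divided power polynomial algebra `ℤ⟨X_λ : λ ∈ Λ⟩ ⊆ ℚ[X_λ]`
for an arbitrary index type
-/

namespace Groth.Agent.Lib.Helper8.WG

noncomputable section

open Finset MvPolynomial

universe w v

section General

variable {Λ : Type w} {P : Type v} [CommRing P] {x : Λ → ℕ → P}

/-- The multinomial-type coefficient in the product of two divided monomials. -/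
def mmL (e f : Λ →₀ ℕ) : ℕ :=
  open scoped Classical in ∏ l ∈ e.support ∪ f.support, (e l + f l).choose (e l)

theorem prodL_mul' (hx0 : ∀ l, x l 0 = 1)
    (hxmul : ∀ l n m, x l n * x l m = ((n + m).choose n : P) * x l (n + m))
    (e f : Λ →₀ ℕ) : e.prod (fun l k => x l k) * f.prod (fun l k => x l k) =
      (mmL e f : P) * (e + f).prod (fun l k => x l k) := by
  classical
  unfold mmL
  rw [Finsupp.prod_of_support_subset e Finset.subset_union_left _ (fun l _ => hx0 l),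
    Finsupp.prod_of_support_subset f Finset.subset_union_right _ (fun l _ => hx0 l),
    Finsupp.prod_of_support_subset (e + f) Finsupp.support_add _ (fun l _ => hx0 l),
    ← Finset.prod_mul_distrib, Nat.cast_prod, ← Finset.prod_mul_distrib]
  refine Finset.prod_congr rfl (fun l _ => ?_)
  rw [hxmul, Finsupp.add_apply]

theorem prodL_zero : (0 : Λ →₀ ℕ).prod (fun l k => x l k) = 1 := Finsupp.prod_zero_index

theorem prodL_single (hx0 : ∀ l, x l 0 = 1) (l : Λ) (n : ℕ) :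
    (Finsupp.single l n).prod (fun l k => x l k) = x l n :=
  Finsupp.prod_single_index (hx0 l)

end General

variable (Λ : Type w)

/-- `X_l^n / n!`. -/
def xqL (l : Λ) (n : ℕ) : MvPolynomial Λ ℚ :=
  monomial (Finsupp.single l n) ((n.factorial : ℚ)⁻¹)

theorem xqL_zero (l : Λ) : xqL Λ l 0 = 1 := by
  unfold xqL
  rw [Finsupp.single_zero, Nat.factorial_zero, Nat.cast_one, inv_one]
  rfl

theorem xqL_mul (l : Λ) (n m : ℕ) :
    xqL Λ l n * xqL Λ l m = ((n + m).choose n : MvPolynomial Λ ℚ) * xqL Λ l (n + m) := by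
  unfold xqL
  rw [monomial_mul, ← Finsupp.single_add]
  have h1 : ((n + m).choose n : MvPolynomial Λ ℚ) = C ((n + m).choose n : ℚ) := by
    rw [map_natCast]
  rw [h1, C_mul_monomial]
  congr 1
  have h2 := Nat.add_choose_mul_factorial_mul_factorial n m
  rw [← Nat.choose_symm_add] at h2
  have h3 : ((n + m).choose n : ℚ) * n.factorial * m.factorial = (n + m).factorial := by
    exact_mod_cast h2
  have hn : (n.factorial : ℚ) ≠ 0 := Nat.cast_ne_zero.mpr (Nat.factorial_ne_zero n)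
  have hm : (m.factorial : ℚ) ≠ 0 := Nat.cast_ne_zero.mpr (Nat.factorial_ne_zero m)
  have hnm : ((n + m).factorial : ℚ) ≠ 0 := Nat.cast_ne_zero.mpr (Nat.factorial_ne_zero _)
  field_simp
  linear_combination -h3

/-- The product of the factorials of the exponents. -/
def facL (e : Λ →₀ ℕ) : ℕ := e.prod (fun _ k => k.factorial)

theorem facL_pos (e : Λ →₀ ℕ) : 0 < facL Λ e :=
  Finset.prod_pos (fun _ _ => Nat.factorial_pos _)

theorem prod_monomialL {ι : Type*} (s : Finset ι) (g : ι → (Λ →₀ ℕ)) (c : ι → ℚ) :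
    ∏ l ∈ s, monomial (g l) (c l) = monomial (∑ l ∈ s, g l) (∏ l ∈ s, c l) := by
  classical
  induction s using Finset.induction with
  | empty => simp
  | insert a s ha ih =>
    rw [Finset.prod_insert ha, Finset.sum_insert ha, Finset.prod_insert ha, ih, monomial_mul]

/-- The divided monomials in `ℚ[X]`. -/
def bqL (e : Λ →₀ ℕ) : MvPolynomial Λ ℚ := e.prod (fun l k => xqL Λ l k)

theorem bqL_eq (e : Λ →₀ ℕ) : bqL Λ e = monomial e ((facL Λ e : ℚ)⁻¹) := by
  unfold bqL xqL Finsupp.prod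
  rw [prod_monomialL]
  have h1 : ∑ l ∈ e.support, Finsupp.single l (e l) = e := e.sum_single
  have h2 : ∏ l ∈ e.support, ((e l).factorial : ℚ)⁻¹ = (facL Λ e : ℚ)⁻¹ := by
    unfold facL Finsupp.prod
    rw [Nat.cast_prod, Finset.prod_inv_distrib]
  rw [h1, h2]

/-- The subalgebra `ℤ⟨X⟩`. -/
def ZLsub : Subalgebra ℤ (MvPolynomial Λ ℚ) :=
  (Submodule.span ℤ (Set.range (bqL Λ))).toSubalgebra
    (by
      have : (1 : MvPolynomial Λ ℚ) = bqL Λ 0 := (prodL_zero (x := xqL Λ)).symm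
      rw [this]
      exact Submodule.subset_span ⟨0, rfl⟩)
    (by
      intro p q hp hq
      induction hp using Submodule.span_induction with
      | mem p hp =>
        obtain ⟨e, rfl⟩ := hp
        induction hq using Submodule.span_induction with
        | mem q hq =>
          obtain ⟨f, rfl⟩ := hq
          unfold bqL
          rw [prodL_mul' (xqL_zero Λ) (xqL_mul Λ), ← nsmul_eq_mul]
          exact Submodule.smul_of_tower_mem _ _ (Submodule.subset_span ⟨e + f, rfl⟩)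
        | zero => rw [mul_zero]; exact Submodule.zero_mem _
        | add q q' _ _ hq hq' => rw [mul_add]; exact Submodule.add_mem _ hq hq'
        | smul a q _ hq => rw [mul_smul_comm]; exact Submodule.smul_mem _ _ hq
      | zero => rw [zero_mul]; exact Submodule.zero_mem _
      | add p p' _ _ hp hp' => rw [add_mul]; exact Submodule.add_mem _ hp hp'
      | smul a p _ hp => rw [smul_mul_assoc]; exact Submodule.smul_mem _ _ hp)

/-- The type `ℤ⟨X_λ⟩`. -/
abbrev ZL : Type w := ↥(ZLsub Λ)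

theorem mem_ZLsub_iff (q : MvPolynomial Λ ℚ) :
    q ∈ ZLsub Λ ↔ q ∈ Submodule.span ℤ (Set.range (bqL Λ)) := Iff.rfl

/-- `X_l^[n]` in the model. -/
def xzL (l : Λ) (n : ℕ) : ZL Λ :=
  ⟨xqL Λ l n, by
    rw [mem_ZLsub_iff, ← prodL_single (xqL_zero Λ) l n]
    exact Submodule.subset_span ⟨_, rfl⟩⟩

theorem xzL_zero (l : Λ) : xzL Λ l 0 = 1 := Subtype.ext (xqL_zero Λ l)

theorem xzL_mul (l : Λ) (n m : ℕ) :
    xzL Λ l n * xzL Λ l m = ((n + m).choose n : ZL Λ) * xzL Λ l (n + m) := by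
  apply Subtype.ext
  show xqL Λ l n * xqL Λ l m = _
  rw [xqL_mul]
  simp [xzL]

/-- The divided monomials in `ℤ⟨X⟩`. -/
def bzL (e : Λ →₀ ℕ) : ZL Λ := e.prod (fun l k => xzL Λ l k)

theorem coe_bzL (e : Λ →₀ ℕ) : ((bzL Λ e : ZL Λ) : MvPolynomial Λ ℚ) = bqL Λ e := by
  unfold bzL bqL
  show (ZLsub Λ).val (e.prod fun l k => xzL Λ l k) = _
  rw [map_finsuppProd]
  rfl

theorem linearIndependent_bzL : LinearIndependent ℤ (bzL Λ) := by
  classical
  rw [linearIndependent_iff']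
  intro s g hg e he
  have h1 := congrArg (ZLsub Λ).val hg
  rw [map_sum, map_zero] at h1
  have h1' : ∑ f ∈ s, g f • monomial f ((facL Λ f : ℚ)⁻¹) = (0 : MvPolynomial Λ ℚ) := by
    rw [← h1]
    refine Finset.sum_congr rfl (fun f _ => ?_)
    rw [map_zsmul, ← bqL_eq, ← coe_bzL]
    rfl
  have h2 := congrArg (coeff e) h1'
  simp only [coeff_sum, coeff_smul, coeff_monomial, coeff_zero] at h2
  rw [Finset.sum_eq_single e] at h2
  · rw [if_pos rfl, zsmul_eq_mul] at h2
    have hne : ((facL Λ e : ℚ)⁻¹) ≠ 0 :=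
      inv_ne_zero (Nat.cast_ne_zero.mpr (Nat.pos_iff_ne_zero.mp (facL_pos Λ e)))
    have := (mul_eq_zero.mp h2).resolve_right hne
    exact_mod_cast this
  · intro f _ hf
    rw [if_neg hf, smul_zero]
  · intro h; exact absurd he h

theorem span_bzL_aux (q : MvPolynomial Λ ℚ)
    (hq : q ∈ Submodule.span ℤ (Set.range (bqL Λ))) :
    ∀ hq' : q ∈ ZLsub Λ, (⟨q, hq'⟩ : ZL Λ) ∈ Submodule.span ℤ (Set.range (bzL Λ)) := by
  induction hq using Submodule.span_induction with
  | mem q hq =>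
    intro hq'
    obtain ⟨e, rfl⟩ := hq
    refine Submodule.subset_span ⟨e, ?_⟩
    apply Subtype.ext
    exact coe_bzL Λ e
  | zero => intro _; exact Submodule.zero_mem _
  | add p p' hp hp' h h' =>
    intro _
    have : (⟨p + p', Submodule.add_mem _ hp hp'⟩ : ZL Λ) = ⟨p, hp⟩ + ⟨p', hp'⟩ := rfl
    rw [this]
    exact Submodule.add_mem _ (h hp) (h' hp')
  | smul a p hp h =>
    intro _
    have : (⟨a • p, Submodule.smul_mem _ a hp⟩ : ZL Λ) = a • ⟨p, hp⟩ := rfl
    rw [this]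
    exact Submodule.smul_mem _ _ (h hp)

theorem span_bzL : ⊤ ≤ Submodule.span ℤ (Set.range (bzL Λ)) := by
  rintro ⟨q, hq⟩ -
  exact span_bzL_aux Λ q hq hq

/-- The monomial basis of `ℤ⟨X⟩`. -/
def bZL : Module.Basis (Λ →₀ ℕ) ℤ (ZL Λ) :=
  Module.Basis.mk (linearIndependent_bzL Λ) (span_bzL Λ)

theorem bZL_apply (e : Λ →₀ ℕ) : bZL Λ e = e.prod (fun l k => xzL Λ l k) := by
  unfold bZL
  rw [Module.Basis.mk_apply]
  rfl

theorem bZL_apply' (e : Λ →₀ ℕ) : bZL Λ e = bzL Λ e := bZL_apply Λ e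

/-! ### The augmentation ideal and its retraction -/

theorem mem_PpL_of_aug_eq_zero {y : ZL Λ} (hy : augL (bZL Λ) y = 0) : y ∈ PpL (xzL Λ) := by
  classical
  have h1 : y = ∑ e ∈ ((bZL Λ).repr y).support, ((bZL Λ).repr y e) • bZL Λ e := by
    conv_lhs => rw [← (bZL Λ).linearCombination_repr y]
    rw [Finsupp.linearCombination_apply, Finsupp.sum]
  rw [h1]
  refine Submodule.sum_mem _ (fun e he => ?_)
  have he0 : e ≠ 0 := by
    rintro rfl
    rw [Finsupp.mem_support_iff] at he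
    exact he hy
  rw [zsmul_eq_mul]
  exact Ideal.mul_mem_left _ _ (basis_mem_PpL (bZL Λ) (bZL_apply Λ) e he0)

theorem mem_PpL_iff (y : ZL Λ) : y ∈ PpL (xzL Λ) ↔ augL (bZL Λ) y = 0 :=
  ⟨fun hy => augL_eq_zero_of_mem (bZL Λ) (xzL_zero Λ) (xzL_mul Λ) (bZL_apply Λ) hy,
    mem_PpL_of_aug_eq_zero Λ⟩

theorem augL_one : augL (bZL Λ) (1 : ZL Λ) = 1 := by
  classical
  have : (1 : ZL Λ) = bZL Λ 0 := by rw [bZL_apply]; exact prodL_zero.symm
  rw [this, augL_basis, if_pos rfl]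

/-- The `ℤ`-linear retraction `ℤ⟨X⟩ → ℤ⟨X⟩₊`. -/
def retL : ZL Λ →+ ↥(PpL (xzL Λ)) where
  toFun y := ⟨y - (augL (bZL Λ) y) • (1 : ZL Λ), by
    rw [mem_PpL_iff, map_sub, map_zsmul, augL_one, smul_eq_mul, mul_one, sub_self]⟩
  map_zero' := by
    apply Subtype.ext
    simp
  map_add' y y' := by
    apply Subtype.ext
    simp only [map_add, add_smul, Submodule.coe_add]
    abel

theorem retL_of_mem {y : ZL Λ} (hy : y ∈ PpL (xzL Λ)) : retL Λ y = ⟨y, hy⟩ := by
  apply Subtype.ext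
  show y - (augL (bZL Λ) y) • (1 : ZL Λ) = y
  rw [(mem_PpL_iff Λ y).mp hy, zero_smul, sub_zero]

/-! ### The divided power structure on the augmentation ideal -/

/-- The inclusion `ℤ⟨X⟩ → ℚ[X]`. -/
def incL : ZL Λ →+* MvPolynomial Λ ℚ := (ZLsub Λ).val.toRingHom

theorem incL_injective : Function.Injective (incL Λ) := Subtype.val_injective

theorem incL_xzL (l : Λ) (n : ℕ) : incL Λ (xzL Λ l n) = xqL Λ l n := rfl

open Classical in
/-- The rational divided powers on the extension of the augmentation ideal. -/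
def hQL : DividedPowers ((PpL (xzL Λ)).map (incL Λ)) :=
  DividedPowers.RatAlgebra.dividedPowers _

theorem hQL_dpow {n : ℕ} {q : MvPolynomial Λ ℚ} (hq : q ∈ (PpL (xzL Λ)).map (incL Λ)) :
    (n.factorial : MvPolynomial Λ ℚ) * (hQL Λ).dpow n q = q ^ n :=
  (hQL Λ).factorial_mul_dpow_eq_pow hq

theorem fact_ne_zero (n : ℕ) : (n.factorial : MvPolynomial Λ ℚ) ≠ 0 :=
  Nat.cast_ne_zero.mpr (Nat.factorial_ne_zero n)

theorem hQL_gen (l : Λ) {m : ℕ} (hm : m ≠ 0) (n : ℕ) :
    (hQL Λ).dpow n (xqL Λ l m) = (Nat.uniformBell n m : MvPolynomial Λ ℚ) * xqL Λ l (n * m) := by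
  have hmem : xqL Λ l m ∈ (PpL (xzL Λ)).map (incL Λ) := by
    rw [← incL_xzL]
    exact Ideal.mem_map_of_mem _ (Ideal.subset_span ⟨l, m, Nat.one_le_iff_ne_zero.mpr hm, rfl⟩)
  apply mul_left_cancel₀ (fact_ne_zero Λ n)
  rw [hQL_dpow Λ hmem]
  unfold xqL
  rw [monomial_pow, Finsupp.smul_single, smul_eq_mul]
  have h1 : (n.factorial : MvPolynomial Λ ℚ) = C (n.factorial : ℚ) := by rw [map_natCast]
  have h2 : (Nat.uniformBell n m : MvPolynomial Λ ℚ) = C (Nat.uniformBell n m : ℚ) := by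
    rw [map_natCast]
  rw [h1, h2, C_mul_monomial, C_mul_monomial]
  congr 1
  have h3 := Nat.uniformBell_mul_eq n hm
  have h3' : (Nat.uniformBell n m : ℚ) * (m.factorial : ℚ) ^ n * n.factorial =
      ((n * m).factorial : ℚ) := by exact_mod_cast h3
  have hm' : (m.factorial : ℚ) ≠ 0 := Nat.cast_ne_zero.mpr (Nat.factorial_ne_zero m)
  have hnm : ((n * m).factorial : ℚ) ≠ 0 := Nat.cast_ne_zero.mpr (Nat.factorial_ne_zero _)
  rw [inv_pow]
  field_simp
  linear_combination -h3'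

theorem epsL_aux {y : ZL Λ} (hy : y ∈ PpL (xzL Λ)) :
    ∀ n : ℕ, ∃ z : ZL Λ, (n ≠ 0 → z ∈ PpL (xzL Λ)) ∧ incL Λ z = (hQL Λ).dpow n (incL Λ y) := by
  unfold PpL at hy
  induction hy using Submodule.span_induction with
  | mem y hy =>
    obtain ⟨l, m, hm, rfl⟩ := hy
    intro n
    refine ⟨(Nat.uniformBell n m : ZL Λ) * xzL Λ l (n * m), fun hn => ?_, ?_⟩
    · apply Ideal.mul_mem_left
      refine Ideal.subset_span ⟨l, n * m, ?_, rfl⟩
      exact Nat.one_le_iff_ne_zero.mpr (Nat.mul_ne_zero hn (by omega))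
    · rw [map_mul, map_natCast, incL_xzL, incL_xzL, hQL_gen Λ l (by omega)]
  | zero =>
    intro n
    rcases Nat.eq_zero_or_pos n with rfl | hn
    · refine ⟨1, fun h => (h rfl).elim, ?_⟩
      rw [map_one, map_zero, (hQL Λ).dpow_zero (Ideal.zero_mem _)]
    · refine ⟨0, fun _ => Ideal.zero_mem _, ?_⟩
      rw [map_zero, (hQL Λ).dpow_eval_zero hn.ne']
  | add y y' hy hy' ih ih' =>
    intro n
    choose z hz1 hz2 using ih
    choose z' hz1' hz2' using ih'
    have hyP : y ∈ PpL (xzL Λ) := hy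
    have hyP' : y' ∈ PpL (xzL Λ) := hy'
    refine ⟨∑ k ∈ antidiagonal n, z k.1 * z' k.2, fun hn => ?_, ?_⟩
    · refine Submodule.sum_mem _ (fun k hk => ?_)
      rw [HasAntidiagonal.mem_antidiagonal] at hk
      by_cases hk1 : k.1 = 0
      · exact Ideal.mul_mem_left _ _ (hz1' k.2 (by omega))
      · exact Ideal.mul_mem_right _ _ (hz1 k.1 hk1)
    · rw [map_sum, map_add, (hQL Λ).dpow_add (Ideal.mem_map_of_mem _ hyP)
        (Ideal.mem_map_of_mem _ hyP')]
      refine Finset.sum_congr rfl (fun k _ => ?_)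
      rw [map_mul, hz2, hz2']
  | smul a y hy ih =>
    intro n
    obtain ⟨z, hz1, hz2⟩ := ih n
    have hyP : y ∈ PpL (xzL Λ) := hy
    refine ⟨a ^ n * z, fun hn => Ideal.mul_mem_left _ _ (hz1 hn), ?_⟩
    rw [smul_eq_mul, map_mul, map_pow, hz2, map_mul, (hQL Λ).dpow_mul (Ideal.mem_map_of_mem _ hyP)]

/-- The divided power structure on the augmentation ideal of `ℤ⟨X⟩`. -/
def epsL : DividedPowers (PpL (xzL Λ)) :=
  DividedPowers.ofInjective (PpL (xzL Λ)) _ (incL Λ) (incL_injective Λ) (hQL Λ) rfl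
    (fun n {y} hy => by
      obtain ⟨z, hz1, hz2⟩ := epsL_aux Λ hy n
      exact ⟨z, hz1, hz2⟩)

theorem incL_epsL {n : ℕ} {y : ZL Λ} (hy : y ∈ PpL (xzL Λ)) :
    incL Λ ((epsL Λ).dpow n y) = (hQL Λ).dpow n (incL Λ y) := by
  apply mul_left_cancel₀ (fact_ne_zero Λ n)
  rw [hQL_dpow Λ (Ideal.mem_map_of_mem _ hy), ← map_natCast (incL Λ), ← map_mul,
    (epsL Λ).factorial_mul_dpow_eq_pow hy, map_pow]

theorem xzL_mem (l : Λ) {m : ℕ} (hm : m ≠ 0) : xzL Λ l m ∈ PpL (xzL Λ) :=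
  Ideal.subset_span ⟨l, m, Nat.one_le_iff_ne_zero.mpr hm, rfl⟩

theorem epsL_gen (l : Λ) {m : ℕ} (hm : m ≠ 0) (n : ℕ) :
    (epsL Λ).dpow n (xzL Λ l m) = (Nat.uniformBell n m : ZL Λ) * xzL Λ l (n * m) := by
  apply incL_injective
  rw [incL_epsL Λ (xzL_mem Λ l hm), incL_xzL, hQL_gen Λ l hm, map_mul, map_natCast, incL_xzL]

/-! ### Ring maps out of `ℤ⟨X⟩` -/

section Lift

variable {Λ} {C : Type v} [CommRing C] (κ : Λ → ℕ → C)

/-- The linear map `ℤ⟨X⟩ → C` attached to a family. -/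
def liftZL0 : ZL Λ →ₗ[ℤ] C := (bZL Λ).constr ℤ (fun e => e.prod (fun l k => κ l k))

theorem liftZL0_basis (e : Λ →₀ ℕ) :
    liftZL0 κ (e.prod (fun l k => xzL Λ l k)) = e.prod (fun l k => κ l k) := by
  unfold liftZL0
  rw [← bZL_apply, Module.Basis.constr_basis]

variable {κ} (hκ0 : ∀ l, κ l 0 = 1)
  (hκmul : ∀ l n m, κ l n * κ l m = ((n + m).choose n : C) * κ l (n + m))

include hκ0 hκmul

theorem liftZL0_mul (p q : ZL Λ) : liftZL0 κ (p * q) = liftZL0 κ p * liftZL0 κ q := by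
  have key : (LinearMap.mul ℤ (ZL Λ)).compr₂ (liftZL0 κ) =
      (LinearMap.mul ℤ C).compl₁₂ (liftZL0 κ) (liftZL0 κ) := by
    refine (bZL Λ).ext fun e => (bZL Λ).ext fun f => ?_
    simp only [LinearMap.compr₂_apply, LinearMap.mul_apply', LinearMap.compl₁₂_apply]
    rw [bZL_apply, bZL_apply, prodL_mul' (xzL_zero Λ) (xzL_mul Λ), ← nsmul_eq_mul, map_nsmul,
      liftZL0_basis, liftZL0_basis, liftZL0_basis, prodL_mul' hκ0 hκmul, nsmul_eq_mul]
  have := LinearMap.congr_fun (LinearMap.congr_fun key p) q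
  simpa using this

omit hκ0 hκmul in
theorem liftZL0_one : liftZL0 κ (1 : ZL Λ) = 1 := by
  have : (1 : ZL Λ) = (0 : Λ →₀ ℕ).prod (fun l k => xzL Λ l k) := prodL_zero.symm
  rw [this, liftZL0_basis, prodL_zero]

/-- The ring map `ℤ⟨X⟩ → C` attached to a divided power family. -/
def liftZL : ZL Λ →ₐ[ℤ] C :=
  AlgHom.ofLinearMap (liftZL0 κ) liftZL0_one (liftZL0_mul hκ0 hκmul)

theorem liftZL_xzL (l : Λ) (n : ℕ) : liftZL hκ0 hκmul (xzL Λ l n) = κ l n := by
  show liftZL0 κ (xzL Λ l n) = _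
  rw [← prodL_single (xzL_zero Λ) l n, liftZL0_basis, prodL_single hκ0]

end Lift

/-- Ring maps out of `ℤ⟨X⟩` are determined by their values on the `X_l^[n]`. -/
theorem ringHom_ext_ZL {C : Type v} [CommRing C] {φ ψ : ZL Λ →+* C}
    (h : ∀ l n, φ (xzL Λ l n) = ψ (xzL Λ l n)) : φ = ψ := by
  have key : φ.toAddMonoidHom.toIntLinearMap = ψ.toAddMonoidHom.toIntLinearMap := by
    refine (bZL Λ).ext fun e => ?_
    show φ (bZL Λ e) = ψ (bZL Λ e)
    rw [bZL_apply, map_finsuppProd, map_finsuppProd]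
    exact Finsupp.prod_congr (fun l _ => h l _)
  ext y
  exact LinearMap.congr_fun key y

end

end Groth.Agent.Lib.Helper8.WG
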