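import Mathlib.RingTheory.DividedPowers.RatAlgebra
import Mathlib.RingTheory.DividedPowers.DPMorphism
import Mathlib.RingTheory.TensorProduct.Free
import Mathlib.RingTheory.TensorProduct.Maps
import Mathlib.RingTheory.MvPolynomial.Basic
import Mathlib.Tactic.LinearCombination
import Mathlib.Tactic.Ring
import Groth.Agent.Lib.Helper8.WG17

set_option backward.isDefEq.respectTransparency.types false
set_option synthInstance.maxHeartbeats 400000
set_option autoImplicit false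
set_option linter.unusedSectionVars false
set_option linter.style.haveILetI false
set_option linter.unusedVariables false

/-!
# The free divided power algebra over a divided power ring on ring generators and
divided power generators
-/

namespace Groth.Agent.Lib.Helper8.WG

noncomputable section

open Finset TensorProduct

universe u w

section Tensor

variable (R : Type u) [CommRing R] (Λ : Type w)

/-- `X_l^[n]` in `R ⊗ ℤ⟨X⟩`. -/
def xdL (l : Λ) (n : ℕ) : R ⊗[ℤ] ZL Λ := (1 : R) ⊗ₜ[ℤ] xzL Λ l n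

theorem xdL_eq (l : Λ) (n : ℕ) :
    xdL R Λ l n = (Algebra.TensorProduct.includeRight : ZL Λ →ₐ[ℤ] R ⊗[ℤ] ZL Λ) (xzL Λ l n) := rfl

theorem xdL_zero (l : Λ) : xdL R Λ l 0 = 1 := by
  rw [xdL_eq, xzL_zero, map_one]

theorem xdL_mul (l : Λ) (n m : ℕ) : xdL R Λ l n * xdL R Λ l m =
    ((n + m).choose n : R ⊗[ℤ] ZL Λ) * xdL R Λ l (n + m) := by
  rw [xdL_eq, xdL_eq, ← map_mul, xzL_mul, map_mul, map_natCast, xdL_eq]

/-- The monomial basis of `R ⊗ ℤ⟨X⟩`. -/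
def bDL : Module.Basis (Λ →₀ ℕ) R (R ⊗[ℤ] ZL Λ) := Algebra.TensorProduct.basis R (bZL Λ)

theorem bDL_apply (e : Λ →₀ ℕ) : bDL R Λ e = e.prod (fun l k => xdL R Λ l k) := by
  unfold bDL
  rw [Algebra.TensorProduct.basis_apply, bZL_apply, ← Algebra.TensorProduct.includeRight_apply,
    map_finsuppProd]
  rfl

theorem xdL_mem (l : Λ) {m : ℕ} (hm : m ≠ 0) : xdL R Λ l m ∈ PpL (xdL R Λ) :=
  Ideal.subset_span ⟨l, m, Nat.one_le_iff_ne_zero.mpr hm, rfl⟩

/-- The divided power structure on the augmentation ideal of `R ⊗ ℤ⟨X⟩`. -/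
theorem exists_deltaPlus : ∃ δ : DividedPowers (PpL (xdL R Λ)), ∀ (l : Λ) (n m : ℕ), m ≠ 0 →
    δ.dpow n (xdL R Λ l m) = (Nat.uniformBell n m : R ⊗[ℤ] ZL Λ) * xdL R Λ l (n * m) := by
  letI : Algebra (ZL Λ) (R ⊗[ℤ] ZL Λ) := Algebra.TensorProduct.rightAlgebra
  have halg : ∀ z : ZL Λ, algebraMap (ZL Λ) (R ⊗[ℤ] ZL Λ) z = (1 : R) ⊗ₜ[ℤ] z := fun z => rfl
  have hsmul : ∀ (z z' : ZL Λ) (a : R), z • (a ⊗ₜ[ℤ] z' : R ⊗[ℤ] ZL Λ) = a ⊗ₜ[ℤ] (z * z') := by
    intro z z' a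
    have h0 : z • (a ⊗ₜ[ℤ] z' : R ⊗[ℤ] ZL Λ) =
        algebraMap (ZL Λ) (R ⊗[ℤ] ZL Λ) z * (a ⊗ₜ[ℤ] z') := Algebra.smul_def _ _
    rw [h0, halg, Algebra.TensorProduct.tmul_mul_tmul, one_mul]
  -- the retraction
  let f : R →+ ZL Λ →+ (R ⊗[ℤ] ZL Λ) ⊗[ZL Λ] ↥(PpL (xzL Λ)) :=
    { toFun := fun a =>
        { toFun := fun z => (a ⊗ₜ[ℤ] (1 : ZL Λ)) ⊗ₜ[ZL Λ] (retL Λ z)
          map_zero' := by rw [map_zero, TensorProduct.tmul_zero]
          map_add' := fun z z' => by rw [map_add, TensorProduct.tmul_add] }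
      map_zero' := by
        refine AddMonoidHom.ext fun z => ?_
        show ((0 : R) ⊗ₜ[ℤ] (1 : ZL Λ)) ⊗ₜ[ZL Λ] (retL Λ z) = 0
        rw [TensorProduct.zero_tmul, TensorProduct.zero_tmul]
      map_add' := fun a a' => by
        refine AddMonoidHom.ext fun z => ?_
        show ((a + a') ⊗ₜ[ℤ] (1 : ZL Λ)) ⊗ₜ[ZL Λ] (retL Λ z) =
          (a ⊗ₜ[ℤ] (1 : ZL Λ)) ⊗ₜ[ZL Λ] (retL Λ z) + (a' ⊗ₜ[ℤ] (1 : ZL Λ)) ⊗ₜ[ZL Λ] (retL Λ z)
        rw [TensorProduct.add_tmul, TensorProduct.add_tmul] }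
  let ρ : R ⊗[ℤ] ZL Λ →+ (R ⊗[ℤ] ZL Λ) ⊗[ZL Λ] ↥(PpL (xzL Λ)) :=
    TensorProduct.liftAddHom f (by
      intro k a z
      rw [map_zsmul, map_zsmul]
      rfl)
  have hρ_tmul : ∀ (a : R) (z : ZL Λ),
      ρ (a ⊗ₜ[ℤ] z) = (a ⊗ₜ[ℤ] (1 : ZL Λ)) ⊗ₜ[ZL Λ] (retL Λ z) := fun a z => rfl
  have hρ : ∀ t : (R ⊗[ℤ] ZL Λ) ⊗[ZL Λ] ↥(PpL (xzL Λ)),
      ρ (mu (A := ZL Λ) (B := R ⊗[ℤ] ZL Λ) (I := PpL (xzL Λ)) t) = t := by
    intro t
    induction t using TensorProduct.induction_on with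
    | zero => rw [map_zero, map_zero]
    | add t t' h h' => rw [map_add, map_add, h, h']
    | tmul u i =>
      induction u using TensorProduct.induction_on with
      | zero => rw [TensorProduct.zero_tmul, map_zero, map_zero]
      | add u u' h h' => rw [TensorProduct.add_tmul, map_add, map_add, h, h']
      | tmul a z =>
        rw [mu_tmul, hsmul, hρ_tmul, retL_of_mem Λ (Ideal.mul_mem_right _ _ i.2)]
        have e2 : (⟨(i : ZL Λ) * z, Ideal.mul_mem_right _ _ i.2⟩ : ↥(PpL (xzL Λ))) = z • i := by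
          apply Subtype.ext
          show (i : ZL Λ) * z = z * (i : ZL Λ)
          rw [mul_comm]
        rw [e2, ← TensorProduct.smul_tmul, hsmul, mul_one]
  have hinj : Function.Injective (mu (A := ZL Λ) (B := R ⊗[ℤ] ZL Λ) (I := PpL (xzL Λ))) :=
    Function.LeftInverse.injective hρ
  obtain ⟨δ, hδ⟩ := exists_extension_of_injective (epsL Λ) hinj
  have hideal : (PpL (xzL Λ)).map (algebraMap (ZL Λ) (R ⊗[ℤ] ZL Λ)) = PpL (xdL R Λ) := by
    unfold PpL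
    rw [Ideal.map_span]
    congr 1
    ext y
    constructor
    · rintro ⟨_, ⟨l, n, hn, rfl⟩, rfl⟩
      exact ⟨l, n, hn, rfl⟩
    · rintro ⟨l, n, hn, rfl⟩
      exact ⟨xzL Λ l n, ⟨l, n, hn, rfl⟩, rfl⟩
  have key : ∀ (K : Ideal (R ⊗[ℤ] ZL Λ))
      (hK : (PpL (xzL Λ)).map (algebraMap (ZL Λ) (R ⊗[ℤ] ZL Λ)) = K),
      ∃ δ' : DividedPowers K, ∀ n y, δ'.dpow n y = δ.dpow n y := by
    rintro K rfl
    exact ⟨δ, fun _ _ => rfl⟩
  obtain ⟨δ', hδ'⟩ := key _ hideal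
  refine ⟨δ', fun l n m hm => ?_⟩
  have e1 : xdL R Λ l m = algebraMap (ZL Λ) (R ⊗[ℤ] ZL Λ) (xzL Λ l m) := rfl
  rw [hδ', e1, hδ.dpow_comp _ (xzL_mem Λ l hm), epsL_gen Λ l hm, map_mul, map_natCast]
  rfl

end Tensor

section Free

variable {A : Type u} [CommRing A] {I : Ideal A} (γ : DividedPowers I) (Y Λ : Type u)

/-- The free divided power algebra over `(A, I, γ)` on ring generators `Y` and divided power
generators `Λ`. -/
theorem exists_free_dp :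
    ∃ (Q : Type u) (_ : CommRing Q) (_ : Algebra A Q) (K : Ideal Q) (δ : DividedPowers K)
      (y : Y → Q) (x : Λ → Q), (∀ l, x l ∈ K) ∧ γ.IsDPMorphism δ (algebraMap A Q) ∧
      ∀ (C : Type u) [CommRing C] [Algebra A C] (KC : Ideal C) (ε : DividedPowers KC),
        γ.IsDPMorphism ε (algebraMap A C) → ∀ (u : Y → C) (v : Λ → C), (∀ l, v l ∈ KC) →
          ∃ χ : Q →ₐ[A] C, (∀ b, χ (y b) = u b) ∧ (∀ l, χ (x l) = v l) ∧
            δ.IsDPMorphism ε χ.toRingHom ∧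
            ∀ χ' : Q →+* C, (∀ a, χ' (algebraMap A Q a) = algebraMap A C a) →
              (∀ b, χ' (y b) = u b) → (∀ l, χ' (x l) = v l) → δ.IsDPMorphism ε χ' →
              χ' = χ.toRingHom := by
  -- the polynomial ring and the extension of `γ`
  obtain ⟨δ₀, hδ₀⟩ := exists_extension_of_injective γ
    (mu_injective_of_flat (A := A) (B := MvPolynomial Y A) (I := I))
  obtain ⟨δplus, hplus⟩ := exists_deltaPlus (MvPolynomial Y A) Λ
  obtain ⟨δ, ⟨hδ1, hδ2⟩, -⟩ := existsUnique_compatible (bDL (MvPolynomial Y A) Λ)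
    (xdL_zero (MvPolynomial Y A) Λ) (xdL_mul (MvPolynomial Y A) Λ) (bDL_apply (MvPolynomial Y A) Λ)
    δ₀ δplus
  have hxmem : ∀ (l : Λ) (n : ℕ), n ≠ 0 →
      xdL (MvPolynomial Y A) Λ l n ∈ PpL (xdL (MvPolynomial Y A) Λ) :=
    fun l n hn => xdL_mem _ Λ l hn
  have halg : algebraMap A (MvPolynomial Y A ⊗[ℤ] ZL Λ) =
      (algebraMap (MvPolynomial Y A) (MvPolynomial Y A ⊗[ℤ] ZL Λ)).comp
        (algebraMap A (MvPolynomial Y A)) := IsScalarTower.algebraMap_eq _ _ _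
  have hmorA : γ.IsDPMorphism δ (algebraMap A (MvPolynomial Y A ⊗[ℤ] ZL Λ)) := by
    rw [halg]
    exact hδ1.comp δ hδ₀
  have hS : (I.map (algebraMap A (MvPolynomial Y A))).map
        (algebraMap (MvPolynomial Y A) (MvPolynomial Y A ⊗[ℤ] ZL Λ)) ⊔
        PpL (xdL (MvPolynomial Y A) Λ) =
      Ideal.span ((algebraMap A (MvPolynomial Y A ⊗[ℤ] ZL Λ)) '' (I : Set A) ∪
        {y | ∃ (l : Λ) (n : ℕ), 1 ≤ n ∧ y = xdL (MvPolynomial Y A) Λ l n}) := by
    rw [Ideal.span_union, Ideal.map_map, ← halg]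
    rfl
  have hx1 : ∀ (l : Λ) (n : ℕ), xdL (MvPolynomial Y A) Λ l n =
      δ.dpow n (xdL (MvPolynomial Y A) Λ l 1) := by
    intro l n
    rw [hδ2 n _ (hxmem l 1 one_ne_zero), hplus l n 1 one_ne_zero, Nat.uniformBell_one_right,
      Nat.cast_one, one_mul, mul_one]
  refine ⟨MvPolynomial Y A ⊗[ℤ] ZL Λ, inferInstance, inferInstance, _, δ,
    fun b => (MvPolynomial.X b : MvPolynomial Y A) ⊗ₜ[ℤ] (1 : ZL Λ),
    fun l => xdL (MvPolynomial Y A) Λ l 1,
    fun l => Ideal.mem_sup_right (hxmem l 1 one_ne_zero), hmorA, ?_⟩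
  intro C _ _ KC ε hmor u v hv
  have hκ0 : ∀ l, (fun (l : Λ) (n : ℕ) => ε.dpow n (v l)) l 0 = 1 := fun l => ε.dpow_zero (hv l)
  have hκmul : ∀ l n m, (fun (l : Λ) (n : ℕ) => ε.dpow n (v l)) l n *
      (fun (l : Λ) (n : ℕ) => ε.dpow n (v l)) l m =
        ((n + m).choose n : C) * (fun (l : Λ) (n : ℕ) => ε.dpow n (v l)) l (n + m) :=
    fun l _ _ => ε.mul_dpow (hv l)
  let χ : MvPolynomial Y A ⊗[ℤ] ZL Λ →ₐ[A] C :=
    Algebra.TensorProduct.lift (MvPolynomial.aeval u : MvPolynomial Y A →ₐ[A] C)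
      (liftZL hκ0 hκmul) (fun _ _ => Commute.all _ _)
  have hχx : ∀ (l : Λ) (n : ℕ), χ (xdL (MvPolynomial Y A) Λ l n) = ε.dpow n (v l) := by
    intro l n
    show Algebra.TensorProduct.lift _ _ _ ((1 : MvPolynomial Y A) ⊗ₜ[ℤ] xzL Λ l n) = _
    rw [Algebra.TensorProduct.lift_tmul, map_one, one_mul, liftZL_xzL]
  have hχy : ∀ b : Y, χ ((MvPolynomial.X b : MvPolynomial Y A) ⊗ₜ[ℤ] (1 : ZL Λ)) = u b := by
    intro b
    show Algebra.TensorProduct.lift _ _ _ _ = _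
    rw [Algebra.TensorProduct.lift_tmul, map_one, mul_one, MvPolynomial.aeval_X]
  refine ⟨χ, hχy, fun l => by rw [hχx, ε.dpow_one (hv l)], ?_, ?_⟩
  · refine DividedPowers.IsDPMorphism.on_span δ ε hS ?_ ?_
    · rintro s (⟨a, ha, rfl⟩ | ⟨l, n, hn, rfl⟩)
      · show χ (algebraMap A _ a) ∈ KC
        rw [AlgHom.commutes]
        exact hmor.ideal_comp (Ideal.mem_map_of_mem _ ha)
      · show χ (xdL (MvPolynomial Y A) Λ l n) ∈ KC
        rw [hχx]
        exact ε.dpow_mem (by omega) (hv l)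
    · rintro n s (⟨a, ha, rfl⟩ | ⟨l, m, hm, rfl⟩)
      · show χ (δ.dpow n (algebraMap A _ a)) = ε.dpow n (χ (algebraMap A _ a))
        rw [hmorA.dpow_comp a ha, AlgHom.commutes, AlgHom.commutes, hmor.dpow_comp a ha]
      · show χ (δ.dpow n (xdL (MvPolynomial Y A) Λ l m)) =
          ε.dpow n (χ (xdL (MvPolynomial Y A) Λ l m))
        have hm' : m ≠ 0 := by omega
        rw [hδ2 n _ (hxmem l m hm'), hplus l n m hm', map_mul, map_natCast, hχx, hχx,
          ε.dpow_comp hm' (hv l)]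
  · intro χ' hA hy hx hdp
    have hx' : ∀ (l : Λ) (n : ℕ), χ' (xdL (MvPolynomial Y A) Λ l n) = ε.dpow n (v l) := by
      intro l n
      rw [hx1 l n, ← hdp.dpow_comp (n := n) _ (Ideal.mem_sup_right (hxmem l 1 one_ne_zero)), hx l]
    -- the two restrictions
    have h1 : χ'.comp (Algebra.TensorProduct.includeLeftRingHom :
          MvPolynomial Y A →+* MvPolynomial Y A ⊗[ℤ] ZL Λ) =
        χ.toRingHom.comp Algebra.TensorProduct.includeLeftRingHom := by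
      refine MvPolynomial.ringHom_ext (fun a => ?_) (fun b => ?_)
      · have e : (Algebra.TensorProduct.includeLeftRingHom :
            MvPolynomial Y A →+* MvPolynomial Y A ⊗[ℤ] ZL Λ) (MvPolynomial.C a) =
            algebraMap A (MvPolynomial Y A ⊗[ℤ] ZL Λ) a := rfl
        rw [RingHom.comp_apply, RingHom.comp_apply, e, hA]
        exact (χ.commutes a).symm
      · rw [RingHom.comp_apply, RingHom.comp_apply]
        show χ' ((MvPolynomial.X b : MvPolynomial Y A) ⊗ₜ[ℤ] (1 : ZL Λ)) =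
          χ ((MvPolynomial.X b : MvPolynomial Y A) ⊗ₜ[ℤ] (1 : ZL Λ))
        rw [hy, hχy]
    have h2 : χ'.comp (Algebra.TensorProduct.includeRight :
          ZL Λ →ₐ[ℤ] MvPolynomial Y A ⊗[ℤ] ZL Λ).toRingHom =
        χ.toRingHom.comp (Algebra.TensorProduct.includeRight :
          ZL Λ →ₐ[ℤ] MvPolynomial Y A ⊗[ℤ] ZL Λ).toRingHom := by
      refine ringHom_ext_ZL Λ (fun l n => ?_)
      show χ' (xdL (MvPolynomial Y A) Λ l n) = χ (xdL (MvPolynomial Y A) Λ l n)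
      rw [hx', hχx]
    refine RingHom.ext fun q => ?_
    induction q using TensorProduct.induction_on with
    | zero => rw [map_zero, map_zero]
    | add q q' h h' => rw [map_add, map_add, h, h']
    | tmul r z =>
      have e : (r ⊗ₜ[ℤ] z : MvPolynomial Y A ⊗[ℤ] ZL Λ) =
          (r ⊗ₜ[ℤ] (1 : ZL Λ)) * ((1 : MvPolynomial Y A) ⊗ₜ[ℤ] z) := by
        rw [Algebra.TensorProduct.tmul_mul_tmul, mul_one, one_mul]
      rw [e, map_mul, map_mul]
      have e1 := RingHom.congr_fun h1 r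
      have e2 := RingHom.congr_fun h2 z
      rw [RingHom.comp_apply, RingHom.comp_apply] at e1 e2
      exact congrArg₂ (· * ·) e1 e2

end Free

end

end Groth.Agent.Lib.Helper8.WG
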