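import Mathlib.RingTheory.DividedPowers.RatAlgebra
import Mathlib.RingTheory.DividedPowers.DPMorphism
import Mathlib.RingTheory.DividedPowers.SubDPIdeal
import Mathlib.Tactic.LinearCombination
import Mathlib.Tactic.Ring
import Groth.Agent.Lib.Helper8.WG18

set_option backward.isDefEq.respectTransparency.types false
set_option synthInstance.maxHeartbeats 400000
set_option autoImplicit false
set_option linter.unusedSectionVars false
set_option linter.style.haveILetI false
set_option linter.unusedVariables false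

/-!
# Divided power envelopes
-/

namespace Groth.Agent.Lib.Helper8.WG

noncomputable section

open Finset TensorProduct

universe u

section Closure

variable {Q : Type u} [CommRing Q] {K : Ideal Q} (δ : DividedPowers K) (𝔞 : Ideal Q)

/-- The smallest ideal containing `𝔞` whose intersection with `K` is a sub-dp-ideal. -/
def dpClosure : Ideal Q := sInf {𝔟 : Ideal Q | 𝔞 ≤ 𝔟 ∧ δ.IsSubDPIdeal (𝔟 ⊓ K)}

theorem le_dpClosure : 𝔞 ≤ dpClosure δ 𝔞 := le_sInf (fun 𝔟 h => h.1)

theorem isSubDPIdeal_dpClosure : δ.IsSubDPIdeal (dpClosure δ 𝔞 ⊓ K) where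
  isSubideal := inf_le_right
  dpow_mem n hn j hj := by
    have hj' := Ideal.mem_inf.mp hj
    refine Ideal.mem_inf.mpr ⟨?_, δ.dpow_mem hn hj'.2⟩
    unfold dpClosure
    rw [Submodule.mem_sInf]
    intro 𝔟 h𝔟
    have h1 : j ∈ 𝔟 := by
      have := hj'.1
      unfold dpClosure at this
      rw [Submodule.mem_sInf] at this
      exact this 𝔟 h𝔟
    have h2 : j ∈ 𝔟 ⊓ K := Ideal.mem_inf.mpr ⟨h1, hj'.2⟩
    exact (Ideal.mem_inf.mp (h𝔟.2.dpow_mem n hn h2)).1

theorem dpClosure_le_ker {C : Type u} [CommRing C] {KC : Ideal C} (ε : DividedPowers KC)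
    {χ : Q →+* C} (hχ : δ.IsDPMorphism ε χ) (h : 𝔞 ≤ RingHom.ker χ) :
    dpClosure δ 𝔞 ≤ RingHom.ker χ :=
  sInf_le ⟨h, DividedPowers.isSubDPIdeal_ker δ ε hχ⟩

theorem exists_factor {C : Type u} [CommRing C] {KC : Ideal C} (ε : DividedPowers KC)
    {χ : Q →+* C} (hχ : δ.IsDPMorphism ε χ) (h : 𝔞 ≤ RingHom.ker χ) :
    ∃ χbar : Q ⧸ dpClosure δ 𝔞 →+* C, χbar.comp (Ideal.Quotient.mk _) = χ ∧
      (DividedPowers.Quotient.dividedPowers δ (isSubDPIdeal_dpClosure δ 𝔞)).IsDPMorphism ε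
        χbar := by
  have hker : ∀ a ∈ dpClosure δ 𝔞, χ a = 0 := fun a ha =>
    (RingHom.mem_ker).mp (dpClosure_le_ker δ 𝔞 ε hχ h ha)
  refine ⟨Ideal.Quotient.lift _ χ hker, Ideal.Quotient.lift_comp_mk _ χ hker, ?_, ?_⟩
  · rw [Ideal.map_map, Ideal.Quotient.lift_comp_mk]
    exact hχ.ideal_comp
  · intro n a ha
    obtain ⟨k, hk, rfl⟩ :=
      (Ideal.mem_map_iff_of_surjective _ Ideal.Quotient.mk_surjective).mp ha
    rw [DividedPowers.Quotient.dpow_apply δ _ hk, Ideal.Quotient.lift_mk, Ideal.Quotient.lift_mk]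
    exact hχ.dpow_comp k hk

end Closure

/-- The divided power envelope. -/
theorem exists_dividedPowerEnvelope {A B : Type u} [CommRing A] [CommRing B] [Algebra A B]
    {I : Ideal A} (γ : DividedPowers I) (J : Ideal B) :
    ∃ (D : Type u) (_ : CommRing D) (_ : Algebra B D) (JD : Ideal D) (γD : DividedPowers JD),
      J.map (algebraMap B D) ≤ JD ∧
      γ.IsDPMorphism γD ((algebraMap B D).comp (algebraMap A B)) ∧
      ∀ (C : Type u) [CommRing C] [Algebra A C] (K : Ideal C) (δ : DividedPowers K),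
        γ.IsDPMorphism δ (algebraMap A C) →
        ∀ ψ : B →ₐ[A] C, J.map ψ ≤ K →
          ∃! χ : D →+* C, χ.comp (algebraMap B D) = ψ ∧ γD.IsDPMorphism δ χ := by
  obtain ⟨Q, _, _, K, δ, y, x, hxK, hmorA, hUP⟩ := exists_free_dp γ B ↥J
  let S : Set Q := {q | ∃ b b' : B, q = y (b + b') - y b - y b'} ∪
    {q | ∃ b b' : B, q = y (b * b') - y b * y b'} ∪
    {q | ∃ a : A, q = y (algebraMap A B a) - algebraMap A Q a} ∪
    {q | ∃ t : ↥J, q = x t - y (t : B)}
  have hsub := isSubDPIdeal_dpClosure δ (Ideal.span S)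
  have hrel : ∀ q ∈ S, Ideal.Quotient.mk (dpClosure δ (Ideal.span S)) q = 0 := fun q hq =>
    Ideal.Quotient.eq_zero_iff_mem.mpr (le_dpClosure δ _ (Ideal.subset_span hq))
  have hadd : ∀ b b' : B, Ideal.Quotient.mk (dpClosure δ (Ideal.span S)) (y (b + b')) =
      Ideal.Quotient.mk _ (y b) + Ideal.Quotient.mk _ (y b') := by
    intro b b'
    have := hrel _ (Or.inl (Or.inl (Or.inl ⟨b, b', rfl⟩)))
    rw [map_sub, map_sub] at this
    linear_combination this
  have hmul : ∀ b b' : B, Ideal.Quotient.mk (dpClosure δ (Ideal.span S)) (y (b * b')) =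
      Ideal.Quotient.mk _ (y b) * Ideal.Quotient.mk _ (y b') := by
    intro b b'
    have := hrel _ (Or.inl (Or.inl (Or.inr ⟨b, b', rfl⟩)))
    rw [map_sub, map_mul] at this
    linear_combination this
  have halg : ∀ a : A, Ideal.Quotient.mk (dpClosure δ (Ideal.span S)) (y (algebraMap A B a)) =
      Ideal.Quotient.mk _ (algebraMap A Q a) := by
    intro a
    have := hrel _ (Or.inl (Or.inr ⟨a, rfl⟩))
    rw [map_sub] at this
    linear_combination this
  have hxy : ∀ t : ↥J, Ideal.Quotient.mk (dpClosure δ (Ideal.span S)) (x t) =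
      Ideal.Quotient.mk _ (y (t : B)) := by
    intro t
    have := hrel _ (Or.inr ⟨t, rfl⟩)
    rw [map_sub] at this
    linear_combination this
  have hone : Ideal.Quotient.mk (dpClosure δ (Ideal.span S)) (y 1) = 1 := by
    rw [← map_one (algebraMap A B), halg, map_one, map_one]
  let ι : B →+* Q ⧸ dpClosure δ (Ideal.span S) :=
    RingHom.mk' ⟨⟨fun b => Ideal.Quotient.mk _ (y b), hone⟩, hmul⟩ hadd
  have hι : ∀ b, ι b = Ideal.Quotient.mk _ (y b) := fun b => rfl
  refine ⟨Q ⧸ dpClosure δ (Ideal.span S), inferInstance, ι.toAlgebra,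
    K.map (Ideal.Quotient.mk _), DividedPowers.Quotient.dividedPowers δ hsub, ?_, ?_, ?_⟩
  · rw [Ideal.map_le_iff_le_comap]
    intro t ht
    rw [Ideal.mem_comap]
    show ι t ∈ _
    rw [hι, ← hxy ⟨t, ht⟩]
    exact Ideal.mem_map_of_mem _ (hxK _)
  · have heq : (@algebraMap B (Q ⧸ dpClosure δ (Ideal.span S)) _ _ ι.toAlgebra).comp
        (algebraMap A B) = (Ideal.Quotient.mk _).comp (algebraMap A Q) :=
      RingHom.ext fun a => halg a
    rw [heq]
    exact (DividedPowers.Quotient.isDPMorphism δ hsub).comp _ hmorA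
  · intro C _ _ KC ε hmor ψ hψ
    obtain ⟨χ₀, hχy, hχx, hχdp, hχuniq⟩ := hUP C KC ε hmor (fun b => ψ b)
      (fun t => ψ (t : B)) (fun t => hψ (Ideal.mem_map_of_mem ψ t.2))
    have h𝔞 : Ideal.span S ≤ RingHom.ker χ₀.toRingHom := by
      rw [Ideal.span_le]
      rintro q (((⟨b, b', rfl⟩ | ⟨b, b', rfl⟩) | ⟨a, rfl⟩) | ⟨t, rfl⟩)
      · show χ₀ _ = 0
        rw [map_sub, map_sub, hχy, hχy, hχy, map_add]
        ring
      · show χ₀ _ = 0
        rw [map_sub, map_mul, hχy, hχy, hχy, map_mul]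
        ring
      · show χ₀ _ = 0
        rw [map_sub, hχy, AlgHom.commutes, AlgHom.commutes, sub_self]
      · show χ₀ _ = 0
        rw [map_sub, hχy, hχx, sub_self]
    obtain ⟨χ, hχ1, hχ2⟩ := exists_factor δ (Ideal.span S) ε hχdp h𝔞
    have hχmk : ∀ q : Q, χ (Ideal.Quotient.mk _ q) = χ₀ q := fun q => RingHom.congr_fun hχ1 q
    refine ⟨χ, ⟨?_, hχ2⟩, ?_⟩
    · refine RingHom.ext fun b => ?_
      show χ (ι b) = ψ b
      rw [hι, hχmk, hχy]
    · rintro χ' ⟨h1, h2⟩
      have h1' : ∀ b : B, χ' (Ideal.Quotient.mk _ (y b)) = ψ b := fun b => RingHom.congr_fun h1 b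
      have key : χ'.comp (Ideal.Quotient.mk (dpClosure δ (Ideal.span S))) = χ₀.toRingHom := by
        refine hχuniq _ (fun a => ?_) (fun b => ?_) (fun t => ?_)
          (h2.comp _ (DividedPowers.Quotient.isDPMorphism δ hsub))
        · rw [RingHom.comp_apply, ← halg, h1', AlgHom.commutes]
        · rw [RingHom.comp_apply, h1']
        · rw [RingHom.comp_apply, hxy, h1']
      apply Ideal.Quotient.ringHom_ext
      rw [key, hχ1]

end

end Groth.Agent.Lib.Helper8.WG
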