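import Mathlib
set_option backward.isDefEq.respectTransparency.types false
set_option autoImplicit false
set_option linter.unusedSectionVars false
set_option linter.style.haveILetI false

namespace Groth.Agent.Lib.Helper8.WG

open MvPolynomial

variable {k : Type*} [Field k] {σ : Type*} [Fintype σ] [DecidableEq σ]

/-- intermediate exponent vectors -/
theorem exists_between (N : ℕ) : ∀ (m : ℕ) (lo hi : σ →₀ ℕ), lo ≤ hi → lo.degree + m = N →
    N ≤ hi.degree → ∃ α : σ →₀ ℕ, lo ≤ α ∧ α ≤ hi ∧ α.degree = N := by
  intro m
  induction m with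
  | zero =>
    intro lo hi hle h1 _
    exact ⟨lo, le_refl _, hle, by simpa using h1⟩
  | succ m ih =>
    intro lo hi hle h1 h2
    have hne : lo ≠ hi := by
      intro h; rw [h] at h1; omega
    obtain ⟨l, hl⟩ : ∃ l, lo l < hi l := by
      by_contra hcon
      simp only [not_exists, not_lt] at hcon
      apply hne
      ext l
      exact le_antisymm (hle l) (hcon l)
    have hle' : lo + Finsupp.single l 1 ≤ hi := by
      intro l'
      by_cases hll : l' = l
      · subst hll; simp; omega
      · simp [Finsupp.single_apply, Ne.symm hll]; exact hle l'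
    obtain ⟨α, h3, h4, h5⟩ := ih (lo + Finsupp.single l 1) hi hle'
      (by rw [map_add, Finsupp.degree_single]; omega) h2
    refine ⟨α, le_trans ?_ h3, h4, h5⟩
    exact le_self_add

/-- the tuple with `l`-th entry `c l • X^(γ - e_l)`. -/
noncomputable def M (γ : σ →₀ ℕ) (c : σ → k) : σ → MvPolynomial σ k :=
  fun l => monomial (γ - Finsupp.single l 1) (c l)

theorem M_sub (γ : σ →₀ ℕ) (c c' : σ → k) : M γ (c - c') = M γ c - M γ c' := by
  funext l
  simp [M]

theorem M_smul (γ : σ →₀ ℕ) (r : k) (c : σ → k) : M γ (r • c) = r • M γ c := by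
  funext l
  simp [M, smul_monomial]

/-- the weighted Gaussian bracket -/
noncomputable def gauss (a b : ℕ) (s t : MvPolynomial σ k) : σ → MvPolynomial σ k :=
  fun i => (b : k) • (t * pderiv i s) - (a : k) • (s * pderiv i t)

theorem exp_eq (α β : σ →₀ ℕ) (l : σ) (h : α l ≠ 0) :
    β + (α - Finsupp.single l 1) = α + β - Finsupp.single l 1 := by
  ext l'
  by_cases hll : l' = l
  · subst hll; simp; omega
  · simp [Finsupp.single_apply, Ne.symm hll, add_comm]

theorem gauss_monomial (a b : ℕ) (α β : σ →₀ ℕ) :
    gauss a b (monomial α (1 : k)) (monomial β 1) =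
      M (α + β) (fun l => (b : k) * (α l : k) - (a : k) * (β l : k)) := by
  funext l
  simp only [gauss, M, pderiv_monomial, one_mul, monomial_mul, smul_monomial, smul_eq_mul]
  rw [map_sub]
  congr 1
  · by_cases h : α l = 0
    · simp [h]
    · rw [exp_eq α β l h]
  · by_cases h : β l = 0
    · simp [h]
    · rw [exp_eq β α l h, add_comm β α]

end Groth.Agent.Lib.Helper8.WG
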