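import Mathlib
import Groth.Agent.Lib.Helper8.WGa1
set_option backward.isDefEq.respectTransparency.types false
set_option autoImplicit false
set_option linter.unusedSectionVars false
set_option linter.style.haveILetI false

namespace Groth.Agent.Lib.Helper8.WG

open MvPolynomial

variable {k : Type*} [Field k] {σ : Type*} [Fintype σ] [DecidableEq σ]

/-- the span in the statement -/
noncomputable def W (k : Type*) [Field k] (σ : Type*) [Fintype σ] [DecidableEq σ] (a b e : ℕ) :
    Submodule k (σ → MvPolynomial σ k) :=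
  Submodule.span k {g | ∃ s t : MvPolynomial σ k, s.IsHomogeneous (a * e) ∧
    t.IsHomogeneous (b * e) ∧ g = gauss a b s t}

theorem degree_tsub_single (γ : σ →₀ ℕ) (j : σ) (hj : γ j ≠ 0) :
    (γ - Finsupp.single j 1).degree + 1 = γ.degree := by
  have : γ = (γ - Finsupp.single j 1) + Finsupp.single j 1 := by
    ext l
    by_cases hl : l = j
    · subst hl; simp; omega
    · simp [Finsupp.single_apply, Ne.symm hl]
  conv_rhs => rw [this]
  rw [map_add, Finsupp.degree_single]

theorem M_single_sub (γ : σ →₀ ℕ) (i j : σ) :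
    M γ (Pi.single i (1 : k) - Pi.single j 1) =
      Pi.single i (monomial (γ - Finsupp.single i 1) (1 : k))
        - Pi.single j (monomial (γ - Finsupp.single j 1) 1) := by
  funext l
  simp only [M, Pi.sub_apply]
  by_cases hi : l = i
  · subst hi
    by_cases hj : l = j
    · subst hj; simp
    · simp [Pi.single_apply, hj]
  · by_cases hj : l = j
    · subst hj; simp [Pi.single_apply, hi]
    · simp [Pi.single_apply, hi, hj]

theorem E_mem (a b e : ℕ) (hab : ((a + b : ℕ) : k) ≠ 0) (hae : 0 < a * e) (hbe : 0 < b * e)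
    (γ : σ →₀ ℕ) (hγ : γ.degree = (a + b) * e) (i j : σ) (hij : i ≠ j) (hi : γ i ≠ 0)
    (hj : γ j ≠ 0) :
    Pi.single i (monomial (γ - Finsupp.single i 1) (1 : k))
        - Pi.single j (monomial (γ - Finsupp.single j 1) 1) ∈ W k σ a b e := by
  have hdeg := degree_tsub_single γ j hj
  have hlohi : Finsupp.single i 1 ≤ γ - Finsupp.single j 1 := by
    intro l
    by_cases hl : l = i
    · subst hl; simp [Finsupp.single_apply, Ne.symm hij]; omega
    · simp [Finsupp.single_apply, Ne.symm hl]
  obtain ⟨α, h1, h2, h3⟩ := exists_between (a * e) (a * e - 1) (Finsupp.single i 1)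
    (γ - Finsupp.single j 1) hlohi (by rw [Finsupp.degree_single]; omega)
    (by rw [add_mul] at hγ; omega)
  have hαi : 1 ≤ α i := by simpa using h1 i
  have hαj : α j + 1 ≤ γ j := by
    have := h2 j
    simp at this
    omega
  have hαγ : α ≤ γ := le_trans h2 tsub_le_self
  let α' : σ →₀ ℕ := α - Finsupp.single i 1 + Finsupp.single j 1
  have hα'l : ∀ l, (α' l : ℤ) = α l - (if l = i then 1 else 0) + (if l = j then 1 else 0) := by
    intro l
    simp only [α', Finsupp.add_apply, Finsupp.tsub_apply, Finsupp.single_apply]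
    by_cases hli : l = i
    · subst hli
      simp [hij, Ne.symm hij]
      omega
    · by_cases hlj : l = j
      · subst hlj; simp [Ne.symm hli, hli]
      · simp [Ne.symm hli, Ne.symm hlj, hli, hlj]
  have hα'γ : α' ≤ γ := by
    intro l
    have h4 := hα'l l
    have h5 := hαγ l
    by_cases hli : l = i
    · subst hli
      simp [hij] at h4
      omega
    · by_cases hlj : l = j
      · subst hlj; simp [hli] at h4; omega
      · simp [hli, hlj] at h4; omega
  have hα'deg : α'.degree = a * e := by
    have h6 : (α - Finsupp.single i 1).degree + 1 = α.degree :=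
      degree_tsub_single α i (by omega)
    simp only [α']
    rw [map_add, Finsupp.degree_single]
    omega
  have hβdeg : ∀ α₀ : σ →₀ ℕ, α₀ ≤ γ → α₀.degree = a * e → (γ - α₀).degree = b * e := by
    intro α₀ h4 h5
    have : γ = α₀ + (γ - α₀) := (add_tsub_cancel_of_le h4).symm
    have h6 := congrArg Finsupp.degree this
    rw [map_add, hγ, h5, add_mul] at h6
    omega
  have hg : ∀ α₀ : σ →₀ ℕ, α₀ ≤ γ → α₀.degree = a * e →
      M γ (fun l => (b : k) * (α₀ l : k) - (a : k) * ((γ - α₀) l : k)) ∈ W k σ a b e := by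
    intro α₀ h4 h5
    have h6 := gauss_monomial (k := k) a b α₀ (γ - α₀)
    rw [add_tsub_cancel_of_le h4] at h6
    rw [← h6]
    apply Submodule.subset_span
    refine ⟨_, _, ?_, ?_, rfl⟩
    · exact isHomogeneous_monomial _ h5
    · exact isHomogeneous_monomial _ (hβdeg α₀ h4 h5)
  have hsub := (W k σ a b e).sub_mem (hg α hαγ h3) (hg α' hα'γ hα'deg)
  rw [← M_sub] at hsub
  have hc : ((fun l => (b : k) * (α l : k) - (a : k) * ((γ - α) l : k))
      - fun l => (b : k) * (α' l : k) - (a : k) * ((γ - α') l : k)) =
      ((a + b : ℕ) : k) • (Pi.single i (1 : k) - Pi.single j 1) := by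
    funext l
    have e1 : ((γ - α) l : k) = (γ l : k) - (α l : k) := by
      rw [Finsupp.tsub_apply, Nat.cast_sub (hαγ l)]
    have e2 : ((γ - α') l : k) = (γ l : k) - (α' l : k) := by
      rw [Finsupp.tsub_apply, Nat.cast_sub (hα'γ l)]
    have e3 : (α' l : k) = (α l : k) - (if l = i then 1 else 0) + (if l = j then 1 else 0) := by
      have := congrArg (Int.cast (R := k)) (hα'l l)
      push_cast at this
      exact this
    simp only [Pi.sub_apply, Pi.smul_apply, smul_eq_mul, e1, e2, e3, Pi.single_apply]
    push_cast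
    ring
  rw [hc, M_smul] at hsub
  have := (W k σ a b e).smul_mem (((a + b : ℕ) : k)⁻¹) hsub
  rw [smul_smul, inv_mul_cancel₀ hab, one_smul, M_single_sub] at this
  exact this

end Groth.Agent.Lib.Helper8.WG
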