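import Mathlib
import Groth.Agent.Lib.Helper8.WGa2
set_option backward.isDefEq.respectTransparency.types false
set_option autoImplicit false
set_option linter.unusedSectionVars false
set_option linter.style.haveILetI false

namespace Groth.Agent.Lib.Helper8.WG

open MvPolynomial

variable {k : Type*} [Field k] {σ : Type*} [Fintype σ] [DecidableEq σ] [Inhabited σ]

/-- base index of an exponent vector -/
noncomputable def j0 (γ : σ →₀ ℕ) : σ := if h : ∃ l, γ l ≠ 0 then h.choose else default

theorem j0_spec (γ : σ →₀ ℕ) (h : ∃ l, γ l ≠ 0) : γ (j0 γ) ≠ 0 := by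
  unfold j0
  rw [dif_pos h]
  exact h.choose_spec

/-- section of the Euler map on monomials -/
noncomputable def T : MvPolynomial σ k →ₗ[k] (σ → MvPolynomial σ k) :=
  (MvPolynomial.basisMonomials σ k).constr k
    (fun γ => Pi.single (j0 γ) (monomial (γ - Finsupp.single (j0 γ) 1) (1 : k)))

theorem T_monomial (γ : σ →₀ ℕ) (c : k) :
    T (monomial γ c) = c • Pi.single (j0 γ) (monomial (γ - Finsupp.single (j0 γ) 1) (1 : k)) := by
  have h1 : monomial γ c = c • (MvPolynomial.basisMonomials σ k) γ := by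
    rw [MvPolynomial.coe_basisMonomials, smul_monomial, smul_eq_mul, mul_one]
  rw [h1, map_smul, T, Module.Basis.constr_basis]

/-- the Euler map -/
noncomputable def Eu : (σ → MvPolynomial σ k) →ₗ[k] MvPolynomial σ k :=
  ∑ i, (LinearMap.mulLeft k (X i : MvPolynomial σ k)).comp (LinearMap.proj i)

theorem Eu_apply (f : σ → MvPolynomial σ k) : Eu f = ∑ i, X i * f i := by
  simp [Eu]

theorem Eu_single (i : σ) (μ : σ →₀ ℕ) (c : k) :
    Eu (Pi.single i (monomial μ c)) = monomial (μ + Finsupp.single i 1) c := by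
  rw [Eu_apply, Fintype.sum_eq_single i]
  · rw [Pi.single_eq_same, mul_comm, monomial_add_single, pow_one]
  · intro l hl
    rw [Pi.single_eq_of_ne hl, mul_zero]

theorem key (a b e : ℕ) (hab : ((a + b : ℕ) : k) ≠ 0) (hae : 0 < a * e) (hbe : 0 < b * e)
    (i : σ) (μ : σ →₀ ℕ) (c : k) (hμ : μ.degree + 1 = (a + b) * e) :
    Pi.single i (monomial μ c) - T (Eu (Pi.single i (monomial μ c))) ∈ W k σ a b e := by
  rw [Eu_single, T_monomial]
  set γ := μ + Finsupp.single i 1 with hγ
  have hγi : γ i ≠ 0 := by simp [hγ]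
  have hγdeg : γ.degree = (a + b) * e := by
    rw [hγ, map_add, Finsupp.degree_single]; exact hμ
  have hj := j0_spec γ ⟨i, hγi⟩
  have hμγ : μ = γ - Finsupp.single i 1 := by rw [hγ, add_tsub_cancel_right]
  have h1 : (Pi.single i (monomial μ c) : σ → MvPolynomial σ k) =
      c • Pi.single i (monomial μ (1 : k)) := by
    rw [← Pi.single_smul, smul_monomial, smul_eq_mul, mul_one]
  rw [h1, ← smul_sub]
  apply Submodule.smul_mem
  by_cases hij : i = j0 γ
  · rw [← hij, ← hμγ, sub_self]
    exact Submodule.zero_mem _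
  · rw [hμγ]
    exact E_mem a b e hab hae hbe γ hγdeg i (j0 γ) hij hγi hj

theorem main (a b e : ℕ) (hab : ((a + b : ℕ) : k) ≠ 0) (hae : 0 < a * e) (hbe : 0 < b * e)
    (f : σ → MvPolynomial σ k) (hf : ∀ i, (f i).IsHomogeneous ((a + b) * e - 1))
    (hEuler : ∑ i, X i * f i = 0) : f ∈ W k σ a b e := by
  have hD : 2 ≤ (a + b) * e := by rw [add_mul]; omega
  have hfsum : f = ∑ i, ∑ μ ∈ (f i).support, Pi.single i (monomial μ (coeff μ (f i))) := by
    funext l
    rw [Finset.sum_apply]
    simp only [Finset.sum_apply]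
    rw [Fintype.sum_eq_single l]
    · simp only [Pi.single_eq_same]
      exact (MvPolynomial.support_sum_monomial_coeff (f l)).symm
    · intro i hi
      apply Finset.sum_eq_zero
      intro μ _
      rw [Pi.single_eq_of_ne (Ne.symm hi)]
  have h0 : f = f - T (Eu f) := by
    rw [Eu_apply, hEuler, map_zero, sub_zero]
  rw [h0]
  have hmem : ∀ g : σ → MvPolynomial σ k,
      g = ∑ i, ∑ μ ∈ (f i).support, Pi.single i (monomial μ (coeff μ (f i))) →
      g - T (Eu g) ∈ W k σ a b e := by
    intro g hg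
    rw [hg]
    rw [map_sum, map_sum, ← Finset.sum_sub_distrib]
    apply Submodule.sum_mem
    intro i _
    rw [map_sum, map_sum, ← Finset.sum_sub_distrib]
    apply Submodule.sum_mem
    intro μ hμ
    apply key a b e hab hae hbe
    have h1 : coeff μ (f i) ≠ 0 := MvPolynomial.mem_support_iff.mp hμ
    have h2 := hf i h1
    have h3 : μ.degree = (Finsupp.weight 1) μ := by
      rw [Finsupp.degree_eq_weight_one]; rfl
    omega
  exact hmem f hfsum

end Groth.Agent.Lib.Helper8.WG
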