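import Mathlib

set_option autoImplicit false
set_option linter.unusedSectionVars false
set_option linter.unusedVariables false
set_option linter.style.haveILetI false

/-!
# Exchange condition ⟹ Coxeter presentation (abstract group theory)

`W` is a group, `s : B → W` a family of involutions satisfying an *exchange condition* `hE`
(every non-reduced word contains a sub-word `u :: m ++ [a]` with `s u * π m = π m * s a`).
`G` is any group with involutions `t : B → G` satisfying the braid relations of `s`.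
Then every relation among the `s i` also holds among the `t i`
(Humphreys, *Reflection groups and Coxeter groups*, §1.9).
-/

namespace Groth.Agent.Lib.Helper8.WH

section generic

variable {B H : Type*} [Group H]

/-- the product of a word -/
def wp (f : B → H) (l : List B) : H := (l.map f).prod

@[simp] lemma wp_nil (f : B → H) : wp f [] = 1 := rfl

@[simp] lemma wp_cons (f : B → H) (a : B) (l : List B) : wp f (a :: l) = f a * wp f l := by
  simp [wp]

@[simp] lemma wp_append (f : B → H) (l₁ l₂ : List B) :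
    wp f (l₁ ++ l₂) = wp f l₁ * wp f l₂ := by
  simp [wp]

lemma inv_of_invol (f : B → H) (hf : ∀ i, f i * f i = 1) (i : B) : (f i)⁻¹ = f i :=
  inv_eq_of_mul_eq_one_left (hf i)

lemma invol_cancel_left (f : B → H) (hf : ∀ i, f i * f i = 1) (i : B) (x : H) :
    f i * (f i * x) = x := by
  rw [← mul_assoc, hf i, one_mul]

lemma wp_reverse (f : B → H) (hf : ∀ i, f i * f i = 1) (l : List B) :
    wp f l.reverse = (wp f l)⁻¹ := by
  induction l with
  | nil => simp
  | cons a l ih =>
    simp [ih, mul_inv_rev, inv_of_invol f hf]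

lemma mul_eq_one_swap {a b : H} (h : a * b = 1) : b * a = 1 := by
  rw [mul_eq_one_iff_eq_inv] at h
  rw [h, mul_inv_cancel]

lemma wp_swap (f : B → H) (hf : ∀ i, f i * f i = 1) (l₁ : List B) (u : B) (l₂ : List B) (a : B)
    (l₃ : List B) (h : f u * wp f l₂ = wp f l₂ * f a) :
    wp f (l₁ ++ u :: (l₂ ++ a :: l₃)) = wp f (l₁ ++ (l₂ ++ l₃)) := by
  simp only [wp_append, wp_cons]
  rw [← mul_assoc (f u), h, mul_assoc, ← mul_assoc (f a), hf a, one_mul]

/-- the product of an alternating word -/
lemma wp_alt (f : B → H) : ∀ (q : ℕ) (l : List B), l.length = 2 * q →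
    (∀ (l₁ : List B) (x y z : B) (l₂ : List B), l = l₁ ++ x :: y :: z :: l₂ → f x = f z) →
    ∀ (x y : B) (rest : List B), l = x :: y :: rest → wp f l = (f x * f y) ^ q := by
  intro q
  induction q with
  | zero =>
    intro l hl _ x y rest hd
    rw [hd] at hl
    simp at hl
  | succ q ih =>
    intro l hl halt x y rest hd
    subst hd
    rcases rest with _ | ⟨z, _ | ⟨w, rest'⟩⟩
    · have : q = 0 := by simp at hl; omega
      subst this
      simp
    · simp at hl; omega
    · have hxz : f x = f z := halt [] x y z (w :: rest') rfl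
      have hyw : f y = f w := halt [x] y z w rest' rfl
      have h1 := ih (z :: w :: rest') (by simp at hl ⊢; omega)
        (fun l₁ x' y' z' l₂ hh => halt (x :: y :: l₁) x' y' z' l₂ (by rw [hh]; rfl)) z w rest' rfl
      rw [wp_cons, wp_cons, h1, ← hxz, ← hyw, pow_succ', mul_assoc]

end generic

section main

variable {B W G : Type*} [Group W] [Group G] (s : B → W) (t : B → G)
  (hs : ∀ i, s i * s i = 1) (ht : ∀ i, t i * t i = 1)
  (hbraid : ∀ (i j : B) (n : ℕ), (s i * s j) ^ n = 1 → (t i * t j) ^ n = 1)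
  (hE : ∀ p : List B, (∃ p' : List B, p'.length < p.length ∧ wp s p' = wp s p) →
      ∃ (l₁ : List B) (u : B) (l₂ : List B) (a : B) (l₃ : List B),
        p = l₁ ++ u :: (l₂ ++ a :: l₃) ∧ s u * wp s l₂ = wp s l₂ * s a)

include hs ht in
lemma swapA (N : ℕ) (IH : ∀ l' : List B, l'.length < N → wp s l' = 1 → wp t l' = 1)
    (u a : B) (m : List B) (hlen : 2 * m.length + 2 < N)
    (h : s u * wp s m = wp s m * s a) : t u * wp t m = wp t m * t a := by
  have h1 : wp s (u :: (m ++ a :: m.reverse)) = 1 := by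
    rw [wp_cons, wp_append, wp_cons, wp_reverse s hs, ← mul_assoc, h, mul_assoc,
      ← mul_assoc (s a), hs a, one_mul, mul_inv_cancel]
  have h2 : wp t (u :: (m ++ a :: m.reverse)) = 1 := IH _ (by simp; omega) h1
  rw [wp_cons, wp_append, wp_cons, wp_reverse t ht] at h2
  have h3 : t u = (wp t m * (t a * (wp t m)⁻¹))⁻¹ := eq_inv_of_mul_eq_one_left h2
  rw [h3]
  simp [mul_assoc, inv_of_invol t ht]

include hs ht in
lemma reduceB (N : ℕ) (IH : ∀ l' : List B, l'.length < N → wp s l' = 1 → wp t l' = 1)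
    (l₁ : List B) (u : B) (l₂ : List B) (a : B) (l₃ : List B)
    (hlen : (l₁ ++ u :: (l₂ ++ a :: l₃)).length = N)
    (hw : wp s (l₁ ++ u :: (l₂ ++ a :: l₃)) = 1)
    (h : s u * wp s l₂ = wp s l₂ * s a) (h' : t u * wp t l₂ = wp t l₂ * t a) :
    wp t (l₁ ++ u :: (l₂ ++ a :: l₃)) = 1 := by
  rw [wp_swap t ht _ _ _ _ _ h']
  apply IH
  · simp at hlen ⊢; omega
  · rw [← wp_swap s hs _ _ _ _ _ h]; exact hw

include hs ht hE in
lemma dichotomy (N : ℕ) (IH : ∀ l' : List B, l'.length < N → wp s l' = 1 → wp t l' = 1)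
    (l : List B) (hlen : l.length = N) (hN : 1 ≤ N) (hw : wp s l = 1) :
    wp t l = 1 ∨ ∃ (u : B) (m : List B) (a : B) (r : List B),
      l = u :: (m ++ a :: r) ∧ r.length = m.length ∧ s u * wp s m = wp s m * s a := by
  obtain ⟨p, hp⟩ : ∃ p, p = l.take (N / 2 + 1) := ⟨_, rfl⟩
  obtain ⟨r, hr⟩ : ∃ r, r = l.drop (N / 2 + 1) := ⟨_, rfl⟩
  have hpr : p ++ r = l := by rw [hp, hr]; exact List.take_append_drop _ _
  have hpl : p.length = N / 2 + 1 := by rw [hp, List.length_take]; omega
  have hrl : r.length = N - (N / 2 + 1) := by rw [hr, List.length_drop, hlen]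
  have hwp : wp s p = wp s r.reverse := by
    rw [wp_reverse s hs]
    rw [← hpr, wp_append] at hw
    exact eq_inv_of_mul_eq_one_left hw
  obtain ⟨l₁, u, l₂, a, l₃, hdec, hrel⟩ :=
    hE p ⟨r.reverse, by rw [List.length_reverse]; omega, hwp.symm⟩
  have hl : l = l₁ ++ u :: (l₂ ++ a :: (l₃ ++ r)) := by rw [← hpr, hdec]; simp
  have hplen : l₁.length + l₂.length + l₃.length + 2 = N / 2 + 1 := by
    rw [← hpl, hdec]; simp; omega
  by_cases hc : 2 * l₂.length + 2 < N
  · left
    have h' := swapA s t hs ht N IH u a l₂ hc hrel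
    rw [hl]
    exact reduceB s t hs ht N IH l₁ u l₂ a (l₃ ++ r) (by rw [← hl]; exact hlen)
      (by rw [← hl]; exact hw) hrel h'
  · right
    have h1 : l₁ = [] := List.eq_nil_of_length_eq_zero (by omega)
    have h3 : l₃ = [] := List.eq_nil_of_length_eq_zero (by omega)
    subst h1 h3
    refine ⟨u, l₂, a, r, by simpa using hl, by omega, hrel⟩

include hs ht hE in
lemma stuck_of_ne (N : ℕ) (IH : ∀ l' : List B, l'.length < N → wp s l' = 1 → wp t l' = 1)
    (u : B) (m : List B) (a : B) (r : List B)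
    (hlen : (u :: (m ++ a :: r)).length = N) (hr : r.length = m.length)
    (hw : wp s (u :: (m ++ a :: r)) = 1) (hne : wp t (u :: (m ++ a :: r)) ≠ 1) :
    s u * wp s m = wp s m * s a := by
  rcases dichotomy s t hs ht hE N IH _ hlen (by simp at hlen; omega) hw with
    h | ⟨u', m', a', r', hdec, hr', hrel⟩
  · exact absurd h hne
  · obtain ⟨h1, h2⟩ := List.cons.inj hdec
    subst h1
    have hmm : m.length = m'.length := by
      have := congrArg List.length h2
      simp at this; omega
    obtain ⟨h3, h4⟩ := List.append_inj h2 hmm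
    subst h3
    obtain ⟨h5, h6⟩ := List.cons.inj h4
    subst h5
    exact hrel

include hs ht hE in
lemma key (N : ℕ) (IH : ∀ l' : List B, l'.length < N → wp s l' = 1 → wp t l' = 1)
    (x₁ x₂ x₃ : B) (m₂ : List B) (b : B) (r₁ : List B) (hr : r₁.length = m₂.length)
    (hlen : (x₁ :: x₂ :: x₃ :: (m₂ ++ b :: r₁)).length = N)
    (hw : wp s (x₁ :: x₂ :: x₃ :: (m₂ ++ b :: r₁)) = 1)
    (hne : wp t (x₁ :: x₂ :: x₃ :: (m₂ ++ b :: r₁)) ≠ 1) : s x₁ = s x₃ := by
  obtain ⟨m₁, a, hc⟩ : ∃ (m₁ : List B) (a : B), x₃ :: m₂ = m₁ ++ [a] :=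
    ⟨(x₃ :: m₂).dropLast, (x₃ :: m₂).getLast (by simp),
      (List.dropLast_append_getLast _).symm⟩
  have hm₁ : m₁.length = m₂.length := by
    have := congrArg List.length hc
    simp at this; omega
  have hN : N = 2 * m₂.length + 4 := by simp at hlen; omega
  -- (7)
  have e1 : x₁ :: x₂ :: x₃ :: (m₂ ++ b :: r₁) = x₁ :: ((x₂ :: m₁) ++ a :: (b :: r₁)) := by
    have : x₃ :: (m₂ ++ b :: r₁) = (x₃ :: m₂) ++ b :: r₁ := rfl
    rw [this, hc]; simp
  have h7 := stuck_of_ne s t hs ht hE N IH x₁ (x₂ :: m₁) a (b :: r₁)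
    (by rw [← e1]; exact hlen) (by simp; omega) (by rw [← e1]; exact hw)
    (by rw [← e1]; exact hne)
  -- the rotated word
  have e2 : x₂ :: ((x₃ :: m₂) ++ b :: (r₁ ++ [x₁])) = (x₂ :: x₃ :: (m₂ ++ b :: r₁)) ++ [x₁] := by
    simp
  have hwrot : wp s (x₂ :: ((x₃ :: m₂) ++ b :: (r₁ ++ [x₁]))) = 1 := by
    rw [e2, wp_append]
    rw [wp_cons] at hw
    simpa using mul_eq_one_swap hw
  have hnerot : wp t (x₂ :: ((x₃ :: m₂) ++ b :: (r₁ ++ [x₁]))) ≠ 1 := by
    intro h
    apply hne
    rw [e2, wp_append] at h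
    rw [wp_cons]
    have := mul_eq_one_swap h
    simpa using this
  have hlenrot : (x₂ :: ((x₃ :: m₂) ++ b :: (r₁ ++ [x₁]))).length = N := by
    simp; omega
  have h8 := stuck_of_ne s t hs ht hE N IH x₂ (x₃ :: m₂) b (r₁ ++ [x₁]) hlenrot
    (by simp; omega) hwrot hnerot
  -- l'
  have e3 : x₃ :: ((x₂ :: m₁) ++ a :: (b :: m₂.reverse)) =
      [x₃] ++ x₂ :: ((x₃ :: m₂) ++ b :: m₂.reverse) := by
    rw [hc]; simp
  have hw' : wp s (x₃ :: ((x₂ :: m₁) ++ a :: (b :: m₂.reverse))) = 1 := by
    rw [e3, wp_swap s hs _ _ _ _ _ h8]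
    simp only [wp_append, wp_cons, wp_nil, mul_one, wp_reverse s hs]
    rw [mul_assoc, mul_inv_cancel, mul_one, hs x₃]
  have hne' : wp t (x₃ :: ((x₂ :: m₁) ++ a :: (b :: m₂.reverse))) ≠ 1 := by
    intro h
    apply hnerot
    have h8' : t x₂ * wp t (x₃ :: m₂) = wp t (x₃ :: m₂) * t b := by
      rw [e3] at h
      simp only [wp_append, wp_cons, wp_nil, mul_one, wp_reverse t ht] at h
      have h3 : t x₂ = (t x₃)⁻¹ * (t x₃ * wp t m₂ * (t b * (wp t m₂)⁻¹))⁻¹ :=
        eq_mul_inv_of_mul_eq (eq_inv_of_mul_eq_one_right h)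
      rw [wp_cons, h3]
      simp [mul_assoc, inv_of_invol t ht, invol_cancel_left t ht]
    exact reduceB s t hs ht N IH [] x₂ (x₃ :: m₂) b (r₁ ++ [x₁]) hlenrot hwrot h8 h8'
  have h10 := stuck_of_ne s t hs ht hE N IH x₃ (x₂ :: m₁) a (b :: m₂.reverse)
    (by simp; omega) (by simp; omega) hw' hne'
  exact mul_right_cancel (h7.trans h10.symm)

include hs ht hbraid in
lemma t_eq_of_s_eq {i j : B} (h : s i = s j) : t i = t j := by
  have h1 : (s i * s j) ^ 1 = 1 := by rw [pow_one, h, hs j]
  have h2 := hbraid i j 1 h1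
  rw [pow_one] at h2
  rw [eq_inv_of_mul_eq_one_left h2]
  exact inv_eq_of_mul_eq_one_left (ht j)

include hs ht hbraid hE in
/-- **Exchange ⟹ presentation.** Every relation among the `s i` holds among the `t i`. -/
theorem wp_eq_one : ∀ l : List B, wp s l = 1 → wp t l = 1 := by
  intro l
  induction' hN : l.length using Nat.strong_induction_on with N IHN generalizing l
  intro hw
  have IH : ∀ l' : List B, l'.length < N → wp s l' = 1 → wp t l' = 1 :=
    fun l' h1 h2 => IHN _ h1 l' rfl h2
  by_contra hne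
  have hN1 : 1 ≤ N := by
    rcases Nat.eq_zero_or_pos N with h0 | h0
    · exfalso
      apply hne
      rw [h0] at hN
      rw [List.eq_nil_of_length_eq_zero hN]
      rfl
    · exact h0
  rcases dichotomy s t hs ht hE N IH l hN hN1 hw with h | ⟨u, m, a, r, hdec, hr, hrel⟩
  · exact hne h
  · have hNm : N = 2 * m.length + 2 := by rw [← hN, hdec]; simp; omega
    rcases m with _ | ⟨y, m'⟩
    · -- `l = [u, a]`
      have hr0 : r = [] := List.eq_nil_of_length_eq_zero (by simpa using hr)
      subst hr0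
      apply hne
      rw [hdec]
      simp only [List.nil_append, wp_cons, wp_nil, mul_one, one_mul] at hrel ⊢
      have h1 : (s u * s a) ^ 1 = 1 := by rw [pow_one, hrel, hs a]
      simpa using hbraid u a 1 h1
    · -- `N ≥ 4`
      have halt : ∀ (l₁ : List B) (x y z : B) (l₂ : List B),
          l = l₁ ++ x :: y :: z :: l₂ → s x = s z := by
        intro l₁ x y' z l₂ hl
        -- the rotation `x :: y' :: z :: (l₂ ++ l₁)`
        have hrest : (l₂ ++ l₁).length = 2 * m'.length + 1 := by
          have := congrArg List.length hl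
          rw [hN] at this
          simp at this ⊢
          simp at hNm
          omega
        obtain ⟨m₂, hm₂⟩ : ∃ m₂, m₂ = (l₂ ++ l₁).take m'.length := ⟨_, rfl⟩
        obtain ⟨d, hd⟩ : ∃ d, d = (l₂ ++ l₁).drop m'.length := ⟨_, rfl⟩
        have hmd : m₂ ++ d = l₂ ++ l₁ := by rw [hm₂, hd]; exact List.take_append_drop _ _
        have hm₂l : m₂.length = m'.length := by rw [hm₂, List.length_take]; omega
        have hdl : d.length = m'.length + 1 := by rw [hd, List.length_drop]; omega
        rcases d with _ | ⟨b, r₁⟩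
        · simp at hdl
        have hr₁ : r₁.length = m₂.length := by simp at hdl; omega
        have e : x :: y' :: z :: (m₂ ++ b :: r₁) = (x :: y' :: z :: l₂) ++ l₁ := by
          rw [hmd]; simp
        have hws : wp s (x :: y' :: z :: (m₂ ++ b :: r₁)) = 1 := by
          rw [e, wp_append]
          rw [hl, wp_append] at hw
          exact mul_eq_one_swap hw
        have hwt : wp t (x :: y' :: z :: (m₂ ++ b :: r₁)) ≠ 1 := by
          intro h
          apply hne
          rw [e, wp_append] at h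
          rw [hl, wp_append]
          exact mul_eq_one_swap h
        refine key s t hs ht hE N IH x y' z m₂ b r₁ hr₁ ?_ hws hwt
        simp
        simp at hNm
        omega
      have haltt : ∀ (l₁ : List B) (x y z : B) (l₂ : List B),
          l = l₁ ++ x :: y :: z :: l₂ → t x = t z := fun l₁ x y' z l₂ hl =>
        t_eq_of_s_eq s t hs ht hbraid (halt l₁ x y' z l₂ hl)
      have hl2 : l.length = 2 * (m'.length + 2) := by
        rw [hN, hNm]; simp; omega
      have hd' : l = u :: y :: (m' ++ a :: r) := by rw [hdec]; rfl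
      have e1 := wp_alt s (m'.length + 2) l hl2 halt u y _ hd'
      have e2 := wp_alt t (m'.length + 2) l hl2 haltt u y _ hd'
      apply hne
      rw [e2]
      apply hbraid
      rw [← e1]
      exact hw

end main

end Groth.Agent.Lib.Helper8.WH

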