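import Mathlib
import Groth.Agent.Lib.Helper8.WH1

set_option autoImplicit false
set_option linter.unusedSectionVars false
set_option linter.unusedVariables false
set_option linter.style.haveILetI false

/-!
# The Weyl group of a root pairing with a base is a Coxeter group
-/

open RootPairing

namespace Groth.Agent.Lib.Helper8.WH

section aut

variable {ι R M N : Type*} [CommRing R] [AddCommGroup M] [Module R M] [AddCommGroup N] [Module R N]
  (P : RootPairing ι R M N)

lemma toLinearMap_weightMap (g : P.Aut) (m : M) (n : N) :
    P.toLinearMap (g.weightMap m) n = P.toLinearMap m (g.coweightMap n) := by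
  have := Hom.weight_coweight_transpose_apply P P n g.toHom
  have h2 := LinearMap.congr_fun this m
  simpa using h2

lemma aut_smul_def (g : P.Aut) (m : M) : g • m = g.weightMap m := rfl

lemma aut_smul_idx_def (g : P.Aut) (i : ι) : g • i = g.indexEquiv i := rfl

lemma coweightMap_coroot (g : P.Aut) (i : ι) :
    g.coweightMap (P.coroot i) = P.coroot (g.indexEquiv.symm i) :=
  Hom.coroot_coweightMap_apply P P i g.toHom

lemma root_smul (g : P.Aut) (i : ι) : P.root (g • i) = g • P.root i :=
  Equiv.root_indexEquiv_eq_smul P i g

lemma reflection_smul_idx (i k : ι) : Equiv.reflection P i • k = P.reflectionPerm i k := rfl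

lemma toLinearMap_smul_coroot_smul (g : P.Aut) (m : M) (i : ι) :
    P.toLinearMap (g • m) (P.coroot (g • i)) = P.toLinearMap m (P.coroot i) := by
  rw [aut_smul_def, toLinearMap_weightMap, aut_smul_idx_def, coweightMap_coroot,
    Equiv.symm_apply_apply]

/-- conjugating a reflection by an automorphism -/
theorem aut_conj_reflection (u : P.Aut) (i : ι) :
    u * Equiv.reflection P i * u⁻¹ = Equiv.reflection P (u • i) := by
  apply Equiv.weightHom_injective
  ext m
  change (u * Equiv.reflection P i * u⁻¹) • m = Equiv.reflection P (u • i) • m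
  rw [mul_smul, mul_smul, Equiv.reflection_smul, Equiv.reflection_smul,
    RootPairing.reflection_apply, RootPairing.reflection_apply, smul_sub, smul_inv_smul,
    smul_comm, root_smul]
  congr 2
  have := toLinearMap_smul_coroot_smul P u (u⁻¹ • m) i
  rw [smul_inv_smul] at this
  simp only [RootPairing.coroot', LinearMap.flip_apply]
  exact this.symm

lemma smul_reflectionPerm (g : P.Aut) (i k : ι) :
    g • P.reflectionPerm i k = P.reflectionPerm (g • i) (g • k) := by
  have h := aut_conj_reflection P g i
  have h2 : g * Equiv.reflection P i = Equiv.reflection P (g • i) * g := by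
    rw [← h]; group
  have h3 := congrArg (fun w : P.Aut => w • k) h2
  simp only [mul_smul, reflection_smul_idx] at h3
  exact h3

lemma reflection_mul_self (a : ι) :
    Equiv.reflection P a * Equiv.reflection P a = 1 := by
  rw [mul_eq_one_iff_eq_inv, Equiv.reflection_inv]

end aut

section base

variable {ι R M N : Type*} [CommRing R] [CharZero R] [IsDomain R] [AddCommGroup M] [Module R M]
  [AddCommGroup N] [Module R N] (P : RootPairing ι R M N) [Finite ι] [P.IsCrystallographic]
  [P.IsReduced] (b : P.Base)

/-- the simple reflections -/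
noncomputable def sref (j : b.support) : P.Aut := Equiv.reflection P (j : ι)

lemma sref_mul_self (j : b.support) : sref P b j * sref P b j = 1 := reflection_mul_self P _

lemma not_isPos_neg {i : ι} (hi : b.IsPos i) : ¬ b.IsPos (P.reflectionPerm i i) := by
  have h := b.height_reflectionPerm_self i
  have h' : b.height (P.reflectionPerm i i) = - b.height i := h
  rw [RootPairing.Base.isPos_iff] at hi ⊢
  rw [h']
  omega

lemma isPos_neg {i : ι} (hi : ¬ b.IsPos i) : b.IsPos (P.reflectionPerm i i) := by
  have h := b.height_reflectionPerm_self i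
  have h' : b.height (P.reflectionPerm i i) = - b.height i := h
  have h0 := b.height_ne_zero i
  rw [RootPairing.Base.isPos_iff] at hi ⊢
  rw [h']
  omega

/-- **Exchange.** -/
theorem exchange : ∀ (l : List b.support) (a : b.support),
    ¬ b.IsPos (wp (sref P b) l • (a : ι)) →
    ∃ (l₁ : List b.support) (u : b.support) (l₂ : List b.support),
      l = l₁ ++ u :: l₂ ∧ wp (sref P b) l₂ • (a : ι) = (u : ι) := by
  intro l
  induction l with
  | nil =>
    intro a h
    exfalso
    apply h
    rw [wp_nil, one_smul]
    exact RootPairing.Base.isPos_of_mem_support a.2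
  | cons u l ih =>
    intro a h
    by_cases hpos : b.IsPos (wp (sref P b) l • (a : ι))
    · refine ⟨[], u, l, rfl, ?_⟩
      by_contra hne
      apply h
      rw [wp_cons, mul_smul]
      exact hpos.reflectionPerm u.2 hne
    · obtain ⟨l₁, u', l₂, hl, hu⟩ := ih a hpos
      exact ⟨u :: l₁, u', l₂, by rw [hl]; rfl, hu⟩

lemma rel_of_smul_eq (l₂ : List b.support) (a u : b.support)
    (h : wp (sref P b) l₂ • (a : ι) = (u : ι)) :
    sref P b u * wp (sref P b) l₂ = wp (sref P b) l₂ * sref P b a := by
  have h1 := aut_conj_reflection P (wp (sref P b) l₂) (a : ι)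
  rw [h] at h1
  have h1' : wp (sref P b) l₂ * sref P b a * (wp (sref P b) l₂)⁻¹ = sref P b u := h1
  rw [← h1']
  group

/-- the exchange condition in the form needed for `wp_eq_one`. -/
theorem hE_sref : ∀ p : List b.support,
    (∃ p' : List b.support, p'.length < p.length ∧ wp (sref P b) p' = wp (sref P b) p) →
      ∃ (l₁ : List b.support) (u : b.support) (l₂ : List b.support) (a : b.support)
        (l₃ : List b.support),
        p = l₁ ++ u :: (l₂ ++ a :: l₃) ∧
          sref P b u * wp (sref P b) l₂ = wp (sref P b) l₂ * sref P b a := by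
  intro p
  induction p using List.reverseRecOn with
  | nil =>
    rintro ⟨p', hp', -⟩
    simp at hp'
  | append_singleton l a ih =>
    rintro ⟨p', hp', hwp⟩
    by_cases hred : ∃ l' : List b.support, l'.length < l.length ∧
        wp (sref P b) l' = wp (sref P b) l
    · obtain ⟨l₁, u, l₂, a', l₃, hl, hrel⟩ := ih hred
      exact ⟨l₁, u, l₂, a', l₃ ++ [a], by rw [hl]; simp, hrel⟩
    · have hneg : ¬ b.IsPos (wp (sref P b) l • (a : ι)) := by
        intro hpos
        apply hred
        have h1 : wp (sref P b) p' = wp (sref P b) l * sref P b a := by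
          rw [hwp, wp_append]; simp
        have h2 : ¬ b.IsPos (wp (sref P b) p' • (a : ι)) := by
          rw [h1, mul_smul]
          have : sref P b a • (a : ι) = P.reflectionPerm a a := rfl
          rw [this, smul_reflectionPerm]
          exact not_isPos_neg P b hpos
        obtain ⟨m₁, u, m₂, hp'd, hu⟩ := exchange P b p' a h2
        have hrel := rel_of_smul_eq P b m₂ a u hu
        refine ⟨m₁ ++ m₂, ?_, ?_⟩
        · rw [hp'd] at hp'
          simp at hp' ⊢
          omega
        · have h3 : wp (sref P b) p' * sref P b a = wp (sref P b) l := by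
            rw [h1, mul_assoc, sref_mul_self, mul_one]
          rw [← h3, hp'd]
          simp only [wp_append, wp_cons]
          rw [mul_assoc, mul_assoc, ← mul_assoc (sref P b u), hrel, mul_assoc, sref_mul_self,
            mul_one]
      obtain ⟨l₁, u, l₂, hl, hu⟩ := exchange P b l a hneg
      exact ⟨l₁, u, l₂, a, [], by rw [hl]; simp, rel_of_smul_eq P b l₂ a u hu⟩

lemma sref_injective : Function.Injective (sref P b) := by
  intro j k hjk
  by_contra hne
  have hne' : (j : ι) ≠ (k : ι) := fun h => hne (Subtype.ext h)
  have hj : b.IsPos (j : ι) := RootPairing.Base.isPos_of_mem_support j.2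
  have h1 : b.IsPos (P.reflectionPerm k j) := hj.reflectionPerm k.2 hne'
  have h2 : ¬ b.IsPos (P.reflectionPerm j j) := not_isPos_neg P b hj
  apply h2
  have : P.reflectionPerm j j = P.reflectionPerm k j := by
    have := congrArg (fun w : P.Aut => w • (j : ι)) hjk
    exact this
  rw [this]
  exact h1

/-- the simple reflections generate the Weyl group -/
lemma closure_sref : Subgroup.closure (Set.range (sref P b)) = P.weylGroup := by
  have hwr : ∀ i, Equiv.weightHom P (Equiv.reflection P i) = P.reflection i := fun i => by
    simp
  have hnegr : ∀ i, Equiv.reflection P (P.reflectionPerm i i) = Equiv.reflection P i := by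
    intro i
    apply Equiv.weightHom_injective
    rw [hwr, hwr]
    ext x
    simp [reflection_apply, two_smul]
  have hconj : ∀ i j, Equiv.reflection P (P.reflectionPerm j i) =
      Equiv.reflection P j * Equiv.reflection P i * Equiv.reflection P j := by
    intro i j
    apply Equiv.weightHom_injective
    rw [map_mul, map_mul, hwr, hwr, hwr, P.reflection_reflectionPerm]
  refine le_antisymm ?_ ?_
  · refine (Subgroup.closure_le _).mpr ?_
    rintro _ ⟨j, rfl⟩
    exact P.reflection_mem_weylGroup _
  · refine (Subgroup.closure_le _).mpr ?_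
    rintro _ ⟨i, rfl⟩
    refine b.induction_reflect i (p := fun i => Equiv.reflection P i ∈
      Subgroup.closure (Set.range (sref P b))) ?_ ?_ ?_
    · intro i hi
      rw [hnegr]
      exact hi
    · intro i hi
      exact Subgroup.subset_closure ⟨⟨i, hi⟩, rfl⟩
    · intro i j hi hj
      rw [hconj]
      have hj' : Equiv.reflection P j ∈ Subgroup.closure (Set.range (sref P b)) :=
        Subgroup.subset_closure ⟨⟨j, hj⟩, rfl⟩
      exact mul_mem (mul_mem hj' hi) hj'

/-- **The Weyl group is a Coxeter group** with the simple reflections as Coxeter generators. -/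
theorem exists_coxeterSystem :
    ∃ (C : CoxeterMatrix ↥b.support) (cs : CoxeterSystem C P.weylGroup),
      (∀ j : ↥b.support, ((cs.simple j : P.weylGroup) : P.Aut) = Equiv.reflection P (j : ι)) ∧
      ∀ j k : ↥b.support,
        C.M j k = orderOf (Equiv.reflection P (j : ι) * Equiv.reflection P (k : ι)) := by
  classical
  have hinv : ∀ j, (sref P b j)⁻¹ = sref P b j := fun j =>
    inv_eq_of_mul_eq_one_left (sref_mul_self P b j)
  let C : CoxeterMatrix b.support :=
    { M := Matrix.of fun j k => orderOf (sref P b j * sref P b k)
      isSymm := by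
        ext j k
        simp only [Matrix.transpose_apply, Matrix.of_apply]
        rw [← orderOf_inv, mul_inv_rev, hinv, hinv]
      diagonal := fun j => by
        show orderOf (sref P b j * sref P b j) = 1
        rw [sref_mul_self, orderOf_one]
      off_diagonal := fun j k hjk h => by
        simp only [Matrix.of_apply] at h
        rw [orderOf_eq_one_iff] at h
        refine hjk (sref_injective P b ?_)
        rw [eq_inv_of_mul_eq_one_left h, hinv] }
  let sW : b.support → P.weylGroup := fun j => ⟨sref P b j, P.reflection_mem_weylGroup j⟩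
  have hlift : C.IsLiftable sW := by
    intro j k
    apply Subtype.ext
    simp only [sW, Subgroup.coe_pow, Subgroup.coe_mul, Subgroup.coe_one]
    exact pow_orderOf_eq_one _
  let cs₀ := C.toCoxeterSystem
  let π : C.Group →* P.weylGroup := cs₀.lift ⟨sW, hlift⟩
  have hπ : ∀ j, π (cs₀.simple j) = sW j := fun j => cs₀.lift_apply_simple hlift j
  have hπl : ∀ l : List b.support,
      ((π (cs₀.wordProd l) : P.weylGroup) : P.Aut) = wp (sref P b) l := by
    intro l
    induction l with
    | nil => simp
    | cons a l ih =>
      rw [cs₀.wordProd_cons, map_mul, hπ, wp_cons, ← ih]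
      rfl
  have hbraid : ∀ (i j : b.support) (n : ℕ), (sref P b i * sref P b j) ^ n = 1 →
      (cs₀.simple i * cs₀.simple j) ^ n = 1 := by
    intro i j n hn
    obtain ⟨c, rfl⟩ := orderOf_dvd_of_pow_eq_one hn
    have := cs₀.simple_mul_simple_pow i j
    rw [pow_mul]
    change (cs₀.simple i * cs₀.simple j) ^ (C.M i j) = 1 at this
    change ((cs₀.simple i * cs₀.simple j) ^ (C.M i j)) ^ c = 1
    rw [this, one_pow]
  have hinj : Function.Injective π := by
    rw [injective_iff_map_eq_one]
    intro g hg
    obtain ⟨l, rfl⟩ := cs₀.wordProd_surjective g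
    have h1 : wp (sref P b) l = 1 := by rw [← hπl, hg]; rfl
    exact wp_eq_one (sref P b) cs₀.simple (sref_mul_self P b) cs₀.simple_mul_simple_self hbraid
      (hE_sref P b) l h1
  have hsurj : Function.Surjective π := by
    have hle : Subgroup.closure (Set.range (sref P b)) ≤
        (π.range).map P.weylGroup.subtype := by
      refine (Subgroup.closure_le _).mpr ?_
      rintro _ ⟨j, rfl⟩
      exact ⟨sW j, ⟨cs₀.simple j, hπ j⟩, rfl⟩
    rintro ⟨w, hw⟩
    obtain ⟨w', ⟨g, rfl⟩, hw'⟩ := hle (by rw [closure_sref]; exact hw)
    exact ⟨g, Subtype.ext hw'⟩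
  let e : C.Group ≃* P.weylGroup := MulEquiv.ofBijective π ⟨hinj, hsurj⟩
  refine ⟨C, ⟨e.symm⟩, ?_, ?_⟩
  · intro j
    have : (CoxeterSystem.simple (⟨e.symm⟩ : CoxeterSystem C P.weylGroup) j) = sW j := by
      simp only [CoxeterSystem.simple, MulEquiv.symm_symm]
      exact hπ j
    rw [this]
    rfl
  · intro j k
    rfl

end base

end Groth.Agent.Lib.Helper8.WH
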