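import Mathlib

set_option autoImplicit false
set_option backward.isDefEq.respectTransparency.types false
set_option linter.unusedSectionVars false

namespace Groth.Agent.Lib.Helper8.WildPS

open PowerSeries

variable {k : Type*} [Field k]

theorem order_eq_iff {f : PowerSeries k} {n : ℕ} :
    f.order = (n : ℕ∞) ↔ ∃ g : PowerSeries k, IsUnit g ∧ f = X ^ n * g := by
  constructor
  · intro h
    have hf : f ≠ 0 := by
      intro h0
      rw [h0, order_zero] at h
      exact ENat.top_ne_natCast n h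
    refine ⟨divXPowOrder f, ?_, ?_⟩
    · rw [isUnit_iff_constantCoeff, isUnit_iff_ne_zero, constantCoeff_divXPowOrder]
      exact coeff_order hf
    · have h1 := X_pow_order_mul_divXPowOrder (f := f)
      rw [h] at h1
      simpa using h1.symm
  · rintro ⟨g, hg, rfl⟩
    rw [order_mul, order_X_pow, order_zero_of_unit hg, add_zero]

theorem X_pow_dvd_iff_le_order {f : PowerSeries k} {n : ℕ} :
    X ^ n ∣ f ↔ (n : ℕ∞) ≤ f.order := by
  constructor
  · rintro ⟨h, rfl⟩
    rw [order_mul, order_X_pow]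
    exact le_self_add
  · intro h
    rw [X_pow_dvd_iff]
    intro i hi
    apply coeff_of_lt_order
    exact lt_of_lt_of_le (by exact_mod_cast hi) h

theorem dvd_of_order_le {f g : PowerSeries k} (hf : f ≠ 0) (h : f.order ≤ g.order) : f ∣ g := by
  have h1 : f.order = ((f.order.toNat : ℕ) : ℕ∞) := (coe_toNat_order hf).symm
  obtain ⟨u, hu, hfu⟩ := order_eq_iff.mp h1
  have h2 : X ^ f.order.toNat ∣ g := by
    rw [X_pow_dvd_iff_le_order, ← h1]
    exact h
  obtain ⟨g', hg'⟩ := h2
  obtain ⟨v, hv⟩ := hu.exists_right_inv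
  refine ⟨v * g', ?_⟩
  rw [hg']
  conv_rhs => rw [hfu]
  calc X ^ f.order.toNat * g' = X ^ f.order.toNat * ((u * v) * g') := by rw [hv, one_mul]
    _ = X ^ f.order.toNat * u * (v * g') := by ring

theorem ne_zero_of_order_eq {f : PowerSeries k} {n : ℕ} (h : f.order = (n : ℕ∞)) : f ≠ 0 := by
  intro h0
  rw [h0, order_zero] at h
  exact ENat.top_ne_natCast n h

theorem exists_order_eq {f : PowerSeries k} (hf : f ≠ 0) : ∃ n : ℕ, f.order = (n : ℕ∞) :=
  ⟨f.order.toNat, (coe_toNat_order hf).symm⟩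

section Auto

variable (σ : PowerSeries k ≃ₐ[k] PowerSeries k)

theorem sigma_C (a : k) : σ (C a) = C a := by
  have h : (C a : PowerSeries k) = algebraMap k (PowerSeries k) a := rfl
  rw [h, σ.commutes]

theorem order_sigma_X : (σ (X : PowerSeries k)).order = 1 := by
  have hp : Prime (σ (X : PowerSeries k)) := (MulEquiv.prime_iff σ).mpr X_prime
  have hX : Irreducible (X : PowerSeries k) := X_prime.irreducible
  obtain ⟨e, he⟩ := IsDiscreteValuationRing.associated_of_irreducible _ hX hp.irreducible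
  rw [← he, order_mul, order_X, order_zero_of_unit e.isUnit, add_zero]

theorem order_sigma (f : PowerSeries k) : (σ f).order = f.order := by
  by_cases hf : f = 0
  · rw [hf, map_zero]
  · obtain ⟨n, hn⟩ := exists_order_eq hf
    obtain ⟨g, hg, rfl⟩ := order_eq_iff.mp hn
    rw [map_mul, map_pow, order_mul, order_mul, order_pow, order_pow, order_sigma_X, order_X,
      order_zero_of_unit hg, order_zero_of_unit (hg.map σ)]

theorem X_dvd_sigma_X : (X : PowerSeries k) ∣ σ X := by
  have h := (X_pow_dvd_iff_le_order (f := σ (X : PowerSeries k)) (n := 1)).mpr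
    (by rw [order_sigma_X]; rfl)
  simpa using h

theorem X_dvd_sigma_sub (g : PowerSeries k) : (X : PowerSeries k) ∣ σ g - g := by
  obtain ⟨w, hw⟩ := X_dvd_sigma_X σ
  have hg := eq_X_mul_shift_add_const g
  set g' : PowerSeries k := mk fun p => coeff (p + 1) g with hg'
  refine ⟨w * σ g' - g', ?_⟩
  conv_lhs => rw [hg]
  rw [map_add, map_mul, sigma_C, hw]
  ring

theorem constantCoeff_sigma (g : PowerSeries k) : constantCoeff (σ g) = constantCoeff g := by
  obtain ⟨w, hw⟩ := X_dvd_sigma_sub σ g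
  have h : σ g = g + X * w := by rw [← hw]; ring
  rw [h, map_add, map_mul, constantCoeff_X, zero_mul, add_zero]

theorem constantCoeff_sigma_pow (i : ℕ) (g : PowerSeries k) :
    constantCoeff ((σ ^ i) g) = constantCoeff g :=
  constantCoeff_sigma (σ ^ i) g

/-- `σ X = X * ε` with `ε` a unit. -/
theorem exists_eps : ∃ ε : PowerSeries k, IsUnit ε ∧ σ X = X * ε := by
  have h := order_eq_iff.mp (show (σ (X : PowerSeries k)).order = ((1 : ℕ) : ℕ∞) by
    rw [order_sigma_X]; rfl)
  simpa using h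

theorem sigma_pow_X {ε : PowerSeries k} (hε : σ X = X * ε) (i : ℕ) :
    (σ ^ i) X = X * ∏ j ∈ Finset.range i, (σ ^ j) ε := by
  induction i with
  | zero => simp
  | succ i ih =>
    rw [pow_succ', AlgEquiv.mul_apply, ih, map_mul, map_prod, hε, Finset.prod_range_succ',
      pow_zero, AlgEquiv.one_apply]
    have : ∀ j, σ ((σ ^ j) ε) = (σ ^ (j + 1)) ε := by
      intro j
      rw [pow_succ', AlgEquiv.mul_apply]
    simp_rw [this]
    ring

section Break

variable {m : ℕ} (hm : (σ X - X : PowerSeries k).order = ((m + 1 : ℕ) : ℕ∞))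
include hm

theorem X_pow_dvd_sigma_sub (j : ℕ) (hj : j ≤ m + 1) (g : PowerSeries k) :
    (X : PowerSeries k) ^ j ∣ σ g - g := by
  induction j generalizing g with
  | zero => simp
  | succ j ih =>
    have hd : (X : PowerSeries k) ^ (j + 1) ∣ σ X - X := by
      rw [X_pow_dvd_iff_le_order, hm]
      exact_mod_cast hj
    have hg := eq_X_mul_shift_add_const g
    set g' : PowerSeries k := mk fun p => coeff (p + 1) g with hg'
    obtain ⟨w, hw⟩ := ih (by omega) g'
    have e : σ g - g = (σ X - X) * σ g' + X * (σ g' - g') := by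
      conv_lhs => rw [hg]
      rw [map_add, map_mul, sigma_C]
      ring
    rw [e]
    apply dvd_add
    · exact Dvd.dvd.mul_right hd _
    · rw [hw, pow_succ']
      exact ⟨w, by ring⟩

theorem one_le_m (p : ℕ) [Fact p.Prime] [CharP k p] (hσp : σ ^ p = 1) : 1 ≤ m := by
  by_contra hcon
  have hm0 : m = 0 := by omega
  subst hm0
  obtain ⟨ε, hεu, hε⟩ := exists_eps σ
  have h1 := sigma_pow_X σ hε p
  rw [hσp, AlgEquiv.one_apply] at h1
  have h2 : ∏ j ∈ Finset.range p, (σ ^ j) ε = 1 := by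
    have h3 : (X : PowerSeries k) * 1 = X * ∏ j ∈ Finset.range p, (σ ^ j) ε := by
      rw [mul_one]; exact h1
    exact (mul_left_cancel₀ X_ne_zero h3).symm
  have h4 : (constantCoeff ε) ^ p = 1 := by
    have := congrArg constantCoeff h2
    rw [map_prod] at this
    simp_rw [constantCoeff_sigma_pow] at this
    rw [Finset.prod_const, Finset.card_range] at this
    simpa using this
  have h5 : (constantCoeff ε - 1) ^ p = 0 := by
    rw [sub_pow_char, h4, one_pow, sub_self]
  have h6 : constantCoeff ε = 1 := by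
    have := pow_eq_zero_iff (Fact.out : p.Prime).ne_zero |>.mp h5
    exact sub_eq_zero.mp this
  -- then X^2 ∣ σ X - X
  have h7 : (X : PowerSeries k) ^ 2 ∣ σ X - X := by
    have h8 : (X : PowerSeries k) ∣ ε - 1 := by
      rw [X_dvd_iff, map_sub, h6]
      simp
    obtain ⟨w, hw⟩ := h8
    refine ⟨w, ?_⟩
    rw [hε]
    have : ε = 1 + X * w := by rw [← hw]; ring
    rw [this]
    ring
  rw [X_pow_dvd_iff_le_order, hm] at h7
  norm_num at h7

omit hm in
theorem natCast_eq_zero_of_dvd (p : ℕ) [Fact p.Prime] [CharP k p] {n : ℕ} (h : p ∣ n) :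
    ((n : ℕ) : PowerSeries k) = 0 := by
  have : ((n : ℕ) : PowerSeries k) = C ((n : ℕ) : k) := (map_natCast C n).symm
  rw [this, (CharP.cast_eq_zero_iff k p n).mpr h, map_zero]

omit hm in
theorem natCast_isUnit_of_not_dvd (p : ℕ) [Fact p.Prime] [CharP k p] {n : ℕ} (h : ¬ p ∣ n) :
    constantCoeff ((n : ℕ) : PowerSeries k) ≠ 0 := by
  have : ((n : ℕ) : PowerSeries k) = C ((n : ℕ) : k) := (map_natCast C n).symm
  rw [this, constantCoeff_C]
  intro h0
  exact h ((CharP.cast_eq_zero_iff k p n).mp h0)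

theorem rule (hm1 : 1 ≤ m) (p : ℕ) [Fact p.Prime] [CharP k p] {f : PowerSeries k} {n : ℕ}
    (hf : f.order = (n : ℕ∞)) :
    (¬ p ∣ n → (σ f - f).order = ((n + m : ℕ) : ℕ∞)) ∧
    (p ∣ n → ((n + m + 1 : ℕ) : ℕ∞) ≤ (σ f - f).order) := by
  obtain ⟨g, hg, rfl⟩ := order_eq_iff.mp hf
  obtain ⟨e, he, hde⟩ := order_eq_iff.mp hm
  have hσX : σ X = X * (1 + X ^ m * e) := by
    have : σ X = X + (σ X - X) := by ring
    rw [this, hde]; ring
  obtain ⟨κ, hκ⟩ := Polynomial.powAddExpansion (1 : PowerSeries k) (X ^ m * e) n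
  obtain ⟨h, hh⟩ := X_pow_dvd_sigma_sub σ hm (m + 1) le_rfl g
  have hσg : σ g = g + X ^ (m + 1) * h := by rw [← hh]; ring
  have key : σ (X ^ n * g) - X ^ n * g =
      X ^ (n + m) * (((n : PowerSeries k) * e + κ * X ^ m * e ^ 2) * σ g + X * h) := by
    rw [map_mul, map_pow, hσX, mul_pow, hκ]
    conv_lhs => rw [show X ^ n * g = X ^ n * (σ g - X ^ (m + 1) * h) by rw [hσg]; ring]
    simp only [one_pow, mul_one]
    ring
  constructor
  · intro hpn
    rw [key, order_eq_iff]
    refine ⟨_, ?_, rfl⟩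
    rw [isUnit_iff_constantCoeff, isUnit_iff_ne_zero]
    have hXm : constantCoeff ((X : PowerSeries k) ^ m) = 0 := by
      rw [map_pow, constantCoeff_X, zero_pow (by omega)]
    rw [map_add, map_mul, map_add, map_mul, map_mul, map_mul, hXm, map_mul, constantCoeff_X]
    simp only [mul_zero, zero_mul, add_zero]
    apply mul_ne_zero (mul_ne_zero (natCast_isUnit_of_not_dvd p hpn) ?_) ?_
    · exact (isUnit_iff_ne_zero.mp (isUnit_iff_constantCoeff.mp he))
    · exact (isUnit_iff_ne_zero.mp (isUnit_iff_constantCoeff.mp (hg.map σ)))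
  · intro hpn
    rw [← X_pow_dvd_iff_le_order, key, natCast_eq_zero_of_dvd p hpn]
    obtain ⟨m', rfl⟩ : ∃ m', m = m' + 1 := ⟨m - 1, by omega⟩
    refine ⟨κ * X ^ m' * e ^ 2 * σ g + h, ?_⟩
    ring

theorem order_sub_of_not_dvd (hm1 : 1 ≤ m) (p : ℕ) [Fact p.Prime] [CharP k p]
    {f : PowerSeries k} {n : ℕ} (hf : f.order = (n : ℕ∞)) (hpn : ¬ p ∣ n) :
    (σ f - f).order = ((n + m : ℕ) : ℕ∞) :=
  (rule σ hm hm1 p hf).1 hpn

theorem dvd_order_of_fixed (hm1 : 1 ≤ m) (p : ℕ) [Fact p.Prime] [CharP k p]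
    {a : PowerSeries k} {n : ℕ} (ha : a.order = (n : ℕ∞)) (hfix : σ a = a) : p ∣ n := by
  by_contra hpn
  have h := order_sub_of_not_dvd σ hm hm1 p ha hpn
  rw [hfix, sub_self, order_zero] at h
  exact ENat.top_ne_natCast _ h

end Break

/-- The norm of `X`. -/
noncomputable def nrm (p : ℕ) : PowerSeries k := ∏ i ∈ Finset.range p, (σ ^ i) X

theorem sigma_nrm (p : ℕ) (hσp : σ ^ p = 1) : σ (nrm σ p) = nrm σ p := by
  unfold nrm
  rw [map_prod]
  have h1 : ∀ j, σ ((σ ^ j) (X : PowerSeries k)) = (σ ^ (j + 1)) X := by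
    intro j
    rw [pow_succ', AlgEquiv.mul_apply]
  simp_rw [h1]
  have h2 := Finset.prod_range_succ (fun i => (σ ^ i) (X : PowerSeries k)) p
  have h3 := Finset.prod_range_succ' (fun i => (σ ^ i) (X : PowerSeries k)) p
  rw [h2] at h3
  simp only [hσp, pow_zero, AlgEquiv.one_apply] at h3
  exact (mul_right_cancel₀ X_ne_zero h3).symm

theorem order_nrm (p : ℕ) : (nrm σ p).order = (p : ℕ∞) := by
  unfold nrm
  rw [order_prod]
  simp_rw [order_sigma_X]
  simp

theorem nrm_ne_zero (p : ℕ) : nrm σ p ≠ 0 := ne_zero_of_order_eq (order_nrm σ p)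

theorem order_nrm_pow (p N : ℕ) : ((nrm σ p) ^ N).order = ((p * N : ℕ) : ℕ∞) := by
  rw [order_pow, order_nrm]
  simp [mul_comm]

theorem sigma_nrm_pow (p : ℕ) (hσp : σ ^ p = 1) (N : ℕ) : σ ((nrm σ p) ^ N) = (nrm σ p) ^ N := by
  rw [map_pow, sigma_nrm σ p hσp]

end Auto

end Groth.Agent.Lib.Helper8.WildPS
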