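import Groth.Agent.Lib.Helper8.WildPS

set_option autoImplicit false
set_option backward.isDefEq.respectTransparency.types false
set_option linter.unusedSectionVars false

namespace Groth.Agent.Lib.Helper8.WildPS

open PowerSeries

variable {k : Type*} [Field k]

theorem charP_ps (p : ℕ) [CharP k p] : CharP (PowerSeries k) p :=
  charP_of_injective_algebraMap (algebraMap k (PowerSeries k)).injective p

variable (σ : PowerSeries k ≃ₐ[k] PowerSeries k)

/-- `T = σ - 1` as a `k`-linear endomorphism. -/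
noncomputable def T : Module.End k (PowerSeries k) := σ.toLinearMap - 1

theorem T_apply (f : PowerSeries k) : T σ f = σ f - f := by
  simp [T]

theorem toLinearMap_pow (i : ℕ) (f : PowerSeries k) :
    ((σ.toLinearMap : Module.End k (PowerSeries k)) ^ i) f = (σ ^ i) f := by
  induction i generalizing f with
  | zero => simp
  | succ i ih =>
    rw [pow_succ', pow_succ', Module.End.mul_apply, ih, AlgEquiv.mul_apply]
    rfl

theorem T_pow_p (p : ℕ) [Fact p.Prime] [CharP k p] (hσp : σ ^ p = 1) : (T σ) ^ p = 0 := by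
  haveI : CharP (Module.End k (PowerSeries k)) p :=
    charP_of_injective_algebraMap (algebraMap k (Module.End k (PowerSeries k))).injective p
  unfold T
  rw [sub_pow_char_of_commute p (Commute.one_right _), one_pow]
  apply LinearMap.ext
  intro f
  rw [LinearMap.sub_apply, toLinearMap_pow, hσp]
  simp

theorem T_pow_succ_apply (i : ℕ) (f : PowerSeries k) :
    ((T σ) ^ (i + 1)) f = σ (((T σ) ^ i) f) - ((T σ) ^ i) f := by
  rw [pow_succ', Module.End.mul_apply, T_apply]

section Break

variable {m : ℕ} (hm : (σ X - X : PowerSeries k).order = ((m + 1 : ℕ) : ℕ∞))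
include hm

theorem order_T_pow (hm1 : 1 ≤ m) (p : ℕ) [Fact p.Prime] [CharP k p] (j : ℕ)
    (hj : m + 1 = p * j) (i : ℕ) (hi : i ≤ p - 1) :
    (((T σ) ^ i) (X ^ (p - 1))).order = ((p - 1 + i * m : ℕ) : ℕ∞) := by
  induction i with
  | zero => simp [order_X_pow]
  | succ i ih =>
    have hp2 := (Fact.out : p.Prime).two_le
    have ih' := ih (by omega)
    rw [T_pow_succ_apply]
    have hnd : ¬ p ∣ (p - 1 + i * m) := by
      intro hd
      have h1 : p ∣ (p - 1 + i * m) + (i + 1) := by
        have : (p - 1 + i * m) + (i + 1) = p * (1 + i * j) := by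
          have : i * (m + 1) = i * (p * j) := by rw [hj]
          have h3 : p - 1 + 1 = p := by omega
          calc (p - 1 + i * m) + (i + 1) = (p - 1 + 1) + i * (m + 1) := by ring
            _ = p + i * (p * j) := by rw [h3, this]
            _ = p * (1 + i * j) := by ring
        rw [this]
        exact dvd_mul_right _ _
      have h2 : p ∣ i + 1 := (Nat.dvd_add_right hd).mp h1
      have := Nat.le_of_dvd (by omega) h2
      omega
    rw [order_sub_of_not_dvd σ hm hm1 p ih' hnd]
    congr 1
    ring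

/-- `S19996`, the direction constructing the uniformizer. -/
theorem exists_unif (p : ℕ) [Fact p.Prime] [CharP k p] (hσp : σ ^ p = 1) (hdiv : p ∣ m + 1) :
    ∃ s a : PowerSeries k, s.order = 1 ∧ σ a = a ∧ σ s = s + a := by
  have hm1 := one_le_m σ hm p hσp
  obtain ⟨j, hj⟩ := hdiv
  have hp2 := (Fact.out : p.Prime).two_le
  obtain ⟨q, rfl⟩ : ∃ q, p = q + 2 := ⟨p - 2, by omega⟩
  set θ : PowerSeries k := X ^ (q + 2 - 1) with hθ
  set y := ((T σ) ^ q) θ with hy
  set t := ((T σ) ^ (q + 1)) θ with ht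
  have hty : t = σ y - y := T_pow_succ_apply σ q θ
  have oy : y.order = ((q + 2 - 1 + q * m : ℕ) : ℕ∞) :=
    order_T_pow σ hm hm1 (q + 2) j hj q (by omega)
  have ot : t.order = ((q + 2 - 1 + (q + 1) * m : ℕ) : ℕ∞) :=
    order_T_pow σ hm hm1 (q + 2) j hj (q + 1) (by omega)
  have hσt : σ t = t := by
    have h1 : ((T σ) ^ (q + 2)) θ = 0 := by
      rw [T_pow_p σ (q + 2) hσp]; rfl
    rw [T_pow_succ_apply] at h1
    exact sub_eq_zero.mp h1
  set x := nrm σ (q + 2) with hx
  have hxne : x ≠ 0 := nrm_ne_zero σ _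
  have hxN : ∀ N, x ^ N ≠ 0 := fun N => pow_ne_zero _ hxne
  -- x^(q j) ∣ y
  have hdvd : x ^ (q * j) ∣ y := by
    apply dvd_of_order_le (hxN _)
    rw [order_nrm_pow, oy]
    have : (q + 2) * (q * j) + 1 = q + 2 - 1 + q * m := by
      have h1 : q * (m + 1) = q * ((q + 2) * j) := by rw [hj]
      have h2 : q + 2 - 1 = q + 1 := by omega
      rw [h2]
      calc (q + 2) * (q * j) + 1 = q * ((q + 2) * j) + 1 := by ring
        _ = q * (m + 1) + 1 := by rw [h1]
        _ = q + 1 + q * m := by ring
    exact_mod_cast (by omega : (q + 2) * (q * j) ≤ q + 2 - 1 + q * m)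
  obtain ⟨s, hs⟩ := hdvd
  have hsne : s ≠ 0 := by
    rintro rfl
    rw [mul_zero] at hs
    exact ne_zero_of_order_eq oy hs
  obtain ⟨ns, hns⟩ := exists_order_eq hsne
  have hs1 : ns = 1 := by
    have h1 := congrArg order hs
    rw [order_mul, order_nrm_pow, oy, hns] at h1
    have h2 : q + 2 - 1 + q * m = (q + 2) * (q * j) + ns := by exact_mod_cast h1
    have h3 : (q + 2) * (q * j) + 1 = q + 2 - 1 + q * m := by
      have h1 : q * (m + 1) = q * ((q + 2) * j) := by rw [hj]
      have h2 : q + 2 - 1 = q + 1 := by omega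
      rw [h2]
      calc (q + 2) * (q * j) + 1 = q * ((q + 2) * j) + 1 := by ring
        _ = q * (m + 1) + 1 := by rw [h1]
        _ = q + 1 + q * m := by ring
    omega
  subst hs1
  refine ⟨s, σ s - s, by rw [hns]; rfl, ?_, by ring⟩
  -- invariance of a = σ s - s
  have hxa : x ^ (q * j) * (σ s - s) = t := by
    rw [hty, hs, map_mul, sigma_nrm_pow σ _ hσp]
    ring
  have h2 : x ^ (q * j) * σ (σ s - s) = x ^ (q * j) * (σ s - s) := by
    have := congrArg σ hxa
    rw [map_mul, sigma_nrm_pow σ _ hσp, hσt] at this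
    rw [this, hxa]
  exact mul_left_cancel₀ (hxN _) h2

/-- `S19996`, the converse direction. -/
theorem dvd_of_unif (p : ℕ) [Fact p.Prime] [CharP k p] (hσp : σ ^ p = 1)
    {s a : PowerSeries k} (hs : s.order = 1) (ha : σ a = a) (hsa : σ s = s + a) : p ∣ m + 1 := by
  have hm1 := one_le_m σ hm p hσp
  have hp2 := (Fact.out : p.Prime).two_le
  have hs' : s.order = ((1 : ℕ) : ℕ∞) := by rw [hs]; rfl
  have hnd : ¬ p ∣ 1 := by
    intro h
    have := Nat.le_of_dvd one_pos h
    omega
  have h1 := order_sub_of_not_dvd σ hm hm1 p hs' hnd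
  have h2 : σ s - s = a := by rw [hsa]; ring
  rw [h2] at h1
  have := dvd_order_of_fixed σ hm hm1 p h1 ha
  rwa [add_comm] at this

/-- Core of `S15813`, inside the power series ring. -/
theorem mu_eq_m (p : ℕ) [Fact p.Prime] [CharP k p] (hσp : σ ^ p = 1)
    (f : PowerSeries k) (hfσ : σ f = f) (hf0 : constantCoeff f ≠ 0)
    (μ : ℕ) (hμ : 0 < μ) (hpμ : ¬ p ∣ μ) (y : PowerSeries k) (N : ℕ)
    (heq : y ^ p * (nrm σ p) ^ μ - y * (nrm σ p) ^ ((p - 1) * N + μ) = f * (nrm σ p) ^ (p * N)) :
    μ = m := by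
  have hm1 := one_le_m σ hm p hσp
  have hp2 := (Fact.out : p.Prime).two_le
  have := charP_ps (k := k) p
  set x := nrm σ p with hx
  have hxne : x ≠ 0 := nrm_ne_zero σ _
  have hxN : ∀ N, x ^ N ≠ 0 := fun N => pow_ne_zero _ hxne
  have hfu : IsUnit f := by
    rw [isUnit_iff_constantCoeff, isUnit_iff_ne_zero]; exact hf0
  have of : f.order = 0 := order_zero_of_unit hfu
  have hfne : f ≠ 0 := hfu.ne_zero
  have hyne : y ≠ 0 := by
    rintro rfl
    have hp0 : p ≠ 0 := by omega
    rw [zero_pow hp0, zero_mul, zero_mul, sub_zero] at heq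
    exact mul_ne_zero hfne (hxN _) heq.symm
  obtain ⟨n, hn⟩ := exists_order_eq hyne
  have oA1 : (y ^ p * x ^ μ).order = ((p * n + p * μ : ℕ) : ℕ∞) := by
    rw [order_mul, order_pow, order_nrm_pow, hn, nsmul_eq_mul]
    push_cast
    ring
  have oA2 : (y * x ^ ((p - 1) * N + μ)).order = ((n + p * ((p - 1) * N + μ) : ℕ) : ℕ∞) := by
    rw [order_mul, order_nrm_pow, hn]
    push_cast
    rfl
  have oB : (f * x ^ (p * N)).order = ((p * (p * N) : ℕ) : ℕ∞) := by
    rw [order_mul, order_nrm_pow, of, zero_add]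
  have e2 : p * ((p - 1) * N + μ) = (p - 1) * (p * N) + p * μ := by ring
  -- n < p N
  have hlt : n < p * N := by
    by_contra hge
    push Not at hge
    have h1 : (p - 1) * (p * N) ≤ (p - 1) * n := Nat.mul_le_mul_left _ hge
    have h3 : p * n = n + (p - 1) * n := by
      have : p = 1 + (p - 1) := by omega
      conv_lhs => rw [this]
      ring
    have h4 : p * (p * N) = p * N + (p - 1) * (p * N) := by
      have hpp : p - 1 + 1 = p := by omega
      calc p * (p * N) = (p - 1 + 1) * (p * N) := by rw [hpp]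
        _ = p * N + (p - 1) * (p * N) := by ring
    have hμ' : 0 < p * μ := Nat.mul_pos (by omega) hμ
    have hmin := min_order_le_order_add (y ^ p * x ^ μ) (-(y * x ^ ((p - 1) * N + μ)))
    rw [← sub_eq_add_neg, heq, order_neg, oA1, oA2, oB] at hmin
    rw [e2, min_le_iff] at hmin
    rcases hmin with h | h
    · have h' : p * n + p * μ ≤ p * (p * N) := by exact_mod_cast h
      omega
    · have h' : n + ((p - 1) * (p * N) + p * μ) ≤ p * (p * N) := by exact_mod_cast h
      omega
  have h1 : (p - 1) * n < (p - 1) * (p * N) := Nat.mul_lt_mul_of_pos_left hlt (by omega)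
  have h3 : p * n = n + (p - 1) * n := by
    have : p = 1 + (p - 1) := by omega
    conv_lhs => rw [this]
    ring
  have hne : (y ^ p * x ^ μ).order ≠ (-(y * x ^ ((p - 1) * N + μ))).order := by
    rw [order_neg, oA1, oA2, e2]
    intro h
    have : p * n + p * μ = n + ((p - 1) * (p * N) + p * μ) := by exact_mod_cast h
    omega
  have hsum := order_add_of_order_ne _ _ hne
  rw [← sub_eq_add_neg, heq, order_neg, oA1, oA2, oB, e2] at hsum
  have hab : ((p * n + p * μ : ℕ) : ℕ∞) ≤ ((n + ((p - 1) * (p * N) + p * μ) : ℕ) : ℕ∞) := by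
    exact_mod_cast (by omega : p * n + p * μ ≤ n + ((p - 1) * (p * N) + p * μ))
  rw [min_eq_left hab] at hsum
  have hsum' : p * (p * N) = p * n + p * μ := by exact_mod_cast hsum
  have hnμ : n + μ = p * N := by
    have : p * (p * N) = p * (n + μ) := by rw [hsum']; ring
    exact (Nat.eq_of_mul_eq_mul_left (by omega) this).symm
  have hpn : ¬ p ∣ n := by
    intro hd
    apply hpμ
    have : p ∣ n + μ := by rw [hnμ]; exact dvd_mul_right _ _
    exact (Nat.dvd_add_right hd).mp this
  set w := σ y - y with hw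
  have ow : w.order = ((n + m : ℕ) : ℕ∞) := order_sub_of_not_dvd σ hm hm1 p hn hpn
  have hwne : w ≠ 0 := ne_zero_of_order_eq ow
  have heq' := congrArg σ heq
  rw [map_sub, map_mul, map_mul, map_mul, map_pow, sigma_nrm_pow σ _ hσp, sigma_nrm_pow σ _ hσp,
    sigma_nrm_pow σ _ hσp, hfσ] at heq'
  have hsub : w ^ p * x ^ μ = w * x ^ ((p - 1) * N + μ) := by
    rw [hw, sub_pow_char]
    have := heq'.trans heq.symm
    linear_combination this
  have hpow : w ^ (p - 1) = x ^ ((p - 1) * N) := by
    have h5 : w ^ (p - 1) * (w * x ^ μ) = x ^ ((p - 1) * N) * (w * x ^ μ) := by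
      have : w ^ p = w ^ (p - 1) * w := by
        conv_lhs => rw [show p = (p - 1) + 1 by omega]
        rw [pow_succ]
      rw [this] at hsub
      rw [pow_add] at hsub
      linear_combination hsub
    exact mul_right_cancel₀ (mul_ne_zero hwne (hxN _)) h5
  obtain ⟨q, hq⟩ : ∃ q, p - 1 = q := ⟨_, rfl⟩
  rw [hq] at hpow
  have ho := congrArg order hpow
  rw [order_pow, order_nrm_pow, ow, nsmul_eq_mul] at ho
  have ho' : (p - 1) * (n + m) = p * ((p - 1) * N) := by
    rw [hq]
    exact_mod_cast ho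
  have : (p - 1) * (n + m) = (p - 1) * (p * N) := by rw [ho']; ring
  have := Nat.eq_of_mul_eq_mul_left (by omega) this
  omega

end Break

end Groth.Agent.Lib.Helper8.WildPS
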