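import Mathlib
import Groth.Agent.Lib.Helper8.Witt1
set_option backward.isDefEq.respectTransparency.types false
set_option autoImplicit false
set_option linter.unusedSectionVars false
set_option linter.style.haveILetI false

namespace Groth.Agent.Lib.Helper8.Witt

open WittVector Function

/-- inverse of `P` modulo `ℓ` with explicit quotient. -/
theorem exists_inv (P ℓ : ℕ) (hP : 0 < P) (hℓ : 0 < ℓ) (h : Nat.Coprime P ℓ) :
    ∃ m k, m ≤ ℓ ∧ k ≤ P ∧ m * P = 1 + k * ℓ := by
  rcases Nat.lt_or_ge 1 ℓ with h1 | h1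
  · obtain ⟨m, hm, h2⟩ := Nat.exists_mul_mod_eq_one_of_coprime h h1
    have h3 := Nat.div_add_mod (P * m) ℓ
    rw [h2] at h3
    refine ⟨m, P * m / ℓ, le_of_lt hm, ?_, ?_⟩
    · by_contra hcon
      have hcon' : P + 1 ≤ P * m / ℓ := by omega
      have h4 : ℓ * (P + 1) ≤ ℓ * (P * m / ℓ) := Nat.mul_le_mul_left _ hcon'
      have h5 : P * m ≤ P * ℓ := Nat.mul_le_mul_left _ (le_of_lt hm)
      nlinarith
    · have h3' : P * m = ℓ * (P * m / ℓ) + 1 := h3.symm
      generalize P * m / ℓ = q at h3'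
      linarith [mul_comm m P, mul_comm ℓ q]
  · have hℓ1 : ℓ = 1 := by omega
    subst hℓ1
    exact ⟨1, P - 1, le_refl _, by omega, by omega⟩

variable {p : ℕ} [hp : Fact p.Prime] {A B : Type*} [CommRing A] [CommRing B]
  [CharP A p] [CharP B p]

local notation "𝕎" => WittVector p

theorem key (f : A →+* B) (n ℓ : ℕ) (hℓ : 0 < ℓ) (hpℓ : Nat.Coprime p ℓ)
    (Y : Finset B) (c : B → A) (hc : ∀ y ∈ Y, f (c y) = y ^ ℓ)
    (co : B → B → A) (hco : ∀ b, b = ∑ y ∈ Y, f (co b y) * y) (η : 𝕎 B) :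
    ∃ X : B → ℕ → 𝕎 A,
      teichmuller p (f ((∏ y ∈ Y, c y) ^ p ^ n)) * η =
        ∑ y ∈ Y, ∑ m ∈ Finset.range (ℓ + 1),
          WittVector.map f (X y m) * (frobenius : 𝕎 B →+* 𝕎 B)^[n] (teichmuller p (y ^ m)) := by
  classical
  -- Stage 1: Teichmüller-type expansion of `η` along `Y`
  let step : 𝕎 B → 𝕎 B := fun r =>
    (r - ∑ y ∈ Y, teichmuller p (f (co (r.coeff 0) y) * y)).shift 1
  let ρ : ℕ → 𝕎 B := fun i => Nat.rec η (fun _ r => step r) i
  have hρ0 : ρ 0 = η := rfl
  have hρs : ∀ i, ρ (i + 1) = step (ρ i) := fun i => rfl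
  let α : ℕ → B → A := fun i y => co ((ρ i).coeff 0) y
  have hstep : ∀ i, ρ i = ∑ y ∈ Y, teichmuller p (f (α i y) * y) + verschiebung (ρ (i + 1)) := by
    intro i
    have h0 : ∀ j < 1, (ρ i - ∑ y ∈ Y, teichmuller p (f (α i y) * y)).coeff j = 0 := by
      intro j hj
      have hj0 : j = 0 := by omega
      subst hj0
      have h1 : (ρ i - ∑ y ∈ Y, teichmuller p (f (α i y) * y)).coeff 0 =
          WittVector.constantCoeff (ρ i - ∑ y ∈ Y, teichmuller p (f (α i y) * y)) := rfl
      rw [h1, map_sub, map_sum]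
      have h2 : ∀ y ∈ Y, WittVector.constantCoeff (teichmuller p (f (α i y) * y)) =
          f (α i y) * y := fun y _ => teichmuller_coeff_zero p _
      rw [Finset.sum_congr rfl h2]
      have h3 : WittVector.constantCoeff (ρ i) = (ρ i).coeff 0 := rfl
      rw [h3, sub_eq_zero]
      exact hco _
    have h4 := eq_iterate_verschiebung h0
    rw [iterate_one] at h4
    rw [hρs i]
    change ρ i = _ + verschiebung ((ρ i - ∑ y ∈ Y, teichmuller p (f (α i y) * y)).shift 1)
    rw [← h4]; ring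
  have hexp : ∀ I, η = ∑ i ∈ Finset.range I,
      (verschiebung : 𝕎 B →+ 𝕎 B)^[i] (∑ y ∈ Y, teichmuller p (f (α i y) * y))
      + (verschiebung : 𝕎 B →+ 𝕎 B)^[I] (ρ I) := by
    intro I
    induction I with
    | zero => simp [hρ0]
    | succ I ih =>
      rw [Finset.sum_range_succ, add_assoc]
      have h1 : (verschiebung : 𝕎 B →+ 𝕎 B)^[I + 1] (ρ (I + 1)) =
          (verschiebung : 𝕎 B →+ 𝕎 B)^[I] (verschiebung (ρ (I + 1))) :=
        iterate_succ_apply _ _ _
      rw [h1, ← iterate_verschiebung_add, ← hstep I]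
      exact ih
  -- Stage 2: numerology
  have hPpos : ∀ i, 0 < p ^ (n + i) := fun i => pow_pos hp.out.pos _
  have hcop : ∀ i, Nat.Coprime (p ^ (n + i)) ℓ := fun i => Nat.Coprime.pow_left _ hpℓ
  choose mm kk hmℓ hkP hmk using fun i => exists_inv (p ^ (n + i)) ℓ (hPpos i) hℓ (hcop i)
  let c₀ : A := ∏ y ∈ Y, c y
  let d : B → A := fun y => ∏ y' ∈ Y.erase y, c y'
  have hcd : ∀ y ∈ Y, c y * d y = c₀ := fun y hy => Finset.mul_prod_erase Y c hy
  let β : ℕ → B → A := fun i y =>
    α i y * (d y) ^ (p ^ (n + i)) * (c y) ^ (p ^ (n + i) - kk i)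
  have hβ : ∀ i, ∀ y ∈ Y, β i y * (c y) ^ (kk i) = α i y * c₀ ^ (p ^ (n + i)) := by
    intro i y hy
    simp only [β]
    rw [mul_assoc, ← pow_add, Nat.sub_add_cancel (hkP i), mul_assoc, ← mul_pow, mul_comm (d y),
      hcd y hy]
  let a : A := c₀ ^ p ^ n
  let Fn : B → 𝕎 B := fun b => (frobenius : 𝕎 B →+* 𝕎 B)^[n] (teichmuller p b)
  -- the term identity
  have hterm : ∀ i, ∀ y ∈ Y,
      teichmuller p (f a) * (verschiebung : 𝕎 B →+ 𝕎 B)^[i] (teichmuller p (f (α i y) * y)) =
        WittVector.map f ((verschiebung : 𝕎 A →+ 𝕎 A)^[i] (teichmuller p (β i y))) *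
          Fn (y ^ mm i) := by
    intro i y hy
    rw [mul_comm, iterate_verschiebung_mul_left, iterate_frobenius_teichmuller, ← map_mul]
    rw [map_iterate_verschiebung, map_teichmuller]
    simp only [Fn]
    rw [iterate_verschiebung_mul_left, ← iterate_add_apply, iterate_frobenius_teichmuller,
      ← map_mul]
    congr 2
    -- identity in `B`
    have h1 : f a ^ p ^ i = f (c₀ ^ p ^ (n + i)) := by
      simp only [a]
      rw [← map_pow, ← pow_mul, ← pow_add]
    have h2 : (y ^ mm i) ^ p ^ (i + n) = y * f (c y) ^ kk i := by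
      rw [← pow_mul, add_comm i n, hmk i, pow_add, pow_one, hc y hy, ← pow_mul, mul_comm ℓ]
    have h3 : f (β i y) * f (c y) ^ kk i = f (α i y) * f (c₀ ^ p ^ (n + i)) := by
      rw [← map_pow, ← map_mul, hβ i y hy, map_mul]
    rw [h1, h2]
    calc f (α i y) * y * f (c₀ ^ p ^ (n + i)) = y * (f (α i y) * f (c₀ ^ p ^ (n + i))) := by ring
      _ = y * (f (β i y) * f (c y) ^ kk i) := by rw [h3]
      _ = f (β i y) * (y * f (c y) ^ kk i) := by ring
  -- the candidate coefficient vectors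
  let X : B → ℕ → 𝕎 A := fun y m => WittVector.mk p (fun i => if mm i = m then β i y else 0)
  refine ⟨X, ?_⟩
  rw [← sub_eq_zero]
  apply eq_zero_of_forall_inV
  intro I
  -- the common partial sum
  let RHS : 𝕎 B := ∑ i ∈ Finset.range I, ∑ y ∈ Y,
    WittVector.map f ((verschiebung : 𝕎 A →+ 𝕎 A)^[i] (teichmuller p (β i y))) * Fn (y ^ mm i)
  have hA : InV I (teichmuller p (f a) * η - RHS) := by
    have h1 : teichmuller p (f a) * η = RHS +
        teichmuller p (f a) * (verschiebung : 𝕎 B →+ 𝕎 B)^[I] (ρ I) := by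
      conv_lhs => rw [hexp I]
      rw [mul_add, Finset.mul_sum]
      congr 1
      apply Finset.sum_congr rfl
      intro i _
      rw [iterate_verschiebung_sum, Finset.mul_sum]
      exact Finset.sum_congr rfl (fun y hy => hterm i y hy)
    rw [h1, add_sub_cancel_left]
    exact (inV_iterate I _).mul_left _
  have hB : InV I ((∑ y ∈ Y, ∑ m ∈ Finset.range (ℓ + 1),
      WittVector.map f (X y m) * Fn (y ^ m)) - RHS) := by
    have h1 : RHS = ∑ y ∈ Y, ∑ m ∈ Finset.range (ℓ + 1),
        WittVector.map f (∑ i ∈ Finset.range I,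
          (verschiebung : 𝕎 A →+ 𝕎 A)^[i] (teichmuller p ((X y m).coeff i))) * Fn (y ^ m) := by
      simp only [RHS]
      rw [Finset.sum_comm]
      apply Finset.sum_congr rfl
      intro y _
      simp only [map_sum, Finset.sum_mul]
      rw [Finset.sum_comm]
      apply Finset.sum_congr rfl
      intro i _
      have h2 : ∀ m ∈ Finset.range (ℓ + 1),
          WittVector.map f ((verschiebung : 𝕎 A →+ 𝕎 A)^[i]
            (teichmuller p ((X y m).coeff i))) * Fn (y ^ m) =
          if mm i = m then WittVector.map f ((verschiebung : 𝕎 A →+ 𝕎 A)^[i]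
            (teichmuller p (β i y))) * Fn (y ^ mm i) else 0 := by
        intro m _
        simp only [X, coeff_mk]
        by_cases hm : mm i = m
        · rw [if_pos hm, if_pos hm, hm]
        · rw [if_neg hm, if_neg hm, teichmuller_zero, iterate_verschiebung_zero, map_zero,
            zero_mul]
      rw [Finset.sum_congr rfl h2, Finset.sum_ite_eq, if_pos]
      exact Finset.mem_range.mpr (Nat.lt_succ_of_le (hmℓ i))
    rw [h1, ← Finset.sum_sub_distrib]
    apply InV.sum
    intro y _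
    rw [← Finset.sum_sub_distrib]
    apply InV.sum
    intro m _
    rw [← sub_mul, ← map_sub]
    exact ((sub_sum_inV (X y m) I).map f).mul_right _
  have := hA.sub hB
  rwa [sub_sub_sub_cancel_right] at this

end Groth.Agent.Lib.Helper8.Witt
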