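import Mathlib
import Groth.Agent.Lib.Helper8.Witt2
set_option backward.isDefEq.respectTransparency.types false
set_option autoImplicit false
set_option linter.unusedSectionVars false
set_option linter.style.haveILetI false

namespace Groth.Agent.Lib.Helper8.Witt

open WittVector Function

universe u v

theorem main587
    (p : ℕ) [Fact p.Prime] (ℓ n : ℕ) (hℓ : 0 < ℓ) (hpℓ : ¬ p ∣ ℓ)
    (A B : Type u) [CommRing A] [CommRing B] [IsDomain A] [IsDomain B] [Algebra A B]
    [CharP A p] [CharP B p] (hinj : Function.Injective (algebraMap A B))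
    (y : Finset B) (hspan : Submodule.span A (y : Set B) = ⊤)
    (hpow : ∀ b ∈ y, b ^ ℓ ∈ Set.range (algebraMap A B))
    (η : WittVector p B) :
    ∃ a : A, a ≠ 0 ∧ WittVector.teichmuller p (algebraMap A B a) *
      ((⇑(WittVector.verschiebung : WittVector p B →+ WittVector p B))^[n] η) ∈
      Ideal.span (Set.range (fun x : WittVector p A =>
        WittVector.map (algebraMap A B) ((⇑(WittVector.verschiebung :
          WittVector p A →+ WittVector p A))^[n] x))) := by
  classical
  have hp : p.Prime := Fact.out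
  let f := algebraMap A B
  -- drop zero from the generating set
  let Y : Finset B := y.erase 0
  have hYspan : Submodule.span A (Y : Set B) = ⊤ := by
    rw [eq_top_iff, ← hspan, Submodule.span_le]
    intro b hb
    by_cases hb0 : b = 0
    · rw [hb0]; exact Submodule.zero_mem _
    · exact Submodule.subset_span (Finset.mem_erase.mpr ⟨hb0, hb⟩)
  have hcex : ∀ b : B, ∃ a : A, b ∈ y → f a = b ^ ℓ := by
    intro b
    by_cases hb : b ∈ y
    · obtain ⟨a, ha⟩ := hpow b hb
      exact ⟨a, fun _ => ha⟩
    · exact ⟨0, fun h => absurd h hb⟩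
  choose c hc using hcex
  have hcY : ∀ b ∈ Y, f (c b) = b ^ ℓ := fun b hb => hc b (Finset.mem_of_mem_erase hb)
  have hcne : ∀ b ∈ Y, c b ≠ 0 := by
    intro b hb h0
    have h1 := hcY b hb
    rw [h0, map_zero] at h1
    exact (Finset.mem_erase.mp hb).1 (pow_eq_zero_iff (Nat.pos_iff_ne_zero.mp hℓ) |>.mp h1.symm)
  have hcoex : ∀ b : B, ∃ g : B → A, b = ∑ z ∈ Y, f (g z) * z := by
    intro b
    have hb : b ∈ Submodule.span A (Y : Set B) := by rw [hYspan]; exact Submodule.mem_top
    obtain ⟨g, -, hg⟩ := Submodule.mem_span_finset.mp hb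
    refine ⟨g, ?_⟩
    rw [← hg]
    apply Finset.sum_congr rfl
    intro z _
    rw [Algebra.smul_def]
  choose co hco using hcoex
  have hcop : Nat.Coprime p ℓ := (Nat.Prime.coprime_iff_not_dvd hp).mpr hpℓ
  obtain ⟨X, hX⟩ := key (p := p) f n ℓ hℓ hcop Y c hcY co hco η
  refine ⟨∏ z ∈ Y, c z, Finset.prod_ne_zero_iff.mpr hcne, ?_⟩
  have h1 : WittVector.teichmuller p (f (∏ z ∈ Y, c z)) *
      ((⇑(WittVector.verschiebung : WittVector p B →+ WittVector p B))^[n] η) =
      (⇑(WittVector.verschiebung : WittVector p B →+ WittVector p B))^[n]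
        (WittVector.teichmuller p (f ((∏ z ∈ Y, c z) ^ p ^ n)) * η) := by
    rw [mul_comm, iterate_verschiebung_mul_left, iterate_frobenius_teichmuller, mul_comm,
      map_pow f]
  rw [h1, hX, iterate_verschiebung_sum]
  apply Ideal.sum_mem
  intro z _
  rw [iterate_verschiebung_sum]
  apply Ideal.sum_mem
  intro m _
  rw [← iterate_verschiebung_mul_left, ← map_iterate_verschiebung]
  apply Ideal.mul_mem_right
  exact Ideal.subset_span ⟨X z m, rfl⟩

theorem main588
    (p : ℕ) [Fact p.Prime] (ℓ n : ℕ) (hℓ : 0 < ℓ) (hpℓ : ¬ p ∣ ℓ)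
    (A B : Type u) [CommRing A] [CommRing B] [IsDomain A] [IsDomain B] [Algebra A B]
    [CharP A p] [CharP B p] (hinj : Function.Injective (algebraMap A B))
    (y : Finset B) (hspan : Submodule.span A (y : Set B) = ⊤)
    (hpow : ∀ b ∈ y, b ^ ℓ ∈ Set.range (algebraMap A B))
    (M : Type v) [AddCommGroup M] [Module (WittVector p A) M]
    (hMn : ∀ (x : WittVector p A) (m : M),
      ((⇑(WittVector.verschiebung : WittVector p A →+ WittVector p A))^[n] x) • m = 0)
    (htf : ∀ a : A, a ≠ 0 → ∀ m : M, WittVector.teichmuller p a • m = 0 → m = 0)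
    (ψ : WittVector p B →+ M)
    (hψ : ∀ (x : WittVector p A) (w : WittVector p B),
      ψ (WittVector.map (algebraMap A B) x * w) = x • ψ w)
    (η : WittVector p B) :
    ψ ((⇑(WittVector.verschiebung : WittVector p B →+ WittVector p B))^[n] η) = 0 := by
  obtain ⟨a, ha, hmem⟩ := main587 p ℓ n hℓ hpℓ A B hinj y hspan hpow η
  apply htf a ha
  rw [← hψ, map_teichmuller]
  -- `ψ` kills the ideal
  have hkill : ∀ z ∈ Ideal.span (Set.range (fun x : WittVector p A =>
        WittVector.map (algebraMap A B) ((⇑(WittVector.verschiebung :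
          WittVector p A →+ WittVector p A))^[n] x))), ∀ w : WittVector p B, ψ (w * z) = 0 := by
    intro z hz
    refine Submodule.span_induction ?_ ?_ ?_ ?_ hz
    · rintro _ ⟨x, rfl⟩ w
      rw [mul_comm, hψ, hMn]
    · intro w
      rw [mul_zero, map_zero]
    · intro u v _ _ hu hv w
      rw [mul_add, map_add, hu, hv, add_zero]
    · intro w' u _ hu w
      rw [smul_eq_mul, ← mul_assoc]
      exact hu _
  have := hkill _ hmem 1
  rwa [one_mul] at this

end Groth.Agent.Lib.Helper8.Witt
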