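import Mathlib
import Groth.Prelude.Def_Curves

set_option backward.isDefEq.respectTransparency.types false
set_option autoImplicit false
set_option linter.unusedSectionVars false
set_option linter.style.haveILetI false

universe u

open CategoryTheory CategoryTheory.Limits AlgebraicGeometry

namespace Groth.Agent.Lib.Helper8.ZFL

section Alg

open Polynomial

/-- over an absolutely integrally closed ring, an integral element of a domain comes from the
base. -/
theorem mem_range_of_isIntegral {A D : Type*} [CommRing A] [CommRing D] [IsDomain D] [Algebra A D]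
    (hA : Curves.IsAIC A) (c : D) (hc : IsIntegral A c) : c ∈ Set.range (algebraMap A D) := by
  obtain ⟨f, hf, hfc⟩ := hc
  have key : ∀ n : ℕ, ∀ f : A[X], f.Monic → f.natDegree = n → eval₂ (algebraMap A D) c f = 0 →
      c ∈ Set.range (algebraMap A D) := by
    intro n
    induction n with
    | zero =>
      intro f hf hn h0
      have h1 : f = 1 := by
        rw [Polynomial.eq_C_of_natDegree_eq_zero hn] 
        have := hf.leadingCoeff
        rw [Polynomial.leadingCoeff, hn] at this
        rw [this, map_one]
      rw [h1, eval₂_one] at h0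
      exact (one_ne_zero h0).elim
    | succ n ih =>
      intro f hf hn h0
      haveI : Nontrivial A := (algebraMap A D).domain_nontrivial
      obtain ⟨r, hr⟩ := hA f hf (by omega)
      have hroot : f.IsRoot r := hr
      have hfac : (X - C r) * (f /ₘ (X - C r)) = f := mul_divByMonic_eq_iff_isRoot.mpr hroot
      have hqm : (f /ₘ (X - C r)).Monic := by
        refine Monic.of_mul_monic_left (monic_X_sub_C r) ?_
        rw [hfac]; exact hf
      have hdeg : (f /ₘ (X - C r)).natDegree = n := by
        have := natDegree_divByMonic f (monic_X_sub_C r)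
        rw [this, natDegree_X_sub_C, hn]; rfl
      rw [← hfac, eval₂_mul, eval₂_sub, eval₂_X, eval₂_C] at h0
      rcases mul_eq_zero.mp h0 with h | h
      · exact ⟨r, (sub_eq_zero.mp h).symm⟩
      · exact ih _ hqm hdeg h
  exact key _ f hf rfl hfc

/-- a finite algebra over an AIC domain with a prime over `⊥` has a retraction. -/
theorem exists_retraction {A B : Type*} [CommRing A] [IsDomain A] [CommRing B] (φ : A →+* B)
    (hφ : φ.IsIntegral) (hA : Curves.IsAIC A) (q : Ideal B) [q.IsPrime]
    (hq : q.comap φ = ⊥) : ∃ ρ : B →+* A, ρ.comp φ = RingHom.id A := by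
  algebraize [φ]
  let ψ : A →+* B ⧸ q := (Ideal.Quotient.mk q).comp φ
  have hinj : Function.Injective ψ := by
    rw [injective_iff_map_eq_zero]
    intro a ha
    have : a ∈ q.comap φ := by
      rw [Ideal.mem_comap]
      exact Ideal.Quotient.eq_zero_iff_mem.mp ha
    rw [hq] at this
    exact this
  have hsurj : Function.Surjective ψ := by
    intro c
    obtain ⟨b, rfl⟩ := Ideal.Quotient.mk_surjective c
    letI : Algebra A (B ⧸ q) := ψ.toAlgebra
    have hint : IsIntegral A (Ideal.Quotient.mk q b) := by
      have h1 : IsIntegral A b := hφ b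
      obtain ⟨f, hf, hfb⟩ := h1
      refine ⟨f, hf, ?_⟩
      have : eval₂ ψ (Ideal.Quotient.mk q b) f = Ideal.Quotient.mk q (eval₂ φ b f) := by
        rw [Polynomial.hom_eval₂]
      change eval₂ ψ (Ideal.Quotient.mk q b) f = 0
      rw [this]
      change Ideal.Quotient.mk q (eval₂ (algebraMap A B) b f) = 0
      rw [hfb, map_zero]
    exact mem_range_of_isIntegral hA _ hint
  let e : A ≃+* B ⧸ q := RingEquiv.ofBijective ψ ⟨hinj, hsurj⟩
  refine ⟨e.symm.toRingHom.comp (Ideal.Quotient.mk q), ?_⟩
  ext a
  change e.symm (ψ a) = a
  exact e.symm_apply_apply a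

end Alg

end Groth.Agent.Lib.Helper8.ZFL
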