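import Mathlib
import Groth.Agent.Lib.Helper8.ZFL1

set_option backward.isDefEq.respectTransparency.types false
set_option autoImplicit false
set_option linter.unusedSectionVars false
set_option linter.style.haveILetI false

universe u

open CategoryTheory CategoryTheory.Limits AlgebraicGeometry

namespace Groth.Agent.Lib.Helper8.ZFL

/-- local for the coverings given by jointly surjective families of `Q`-morphisms. -/
def LocalFor (Q : MorphismProperty Scheme.{u}) (P : Scheme.{u}) : Prop :=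
  ∀ (X : Scheme.{u}) (R : Presieve X), R ∈ Scheme.precoverage Q X →
    ∀ g : P ⟶ X, ∃ (Y : Scheme.{u}) (w : Y ⟶ X) (h : P ⟶ Y), R w ∧ h ≫ w = g

theorem LocalFor.of_iso {Q : MorphismProperty Scheme.{u}} {P P' : Scheme.{u}} (e : P' ≅ P)
    (h : LocalFor Q P) : LocalFor Q P' := by
  intro X R hR g
  obtain ⟨Y, w, k, hw, hk⟩ := h X R hR (e.inv ≫ g)
  exact ⟨Y, w, e.hom ≫ k, hw, by rw [Category.assoc, hk, Iso.hom_inv_id_assoc]⟩

/-- a section of `Spec φ` gives a retraction of `φ`. -/
theorem exists_retraction_of_section {A B : CommRingCat.{u}} (φ : A ⟶ B)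
    (h : Spec A ⟶ Spec B) (hh : h ≫ Spec.map φ = 𝟙 _) : ∃ ψ : B ⟶ A, φ ≫ ψ = 𝟙 A := by
  refine ⟨Spec.preimage h, ?_⟩
  apply Spec.map_injective
  rw [Spec.map_comp, Spec.map_preimage, hh, Spec.map_id]

section Forward

variable {P : Scheme.{u}}

theorem nonempty_of_localFor {Q : MorphismProperty Scheme.{u}} (h : LocalFor Q P) :
    Nonempty P := by
  by_contra hne
  rw [not_nonempty_iff] at hne
  obtain ⟨Y, w, k, hw, -⟩ := h P ⊥ (Scheme.bot_mem_precoverage Q P) (𝟙 P)
  exact hw

theorem isAffine_of_localFor [QuasiSeparatedSpace P]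
    (h : LocalFor (@IsOpenImmersion ⊓ @QuasiCompact) P) : IsAffine P := by
  have hmem : Presieve.ofArrows (fun U : P.affineOpens => (U.1 : Scheme.{u}))
      (fun U => U.1.ι) ∈ Scheme.precoverage (@IsOpenImmersion ⊓ @QuasiCompact) P := by
    rw [Scheme.ofArrows_mem_precoverage_iff]
    refine ⟨fun x => ?_, fun U => ?_⟩
    · obtain ⟨W, hW, hxW, -⟩ := exists_isAffineOpen_mem_and_subset (X := P) (x := x) (U := ⊤) trivial
      refine ⟨⟨W, hW⟩, ?_⟩
      rw [Scheme.Opens.range_ι]
      exact hxW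
    · haveI : IsAffine (U.1 : Scheme.{u}) := U.2
      exact ⟨inferInstance, inferInstance⟩
  obtain ⟨Y, w, k, hw, hk⟩ := h P _ hmem (𝟙 P)
  obtain ⟨U⟩ := hw
  haveI : IsAffine (U.1 : Scheme.{u}) := U.2
  have h2 : U.1.ι ≫ k = 𝟙 _ := by
    rw [← cancel_mono U.1.ι, Category.assoc, hk, Category.comp_id, Category.id_comp]
  haveI : IsIso k := ⟨⟨U.1.ι, hk, h2⟩⟩
  exact IsAffine.of_isIso k

end Forward

section ForwardSpec

variable {A : CommRingCat.{u}}

theorem isLocalRing_of_localFor [Nontrivial A]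
    (h : LocalFor (@IsOpenImmersion ⊓ @QuasiCompact) (Spec A)) : IsLocalRing A := by
  refine IsLocalRing.of_isUnit_or_isUnit_one_sub_self (fun a => ?_)
  let c : Bool → A := fun b => cond b a (1 - a)
  let φ : ∀ b : Bool, A ⟶ CommRingCat.of (Localization.Away (c b)) :=
    fun b => CommRingCat.ofHom (algebraMap A (Localization.Away (c b)))
  have hmem : Presieve.ofArrows (fun b : Bool => Spec (CommRingCat.of (Localization.Away (c b))))
      (fun b => Spec.map (φ b)) ∈ Scheme.precoverage (@IsOpenImmersion ⊓ @QuasiCompact) (Spec A) := by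
    rw [Scheme.ofArrows_mem_precoverage_iff]
    refine ⟨fun x => ?_, fun b => ⟨?_, ?_⟩⟩
    · have hx : a ∉ x.asIdeal ∨ (1 - a) ∉ x.asIdeal := by
        by_contra hcon
        push Not at hcon
        have : (1 : A) ∈ x.asIdeal := by
          have := x.asIdeal.add_mem hcon.1 hcon.2
          simpa using this
        exact x.2.ne_top ((Ideal.eq_top_iff_one _).mpr this)
      rcases hx with hx | hx
      · refine ⟨true, ?_⟩
        change x ∈ Set.range (PrimeSpectrum.comap (algebraMap A (Localization.Away (c true))))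
        rw [PrimeSpectrum.localization_away_comap_range (Localization.Away (c true)) (c true)]
        exact hx
      · refine ⟨false, ?_⟩
        change x ∈ Set.range (PrimeSpectrum.comap (algebraMap A (Localization.Away (c false))))
        rw [PrimeSpectrum.localization_away_comap_range (Localization.Away (c false)) (c false)]
        exact hx
    · exact IsOpenImmersion.of_isLocalization (c b)
    · infer_instance
  obtain ⟨Y, w, k, hw, hk⟩ := h _ _ hmem (𝟙 _)
  obtain ⟨b⟩ := hw
  obtain ⟨ψ, hψ⟩ := exists_retraction_of_section (φ b) k hk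
  have hu : IsUnit (c b) := by
    have h1 : IsUnit ((φ b).hom (c b)) := IsLocalization.Away.algebraMap_isUnit (c b)
    have h2 := h1.map ψ.hom
    have h3 : ψ.hom ((φ b).hom (c b)) = c b := by
      change (φ b ≫ ψ).hom (c b) = c b
      rw [hψ]; rfl
    rwa [h3] at h2
  cases b
  · exact Or.inr hu
  · exact Or.inl hu

theorem isDomain_of_localFor [Nontrivial A] (h : LocalFor @IsFinite (Spec A)) : IsDomain A := by
  let φ : ∀ p : PrimeSpectrum A, A ⟶ CommRingCat.of (A ⧸ p.asIdeal) :=
    fun p => CommRingCat.ofHom (Ideal.Quotient.mk p.asIdeal)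
  have hmem : Presieve.ofArrows (fun p : PrimeSpectrum A => Spec (CommRingCat.of (A ⧸ p.asIdeal)))
      (fun p => Spec.map (φ p)) ∈ Scheme.precoverage @IsFinite (Spec A) := by
    rw [Scheme.ofArrows_mem_precoverage_iff]
    refine ⟨fun x => ⟨x, ?_⟩, fun p => ?_⟩
    · change x ∈ Set.range (PrimeSpectrum.comap (Ideal.Quotient.mk x.asIdeal))
      rw [_root_.range_comap_of_surjective _ _ Ideal.Quotient.mk_surjective,
        Ideal.mk_ker]
      exact (PrimeSpectrum.mem_zeroLocus (x : PrimeSpectrum A) _).mpr (le_refl _)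
    · rw [IsFinite.SpecMap_iff]
      exact RingHom.Finite.of_surjective _ Ideal.Quotient.mk_surjective
  obtain ⟨Y, w, k, hw, hk⟩ := h _ _ hmem (𝟙 _)
  obtain ⟨p⟩ := hw
  obtain ⟨ψ, hψ⟩ := exists_retraction_of_section (φ p) k hk
  have hinj : Function.Injective (Ideal.Quotient.mk p.asIdeal) := by
    intro a b hab
    have h3 : ∀ x : A, ψ.hom ((φ p).hom x) = x := by
      intro x
      change (φ p ≫ ψ).hom x = x
      rw [hψ]; rfl
    rw [← h3 a, ← h3 b]
    exact congrArg ψ.hom hab
  have hbot : p.asIdeal = ⊥ := by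
    rw [← Ideal.mk_ker (I := p.asIdeal)]
    exact (RingHom.injective_iff_ker_eq_bot _).mp hinj
  have : (⊥ : Ideal A).IsPrime := hbot ▸ p.2
  exact IsDomain.of_bot_isPrime A

theorem isAIC_of_localFor [IsDomain A] (h : LocalFor @IsFinite (Spec A)) : Curves.IsAIC A := by
  intro f hf hdeg
  let B := AdjoinRoot f
  let φ : A ⟶ CommRingCat.of B := CommRingCat.ofHom (algebraMap A B)
  haveI : Module.Finite A B := hf.finite_adjoinRoot
  haveI : Algebra.IsIntegral A B := Algebra.IsIntegral.of_finite A B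
  have hinj : Function.Injective (algebraMap A B) :=
    AdjoinRoot.of.injective_of_degree_ne_zero (by
      rw [Polynomial.degree_eq_natDegree hf.ne_zero]
      intro h0
      have : f.natDegree = 0 := by exact_mod_cast h0
      omega)
  have hmem : Presieve.singleton (Spec.map φ) ∈ Scheme.precoverage @IsFinite (Spec A) := by
    rw [Scheme.singleton_mem_precoverage_iff]
    refine ⟨fun x => ?_, ?_⟩
    · haveI : x.asIdeal.IsPrime := x.2
      obtain ⟨Q, -, hQ, hQx⟩ := Ideal.exists_ideal_over_prime_of_isIntegral x.asIdeal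
        (⊥ : Ideal B) (by
          rw [← RingHom.ker_eq_comap_bot, (RingHom.injective_iff_ker_eq_bot _).mp hinj]
          exact bot_le)
      refine ⟨(⟨Q, hQ⟩ : PrimeSpectrum B), ?_⟩
      exact PrimeSpectrum.ext hQx
    · rw [IsFinite.SpecMap_iff]
      exact RingHom.finite_algebraMap.mpr inferInstance
  obtain ⟨Y, w, k, hw, hk⟩ := h _ _ hmem (𝟙 _)
  obtain ⟨⟩ := hw
  obtain ⟨ψ, hψ⟩ := exists_retraction_of_section φ k hk
  refine ⟨ψ.hom (AdjoinRoot.root f), ?_⟩
  have h3 : ∀ x : A, ψ.hom (algebraMap A B x) = x := by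
    intro x
    change (φ ≫ ψ).hom x = x
    rw [hψ]; rfl
  have h4 : Polynomial.eval₂ (ψ.hom.comp (algebraMap A B)) (ψ.hom (AdjoinRoot.root f)) f = 0 := by
    rw [← Polynomial.hom_eval₂]
    have : Polynomial.eval₂ (algebraMap A B) (AdjoinRoot.root f) f = 0 := by
      have := AdjoinRoot.eval₂_root f
      exact this
    rw [this, map_zero]
  have h5 : ψ.hom.comp (algebraMap A B) = RingHom.id A := RingHom.ext h3
  rw [h5] at h4
  rw [Polynomial.eval₂_id] at h4
  exact h4

end ForwardSpec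

section Backward

variable {A : CommRingCat.{u}}

theorem localFor_zariski_Spec [IsLocalRing A] :
    LocalFor (@IsOpenImmersion ⊓ @QuasiCompact) (Spec A) := by
  intro X R hR g
  obtain ⟨Y, w, hw, y, hy⟩ := (Presieve.mem_comap_jointlySurjectivePrecoverage_iff _).mp hR.1
    (g (IsLocalRing.closedPoint A))
  have hy' : w y = g (IsLocalRing.closedPoint A) := hy
  haveI : IsOpenImmersion w := (hR.2 hw).1
  have hsub : Set.range g ⊆ Set.range w := by
    rintro _ ⟨z, rfl⟩
    have h1 : z ⤳ IsLocalRing.closedPoint A := IsLocalRing.specializes_closedPoint z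
    have h2 : g z ⤳ g (IsLocalRing.closedPoint A) := h1.map g.continuous
    exact h2.mem_open w.isOpenEmbedding.isOpen_range ⟨y, hy'⟩
  exact ⟨Y, w, IsOpenImmersion.lift w g hsub, hw, IsOpenImmersion.lift_fac w g hsub⟩

theorem localFor_finite_Spec [IsDomain A] (hA : Curves.IsAIC A) :
    LocalFor @IsFinite (Spec A) := by
  intro X R hR g
  let η : Spec A := (⟨⊥, Ideal.isPrime_bot⟩ : PrimeSpectrum A)
  obtain ⟨Y, w, hw, y, hy⟩ := (Presieve.mem_comap_jointlySurjectivePrecoverage_iff _).mp hR.1 (g η)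
  have hy' : w y = g η := hy
  haveI : IsFinite w := hR.2 hw
  obtain ⟨y', hy'1, -⟩ := Scheme.Pullback.exists_preimage_pullback (f := g) (g := w) η y hy'.symm
  haveI : IsAffine (pullback g w) := isAffine_of_isAffineHom (pullback.fst g w)
  let B : CommRingCat.{u} := Γ(pullback g w, ⊤)
  let e : pullback g w ≅ Spec B := (pullback g w).isoSpec
  let φ : A ⟶ B := Spec.preimage (e.inv ≫ pullback.fst g w)
  have hφ : Spec.map φ = e.inv ≫ pullback.fst g w := Spec.map_preimage _
  have hfin : φ.hom.Finite := by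
    rw [← IsFinite.SpecMap_iff, hφ]
    infer_instance
  let q : PrimeSpectrum B := e.hom y'
  have hq : q.asIdeal.comap φ.hom = ⊥ := by
    have h1 : (Spec.map φ) (e.hom y') = η := by
      rw [hφ, ← Scheme.Hom.comp_apply, Iso.hom_inv_id_assoc, hy'1]
    have h2 : ((Spec.map φ) (e.hom y')).asIdeal = (⊥ : Ideal A) := by rw [h1]
    exact h2
  haveI : q.asIdeal.IsPrime := q.2
  obtain ⟨ρ, hρ⟩ := exists_retraction φ.hom hfin.to_isIntegral hA q.asIdeal hq
  let s : Spec A ⟶ pullback g w := Spec.map (CommRingCat.ofHom ρ) ≫ e.inv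
  have hs : s ≫ pullback.fst g w = 𝟙 _ := by
    change (Spec.map (CommRingCat.ofHom ρ) ≫ e.inv) ≫ pullback.fst g w = 𝟙 _
    rw [Category.assoc, ← hφ, ← Spec.map_comp]
    have : φ ≫ CommRingCat.ofHom ρ = 𝟙 A := by
      ext a
      exact congrFun (congrArg DFunLike.coe hρ) a
    rw [this, Spec.map_id]
    rfl
  refine ⟨Y, w, s ≫ pullback.snd g w, hw, ?_⟩
  rw [Category.assoc, ← pullback.condition, ← Category.assoc, hs, Category.id_comp]

end Backward

theorem main (P : Scheme.{u}) [QuasiSeparatedSpace P] :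
    (LocalFor (@IsOpenImmersion ⊓ @QuasiCompact) P ∧ LocalFor @IsFinite P) ↔
      (IsAffine P ∧ IsLocalRing Γ(P, ⊤) ∧ IsDomain Γ(P, ⊤) ∧ Curves.IsAIC Γ(P, ⊤)) := by
  constructor
  · rintro ⟨hZ, hF⟩
    haveI : IsAffine P := isAffine_of_localFor hZ
    haveI : Nonempty P := nonempty_of_localFor hZ
    haveI : Nontrivial Γ(P, ⊤) :=
      @Scheme.component_nontrivial P ⊤ ⟨⟨Classical.arbitrary P, trivial⟩⟩
    have hZ' := hZ.of_iso P.isoSpec.symm
    have hF' := hF.of_iso P.isoSpec.symm
    haveI : IsDomain Γ(P, ⊤) := isDomain_of_localFor hF'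
    exact ⟨inferInstance, isLocalRing_of_localFor hZ', inferInstance, isAIC_of_localFor hF'⟩
  · rintro ⟨hAff, hloc, hdom, hAIC⟩
    exact ⟨(localFor_zariski_Spec (A := Γ(P, ⊤))).of_iso P.isoSpec,
      (localFor_finite_Spec (A := Γ(P, ⊤)) hAIC).of_iso P.isoSpec⟩

end Groth.Agent.Lib.Helper8.ZFL
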